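import Mathlib

/-!
helper27 library (for S4484, piece X4): if `U ^ p = 1` and a nonzero vector `w` is orthogonal to
`U ^ j w` for `0 < j < p`, then every `p`-th root of unity is an eigenvalue of `U`.
-/

set_option autoImplicit false

namespace Cfsg.Agent.Lib.H27.OrbitEigen

open scoped InnerProductSpace

variable {E : Type*} [NormedAddCommGroup E] [InnerProductSpace ℂ E]

/-- the twisted orbit sum `Σ_{j<p} ω^{-j} U^j w` -/
noncomputable def twSum (U : E →ₗ[ℂ] E) (p : ℕ) (ω : ℂ) (w : E) : E :=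
  ∑ j ∈ Finset.range p, (ω⁻¹) ^ j • (U ^ j) w

theorem apply_twSum (U : E →ₗ[ℂ] E) (p : ℕ) (hU : U ^ p = 1) (ω : ℂ) (hω : ω ^ p = 1) (w : E) :
    U (twSum U p ω w) = ω • twSum U p ω w := by
  by_cases hp : p = 0
  · subst hp
    simp [twSum]
  have hω0 : ω ≠ 0 := by
    intro h0
    rw [h0, zero_pow hp] at hω
    exact zero_ne_one hω
  unfold twSum
  rw [map_sum, Finset.smul_sum]
  have h1 : ∀ j ∈ Finset.range p, U ((ω⁻¹) ^ j • (U ^ j) w)
      = ω • ((ω⁻¹) ^ (j + 1) • (U ^ (j + 1)) w) := by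
    intro j _
    rw [map_smul, smul_smul]
    congr 1
    · rw [pow_succ, mul_comm, mul_assoc, inv_mul_cancel₀ hω0, mul_one]
    · rw [pow_succ', Module.End.mul_apply]
  rw [Finset.sum_congr rfl h1, ← Finset.smul_sum, ← Finset.smul_sum]
  congr 1
  have hs : ∑ j ∈ Finset.range p, (ω⁻¹) ^ (j + 1) • (U ^ (j + 1)) w + (ω⁻¹) ^ 0 • (U ^ 0) w
      = ∑ j ∈ Finset.range p, (ω⁻¹) ^ j • (U ^ j) w + (ω⁻¹) ^ p • (U ^ p) w := by
    rw [← Finset.sum_range_succ' (fun j => (ω⁻¹) ^ j • (U ^ j) w),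
      Finset.sum_range_succ (fun j => (ω⁻¹) ^ j • (U ^ j) w)]
  have hgp : (ω⁻¹) ^ p • (U ^ p) w = (ω⁻¹) ^ 0 • (U ^ 0) w := by
    rw [inv_pow, hω, hU, pow_zero, pow_zero]
    simp
  rw [hgp] at hs
  exact add_right_cancel hs

/-- If `U ^ p = 1` and the nonzero vector `w` is orthogonal to `U ^ j w` for `0 < j < p`, then
every `p`-th root of unity is an eigenvalue of `U`. -/
theorem hasEigenvalue_of_orth (U : E →ₗ[ℂ] E) (p : ℕ) (hp : 0 < p) (hU : U ^ p = 1) (ω : ℂ)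
    (hω : ω ^ p = 1) (w : E) (hw : w ≠ 0)
    (horth : ∀ j, 0 < j → j < p → ⟪w, (U ^ j) w⟫_ℂ = 0) : Module.End.HasEigenvalue U ω := by
  have hne : twSum U p ω w ≠ 0 := by
    intro h0
    have h1 : ⟪w, twSum U p ω w⟫_ℂ = ⟪w, w⟫_ℂ := by
      unfold twSum
      rw [inner_sum, Finset.sum_eq_single_of_mem 0 (Finset.mem_range.2 hp)]
      · simp
      · intro j hj hj0
        rw [inner_smul_right, horth j (Nat.pos_of_ne_zero hj0) (Finset.mem_range.1 hj), mul_zero]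
    rw [h0, inner_zero_right] at h1
    exact hw (inner_self_eq_zero.1 h1.symm)
  exact Module.End.hasEigenvalue_of_hasEigenvector
    ⟨Module.End.mem_eigenspace_iff.2 (apply_twSum U p hU ω hω w), hne⟩

/-- Under the same hypotheses the number of eigenvalues of `U` is at least `p`: any finite set
containing all eigenvalues of `U` has at least `p` elements. -/
theorem le_card_of_orth (U : E →ₗ[ℂ] E) (p : ℕ) (hp : 0 < p) (hU : U ^ p = 1) (w : E) (hw : w ≠ 0)
    (horth : ∀ j, 0 < j → j < p → ⟪w, (U ^ j) w⟫_ℂ = 0) (Λ : Finset ℂ)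
    (hΛ : ∀ μ : ℂ, Module.End.HasEigenvalue U μ → μ ∈ Λ) : p ≤ Λ.card := by
  classical
  have hp' : NeZero p := ⟨Nat.pos_iff_ne_zero.1 hp⟩
  have hsub : Polynomial.nthRootsFinset p (1 : ℂ) ⊆ Λ := by
    intro ω hω
    rw [Polynomial.mem_nthRootsFinset hp] at hω
    exact hΛ ω (hasEigenvalue_of_orth U p hp hU ω hω w hw horth)
  have hcard : (Polynomial.nthRootsFinset p (1 : ℂ)).card = p :=
    (Complex.isPrimitiveRoot_exp p (Nat.pos_iff_ne_zero.1 hp)).card_nthRootsFinset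
  rw [← hcard]
  exact Finset.card_le_card hsub

end Cfsg.Agent.Lib.H27.OrbitEigen
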