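import Mathlib
import Cfsg.Agent.Lib.H27.OrbitEigen

/-!
helper27 library (for S4484, part X1): the extremal core of Blichfeldt's 60-degree theorem
(lead's route, `tools/blueprints/S4484_blichfeldt60.md`, steps (MAX), (POS), (ZERO)).

* Section 1: for an isometry `T` with `T ^ m = 1` and `ε ^ m = 1` the orthogonal projection onto
  the eigenspace `ker (T - ε)` is the average `(1/m) Σ_{n<m} ε^{-n} T^n`; hence it maps every
  `T`-invariant subspace into itself.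
* Section 2: the extremal argument.
-/

set_option autoImplicit false

namespace Cfsg.Agent.Lib.H27.B60

open scoped InnerProductSpace
open Cfsg.Agent.Lib.H27.OrbitEigen

variable {E : Type*} [NormedAddCommGroup E] [InnerProductSpace ℂ E]

/-- the linear map underlying an isometry -/
abbrev lin (T : E ≃ₗᵢ[ℂ] E) : E →ₗ[ℂ] E := T.toLinearEquiv.toLinearMap

theorem lin_pow_apply (T : E ≃ₗᵢ[ℂ] E) (n : ℕ) (w : E) : ((lin T) ^ n) w = (T ^ n) w := by
  induction n with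
  | zero => simp
  | succ n ih =>
    rw [pow_succ', Module.End.mul_apply, ih, pow_succ']
    rfl

theorem lin_pow_eq_one (T : E ≃ₗᵢ[ℂ] E) (m : ℕ) (hT : T ^ m = 1) : (lin T) ^ m = 1 := by
  apply LinearMap.ext
  intro w
  rw [lin_pow_apply, hT]
  rfl

/-- the eigenspace `ker (T - ε)` -/
abbrev eig (T : E ≃ₗᵢ[ℂ] E) (ε : ℂ) : Submodule ℂ E := Module.End.eigenspace (lin T) ε

theorem mem_eig {T : E ≃ₗᵢ[ℂ] E} {ε : ℂ} {v : E} : v ∈ eig T ε ↔ T v = ε • v :=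
  Module.End.mem_eigenspace_iff

theorem pow_apply_of_mem_eig {T : E ≃ₗᵢ[ℂ] E} {ε : ℂ} {u : E} (hu : u ∈ eig T ε) (n : ℕ) :
    (T ^ n) u = ε ^ n • u := by
  induction n with
  | zero => simp
  | succ n ih =>
    rw [pow_succ', LinearIsometryEquiv.coe_mul, Function.comp_apply, ih, map_smul, mem_eig.1 hu,
      smul_smul, pow_succ]

/-- the average `(1/m) Σ_{n<m} ε^{-n} T^n w` -/
noncomputable def avg (T : E ≃ₗᵢ[ℂ] E) (m : ℕ) (ε : ℂ) (w : E) : E :=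
  ((m : ℂ)⁻¹) • twSum (lin T) m ε w

theorem avg_mem_eig (T : E ≃ₗᵢ[ℂ] E) (m : ℕ) (hT : T ^ m = 1) (ε : ℂ) (hε : ε ^ m = 1) (w : E) :
    avg T m ε w ∈ eig T ε := by
  rw [mem_eig]
  unfold avg
  rw [map_smul]
  have := apply_twSum (lin T) m (lin_pow_eq_one T m hT) ε hε w
  have h2 : T (twSum (lin T) m ε w) = ε • twSum (lin T) m ε w := this
  rw [h2, smul_comm]

theorem norm_eq_one_of_pow {ε : ℂ} {m : ℕ} (hm : 0 < m) (hε : ε ^ m = 1) : ‖ε‖ = 1 := by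
  have h1 : ‖ε‖ ^ m = 1 := by rw [← norm_pow, hε, norm_one]
  exact (pow_eq_one_iff_of_nonneg (norm_nonneg ε) (Nat.pos_iff_ne_zero.1 hm)).1 h1

theorem inner_pow_of_mem_eig {T : E ≃ₗᵢ[ℂ] E} {ε : ℂ} {m : ℕ} (hm : 0 < m) (hε : ε ^ m = 1)
    {u : E} (hu : u ∈ eig T ε) (n : ℕ) (w : E) : ⟪u, (T ^ n) w⟫_ℂ = ε ^ n * ⟪u, w⟫_ℂ := by
  have h1 : ⟪(T ^ n) u, (T ^ n) w⟫_ℂ = ⟪u, w⟫_ℂ := LinearIsometryEquiv.inner_map_map _ _ _
  rw [pow_apply_of_mem_eig hu, inner_smul_left] at h1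
  have hn : ‖ε ^ n‖ = 1 := by rw [norm_pow, norm_eq_one_of_pow hm hε, one_pow]
  have h2 : ε ^ n * (starRingEnd ℂ) (ε ^ n) = 1 := by
    rw [Complex.mul_conj, Complex.normSq_eq_norm_sq, hn]
    norm_num
  calc ⟪u, (T ^ n) w⟫_ℂ = (ε ^ n * (starRingEnd ℂ) (ε ^ n)) * ⟪u, (T ^ n) w⟫_ℂ := by
        rw [h2, one_mul]
    _ = ε ^ n * ((starRingEnd ℂ) (ε ^ n) * ⟪u, (T ^ n) w⟫_ℂ) := by ring
    _ = ε ^ n * ⟪u, w⟫_ℂ := by rw [h1]

theorem inner_avg_of_mem_eig {T : E ≃ₗᵢ[ℂ] E} {ε : ℂ} {m : ℕ} (hm : 0 < m) (hε : ε ^ m = 1)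
    {u : E} (hu : u ∈ eig T ε) (w : E) : ⟪u, avg T m ε w⟫_ℂ = ⟪u, w⟫_ℂ := by
  have hε0 : ε ≠ 0 := by
    intro h0
    rw [h0, zero_pow (Nat.pos_iff_ne_zero.1 hm)] at hε
    exact zero_ne_one hε
  unfold avg twSum
  rw [inner_smul_right, inner_sum]
  have h1 : ∀ n ∈ Finset.range m, ⟪u, (ε⁻¹) ^ n • ((lin T) ^ n) w⟫_ℂ = ⟪u, w⟫_ℂ := by
    intro n _
    rw [inner_smul_right, lin_pow_apply, inner_pow_of_mem_eig hm hε hu, ← mul_assoc, ← mul_pow,
      inv_mul_cancel₀ hε0, one_pow, one_mul]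
  rw [Finset.sum_congr rfl h1, Finset.sum_const, Finset.card_range, nsmul_eq_mul, ← mul_assoc,
    inv_mul_cancel₀ (Nat.cast_ne_zero.2 (Nat.pos_iff_ne_zero.1 hm)), one_mul]

variable [FiniteDimensional ℂ E]

/-- The orthogonal projection onto the eigenspace is the average. -/
theorem starProjection_eig (T : E ≃ₗᵢ[ℂ] E) (m : ℕ) (hm : 0 < m) (hT : T ^ m = 1) (ε : ℂ)
    (hε : ε ^ m = 1) (w : E) : (eig T ε).starProjection w = avg T m ε w := by
  apply Submodule.eq_starProjection_of_mem_of_inner_eq_zero (avg_mem_eig T m hT ε hε w)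
  intro u hu
  rw [← inner_conj_symm, inner_sub_right, inner_avg_of_mem_eig hm hε hu, sub_self, map_zero]

/-- The orthogonal projection onto the eigenspace maps a `T`-invariant subspace into itself. -/
theorem starProjection_eig_mem (T : E ≃ₗᵢ[ℂ] E) (m : ℕ) (hm : 0 < m) (hT : T ^ m = 1) (ε : ℂ)
    (hε : ε ^ m = 1) (W : Submodule ℂ E) (hW : ∀ v ∈ W, T v ∈ W) {w : E} (hw : w ∈ W) :
    (eig T ε).starProjection w ∈ W := by
  rw [starProjection_eig T m hm hT ε hε]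
  unfold avg twSum
  apply W.smul_mem
  apply W.sum_mem
  intro n _
  apply W.smul_mem
  rw [lin_pow_apply]
  have hpow : ∀ k : ℕ, (T ^ k) w ∈ W := by
    intro k
    induction k with
    | zero => simpa using hw
    | succ k ih =>
      rw [pow_succ', LinearIsometryEquiv.coe_mul, Function.comp_apply]
      exact hW _ ih
  exact hpow n


/-! ### Section 2: the extremal argument -/

/-- a unit vector maximising a continuous function on the unit sphere of a nonzero subspace -/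
theorem exists_max_on_sphere (W : Submodule ℂ E) (hW : W ≠ ⊥) (f : E → ℝ) (hf : Continuous f) :
    ∃ w₀ ∈ W, ‖w₀‖ = 1 ∧ ∀ w ∈ W, ‖w‖ = 1 → f w ≤ f w₀ := by
  have : ProperSpace E := FiniteDimensional.proper_rclike ℂ E
  have hcomp : IsCompact ((W : Set E) ∩ Metric.sphere (0 : E) 1) :=
    (isCompact_sphere (0 : E) 1).inter_left W.closed_of_finiteDimensional
  have hne : ((W : Set E) ∩ Metric.sphere (0 : E) 1).Nonempty := by
    obtain ⟨v, hv, hv0⟩ := W.exists_mem_ne_zero_of_ne_bot hW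
    refine ⟨((‖v‖⁻¹ : ℝ) : ℂ) • v, W.smul_mem _ hv, ?_⟩
    rw [mem_sphere_zero_iff_norm, norm_smul, Complex.norm_real, norm_inv, norm_norm,
      inv_mul_cancel₀ (norm_ne_zero_iff.2 hv0)]
  obtain ⟨w₀, hw₀, hmax⟩ := hcomp.exists_isMaxOn hne hf.continuousOn
  exact ⟨w₀, hw₀.1, mem_sphere_zero_iff_norm.1 hw₀.2,
    fun w hw hn => hmax ⟨hw, mem_sphere_zero_iff_norm.2 hn⟩⟩

theorem norm_inner_le_norm_starProjection (K : Submodule ℂ E) {u : E} (hu : u ∈ K) (hun : ‖u‖ = 1)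
    (w : E) : ‖⟪w, u⟫_ℂ‖ ≤ ‖K.starProjection w‖ := by
  have h1 : ⟪u, w⟫_ℂ = ⟪u, K.starProjection w⟫_ℂ := by
    rw [← Submodule.inner_starProjection_left_eq_right, Submodule.starProjection_eq_self_iff.2 hu]
  rw [← norm_inner_symm, h1]
  calc ‖⟪u, K.starProjection w⟫_ℂ‖ ≤ ‖u‖ * ‖K.starProjection w‖ := norm_inner_le_norm _ _
    _ = ‖K.starProjection w‖ := by rw [hun, one_mul]

theorem norm_starProjection_lt_one (K W : Submodule ℂ E) (hWK : W ⊓ K = ⊥) {w : E} (hw : w ∈ W)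
    (hn : ‖w‖ = 1) : ‖K.starProjection w‖ < 1 := by
  have hle : ‖K.starProjection w‖ ≤ 1 := by
    rw [← hn]; exact K.norm_starProjection_apply_le w
  rcases lt_or_eq_of_le hle with h | h
  · exact h
  · exfalso
    have h1 := Submodule.norm_sq_eq_add_norm_sq_starProjection w K
    rw [hn, h, Submodule.starProjection_orthogonal_val] at h1
    have h2 : ‖w - K.starProjection w‖ = 0 := by
      have : ‖w - K.starProjection w‖ ^ 2 = 0 := by linarith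
      exact pow_eq_zero_iff (by norm_num) |>.1 this
    have h3 : K.starProjection w = w := by
      rw [norm_eq_zero, sub_eq_zero] at h2
      exact h2.symm
    have h4 : w ∈ W ⊓ K := ⟨hw, Submodule.starProjection_eq_self_iff.1 h3⟩
    rw [hWK, Submodule.mem_bot] at h4
    rw [h4, norm_zero] at hn
    exact zero_ne_one hn

variable {G : Type*} [Finite G]

/-- **(MAX) + (POS)**: every atom is contained in or orthogonal to every eigenspace `F g`. -/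
theorem atoms_le_or_orth
    (atoms : Set (Submodule ℂ E)) (hfin : atoms.Finite) (hne : ∀ W ∈ atoms, W ≠ ⊥)
    (T : G → (E ≃ₗᵢ[ℂ] E)) (m : ℕ) (hm : 0 < m) (hT : ∀ g, T g ^ m = 1) (ε : ℂ) (hε : ε ^ m = 1)
    (hi : ∀ W ∈ atoms, ∀ g, W ≤ eig (T g) ε ∨ W ⊓ eig (T g) ε = ⊥)
    (hii : ∀ W ∈ atoms, ∀ V : Submodule ℂ E,
      (∀ g, W ≤ eig (T g) ε → V ≤ eig (T g) ε) → V ≤ W)
    (hiii : ∀ W ∈ atoms, ∀ W' ∈ atoms, W ≤ W' → W = W')
    (hiv : ∀ W ∈ atoms, ∀ g, W.map (lin (T g)) ∈ atoms)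
    (hKI : ∀ g (w : E), ‖w‖ = 1 → ‖(eig (T g) ε).starProjection w‖ < 1 →
      ‖(eig (T g) ε).starProjection w‖ < ‖⟪w, T g w⟫_ℂ‖) :
    ∀ W ∈ atoms, ∀ g, W ≤ eig (T g) ε ∨ W ≤ (eig (T g) ε)ᗮ := by
  classical
  have hFG : Fintype G := Fintype.ofFinite G
  have hFA : Fintype ↥atoms := hfin.fintype
  by_contra hcon
  push Not at hcon
  obtain ⟨Wb, hWb, gb, hb1, hb2⟩ := hcon
  -- maximisers on the unit spheres
  have hmaxer : ∀ q : ↥atoms × G, ∃ w₀ ∈ (q.1 : Submodule ℂ E), ‖w₀‖ = 1 ∧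
      ∀ w ∈ (q.1 : Submodule ℂ E), ‖w‖ = 1 →
        ‖(eig (T q.2) ε).starProjection w‖ ≤ ‖(eig (T q.2) ε).starProjection w₀‖ :=
    fun q => exists_max_on_sphere q.1.1 (hne _ q.1.2)
      (fun w => ‖(eig (T q.2) ε).starProjection w‖)
      ((eig (T q.2) ε).starProjection.continuous.norm)
  choose w₀ hw₀mem hw₀norm hw₀max using hmaxer
  let A : Finset (↥atoms × G) :=
    Finset.univ.filter (fun q => (q.1 : Submodule ℂ E) ⊓ eig (T q.2) ε = ⊥)
  have hbA : ((⟨Wb, hWb⟩ : ↥atoms), gb) ∈ A := by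
    rw [Finset.mem_filter]
    exact ⟨Finset.mem_univ _, (hi Wb hWb gb).resolve_left hb1⟩
  obtain ⟨q, hqA, hqmax⟩ := Finset.exists_max_image A
    (fun q => ‖(eig (T q.2) ε).starProjection (w₀ q)‖) ⟨_, hbA⟩
  have hWat : (q.1 : Submodule ℂ E) ∈ atoms := q.1.2
  have hWg : (q.1 : Submodule ℂ E) ⊓ eig (T q.2) ε = ⊥ := (Finset.mem_filter.1 hqA).2
  -- the maximum is positive
  have ha_pos : 0 < ‖(eig (T q.2) ε).starProjection (w₀ q)‖ := by
    obtain ⟨wb, hwb, hwb'⟩ := Set.not_subset.1 hb2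
    have hPne : (eig (T gb) ε).starProjection wb ≠ 0 := fun h0 =>
      hwb' ((Submodule.starProjection_apply_eq_zero_iff _).1 h0)
    have hwb0 : wb ≠ 0 := by
      intro h0
      rw [h0, map_zero] at hPne
      exact hPne rfl
    have hu1 : ‖(((‖wb‖⁻¹ : ℝ) : ℂ)) • wb‖ = 1 := by
      rw [norm_smul, Complex.norm_real, norm_inv, norm_norm,
        inv_mul_cancel₀ (norm_ne_zero_iff.2 hwb0)]
    have hu2 : 0 < ‖(eig (T gb) ε).starProjection ((((‖wb‖⁻¹ : ℝ) : ℂ)) • wb)‖ := by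
      rw [map_smul, norm_smul, Complex.norm_real, norm_inv, norm_norm]
      exact mul_pos (inv_pos.2 (norm_pos_iff.2 hwb0)) (norm_pos_iff.2 hPne)
    have h1 := hw₀max ((⟨Wb, hWb⟩ : ↥atoms), gb) _ (Wb.smul_mem _ hwb) hu1
    have h2 := hqmax _ hbA
    exact lt_of_lt_of_le hu2 (le_trans h1 h2)
  -- the maximum is less than one
  have ha_lt : ‖(eig (T q.2) ε).starProjection (w₀ q)‖ < 1 :=
    norm_starProjection_lt_one _ _ hWg (hw₀mem q) (hw₀norm q)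
  have hki := hKI q.2 (w₀ q) (hw₀norm q) ha_lt
  -- the image atom
  have hW' : (q.1 : Submodule ℂ E).map (lin (T q.2)) ∈ atoms := hiv _ hWat q.2
  have hTw : T q.2 (w₀ q) ∈ (q.1 : Submodule ℂ E).map (lin (T q.2)) :=
    Submodule.mem_map_of_mem (f := lin (T q.2)) (hw₀mem q)
  have hTwn : ‖T q.2 (w₀ q)‖ = 1 := by
    rw [LinearIsometryEquiv.norm_map, hw₀norm q]
  have hclaim : ∀ h, (q.1 : Submodule ℂ E).map (lin (T q.2)) ≤ eig (T h) ε →
      (q.1 : Submodule ℂ E) ≤ eig (T h) ε := by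
    intro h hW'h
    rcases hi _ hWat h with h1 | h1
    · exact h1
    · exfalso
      have hq'A : (q.1, h) ∈ A := by
        rw [Finset.mem_filter]
        exact ⟨Finset.mem_univ _, h1⟩
      have e1 := hqmax _ hq'A
      have e2 := hw₀max (q.1, h) (w₀ q) (hw₀mem q) (hw₀norm q)
      have e3 := norm_inner_le_norm_starProjection (eig (T h) ε) (hW'h hTw) hTwn (w₀ q)
      have e4 : ‖⟪w₀ q, T q.2 (w₀ q)⟫_ℂ‖ ≤ ‖(eig (T q.2) ε).starProjection (w₀ q)‖ :=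
        le_trans e3 (le_trans e2 e1)
      exact absurd hki (not_lt.2 e4)
  have hle : (q.1 : Submodule ℂ E) ≤ (q.1 : Submodule ℂ E).map (lin (T q.2)) :=
    hii _ hW' _ hclaim
  have heq : (q.1 : Submodule ℂ E) = (q.1 : Submodule ℂ E).map (lin (T q.2)) :=
    hiii _ hWat _ hW' hle
  have hinv : ∀ v ∈ (q.1 : Submodule ℂ E), T q.2 v ∈ (q.1 : Submodule ℂ E) := by
    intro v hv
    rw [heq]
    exact Submodule.mem_map_of_mem (f := lin (T q.2)) hv
  have hPW := starProjection_eig_mem (T q.2) m hm (hT q.2) ε hε _ hinv (hw₀mem q)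
  have hPF := Submodule.starProjection_apply_mem (eig (T q.2) ε) (w₀ q)
  have hbot : (eig (T q.2) ε).starProjection (w₀ q) ∈ (q.1 : Submodule ℂ E) ⊓ eig (T q.2) ε :=
    ⟨hPW, hPF⟩
  rw [hWg, Submodule.mem_bot] at hbot
  rw [hbot, norm_zero] at ha_pos
  exact lt_irrefl _ ha_pos

/-- **(ZERO)**: distinct atoms are orthogonal. -/
theorem atoms_pairwise_orth
    (atoms : Set (Submodule ℂ E)) (hfin : atoms.Finite) (hne : ∀ W ∈ atoms, W ≠ ⊥)
    (T : G → (E ≃ₗᵢ[ℂ] E)) (m : ℕ) (hm : 0 < m) (hT : ∀ g, T g ^ m = 1) (ε : ℂ) (hε : ε ^ m = 1)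
    (hi : ∀ W ∈ atoms, ∀ g, W ≤ eig (T g) ε ∨ W ⊓ eig (T g) ε = ⊥)
    (hii : ∀ W ∈ atoms, ∀ V : Submodule ℂ E,
      (∀ g, W ≤ eig (T g) ε → V ≤ eig (T g) ε) → V ≤ W)
    (hiii : ∀ W ∈ atoms, ∀ W' ∈ atoms, W ≤ W' → W = W')
    (hiv : ∀ W ∈ atoms, ∀ g, W.map (lin (T g)) ∈ atoms)
    (hKI : ∀ g (w : E), ‖w‖ = 1 → ‖(eig (T g) ε).starProjection w‖ < 1 →
      ‖(eig (T g) ε).starProjection w‖ < ‖⟪w, T g w⟫_ℂ‖) :
    ∀ W ∈ atoms, ∀ W' ∈ atoms, W ≠ W' → W ≤ W'ᗮ := by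
  intro W hW W' hW' hne'
  by_contra hno
  have hz := atoms_le_or_orth atoms hfin hne T m hm hT ε hε hi hii hiii hiv hKI
  have hall : ∀ g, W ≤ eig (T g) ε → W' ≤ eig (T g) ε := by
    intro g hWg
    rcases hz W' hW' g with h | h
    · exact h
    · exfalso
      apply hno
      intro w hw
      rw [Submodule.mem_orthogonal]
      intro u hu
      have := (Submodule.mem_orthogonal _ _).1 (h hu) w (hWg hw)
      exact inner_eq_zero_symm.1 this
  have hle : W' ≤ W := hii W hW W' hall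
  exact hne' (hiii W' hW' W hW hle).symm

end Cfsg.Agent.Lib.H27.B60
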