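import Mathlib
import Cfsg.Prelude.Def_Transfer
import Cfsg.Agent.Lib.H1.PGroupBasic

/-!
helper27 library: recognising extraspecial groups; extraspecial subgroups of an ambient group.
-/

set_option autoImplicit false

namespace Cfsg.Agent.Lib.H27

open Cfsg
open scoped commutatorElement

/-- Criterion: a finite `p`-group whose derived subgroup is the centre, of order `p`, and all of
whose `p`-th powers are central, is extraspecial. -/
theorem isExtraspecial_of_center {R : Type*} [Group R] [Finite R] (p : ℕ) [Fact p.Prime]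
    (hp : IsPGroup p R) (hcard : Nat.card (Subgroup.center R) = p)
    (hcomm : commutator R = Subgroup.center R) (hpow : ∀ x : R, x ^ p ∈ Subgroup.center R) :
    IsExtraspecial p R := by
  refine ⟨⟨hp, ?_, hcomm⟩, hcard⟩
  apply le_antisymm
  · exact Cfsg.Agent.Lib.H1.frattini_le_of_commutator_le_of_pow_mem _ hcomm.le hpow
  · rw [← hcomm]
    exact Cfsg.Agent.Lib.H1.isPGroup_commutator_le_frattini hp

section ambient
variable {G : Type*} [Group G]

/-- The centre of a subgroup, as a subgroup of the ambient group. -/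
theorem map_center_eq (H : Subgroup G) :
    (Subgroup.center H).map H.subtype = H ⊓ Subgroup.centralizer (H : Set G) := by
  ext x
  constructor
  · rintro ⟨y, hy, rfl⟩
    rw [SetLike.mem_coe, Subgroup.mem_center_iff] at hy
    refine Subgroup.mem_inf.mpr ⟨y.2, ?_⟩
    rw [Subgroup.mem_centralizer_iff]
    intro h hh
    exact congrArg Subtype.val (hy ⟨h, hh⟩)
  · intro hx
    obtain ⟨hxH, hxC⟩ := Subgroup.mem_inf.mp hx
    rw [Subgroup.mem_centralizer_iff] at hxC
    refine ⟨⟨x, hxH⟩, ?_, rfl⟩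
    rw [SetLike.mem_coe, Subgroup.mem_center_iff]
    intro g
    exact Subtype.ext (hxC g g.2)

theorem center_eq_subgroupOf (H Z : Subgroup G)
    (hZ : H ⊓ Subgroup.centralizer (H : Set G) = Z) : Subgroup.center H = Z.subgroupOf H := by
  ext x
  rw [Subgroup.mem_subgroupOf, ← hZ, ← map_center_eq]
  constructor
  · intro hx; exact ⟨x, hx, rfl⟩
  · rintro ⟨y, hy, hyx⟩
    have : y = x := Subtype.ext hyx
    rw [← this]; exact hy

theorem commutator_eq_subgroupOf (H Z : Subgroup G) (hZ : ⁅H, H⁆ = Z) :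
    commutator H = Z.subgroupOf H := by
  ext x
  rw [Subgroup.mem_subgroupOf, ← hZ, ← Subgroup.map_subtype_commutator]
  constructor
  · intro hx; exact ⟨x, hx, rfl⟩
  · rintro ⟨y, hy, hyx⟩
    have : y = x := Subtype.ext hyx
    rw [← this]; exact hy

/-- Recognising an extraspecial subgroup of an ambient group. -/
theorem isExtraspecial_subgroup [Finite G] (p : ℕ) [Fact p.Prime] (H Z : Subgroup G)
    (hp : IsPGroup p H) (hZH : Z ≤ H) (hcard : Nat.card Z = p)
    (hcen : H ⊓ Subgroup.centralizer (H : Set G) = Z) (hcomm : ⁅H, H⁆ = Z)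
    (hpow : ∀ x ∈ H, x ^ p ∈ Z) : IsExtraspecial p H := by
  have h1 := center_eq_subgroupOf H Z hcen
  have h2 := commutator_eq_subgroupOf H Z hcomm
  apply isExtraspecial_of_center p hp
  · rw [h1, Nat.card_congr (Subgroup.subgroupOfEquivOfLe hZH).toEquiv, hcard]
  · rw [h1, h2]
  · intro x
    rw [h1, Subgroup.mem_subgroupOf]
    have := hpow x x.2
    simpa using this

/-- Data of an extraspecial subgroup `Q` of `G`, in terms of `Z = Z(Q)` as a subgroup of `G`. -/
theorem extraspecial_data [Finite G] (p : ℕ) [Fact p.Prime] (Q : Subgroup G)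
    (hQ : IsExtraspecial p Q) :
    IsPGroup p Q ∧ (Subgroup.center Q).map Q.subtype ≤ Q ∧
    Nat.card ((Subgroup.center Q).map Q.subtype : Subgroup G) = p ∧
    Q ⊓ Subgroup.centralizer (Q : Set G) = (Subgroup.center Q).map Q.subtype ∧
    ⁅Q, Q⁆ = (Subgroup.center Q).map Q.subtype ∧
    ∀ x ∈ Q, x ^ p ∈ (Subgroup.center Q).map Q.subtype := by
  obtain ⟨⟨hp, hfr, hcomm⟩, hcard⟩ := hQ
  refine ⟨hp, Subgroup.map_subtype_le _, ?_, (map_center_eq Q).symm, ?_, ?_⟩
  · rw [Subgroup.card_map_of_injective Q.subtype_injective, hcard]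
  · rw [← Subgroup.map_subtype_commutator, hcomm]
  · intro x hx
    have h1 := Cfsg.Agent.Lib.H1.isPGroup_pow_mem_frattini hp (⟨x, hx⟩ : Q)
    rw [hfr] at h1
    exact ⟨_, h1, by simp⟩

end ambient

end Cfsg.Agent.Lib.H27
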