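import Mathlib
import Cfsg.Prelude.Def_Sporadic_a

/-!
# S0406 (characterisation of the Leech lattice): definitions (helper27, architect)

`LeechLike Λ`: an additive subgroup `Λ` of `ℤ^24` (coordinates w.r.t. a frame of 24 mutually orthogonal
norm-8 vectors, norms multiplied by 8) which is even, has no roots, contains `8 e_i` and `4 e_i + 4 e_j`
and whose vectors have coordinates of constant parity.  `codeOf Λ`: the binary code of the halves of the
even vectors modulo 2.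
-/

set_option autoImplicit false

namespace Cfsg.Agent.Lib.H27.LC

/-- sum of squares of the coordinates -/
def nrm (c : Fin 24 → ℤ) : ℤ := ∑ i, c i ^ 2

/-- the hypotheses on the coordinate lattice -/
structure LeechLike (Λ : AddSubgroup (Fin 24 → ℤ)) : Prop where
  h16 : ∀ c ∈ Λ, (16 : ℤ) ∣ nrm c
  h32 : ∀ c ∈ Λ, c ≠ 0 → 32 ≤ nrm c
  h8 : ∀ i : Fin 24, (Pi.single i 8 : Fin 24 → ℤ) ∈ Λ
  h4 : ∀ i j : Fin 24, i ≠ j → (Pi.single i 4 + Pi.single j 4 : Fin 24 → ℤ) ∈ Λ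
  hpar : ∀ c ∈ Λ, ∀ i j : Fin 24, (2 : ℤ) ∣ c i - c j

/-- the binary code attached to `Λ`: halves of the even vectors, modulo 2 -/
def codeOf (Λ : AddSubgroup (Fin 24 → ℤ)) : Submodule (ZMod 2) (Fin 24 → ZMod 2) where
  carrier := {w | ∃ d : Fin 24 → ℤ, (fun i => 2 * d i) ∈ Λ ∧ ∀ i, ((d i : ℤ) : ZMod 2) = w i}
  zero_mem' := by
    refine ⟨0, ?_, fun i => by simp⟩
    have e : (fun i : Fin 24 => 2 * (0 : Fin 24 → ℤ) i) = 0 := by funext i; simp
    rw [e]; exact Λ.zero_mem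
  add_mem' := by
    rintro v w ⟨d, hd, hdv⟩ ⟨d', hd', hdw⟩
    refine ⟨d + d', ?_, fun i => ?_⟩
    · have := Λ.add_mem hd hd'
      have e : (fun i => 2 * (d + d') i) = (fun i => 2 * d i) + (fun i => 2 * d' i) := by
        funext i; simp [mul_add]
      rw [e]; exact this
    · simp [hdv i, hdw i]
  smul_mem' := by
    rintro a w ⟨d, hd, hdw⟩
    have ha : a = 0 ∨ a = 1 := by
      fin_cases a
      · left; rfl
      · right; rfl
    rcases ha with rfl | rfl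
    · refine ⟨0, ?_, fun i => by simp⟩
      have e : (fun i : Fin 24 => 2 * (0 : Fin 24 → ℤ) i) = 0 := by funext i; simp
      rw [e]; exact Λ.zero_mem
    · exact ⟨d, hd, fun i => by simp [hdw i]⟩

theorem mem_codeOf {Λ : AddSubgroup (Fin 24 → ℤ)} {w : Fin 24 → ZMod 2} :
    w ∈ codeOf Λ ↔ ∃ d : Fin 24 → ℤ, (fun i => 2 * d i) ∈ Λ ∧ ∀ i, ((d i : ℤ) : ZMod 2) = w i :=
  Iff.rfl

/-- the sign change / coordinate permutation used to transport `Λ` to `GolayPt → ℤ` -/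
def tr (e : Fin 24 ≃ Cfsg.GolayPt) (s : Fin 24 → ℤ) (c : Fin 24 → ℤ) : Cfsg.GolayPt → ℤ :=
  fun p => s (e.symm p) * c (e.symm p)

/-- the sign vector normalising an odd vector `c₀` to `≡ 1 (mod 4)` -/
def sgn (c₀ : Fin 24 → ℤ) : Fin 24 → ℤ := fun i => if c₀ i % 4 = 1 then 1 else -1

theorem sgn_eq (c₀ : Fin 24 → ℤ) (i : Fin 24) : sgn c₀ i = 1 ∨ sgn c₀ i = -1 := by
  unfold sgn; split_ifs <;> simp

theorem sgn_mul_self (c₀ : Fin 24 → ℤ) (i : Fin 24) : sgn c₀ i * sgn c₀ i = 1 := by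
  rcases sgn_eq c₀ i with h | h <;> rw [h] <;> norm_num

theorem tr_apply (e : Fin 24 ≃ Cfsg.GolayPt) (s c : Fin 24 → ℤ) (p : Cfsg.GolayPt) :
    tr e s c p = s (e.symm p) * c (e.symm p) := rfl

theorem tr_add (e : Fin 24 ≃ Cfsg.GolayPt) (s c d : Fin 24 → ℤ) :
    tr e s (c + d) = tr e s c + tr e s d := by
  funext p; simp [tr_apply, mul_add]

theorem tr_zero (e : Fin 24 ≃ Cfsg.GolayPt) (s : Fin 24 → ℤ) : tr e s 0 = 0 := by
  funext p; simp [tr_apply]

theorem tr_neg (e : Fin 24 ≃ Cfsg.GolayPt) (s c : Fin 24 → ℤ) : tr e s (-c) = - tr e s c := by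
  funext p; simp [tr_apply]

theorem tr_injective (e : Fin 24 ≃ Cfsg.GolayPt) (s : Fin 24 → ℤ) (hs : ∀ i, s i = 1 ∨ s i = -1) :
    Function.Injective (tr e s) := by
  intro c d h
  funext i
  have := congrFun h (e i)
  simp only [tr_apply, Equiv.symm_apply_apply] at this
  rcases hs i with h1 | h1 <;> rw [h1] at this <;> linarith

theorem sqNorm_tr (e : Fin 24 ≃ Cfsg.GolayPt) (s : Fin 24 → ℤ) (hs : ∀ i, s i = 1 ∨ s i = -1)
    (c : Fin 24 → ℤ) : Cfsg.sqNorm (tr e s c) = nrm c := by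
  unfold Cfsg.sqNorm nrm
  rw [← Equiv.sum_comp e]
  refine Finset.sum_congr rfl fun i _ => ?_
  simp only [tr_apply, Equiv.symm_apply_apply]
  rcases hs i with h1 | h1 <;> rw [h1] <;> ring

/-! ### basic facts on `nrm` -/

theorem nrm_add (c d : Fin 24 → ℤ) : nrm (c + d) = nrm c + nrm d + 2 * ∑ i, c i * d i := by
  unfold nrm
  rw [Finset.mul_sum, ← Finset.sum_add_distrib, ← Finset.sum_add_distrib]
  refine Finset.sum_congr rfl fun i _ => ?_
  simp only [Pi.add_apply]; ring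

theorem nrm_neg (c : Fin 24 → ℤ) : nrm (-c) = nrm c := by
  unfold nrm
  refine Finset.sum_congr rfl fun i _ => ?_
  simp only [Pi.neg_apply]; ring

theorem nrm_sub (c d : Fin 24 → ℤ) : nrm (c - d) = nrm c + nrm d - 2 * ∑ i, c i * d i := by
  unfold nrm
  rw [Finset.mul_sum, ← Finset.sum_add_distrib, ← Finset.sum_sub_distrib]
  refine Finset.sum_congr rfl fun i _ => ?_
  simp only [Pi.sub_apply]; ring

theorem nrm_nonneg (c : Fin 24 → ℤ) : 0 ≤ nrm c :=
  Finset.sum_nonneg fun i _ => sq_nonneg (c i)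

theorem sq_le_nrm (c : Fin 24 → ℤ) (i : Fin 24) : c i ^ 2 ≤ nrm c :=
  Finset.single_le_sum (f := fun i => c i ^ 2) (fun j _ => sq_nonneg (c j)) (Finset.mem_univ i)

theorem nrm_eq_zero {c : Fin 24 → ℤ} (h : nrm c = 0) : c = 0 := by
  funext i
  have h1 := sq_le_nrm c i
  rw [h] at h1
  have h2 := sq_nonneg (c i)
  have : c i ^ 2 = 0 := le_antisymm h1 h2
  simpa using this

theorem finite_nrm_le (N : ℤ) : {c : Fin 24 → ℤ | nrm c ≤ N}.Finite := by
  refine (Set.finite_Icc (fun _ : Fin 24 => -N) (fun _ => N)).subset ?_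
  intro c hc
  have hc' : nrm c ≤ N := hc
  rw [Set.mem_Icc]
  have key : ∀ i, -N ≤ c i ∧ c i ≤ N := by
    intro i
    have h1 := sq_le_nrm c i
    have h2 : c i ^ 2 ≤ N := le_trans h1 hc'
    constructor <;> nlinarith [sq_nonneg (c i), sq_nonneg (c i - 1), sq_nonneg (c i + 1)]
  exact ⟨fun i => (key i).1, fun i => (key i).2⟩

theorem finite_nrm_eq (N : ℤ) : {c : Fin 24 → ℤ | nrm c = N}.Finite :=
  (finite_nrm_le N).subset fun _ hc => le_of_eq hc

end Cfsg.Agent.Lib.H27.LC
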