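import Mathlib

/-!
helper27 library: a generic, kernel-friendly way to count integer vectors `x : ι → ℤ` whose
coordinates lie in prescribed finite lists of values, with prescribed coordinate sum modulo 8
and prescribed sum of squares.  The count is a recursively defined function `cnt`; explicit
values of `cnt` are obtained through a chain of small certificates (`step_ok`).
-/

set_option autoImplicit false

namespace Cfsg.Agent.Lib.H27

open Finset

section Generic

variable {L : Type*} (V : L → List ℤ)

/-- Vectors with `x i ∈ V (a i)`, coordinate sum `≡ r (mod 8)`, sum of squares `N`. -/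
def Sol {ι : Type*} [Fintype ι] (a : ι → L) (r N : ℤ) : Set (ι → ℤ) :=
  {x | (∀ i, x i ∈ V (a i)) ∧ (∑ i, x i ≡ r [ZMOD 8]) ∧ ∑ i, x i ^ 2 = N}

/-- The counting function. -/
def cnt : List L → ℤ → ℤ → ℕ
  | [], r, N => if r % 8 = 0 ∧ N = 0 then 1 else 0
  | a :: l, r, N => ((V a).map fun v => cnt l (r - v) (N - v ^ 2)).sum

theorem cnt_nil (r N : ℤ) : cnt V [] r N = if r % 8 = 0 ∧ N = 0 then 1 else 0 := rfl

theorem cnt_cons (a : L) (l : List L) (r N : ℤ) :
    cnt V (a :: l) r N = ((V a).map fun v => cnt V l (r - v) (N - v ^ 2)).sum := rfl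

theorem cnt_neg (l : List L) (r N : ℤ) (hN : N < 0) : cnt V l r N = 0 := by
  induction l generalizing r N with
  | nil =>
    rw [cnt_nil, if_neg]
    rintro ⟨_, h⟩; omega
  | cons a l ih =>
    rw [cnt_cons]
    apply List.sum_eq_zero
    intro n hn
    rw [List.mem_map] at hn
    obtain ⟨v, _, rfl⟩ := hn
    apply ih
    have := sq_nonneg v
    omega

theorem cnt_mod (l : List L) (r N : ℤ) : cnt V l (r % 8) N = cnt V l r N := by
  induction l generalizing r N with
  | nil =>
    rw [cnt_nil, cnt_nil, Int.emod_emod_of_dvd _ (dvd_refl _)]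
  | cons a l ih =>
    rw [cnt_cons, cnt_cons]
    congr 1
    apply List.map_congr_left
    intro v _
    rw [← ih (r % 8 - v), ← ih (r - v)]
    congr 1
    omega

theorem encard_iUnion_list {α β : Type*} (l : List β) (hl : l.Nodup) (f : β → Set α)
    (hd : ∀ b ∈ l, ∀ b' ∈ l, b ≠ b' → Disjoint (f b) (f b')) :
    (⋃ b ∈ l, f b).encard = (l.map fun b => (f b).encard).sum := by
  induction l with
  | nil => simp
  | cons x l ih =>
    have hx : x ∉ l := (List.nodup_cons.1 hl).1
    have hl' : l.Nodup := (List.nodup_cons.1 hl).2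
    have hU : (⋃ b ∈ x :: l, f b) = f x ∪ ⋃ b ∈ l, f b := by
      ext y
      simp only [List.mem_cons, Set.mem_iUnion, Set.mem_union, exists_prop]
      constructor
      · rintro ⟨b, rfl | hb, hy⟩
        · exact Or.inl hy
        · exact Or.inr ⟨b, hb, hy⟩
      · rintro (hy | ⟨b, hb, hy⟩)
        · exact ⟨x, Or.inl rfl, hy⟩
        · exact ⟨b, Or.inr hb, hy⟩
    rw [hU, Set.encard_union_eq, List.map_cons, List.sum_cons, ih hl']
    · intro b hb b' hb' hne
      exact hd b (List.mem_cons_of_mem _ hb) b' (List.mem_cons_of_mem _ hb') hne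
    · rw [Set.disjoint_iUnion₂_right]
      intro b hb
      apply hd x (List.mem_cons_self) b (List.mem_cons_of_mem _ hb)
      rintro rfl
      exact hx hb

theorem Sol_succ {n : ℕ} (a : Fin (n + 1) → L) (r N : ℤ) :
    Sol V a r N = ⋃ v ∈ V (a 0), (fun y : Fin n → ℤ => (Fin.cons v y : Fin (n + 1) → ℤ)) ''
      Sol V (fun i => a i.succ) (r - v) (N - v ^ 2) := by
  ext x
  simp only [Sol, Set.mem_ofPred_eq, Set.mem_iUnion, Set.mem_image, exists_prop]
  constructor
  · rintro ⟨h1, h2, h3⟩
    refine ⟨x 0, h1 0, Fin.tail x, ⟨fun i => h1 i.succ, ?_, ?_⟩, Fin.cons_self_tail x⟩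
    · rw [Fin.sum_univ_succ] at h2
      unfold Fin.tail
      unfold Int.ModEq at *
      omega
    · rw [Fin.sum_univ_succ] at h3
      unfold Fin.tail
      omega
  · rintro ⟨v, hv, y, ⟨h1, h2, h3⟩, rfl⟩
    refine ⟨?_, ?_, ?_⟩
    · intro i
      refine Fin.cases ?_ (fun j => ?_) i
      · simpa using hv
      · simpa using h1 j
    · rw [Fin.sum_univ_succ]
      simp only [Fin.cons_zero, Fin.cons_succ]
      unfold Int.ModEq at *
      omega
    · rw [Fin.sum_univ_succ]
      simp only [Fin.cons_zero, Fin.cons_succ]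
      omega

/-- The count of solutions is given by `cnt`. -/
theorem encard_Sol (hV : ∀ a, (V a).Nodup) (n : ℕ) (a : Fin n → L) (r N : ℤ) :
    (Sol V a r N).encard = cnt V (List.ofFn a) r N := by
  induction n generalizing r N with
  | zero =>
    rw [List.ofFn_zero, cnt_nil]
    by_cases h : r % 8 = 0 ∧ N = 0
    · rw [if_pos h]
      have : Sol V a r N = {fun _ => 0} := by
        ext x
        simp only [Sol, Set.mem_ofPred_eq, Finset.univ_eq_empty, Finset.sum_empty,
          Set.mem_singleton_iff]
        constructor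
        · intro _; exact Subsingleton.elim _ _
        · intro _
          refine ⟨fun i => i.elim0, ?_, h.2.symm⟩
          unfold Int.ModEq; omega
      rw [this, Set.encard_singleton]; rfl
    · rw [if_neg h]
      have : Sol V a r N = ∅ := by
        ext x
        simp only [Sol, Set.mem_ofPred_eq, Finset.univ_eq_empty, Finset.sum_empty,
          Set.mem_empty_iff_false, iff_false]
        rintro ⟨_, h2, h3⟩
        apply h
        unfold Int.ModEq at h2
        omega
      rw [this, Set.encard_empty]; rfl
  | succ n ih =>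
    rw [List.ofFn_succ, cnt_cons, Sol_succ, encard_iUnion_list _ (hV _)]
    · rw [Nat.cast_list_sum, List.map_map]
      congr 1
      apply List.map_congr_left
      intro v _
      have hinj : Function.Injective (fun y : Fin n → ℤ => (Fin.cons v y : Fin (n + 1) → ℤ)) :=
        Fin.cons_right_injective (α := fun _ => ℤ) v
      rw [Function.comp_apply, hinj.encard_image, ih]
    · intro v _ v' _ hne
      rw [Set.disjoint_left]
      rintro x ⟨y, _, rfl⟩ ⟨y', _, h⟩
      apply hne
      have := congrFun h 0
      simpa using this.symm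

/-- Reindexing along an equivalence. -/
theorem encard_Sol_comp {ι ι' : Type*} [Fintype ι] [Fintype ι'] (e : ι ≃ ι') (a : ι' → L)
    (r N : ℤ) : (Sol V (a ∘ e) r N).encard = (Sol V a r N).encard := by
  have hinj : Function.Injective (fun x : ι' → ℤ => x ∘ e) := by
    intro x y h
    funext i
    have := congrFun h (e.symm i)
    simpa using this
  have : Sol V (a ∘ e) r N = (fun x : ι' → ℤ => x ∘ e) '' Sol V a r N := by
    ext x
    simp only [Sol, Set.mem_ofPred_eq, Set.mem_image, Function.comp_apply]
    constructor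
    · rintro ⟨h1, h2, h3⟩
      refine ⟨x ∘ e.symm, ⟨fun i => ?_, ?_, ?_⟩, ?_⟩
      · have := h1 (e.symm i)
        simpa using this
      · rw [← Equiv.sum_comp e.symm] at h2
        exact h2
      · rw [← Equiv.sum_comp e.symm] at h3
        exact h3
      · funext i; simp
    · rintro ⟨y, ⟨h1, h2, h3⟩, rfl⟩
      refine ⟨fun i => h1 (e i), ?_, ?_⟩
      · simp only [Function.comp_apply]
        rw [Equiv.sum_comp e (fun i => y i)]
        exact h2
      · simp only [Function.comp_apply]
        rw [Equiv.sum_comp e (fun i => y i ^ 2)]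
        exact h3
  rw [this, hinj.encard_image]

end Generic

end Cfsg.Agent.Lib.H27
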