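import Mathlib
import Cfsg.Agent.Lib.H27.CountDP

/-!
helper27 library: table certificates for the counting function `cnt` of `CountDP`.
-/

set_option autoImplicit false

namespace Cfsg.Agent.Lib.H27

/-- Lookup in a sparse table of `(residue, norm, count)` entries (missing entries count 0). -/
def look (T : List (ℤ × ℤ × ℕ)) (r N : ℤ) : ℕ :=
  ((T.filter fun e => e.1 = r ∧ e.2.1 = N).map fun e => e.2.2).sum

section
variable {L : Type*} (V : L → List ℤ)

/-- `T` tabulates `cnt V l` for norms in `[0, 64]`. -/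
def IsTab (l : List L) (T : List (ℤ × ℤ × ℕ)) : Prop :=
  ∀ r N : ℤ, 0 ≤ N → N ≤ 64 → cnt V l r N = look T (r % 8) N

theorem isTab_nil : IsTab V [] [(0, 0, 1)] := by
  intro r N h0 h64
  rw [cnt_nil]
  unfold look
  by_cases h : r % 8 = 0 ∧ N = 0
  · rw [if_pos h]
    obtain ⟨h1, h2⟩ := h
    rw [h1, h2]
    rfl
  · rw [if_neg h]
    rw [List.filter_cons_of_neg]
    · rfl
    · simpa using fun h1 h2 => h ⟨h1.symm, h2.symm⟩

/-- The certificate checked by the kernel for one step. -/
def certOK (Va : List ℤ) (T T' : List (ℤ × ℤ × ℕ)) : Bool :=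
  (List.range 8).all fun r => (List.range 65).all fun N =>
    ((Va.map fun v => if v ^ 2 ≤ (N : ℤ) then look T (((r : ℤ) - v) % 8) ((N : ℤ) - v ^ 2) else 0).sum
      == look T' (r : ℤ) (N : ℤ))

theorem step_ok (a : L) (l : List L) (T T' : List (ℤ × ℤ × ℕ)) (h : IsTab V l T)
    (hcert : certOK (V a) T T' = true) : IsTab V (a :: l) T' := by
  intro r N h0 h64
  rw [cnt_cons]
  have hr0 : 0 ≤ r % 8 := Int.emod_nonneg _ (by norm_num)
  have hr8 : r % 8 < 8 := Int.emod_lt_of_pos _ (by norm_num)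
  unfold certOK at hcert
  rw [List.all_eq_true] at hcert
  have h1 := hcert (r % 8).toNat (by rw [List.mem_range]; omega)
  rw [List.all_eq_true] at h1
  have h2 := h1 N.toNat (by rw [List.mem_range]; omega)
  rw [beq_iff_eq] at h2
  have e1 : (((r % 8).toNat : ℕ) : ℤ) = r % 8 := Int.toNat_of_nonneg hr0
  have e2 : ((N.toNat : ℕ) : ℤ) = N := Int.toNat_of_nonneg h0
  rw [e1, e2] at h2
  rw [← h2]
  congr 1
  apply List.map_congr_left
  intro v _
  by_cases hv : v ^ 2 ≤ N
  · rw [if_pos hv, h (r - v) (N - v ^ 2) (by omega) (by have := sq_nonneg v; omega)]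
    congr 1
    omega
  · rw [if_neg hv]
    apply cnt_neg
    omega

theorem cnt_of_isTab {l : List L} {T : List (ℤ × ℤ × ℕ)} (h : IsTab V l T) (r N : ℤ) (K : ℕ)
    (h0 : 0 ≤ N) (h64 : N ≤ 64) (hK : look T (r % 8) N = K) : cnt V l r N = K := by
  rw [h r N h0 h64, hK]

end

/-- Allowed values by label: labels `0..3` are the residue classes mod 4 with `|v| ≤ 8`;
labels `4..7` are the same classes restricted to `|v| ≤ 3`. -/
def vals : ℕ → List ℤ
  | 0 => [0, 4, -4, 8, -8]
  | 1 => [1, -3, 5, -7]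
  | 2 => [2, -2, 6, -6]
  | 3 => [-1, 3, -5, 7]
  | 4 => [0]
  | 5 => [1, -3]
  | 6 => [2, -2]
  | 7 => [-1, 3]
  | _ => []

theorem vals_nodup : ∀ a, (vals a).Nodup := by
  intro a
  match a with
  | 0 | 1 | 2 | 3 | 4 | 5 | 6 | 7 => decide
  | _ + 8 => exact List.nodup_nil

/-- Standard list of labels: `k` copies of `a` followed by `j` copies of `b`. -/
def stdL (a b : ℕ) (k j : ℕ) : List ℕ := List.replicate k a ++ List.replicate j b

end Cfsg.Agent.Lib.H27
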