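import Mathlib
import Cfsg.Agent.Lib.H27.CountTab

/-! helper27: generated table certificates (scripts/gen_tabs.py), family E. -/

set_option autoImplicit false

namespace Cfsg.Agent.Lib.H27

theorem tabE_b0 : IsTab vals (stdL 2 0 0 0) [(0, 0, 1)] := isTab_nil vals

theorem tabE_b1 : IsTab vals (stdL 2 0 0 1) [(0, 0, 1), (0, 64, 2), (4, 16, 2)] :=
  step_ok vals 0 (stdL 2 0 0 0) _ _ tabE_b0 (by decide +kernel)

theorem tabE_b2 : IsTab vals (stdL 2 0 0 2) [(0, 0, 1), (0, 32, 4), (0, 64, 4), (4, 16, 4)] :=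
  step_ok vals 0 (stdL 2 0 0 1) _ _ tabE_b1 (by decide +kernel)

theorem tabE_b3 : IsTab vals (stdL 2 0 0 3) [(0, 0, 1), (0, 32, 12), (0, 64, 6), (4, 16, 6), (4, 48, 8)] :=
  step_ok vals 0 (stdL 2 0 0 2) _ _ tabE_b2 (by decide +kernel)

theorem tabE_b4 : IsTab vals (stdL 2 0 0 4) [(0, 0, 1), (0, 32, 24), (0, 64, 24), (4, 16, 8), (4, 48, 32)] :=
  step_ok vals 0 (stdL 2 0 0 3) _ _ tabE_b3 (by decide +kernel)

theorem tabE_b5 : IsTab vals (stdL 2 0 0 5) [(0, 0, 1), (0, 32, 40), (0, 64, 90), (4, 16, 10), (4, 48, 80)] :=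
  step_ok vals 0 (stdL 2 0 0 4) _ _ tabE_b4 (by decide +kernel)

theorem tabE_b6 : IsTab vals (stdL 2 0 0 6) [(0, 0, 1), (0, 32, 60), (0, 64, 252), (4, 16, 12), (4, 48, 160)] :=
  step_ok vals 0 (stdL 2 0 0 5) _ _ tabE_b5 (by decide +kernel)

theorem tabE_b7 : IsTab vals (stdL 2 0 0 7) [(0, 0, 1), (0, 32, 84), (0, 64, 574), (4, 16, 14), (4, 48, 280)] :=
  step_ok vals 0 (stdL 2 0 0 6) _ _ tabE_b6 (by decide +kernel)

theorem tabE_b8 : IsTab vals (stdL 2 0 0 8) [(0, 0, 1), (0, 32, 112), (0, 64, 1136), (4, 16, 16), (4, 48, 448)] :=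
  step_ok vals 0 (stdL 2 0 0 7) _ _ tabE_b7 (by decide +kernel)

theorem tabE_b9 : IsTab vals (stdL 2 0 0 9) [(0, 0, 1), (0, 32, 144), (0, 64, 2034), (4, 16, 18), (4, 48, 672)] :=
  step_ok vals 0 (stdL 2 0 0 8) _ _ tabE_b8 (by decide +kernel)

theorem tabE_b10 : IsTab vals (stdL 2 0 0 10) [(0, 0, 1), (0, 32, 180), (0, 64, 3380), (4, 16, 20), (4, 48, 960)] :=
  step_ok vals 0 (stdL 2 0 0 9) _ _ tabE_b9 (by decide +kernel)

theorem tabE_b11 : IsTab vals (stdL 2 0 0 11) [(0, 0, 1), (0, 32, 220), (0, 64, 5302), (4, 16, 22), (4, 48, 1320)] :=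
  step_ok vals 0 (stdL 2 0 0 10) _ _ tabE_b10 (by decide +kernel)

theorem tabE_b12 : IsTab vals (stdL 2 0 0 12) [(0, 0, 1), (0, 32, 264), (0, 64, 7944), (4, 16, 24), (4, 48, 1760)] :=
  step_ok vals 0 (stdL 2 0 0 11) _ _ tabE_b11 (by decide +kernel)

theorem tabE_b13 : IsTab vals (stdL 2 0 0 13) [(0, 0, 1), (0, 32, 312), (0, 64, 11466), (4, 16, 26), (4, 48, 2288)] :=
  step_ok vals 0 (stdL 2 0 0 12) _ _ tabE_b12 (by decide +kernel)

theorem tabE_b14 : IsTab vals (stdL 2 0 0 14) [(0, 0, 1), (0, 32, 364), (0, 64, 16044), (4, 16, 28), (4, 48, 2912)] :=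
  step_ok vals 0 (stdL 2 0 0 13) _ _ tabE_b13 (by decide +kernel)

theorem tabE_b15 : IsTab vals (stdL 2 0 0 15) [(0, 0, 1), (0, 32, 420), (0, 64, 21870), (4, 16, 30), (4, 48, 3640)] :=
  step_ok vals 0 (stdL 2 0 0 14) _ _ tabE_b14 (by decide +kernel)

theorem tabE_b16 : IsTab vals (stdL 2 0 0 16) [(0, 0, 1), (0, 32, 480), (0, 64, 29152), (4, 16, 32), (4, 48, 4480)] :=
  step_ok vals 0 (stdL 2 0 0 15) _ _ tabE_b15 (by decide +kernel)

theorem tabE_b17 : IsTab vals (stdL 2 0 0 17) [(0, 0, 1), (0, 32, 544), (0, 64, 38114), (4, 16, 34), (4, 48, 5440)] :=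
  step_ok vals 0 (stdL 2 0 0 16) _ _ tabE_b16 (by decide +kernel)

theorem tabE_b18 : IsTab vals (stdL 2 0 0 18) [(0, 0, 1), (0, 32, 612), (0, 64, 48996), (4, 16, 36), (4, 48, 6528)] :=
  step_ok vals 0 (stdL 2 0 0 17) _ _ tabE_b17 (by decide +kernel)

theorem tabE_b19 : IsTab vals (stdL 2 0 0 19) [(0, 0, 1), (0, 32, 684), (0, 64, 62054), (4, 16, 38), (4, 48, 7752)] :=
  step_ok vals 0 (stdL 2 0 0 18) _ _ tabE_b18 (by decide +kernel)

theorem tabE_b20 : IsTab vals (stdL 2 0 0 20) [(0, 0, 1), (0, 32, 760), (0, 64, 77560), (4, 16, 40), (4, 48, 9120)] :=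
  step_ok vals 0 (stdL 2 0 0 19) _ _ tabE_b19 (by decide +kernel)

theorem tabE_b21 : IsTab vals (stdL 2 0 0 21) [(0, 0, 1), (0, 32, 840), (0, 64, 95802), (4, 16, 42), (4, 48, 10640)] :=
  step_ok vals 0 (stdL 2 0 0 20) _ _ tabE_b20 (by decide +kernel)

theorem tabE_b22 : IsTab vals (stdL 2 0 0 22) [(0, 0, 1), (0, 32, 924), (0, 64, 117084), (4, 16, 44), (4, 48, 12320)] :=
  step_ok vals 0 (stdL 2 0 0 21) _ _ tabE_b21 (by decide +kernel)

theorem tabE_b23 : IsTab vals (stdL 2 0 0 23) [(0, 0, 1), (0, 32, 1012), (0, 64, 141726), (4, 16, 46), (4, 48, 14168)] :=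
  step_ok vals 0 (stdL 2 0 0 22) _ _ tabE_b22 (by decide +kernel)

theorem tabE_b24 : IsTab vals (stdL 2 0 0 24) [(0, 0, 1), (0, 32, 1104), (0, 64, 170064), (4, 16, 48), (4, 48, 16192)] :=
  step_ok vals 0 (stdL 2 0 0 23) _ _ tabE_b23 (by decide +kernel)

theorem tabE_w8_1 : IsTab vals (stdL 2 0 1 16) [(2, 4, 1), (2, 20, 32), (2, 36, 481), (2, 52, 4512), (6, 4, 1), (6, 20, 32), (6, 36, 481), (6, 52, 4512)] :=
  step_ok vals 2 (stdL 2 0 0 16) _ _ tabE_b16 (by decide +kernel)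

theorem tabE_w8_2 : IsTab vals (stdL 2 0 2 16) [(0, 8, 2), (0, 24, 64), (0, 40, 964), (0, 56, 9088), (4, 8, 2), (4, 24, 64), (4, 40, 964), (4, 56, 9088)] :=
  step_ok vals 2 (stdL 2 0 1 16) _ _ tabE_w8_1 (by decide +kernel)

theorem tabE_w8_3 : IsTab vals (stdL 2 0 3 16) [(2, 12, 4), (2, 28, 128), (2, 44, 1932), (2, 60, 18304), (6, 12, 4), (6, 28, 128), (6, 44, 1932), (6, 60, 18304)] :=
  step_ok vals 2 (stdL 2 0 2 16) _ _ tabE_w8_2 (by decide +kernel)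

theorem tabE_w8_4 : IsTab vals (stdL 2 0 4 16) [(0, 16, 8), (0, 32, 256), (0, 48, 3872), (0, 64, 36864), (4, 16, 8), (4, 32, 256), (4, 48, 3872), (4, 64, 36864)] :=
  step_ok vals 2 (stdL 2 0 3 16) _ _ tabE_w8_3 (by decide +kernel)

theorem tabE_w8_5 : IsTab vals (stdL 2 0 5 16) [(2, 20, 16), (2, 36, 512), (2, 52, 7760), (6, 20, 16), (6, 36, 512), (6, 52, 7760)] :=
  step_ok vals 2 (stdL 2 0 4 16) _ _ tabE_w8_4 (by decide +kernel)

theorem tabE_w8_6 : IsTab vals (stdL 2 0 6 16) [(0, 24, 32), (0, 40, 1024), (0, 56, 15552), (4, 24, 32), (4, 40, 1024), (4, 56, 15552)] :=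
  step_ok vals 2 (stdL 2 0 5 16) _ _ tabE_w8_5 (by decide +kernel)

theorem tabE_w8_7 : IsTab vals (stdL 2 0 7 16) [(2, 28, 64), (2, 44, 2048), (2, 60, 31168), (6, 28, 64), (6, 44, 2048), (6, 60, 31168)] :=
  step_ok vals 2 (stdL 2 0 6 16) _ _ tabE_w8_6 (by decide +kernel)

theorem tabE_w8_8 : IsTab vals (stdL 2 0 8 16) [(0, 32, 128), (0, 48, 4096), (0, 64, 62464), (4, 32, 128), (4, 48, 4096), (4, 64, 62464)] :=
  step_ok vals 2 (stdL 2 0 7 16) _ _ tabE_w8_7 (by decide +kernel)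

theorem tabE_w12_1 : IsTab vals (stdL 2 0 1 12) [(2, 4, 1), (2, 20, 24), (2, 36, 265), (2, 52, 1784), (6, 4, 1), (6, 20, 24), (6, 36, 265), (6, 52, 1784)] :=
  step_ok vals 2 (stdL 2 0 0 12) _ _ tabE_b12 (by decide +kernel)

theorem tabE_w12_2 : IsTab vals (stdL 2 0 2 12) [(0, 8, 2), (0, 24, 48), (0, 40, 532), (0, 56, 3616), (4, 8, 2), (4, 24, 48), (4, 40, 532), (4, 56, 3616)] :=
  step_ok vals 2 (stdL 2 0 1 12) _ _ tabE_w12_1 (by decide +kernel)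

theorem tabE_w12_3 : IsTab vals (stdL 2 0 3 12) [(2, 12, 4), (2, 28, 96), (2, 44, 1068), (2, 60, 7328), (6, 12, 4), (6, 28, 96), (6, 44, 1068), (6, 60, 7328)] :=
  step_ok vals 2 (stdL 2 0 2 12) _ _ tabE_w12_2 (by decide +kernel)

theorem tabE_w12_4 : IsTab vals (stdL 2 0 4 12) [(0, 16, 8), (0, 32, 192), (0, 48, 2144), (0, 64, 14848), (4, 16, 8), (4, 32, 192), (4, 48, 2144), (4, 64, 14848)] :=
  step_ok vals 2 (stdL 2 0 3 12) _ _ tabE_w12_3 (by decide +kernel)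

theorem tabE_w12_5 : IsTab vals (stdL 2 0 5 12) [(2, 20, 16), (2, 36, 384), (2, 52, 4304), (6, 20, 16), (6, 36, 384), (6, 52, 4304)] :=
  step_ok vals 2 (stdL 2 0 4 12) _ _ tabE_w12_4 (by decide +kernel)

theorem tabE_w12_6 : IsTab vals (stdL 2 0 6 12) [(0, 24, 32), (0, 40, 768), (0, 56, 8640), (4, 24, 32), (4, 40, 768), (4, 56, 8640)] :=
  step_ok vals 2 (stdL 2 0 5 12) _ _ tabE_w12_5 (by decide +kernel)

theorem tabE_w12_7 : IsTab vals (stdL 2 0 7 12) [(2, 28, 64), (2, 44, 1536), (2, 60, 17344), (6, 28, 64), (6, 44, 1536), (6, 60, 17344)] :=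
  step_ok vals 2 (stdL 2 0 6 12) _ _ tabE_w12_6 (by decide +kernel)

theorem tabE_w12_8 : IsTab vals (stdL 2 0 8 12) [(0, 32, 128), (0, 48, 3072), (0, 64, 34816), (4, 32, 128), (4, 48, 3072), (4, 64, 34816)] :=
  step_ok vals 2 (stdL 2 0 7 12) _ _ tabE_w12_7 (by decide +kernel)

theorem tabE_w12_9 : IsTab vals (stdL 2 0 9 12) [(2, 36, 256), (2, 52, 6144), (6, 36, 256), (6, 52, 6144)] :=
  step_ok vals 2 (stdL 2 0 8 12) _ _ tabE_w12_8 (by decide +kernel)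

theorem tabE_w12_10 : IsTab vals (stdL 2 0 10 12) [(0, 40, 512), (0, 56, 12288), (4, 40, 512), (4, 56, 12288)] :=
  step_ok vals 2 (stdL 2 0 9 12) _ _ tabE_w12_9 (by decide +kernel)

theorem tabE_w12_11 : IsTab vals (stdL 2 0 11 12) [(2, 44, 1024), (2, 60, 24576), (6, 44, 1024), (6, 60, 24576)] :=
  step_ok vals 2 (stdL 2 0 10 12) _ _ tabE_w12_10 (by decide +kernel)

theorem tabE_w12_12 : IsTab vals (stdL 2 0 12 12) [(0, 48, 2048), (0, 64, 49152), (4, 48, 2048), (4, 64, 49152)] :=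
  step_ok vals 2 (stdL 2 0 11 12) _ _ tabE_w12_11 (by decide +kernel)

theorem tabE_w16_1 : IsTab vals (stdL 2 0 1 8) [(2, 4, 1), (2, 20, 16), (2, 36, 113), (2, 52, 464), (6, 4, 1), (6, 20, 16), (6, 36, 113), (6, 52, 464)] :=
  step_ok vals 2 (stdL 2 0 0 8) _ _ tabE_b8 (by decide +kernel)

theorem tabE_w16_2 : IsTab vals (stdL 2 0 2 8) [(0, 8, 2), (0, 24, 32), (0, 40, 228), (0, 56, 960), (4, 8, 2), (4, 24, 32), (4, 40, 228), (4, 56, 960)] :=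
  step_ok vals 2 (stdL 2 0 1 8) _ _ tabE_w16_1 (by decide +kernel)

theorem tabE_w16_3 : IsTab vals (stdL 2 0 3 8) [(2, 12, 4), (2, 28, 64), (2, 44, 460), (2, 60, 1984), (6, 12, 4), (6, 28, 64), (6, 44, 460), (6, 60, 1984)] :=
  step_ok vals 2 (stdL 2 0 2 8) _ _ tabE_w16_2 (by decide +kernel)

theorem tabE_w16_4 : IsTab vals (stdL 2 0 4 8) [(0, 16, 8), (0, 32, 128), (0, 48, 928), (0, 64, 4096), (4, 16, 8), (4, 32, 128), (4, 48, 928), (4, 64, 4096)] :=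
  step_ok vals 2 (stdL 2 0 3 8) _ _ tabE_w16_3 (by decide +kernel)

theorem tabE_w16_5 : IsTab vals (stdL 2 0 5 8) [(2, 20, 16), (2, 36, 256), (2, 52, 1872), (6, 20, 16), (6, 36, 256), (6, 52, 1872)] :=
  step_ok vals 2 (stdL 2 0 4 8) _ _ tabE_w16_4 (by decide +kernel)

theorem tabE_w16_6 : IsTab vals (stdL 2 0 6 8) [(0, 24, 32), (0, 40, 512), (0, 56, 3776), (4, 24, 32), (4, 40, 512), (4, 56, 3776)] :=
  step_ok vals 2 (stdL 2 0 5 8) _ _ tabE_w16_5 (by decide +kernel)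

theorem tabE_w16_7 : IsTab vals (stdL 2 0 7 8) [(2, 28, 64), (2, 44, 1024), (2, 60, 7616), (6, 28, 64), (6, 44, 1024), (6, 60, 7616)] :=
  step_ok vals 2 (stdL 2 0 6 8) _ _ tabE_w16_6 (by decide +kernel)

theorem tabE_w16_8 : IsTab vals (stdL 2 0 8 8) [(0, 32, 128), (0, 48, 2048), (0, 64, 15360), (4, 32, 128), (4, 48, 2048), (4, 64, 15360)] :=
  step_ok vals 2 (stdL 2 0 7 8) _ _ tabE_w16_7 (by decide +kernel)

theorem tabE_w16_9 : IsTab vals (stdL 2 0 9 8) [(2, 36, 256), (2, 52, 4096), (6, 36, 256), (6, 52, 4096)] :=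
  step_ok vals 2 (stdL 2 0 8 8) _ _ tabE_w16_8 (by decide +kernel)

theorem tabE_w16_10 : IsTab vals (stdL 2 0 10 8) [(0, 40, 512), (0, 56, 8192), (4, 40, 512), (4, 56, 8192)] :=
  step_ok vals 2 (stdL 2 0 9 8) _ _ tabE_w16_9 (by decide +kernel)

theorem tabE_w16_11 : IsTab vals (stdL 2 0 11 8) [(2, 44, 1024), (2, 60, 16384), (6, 44, 1024), (6, 60, 16384)] :=
  step_ok vals 2 (stdL 2 0 10 8) _ _ tabE_w16_10 (by decide +kernel)

theorem tabE_w16_12 : IsTab vals (stdL 2 0 12 8) [(0, 48, 2048), (0, 64, 32768), (4, 48, 2048), (4, 64, 32768)] :=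
  step_ok vals 2 (stdL 2 0 11 8) _ _ tabE_w16_11 (by decide +kernel)

theorem tabE_w16_13 : IsTab vals (stdL 2 0 13 8) [(2, 52, 4096), (6, 52, 4096)] :=
  step_ok vals 2 (stdL 2 0 12 8) _ _ tabE_w16_12 (by decide +kernel)

theorem tabE_w16_14 : IsTab vals (stdL 2 0 14 8) [(0, 56, 8192), (4, 56, 8192)] :=
  step_ok vals 2 (stdL 2 0 13 8) _ _ tabE_w16_13 (by decide +kernel)

theorem tabE_w16_15 : IsTab vals (stdL 2 0 15 8) [(2, 60, 16384), (6, 60, 16384)] :=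
  step_ok vals 2 (stdL 2 0 14 8) _ _ tabE_w16_14 (by decide +kernel)

theorem tabE_w16_16 : IsTab vals (stdL 2 0 16 8) [(0, 64, 32768), (4, 64, 32768)] :=
  step_ok vals 2 (stdL 2 0 15 8) _ _ tabE_w16_15 (by decide +kernel)

theorem tabE_w24_1 : IsTab vals (stdL 2 0 1 0) [(2, 4, 1), (2, 36, 1), (6, 4, 1), (6, 36, 1)] :=
  step_ok vals 2 (stdL 2 0 0 0) _ _ tabE_b0 (by decide +kernel)

theorem tabE_w24_2 : IsTab vals (stdL 2 0 2 0) [(0, 8, 2), (0, 40, 4), (4, 8, 2), (4, 40, 4)] :=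
  step_ok vals 2 (stdL 2 0 1 0) _ _ tabE_w24_1 (by decide +kernel)

theorem tabE_w24_3 : IsTab vals (stdL 2 0 3 0) [(2, 12, 4), (2, 44, 12), (6, 12, 4), (6, 44, 12)] :=
  step_ok vals 2 (stdL 2 0 2 0) _ _ tabE_w24_2 (by decide +kernel)

theorem tabE_w24_4 : IsTab vals (stdL 2 0 4 0) [(0, 16, 8), (0, 48, 32), (4, 16, 8), (4, 48, 32)] :=
  step_ok vals 2 (stdL 2 0 3 0) _ _ tabE_w24_3 (by decide +kernel)

theorem tabE_w24_5 : IsTab vals (stdL 2 0 5 0) [(2, 20, 16), (2, 52, 80), (6, 20, 16), (6, 52, 80)] :=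
  step_ok vals 2 (stdL 2 0 4 0) _ _ tabE_w24_4 (by decide +kernel)

theorem tabE_w24_6 : IsTab vals (stdL 2 0 6 0) [(0, 24, 32), (0, 56, 192), (4, 24, 32), (4, 56, 192)] :=
  step_ok vals 2 (stdL 2 0 5 0) _ _ tabE_w24_5 (by decide +kernel)

theorem tabE_w24_7 : IsTab vals (stdL 2 0 7 0) [(2, 28, 64), (2, 60, 448), (6, 28, 64), (6, 60, 448)] :=
  step_ok vals 2 (stdL 2 0 6 0) _ _ tabE_w24_6 (by decide +kernel)

theorem tabE_w24_8 : IsTab vals (stdL 2 0 8 0) [(0, 32, 128), (0, 64, 1024), (4, 32, 128), (4, 64, 1024)] :=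
  step_ok vals 2 (stdL 2 0 7 0) _ _ tabE_w24_7 (by decide +kernel)

theorem tabE_w24_9 : IsTab vals (stdL 2 0 9 0) [(2, 36, 256), (6, 36, 256)] :=
  step_ok vals 2 (stdL 2 0 8 0) _ _ tabE_w24_8 (by decide +kernel)

theorem tabE_w24_10 : IsTab vals (stdL 2 0 10 0) [(0, 40, 512), (4, 40, 512)] :=
  step_ok vals 2 (stdL 2 0 9 0) _ _ tabE_w24_9 (by decide +kernel)

theorem tabE_w24_11 : IsTab vals (stdL 2 0 11 0) [(2, 44, 1024), (6, 44, 1024)] :=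
  step_ok vals 2 (stdL 2 0 10 0) _ _ tabE_w24_10 (by decide +kernel)

theorem tabE_w24_12 : IsTab vals (stdL 2 0 12 0) [(0, 48, 2048), (4, 48, 2048)] :=
  step_ok vals 2 (stdL 2 0 11 0) _ _ tabE_w24_11 (by decide +kernel)

theorem tabE_w24_13 : IsTab vals (stdL 2 0 13 0) [(2, 52, 4096), (6, 52, 4096)] :=
  step_ok vals 2 (stdL 2 0 12 0) _ _ tabE_w24_12 (by decide +kernel)

theorem tabE_w24_14 : IsTab vals (stdL 2 0 14 0) [(0, 56, 8192), (4, 56, 8192)] :=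
  step_ok vals 2 (stdL 2 0 13 0) _ _ tabE_w24_13 (by decide +kernel)

theorem tabE_w24_15 : IsTab vals (stdL 2 0 15 0) [(2, 60, 16384), (6, 60, 16384)] :=
  step_ok vals 2 (stdL 2 0 14 0) _ _ tabE_w24_14 (by decide +kernel)

theorem tabE_w24_16 : IsTab vals (stdL 2 0 16 0) [(0, 64, 32768), (4, 64, 32768)] :=
  step_ok vals 2 (stdL 2 0 15 0) _ _ tabE_w24_15 (by decide +kernel)

theorem tabE_w24_17 : IsTab vals (stdL 2 0 17 0) [] :=
  step_ok vals 2 (stdL 2 0 16 0) _ _ tabE_w24_16 (by decide +kernel)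

theorem tabE_w24_18 : IsTab vals (stdL 2 0 18 0) [] :=
  step_ok vals 2 (stdL 2 0 17 0) _ _ tabE_w24_17 (by decide +kernel)

theorem tabE_w24_19 : IsTab vals (stdL 2 0 19 0) [] :=
  step_ok vals 2 (stdL 2 0 18 0) _ _ tabE_w24_18 (by decide +kernel)

theorem tabE_w24_20 : IsTab vals (stdL 2 0 20 0) [] :=
  step_ok vals 2 (stdL 2 0 19 0) _ _ tabE_w24_19 (by decide +kernel)

theorem tabE_w24_21 : IsTab vals (stdL 2 0 21 0) [] :=
  step_ok vals 2 (stdL 2 0 20 0) _ _ tabE_w24_20 (by decide +kernel)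

theorem tabE_w24_22 : IsTab vals (stdL 2 0 22 0) [] :=
  step_ok vals 2 (stdL 2 0 21 0) _ _ tabE_w24_21 (by decide +kernel)

theorem tabE_w24_23 : IsTab vals (stdL 2 0 23 0) [] :=
  step_ok vals 2 (stdL 2 0 22 0) _ _ tabE_w24_22 (by decide +kernel)

theorem tabE_w24_24 : IsTab vals (stdL 2 0 24 0) [] :=
  step_ok vals 2 (stdL 2 0 23 0) _ _ tabE_w24_23 (by decide +kernel)

theorem valE_0_32 : cnt vals (stdL 2 0 0 24) 0 32 = 1104 :=
  cnt_of_isTab vals tabE_b24 0 32 1104 (by norm_num) (by norm_num) (by decide +kernel)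

theorem valE_0_48 : cnt vals (stdL 2 0 0 24) 0 48 = 0 :=
  cnt_of_isTab vals tabE_b24 0 48 0 (by norm_num) (by norm_num) (by decide +kernel)

theorem valE_0_64 : cnt vals (stdL 2 0 0 24) 0 64 = 170064 :=
  cnt_of_isTab vals tabE_b24 0 64 170064 (by norm_num) (by norm_num) (by decide +kernel)

theorem valE_8_32 : cnt vals (stdL 2 0 8 16) 0 32 = 128 :=
  cnt_of_isTab vals tabE_w8_8 0 32 128 (by norm_num) (by norm_num) (by decide +kernel)

theorem valE_8_48 : cnt vals (stdL 2 0 8 16) 0 48 = 4096 :=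
  cnt_of_isTab vals tabE_w8_8 0 48 4096 (by norm_num) (by norm_num) (by decide +kernel)

theorem valE_8_64 : cnt vals (stdL 2 0 8 16) 0 64 = 62464 :=
  cnt_of_isTab vals tabE_w8_8 0 64 62464 (by norm_num) (by norm_num) (by decide +kernel)

theorem valE_12_32 : cnt vals (stdL 2 0 12 12) 0 32 = 0 :=
  cnt_of_isTab vals tabE_w12_12 0 32 0 (by norm_num) (by norm_num) (by decide +kernel)

theorem valE_12_48 : cnt vals (stdL 2 0 12 12) 0 48 = 2048 :=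
  cnt_of_isTab vals tabE_w12_12 0 48 2048 (by norm_num) (by norm_num) (by decide +kernel)

theorem valE_12_64 : cnt vals (stdL 2 0 12 12) 0 64 = 49152 :=
  cnt_of_isTab vals tabE_w12_12 0 64 49152 (by norm_num) (by norm_num) (by decide +kernel)

theorem valE_16_32 : cnt vals (stdL 2 0 16 8) 0 32 = 0 :=
  cnt_of_isTab vals tabE_w16_16 0 32 0 (by norm_num) (by norm_num) (by decide +kernel)

theorem valE_16_48 : cnt vals (stdL 2 0 16 8) 0 48 = 0 :=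
  cnt_of_isTab vals tabE_w16_16 0 48 0 (by norm_num) (by norm_num) (by decide +kernel)

theorem valE_16_64 : cnt vals (stdL 2 0 16 8) 0 64 = 32768 :=
  cnt_of_isTab vals tabE_w16_16 0 64 32768 (by norm_num) (by norm_num) (by decide +kernel)

theorem valE_24_32 : cnt vals (stdL 2 0 24 0) 0 32 = 0 :=
  cnt_of_isTab vals tabE_w24_24 0 32 0 (by norm_num) (by norm_num) (by decide +kernel)

theorem valE_24_48 : cnt vals (stdL 2 0 24 0) 0 48 = 0 :=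
  cnt_of_isTab vals tabE_w24_24 0 48 0 (by norm_num) (by norm_num) (by decide +kernel)

theorem valE_24_64 : cnt vals (stdL 2 0 24 0) 0 64 = 0 :=
  cnt_of_isTab vals tabE_w24_24 0 64 0 (by norm_num) (by norm_num) (by decide +kernel)

end Cfsg.Agent.Lib.H27
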