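import Mathlib
import Cfsg.Agent.Lib.H28.GolayConcrete

/-!
helper27 library: the facts about `Cfsg.golayCode` used by the lattice files, restated from
helper28's `GolayConcrete` in terms of `Cfsg.support₂`.
-/

set_option autoImplicit false

namespace Cfsg.Agent.Lib.H27

open Cfsg Cfsg.Agent.Lib.H28

theorem card_support₂_eq (c : GolayPt → ZMod 2) : (support₂ c).card = hammingNorm c := by
  rw [hammingNorm_eq_card_supp, supp_eq_support₂]

theorem golay_doubly_even : ∀ c ∈ golayCode, 4 ∣ (support₂ c).card := by
  intro c hc
  rw [card_support₂_eq]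
  rcases golayCode_weight hc with h | h | h | h | h <;> rw [h] <;> decide

theorem golay_min_weight : ∀ c ∈ golayCode, c ≠ 0 → 8 ≤ (support₂ c).card := by
  intro c hc h0
  rw [card_support₂_eq]
  exact golayCode_min_weight hc h0

theorem golay_card : Nat.card golayCode = 2 ^ 12 := by
  rw [Module.natCard_eq_pow_finrank (K := ZMod 2), golayCode_finrank, Nat.card_zmod]

end Cfsg.Agent.Lib.H27
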