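import Mathlib
import Cfsg.Prelude.Def_Sporadic_a

/-!
helper27 library: the lattice `Cfsg.leechLattice`.  Every lattice vector `x` has a description
`x i ≡ m + 2 c i (mod 4)` with `c` a word of `golayCode`, `m ∈ {0, 1}` and `∑ x i ≡ 4 m (mod 8)`.
From this the minimal squared length 32 follows, given that the code is doubly even with minimal
weight 8 (these two facts enter as hypotheses).
-/

set_option autoImplicit false

namespace Cfsg.Agent.Lib.H27

open Cfsg Finset

/-- Description of a lattice vector: parity `m`, code word `c`. -/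
def LeechDesc (x : GolayPt → ℤ) (m : ℤ) (c : GolayPt → ZMod 2) : Prop :=
  c ∈ golayCode ∧ (∀ i, x i ≡ m + 2 * ((c i).val : ℤ) [ZMOD 4]) ∧ (∑ i, x i ≡ 4 * m [ZMOD 8])

theorem two_val_add (a b : ZMod 2) :
    2 * ((a + b).val : ℤ) ≡ 2 * (a.val : ℤ) + 2 * (b.val : ℤ) [ZMOD 4] := by
  revert a b; decide

theorem two_val_add_one (a : ZMod 2) :
    2 * ((a + 1).val : ℤ) ≡ 2 * (a.val : ℤ) + 2 [ZMOD 4] := by
  revert a; decide

theorem one_mem_golayCode : (1 : GolayPt → ZMod 2) ∈ golayCode :=
  Submodule.subset_span (Set.mem_union_right _ rfl)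

theorem leechDesc_of_mem_leechSet {x : GolayPt → ℤ} (hx : x ∈ leechSet) :
    ∃ m c, LeechDesc x m c := by
  obtain ⟨m, hpar, hsum, hk⟩ := hx
  obtain ⟨c, hc, hcS⟩ := hk (m + 2)
  refine ⟨m, c, hc, ?_, hsum⟩
  intro i
  have hi : i ∈ support₂ c ↔ x i ≡ m + 2 [ZMOD 4] := by
    rw [hcS]; simp
  have hp := hpar i
  by_cases h : c i = 0
  · have hn : ¬ (x i ≡ m + 2 [ZMOD 4]) := by
      rw [← hi]; simp [support₂, h]
    rw [h]
    simp only [ZMod.val_zero, Nat.cast_zero, mul_zero, add_zero]
    unfold Int.ModEq at *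
    omega
  · have h1 : c i = 1 := by
      have : ∀ a : ZMod 2, a ≠ 0 → a = 1 := by decide
      exact this _ h
    have hy : x i ≡ m + 2 [ZMOD 4] := by
      rw [← hi]; simp [support₂, h]
    have hv : ((1 : ZMod 2).val : ℤ) = 1 := by decide
    rw [h1, hv, mul_one]
    exact hy

theorem leechDesc_zero : LeechDesc 0 0 0 := by
  refine ⟨golayCode.zero_mem, fun i => ?_, ?_⟩ <;> simp [Int.ModEq]

theorem leechDesc_add {x y : GolayPt → ℤ} {m m' : ℤ} {c c' : GolayPt → ZMod 2}
    (hx : LeechDesc x m c) (hy : LeechDesc y m' c') : LeechDesc (x + y) (m + m') (c + c') := by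
  obtain ⟨hc, hx1, hx2⟩ := hx
  obtain ⟨hc', hy1, hy2⟩ := hy
  refine ⟨golayCode.add_mem hc hc', fun i => ?_, ?_⟩
  · have h1 := hx1 i
    have h2 := hy1 i
    have h3 := two_val_add (c i) (c' i)
    simp only [Pi.add_apply]
    unfold Int.ModEq at *
    omega
  · simp only [Pi.add_apply, sum_add_distrib]
    unfold Int.ModEq at *
    omega

theorem leechDesc_neg {x : GolayPt → ℤ} {m : ℤ} {c : GolayPt → ZMod 2}
    (hx : LeechDesc x m c) : LeechDesc (-x) (-m) c := by
  obtain ⟨hc, hx1, hx2⟩ := hx
  refine ⟨hc, fun i => ?_, ?_⟩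
  · have h1 := hx1 i
    simp only [Pi.neg_apply]
    unfold Int.ModEq at *
    omega
  · simp only [Pi.neg_apply, sum_neg_distrib]
    unfold Int.ModEq at *
    omega

/-- Every lattice vector has a description. -/
theorem exists_leechDesc {x : GolayPt → ℤ} (hx : x ∈ leechLattice) : ∃ m c, LeechDesc x m c := by
  unfold leechLattice at hx
  induction hx using AddSubgroup.closure_induction with
  | mem x hx => exact leechDesc_of_mem_leechSet hx
  | zero => exact ⟨0, 0, leechDesc_zero⟩
  | add x y _ _ hx hy =>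
    obtain ⟨m, c, h⟩ := hx
    obtain ⟨m', c', h'⟩ := hy
    exact ⟨_, _, leechDesc_add h h'⟩
  | neg x _ hx =>
    obtain ⟨m, c, h⟩ := hx
    exact ⟨_, _, leechDesc_neg h⟩

/-- Normalised description: `m = 0` or `m = 1`. -/
theorem exists_leechDesc_normal {x : GolayPt → ℤ} (hx : x ∈ leechLattice) :
    ∃ m c, (m = 0 ∨ m = 1) ∧ LeechDesc x m c := by
  obtain ⟨m, c, hc, h1, h2⟩ := exists_leechDesc hx
  have hr : m % 4 = 0 ∨ m % 4 = 1 ∨ m % 4 = 2 ∨ m % 4 = 3 := by omega
  rcases hr with h | h | h | h
  · refine ⟨0, c, Or.inl rfl, hc, fun i => ?_, ?_⟩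
    · have := h1 i
      unfold Int.ModEq at *
      omega
    · unfold Int.ModEq at *
      omega
  · refine ⟨1, c, Or.inr rfl, hc, fun i => ?_, ?_⟩
    · have := h1 i
      unfold Int.ModEq at *
      omega
    · unfold Int.ModEq at *
      omega
  · refine ⟨0, c + 1, Or.inl rfl, golayCode.add_mem hc one_mem_golayCode, fun i => ?_, ?_⟩
    · have := h1 i
      have h3 := two_val_add_one (c i)
      simp only [Pi.add_apply, Pi.one_apply]
      unfold Int.ModEq at *
      omega
    · unfold Int.ModEq at *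
      omega
  · refine ⟨1, c + 1, Or.inr rfl, golayCode.add_mem hc one_mem_golayCode, fun i => ?_, ?_⟩
    · have := h1 i
      have h3 := two_val_add_one (c i)
      simp only [Pi.add_apply, Pi.one_apply]
      unfold Int.ModEq at *
      omega
    · unfold Int.ModEq at *
      omega

theorem sum_val_eq_card (c : GolayPt → ZMod 2) :
    ∑ i, ((c i).val : ℤ) = ((support₂ c).card : ℤ) := by
  unfold support₂
  rw [card_eq_sum_ones, Nat.cast_sum, sum_filter]
  apply sum_congr rfl
  intro i _
  have : ∀ a : ZMod 2, ((a.val : ℕ) : ℤ) = if a ≠ 0 then ((1 : ℕ) : ℤ) else 0 := by decide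
  exact this _

theorem sqNorm_ge_pair (x : GolayPt → ℤ) (j k : GolayPt) (hjk : j ≠ k) :
    x j ^ 2 + x k ^ 2 ≤ sqNorm x := by
  unfold sqNorm
  have h1 : ∑ i ∈ ({j, k} : Finset GolayPt), x i ^ 2 = x j ^ 2 + x k ^ 2 := sum_pair hjk
  rw [← h1]
  exact sum_le_sum_of_subset_of_nonneg (subset_univ _) (fun i _ _ => sq_nonneg _)

theorem sqNorm_ge_single (x : GolayPt → ℤ) (j : GolayPt) : x j ^ 2 ≤ sqNorm x := by
  unfold sqNorm
  exact single_le_sum (f := fun i => x i ^ 2) (fun i _ => sq_nonneg _) (mem_univ j)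

theorem sqNorm_ge_card_mul (x : GolayPt → ℤ) (S : Finset GolayPt) (b : ℤ)
    (h : ∀ i ∈ S, b ≤ x i ^ 2) : (S.card : ℤ) * b ≤ sqNorm x := by
  unfold sqNorm
  calc (S.card : ℤ) * b = ∑ _i ∈ S, b := by rw [sum_const, nsmul_eq_mul]
    _ ≤ ∑ i ∈ S, x i ^ 2 := sum_le_sum h
    _ ≤ ∑ i, x i ^ 2 := sum_le_sum_of_subset_of_nonneg (subset_univ _) (fun i _ _ => sq_nonneg _)

theorem card_golayPt : Fintype.card GolayPt = 24 := by decide

/-- Minimal squared length 32, given that the code is doubly even with minimal weight 8. -/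
theorem leech_min_norm
    (hde : ∀ c ∈ golayCode, 4 ∣ (support₂ c).card)
    (hmin : ∀ c ∈ golayCode, c ≠ 0 → 8 ≤ (support₂ c).card)
    {x : GolayPt → ℤ} (hx : x ∈ leechLattice) (hx0 : x ≠ 0) : 32 ≤ sqNorm x := by
  obtain ⟨m, c, hm, hc, h1, h2⟩ := exists_leechDesc_normal hx
  rcases hm with rfl | rfl
  · -- even vectors
    by_cases hc0 : c = 0
    · subst hc0
      have h4 : ∀ i, x i % 4 = 0 := by
        intro i
        have := h1 i
        simp only [Pi.zero_apply, ZMod.val_zero, Nat.cast_zero, mul_zero, add_zero] at this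
        unfold Int.ModEq at this
        omega
      have hex : ∃ j, x j ≠ 0 := by
        by_contra hno
        push Not at hno
        exact hx0 (funext hno)
      obtain ⟨j, hj⟩ := hex
      have hj16 : 16 ≤ x j ^ 2 := by
        have := h4 j
        have h5 : 4 ≤ x j ∨ x j ≤ -4 := by omega
        rcases h5 with h5 | h5 <;> nlinarith
      by_cases hk : ∃ k, k ≠ j ∧ x k ≠ 0
      · obtain ⟨k, hkj, hk0⟩ := hk
        have hk16 : 16 ≤ x k ^ 2 := by
          have := h4 k
          have h5 : 4 ≤ x k ∨ x k ≤ -4 := by omega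
          rcases h5 with h5 | h5 <;> nlinarith
        have := sqNorm_ge_pair x j k (Ne.symm hkj)
        linarith
      · push Not at hk
        have hsum : ∑ i, x i = x j := by
          rw [sum_eq_single j]
          · intro k _ hkj; exact hk k hkj
          · intro h; exact absurd (mem_univ j) h
        rw [hsum] at h2
        have h8 : x j % 8 = 0 := by
          unfold Int.ModEq at h2
          omega
        have h5 : 8 ≤ x j ∨ x j ≤ -8 := by omega
        have := sqNorm_ge_single x j
        rcases h5 with h5 | h5 <;> nlinarith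
    · have h8 := hmin c hc hc0
      have hS : ∀ i ∈ support₂ c, (4 : ℤ) ≤ x i ^ 2 := by
        intro i hi
        have hci : c i = 1 := by
          have : ∀ a : ZMod 2, a ≠ 0 → a = 1 := by decide
          apply this
          simpa [support₂] using hi
        have := h1 i
        rw [hci] at this
        have hv : ((1 : ZMod 2).val : ℤ) = 1 := by decide
        rw [hv] at this
        unfold Int.ModEq at this
        have h5 : 2 ≤ x i ∨ x i ≤ -2 := by omega
        rcases h5 with h5 | h5 <;> nlinarith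
      have := sqNorm_ge_card_mul x (support₂ c) 4 hS
      have h8' : (8 : ℤ) ≤ ((support₂ c).card : ℤ) := by exact_mod_cast h8
      linarith
  · -- odd vectors
    have hodd : ∀ i, x i % 2 = 1 := by
      intro i
      have := h1 i
      unfold Int.ModEq at this
      omega
    have hone : ∀ i, (1 : ℤ) ≤ x i ^ 2 := by
      intro i
      have := hodd i
      have h5 : 1 ≤ x i ∨ x i ≤ -1 := by omega
      rcases h5 with h5 | h5 <;> nlinarith
    by_cases hbig : ∃ j, 9 ≤ x j ^ 2
    · obtain ⟨j, hj⟩ := hbig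
      -- norm ≥ 9 + 23
      have h23 : ((univ.erase j).card : ℤ) * 1 ≤ ∑ i ∈ univ.erase j, x i ^ 2 := by
        calc ((univ.erase j).card : ℤ) * 1 = ∑ _i ∈ univ.erase j, (1 : ℤ) := by
              rw [sum_const, nsmul_eq_mul]
          _ ≤ ∑ i ∈ univ.erase j, x i ^ 2 := sum_le_sum (fun i _ => hone i)
      have hcard : (univ.erase j : Finset GolayPt).card = 23 := by
        rw [card_erase_of_mem (mem_univ j), card_univ, card_golayPt]
      rw [hcard] at h23
      have hsplit : sqNorm x = x j ^ 2 + ∑ i ∈ univ.erase j, x i ^ 2 := by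
        unfold sqNorm
        exact (add_sum_erase univ (fun i => x i ^ 2) (mem_univ j)).symm
      rw [hsplit]
      push_cast at h23
      linarith
    · exfalso
      push Not at hbig
      have hval : ∀ i, x i = 1 - 2 * ((c i).val : ℤ) := by
        intro i
        have hb := hbig i
        have ho := hodd i
        have h3 : -3 < x i ∧ x i < 3 := by
          constructor <;> nlinarith
        have := h1 i
        have hv : (c i).val < 2 := ZMod.val_lt _
        unfold Int.ModEq at this
        omega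
      have hsum : ∑ i, x i = 24 - 2 * ((support₂ c).card : ℤ) := by
        rw [← sum_val_eq_card, mul_sum]
        rw [sum_congr rfl (fun i _ => hval i), sum_sub_distrib, sum_const, card_univ, card_golayPt]
        simp
      obtain ⟨t, ht⟩ := hde c hc
      rw [hsum, ht] at h2
      push_cast at h2
      unfold Int.ModEq at h2
      omega

theorem sqNorm_two_smul (z : GolayPt → ℤ) : sqNorm ((2 : ℕ) • z) = 4 * sqNorm z := by
  unfold sqNorm
  rw [mul_sum]
  apply sum_congr rfl
  intro i _
  simp only [Pi.smul_apply, nsmul_eq_mul, Nat.cast_ofNat]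
  ring

theorem sqNorm_parallelogram (v w : GolayPt → ℤ) :
    sqNorm (v - w) + sqNorm (v + w) = 2 * sqNorm v + 2 * sqNorm w := by
  unfold sqNorm
  rw [mul_sum, mul_sum, ← sum_add_distrib, ← sum_add_distrib]
  apply sum_congr rfl
  intro i _
  simp only [Pi.sub_apply, Pi.add_apply]
  ring

end Cfsg.Agent.Lib.H27
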