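import Mathlib
import Cfsg.Agent.Lib.H27.CountTab

/-!
helper27 library: position independence of the counts of `CountDP` (only the number of
coordinates carrying each of two labels matters).
-/

set_option autoImplicit false

namespace Cfsg.Agent.Lib.H27

open Finset

/-- An identification of `α` with `Fin n` under which a given finset becomes an initial segment. -/
theorem exists_equiv_threshold {α : Type*} [Fintype α] [DecidableEq α] (n : ℕ)
    (hα : Fintype.card α = n) (s : Finset α) :
    ∃ e : Fin n ≃ α, ∀ i, e i ∈ s ↔ i.val < s.card := by
  classical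
  have e0 : Fin n ≃ α := (Fintype.equivFinOfCardEq hα).symm
  have hsn : s.card ≤ n := by
    rw [← hα]; exact Finset.card_le_univ s
  set t : Finset (Fin n) := Finset.univ.filter (fun i : Fin n => i.val < s.card) with ht
  have htc : t.card = s.card := by
    rw [ht, Fin.card_filter_val_lt]
    exact min_eq_right hsn
  set t' : Finset α := t.map e0.toEmbedding with ht'
  have ht'c : t'.card = s.card := by rw [ht', Finset.card_map, htc]
  let f : {x // x ∈ t'} ≃ {x // x ∈ s} := Finset.equivOfCardEq ht'c
  let σ : Equiv.Perm α := f.extendSubtype
  refine ⟨e0.trans σ, fun i => ?_⟩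
  have hi : e0 i ∈ t' ↔ i.val < s.card := by
    rw [ht', Finset.mem_map_equiv, Equiv.symm_apply_apply, ht, Finset.mem_filter]
    simp
  rw [Equiv.trans_apply, ← hi]
  constructor
  · intro h
    by_contra hn
    exact f.extendSubtype_not_mem _ hn h
  · intro h
    exact f.extendSubtype_mem _ h

theorem ofFn_threshold {L : Type*} (n w : ℕ) (hw : w ≤ n) (a b : L) :
    List.ofFn (fun i : Fin n => if i.val < w then a else b) =
      List.replicate w a ++ List.replicate (n - w) b := by
  apply List.ext_getElem
  · simp; omega
  · intro i h1 h2
    rw [List.getElem_ofFn, List.getElem_append]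
    by_cases h : i < w
    · simp [h]
    · simp [h]

/-- Position independence: with two labels `a` (on `s`) and `b` (off `s`), the count depends
only on `s.card`. -/
theorem encard_Sol_two {α : Type*} [Fintype α] [DecidableEq α] (V : ℕ → List ℤ)
    (hV : ∀ a, (V a).Nodup) (n : ℕ) (hα : Fintype.card α = n) (s : Finset α) (a b : ℕ)
    (r N : ℤ) :
    (Sol V (fun i : α => if i ∈ s then a else b) r N).encard =
      cnt V (stdL a b s.card (n - s.card)) r N := by
  obtain ⟨e, he⟩ := exists_equiv_threshold n hα s
  have hsn : s.card ≤ n := by
    rw [← hα]; exact Finset.card_le_univ s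
  rw [← encard_Sol_comp V e, stdL, ← ofFn_threshold n s.card hsn a b, ← encard_Sol V hV]
  congr 1
  congr 1
  funext i
  simp only [Function.comp_apply]
  by_cases h : i.val < s.card
  · rw [if_pos h, if_pos ((he i).2 h)]
  · rw [if_neg h, if_neg (fun h' => h ((he i).1 h'))]

end Cfsg.Agent.Lib.H27
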