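import Mathlib
import Cfsg.Agent.Lib.H27.Leech

/-!
helper27 library: a subgroup `A` of `Cfsg.leechLattice` with `2Λ ≤ A`, index `|golayCode|` and all
squared lengths divisible by 32 (given that the code is doubly even).
-/

set_option autoImplicit false

namespace Cfsg.Agent.Lib.H27

open Cfsg Finset

/-- Converse description: a vector with a description lies in `leechSet`. -/
theorem mem_leechSet_of_leechDesc {x : GolayPt → ℤ} {m : ℤ} {c : GolayPt → ZMod 2}
    (h : LeechDesc x m c) : x ∈ leechSet := by
  obtain ⟨hc, h1, h2⟩ := h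
  have hval : ∀ i, (c i = 0 ∧ ((c i).val : ℤ) = 0) ∨ (c i = 1 ∧ ((c i).val : ℤ) = 1) := by
    intro i
    have : ∀ a : ZMod 2, (a = 0 ∧ ((a.val : ℕ) : ℤ) = 0) ∨ (a = 1 ∧ ((a.val : ℕ) : ℤ) = 1) := by
      decide
    exact this _
  refine ⟨m, fun i => ?_, h2, fun k => ?_⟩
  · have := h1 i
    rcases hval i with ⟨_, hv⟩ | ⟨_, hv⟩ <;> rw [hv] at this <;> unfold Int.ModEq at * <;> omega
  · by_cases hk0 : k % 4 = m % 4
    · refine ⟨c + 1, golayCode.add_mem hc one_mem_golayCode, ?_⟩
      ext i
      simp only [support₂, mem_filter, mem_univ, true_and, Pi.add_apply, Pi.one_apply]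
      have := h1 i
      rcases hval i with ⟨hc0, hv⟩ | ⟨hc1, hv⟩
      · rw [hv] at this
        rw [hc0]
        constructor
        · intro _; unfold Int.ModEq at *; omega
        · intro _; decide
      · rw [hv] at this
        rw [hc1]
        constructor
        · intro h; exact absurd (by decide) h
        · intro h; exfalso; unfold Int.ModEq at *; omega
    · by_cases hk2 : k % 4 = (m + 2) % 4
      · refine ⟨c, hc, ?_⟩
        ext i
        simp only [support₂, mem_filter, mem_univ, true_and]
        have := h1 i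
        rcases hval i with ⟨hc0, hv⟩ | ⟨hc1, hv⟩
        · rw [hv] at this
          rw [hc0]
          constructor
          · intro h; exact absurd rfl h
          · intro h; exfalso; unfold Int.ModEq at *; omega
        · rw [hv] at this
          rw [hc1]
          constructor
          · intro _; unfold Int.ModEq at *; omega
          · intro _; decide
      · refine ⟨0, golayCode.zero_mem, ?_⟩
        ext i
        simp only [support₂, mem_filter, mem_univ, true_and, Pi.zero_apply]
        have := h1 i
        constructor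
        · intro h; exact absurd rfl h
        · intro h; exfalso
          rcases hval i with ⟨_, hv⟩ | ⟨_, hv⟩ <;> rw [hv] at this <;> unfold Int.ModEq at * <;> omega

theorem mem_leechLattice_of_leechDesc {x : GolayPt → ℤ} {m : ℤ} {c : GolayPt → ZMod 2}
    (h : LeechDesc x m c) : x ∈ leechLattice :=
  AddSubgroup.subset_closure (mem_leechSet_of_leechDesc h)

/-- doubling map `ZMod 2 → ZMod 4` -/
def dbl : ZMod 2 →+ ZMod 4 :=
  AddMonoidHom.mk' (fun a => 2 * (a.val : ZMod 4)) (by decide)

theorem dbl_injective : Function.Injective dbl := by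
  intro a b; revert a b; decide

theorem dbl_apply (a : ZMod 2) : dbl a = 2 * (a.val : ZMod 4) := rfl

/-- The globally additive map `x ↦ (2 x_∞; x_i - x_∞)` to `(ZMod 4)^24`. -/
def Theta : (GolayPt → ℤ) →+ (GolayPt → ZMod 4) where
  toFun x := fun i => if i = none then 2 * (x none : ZMod 4) else ((x i - x none : ℤ) : ZMod 4)
  map_zero' := by funext i; simp
  map_add' x y := by
    funext i
    simp only [Pi.add_apply]
    split_ifs
    · push_cast; ring
    · push_cast; ring

/-- The additive injection `(ZMod 2)^24 → (ZMod 4)^24`, `w ↦ (2 w_∞; 2 (w_i + w_∞))`. -/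
def Nu : (GolayPt → ZMod 2) →+ (GolayPt → ZMod 4) where
  toFun w := fun i => if i = none then dbl (w none) else dbl (w i + w none)
  map_zero' := by funext i; simp
  map_add' w w' := by
    funext i
    simp only [Pi.add_apply]
    split_ifs
    · rw [map_add]
    · rw [← map_add]; congr 1; ring

theorem Nu_injective : Function.Injective Nu := by
  rw [injective_iff_map_eq_zero]
  intro w hw
  have h0 : w none = 0 := by
    have := congrFun hw none
    simp only [Nu, AddMonoidHom.coe_mk, ZeroHom.coe_mk, if_true, Pi.zero_apply] at this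
    rw [← map_zero dbl] at this
    exact dbl_injective this
  funext i
  by_cases hi : i = none
  · rw [hi]; exact h0
  · have := congrFun hw i
    simp only [Nu, AddMonoidHom.coe_mk, ZeroHom.coe_mk, if_neg hi, Pi.zero_apply, h0, add_zero]
      at this
    rw [← map_zero dbl] at this
    exact dbl_injective this

theorem int_cast_zmod4_eq {a b : ℤ} (h : a ≡ b [ZMOD 4]) : (a : ZMod 4) = (b : ZMod 4) :=
  (ZMod.intCast_eq_intCast_iff a b 4).mpr h

theorem dbl_eq_cast (a : ZMod 2) : dbl a = ((2 * (a.val : ℤ) : ℤ) : ZMod 4) := by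
  rw [dbl_apply]; push_cast; rfl

/-- The image of the lattice under `Theta` is the image of the code under `Nu`. -/
theorem map_Theta_eq (hde : ∀ c ∈ golayCode, 4 ∣ (support₂ c).card) :
    leechLattice.map Theta = golayCode.toAddSubgroup.map Nu := by
  apply le_antisymm
  · rintro _ ⟨x, hx, rfl⟩
    obtain ⟨m, c, hc, h1, h2⟩ := exists_leechDesc hx
    refine ⟨c + fun _ => (c none + (m : ZMod 2)), ?_, ?_⟩
    · apply golayCode.add_mem hc
      have : (fun _ : GolayPt => (c none + (m : ZMod 2))) = (c none + (m : ZMod 2)) • (1 : GolayPt → ZMod 2) := by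
        funext i; simp
      rw [this]
      exact golayCode.smul_mem _ one_mem_golayCode
    · funext i
      have hn := h1 none
      by_cases hi : i = none
      · subst hi
        simp only [Nu, Theta, AddMonoidHom.coe_mk, ZeroHom.coe_mk, if_true, Pi.add_apply]
        have e : c none + (c none + (m : ZMod 2)) = (m : ZMod 2) := by
          have : ∀ a b : ZMod 2, a + (a + b) = b := by decide
          exact this _ _
        rw [e, dbl_eq_cast]
        have h2m : (2 * (((m : ZMod 2)).val : ℤ) : ℤ) ≡ 2 * x none [ZMOD 4] := by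
          have hv : (((m : ZMod 2)).val : ℤ) = m % 2 := by
            rw [ZMod.val_intCast]; rfl
          rw [hv]
          have hcv : (c none).val < 2 := ZMod.val_lt _
          unfold Int.ModEq at *
          omega
        rw [int_cast_zmod4_eq h2m]
        push_cast; rfl
      · simp only [Nu, Theta, AddMonoidHom.coe_mk, ZeroHom.coe_mk, if_neg hi, Pi.add_apply]
        have e : c i + (c none + (m : ZMod 2)) + (c none + (c none + (m : ZMod 2))) = c i + c none := by
          have : ∀ a b d : ZMod 2, a + (b + d) + (b + (b + d)) = a + b := by decide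
          exact this _ _ _
        rw [e, dbl_eq_cast]
        apply int_cast_zmod4_eq
        have hi1 := h1 i
        have h3 := two_val_add (c i) (c none)
        have hcv : (c none).val < 2 := ZMod.val_lt _
        unfold Int.ModEq at *
        omega
  · rintro _ ⟨w, hw, rfl⟩
    have hw' : w ∈ golayCode := hw
    -- m = w none (0 or 1), c = w + m • 1
    obtain ⟨c, hcdef⟩ : ∃ c : GolayPt → ZMod 2, c = w + fun _ => w none := ⟨_, rfl⟩
    have hc : c ∈ golayCode := by
      rw [hcdef]
      apply golayCode.add_mem hw'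
      have : (fun _ : GolayPt => w none) = (w none) • (1 : GolayPt → ZMod 2) := by
        funext i; simp
      rw [this]
      exact golayCode.smul_mem _ one_mem_golayCode
    have hcn : c none = 0 := by
      rw [hcdef]
      have : ∀ a : ZMod 2, a + a = 0 := by decide
      exact this _
    obtain ⟨m, hmdef⟩ : ∃ m : ℤ, m = ((w none).val : ℤ) := ⟨_, rfl⟩
    have hm01 : m = 0 ∨ m = 1 := by
      have : (w none).val < 2 := ZMod.val_lt _
      omega
    let j₀ : GolayPt := some 0
    have hj₀ : j₀ ≠ none := by decide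
    obtain ⟨x, hxdef⟩ : ∃ x : GolayPt → ℤ,
        x = fun i => m + 2 * ((c i).val : ℤ) - (if i = j₀ then 4 * m else 0) := ⟨_, rfl⟩
    have hsum : ∑ i, x i = 24 * m + 2 * ((support₂ c).card : ℤ) - 4 * m := by
      rw [hxdef]
      simp only [sum_sub_distrib, sum_add_distrib, sum_const, card_univ, card_golayPt,
        ← mul_sum, sum_val_eq_card, sum_ite_eq', mem_univ, if_true]
      simp
    have hdesc : LeechDesc x m c := by
      refine ⟨hc, fun i => ?_, ?_⟩
      · rw [hxdef]
        simp only
        split_ifs <;> unfold Int.ModEq <;> omega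
      · rw [hsum]
        obtain ⟨t, ht⟩ := hde c hc
        rw [ht]
        push_cast
        unfold Int.ModEq
        omega
    refine ⟨x, mem_leechLattice_of_leechDesc hdesc, ?_⟩
    have hxn : x none = m := by
      rw [hxdef]
      simp only [hcn, ZMod.val_zero, Nat.cast_zero, mul_zero, add_zero]
      rw [if_neg (Ne.symm hj₀), sub_zero]
    funext i
    by_cases hi : i = none
    · subst hi
      simp only [Nu, Theta, AddMonoidHom.coe_mk, ZeroHom.coe_mk, if_true]
      rw [hxn, dbl_eq_cast, hmdef]
      push_cast; rfl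
    · simp only [Nu, Theta, AddMonoidHom.coe_mk, ZeroHom.coe_mk, if_neg hi]
      have e : w i + w none = c i := by rw [hcdef]; rfl
      rw [e, dbl_eq_cast, hxn]
      apply int_cast_zmod4_eq
      rw [hxdef]
      simp only
      split_ifs <;> unfold Int.ModEq <;> omega

/-- The subgroup `A`: lattice vectors with `x_∞` even and all `x_i ≡ x_∞ (mod 4)`. -/
def leechA : AddSubgroup (GolayPt → ℤ) := leechLattice ⊓ Theta.ker

theorem leechA_le : leechA ≤ leechLattice := inf_le_left

theorem parity_of_mem {x : GolayPt → ℤ} (hx : x ∈ leechLattice) (i j : GolayPt) :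
    (x i - x j) % 2 = 0 := by
  obtain ⟨m, c, hc, h1, h2⟩ := exists_leechDesc hx
  have hi := h1 i
  have hj := h1 j
  unfold Int.ModEq at *
  omega

theorem two_smul_mem_leechA {v : GolayPt → ℤ} (hv : v ∈ leechLattice) : (2 : ℤ) • v ∈ leechA := by
  refine AddSubgroup.mem_inf.mpr ⟨leechLattice.zsmul_mem hv 2, ?_⟩
  rw [AddMonoidHom.mem_ker]
  funext i
  by_cases hi : i = none
  · subst hi
    simp only [Theta, AddMonoidHom.coe_mk, ZeroHom.coe_mk, if_true, Pi.smul_apply, smul_eq_mul,
      Pi.zero_apply]
    push_cast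
    have : (2 : ZMod 4) * 2 = 0 := by decide
    rw [← mul_assoc, this, zero_mul]
  · simp only [Theta, AddMonoidHom.coe_mk, ZeroHom.coe_mk, if_neg hi, Pi.smul_apply, smul_eq_mul,
      Pi.zero_apply]
    have hp := parity_of_mem hv i none
    have : (2 * v i - 2 * v none : ℤ) ≡ 0 [ZMOD 4] := by
      unfold Int.ModEq
      omega
    rw [int_cast_zmod4_eq this]
    simp

theorem relIndex_leechA (hde : ∀ c ∈ golayCode, 4 ∣ (support₂ c).card) :
    leechA.relIndex leechLattice = Nat.card golayCode := by
  unfold leechA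
  rw [inf_comm, AddSubgroup.inf_relIndex_right, AddSubgroup.relIndex_ker, map_Theta_eq hde,
    AddSubgroup.card_map_of_injective Nu_injective]
  rfl

theorem sq_mod_32_of_mod4_zero (a : ℤ) (h : a % 4 = 0) : (a ^ 2 - 4 * a) % 32 = 0 := by
  obtain ⟨y, rfl⟩ : ∃ y, a = 4 * y := ⟨a / 4, by omega⟩
  have h2 : (y * (y - 1)) % 2 = 0 := by
    rcases Int.emod_two_eq_zero_or_one y with h | h
    · have : (2 : ℤ) ∣ y := Int.dvd_of_emod_eq_zero h
      exact Int.emod_eq_zero_of_dvd (Dvd.dvd.mul_right this _)
    · have : (2 : ℤ) ∣ y - 1 := Int.dvd_of_emod_eq_zero (by omega)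
      exact Int.emod_eq_zero_of_dvd (Dvd.dvd.mul_left this _)
  obtain ⟨t, ht⟩ : ∃ t, y * (y - 1) = 2 * t := ⟨y * (y - 1) / 2, by omega⟩
  have : (4 * y) ^ 2 - 4 * (4 * y) = 32 * t := by
    have : (4 * y) ^ 2 - 4 * (4 * y) = 16 * (y * (y - 1)) := by ring
    rw [this, ht]; ring
  rw [this]; simp

theorem sq_mod_32_of_mod4_two (a : ℤ) (h : a % 4 = 2) : (a ^ 2 - 4) % 32 = 0 := by
  obtain ⟨y, rfl⟩ : ∃ y, a = 4 * y + 2 := ⟨a / 4, by omega⟩
  have h2 : (y * (y + 1)) % 2 = 0 := by
    rcases Int.emod_two_eq_zero_or_one y with h | h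
    · have : (2 : ℤ) ∣ y := Int.dvd_of_emod_eq_zero h
      exact Int.emod_eq_zero_of_dvd (Dvd.dvd.mul_right this _)
    · have : (2 : ℤ) ∣ y + 1 := Int.dvd_of_emod_eq_zero (by omega)
      exact Int.emod_eq_zero_of_dvd (Dvd.dvd.mul_left this _)
  obtain ⟨t, ht⟩ : ∃ t, y * (y + 1) = 2 * t := ⟨y * (y + 1) / 2, by omega⟩
  have : (4 * y + 2) ^ 2 - 4 = 32 * t := by
    have : (4 * y + 2) ^ 2 - 4 = 16 * (y * (y + 1)) := by ring
    rw [this, ht]; ring
  rw [this]; simp

theorem sqNorm_dvd_of_mem_leechA {v : GolayPt → ℤ} (hv : v ∈ leechA) : (32 : ℤ) ∣ sqNorm v := by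
  obtain ⟨hvL, hvK⟩ := AddSubgroup.mem_inf.mp hv
  rw [AddMonoidHom.mem_ker] at hvK
  have hnone : (2 * v none) % 4 = 0 := by
    have := congrFun hvK none
    simp only [Theta, AddMonoidHom.coe_mk, ZeroHom.coe_mk, if_true, Pi.zero_apply] at this
    have h2 : ((2 * v none : ℤ) : ZMod 4) = ((0 : ℤ) : ZMod 4) := by push_cast; exact this
    have := (ZMod.intCast_eq_intCast_iff _ _ 4).mp h2
    unfold Int.ModEq at this
    omega
  have hdiff : ∀ i, (v i - v none) % 4 = 0 := by
    intro i
    by_cases hi : i = none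
    · subst hi; simp
    · have := congrFun hvK i
      simp only [Theta, AddMonoidHom.coe_mk, ZeroHom.coe_mk, if_neg hi, Pi.zero_apply] at this
      have h2 : ((v i - v none : ℤ) : ZMod 4) = ((0 : ℤ) : ZMod 4) := by push_cast; push_cast at this; exact this
      have := (ZMod.intCast_eq_intCast_iff _ _ 4).mp h2
      unfold Int.ModEq at this
      omega
  obtain ⟨m, c, hc, h1, h2⟩ := exists_leechDesc hvL
  have hsum8 : (∑ i, v i) % 8 = 0 := by
    have hn := h1 none
    have hcv : (c none).val < 2 := ZMod.val_lt _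
    unfold Int.ModEq at *
    omega
  apply Int.dvd_of_emod_eq_zero
  rcases (by omega : v none % 4 = 0 ∨ v none % 4 = 2) with h0 | h2'
  · -- all coordinates ≡ 0 mod 4: sqNorm ≡ 4 * sum
    have hall : ∀ i, v i % 4 = 0 := fun i => by have := hdiff i; omega
    have key : (sqNorm v - 4 * ∑ i, v i) % 32 = 0 := by
      unfold sqNorm
      rw [mul_sum, ← sum_sub_distrib]
      apply Int.emod_eq_zero_of_dvd
      apply dvd_sum
      intro i _
      exact Int.dvd_of_emod_eq_zero (sq_mod_32_of_mod4_zero _ (hall i))
    omega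
  · have hall : ∀ i, v i % 4 = 2 := fun i => by have := hdiff i; omega
    have key : (sqNorm v - ∑ _i : GolayPt, (4 : ℤ)) % 32 = 0 := by
      unfold sqNorm
      rw [← sum_sub_distrib]
      apply Int.emod_eq_zero_of_dvd
      apply dvd_sum
      intro i _
      exact Int.dvd_of_emod_eq_zero (sq_mod_32_of_mod4_two _ (hall i))
    rw [sum_const, card_univ, card_golayPt] at key
    simp only [nsmul_eq_mul, Nat.cast_ofNat] at key
    omega

end Cfsg.Agent.Lib.H27
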