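import Mathlib
import Cfsg.Prelude.Def_Sporadic_a
import Cfsg.Agent.Lib.H27.Leech
import Cfsg.Agent.Lib.H27.Leech2
import Cfsg.Agent.Lib.H27.GolayFacts
import Cfsg.Agent.Lib.H27.CountStd
import Cfsg.Agent.Lib.H28.Steiner
import Cfsg.Agent.Lib.H28.GolayConcrete

/-!
helper27 library: the vectors of `Cfsg.leechLattice` of given squared length `N ≤ 64` are
partitioned according to parity `m` and code word `c`; each part is a solution set `Sol` of
`CountDP`, whose size only depends on the weight of `c`.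
-/

set_option autoImplicit false

namespace Cfsg.Agent.Lib.H27

open Cfsg Finset Cfsg.Agent.Lib.H28

/-- Vectors of parity `m` described by the code word `c`, of squared length `N`, with all
coordinates in `[-B, B]`. -/
def Fib (m : ℤ) (c : GolayPt → ZMod 2) (N B : ℤ) : Set (GolayPt → ℤ) :=
  {x | LeechDesc x m c ∧ sqNorm x = N ∧ ∀ i, -B ≤ x i ∧ x i ≤ B}

theorem mem_vals_full (a : ℕ) (ha : a < 4) (v : ℤ) :
    v ∈ vals a ↔ v % 4 = a ∧ -8 ≤ v ∧ v ≤ 8 := by
  interval_cases a <;> simp [vals] <;> constructor <;> intro h <;> omega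

theorem mem_vals_restr (a : ℕ) (ha : a < 4) (v : ℤ) :
    v ∈ vals (4 + a) ↔ v % 4 = a ∧ -3 ≤ v ∧ v ≤ 3 := by
  interval_cases a <;> simp [vals] <;> constructor <;> intro h <;> omega

theorem val_of_mem_support₂ {c : GolayPt → ZMod 2} {i : GolayPt} (h : i ∈ support₂ c) :
    ((c i).val : ℤ) = 1 := by
  have h' : c i ≠ 0 := by simpa [support₂] using h
  have : ∀ a : ZMod 2, a ≠ 0 → ((a.val : ℕ) : ℤ) = 1 := by decide
  exact this _ h'

theorem val_of_not_mem_support₂ {c : GolayPt → ZMod 2} {i : GolayPt} (h : i ∉ support₂ c) :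
    ((c i).val : ℤ) = 0 := by
  have h' : c i = 0 := by simpa [support₂] using h
  rw [h']; rfl

/-- The part `Fib` as a solution set (`o = 0, B = 8`: all values; `o = 4, B = 3`: restricted). -/
theorem Fib_eq_Sol (mn on : ℕ) (B : ℤ) (hm : mn = 0 ∨ mn = 1)
    (ho : (on = 0 ∧ B = 8) ∨ (on = 4 ∧ B = 3)) {c : GolayPt → ZMod 2} (hc : c ∈ golayCode)
    (N : ℤ) :
    Fib (mn : ℤ) c N B =
      Sol vals (fun i : GolayPt => if i ∈ support₂ c then on + mn + 2 else on + mn)
        (4 * (mn : ℤ)) N := by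
  ext x
  simp only [Fib, Sol, Set.mem_ofPred_eq]
  constructor
  · rintro ⟨⟨_, h1, h2⟩, h3, h4⟩
    refine ⟨fun i => ?_, h2, h3⟩
    have h1i := h1 i
    have h4i := h4 i
    unfold Int.ModEq at h1i
    by_cases hi : i ∈ support₂ c
    · rw [if_pos hi]
      rw [val_of_mem_support₂ hi] at h1i
      rcases ho with ⟨rfl, rfl⟩ | ⟨rfl, rfl⟩
      · rw [zero_add, mem_vals_full _ (by omega)]
        push_cast
        rcases hm with rfl | rfl <;> omega
      · rw [add_assoc, mem_vals_restr _ (by omega)]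
        push_cast
        rcases hm with rfl | rfl <;> omega
    · rw [if_neg hi]
      rw [val_of_not_mem_support₂ hi] at h1i
      rcases ho with ⟨rfl, rfl⟩ | ⟨rfl, rfl⟩
      · rw [zero_add, mem_vals_full _ (by omega)]
        rcases hm with rfl | rfl <;> omega
      · rw [mem_vals_restr _ (by omega)]
        rcases hm with rfl | rfl <;> omega
  · rintro ⟨h1, h2, h3⟩
    have key : ∀ i, (x i ≡ (mn : ℤ) + 2 * ((c i).val : ℤ) [ZMOD 4]) ∧ (-B ≤ x i ∧ x i ≤ B) := by
      intro i
      have h1i := h1 i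
      unfold Int.ModEq
      by_cases hi : i ∈ support₂ c
      · rw [if_pos hi] at h1i
        rw [val_of_mem_support₂ hi]
        rcases ho with ⟨rfl, rfl⟩ | ⟨rfl, rfl⟩
        · rw [zero_add, mem_vals_full _ (by omega)] at h1i
          push_cast at h1i
          rcases hm with rfl | rfl <;> omega
        · rw [add_assoc, mem_vals_restr _ (by omega)] at h1i
          push_cast at h1i
          rcases hm with rfl | rfl <;> omega
      · rw [if_neg hi] at h1i
        rw [val_of_not_mem_support₂ hi]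
        rcases ho with ⟨rfl, rfl⟩ | ⟨rfl, rfl⟩
        · rw [zero_add, mem_vals_full _ (by omega)] at h1i
          rcases hm with rfl | rfl <;> omega
        · rw [mem_vals_restr _ (by omega)] at h1i
          rcases hm with rfl | rfl <;> omega
    exact ⟨⟨hc, fun i => (key i).1, h2⟩, h3, fun i => (key i).2⟩

theorem encard_Fib (mn on : ℕ) (B : ℤ) (hm : mn = 0 ∨ mn = 1)
    (ho : (on = 0 ∧ B = 8) ∨ (on = 4 ∧ B = 3)) {c : GolayPt → ZMod 2} (hc : c ∈ golayCode)
    (N : ℤ) :
    (Fib (mn : ℤ) c N B).encard =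
      cnt vals (stdL (on + mn + 2) (on + mn) (support₂ c).card (24 - (support₂ c).card))
        (4 * (mn : ℤ)) N := by
  rw [Fib_eq_Sol mn on B hm ho hc N]
  exact encard_Sol_two vals vals_nodup 24 card_golayPt (support₂ c) _ _ _ _

/-- Two descriptions of the same vector with the same parity have the same code word. -/
theorem leechDesc_unique {x : GolayPt → ℤ} {m : ℤ} {c c' : GolayPt → ZMod 2}
    (h : LeechDesc x m c) (h' : LeechDesc x m c') : c = c' := by
  funext i
  have h1 := h.2.1 i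
  have h2 := h'.2.1 i
  have key : ∀ a b : ZMod 2, (2 * ((a.val : ℕ) : ℤ)) % 4 = (2 * ((b.val : ℕ) : ℤ)) % 4 → a = b := by
    decide
  apply key
  unfold Int.ModEq at h1 h2
  omega

theorem leechDesc_parity {x : GolayPt → ℤ} {c c' : GolayPt → ZMod 2}
    (h : LeechDesc x 0 c) (h' : LeechDesc x 1 c') : False := by
  have h1 := h.2.1 none
  have h2 := h'.2.1 none
  unfold Int.ModEq at h1 h2
  omega

theorem encard_biUnion_finset {α β : Type*} [DecidableEq β] (s : Finset β) (f : β → Set α)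
    (hd : ∀ b ∈ s, ∀ b' ∈ s, b ≠ b' → Disjoint (f b) (f b')) :
    (⋃ b ∈ s, f b).encard = ∑ b ∈ s, (f b).encard := by
  induction s using Finset.induction_on with
  | empty => simp
  | insert x s hx ih =>
    rw [Finset.set_biUnion_insert, Set.encard_union_eq, Finset.sum_insert hx, ih]
    · intro b hb b' hb' hne
      exact hd b (Finset.mem_insert_of_mem hb) b' (Finset.mem_insert_of_mem hb') hne
    · rw [Set.disjoint_iUnion₂_right]
      intro b hb
      apply hd x (Finset.mem_insert_self _ _) b (Finset.mem_insert_of_mem hb)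
      rintro rfl
      exact hx hb

/-- The code words, as a finset. -/
noncomputable def golayF : Finset (GolayPt → ZMod 2) :=
  haveI : DecidablePred (· ∈ golayCode) := Classical.decPred _
  Finset.univ.filter (· ∈ golayCode)

theorem mem_golayF {c : GolayPt → ZMod 2} : c ∈ golayF ↔ c ∈ golayCode := by
  unfold golayF
  simp

/-- Lattice vectors of parity `m`, squared length `N`, coordinates in `[-B, B]`. -/
def Par (m : ℤ) (N B : ℤ) : Set (GolayPt → ℤ) := ⋃ c ∈ golayF, Fib m c N B

theorem encard_Par (mn on : ℕ) (B : ℤ) (hm : mn = 0 ∨ mn = 1)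
    (ho : (on = 0 ∧ B = 8) ∨ (on = 4 ∧ B = 3)) (N : ℤ) (a b : ℕ) (r : ℤ)
    (ha : a = on + mn + 2) (hb : b = on + mn) (hr : r = 4 * (mn : ℤ)) :
    (Par (mn : ℤ) N B).encard =
      ((∑ c ∈ golayF, cnt vals (stdL a b (support₂ c).card
        (24 - (support₂ c).card)) r N : ℕ) : ℕ∞) := by
  classical
  subst ha hb hr
  unfold Par
  rw [encard_biUnion_finset, Nat.cast_sum]
  · apply Finset.sum_congr rfl
    intro c hc
    exact encard_Fib mn on B hm ho (mem_golayF.1 hc) N
  · intro c _ c' _ hne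
    rw [Set.disjoint_left]
    rintro x ⟨h1, _⟩ ⟨h2, _⟩
    exact hne (leechDesc_unique h1 h2)

theorem disjoint_Par (N B N' B' : ℤ) : Disjoint (Par 0 N B) (Par 1 N' B') := by
  rw [Set.disjoint_left]
  intro x h1 h2
  simp only [Par, Set.mem_iUnion, exists_prop] at h1 h2
  obtain ⟨c, _, hc, _⟩ := h1
  obtain ⟨c', _, hc', _⟩ := h2
  exact leechDesc_parity hc hc'

theorem abs_le_of_sq_le_64 {v : ℤ} (h : v ^ 2 ≤ 64) : -8 ≤ v ∧ v ≤ 8 := by
  constructor <;> nlinarith

/-- All lattice vectors of squared length `N ≤ 64`. -/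
theorem leech_norm_eq_union (N : ℤ) (hN : N ≤ 64) :
    {x : GolayPt → ℤ | x ∈ leechLattice ∧ sqNorm x = N} = Par 0 N 8 ∪ Par 1 N 8 := by
  ext x
  simp only [Set.mem_ofPred_eq, Set.mem_union, Par, Set.mem_iUnion, exists_prop, Fib]
  constructor
  · rintro ⟨hx, hn⟩
    obtain ⟨m, c, hm, hd⟩ := exists_leechDesc_normal hx
    have hb : ∀ i, -8 ≤ x i ∧ x i ≤ 8 := by
      intro i
      apply abs_le_of_sq_le_64
      have := sqNorm_ge_single x i
      omega
    rcases hm with rfl | rfl
    · exact Or.inl ⟨c, mem_golayF.2 hd.1, hd, hn, hb⟩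
    · exact Or.inr ⟨c, mem_golayF.2 hd.1, hd, hn, hb⟩
  · rintro (⟨c, _, hd, hn, _⟩ | ⟨c, _, hd, hn, _⟩)
    · exact ⟨mem_leechLattice_of_leechDesc hd, hn⟩
    · exact ⟨mem_leechLattice_of_leechDesc hd, hn⟩

end Cfsg.Agent.Lib.H27
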