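import Mathlib
import Cfsg.Prelude.Def_Sporadic_a
import Cfsg.Agent.Lib.H27.Leech
import Cfsg.Agent.Lib.H27.GolayFacts
import Cfsg.Agent.Lib.H27.LeechCount
import Cfsg.Agent.Lib.H28.Steiner
import Cfsg.Agent.Lib.H28.GolayConcrete

/-!
helper27 library: the weight enumerator of `Cfsg.golayCode`:
`1 + 759 x^8 + 2576 x^12 + 759 x^16 + x^24`, in the form of a summation formula over the code.
-/

set_option autoImplicit false

namespace Cfsg.Agent.Lib.H27

open Cfsg Finset Cfsg.Agent.Lib.H28

/-- Number of code words of weight `w`. -/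
noncomputable def nW (w : ℕ) : ℕ := (golayF.filter fun c => (support₂ c).card = w).card

theorem card_golayF : golayF.card = 4096 := by
  have h : ((golayF : Finset (GolayPt → ZMod 2)) : Set (GolayPt → ZMod 2)) = (golayCode : Set _) := by
    ext c
    simp [mem_golayF]
  rw [← Set.ncard_coe_finset, h, ← Nat.card_coe_set_eq]
  exact golay_card

theorem support₂_injective : Function.Injective (support₂ : (GolayPt → ZMod 2) → Finset GolayPt) := by
  intro u v h
  apply supp_injective
  rw [supp_eq_support₂, supp_eq_support₂, h]

theorem nW_zero : nW 0 = 1 := by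
  unfold nW
  rw [Finset.card_eq_one]
  refine ⟨0, ?_⟩
  ext c
  simp only [mem_filter, mem_golayF, mem_singleton, Finset.card_eq_zero]
  constructor
  · rintro ⟨_, h⟩
    rw [← supp_eq_support₂, supp_eq_empty] at h
    exact h
  · rintro rfl
    refine ⟨golayCode.zero_mem, ?_⟩
    rw [← supp_eq_support₂, supp_zero]

theorem support₂_one : support₂ (1 : GolayPt → ZMod 2) = Finset.univ := by
  ext i
  simp [support₂]

theorem nW_full : nW 24 = 1 := by
  unfold nW
  rw [Finset.card_eq_one]
  refine ⟨1, ?_⟩
  ext c
  simp only [mem_filter, mem_golayF, mem_singleton]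
  constructor
  · rintro ⟨_, h⟩
    have h2 : support₂ c = Finset.univ := by
      apply Finset.eq_univ_of_card
      rw [h, card_golayPt]
    apply support₂_injective
    rw [h2, support₂_one]
  · rintro rfl
    refine ⟨one_mem_golayCode, ?_⟩
    rw [support₂_one, Finset.card_univ, card_golayPt]

theorem card_support₂_add_one (c : GolayPt → ZMod 2) :
    (support₂ (c + 1)).card + (support₂ c).card = 24 := by
  have h : support₂ (c + 1) = (support₂ c)ᶜ := by
    ext i
    simp only [support₂, mem_filter, mem_univ, true_and, Pi.add_apply, Pi.one_apply, mem_compl,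
      not_not]
    have : ∀ a : ZMod 2, a + 1 ≠ 0 ↔ a = 0 := by decide
    exact this _
  rw [h, Finset.card_compl, card_golayPt]
  have : (support₂ c).card ≤ 24 := by
    rw [← card_golayPt]; exact Finset.card_le_univ _
  omega

theorem nW_compl (w : ℕ) (hw : w ≤ 24) : nW (24 - w) = nW w := by
  unfold nW
  apply Finset.card_bij (fun c _ => c + 1)
  · intro c hc
    rw [mem_filter, mem_golayF] at hc ⊢
    refine ⟨golayCode.add_mem hc.1 one_mem_golayCode, ?_⟩
    have := card_support₂_add_one c
    omega
  · intro c _ c' _ h
    exact add_right_cancel h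
  · intro c hc
    rw [mem_filter, mem_golayF] at hc
    refine ⟨c + 1, ?_, ?_⟩
    · rw [mem_filter, mem_golayF]
      refine ⟨golayCode.add_mem hc.1 one_mem_golayCode, ?_⟩
      have := card_support₂_add_one c
      omega
    · rw [add_assoc]
      have : (1 : GolayPt → ZMod 2) + 1 = 0 := by
        funext i; simp only [Pi.add_apply, Pi.one_apply, Pi.zero_apply]; decide
      rw [this, add_zero]

theorem nW_eight : nW 8 = 759 := by
  classical
  have h1 := steiner_count octads_isSteinerSystem (∅ : Finset GolayPt) (by simp)
  simp only [Finset.card_empty, Nat.sub_zero, Finset.empty_subset, Finset.filter_true,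
    card_golayPt] at h1
  have h2 : (blocksF octads).card = 759 := by
    have e1 : Nat.choose 8 5 = 56 := by decide
    have e2 : Nat.choose 24 5 = 42504 := by decide
    rw [e1, e2] at h1
    omega
  rw [← h2]
  unfold nW
  apply Finset.card_bij (fun c _ => support₂ c)
  · intro c hc
    rw [mem_filter, mem_golayF] at hc
    rw [mem_blocksF]
    exact ⟨⟨c, hc.1, rfl⟩, hc.2⟩
  · intro c _ c' _ h
    exact support₂_injective h
  · intro b hb
    rw [mem_blocksF] at hb
    obtain ⟨⟨c, hc, rfl⟩, hcard⟩ := hb
    exact ⟨c, by rw [mem_filter, mem_golayF]; exact ⟨hc, hcard⟩, rfl⟩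

theorem weight_mem {c : GolayPt → ZMod 2} (hc : c ∈ golayF) :
    (support₂ c).card ∈ ({0, 8, 12, 16, 24} : Finset ℕ) := by
  rw [mem_golayF] at hc
  rw [card_support₂_eq]
  simp only [Finset.mem_insert, Finset.mem_singleton]
  exact golayCode_weight hc

/-- Summation over the code of a function of the weight. -/
theorem sum_golayF (F : ℕ → ℕ) :
    ∑ c ∈ golayF, F (support₂ c).card
      = F 0 + 759 * F 8 + 2576 * F 12 + 759 * F 16 + F 24 := by
  classical
  have key : ∀ G : ℕ → ℕ, ∑ c ∈ golayF, G (support₂ c).card
      = nW 0 * G 0 + nW 8 * G 8 + nW 12 * G 12 + nW 16 * G 16 + nW 24 * G 24 := by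
    intro G
    rw [← Finset.sum_fiberwise_of_maps_to (t := ({0, 8, 12, 16, 24} : Finset ℕ))
      (g := fun c => (support₂ c).card) (fun c hc => weight_mem hc)]
    have inner : ∀ w : ℕ, ∑ c ∈ golayF.filter (fun c => (support₂ c).card = w),
        G (support₂ c).card = nW w * G w := by
      intro w
      unfold nW
      rw [Finset.sum_congr rfl (fun c hc => by rw [(mem_filter.1 hc).2] :
        ∀ c ∈ golayF.filter (fun c => (support₂ c).card = w), G (support₂ c).card = G w)]
      rw [Finset.sum_const, smul_eq_mul]
    simp only [inner]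
    rw [Finset.sum_insert (by decide), Finset.sum_insert (by decide), Finset.sum_insert (by decide),
      Finset.sum_insert (by decide), Finset.sum_singleton]
    ring
  have h16 : nW 16 = 759 := by
    have := nW_compl 8 (by norm_num)
    rw [← nW_eight, ← this]
  have h12 : nW 12 = 2576 := by
    have h := key (fun _ => 1)
    simp only [Finset.sum_const, smul_eq_mul, mul_one, card_golayF] at h
    rw [nW_zero, nW_eight, h16, nW_full] at h
    omega
  rw [key F, nW_zero, nW_eight, h12, h16, nW_full]
  ring

end Cfsg.Agent.Lib.H27
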