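import Mathlib
import Cfsg.Prelude.Def_Sporadic_a
import Cfsg.Agent.Lib.H27.LeechCount
import Cfsg.Agent.Lib.H27.GolayEnum
import Cfsg.Agent.Lib.H27.CountTabsE
import Cfsg.Agent.Lib.H27.CountTabsO

/-!
helper27 library: the numbers of lattice vectors of squared length 32, 48, 64.
-/

set_option autoImplicit false

namespace Cfsg.Agent.Lib.H27

open Cfsg Finset

theorem ncard_Par_even_full (N : ℤ) :
    (Par 0 N 8).encard = ((cnt vals (stdL 2 0 0 24) 0 N + 759 * cnt vals (stdL 2 0 8 16) 0 N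
      + 2576 * cnt vals (stdL 2 0 12 12) 0 N + 759 * cnt vals (stdL 2 0 16 8) 0 N
      + cnt vals (stdL 2 0 24 0) 0 N : ℕ) : ℕ∞) := by
  have h := encard_Par 0 0 8 (Or.inl rfl) (Or.inl ⟨rfl, rfl⟩) N 2 0 0 rfl rfl (by norm_num)
  rw [sum_golayF (fun w => cnt vals (stdL 2 0 w (24 - w)) 0 N)] at h
  exact h

theorem ncard_Par_odd_full (N : ℤ) :
    (Par 1 N 8).encard = ((cnt vals (stdL 3 1 0 24) 4 N + 759 * cnt vals (stdL 3 1 8 16) 4 N
      + 2576 * cnt vals (stdL 3 1 12 12) 4 N + 759 * cnt vals (stdL 3 1 16 8) 4 N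
      + cnt vals (stdL 3 1 24 0) 4 N : ℕ) : ℕ∞) := by
  have h := encard_Par 1 0 8 (Or.inr rfl) (Or.inl ⟨rfl, rfl⟩) N 3 1 4 rfl rfl (by norm_num)
  rw [sum_golayF (fun w => cnt vals (stdL 3 1 w (24 - w)) 4 N)] at h
  exact h

theorem leech_count (N : ℤ) (hN : N ≤ 64) :
    {x : GolayPt → ℤ | x ∈ leechLattice ∧ sqNorm x = N}.encard =
      ((cnt vals (stdL 2 0 0 24) 0 N + 759 * cnt vals (stdL 2 0 8 16) 0 N
      + 2576 * cnt vals (stdL 2 0 12 12) 0 N + 759 * cnt vals (stdL 2 0 16 8) 0 N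
      + cnt vals (stdL 2 0 24 0) 0 N
      + (cnt vals (stdL 3 1 0 24) 4 N + 759 * cnt vals (stdL 3 1 8 16) 4 N
      + 2576 * cnt vals (stdL 3 1 12 12) 4 N + 759 * cnt vals (stdL 3 1 16 8) 4 N
      + cnt vals (stdL 3 1 24 0) 4 N) : ℕ) : ℕ∞) := by
  rw [leech_norm_eq_union N hN, Set.encard_union_eq (disjoint_Par _ _ _ _), ncard_Par_even_full,
    ncard_Par_odd_full, ← Nat.cast_add]

theorem leech_count_32 :
    {x : GolayPt → ℤ | x ∈ leechLattice ∧ sqNorm x = 32}.ncard = 196560 := by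
  rw [Set.ncard, leech_count 32 (by norm_num), valE_0_32, valE_8_32, valE_12_32, valE_16_32,
    valE_24_32, valO_0_32, valO_8_32, valO_12_32, valO_16_32, valO_24_32]
  rfl

theorem leech_count_48 :
    {x : GolayPt → ℤ | x ∈ leechLattice ∧ sqNorm x = 48}.ncard = 16773120 := by
  rw [Set.ncard, leech_count 48 (by norm_num), valE_0_48, valE_8_48, valE_12_48, valE_16_48,
    valE_24_48, valO_0_48, valO_8_48, valO_12_48, valO_16_48, valO_24_48]
  rfl

theorem leech_count_64 :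
    {x : GolayPt → ℤ | x ∈ leechLattice ∧ sqNorm x = 64}.ncard = 398034000 := by
  rw [Set.ncard, leech_count 64 (by norm_num), valE_0_64, valE_8_64, valE_12_64, valE_16_64,
    valE_24_64, valO_0_64, valO_8_64, valO_12_64, valO_16_64, valO_24_64]
  rfl

end Cfsg.Agent.Lib.H27
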