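import Mathlib
import Cfsg.Prelude.Def_Sporadic_a
import Cfsg.Agent.Lib.H27.Leech
import Cfsg.Agent.Lib.H27.Leech2
import Cfsg.Agent.Lib.H27.GolayFacts
import Cfsg.Agent.Lib.H28.GolayConcrete

/-!
helper27 library: the lattice is generated by its vectors of squared length 32.
-/

set_option autoImplicit false

namespace Cfsg.Agent.Lib.H27

open Cfsg Finset Cfsg.Agent.Lib.H28

/-- The subgroup generated by the minimal vectors. -/
def minGen : AddSubgroup (GolayPt → ℤ) :=
  AddSubgroup.closure {x : GolayPt → ℤ | x ∈ leechLattice ∧ sqNorm x = 32}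

theorem mem_minGen_of_desc {x : GolayPt → ℤ} {m : ℤ} {c : GolayPt → ZMod 2}
    (h : LeechDesc x m c) (hn : sqNorm x = 32) : x ∈ minGen :=
  AddSubgroup.subset_closure ⟨mem_leechLattice_of_leechDesc h, hn⟩

/-- The lift `2 · 1_c` of a code word. -/
def twoLift (c : GolayPt → ZMod 2) : GolayPt → ℤ := fun i => 2 * ((c i).val : ℤ)

theorem leechDesc_twoLift {c : GolayPt → ZMod 2} (hc : c ∈ golayCode) :
    LeechDesc (twoLift c) 0 c := by
  refine ⟨hc, fun i => ?_, ?_⟩
  · unfold twoLift Int.ModEq; omega
  · unfold twoLift
    rw [← Finset.mul_sum, sum_val_eq_card]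
    obtain ⟨t, ht⟩ := golay_doubly_even c hc
    rw [ht]
    unfold Int.ModEq
    push_cast
    omega

theorem sqNorm_twoLift (c : GolayPt → ZMod 2) :
    sqNorm (twoLift c) = 4 * ((support₂ c).card : ℤ) := by
  unfold sqNorm twoLift
  rw [← sum_val_eq_card, Finset.mul_sum]
  apply Finset.sum_congr rfl
  intro i _
  have : ∀ a : ZMod 2, (2 * ((a.val : ℕ) : ℤ)) ^ 2 = 4 * ((a.val : ℕ) : ℤ) := by decide
  exact this _

/-- The vectors `4 e_i + s e_j`, `s = ± 4`. -/
def vec44 (i j : GolayPt) (s : ℤ) : GolayPt → ℤ := Pi.single i 4 + Pi.single j s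

theorem vec44_mem (i j : GolayPt) (hij : i ≠ j) (s : ℤ) (hs : s = 4 ∨ s = -4) :
    vec44 i j s ∈ minGen := by
  have hd : LeechDesc (vec44 i j s) 0 0 := by
    refine ⟨golayCode.zero_mem, fun k => ?_, ?_⟩
    · simp only [vec44, Pi.add_apply, Pi.single_apply, Pi.zero_apply, ZMod.val_zero,
        Nat.cast_zero, mul_zero, add_zero]
      unfold Int.ModEq
      rcases hs with rfl | rfl <;> split_ifs <;> omega
    · simp only [vec44, Pi.add_apply, Finset.sum_add_distrib, Finset.sum_pi_single',
        Finset.mem_univ, if_true]
      unfold Int.ModEq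
      rcases hs with rfl | rfl <;> omega
  apply mem_minGen_of_desc hd
  unfold sqNorm
  have hk : ∀ k, vec44 i j s k ^ 2 = (Pi.single i (16 : ℤ) : GolayPt → ℤ) k + (Pi.single j (16 : ℤ) : GolayPt → ℤ) k := by
    intro k
    simp only [vec44, Pi.add_apply, Pi.single_apply]
    by_cases h1 : k = i
    · have h2 : k ≠ j := fun h => hij (h1.symm.trans h)
      simp [h1, hij]
    · by_cases h2 : k = j
      · have h3 : j ≠ i := fun h => hij h.symm
        subst h2
        rcases hs with rfl | rfl <;> simp [h3]
      · simp [h1, h2]
  rw [Finset.sum_congr rfl (fun k _ => hk k), Finset.sum_add_distrib, Finset.sum_pi_single',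
    Finset.sum_pi_single']
  simp

/-- The odd minimal vector `(-3, 1^23)`. -/
def vOdd : GolayPt → ℤ := fun k => if k = none then -3 else 1

theorem vOdd_desc : LeechDesc vOdd 1 0 := by
  refine ⟨golayCode.zero_mem, fun k => ?_, ?_⟩
  · simp only [vOdd, Pi.zero_apply, ZMod.val_zero, Nat.cast_zero, mul_zero, add_zero]
    unfold Int.ModEq
    split_ifs <;> omega
  · decide

theorem vOdd_mem : vOdd ∈ minGen := by
  apply mem_minGen_of_desc vOdd_desc
  decide

/-- Vectors with all coordinates divisible by 4 and coordinate sum divisible by 8. -/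
theorem mem_minGen_of_four {x : GolayPt → ℤ} (h4 : ∀ i, x i % 4 = 0) (h8 : (∑ i, x i) % 8 = 0) :
    x ∈ minGen := by
  classical
  have hg : ∀ i : GolayPt, (Pi.single i 4 - Pi.single none 4 : GolayPt → ℤ) ∈ minGen := by
    intro i
    by_cases hi : i = none
    · rw [hi, sub_self]; exact minGen.zero_mem
    · have := vec44_mem i none hi (-4) (Or.inr rfl)
      have e : vec44 i none (-4) = Pi.single i 4 - Pi.single none 4 := by
        unfold vec44
        rw [sub_eq_add_neg, ← Pi.single_neg]
      rw [← e]; exact this
  have hh : (Pi.single none 8 : GolayPt → ℤ) ∈ minGen := by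
    have h1 := vec44_mem (some 0) none (by simp) 4 (Or.inl rfl)
    have h2 := hg (some 0)
    have e : (Pi.single none 8 : GolayPt → ℤ) =
        vec44 (some 0) none 4 - (Pi.single (some 0) 4 - Pi.single none 4) := by
      unfold vec44
      funext k
      simp only [Pi.add_apply, Pi.sub_apply, Pi.single_apply]
      split_ifs <;> omega
    rw [e]; exact sub_mem h1 h2
  have hx : x = ∑ i, (x i / 4) • (Pi.single i 4 - Pi.single none 4 : GolayPt → ℤ)
      + ((∑ i, x i) / 8) • (Pi.single none 8 : GolayPt → ℤ) := by
    funext k
    simp only [Pi.add_apply, Finset.sum_apply, Pi.smul_apply, Pi.sub_apply, Pi.single_apply,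
      smul_eq_mul]
    have h1 : ∀ i, x i / 4 * ((if k = i then 4 else 0) - (if k = none then 4 else 0))
        = (if k = i then x i else 0) - (if k = none then x i else 0) := by
      intro i
      have := h4 i
      split_ifs <;> omega
    rw [Finset.sum_congr rfl (fun i _ => h1 i), Finset.sum_sub_distrib, Finset.sum_ite_eq]
    simp only [Finset.mem_univ, if_true]
    by_cases hk : k = none
    · simp only [hk, if_true]
      omega
    · simp only [hk, if_false, Finset.sum_const_zero]
      omega
  rw [hx]
  apply add_mem
  · apply sum_mem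
    intro i _
    exact zsmul_mem (hg i) _
  · exact zsmul_mem hh _

/-- Even vectors. -/
theorem mem_minGen_of_even (c : GolayPt → ZMod 2) (hc : c ∈ golayCode) :
    ∀ x : GolayPt → ℤ, LeechDesc x 0 c → x ∈ minGen := by
  have hC := span_octads golayCode_isAbsGolay
  rw [← hC] at hc
  induction hc using Submodule.span_induction with
  | mem w hw =>
    intro x hx
    obtain ⟨hwC, hw8⟩ := hw
    have h1 : LeechDesc (x - twoLift w) 0 0 := by
      have := leechDesc_add hx (leechDesc_neg (leechDesc_twoLift hwC))
      rw [← sub_eq_add_neg] at this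
      have e : w + w = 0 := add_self' w
      rw [e] at this
      simpa using this
    have h2 : x - twoLift w ∈ minGen := by
      apply mem_minGen_of_four
      · intro i
        have := h1.2.1 i
        simp only [Pi.zero_apply, ZMod.val_zero, Nat.cast_zero, mul_zero, add_zero] at this
        exact this
      · have := h1.2.2
        unfold Int.ModEq at this
        omega
    have h3 : twoLift w ∈ minGen := by
      apply mem_minGen_of_desc (leechDesc_twoLift hwC)
      rw [sqNorm_twoLift, card_support₂_eq, hw8]
      norm_num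
    have := add_mem h2 h3
    rwa [sub_add_cancel] at this
  | zero =>
    intro x hx
    apply mem_minGen_of_four
    · intro i
      have := hx.2.1 i
      simp only [Pi.zero_apply, ZMod.val_zero, Nat.cast_zero, mul_zero, add_zero] at this
      exact this
    · have := hx.2.2
      unfold Int.ModEq at this
      omega
  | add c1 c2 hc1 hc2 ih1 ih2 =>
    intro x hx
    rw [hC] at hc1
    have h1 : LeechDesc (twoLift c1) 0 c1 := leechDesc_twoLift hc1
    have h2 : LeechDesc (x - twoLift c1) 0 c2 := by
      have := leechDesc_add hx (leechDesc_neg h1)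
      rw [← sub_eq_add_neg] at this
      have e : c1 + c2 + c1 = c2 := by
        rw [add_comm c1 c2, add_assoc, add_self' c1, add_zero]
      rw [e] at this
      simpa using this
    have := add_mem (ih2 _ h2) (ih1 _ h1)
    rwa [sub_add_cancel] at this
  | smul a c hc ih =>
    intro x hx
    have ha : a = 0 ∨ a = 1 := by
      have : ∀ b : ZMod 2, b = 0 ∨ b = 1 := by decide
      exact this a
    rcases ha with rfl | rfl
    · rw [zero_smul] at hx
      apply mem_minGen_of_four
      · intro i
        have := hx.2.1 i
        simp only [Pi.zero_apply, ZMod.val_zero, Nat.cast_zero, mul_zero, add_zero] at this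
        exact this
      · have := hx.2.2
        unfold Int.ModEq at this
        omega
    · rw [one_smul] at hx
      exact ih x hx

theorem minGen_eq : minGen = leechLattice := by
  apply le_antisymm
  · unfold minGen
    rw [AddSubgroup.closure_le]
    intro x hx
    exact hx.1
  · intro x hx
    obtain ⟨m, c, hm, hd⟩ := exists_leechDesc_normal hx
    rcases hm with rfl | rfl
    · exact mem_minGen_of_even c hd.1 x hd
    · have h1 : LeechDesc (x - vOdd) 0 c := by
        have := leechDesc_add hd (leechDesc_neg vOdd_desc)
        rw [← sub_eq_add_neg] at this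
        simpa using this
      have := add_mem (mem_minGen_of_even c hd.1 _ h1) vOdd_mem
      rwa [sub_add_cancel] at this

end Cfsg.Agent.Lib.H27
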