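/-
helper27 library (generated data): the elements of the stabilizer of the dodecad of squares with prescribed
images of the five base points; each has a fixed point off the dodecad or has order 4 or 8.
-/
import Mathlib
import Cfsg.Prelude.Def_Sporadic_a
import Cfsg.Agent.Lib.H28.M12

set_option autoImplicit false

namespace Cfsg.Agent.Lib.H27

open Cfsg Cfsg.Agent.Lib.H28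

namespace M11Fix

/-- Equality of the permutations of two words, on indices. -/
def eqW' (u v : List ℕ) : Bool := (List.range 24).all (fun k => evalPt u k == evalPt v k)

/-- The power of a word. -/
def pw (w : List ℕ) (n : ℕ) : List ℕ := (List.replicate n w).flatten

/-- The check of a candidate: images `Y` of the base points, word, certificate (a fixed index off the dodecad,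
or `e` with order `2 ^ (e + 1)`). -/
def candOK (c : List ℕ × List ℕ × (ℕ ⊕ ℕ)) : Bool :=
  presCheck c.2.1 dod0 && (List.range 5).all (fun i => evalPt c.2.1 (m12Base.getD i 0) == c.1.getD i 0) &&
  match c.2.2 with
  | Sum.inl x => !(dod0.testBit x) && decide (x < 24) && evalPt c.2.1 x == x
  | Sum.inr e => decide (1 ≤ e) && !(eqW' (pw c.2.1 (2 ^ e)) []) && eqW' (pw c.2.1 (2 ^ (e + 1))) []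

/-- The candidates. -/
def candTab : List (List ℕ × List ℕ × (ℕ ⊕ ℕ)) := [
  ([0,2,1,4,3], [4,4,4,2,1,4,1,1,1,3,0,3,3,0,2,4,0,4,2,0,2,1,1,3,3,1,1,4,0,3,1,4,4,2,0,0,0,2,4,4,0,0,3], Sum.inl 7),
  ([0,2,1,4,6], [4,4,4,2,1,4,1,1,1,3,0,3,3,0,2,4,0,4,2,0,2,1,1,3,3,1,1,4,0,3,0,4,4,2,0,0,2,1,4,1,2,0,3,3,0], Sum.inl 22),
  ([0,2,1,4,8], [4,4,4,2,1,4,1,1,1,3,0,3,3,0,2,4,0,4,2,0,2,1,1,3,3,1,1,4,0,1,4,4,1,2,0,3,0,2,1,1,2,3,3,1,4], Sum.inl 19),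
  ([0,2,1,4,9], [4,4,4,2,1,4,1,1,1,3,0,3,3,0,2,4,0,4,2,0,2,1,1,3,3,1,1,4,0,3,3,1,4,1,1,1,3,0,3,3,0], Sum.inr 2),
  ([0,2,1,4,12], [4,4,4,2,1,4,1,1,1,3,0,3,3,0,2,4,0,4,2,0,2,1,1,3,3,1,1,4,0,4,1,1,3,3,2,1,1,1,2,3,3,0,4], Sum.inl 17),
  ([0,2,1,4,13], [4,4,4,2,1,4,1,1,1,3,0,3,3,0,2,4,0,4,2,0,2,1,1,3,3,1,1,4,0,4,1,1,2,0,4,4,0,3,0,0,4,1,3,1], Sum.inr 2),
  ([0,2,1,4,16], [4,4,4,2,1,4,1,1,1,3,0,3,3,0,2,4,0,4,2,0,2,1,1,3,3,1,1,4,0,0,4,0,3,1,1,4,1,3,3,1,2,0,0,3], Sum.inr 2),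
  ([0,2,1,4,18], [4,4,4,2,1,4,1,1,1,3,0,3,3,0,2,4,0,4,2,0,2,1,1,3,3,1,1,4,0,3,3,1,0,4,4], Sum.inr 2),
  ([0,2,1,3,4], [4,4,4,2,1,4,1,1,1,3,0,3,3,0,2,0,2,1,4,1,4,1,2,4,1,4,1,1,2,0,4,4,0,3,0,0,4,1,3,1], Sum.inl 14),
  ([0,2,1,3,6], [4,4,4,2,1,4,1,1,1,3,0,3,3,0,2,0,2,1,4,1,4,1,2,4,1,4,1,1,3,3,2,1,1,1,2,3,3,0,4], Sum.inr 2),
  ([0,2,1,3,8], [4,4,4,2,1,4,1,1,1,3,0,3,3,0,2,0,2,1,4,1,4,1,2,4,1,3,0,4,4,2,0,0,2,1,4,1,2,0,3,3,0], Sum.inr 2),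
  ([0,2,1,3,9], [4,4,4,2,1,4,1,1,1,3,0,3,3,0,2,0,2,1,4,1,4,1,2,4,1,3,1,4,4,2,0,0,0,2,4,4,0,0,3], Sum.inr 2),
  ([0,2,1,3,12], [4,4,4,2,1,4,1,1,1,3,0,3,3,0,2,0,2,1,4,1,4,1,2,4,1,0,4,0,3,1,1,4,1,3,3,1,2,0,0,3], Sum.inl 7),
  ([0,2,1,3,13], [4,4,4,2,1,4,1,1,1,3,0,3,3,0,2,0,2,1,4,1,4,1,2,4,1,3,3,1,4,1,1,1,3,0,3,3,0], Sum.inl 5),
  ([0,2,1,3,16], [4,4,4,2,1,4,1,1,1,3,0,3,3,0,2,0,2,1,4,1,4,1,2,4,1,1,4,4,1,2,0,3,0,2,1,1,2,3,3,1,4], Sum.inr 2),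
  ([0,2,1,3,18], [4,4,4,2,1,4,1,1,1,3,0,3,3,0,2,0,2,1,4,1,4,1,2,4,1,3,3,1,0,4,4], Sum.inl 5),
  ([0,2,3,1,4], [4,4,1,1,2,1,1,3,1,2,3,3,0,4,4,2,0,0,3,3,1,3,0,0,0,2,4,1,1,2,0,4,4,0,3,0,0,4,1,3,1], Sum.inl 7),
  ([0,2,3,1,6], [4,4,1,1,2,1,1,3,1,2,3,3,0,4,4,2,0,0,3,3,1,3,0,0,0,2,3,3,1,0,4,4], Sum.inl 15),
  ([0,2,3,1,8], [4,4,1,1,2,1,1,3,1,2,3,3,0,4,4,2,0,0,3,3,1,3,0,0,0,2,1,4,4,1,2,0,3,0,2,1,1,2,3,3,1,4], Sum.inl 17),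
  ([0,2,3,1,9], [4,4,1,1,2,1,1,3,1,2,3,3,0,4,4,2,0,0,3,3,1,3,0,0,0,2,3,3,1,4,1,1,1,3,0,3,3,0], Sum.inl 23),
  ([0,2,3,1,12], [4,4,1,1,2,1,1,3,1,2,3,3,0,4,4,2,0,0,3,3,1,3,0,0,0,2,0,4,0,3,1,1,4,1,3,3,1,2,0,0,3], Sum.inl 14),
  ([0,2,3,1,13], [4,4,1,1,2,1,1,3,1,2,3,3,0,4,4,2,0,0,3,3,1,3,0,0,0,2,3,1,4,4,2,0,0,0,2,4,4,0,0,3], Sum.inl 5),
  ([0,2,3,1,16], [4,4,1,1,2,1,1,3,1,2,3,3,0,4,4,2,0,0,3,3,1,3,0,0,0,2,3,0,4,4,2,0,0,2,1,4,1,2,0,3,3,0], Sum.inl 17),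
  ([0,2,3,1,18], [4,4,1,1,2,1,1,3,1,2,3,3,0,4,4,2,0,0,3,3,1,3,0,0,0,2,4,1,1,3,3,2,1,1,1,2,3,3,0,4], Sum.inl 5),
  ([0,2,3,4,1], [4,4,1,1,2,1,1,3,1,2,3,3,0,4,4,0,4,4,2,0,3,3,0,3,1,1,2,4,1,0,4,0,3,1,1,4,1,3,3,1,2,0,0,3], Sum.inr 1),
  ([0,2,3,4,6], [4,4,1,1,2,1,1,3,1,2,3,3,0,4,4,0,4,4,2,0,3,3,0,3,1,1,2,4,1,1,4,4,1,2,0,3,0,2,1,1,2,3,3,1,4], Sum.inl 21),
  ([0,2,3,4,8], [4,4,1,1,2,1,1,3,1,2,3,3,0,4,4,0,4,4,2,0,3,3,0,3,1,1,2,4,1,4,1,1,3,3,2,1,1,1,2,3,3,0,4], Sum.inl 5),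
  ([0,2,3,4,9], [4,4,1,1,2,1,1,3,1,2,3,3,0,4,4,0,4,4,2,0,3,3,0,3,1,1,2,4,1,3,1,4,4,2,0,0,0,2,4,4,0,0,3], Sum.inl 5),
  ([0,2,3,4,12], [4,4,1,1,2,1,1,3,1,2,3,3,0,4,4,0,4,4,2,0,3,3,0,3,1,1,2,4,1,4,1,1,2,0,4,4,0,3,0,0,4,1,3,1], Sum.inl 7),
  ([0,2,3,4,13], [4,4,1,1,2,1,1,3,1,2,3,3,0,4,4,0,4,4,2,0,3,3,0,3,1,1,2,4,1,3,0,4,4,2,0,0,2,1,4,1,2,0,3,3,0], Sum.inr 2),
  ([0,2,3,4,16], [4,4,1,1,2,1,1,3,1,2,3,3,0,4,4,0,4,4,2,0,3,3,0,3,1,1,2,4,1,3,3,1,4,1,1,1,3,0,3,3,0], Sum.inl 19),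
  ([0,2,3,4,18], [4,4,1,1,2,1,1,3,1,2,3,3,0,4,4,0,4,4,2,0,3,3,0,3,1,1,2,4,1,3,3,1,0,4,4], Sum.inr 2)]

theorem candTab_ok : candTab.all candOK = true := by decide +kernel

end M11Fix

end Cfsg.Agent.Lib.H27
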