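/-
helper27 library: every element of prime order of `M11` (the stabilizer of the residue 0 in the stabilizer
of the dodecad of squares) fixes a point off the dodecad.
-/
import Mathlib
import Cfsg.Prelude.Def_Sporadic_a
import Cfsg.Prelude.Def_Spor_Mathieu
import Cfsg.Agent.Lib.H28.M12
import Cfsg.Agent.Lib.H28.M24Octad
import Cfsg.Agent.Lib.H27.M11FixData

set_option autoImplicit false

namespace Cfsg.Agent.Lib.H27

open Cfsg Cfsg.Agent.Lib.H28
open scoped Pointwise

namespace M11Fix

theorem wordPerm_eq_of_eqW' {u v : List ℕ} (h : eqW' u v = true) : wordPerm u = wordPerm v := by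
  apply Equiv.ext
  intro p
  apply gIdx_injective
  rw [gIdx_wordPerm, gIdx_wordPerm]
  have := List.all_eq_true.1 h (gIdx p) (List.mem_range.2 (gIdx_lt p))
  rwa [beq_iff_eq] at this

theorem eqW'_of_wordPerm_eq {u v : List ℕ} (h : wordPerm u = wordPerm v) : eqW' u v = true := by
  unfold eqW'
  rw [List.all_eq_true]
  intro k hk
  rw [List.mem_range] at hk
  rw [beq_iff_eq]
  have h1 := gIdx_wordPerm u (gPt k)
  have h2 := gIdx_wordPerm v (gPt k)
  rw [gIdx_gPt hk] at h1 h2
  rw [← h1, ← h2, h]

theorem wordPerm_pw (w : List ℕ) (n : ℕ) : wordPerm (pw w n) = wordPerm w ^ n := by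
  induction n with
  | zero => rfl
  | succ n ih =>
    unfold pw at ih ⊢
    rw [List.replicate_succ, List.flatten_cons, wordPerm_append, ih, pow_succ']

theorem squareDodecad_eq : Spor.squareDodecad = ptsMask dod0 := by
  unfold Spor.squareDodecad
  rw [ptsMask_eq_support₂, qrWord_eq_W, ZMod.val_zero]
  rfl

theorem gPt_zero : gPt 0 = (some 0 : GolayPt) := by
  unfold gPt
  simp

theorem mem_M11 {g : Equiv.Perm GolayPt} (hg : g ∈ Spor.M11) :
    g ∈ stabMask dod0 ∧ g (gPt 0) = gPt 0 := by
  unfold Spor.M11 Spor.M12 at hg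
  rw [Subgroup.mem_inf, Subgroup.mem_inf, MulAction.mem_stabilizer_iff,
    MulAction.mem_stabilizer_iff] at hg
  obtain ⟨⟨h1, h2⟩, h3⟩ := hg
  refine ⟨?_, ?_⟩
  · rw [mem_stabMask_iff_smul]
    exact ⟨h1, by rw [← squareDodecad_eq]; exact h2⟩
  · rw [gPt_zero]; exact h3

/-- An element of the stabilizer of the dodecad is determined by the images of the base points. -/
theorem eq_of_base {g g' : Equiv.Perm GolayPt} (hg : g ∈ stabMask dod0) (hg' : g' ∈ stabMask dod0)
    (h : ∀ i < 5, g (gPt (m12Base.getD i 0)) = g' (gPt (m12Base.getD i 0))) : g = g' := by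
  have hmem : g'⁻¹ * g ∈ fixSub (stabMask dod0) [4, 3, 2, 1, 0] := by
    rw [mem_fixSub]
    refine ⟨(stabMask dod0).mul_mem ((stabMask dod0).inv_mem hg') hg, ?_⟩
    intro k hk
    have hk' : ∀ k ∈ [4, 3, 2, 1, 0], ∃ i < 5, m12Base.getD i 0 = k := by decide
    obtain ⟨i, hi, rfl⟩ := hk' k hk
    rw [Equiv.Perm.mul_apply, h i hi, Equiv.Perm.inv_def, Equiv.symm_apply_apply]
  rw [m12_fix_base, Subgroup.mem_bot] at hmem
  exact (inv_mul_eq_one.1 hmem).symm

theorem fin_of_images {g' : Equiv.Perm GolayPt} (hg' : g' ∈ stabMask dod0)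
    (c : List ℕ × List ℕ × (ℕ ⊕ ℕ)) (hc : c ∈ candTab)
    (himg : ∀ i < 5, g' (gPt (m12Base.getD i 0)) = gPt (c.1.getD i 0))
    (hord : (orderOf g').Prime) :
    ∃ x, x ∉ ptsMask dod0 ∧ g' x = x := by
  have hok := List.all_eq_true.1 candTab_ok c hc
  unfold candOK at hok
  rw [Bool.and_eq_true, Bool.and_eq_true, List.all_eq_true] at hok
  obtain ⟨⟨hpres, himgw⟩, hcert⟩ := hok
  have hw : wordPerm c.2.1 ∈ stabMask dod0 := wordPerm_mem_stabMask hpres
  have heq : g' = wordPerm c.2.1 := by
    apply eq_of_base hg' hw
    intro i hi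
    have := himgw i (List.mem_range.2 hi)
    rw [beq_iff_eq] at this
    rw [himg i hi]
    have hb : ∀ i < 5, m12Base.getD i 0 < 24 := by decide
    exact (wordPerm_gPt (hb i hi) this).symm
  rcases hcc : c.2.2 with x | e
  · rw [hcc] at hcert
    simp only [Bool.and_eq_true, Bool.not_eq_true', decide_eq_true_eq, beq_iff_eq] at hcert
    obtain ⟨⟨hx1, hx2⟩, hx3⟩ := hcert
    refine ⟨gPt x, ?_, ?_⟩
    · rw [mem_ptsMask, gIdx_gPt hx2, hx1]
      simp
    · rw [heq]
      exact wordPerm_gPt hx2 hx3
  · rw [hcc] at hcert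
    simp only [Bool.and_eq_true, Bool.not_eq_true', decide_eq_true_eq] at hcert
    obtain ⟨⟨he1, hne⟩, heq1⟩ := hcert
    exfalso
    have h1 : ¬ (wordPerm c.2.1) ^ 2 ^ e = 1 := by
      intro h
      rw [← wordPerm_pw, ← wordPerm_nil] at h
      rw [eqW'_of_wordPerm_eq h] at hne
      exact Bool.noConfusion hne
    have h2 : (wordPerm c.2.1) ^ 2 ^ (e + 1) = 1 := by
      rw [← wordPerm_pw, wordPerm_eq_of_eqW' heq1, wordPerm_nil]
    have ho := orderOf_eq_prime_pow h1 h2
    rw [heq, ho] at hord
    exact Nat.Prime.not_prime_pow (by omega) hord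

theorem card_D : (ptsMask dod0).card = 12 := by
  unfold ptsMask
  decide +kernel

theorem exists_in_D {S : Finset GolayPt} (h : S.card < 12) : ∃ e ∈ ptsMask dod0, e ∉ S := by
  by_contra hcon
  have hsub : ptsMask dod0 ⊆ S := by
    intro e he
    by_contra hne
    exact hcon ⟨e, he, hne⟩
  have := Finset.card_le_card hsub
  rw [card_D] at this
  omega

theorem inj5 {α : Type*} {a b c d e : α} (hab : a ≠ b) (hac : a ≠ c) (had : a ≠ d) (hae : a ≠ e)
    (hbc : b ≠ c) (hbd : b ≠ d) (hbe : b ≠ e) (hcd : c ≠ d) (hce : c ≠ e) (hde : d ≠ e) :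
    Function.Injective ![a, b, c, d, e] := by
  intro i j hij
  fin_cases i <;> fin_cases j <;> first
    | rfl
    | (exfalso
       simp only [Fin.zero_eta, Fin.mk_one, Fin.reduceFinMk, Matrix.cons_val_zero, Matrix.cons_val_one,
         Matrix.cons_val] at hij
       first
        | exact hab hij | exact hac hij | exact had hij | exact hae hij | exact hbc hij | exact hbd hij
        | exact hbe hij | exact hcd hij | exact hce hij | exact hde hij
        | exact hab hij.symm | exact hac hij.symm | exact had hij.symm | exact hae hij.symm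
        | exact hbc hij.symm | exact hbd hij.symm
        | exact hbe hij.symm | exact hcd hij.symm | exact hce hij.symm | exact hde hij.symm)

/-- Lookup of candidates: `pre` is the list of the first four images. -/
theorem cand_lookup_bool : [[0, 2, 1, 4], [0, 2, 1, 3], [0, 2, 3, 1], [0, 2, 3, 4]].all (fun pre =>
    (List.range 24).all (fun z => !(dod0.testBit z) || pre.contains z ||
      candTab.any (fun c => c.1 == pre ++ [z]))) = true := by decide +kernel

theorem cand_lookup (pre : List ℕ) (hpre : pre ∈ [[0, 2, 1, 4], [0, 2, 1, 3], [0, 2, 3, 1], [0, 2, 3, 4]])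
    (z : ℕ) (hz : z < 24) (hzD : dod0.testBit z = true) (hzp : z ∉ pre) :
    ∃ c ∈ candTab, c.1 = pre ++ [z] := by
  have h := List.all_eq_true.1 (List.all_eq_true.1 cand_lookup_bool pre hpre) z (List.mem_range.2 hz)
  rw [Bool.or_eq_true, Bool.or_eq_true, hzD] at h
  rcases h with (h | h) | h
  · simp at h
  · exfalso
    rw [List.contains_iff_mem] at h
    exact hzp h
  · rw [List.any_eq_true] at h
    obtain ⟨c, hc, hce⟩ := h
    exact ⟨c, hc, by rwa [beq_iff_eq] at hce⟩

theorem inv_of_map {h : Equiv.Perm GolayPt} {y : Fin 5 → GolayPt}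
    (hmap : ∀ i : Fin 5, h (gPt (m12Base.getD i.val 0)) = y i) (j : Fin 5) :
    h⁻¹ (y j) = gPt j.val := by
  rw [← hmap j, Equiv.Perm.inv_def, Equiv.symm_apply_apply]
  congr 1
  revert j
  decide

/-- The main statement. -/
theorem main (g : Equiv.Perm GolayPt) (hg : g ∈ Spor.M11) (hord : (orderOf g).Prime) :
    ∃ x : GolayPt, x ∉ Spor.squareDodecad ∧ g x = x := by
  classical
  rw [squareDodecad_eq]
  obtain ⟨hgM, hg0⟩ := mem_M11 hg
  have hpres : ∀ (h : Equiv.Perm GolayPt), h ∈ stabMask dod0 →
      ∀ z, h z ∈ ptsMask dod0 ↔ z ∈ ptsMask dod0 := by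
    intro h hh z
    have := stabMask_preserves dod0 h hh z
    simpa using this
  have hz0 : gPt 0 ∈ ptsMask dod0 := by
    rw [mem_ptsMask, gIdx_gPt (by norm_num)]
    decide
  -- finishing from a conjugate
  have fin : ∀ h ∈ stabMask dod0,
      (∃ c ∈ candTab, ∀ i < 5, (h⁻¹ * g * h) (gPt (m12Base.getD i 0)) = gPt (c.1.getD i 0)) →
      ∃ x, x ∉ ptsMask dod0 ∧ g x = x := by
    intro h hh ⟨c, hc, himg⟩
    have ho : (orderOf (h⁻¹ * g * h)).Prime := by
      have : orderOf (h⁻¹ * g * h) = orderOf g :=
        (SemiconjBy.orderOf_eq h⁻¹ (show SemiconjBy h⁻¹ g (h⁻¹ * g * h) by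
          unfold SemiconjBy; group)).symm
      rwa [this]
    obtain ⟨x, hx, hfx⟩ := fin_of_images
      ((stabMask dod0).mul_mem ((stabMask dod0).mul_mem ((stabMask dod0).inv_mem hh) hgM) hh) c hc himg ho
    refine ⟨h x, ?_, ?_⟩
    · intro hcon
      exact hx ((hpres h hh x).1 hcon)
    · rw [Equiv.Perm.mul_apply, Equiv.Perm.mul_apply, Equiv.Perm.inv_def, Equiv.symm_apply_eq] at hfx
      exact hfx
  -- the conjugation step
  have key : ∀ (y y' : Fin 5 → GolayPt), Function.Injective y → (∀ i, y i ∈ ptsMask dod0) →
      (∀ i, g (y i) = y' i) →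
      ∃ h ∈ stabMask dod0, (∀ i : Fin 5, h (gPt (m12Base.getD i.val 0)) = y i) ∧
        ∀ i : Fin 5, (h⁻¹ * g * h) (gPt (m12Base.getD i.val 0)) = h⁻¹ (y' i) := by
    intro y y' hy hyd hyy'
    obtain ⟨h, hh, hmap⟩ := m12_exists_map (le_refl 5) y hy hyd
    refine ⟨h, hh, hmap, ?_⟩
    intro i
    rw [Equiv.Perm.mul_apply, Equiv.Perm.mul_apply, hmap i, hyy' i]
  -- a moved point of the dodecad
  have hne : g ≠ 1 := by
    intro h
    rw [h, orderOf_one] at hord
    exact Nat.not_prime_one hord
  obtain ⟨a, haD, ha⟩ : ∃ a ∈ ptsMask dod0, g a ≠ a := by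
    by_contra hcon
    apply hne
    apply eq_of_base hgM (stabMask dod0).one_mem
    intro i hi
    rw [Equiv.Perm.one_apply]
    by_contra hmv
    apply hcon
    refine ⟨gPt (m12Base.getD i 0), ?_, hmv⟩
    have hb : ∀ i < 5, m12Base.getD i 0 < 24 ∧ dod0.testBit (m12Base.getD i 0) = true := by decide
    rw [mem_ptsMask, gIdx_gPt (hb i hi).1]
    exact (hb i hi).2
  -- the general final step: from the images to a candidate
  have step : ∀ (h : Equiv.Perm GolayPt), h ∈ stabMask dod0 → ∀ (y' : Fin 5 → GolayPt),
      (∀ i : Fin 5, (h⁻¹ * g * h) (gPt (m12Base.getD i.val 0)) = h⁻¹ (y' i)) →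
      ∀ pre ∈ [[0, 2, 1, 4], [0, 2, 1, 3], [0, 2, 3, 1], [0, 2, 3, 4]],
      (∀ i : Fin 4, h⁻¹ (y' (Fin.castSucc i)) = gPt (pre.getD i.val 0)) →
      y' 4 ∈ ptsMask dod0 → (∀ i : Fin 4, y' 4 ≠ y' (Fin.castSucc i)) →
      ∃ x, x ∉ ptsMask dod0 ∧ g x = x := by
    intro h hh y' himg pre hpre himg' h4D h4ne
    apply fin h hh
    have hlen : ∀ pre ∈ [[0, 2, 1, 4], [0, 2, 1, 3], [0, 2, 3, 1], [0, 2, 3, 4]], pre.length = 4 := by
      decide
    obtain ⟨z, hz⟩ : ∃ z, z = gIdx (h⁻¹ (y' 4)) := ⟨_, rfl⟩
    have hz24 : z < 24 := by rw [hz]; exact gIdx_lt _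
    have hzD : dod0.testBit z = true := by
      rw [hz, ← mem_ptsMask]
      exact (hpres h⁻¹ ((stabMask dod0).inv_mem hh) _).2 h4D
    have hzp : z ∉ pre := by
      intro hmem
      obtain ⟨i, hi, hiz⟩ := List.getElem_of_mem hmem
      rw [hlen pre hpre] at hi
      apply h4ne ⟨i, hi⟩
      apply (h⁻¹).injective
      rw [himg' ⟨i, hi⟩]
      simp only
      rw [List.getD_eq_getElem _ _ (by rw [hlen pre hpre]; exact hi), hiz, hz, gPt_gIdx]
    obtain ⟨c, hc, hc1⟩ := cand_lookup pre hpre z hz24 hzD hzp
    refine ⟨c, hc, ?_⟩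
    intro i hi
    rw [hc1]
    have := himg ⟨i, hi⟩
    simp only at this
    rw [this]
    by_cases hi4 : i < 4
    · have h1 := himg' ⟨i, hi4⟩
      simp only at h1
      have e : (Fin.castSucc (⟨i, hi4⟩ : Fin 4) : Fin 5) = ⟨i, hi⟩ := rfl
      rw [e] at h1
      rw [h1, List.getD_append _ _ _ _ (by rw [hlen pre hpre]; exact hi4)]
    · have hi4' : i = 4 := by omega
      subst hi4'
      rw [List.getD_append_right _ _ _ _ (by rw [hlen pre hpre])]
      rw [hlen pre hpre]
      show h⁻¹ (y' 4) = gPt z
      rw [hz, gPt_gIdx]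
  -- the cases
  have ginj : ∀ {p q : GolayPt}, g p = g q → p = q := fun h => g.injective h
  have haz : a ≠ gPt 0 := by
    intro h
    apply ha
    rw [h, hg0]
  obtain ⟨b, hb⟩ : ∃ b, g a = b := ⟨_, rfl⟩
  have hbD : b ∈ ptsMask dod0 := by rw [← hb]; exact (hpres g hgM a).2 haD
  have hba : b ≠ a := by rw [← hb]; exact ha
  have hbz : b ≠ gPt 0 := by
    intro h
    apply haz
    apply ginj
    rw [hb, h, hg0]
  by_cases hcase : g b = a
  · obtain ⟨c, hcD, hc⟩ := exists_in_D (S := {gPt 0, a, b}) (by
      refine lt_of_le_of_lt (Finset.card_le_three) (by norm_num))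
    simp only [Finset.mem_insert, Finset.mem_singleton, not_or] at hc
    obtain ⟨hcz, hca, hcb⟩ := hc
    obtain ⟨d, hd⟩ : ∃ d, g c = d := ⟨_, rfl⟩
    have hdD : d ∈ ptsMask dod0 := by rw [← hd]; exact (hpres g hgM c).2 hcD
    have hdz : d ≠ gPt 0 := by
      intro h
      apply hcz
      apply ginj
      rw [hd, h, hg0]
    have hda : d ≠ a := by
      intro h
      apply hcb
      apply ginj
      rw [hd, h, hcase]
    have hdb : d ≠ b := by
      intro h
      apply hca
      apply ginj
      rw [hd, h, hb]
    by_cases hdc : d = c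
    · obtain ⟨e, heD, he⟩ := exists_in_D (S := {gPt 0, a, b, c}) (by
        refine lt_of_le_of_lt (Finset.card_le_four) (by norm_num))
      simp only [Finset.mem_insert, Finset.mem_singleton, not_or] at he
      obtain ⟨hez, hea, heb, hec⟩ := he
      have hx : Function.Injective ![gPt 0, a, b, c, e] :=
        inj5 (Ne.symm haz) (Ne.symm hbz) (Ne.symm hcz) (Ne.symm hez) (Ne.symm hba) (Ne.symm hca)
          (Ne.symm hea) (Ne.symm hcb) (Ne.symm heb) (Ne.symm hec)
      obtain ⟨h, hh, hmap, himg⟩ := key ![gPt 0, a, b, c, e] ![gPt 0, b, a, c, g e] hx (by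
        intro i
        fin_cases i
        · exact hz0
        · exact haD
        · exact hbD
        · exact hcD
        · exact heD) (by
        intro i
        fin_cases i
        · exact hg0
        · exact hb
        · exact hcase
        · show g c = c
          rw [hd, hdc]
        · rfl)
      have hinv := inv_of_map hmap
      refine step h hh _ himg [0, 2, 1, 3] (by simp) ?_ ?_ ?_
      · intro i
        fin_cases i
        · exact hinv 0
        · exact hinv 2
        · exact hinv 1
        · exact hinv 3
      · exact (hpres g hgM e).2 heD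
      · intro i
        fin_cases i
        · show g e ≠ gPt 0
          intro hh'
          apply hez
          apply ginj
          rw [hh', hg0]
        · show g e ≠ b
          intro hh'
          apply hea
          apply ginj
          rw [hh', hb]
        · show g e ≠ a
          intro hh'
          apply heb
          apply ginj
          rw [hh', hcase]
        · show g e ≠ c
          intro hh'
          apply hec
          apply ginj
          rw [hh', hd, hdc]
    · have hx : Function.Injective ![gPt 0, a, b, c, d] :=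
        inj5 (Ne.symm haz) (Ne.symm hbz) (Ne.symm hcz) (Ne.symm hdz) (Ne.symm hba) (Ne.symm hca)
          (Ne.symm hda) (Ne.symm hcb) (Ne.symm hdb) (Ne.symm hdc)
      obtain ⟨h, hh, hmap, himg⟩ := key ![gPt 0, a, b, c, d] ![gPt 0, b, a, d, g d] hx (by
        intro i
        fin_cases i
        · exact hz0
        · exact haD
        · exact hbD
        · exact hcD
        · exact hdD) (by
        intro i
        fin_cases i
        · exact hg0
        · exact hb
        · exact hcase
        · exact hd
        · rfl)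
      have hinv := inv_of_map hmap
      refine step h hh _ himg [0, 2, 1, 4] (by simp) ?_ ?_ ?_
      · intro i
        fin_cases i
        · exact hinv 0
        · exact hinv 2
        · exact hinv 1
        · exact hinv 4
      · exact (hpres g hgM d).2 hdD
      · intro i
        fin_cases i
        · show g d ≠ gPt 0
          intro hh'
          apply hdz
          apply ginj
          rw [hh', hg0]
        · show g d ≠ b
          intro hh'
          apply hda
          apply ginj
          rw [hh', hb]
        · show g d ≠ a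
          intro hh'
          apply hdb
          apply ginj
          rw [hh', hcase]
        · show g d ≠ d
          intro hh'
          apply hdc
          apply ginj
          rw [hh', hd]
  · obtain ⟨c, hc⟩ : ∃ c, g b = c := ⟨_, rfl⟩
    have hcD : c ∈ ptsMask dod0 := by rw [← hc]; exact (hpres g hgM b).2 hbD
    have hcz : c ≠ gPt 0 := by
      intro h
      apply hbz
      apply ginj
      rw [hc, h, hg0]
    have hcb : c ≠ b := by
      intro h
      apply hba
      apply ginj
      rw [hc, h, hb]
    have hca : c ≠ a := by rw [← hc]; exact hcase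
    obtain ⟨d, hd⟩ : ∃ d, g c = d := ⟨_, rfl⟩
    have hdD : d ∈ ptsMask dod0 := by rw [← hd]; exact (hpres g hgM c).2 hcD
    have hdz : d ≠ gPt 0 := by
      intro h
      apply hcz
      apply ginj
      rw [hd, h, hg0]
    have hdb : d ≠ b := by
      intro h
      apply hca
      apply ginj
      rw [hd, h, hb]
    have hdc : d ≠ c := by
      intro h
      apply hcb
      apply ginj
      rw [hd, h, hc]
    by_cases hda : d = a
    · obtain ⟨e, heD, he⟩ := exists_in_D (S := {gPt 0, a, b, c}) (by
        refine lt_of_le_of_lt (Finset.card_le_four) (by norm_num))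
      simp only [Finset.mem_insert, Finset.mem_singleton, not_or] at he
      obtain ⟨hez, hea, heb, hec⟩ := he
      have hx : Function.Injective ![gPt 0, a, b, c, e] :=
        inj5 (Ne.symm haz) (Ne.symm hbz) (Ne.symm hcz) (Ne.symm hez) (Ne.symm hba) (Ne.symm hca)
          (Ne.symm hea) (Ne.symm hcb) (Ne.symm heb) (Ne.symm hec)
      obtain ⟨h, hh, hmap, himg⟩ := key ![gPt 0, a, b, c, e] ![gPt 0, b, c, a, g e] hx (by
        intro i
        fin_cases i
        · exact hz0
        · exact haD
        · exact hbD
        · exact hcD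
        · exact heD) (by
        intro i
        fin_cases i
        · exact hg0
        · exact hb
        · exact hc
        · show g c = a
          rw [hd, hda]
        · rfl)
      have hinv := inv_of_map hmap
      refine step h hh _ himg [0, 2, 3, 1] (by simp) ?_ ?_ ?_
      · intro i
        fin_cases i
        · exact hinv 0
        · exact hinv 2
        · exact hinv 3
        · exact hinv 1
      · exact (hpres g hgM e).2 heD
      · intro i
        fin_cases i
        · show g e ≠ gPt 0
          intro hh'
          apply hez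
          apply ginj
          rw [hh', hg0]
        · show g e ≠ b
          intro hh'
          apply hea
          apply ginj
          rw [hh', hb]
        · show g e ≠ c
          intro hh'
          apply heb
          apply ginj
          rw [hh', hc]
        · show g e ≠ a
          intro hh'
          apply hec
          apply ginj
          rw [hh', hd, hda]
    · have hx : Function.Injective ![gPt 0, a, b, c, d] :=
        inj5 (Ne.symm haz) (Ne.symm hbz) (Ne.symm hcz) (Ne.symm hdz) (Ne.symm hba) (Ne.symm hca)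
          (Ne.symm hda) (Ne.symm hcb) (Ne.symm hdb) (Ne.symm hdc)
      obtain ⟨h, hh, hmap, himg⟩ := key ![gPt 0, a, b, c, d] ![gPt 0, b, c, d, g d] hx (by
        intro i
        fin_cases i
        · exact hz0
        · exact haD
        · exact hbD
        · exact hcD
        · exact hdD) (by
        intro i
        fin_cases i
        · exact hg0
        · exact hb
        · exact hc
        · exact hd
        · rfl)
      have hinv := inv_of_map hmap
      refine step h hh _ himg [0, 2, 3, 4] (by simp) ?_ ?_ ?_
      · intro i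
        fin_cases i
        · exact hinv 0
        · exact hinv 2
        · exact hinv 3
        · exact hinv 4
      · exact (hpres g hgM d).2 hdD
      · intro i
        fin_cases i
        · show g d ≠ gPt 0
          intro hh'
          apply hdz
          apply ginj
          rw [hh', hg0]
        · show g d ≠ b
          intro hh'
          apply hda
          apply ginj
          rw [hh', hb]
        · show g d ≠ c
          intro hh'
          apply hdb
          apply ginj
          rw [hh', hc]
        · show g d ≠ d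
          intro hh'
          apply hdc
          apply ginj
          rw [hh', hd]

end M11Fix

end Cfsg.Agent.Lib.H27
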