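import Mathlib
import Cfsg.Prelude.Def_Sporadic_a
import Cfsg.Agent.Lib.H28.Steiner

/-!
helper27 library: intersection numbers of a block of a Steiner system with the other blocks.
For a block `b` of an `S(t, k, v)` and `j ≤ t`,
`(C(k, j) + ∑_{c ≠ b} C(|c ∩ b|, j)) * C(k - j, t - j) = C(k, j) * C(v - j, t - j)`.
-/

set_option autoImplicit false

namespace Cfsg.Agent.Lib.H27

open Cfsg Finset Cfsg.Agent.Lib.H28

variable {α : Type*} [Fintype α] [DecidableEq α]

theorem sum_choose_inter {t k : ℕ} {B : Set (Finset α)} (hB : IsSteinerSystem t k B)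
    {b : Finset α} (hb : b ∈ B) (j : ℕ) (hj : j ≤ t) :
    (∑ c ∈ blocksF B, Nat.choose (c ∩ b).card j) * Nat.choose (k - j) (t - j)
      = Nat.choose k j * Nat.choose (Fintype.card α - j) (t - j) := by
  have hbk : b.card = k := hB.1 b hb
  have h1 : ∀ c : Finset α, Nat.choose (c ∩ b).card j
      = ∑ J ∈ powersetCard j b, if J ⊆ c then 1 else 0 := by
    intro c
    rw [← card_powersetCard, ← sum_filter, card_eq_sum_ones]
    apply sum_congr _ (fun _ _ => rfl)
    ext J
    simp only [mem_powersetCard, mem_filter, subset_inter_iff]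
    tauto
  rw [sum_congr rfl (fun c _ => h1 c), sum_comm, sum_mul]
  have h2 : ∀ J ∈ powersetCard j b,
      (∑ c ∈ blocksF B, if J ⊆ c then 1 else 0) * Nat.choose (k - j) (t - j)
        = Nat.choose (Fintype.card α - j) (t - j) := by
    intro J hJ
    rw [mem_powersetCard] at hJ
    have := steiner_count hB J (by rw [hJ.2]; exact hj)
    rw [hJ.2] at this
    rw [← this, card_eq_sum_ones, sum_filter]
  rw [sum_congr rfl h2, sum_const, card_powersetCard, hbk, smul_eq_mul]

/-- Two distinct blocks share fewer than `t` points. -/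
theorem inter_card_lt {t k : ℕ} {B : Set (Finset α)} (hB : IsSteinerSystem t k B)
    {b c : Finset α} (hb : b ∈ B) (hc : c ∈ B) (hne : c ≠ b) : (c ∩ b).card < t := by
  by_contra h
  push Not at h
  obtain ⟨s, hs, hst⟩ := exists_subset_card_eq h
  obtain ⟨d, -, hd⟩ := hB.2 s hst
  have h1 := hd c ⟨hc, hs.trans inter_subset_left⟩
  have h2 := hd b ⟨hb, hs.trans inter_subset_right⟩
  exact hne (h1.trans h2.symm)

/-- The intersection-number identity with the block `b` itself removed. -/
theorem sum_choose_inter_erase {t k : ℕ} {B : Set (Finset α)} (hB : IsSteinerSystem t k B)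
    {b : Finset α} (hb : b ∈ B) (j : ℕ) (hj : j ≤ t) :
    (Nat.choose k j + ∑ c ∈ (blocksF B).erase b, Nat.choose (c ∩ b).card j)
        * Nat.choose (k - j) (t - j)
      = Nat.choose k j * Nat.choose (Fintype.card α - j) (t - j) := by
  rw [← sum_choose_inter hB hb j hj]
  congr 1
  rw [← add_sum_erase (blocksF B) (fun c => Nat.choose (c ∩ b).card j) (mem_blocksF.mpr hb),
    inter_self, hB.1 b hb]

theorem mem_erase_blocksF {B : Set (Finset α)} {b c : Finset α} :
    c ∈ (blocksF B).erase b ↔ c ≠ b ∧ c ∈ B := by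
  rw [mem_erase, mem_blocksF]

end Cfsg.Agent.Lib.H27
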