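import Mathlib
import Cfsg.Agent.Lib.H27.SteinerInt

/-!
helper27 library: intersection numbers in Steiner systems `S(4, 7, 23)`, `S(3, 6, 22)`, `S(5, 6, 12)`.
-/

set_option autoImplicit false

namespace Cfsg.Agent.Lib.H27

open Cfsg Finset Cfsg.Agent.Lib.H28

variable {α : Type*} [Fintype α] [DecidableEq α]

theorem s4723_sums (hα : Fintype.card α = 23) {B : Set (Finset α)}
    (hB : IsSteinerSystem 4 7 B) {b : Finset α} (hb : b ∈ B) :
    (∑ c ∈ (blocksF B).erase b, Nat.choose (c ∩ b).card 0) = 252 ∧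
    (∑ c ∈ (blocksF B).erase b, Nat.choose (c ∩ b).card 1) = 532 ∧
    (∑ c ∈ (blocksF B).erase b, Nat.choose (c ∩ b).card 2) = 420 ∧
    (∑ c ∈ (blocksF B).erase b, Nat.choose (c ∩ b).card 3) = 140 := by
  have h0 := sum_choose_inter_erase hB hb 0 (by norm_num)
  have h1 := sum_choose_inter_erase hB hb 1 (by norm_num)
  have h2 := sum_choose_inter_erase hB hb 2 (by norm_num)
  have h3 := sum_choose_inter_erase hB hb 3 (by norm_num)
  rw [hα] at h0 h1 h2 h3
  have e0 : Nat.choose 7 4 = 35 := by decide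
  have e1 : Nat.choose 6 3 = 20 := by decide
  have e2 : Nat.choose 5 2 = 10 := by decide
  have e3 : Nat.choose 4 1 = 4 := by decide
  have f0 : Nat.choose 23 4 = 8855 := by decide
  have f1 : Nat.choose 22 3 = 1540 := by decide
  have f2 : Nat.choose 21 2 = 210 := by decide
  have f3 : Nat.choose 20 1 = 20 := by decide
  have g0 : Nat.choose 7 0 = 1 := by decide
  have g1 : Nat.choose 7 1 = 7 := by decide
  have g2 : Nat.choose 7 2 = 21 := by decide
  have g3 : Nat.choose 7 3 = 35 := by decide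
  norm_num only [e0, e1, e2, e3, f0, f1, f2, f3, g0, g1, g2, g3] at h0 h1 h2 h3
  refine ⟨?_, ?_, ?_, ?_⟩ <;> omega

/-- Two distinct blocks of an `S(4, 7, 23)` meet in 1 or 3 points. -/
theorem s4723_inter (hα : Fintype.card α = 23) {B : Set (Finset α)}
    (hB : IsSteinerSystem 4 7 B) {b c : Finset α} (hb : b ∈ B) (hc : c ∈ B) (hne : c ≠ b) :
    (c ∩ b).card = 1 ∨ (c ∩ b).card = 3 := by
  obtain ⟨s0, s1, s2, s3⟩ := s4723_sums hα hB hb
  have hle : ∀ d ∈ (blocksF B).erase b,
      3 * Nat.choose (d ∩ b).card 1 + 6 * Nat.choose (d ∩ b).card 3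
        ≤ 3 * Nat.choose (d ∩ b).card 0 + 4 * Nat.choose (d ∩ b).card 2 := by
    intro d hd
    rw [mem_erase_blocksF] at hd
    have hlt := inter_card_lt hB hb hd.2 hd.1
    interval_cases (d ∩ b).card <;> decide
  have hsum : (∑ d ∈ (blocksF B).erase b,
      (3 * Nat.choose (d ∩ b).card 1 + 6 * Nat.choose (d ∩ b).card 3))
      = ∑ d ∈ (blocksF B).erase b,
      (3 * Nat.choose (d ∩ b).card 0 + 4 * Nat.choose (d ∩ b).card 2) := by
    rw [sum_add_distrib, sum_add_distrib, ← mul_sum, ← mul_sum, ← mul_sum, ← mul_sum,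
      s0, s1, s2, s3]
    norm_num
  have hall := (sum_eq_sum_iff_of_le hle).mp hsum c (mem_erase_blocksF.mpr ⟨hne, hc⟩)
  have hlt := inter_card_lt hB hb hc hne
  revert hall
  interval_cases (c ∩ b).card <;> simp [Nat.choose]

theorem s3622_sums (hα : Fintype.card α = 22) {B : Set (Finset α)}
    (hB : IsSteinerSystem 3 6 B) {b : Finset α} (hb : b ∈ B) :
    (∑ c ∈ (blocksF B).erase b, Nat.choose (c ∩ b).card 1) = 120 ∧
    (∑ c ∈ (blocksF B).erase b, Nat.choose (c ∩ b).card 2) = 60 := by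
  have h1 := sum_choose_inter_erase hB hb 1 (by norm_num)
  have h2 := sum_choose_inter_erase hB hb 2 (by norm_num)
  rw [hα] at h1 h2
  have e1 : Nat.choose 5 2 = 10 := by decide
  have e2 : Nat.choose 4 1 = 4 := by decide
  have f1 : Nat.choose 21 2 = 210 := by decide
  have f2 : Nat.choose 20 1 = 20 := by decide
  have g1 : Nat.choose 6 1 = 6 := by decide
  have g2 : Nat.choose 6 2 = 15 := by decide
  norm_num only [e1, e2, f1, f2, g1, g2] at h1 h2
  refine ⟨?_, ?_⟩ <;> omega

/-- Two distinct blocks of an `S(3, 6, 22)` meet in 0 or 2 points. -/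
theorem s3622_inter (hα : Fintype.card α = 22) {B : Set (Finset α)}
    (hB : IsSteinerSystem 3 6 B) {b c : Finset α} (hb : b ∈ B) (hc : c ∈ B) (hne : c ≠ b) :
    (c ∩ b).card = 0 ∨ (c ∩ b).card = 2 := by
  obtain ⟨s1, s2⟩ := s3622_sums hα hB hb
  have hle : ∀ d ∈ (blocksF B).erase b,
      2 * Nat.choose (d ∩ b).card 2 ≤ Nat.choose (d ∩ b).card 1 := by
    intro d hd
    rw [mem_erase_blocksF] at hd
    have hlt := inter_card_lt hB hb hd.2 hd.1
    interval_cases (d ∩ b).card <;> decide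
  have hsum : (∑ d ∈ (blocksF B).erase b, 2 * Nat.choose (d ∩ b).card 2)
      = ∑ d ∈ (blocksF B).erase b, Nat.choose (d ∩ b).card 1 := by
    rw [← mul_sum, s1, s2]
    norm_num
  have hall := (sum_eq_sum_iff_of_le hle).mp hsum c (mem_erase_blocksF.mpr ⟨hne, hc⟩)
  have hlt := inter_card_lt hB hb hc hne
  revert hall
  interval_cases (c ∩ b).card <;> simp [Nat.choose]

theorem s5612_sums (hα : Fintype.card α = 12) {B : Set (Finset α)}
    (hB : IsSteinerSystem 5 6 B) {b : Finset α} (hb : b ∈ B) :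
    (∑ c ∈ (blocksF B).erase b, Nat.choose (c ∩ b).card 0) = 131 ∧
    (∑ c ∈ (blocksF B).erase b, Nat.choose (c ∩ b).card 1) = 390 ∧
    (∑ c ∈ (blocksF B).erase b, Nat.choose (c ∩ b).card 2) = 435 ∧
    (∑ c ∈ (blocksF B).erase b, Nat.choose (c ∩ b).card 3) = 220 ∧
    (∑ c ∈ (blocksF B).erase b, Nat.choose (c ∩ b).card 4) = 45 := by
  have h0 := sum_choose_inter_erase hB hb 0 (by norm_num)
  have h1 := sum_choose_inter_erase hB hb 1 (by norm_num)
  have h2 := sum_choose_inter_erase hB hb 2 (by norm_num)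
  have h3 := sum_choose_inter_erase hB hb 3 (by norm_num)
  have h4 := sum_choose_inter_erase hB hb 4 (by norm_num)
  rw [hα] at h0 h1 h2 h3 h4
  have e0 : Nat.choose 6 5 = 6 := by decide
  have e1 : Nat.choose 5 4 = 5 := by decide
  have e2 : Nat.choose 4 3 = 4 := by decide
  have e3 : Nat.choose 3 2 = 3 := by decide
  have e4 : Nat.choose 2 1 = 2 := by decide
  have f0 : Nat.choose 12 5 = 792 := by decide
  have f1 : Nat.choose 11 4 = 330 := by decide
  have f2 : Nat.choose 10 3 = 120 := by decide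
  have f3 : Nat.choose 9 2 = 36 := by decide
  have f4 : Nat.choose 8 1 = 8 := by decide
  have g0 : Nat.choose 6 0 = 1 := by decide
  have g1 : Nat.choose 6 1 = 6 := by decide
  have g2 : Nat.choose 6 2 = 15 := by decide
  have g3 : Nat.choose 6 3 = 20 := by decide
  have g4 : Nat.choose 6 4 = 15 := by decide
  norm_num only [e0, e1, e2, e3, e4, f0, f1, f2, f3, f4, g0, g1, g2, g3, g4] at h0 h1 h2 h3 h4
  refine ⟨?_, ?_, ?_, ?_, ?_⟩ <;> omega

/-- In an `S(5, 6, 12)` the complement of a block is a block. -/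
theorem s5612_compl (hα : Fintype.card α = 12) {B : Set (Finset α)}
    (hB : IsSteinerSystem 5 6 B) {b : Finset α} (hb : b ∈ B) : bᶜ ∈ B := by
  obtain ⟨s0, s1, s2, s3, s4⟩ := s5612_sums hα hB hb
  have hbk : b.card = 6 := hB.1 b hb
  have hpt : ∀ d ∈ (blocksF B).erase b,
      (if Disjoint b d then 1 else 0) + Nat.choose (d ∩ b).card 1 + Nat.choose (d ∩ b).card 3
        = Nat.choose (d ∩ b).card 0 + Nat.choose (d ∩ b).card 2 + Nat.choose (d ∩ b).card 4 := by
    intro d hd
    rw [mem_erase_blocksF] at hd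
    have hlt := inter_card_lt hB hb hd.2 hd.1
    have hdis : Disjoint b d ↔ (d ∩ b).card = 0 := by
      rw [card_eq_zero, inter_comm, disjoint_iff_inter_eq_empty]
    by_cases h0 : (d ∩ b).card = 0
    · rw [if_pos (hdis.mpr h0), h0]
      decide
    · rw [if_neg (fun h => h0 (hdis.mp h))]
      revert h0
      interval_cases (d ∩ b).card <;> simp [Nat.choose]
  have hsum := sum_congr rfl hpt
  rw [sum_add_distrib, sum_add_distrib, sum_add_distrib, sum_add_distrib, s0, s1, s2, s3, s4]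
    at hsum
  have hone : ∑ d ∈ (blocksF B).erase b, (if Disjoint b d then 1 else 0) = 1 := by omega
  -- so some block is disjoint from b
  have hex : ∃ d ∈ (blocksF B).erase b, Disjoint b d := by
    by_contra hno
    push Not at hno
    have : ∑ d ∈ (blocksF B).erase b, (if Disjoint b d then 1 else 0) = 0 :=
      sum_eq_zero (fun d hd => if_neg (hno d hd))
    omega
  obtain ⟨d, hd, hdis⟩ := hex
  rw [mem_erase_blocksF] at hd
  have hdk : d.card = 6 := hB.1 d hd.2
  have hsub : d ⊆ bᶜ := by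
    intro x hx
    rw [mem_compl]
    intro hxb
    exact (disjoint_left.mp hdis) hxb hx
  have hcard : bᶜ.card = 6 := by
    rw [card_compl, hα, hbk]
  have : d = bᶜ := eq_of_subset_of_card_le hsub (by rw [hcard, hdk])
  rw [← this]
  exact hd.2

end Cfsg.Agent.Lib.H27
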