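import Mathlib
import Cfsg.Agent.Lib.H10.S4415BadDefs

/-!
# S4415, BAD layer (helper27): (B8) `R` is a `2`-group

In the frame of helper10's cut (`Lib/H10/S4415Defs`, `Lib/H10/S4415BadDefs`): `X ≤ R` an
`R<b>`-normal extraspecial subgroup (`XS z X`) of order `≤ 32` with `C_R(X) = {1,z}`, `z = -1` on
`W`, `|W| = 81`.  Then `R` is a `2`-group (`B8Stmt`).

Route (no minimal normal subgroup, no `Sp_4(2)`): a prime `q ≥ 5` dividing `|R|` gives `y ∈ R` of
order `q`; counting fixed points of `<y>` on `W` (`q ∣ 81 - 3^j`, `j ≤ 3`) and on `X`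
(`q ∣ 2^n - 2^i`, `1 ≤ i < n ≤ 5`) forces `q = 5` and `C_W(y) = 0`.  A `b`-invariant Sylow
`5`-subgroup `P` of `R` (fixed point of the `3`-group `<b>` on `Syl_5(R)`, whose number is prime
to `3`) is semiregular on `W - 0`, so `|P| ∣ 80` by Burnside's lemma, `|P| = 5`, `b` centralises
`P`, and the flag lemma kills `P`.
-/

set_option autoImplicit false

namespace Cfsg.Agent.Lib.H27.S4415B8

open Cfsg.Agent.Lib.H10.S4415

variable {S E : Type*} [Group S] [AddCommGroup E] [Module (ZMod 3) E]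
  {ρ : Representation (ZMod 3) S E} {W : Submodule (ZMod 3) E}

/-! ### the two actions -/

/-- The action of a subgroup `H` of `S` on an `H`-invariant submodule `W`. -/
@[reducible] def actW (ρ : Representation (ZMod 3) S E) (W : Submodule (ZMod 3) E)
    (H : Subgroup S) (hH : ∀ g ∈ H, ∀ w ∈ W, ρ g w ∈ W) : MulAction ↥H ↥W where
  smul g w := ⟨ρ (g : S) (w : E), hH g g.2 w w.2⟩
  one_smul w := by
    apply Subtype.ext
    show ρ ((1 : ↥H) : S) (w : E) = w
    simp
  mul_smul g h w := by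
    apply Subtype.ext
    show ρ ((g * h : ↥H) : S) (w : E) = ρ (g : S) (ρ (h : S) (w : E))
    simp [map_mul]

/-- The conjugation action of a subgroup `H` of `S` on a subgroup `X` normalised by `H`. -/
@[reducible] def actX (H X : Subgroup S) (hH : ∀ g ∈ H, ∀ x ∈ X, g * x * g⁻¹ ∈ X) :
    MulAction ↥H ↥X where
  smul g x := ⟨(g : S) * x * (g : S)⁻¹, hH g g.2 x x.2⟩
  one_smul x := by
    apply Subtype.ext
    show ((1 : ↥H) : S) * (x : S) * ((1 : ↥H) : S)⁻¹ = x
    simp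
  mul_smul g h x := by
    apply Subtype.ext
    show ((g * h : ↥H) : S) * (x : S) * ((g * h : ↥H) : S)⁻¹ =
      (g : S) * ((h : S) * (x : S) * (h : S)⁻¹) * (g : S)⁻¹
    simp [mul_assoc]

/-- `ρ y w = w` implies `ρ (y ^ m) w = w`. -/
theorem fix_pow (ρ : Representation (ZMod 3) S E) (y : S) (w : E) (h : ρ y w = w) (m : ℕ) :
    ρ (y ^ m) w = w := by
  induction m with
  | zero => simp
  | succ m ih => rw [pow_succ, map_mul, Module.End.mul_apply, h, ih]

/-- the fixed vectors of `y` in `W`, as an additive subgroup of `W`. -/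
def fixW (ρ : Representation (ZMod 3) S E) (W : Submodule (ZMod 3) E) (y : S) :
    AddSubgroup ↥W where
  carrier := {w | ρ y (w : E) = w}
  add_mem' := by
    intro a c ha hc
    show ρ y ((a + c : ↥W) : E) = ((a + c : ↥W) : E)
    rw [Submodule.coe_add, map_add, ha, hc]
  zero_mem' := by
    show ρ y ((0 : ↥W) : E) = ((0 : ↥W) : E)
    simp
  neg_mem' := by
    intro a ha
    show ρ y ((-a : ↥W) : E) = ((-a : ↥W) : E)
    rw [Submodule.coe_neg, map_neg, ha]

/-- the centraliser of `y` in `X`, as a subgroup of `X`. -/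
def fixX (X : Subgroup S) (y : S) : Subgroup ↥X where
  carrier := {x | y * (x : S) * y⁻¹ = x}
  mul_mem' := by
    intro a c ha hc
    show y * ((a * c : ↥X) : S) * y⁻¹ = ((a * c : ↥X) : S)
    have ha' : y * (a : S) * y⁻¹ = a := ha
    have hc' : y * (c : S) * y⁻¹ = c := hc
    rw [Subgroup.coe_mul]
    calc y * ((a : S) * c) * y⁻¹ = (y * a * y⁻¹) * (y * c * y⁻¹) := by group
      _ = a * c := by rw [ha', hc']
  one_mem' := by
    show y * ((1 : ↥X) : S) * y⁻¹ = ((1 : ↥X) : S)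
    simp
  inv_mem' := by
    intro a ha
    show y * ((a⁻¹ : ↥X) : S) * y⁻¹ = ((a⁻¹ : ↥X) : S)
    have ha' : y * (a : S) * y⁻¹ = a := ha
    rw [Subgroup.coe_inv]
    calc y * (a : S)⁻¹ * y⁻¹ = (y * a * y⁻¹)⁻¹ := by group
      _ = (a : S)⁻¹ := by rw [ha']

/-- fixed-point congruence on `W` for an element of prime order. -/
theorem card_W_modEq [Finite E] (H : Subgroup S) (hH : ∀ g ∈ H, ∀ w ∈ W, ρ g w ∈ W)
    (y : S) (hy : y ∈ H) (q : ℕ) [hq : Fact q.Prime] (hyq : orderOf y = q) :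
    Nat.card ↥W ≡ Nat.card ↥(fixW ρ W y) [MOD q] := by
  have hzH : Subgroup.zpowers y ≤ H := Subgroup.zpowers_le.2 hy
  let _ : MulAction ↥(Subgroup.zpowers y) ↥W :=
    actW ρ W (Subgroup.zpowers y) (fun g hg w hw => hH g (hzH hg) w hw)
  have hP : IsPGroup q ↥(Subgroup.zpowers y) :=
    IsPGroup.of_card (n := 1) (by rw [Nat.card_zpowers, hyq, pow_one])
  have h1 := hP.card_modEq_card_fixedPoints ↥W
  have hset : (MulAction.fixedPoints ↥(Subgroup.zpowers y) ↥W) = (fixW ρ W y : Set ↥W) := by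
    ext w
    constructor
    · intro hw
      have := hw ⟨y, Subgroup.mem_zpowers y⟩
      have h2 : ((⟨y, Subgroup.mem_zpowers y⟩ : ↥(Subgroup.zpowers y)) • w : ↥W) = w := this
      have h3 := congrArg (fun v : ↥W => (v : E)) h2
      exact h3
    · intro hw g
      have hw' : ρ y (w : E) = w := hw
      obtain ⟨k, hk⟩ := Subgroup.mem_zpowers_iff.1 g.2
      apply Subtype.ext
      show ρ (g : S) (w : E) = w
      rw [← hk]
      -- zpow
      have hinv : ρ y⁻¹ (w : E) = w := by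
        have : ρ y⁻¹ (ρ y (w : E)) = w := by
          rw [← Module.End.mul_apply, ← map_mul, inv_mul_cancel, map_one, Module.End.one_apply]
        rwa [hw'] at this
      cases k with
      | ofNat n => rw [Int.ofNat_eq_natCast, zpow_natCast]; exact fix_pow ρ y _ hw' n
      | negSucc n =>
        rw [zpow_negSucc, ← inv_pow]
        exact fix_pow ρ y⁻¹ _ hinv (n + 1)
  rw [hset] at h1
  exact h1

/-- fixed-point congruence on `X` for an element of prime order. -/
theorem card_X_modEq (H X : Subgroup S) [Finite X] (hH : ∀ g ∈ H, ∀ x ∈ X, g * x * g⁻¹ ∈ X)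
    (y : S) (hy : y ∈ H) (q : ℕ) [hq : Fact q.Prime] (hyq : orderOf y = q) :
    Nat.card ↥X ≡ Nat.card ↥(fixX X y) [MOD q] := by
  have hzH : Subgroup.zpowers y ≤ H := Subgroup.zpowers_le.2 hy
  let _ : MulAction ↥(Subgroup.zpowers y) ↥X :=
    actX (Subgroup.zpowers y) X (fun g hg x hx => hH g (hzH hg) x hx)
  have hP : IsPGroup q ↥(Subgroup.zpowers y) :=
    IsPGroup.of_card (n := 1) (by rw [Nat.card_zpowers, hyq, pow_one])
  have h1 := hP.card_modEq_card_fixedPoints ↥X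
  have hset : (MulAction.fixedPoints ↥(Subgroup.zpowers y) ↥X) = (fixX X y : Set ↥X) := by
    ext x
    constructor
    · intro hx
      have := hx ⟨y, Subgroup.mem_zpowers y⟩
      have h2 : ((⟨y, Subgroup.mem_zpowers y⟩ : ↥(Subgroup.zpowers y)) • x : ↥X) = x := this
      have h3 := congrArg (fun v : ↥X => (v : S)) h2
      exact h3
    · intro hx g
      have hx' : y * (x : S) * y⁻¹ = x := hx
      apply Subtype.ext
      show (g : S) * (x : S) * (g : S)⁻¹ = x
      -- the centraliser of `x` contains `y`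
      have hc : y ∈ Subgroup.centralizer ({(x : S)} : Set S) := by
        rw [Subgroup.mem_centralizer_iff]
        intro s hs
        rw [Set.mem_singleton_iff] at hs
        subst hs
        calc (x : S) * y = (y * x * y⁻¹) * y := by rw [hx']
          _ = y * x := by group
      have hg : (g : S) ∈ Subgroup.centralizer ({(x : S)} : Set S) :=
        (Subgroup.zpowers_le.2 hc) g.2
      rw [Subgroup.mem_centralizer_iff] at hg
      have := hg (x : S) rfl
      calc (g : S) * (x : S) * (g : S)⁻¹ = ((x : S) * g) * (g : S)⁻¹ := by rw [this]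
        _ = x := by group
  rw [hset] at h1
  exact h1

/-! ### arithmetic -/

theorem arith_aux (q n i j : ℕ) (hq : q.Prime) (hq5 : 5 ≤ q) (hn : n ≤ 5) (hi1 : 1 ≤ i)
    (hin : i < n) (hj : j < 4) (h1 : q ∣ 2 ^ n - 2 ^ i) (h2 : q ∣ 81 - 3 ^ j) :
    q = 5 ∧ j = 0 := by
  have hq30 : q ≤ 30 := by
    interval_cases n <;> interval_cases i <;> norm_num at h1 <;>
      exact (Nat.le_of_dvd (by norm_num) h1).trans (by norm_num)
  interval_cases q <;> norm_num at hq <;>
    interval_cases n <;> interval_cases i <;> norm_num at h1 <;>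
    interval_cases j <;> norm_num at h2 <;> simp

/-! ### `z` is central -/

/-- `z` is central in `R<b>`: it acts as the scalar `-1` on `W`, and `R<b>` is faithful on `W`. -/
theorem z_comm {R : Subgroup S} {b : S} (hL : LinCtx ρ R b W) (z : S) (hzRB : z ∈ RB R b)
    (hz2 : z * z = 1) (hz : IsNeg ρ W z) (g : S) (hg : g ∈ RB R b) : g * z = z * g := by
  have hzinv : z⁻¹ = z := inv_eq_of_mul_eq_one_right hz2
  have hginv : g⁻¹ ∈ RB R b := (RB R b).inv_mem hg
  have hc : g * z * g⁻¹ * z⁻¹ ∈ RB R b :=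
    (RB R b).mul_mem ((RB R b).mul_mem ((RB R b).mul_mem hg hzRB) hginv) ((RB R b).inv_mem hzRB)
  have htriv : ∀ w ∈ W, ρ (g * z * g⁻¹ * z⁻¹) w = w := by
    intro w hw
    rw [hzinv, map_mul, map_mul, map_mul, Module.End.mul_apply, Module.End.mul_apply,
      Module.End.mul_apply, hz w hw, map_neg]
    have hv : ρ g⁻¹ w ∈ W := hL.W_inv g⁻¹ hginv w hw
    rw [map_neg, hz _ hv, neg_neg, ← Module.End.mul_apply, ← map_mul, mul_inv_cancel, map_one,
      Module.End.one_apply]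
  have h1 := hL.faithful _ hc htriv
  calc g * z = (g * z * g⁻¹ * z⁻¹) * (z * g) := by group
    _ = z * g := by rw [h1, one_mul]

/-! ### elements of prime order `≥ 5` -/

theorem xs_isPGroup {z : S} {X : Subgroup S} (hXS : XS z X) : IsPGroup 2 ↥X := by
  intro g
  refine ⟨2, ?_⟩
  apply Subtype.ext
  have h4 : ((g : S)) ^ (2 ^ 2) = ((g : S) * g) * ((g : S) * g) := by
    norm_num [pow_succ, mul_assoc]
  rw [Subgroup.coe_pow, Subgroup.coe_one, h4]
  rcases hXS.sq g g.2 with h | h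
  · rw [h, one_mul]
  · rw [h, hXS.z_sq]

theorem five_of_prime [Finite S] [Finite E] {R : Subgroup S} {b : S} {z : S} {X : Subgroup S}
    (hL : LinCtx ρ R b W) (hW : Nat.card ↥W = 81) (hz : IsNeg ρ W z) (hXR : X ≤ R)
    (hXn : NormBy (RB R b) X) (hXS : XS z X) (hX32 : Nat.card ↥X ≤ 32)
    (hCX : ∀ c ∈ R, (∀ g ∈ X, c * g = g * c) → c = 1 ∨ c = z)
    (y : S) (hyR : y ∈ R) (q : ℕ) (hq : q.Prime) (hq5 : 5 ≤ q) (hyq : orderOf y = q) :
    q = 5 ∧ ∀ w ∈ W, ρ y w = w → w = 0 := by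
  have : Fact q.Prime := ⟨hq⟩
  have hRB : R ≤ RB R b := le_sup_left
  have hyRB : y ∈ RB R b := hRB hyR
  have hy1 : y ≠ 1 := by
    intro h
    rw [h, orderOf_one] at hyq
    omega
  have h1 := card_W_modEq (RB R b) hL.W_inv y hyRB q hyq
  have h2 := card_X_modEq (RB R b) X hXn y hyRB q hyq
  -- the fixed vectors
  have hd1 : Nat.card ↥(fixW ρ W y) ∣ 3 ^ 4 := by
    have := AddSubgroup.card_addSubgroup_dvd_card (fixW ρ W y)
    rw [hW] at this
    exact this
  obtain ⟨j, hj4, hj⟩ := (Nat.dvd_prime_pow Nat.prime_three).1 hd1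
  have hj4' : j ≠ 4 := by
    intro h
    rw [h] at hj
    have htop : fixW ρ W y = ⊤ := by
      rw [← AddSubgroup.card_eq_iff_eq_top, hj, hW]
      norm_num
    have hall : ∀ w ∈ W, ρ y w = w := by
      intro w hw
      have : (⟨w, hw⟩ : ↥W) ∈ fixW ρ W y := by rw [htop]; trivial
      exact this
    exact hy1 (hL.faithful y hyRB hall)
  -- the group `X`
  have hX2 : IsPGroup 2 ↥X := xs_isPGroup hXS
  obtain ⟨n, hn⟩ := IsPGroup.iff_card.1 hX2
  have hn5 : n ≤ 5 := by
    rw [hn] at hX32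
    by_contra hcon
    have : 2 ^ 6 ≤ 2 ^ n := Nat.pow_le_pow_right (by norm_num) (by omega)
    omega
  have hd2 : Nat.card ↥(fixX X y) ∣ 2 ^ n := by
    have := Subgroup.card_subgroup_dvd_card (fixX X y)
    rw [hn] at this
    exact this
  obtain ⟨i, hin, hi⟩ := (Nat.dvd_prime_pow Nat.prime_two).1 hd2
  have hzX : z ∈ X := hXS.zX
  have hzRB : z ∈ RB R b := hRB (hXR hzX)
  have hzfix : (⟨z, hzX⟩ : ↥X) ∈ fixX X y := by
    show y * z * y⁻¹ = z
    rw [z_comm hL z hzRB hXS.z_sq hz y hyRB]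
    group
  have hi0 : i ≠ 0 := by
    intro h
    rw [h, pow_zero] at hi
    have hbot : fixX X y = ⊥ := Subgroup.card_eq_one.1 hi
    rw [hbot, Subgroup.mem_bot] at hzfix
    exact hXS.z_ne (congrArg Subtype.val hzfix)
  have hin' : i ≠ n := by
    intro h
    rw [h] at hi
    have htop : fixX X y = ⊤ := by
      rw [← Subgroup.card_eq_iff_eq_top, hi, hn]
    have hall : ∀ g ∈ X, y * g = g * y := by
      intro g hg
      have : (⟨g, hg⟩ : ↥X) ∈ fixX X y := by rw [htop]; trivial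
      have h3 : y * g * y⁻¹ = g := this
      calc y * g = (y * g * y⁻¹) * y := by group
        _ = g * y := by rw [h3]
    rcases hCX y hyR hall with h | h
    · exact hy1 h
    · have : orderOf y ∣ 2 := by
        apply orderOf_dvd_of_pow_eq_one
        rw [h, pow_two, hXS.z_sq]
      rw [hyq] at this
      have := Nat.le_of_dvd (by norm_num) this
      omega
  -- the two divisibilities
  have hdv1 : q ∣ 2 ^ n - 2 ^ i := by
    rw [hn, hi] at h2
    exact (Nat.modEq_iff_dvd' (Nat.pow_le_pow_right (by norm_num) hin)).1 h2.symm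
  have hdv2 : q ∣ 81 - 3 ^ j := by
    rw [hW, hj] at h1
    have hle : 3 ^ j ≤ 81 := by
      calc 3 ^ j ≤ 3 ^ 4 := Nat.pow_le_pow_right (by norm_num) hj4
        _ = 81 := by norm_num
    exact (Nat.modEq_iff_dvd' hle).1 h1.symm
  obtain ⟨hq5', hj0⟩ := arith_aux q n i j hq hq5 hn5 (Nat.one_le_iff_ne_zero.2 hi0)
    (lt_of_le_of_ne hin hin') (lt_of_le_of_ne hj4 hj4') hdv1 hdv2
  refine ⟨hq5', ?_⟩
  intro w hw hfix
  rw [hj0, pow_zero] at hj
  have hbot : fixW ρ W y = ⊥ := AddSubgroup.card_eq_one.1 hj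
  have hmem : (⟨w, hw⟩ : ↥W) ∈ fixW ρ W y := hfix
  rw [hbot, AddSubgroup.mem_bot] at hmem
  exact congrArg Subtype.val hmem

/-! ### a `b`-invariant Sylow subgroup -/

open scoped Pointwise in
theorem exists_inv_sylow [Finite S] (R : Subgroup S) (b : S) (hb3 : b ^ 3 = 1)
    (hbn : ∀ r ∈ R, b * r * b⁻¹ ∈ R) (hcop : (Nat.card ↥R).Coprime 3) (p : ℕ) [Fact p.Prime]
    (hp : p ∣ Nat.card ↥R) :
    ∃ P : Subgroup S, P ≤ R ∧ IsPGroup p ↥P ∧ P ≠ ⊥ ∧ ∀ y ∈ P, b * y * b⁻¹ ∈ P := by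
  have hb3' : b * b * b = 1 := by
    rw [← hb3, pow_succ, pow_succ, pow_one]
  have e1 : b * b = b⁻¹ := eq_inv_of_mul_eq_one_left hb3'
  have e2 : b⁻¹ * b⁻¹ = b := by
    rw [← e1]
    calc b * b * (b * b) = (b * b * b) * b := by simp only [mul_assoc]
      _ = b := by rw [hb3', one_mul]
  have hbn' : ∀ r ∈ R, b⁻¹ * r * b ∈ R := by
    intro r hr
    have h1 := hbn _ (hbn r hr)
    have h2 : b * (b * r * b⁻¹) * b⁻¹ = (b * b) * r * (b⁻¹ * b⁻¹) := by group
    rw [h2, e1, e2] at h1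
    exact h1
  have hbN : b ∈ Subgroup.normalizer (R : Set S) := by
    rw [Subgroup.mem_normalizer_iff]
    intro h
    constructor
    · exact hbn h
    · intro hh
      have := hbn' _ hh
      have h3 : b⁻¹ * (b * h * b⁻¹) * b = h := by group
      rwa [h3] at this
  set N := Subgroup.normalizer (R : Set S) with hN
  let b' : ↥N := ⟨b, hbN⟩
  let Nb : Subgroup ↥N := Subgroup.zpowers b'
  have hb'3 : b' ^ 3 = 1 := by
    apply Subtype.ext
    rw [Subgroup.coe_pow, Subgroup.coe_one]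
    exact hb3
  have hNb : IsPGroup 3 ↥Nb := by
    have h1 : orderOf b' ∣ 3 := orderOf_dvd_of_pow_eq_one hb'3
    rcases (Nat.dvd_prime Nat.prime_three).1 h1 with h | h
    · exact IsPGroup.of_card (n := 0) (by rw [Nat.card_zpowers, h, pow_zero])
    · exact IsPGroup.of_card (n := 1) (by rw [Nat.card_zpowers, h, pow_one])
  have hnd : ¬ 3 ∣ Nat.card (Sylow p ↥R) := by
    intro h
    have P0 : Sylow p ↥R := default
    have h1 := Sylow.card_dvd_index P0
    have h2 : (P0 : Subgroup ↥R).index ∣ Nat.card ↥R := Subgroup.index_dvd_card _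
    have h3 : 3 ∣ Nat.card ↥R := h.trans (h1.trans h2)
    have h4 := Nat.dvd_gcd h3 (dvd_refl 3)
    rw [Nat.Coprime] at hcop
    rw [hcop] at h4
    omega
  have : Fact (Nat.Prime 3) := ⟨Nat.prime_three⟩
  obtain ⟨P, hP⟩ := hNb.nonempty_fixed_point_of_prime_not_dvd_card (Sylow p ↥R) hnd
  let g0 : ↥Nb := ⟨b', Subgroup.mem_zpowers b'⟩
  have hg0 : g0 • P = P := hP g0
  refine ⟨(P : Subgroup ↥R).map R.subtype, Subgroup.map_subtype_le _, P.isPGroup'.map _, ?_, ?_⟩
  · intro h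
    rw [Subgroup.map_eq_bot_iff_of_injective _ R.subtype_injective] at h
    exact P.ne_bot_of_dvd_card hp h
  · rintro y ⟨y0, hy0, rfl⟩
    have h1 : g0 • y0 ∈ g0 • (P : Subgroup ↥R) :=
      Subgroup.smul_mem_pointwise_smul y0 g0 (P : Subgroup ↥R) hy0
    have h1' : g0 • y0 ∈ ((g0 • P : Sylow p ↥R) : Subgroup ↥R) := h1
    rw [hg0] at h1'
    refine ⟨g0 • y0, h1', ?_⟩
    rfl

/-! ### Burnside count for a semiregular action on `W - 0` -/

theorem card_dvd_of_free [Finite E] (P : Subgroup S) [Finite P]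
    (hP : ∀ g ∈ P, ∀ w ∈ W, ρ g w ∈ W)
    (hfree : ∀ g ∈ P, g ≠ 1 → ∀ w ∈ W, ρ g w = w → w = 0) :
    Nat.card ↥P ∣ Nat.card ↥W - 1 := by
  classical
  let _ : MulAction ↥P ↥W := actW ρ W P hP
  have := Fintype.ofFinite ↥P
  have := Fintype.ofFinite ↥W
  have : ∀ g : ↥P, Fintype (MulAction.fixedBy ↥W g) := fun g => Fintype.ofFinite _
  have := Fintype.ofFinite (MulAction.orbitRel.Quotient ↥P ↥W)
  have hB := MulAction.sum_card_fixedBy_eq_card_orbits_mul_card_group ↥P ↥W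
  have hone : Fintype.card (MulAction.fixedBy ↥W (1 : ↥P)) = Fintype.card ↥W :=
    Fintype.card_congr (Equiv.subtypeUnivEquiv (fun w => one_smul _ w))
  have hne : ∀ g : ↥P, g ≠ 1 → Fintype.card (MulAction.fixedBy ↥W g) = 1 := by
    intro g hg
    rw [Fintype.card_eq_one_iff]
    refine ⟨⟨0, ?_⟩, ?_⟩
    · show g • (0 : ↥W) = 0
      apply Subtype.ext
      show ρ (g : S) ((0 : ↥W) : E) = ((0 : ↥W) : E)
      simp
    · rintro ⟨w, hw⟩
      apply Subtype.ext
      have hw' : g • w = w := hw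
      have h2 : ρ (g : S) (w : E) = w := congrArg Subtype.val hw'
      have hg1 : (g : S) ≠ 1 := fun h => hg (Subtype.ext h)
      have := hfree g g.2 hg1 w w.2 h2
      exact Subtype.ext this
  rw [← Finset.add_sum_erase Finset.univ _ (Finset.mem_univ (1 : ↥P)), hone,
    Finset.sum_congr rfl (fun g hg => hne g (Finset.ne_of_mem_erase hg)), Finset.sum_const,
    Finset.card_erase_of_mem (Finset.mem_univ _), Finset.card_univ, smul_eq_mul, mul_one] at hB
  rw [Nat.card_eq_fintype_card, Nat.card_eq_fintype_card]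
  have hposP : 0 < Fintype.card ↥P := Fintype.card_pos
  have hposW : 0 < Fintype.card ↥W := Fintype.card_pos
  have h5 : (Fintype.card ↥W - 1) + Fintype.card ↥P =
      Fintype.card (MulAction.orbitRel.Quotient ↥P ↥W) * Fintype.card ↥P := by
    rw [← hB]
    omega
  have h6 : Fintype.card ↥P ∣ (Fintype.card ↥W - 1) + Fintype.card ↥P := by
    rw [h5]
    exact dvd_mul_left _ _
  exact (Nat.dvd_add_left (dvd_refl _)).1 h6

/-! ### an automorphism of order dividing `3` of a group of order `5` is trivial -/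

theorem zmod5_cube : ∀ a : ZMod 5, a * a * a - 1 = 0 → a - 1 = 0 := by decide

theorem centralises_of_card_five (P : Subgroup S) (hP5 : Nat.card ↥P = 5) (b : S)
    (hb3 : b ^ 3 = 1) (hbP : ∀ y ∈ P, b * y * b⁻¹ ∈ P) : ∀ y ∈ P, b * y * b⁻¹ = y := by
  intro y hy
  by_cases hy1 : y = 1
  · rw [hy1]; group
  have : Fact (Nat.Prime 5) := ⟨by norm_num⟩
  have hy1' : (⟨y, hy⟩ : ↥P) ≠ 1 := fun h => hy1 (congrArg Subtype.val h)
  have htop : Subgroup.zpowers (⟨y, hy⟩ : ↥P) = ⊤ := zpowers_eq_top_of_prime_card hP5 hy1'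
  have hmem : (⟨b * y * b⁻¹, hbP y hy⟩ : ↥P) ∈ Subgroup.zpowers (⟨y, hy⟩ : ↥P) := by
    rw [htop]; trivial
  obtain ⟨k, hk⟩ := Subgroup.mem_zpowers_iff.1 hmem
  have hk' : y ^ k = b * y * b⁻¹ := by
    have := congrArg Subtype.val hk
    rwa [Subgroup.coe_zpow] at this
  -- iterate
  have h2 : b * (b * y * b⁻¹) * b⁻¹ = y ^ (k * k) := by
    rw [← hk', ← conj_zpow, ← hk', ← zpow_mul]
  have h3 : b * (b * (b * y * b⁻¹) * b⁻¹) * b⁻¹ = y ^ (k * k * k) := by
    rw [h2, ← conj_zpow, ← hk', ← zpow_mul]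
    congr 1; ring
  have hb3' : b * b * b = 1 := by
    rw [← hb3, pow_succ, pow_succ, pow_one]
  have h3' : b * (b * (b * y * b⁻¹) * b⁻¹) * b⁻¹ = y := by
    have : b * (b * (b * y * b⁻¹) * b⁻¹) * b⁻¹ = (b * b * b) * y * (b * b * b)⁻¹ := by group
    rw [this, hb3']; simp
  have h4 : y ^ (k * k * k - 1) = 1 := by
    rw [zpow_sub, zpow_one, ← h3, h3', mul_inv_cancel]
  have ho : orderOf y = 5 := by
    have h1 : orderOf (⟨y, hy⟩ : ↥P) ∣ 5 := by
      rw [← hP5]; exact orderOf_dvd_natCard _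
    rw [Subgroup.orderOf_mk] at h1
    rcases (Nat.dvd_prime (by norm_num : Nat.Prime 5)).1 h1 with h | h
    · exact absurd (orderOf_eq_one_iff.1 h) hy1
    · exact h
  have h5 : (5 : ℤ) ∣ k * k * k - 1 := by
    have := orderOf_dvd_iff_zpow_eq_one.2 h4
    rwa [ho] at this
  have h6 : (((k * k * k - 1 : ℤ)) : ZMod 5) = 0 :=
    (ZMod.intCast_zmod_eq_zero_iff_dvd _ 5).2 h5
  push_cast at h6
  have h7 := zmod5_cube _ h6
  have h8 : (5 : ℤ) ∣ k - 1 := by
    apply (ZMod.intCast_zmod_eq_zero_iff_dvd _ 5).1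
    push_cast
    exact h7
  have h9 : y ^ (k - 1) = 1 := by
    apply orderOf_dvd_iff_zpow_eq_one.1
    rw [ho]; exact h8
  rw [← hk']
  calc y ^ k = y ^ (k - 1) * y := by rw [← zpow_add_one]; congr 1; ring
    _ = y := by rw [h9, one_mul]

/-! ### `|W| = 81` -/

theorem card_W_of_dim4 {b : S} {R : Subgroup S} {x₁ x₂ x₃ : S} {e₀ e₁ e₂ e₃ : E}
    (hQ : QData ρ R b W x₁ x₂ x₃ e₁ e₂ e₃) (hD : Dim4 ρ b W x₁ x₂ x₃ e₀ e₁ e₂ e₃) :
    Nat.card ↥W = 81 := by
  let f : ZMod 3 × ZMod 3 × ZMod 3 × ZMod 3 → ↥W := fun c =>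
    ⟨c.1 • e₀ + c.2.1 • e₁ + c.2.2.1 • e₂ + c.2.2.2 • e₃,
      W.add_mem (W.add_mem (W.add_mem (W.smul_mem _ hD.e₀W) (W.smul_mem _ hQ.e₁W))
        (W.smul_mem _ hQ.e₂W)) (W.smul_mem _ hQ.e₃W)⟩
  have hinj : Function.Injective f := by
    rintro ⟨a0, a1, a2, a3⟩ ⟨c0, c1, c2, c3⟩ h
    have h1 : a0 • e₀ + a1 • e₁ + a2 • e₂ + a3 • e₃ = c0 • e₀ + c1 • e₁ + c2 • e₂ + c3 • e₃ :=
      congrArg Subtype.val h
    have h2 : (a0 - c0) • e₀ + (a1 - c1) • e₁ + (a2 - c2) • e₂ + (a3 - c3) • e₃ = 0 := by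
      have : (a0 - c0) • e₀ + (a1 - c1) • e₁ + (a2 - c2) • e₂ + (a3 - c3) • e₃ =
          (a0 • e₀ + a1 • e₁ + a2 • e₂ + a3 • e₃) - (c0 • e₀ + c1 • e₁ + c2 • e₂ + c3 • e₃) := by
        simp only [sub_smul]
        abel
      rw [this, h1, sub_self]
    obtain ⟨k0, k1, k2, k3⟩ := hD.indep _ _ _ _ h2
    rw [sub_eq_zero] at k0 k1 k2 k3
    rw [k0, k1, k2, k3]
  have hsurj : Function.Surjective f := by
    rintro ⟨w, hw⟩
    obtain ⟨c0, c1, c2, c3, hc⟩ := hD.span w hw
    exact ⟨⟨c0, c1, c2, c3⟩, Subtype.ext hc.symm⟩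
  rw [← Nat.card_congr (Equiv.ofBijective f ⟨hinj, hsurj⟩)]
  simp [Nat.card_prod]

/-! ### (B8) -/

/-- **(B8)** in exactly the shape `B8Stmt` of helper10's BAD sub-cut. -/
theorem b8 : B8Stmt := by
  intro S _ _ E _ _ _ ρ R b W x₁ x₂ x₃ e₀ e₁ e₂ e₃ z X hL hQ hD hz hXR hXn hXS hX32 hCX hFL
  have hW : Nat.card ↥W = 81 := card_W_of_dim4 hQ hD
  have hRB : R ≤ RB R b := le_sup_left
  have hb3 : b ^ 3 = 1 := by rw [← hL.b_ord]; exact pow_orderOf_eq_one b
  -- every prime divisor of `|R|` is `2`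
  have hprime : ∀ q : ℕ, q.Prime → q ∣ Nat.card ↥R → q = 2 := by
    intro q hq hqd
    by_contra hq2
    have hq3 : q ≠ 3 := by
      intro h
      rw [h] at hqd
      have h4 := Nat.dvd_gcd hqd (dvd_refl 3)
      have hcop := hL.R_coprime
      rw [Nat.Coprime] at hcop
      rw [hcop] at h4
      omega
    have hq5 : 5 ≤ q := by
      have h2 := hq.two_le
      have h4 : q ≠ 4 := by
        intro h
        rw [h] at hq
        norm_num at hq
      omega
    have : Fact q.Prime := ⟨hq⟩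
    obtain ⟨y0, hy0⟩ := exists_prime_orderOf_dvd_card' q hqd
    have hy0' : orderOf (y0 : S) = q := by rw [Subgroup.orderOf_coe]; exact hy0
    obtain ⟨hq5', -⟩ := five_of_prime hL hW hz hXR hXn hXS hX32 hCX (y0 : S) y0.2 q hq hq5 hy0'
    subst hq5'
    -- elements of order `5` fix no nonzero vector
    have hfpf : ∀ y ∈ R, orderOf y = 5 → ∀ w ∈ W, ρ y w = w → w = 0 := fun y hy ho =>
      (five_of_prime hL hW hz hXR hXn hXS hX32 hCX y hy 5 hq (le_refl 5) ho).2
    obtain ⟨P, hPR, hP5, hPne, hPb⟩ :=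
      exists_inv_sylow R b hb3 hL.b_norm hL.R_coprime 5 hqd
    have hPW : ∀ g ∈ P, ∀ w ∈ W, ρ g w ∈ W := fun g hg => hL.W_inv g (hRB (hPR hg))
    have hfree : ∀ g ∈ P, g ≠ 1 → ∀ w ∈ W, ρ g w = w → w = 0 := by
      intro g hg hg1 w hw hfix
      obtain ⟨t, ht⟩ := IsPGroup.iff_orderOf.1 hP5 ⟨g, hg⟩
      rw [Subgroup.orderOf_mk] at ht
      have ht0 : t ≠ 0 := by
        intro h
        rw [h, pow_zero, orderOf_eq_one_iff] at ht
        exact hg1 ht
      have ho : orderOf (g ^ 5 ^ (t - 1)) = 5 := by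
        rw [orderOf_pow_of_dvd (pow_ne_zero _ (by norm_num)), ht,
          Nat.pow_div (Nat.sub_le t 1) (by norm_num)]
        · have : t - (t - 1) = 1 := by omega
          rw [this, pow_one]
        · rw [ht]
          exact pow_dvd_pow 5 (Nat.sub_le t 1)
      exact hfpf _ (R.pow_mem (hPR hg) _) ho w hw (fix_pow ρ g w hfix _)
    have hdvd := card_dvd_of_free P hPW hfree
    rw [hW] at hdvd
    obtain ⟨k, hk⟩ := IsPGroup.iff_card.1 hP5
    have hk1 : k = 1 := by
      have hk0 : k ≠ 0 := by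
        intro h
        rw [h, pow_zero] at hk
        exact hPne (Subgroup.card_eq_one.1 hk)
      by_contra hk1
      have h25 : 5 ^ 2 ∣ 5 ^ k := pow_dvd_pow 5 (by omega)
      rw [← hk] at h25
      have := h25.trans hdvd
      norm_num at this
    rw [hk1, pow_one] at hk
    have hcen := centralises_of_card_five P hk b hb3 hPb
    obtain ⟨g, hg1⟩ := (Subgroup.ne_bot_iff_exists_ne_one.1 hPne)
    have hgP : (g : S) ∈ P := g.2
    have hgo : orderOf (g : S) = 5 := by
      have h1 : orderOf g ∣ 5 := by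
        rw [← hk]; exact orderOf_dvd_natCard _
      rw [Subgroup.orderOf_coe]
      rcases (Nat.dvd_prime hq).1 h1 with h | h
      · exact absurd (orderOf_eq_one_iff.1 h) hg1
      · exact h
    have hcomm : b * (g : S) = g * b := mul_inv_eq_iff_eq_mul.1 (hcen g hgP)
    have := hFL (g : S) (hRB (hPR hgP)) hcomm (by rw [hgo]; decide) (by rw [hgo]; decide)
    exact hg1 (Subtype.ext this)
  have hpos : Nat.card ↥R ≠ 0 := Nat.card_pos.ne'
  exact IsPGroup.of_card
    (Nat.eq_prime_pow_of_unique_prime_dvd hpos (fun {d} hd hdv => hprime d hd hdv))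

end Cfsg.Agent.Lib.H27.S4415B8
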