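import Mathlib
import Cfsg.Prelude.Def_Solvable
import Cfsg.Prelude.Def_Transfer

set_option autoImplicit false

namespace Cfsg.Agent.Lib.H27

open Cfsg

/-- The `p`-core is a `p`-group. -/
theorem pCore_isPGroup {G : Type*} [Group G] {p : ℕ} :
    IsPGroup p (pCore p G) :=
  Sylow.sSup_of_normal _ (fun _ h => h.2) (fun _ h => h.1)

/-- The `p`-core is normal. -/
theorem pCore_normal' {G : Type*} [Group G] {p : ℕ} : (pCore p G).Normal :=
  Subgroup.sSup_normal _ (fun _ h => h.1)

/-- The `p`-core lies in every Sylow `p`-subgroup. -/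
theorem pCore_le_sylow {G : Type*} [Group G] {p : ℕ} (P : Sylow p G) :
    pCore p G ≤ P := by
  have : (pCore p G).Normal := pCore_normal'
  exact pCore_isPGroup.le_sylow_of_normal P

/-- A normal `p`-subgroup lies in the `p`-core. -/
theorem le_pCore {G : Type*} [Group G] {p : ℕ} (N : Subgroup G) (hN : N.Normal) (hp : IsPGroup p N) :
    N ≤ pCore p G :=
  le_sSup ⟨hN, hp⟩

/-- A subgroup of odd order meets a `2`-group trivially. -/
theorem odd_inf_two_group_eq_bot {G : Type*} [Group G] [Finite G] (K P : Subgroup G)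
    (hK : Odd (Nat.card K)) (hP : IsPGroup 2 P) : K ⊓ P = ⊥ := by
  apply disjoint_iff.mp; apply Subgroup.disjoint_of_coprime_natCard
  obtain ⟨n, hn⟩ := hP.exists_card_eq
  rw [hn]
  exact Nat.Coprime.pow_right n (Nat.coprime_two_right.mpr hK)

/-- Conjugation by an element normalizing `K`, as an endomorphism of `K`. -/
def conjHom {G : Type*} [Group G] (K : Subgroup G) (t : G) (ht : ∀ k ∈ K, t * k * t⁻¹ ∈ K) :
    K →* K where
  toFun k := ⟨t * k * t⁻¹, ht k k.2⟩
  map_one' := by ext; simp
  map_mul' a b := by ext; simp [mul_assoc]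

/-- An involution normalizing a finite subgroup `K` and centralizing no non-identity element of it
inverts `K`. -/
theorem inverts_of_fixedPointFree {G : Type*} [Group G] (K : Subgroup G) [Finite K] (t : G)
    (ht2 : t * t = 1) (ht : ∀ k ∈ K, t * k * t⁻¹ ∈ K)
    (hfpf : ∀ k ∈ K, t * k = k * t → k = 1) : ∀ k ∈ K, t * k * t⁻¹ = k⁻¹ := by
  have hinv : t⁻¹ = t := inv_eq_of_mul_eq_one_right ht2
  have h1 : MonoidHom.FixedPointFree (conjHom K t ht) := by
    intro k hk
    have hk' : t * (k : G) * t⁻¹ = k := congrArg Subtype.val hk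
    have : (k : G) = 1 := hfpf k k.2 (by
      calc t * (k : G) = t * k * t⁻¹ * t := by group
        _ = k * t := by rw [hk'])
    exact Subtype.ext this
  have h2 : Function.Involutive (conjHom K t ht) := by
    intro k
    apply Subtype.ext
    show t * (t * (k : G) * t⁻¹) * t⁻¹ = k
    rw [hinv]
    calc t * (t * (k : G) * t) * t = (t * t) * k * (t * t) := by group
      _ = k := by rw [ht2]; group
  intro k hk
  have := congrFun (h1.coe_eq_inv_of_involutive h2) ⟨k, hk⟩
  exact congrArg Subtype.val this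

end Cfsg.Agent.Lib.H27
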