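/-
S5778 (the row `SU_3(q)`, `q ≥ 3`; architect helper27): the statements of the pieces of the farm-out
(`tools/blueprints/SU3_sigs.lean`).  Light file: workers import this one.
-/
import Cfsg.Agent.Lib.Lead.AschUDefs

set_option autoImplicit false

namespace Cfsg.Agent.Lib.H27.SU3

open Cfsg Cfsg.Geo Cfsg.Agent.Lib.Lead.Asch
open scoped MatrixGroups Matrix Kronecker

/-- `SU_3(q)` inside `GL_3(F)`. -/
abbrev SU3 (F : Type*) [Field F] [Fintype F] (q : ℕ) : Subgroup (GL (Fin 3) F) :=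
  GU 3 F q ⊓ specialLinear (Fin 3) F

/-- **B1**: `SU_3(q)`, `q ≥ 3`, stabilises no orthogonal frame of non-degenerate lines. -/
def B1Stmt (F : Type*) [Field F] [Fintype F] (q : ℕ) : Prop :=
  ∀ D : Fin 3 → Submodule F (Fin 3 → F), IsNondegenerateMDecomposition (hermForm 3 F q) 1 D →
    ¬ SU3 F q ≤ decompositionStabilizer D

/-- **B2**: `SU_3(q)`, `q ≥ 3`, lies in no subfield group. -/
def B2Stmt (F : Type*) [Field F] [Fintype F] (q : ℕ) : Prop :=
  ∀ (F₀ : Subfield F) (r : ℕ) (P : GL (Fin 3) F), 2 ≤ r → Fintype.card F = Nat.card F₀ ^ r →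
    ¬ SU3 F q ≤ subfieldSubgroup F₀ P

/-- **B3**: `SU_3(p)`, `p ≥ 5` prime, normalises no absolutely irreducible group of order 27 with centre of order 3. -/
def B3Stmt (F : Type*) [Field F] [Fintype F] (q : ℕ) : Prop :=
  ∀ R : Subgroup (GL (Fin 3) F), ActsAbsolutelyIrreducibly (matrixSet R) → Nat.card R = 27 →
    Nat.card (Subgroup.center R) = 3 → ¬ SU3 F q ≤ subgroupNormalizer R

/-- **E1** (`q = 5`): the stabiliser of an orthogonal frame is not maximal (it lies in `3.A_7`). -/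
def E1Stmt (F : Type*) [Field F] [Fintype F] : Prop :=
  ∀ D : Fin 3 → Submodule F (Fin 3 → F), IsNondegenerateMDecomposition (hermForm 3 F 5) 1 D →
    ¬ IsMaximalIn (SU3 F 5) (decompositionStabilizer D ⊓ SU3 F 5)

/-- **E2** / **E3** (`q = 3`, `q = 5`): the normaliser of a field subalgebra of degree 3 is not maximal
(`7:3 < L_2(7)`, `3 × 7:3 < 3.A_7`). -/
def E23Stmt (F : Type*) [Field F] [Fintype F] (q : ℕ) : Prop :=
  ∀ K : Subalgebra F (Matrix (Fin 3) (Fin 3) F), IsFieldSubalgebra 3 K → IsAdjointClosedFor (hermForm 3 F q) K →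
    ¬ IsMaximalIn (SU3 F q) (subalgebraNormalizer K ⊓ SU3 F q)

/-- the computational core of **E2** / **E3**: some subgroup `⟨s₀⟩` of order 7 of `SU_3(q)` has its normaliser in `SU_3(q)`
inside a proper subgroup `M` of `SU_3(q)` which does not normalise `⟨s₀⟩`. -/
def Core7 (F : Type*) [Field F] [Fintype F] (q : ℕ) : Prop :=
  ∃ s₀ ∈ SU3 F q, orderOf s₀ = 7 ∧ ∃ M : Subgroup (GL (Fin 3) F),
    Subgroup.normalizer (Subgroup.zpowers s₀ : Set (GL (Fin 3) F)) ⊓ SU3 F q ≤ M ∧ M ≤ SU3 F q ∧ M ≠ SU3 F q ∧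
      ¬ M ≤ Subgroup.normalizer (Subgroup.zpowers s₀ : Set (GL (Fin 3) F))

/-- **E4** (`q = 3`): the subfield group `SO_3(3)` stabilises an orthogonal frame. -/
def E4Stmt (F : Type*) [Field F] [Fintype F] : Prop :=
  ∀ (F₀ : Subfield F) (P : GL (Fin 3) F), Fintype.card F = Nat.card F₀ ^ 2 →
    IsFormRationalStructure (hermForm 3 F 3) F₀ 1 P →
    ∃ D : Fin 3 → Submodule F (Fin 3 → F), IsNondegenerateMDecomposition (hermForm 3 F 3) 1 D ∧
      subfieldSubgroup F₀ P ⊓ GU 3 F 3 ≤ decompositionStabilizer D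

/-- **E5** (`q = 5`): the subfield group `3 × SO_3(5)` is not maximal (it lies in `3.A_7`). -/
def E5Stmt (F : Type*) [Field F] [Fintype F] : Prop :=
  ∀ (F₀ : Subfield F) (P : GL (Fin 3) F), Fintype.card F = Nat.card F₀ ^ 2 →
    IsFormRationalStructure (hermForm 3 F 5) F₀ 1 P →
    ¬ IsMaximalIn (SU3 F 5) (subfieldSubgroup F₀ P ⊓ SU3 F 5)

/-- **E6** (`q = 5`): the normaliser of `3^{1+2}` is not maximal (it lies in `3.M_10`). -/
def E6Stmt (F : Type*) [Field F] [Fintype F] : Prop :=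
  ∀ R : Subgroup (GL (Fin 3) F), IsSymplecticTypeGroup 3 R → ActsAbsolutelyIrreducibly (matrixSet R) →
    R ≤ similarityGroup (hermForm 3 F 5) → Nat.card R = 27 → Nat.card (Subgroup.center R) = 3 →
    (∀ x ∈ R, ∀ y ∈ R, x * y * x⁻¹ * y⁻¹ ∈ scalars (Fin 3) F) →
    ¬ IsMaximalIn (SU3 F 5) (subgroupNormalizer R ⊓ SU3 F 5)

end Cfsg.Agent.Lib.H27.SU3
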