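import Mathlib
import Cfsg.Prelude.Def_Sporadic_a
import Cfsg.Agent.Lib.H27.Leech
import Cfsg.Agent.Lib.H27.Leech2
import Cfsg.Agent.Lib.H27.GolayFacts
import Cfsg.Agent.Lib.H28.GolayConcrete

/-!
helper27 library: changing the signs of the coordinates in the support of a code word preserves
the lattice.
-/

set_option autoImplicit false

namespace Cfsg.Agent.Lib.H27

open Cfsg Finset Cfsg.Agent.Lib.H28

/-- Sign change on a set of coordinates. -/
def signChange (c : Finset GolayPt) (x : GolayPt → ℤ) : GolayPt → ℤ :=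
  fun i => if i ∈ c then -x i else x i

theorem sum_signChange (c : Finset GolayPt) (x : GolayPt → ℤ) :
    ∑ i, signChange c x i = ∑ i, x i - 2 * ∑ i ∈ c, x i := by
  have h : ∀ i, signChange c x i = x i - 2 * (if i ∈ c then x i else 0) := by
    intro i
    unfold signChange
    split_ifs <;> ring
  rw [Finset.sum_congr rfl (fun i _ => h i), Finset.sum_sub_distrib, ← Finset.mul_sum,
    Finset.sum_ite_mem, Finset.univ_inter]

theorem sum_val_inter (c : Finset GolayPt) (d : GolayPt → ZMod 2) :
    ∑ i ∈ c, ((d i).val : ℤ) = ((c ∩ support₂ d).card : ℤ) := by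
  have : ∀ a : ZMod 2, ((a.val : ℕ) : ℤ) = if a ≠ 0 then 1 else 0 := by decide
  rw [Finset.sum_congr rfl (fun i _ => this (d i)), Finset.sum_boole]
  congr 2
  ext i
  simp [support₂]

theorem sum_support_mod4 {x : GolayPt → ℤ} {m : ℤ} {d w : GolayPt → ZMod 2}
    (hx : LeechDesc x m d) (hw : w ∈ golayCode) : (∑ i ∈ support₂ w, x i) % 4 = 0 := by
  obtain ⟨hd, h1, _⟩ := hx
  rw [Finset.sum_int_mod]
  have h2 : ∀ i ∈ support₂ w, x i % 4 = (m + 2 * ((d i).val : ℤ)) % 4 := fun i _ => h1 i
  rw [Finset.sum_congr rfl h2, ← Finset.sum_int_mod, Finset.sum_add_distrib, Finset.sum_const,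
    ← Finset.mul_sum, sum_val_inter, nsmul_eq_mul]
  obtain ⟨t, ht⟩ := golay_doubly_even w hw
  have heven : Even ((support₂ w) ∩ (support₂ d)).card := by
    have := even_inter_of_dot_eq_zero (golayCode_orth w hw d hd)
    rwa [supp_eq_support₂, supp_eq_support₂] at this
  obtain ⟨s, hs⟩ := heven
  rw [ht, hs]
  push_cast
  have e : (4 * (t : ℤ) * m + 2 * ((s : ℤ) + s)) = 4 * (t * m + s) := by ring
  rw [e]
  exact Int.mul_emod_right 4 _

theorem leechDesc_signChange {x : GolayPt → ℤ} {m : ℤ} {d w : GolayPt → ZMod 2}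
    (hm : m = 0 ∨ m = 1) (hx : LeechDesc x m d) (hw : w ∈ golayCode) :
    ∃ d', LeechDesc (signChange (support₂ w) x) m d' := by
  have hsum := sum_support_mod4 hx hw
  have hd := hx.1
  have h1 := hx.2.1
  have h2 := hx.2.2
  have hS : ∑ i, signChange (support₂ w) x i ≡ 4 * m [ZMOD 8] := by
    rw [sum_signChange]
    unfold Int.ModEq at *
    omega
  rcases hm with rfl | rfl
  · refine ⟨d, hd, fun i => ?_, hS⟩
    have := h1 i
    unfold signChange Int.ModEq at *
    split_ifs <;> omega
  · refine ⟨d + w, golayCode.add_mem hd hw, fun i => ?_, hS⟩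
    have := h1 i
    unfold signChange
    by_cases hi : i ∈ support₂ w
    · rw [if_pos hi]
      have hwi : w i = 1 := by
        have h' : w i ≠ 0 := by simpa [support₂] using hi
        have : ∀ a : ZMod 2, a ≠ 0 → a = 1 := by decide
        exact this _ h'
      have key : ∀ a : ZMod 2, (2 * (((a + 1).val : ℕ) : ℤ)) % 4 = (2 * ((a.val : ℕ) : ℤ) + 2) % 4 := by
        decide
      have := key (d i)
      simp only [Pi.add_apply, hwi]
      unfold Int.ModEq at *
      omega
    · rw [if_neg hi]
      have hwi : w i = 0 := by simpa [support₂] using hi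
      simp only [Pi.add_apply, hwi, add_zero]
      exact this

/-- Sign changes on the support of a code word preserve the lattice. -/
theorem signChange_mem {w : GolayPt → ZMod 2} (hw : w ∈ golayCode) {x : GolayPt → ℤ}
    (hx : x ∈ leechLattice) : signChange (support₂ w) x ∈ leechLattice := by
  obtain ⟨m, d, hm, hd⟩ := exists_leechDesc_normal hx
  obtain ⟨d', hd'⟩ := leechDesc_signChange hm hd hw
  exact mem_leechLattice_of_leechDesc hd'

end Cfsg.Agent.Lib.H27
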