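import Mathlib
import Cfsg.Prelude.Def_Sporadic_a
import Cfsg.Prelude.Def_SporadicCombinatorics
import Cfsg.Agent.Lib.H27.Leech
import Cfsg.Agent.Lib.H27.Leech2
import Cfsg.Agent.Lib.H27.LeechSign
import Cfsg.Agent.Lib.H28.M24Basic
import Cfsg.Agent.Lib.H27.LeechGen

/-!
helper27 library: elements of `Cfsg.Co0` built from maps of `ℤ^24`; the negation map, sign changes
on code words, coordinate permutations from `M24`, and the signed permutations.
-/

set_option autoImplicit false

namespace Cfsg.Agent.Lib.H27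

open Cfsg Finset Cfsg.Agent.Lib.H28

/-- An element of `Co0` from a map `f` of `ℤ^24` with an inverse `g` on the lattice. -/
def mkCo0 (f g : (GolayPt → ℤ) → (GolayPt → ℤ))
    (hf : ∀ x ∈ leechLattice, f x ∈ leechLattice) (hg : ∀ x ∈ leechLattice, g x ∈ leechLattice)
    (hfg : ∀ x ∈ leechLattice, f (g x) = x) (hgf : ∀ x ∈ leechLattice, g (f x) = x)
    (hadd : ∀ x ∈ leechLattice, ∀ y ∈ leechLattice, f (x + y) = f x + f y)
    (hnorm : ∀ x ∈ leechLattice, sqNorm (f x) = sqNorm x) : Co0 :=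
  ⟨{ toFun := fun v => ⟨f v.1, hf v.1 v.2⟩
     invFun := fun v => ⟨g v.1, hg v.1 v.2⟩
     left_inv := fun v => Subtype.ext (hgf v.1 v.2)
     right_inv := fun v => Subtype.ext (hfg v.1 v.2) },
   ⟨fun v w => Subtype.ext (hadd v.1 v.2 w.1 w.2), fun v => hnorm v.1 v.2⟩⟩

theorem mkCo0_smul (f g : (GolayPt → ℤ) → (GolayPt → ℤ))
    (hf : ∀ x ∈ leechLattice, f x ∈ leechLattice) (hg : ∀ x ∈ leechLattice, g x ∈ leechLattice)
    (hfg : ∀ x ∈ leechLattice, f (g x) = x) (hgf : ∀ x ∈ leechLattice, g (f x) = x)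
    (hadd : ∀ x ∈ leechLattice, ∀ y ∈ leechLattice, f (x + y) = f x + f y)
    (hnorm : ∀ x ∈ leechLattice, sqNorm (f x) = sqNorm x) (v : leechLattice) :
    ((mkCo0 f g hf hg hfg hgf hadd hnorm • v : leechLattice) : GolayPt → ℤ) = f v.1 := rfl

theorem Co0_smul_def (g : Co0) (v : leechLattice) : g • v = g.1 v := rfl

theorem Co0_ext {g h : Co0} (H : ∀ v : leechLattice, ((g • v : leechLattice) : GolayPt → ℤ) =
    ((h • v : leechLattice) : GolayPt → ℤ)) : g = h := by
  apply Subtype.ext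
  apply Equiv.ext
  intro v
  exact Subtype.ext (H v)

theorem Co0_smul_add (g : Co0) (v w : leechLattice) : g • (v + w) = g • v + g • w := g.2.1 v w

theorem Co0_sqNorm (g : Co0) (v : leechLattice) :
    sqNorm ((g • v : leechLattice) : GolayPt → ℤ) = sqNorm (v : GolayPt → ℤ) := g.2.2 v

/-! ### Negation -/

theorem sqNorm_neg' (x : GolayPt → ℤ) : sqNorm (-x) = sqNorm x := by
  unfold sqNorm
  apply Finset.sum_congr rfl
  intro i _
  simp

/-- The negation map as an element of `Co0`. -/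
def negCo0 : Co0 :=
  mkCo0 (fun x => -x) (fun x => -x) (fun _ hx => neg_mem hx) (fun _ hx => neg_mem hx)
    (fun x _ => neg_neg x) (fun x _ => neg_neg x) (fun x _ y _ => neg_add x y)
    (fun x _ => sqNorm_neg' x)

theorem negCo0_smul (v : leechLattice) :
    ((negCo0 • v : leechLattice) : GolayPt → ℤ) = -(v : GolayPt → ℤ) := rfl

theorem Co0_smul_zero (g : Co0) : g • (0 : leechLattice) = 0 := by
  have h := Co0_smul_add g 0 0
  rw [add_zero] at h
  exact left_eq_add.mp h

theorem Co0_smul_neg (g : Co0) (v : leechLattice) : g • (-v) = -(g • v) := by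
  have h := Co0_smul_add g v (-v)
  rw [add_neg_cancel, Co0_smul_zero] at h
  exact (neg_eq_of_add_eq_zero_right h.symm).symm

theorem negCo0_central (g : Co0) : g * negCo0 = negCo0 * g := by
  apply Co0_ext
  intro v
  rw [mul_smul, mul_smul, negCo0_smul]
  have h1 : negCo0 • v = -v := Subtype.ext (negCo0_smul v)
  rw [h1, Co0_smul_neg]
  rfl

theorem negCo0_ne_one : negCo0 ≠ 1 := by
  intro h
  have hv : vOdd ∈ leechLattice := mem_leechLattice_of_leechDesc vOdd_desc
  have h1 := negCo0_smul ⟨vOdd, hv⟩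
  rw [h, one_smul] at h1
  have h2 := congrFun h1 none
  simp [vOdd] at h2

theorem negCo0_sq : negCo0 * negCo0 = 1 := by
  apply Co0_ext
  intro v
  rw [mul_smul, negCo0_smul, one_smul]
  have h1 : negCo0 • v = -v := Subtype.ext (negCo0_smul v)
  rw [h1]
  simp

/-! ### Signed permutations -/

theorem perm_mem {σ : Equiv.Perm GolayPt} (hσ : σ ∈ M24) {x : GolayPt → ℤ}
    (hx : x ∈ leechLattice) : (fun i => x (σ i)) ∈ leechLattice := by
  obtain ⟨m, c, hc, h1, h2⟩ := exists_leechDesc hx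
  apply mem_leechLattice_of_leechDesc (m := m) (c := c ∘ σ)
  refine ⟨comp_mem_of_mem_M24 hσ hc, fun i => h1 (σ i), ?_⟩
  rw [Equiv.sum_comp σ x]
  exact h2

theorem signedPerm_eq (σ : Equiv.Perm GolayPt) (c : Finset GolayPt) (x : GolayPt → ℤ) :
    signedPerm σ c x = signChange c (fun i => x (σ.symm i)) := rfl

theorem signedPerm_mem {σ : Equiv.Perm GolayPt} (hσ : σ ∈ M24) {w : GolayPt → ZMod 2}
    (hw : w ∈ golayCode) {x : GolayPt → ℤ} (hx : x ∈ leechLattice) :
    signedPerm σ (support₂ w) x ∈ leechLattice := by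
  rw [signedPerm_eq]
  apply signChange_mem hw
  exact perm_mem (M24.inv_mem hσ) hx

/-- The inverse of a signed permutation. -/
def signedPermInv (σ : Equiv.Perm GolayPt) (c : Finset GolayPt) (x : GolayPt → ℤ) : GolayPt → ℤ :=
  fun i => signChange c x (σ i)

theorem signedPermInv_mem {σ : Equiv.Perm GolayPt} (hσ : σ ∈ M24) {w : GolayPt → ZMod 2}
    (hw : w ∈ golayCode) {x : GolayPt → ℤ} (hx : x ∈ leechLattice) :
    signedPermInv σ (support₂ w) x ∈ leechLattice :=
  perm_mem hσ (signChange_mem hw hx)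

theorem signedPerm_inv_left (σ : Equiv.Perm GolayPt) (c : Finset GolayPt) (x : GolayPt → ℤ) :
    signedPermInv σ c (signedPerm σ c x) = x := by
  funext i
  unfold signedPermInv signedPerm signChange
  by_cases h : σ i ∈ c <;> simp [h]

theorem signedPerm_inv_right (σ : Equiv.Perm GolayPt) (c : Finset GolayPt) (x : GolayPt → ℤ) :
    signedPerm σ c (signedPermInv σ c x) = x := by
  funext i
  unfold signedPermInv signedPerm signChange
  by_cases h : i ∈ c <;> simp [h]

theorem signedPerm_add (σ : Equiv.Perm GolayPt) (c : Finset GolayPt) (x y : GolayPt → ℤ) :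
    signedPerm σ c (x + y) = signedPerm σ c x + signedPerm σ c y := by
  funext i
  unfold signedPerm
  by_cases h : i ∈ c <;> simp [h]; ring

theorem sqNorm_signedPerm (σ : Equiv.Perm GolayPt) (c : Finset GolayPt) (x : GolayPt → ℤ) :
    sqNorm (signedPerm σ c x) = sqNorm x := by
  unfold sqNorm
  have h : ∀ i, signedPerm σ c x i ^ 2 = x (σ.symm i) ^ 2 := by
    intro i
    unfold signedPerm
    by_cases h : i ∈ c <;> simp [h]
  rw [Finset.sum_congr rfl (fun i _ => h i)]
  exact Equiv.sum_comp σ.symm (fun i => x i ^ 2)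

/-- The signed permutation with permutation part `σ ∈ M24` and signs on the code word `w`. -/
def monoCo0 (σ : Equiv.Perm GolayPt) (hσ : σ ∈ M24) (w : GolayPt → ZMod 2) (hw : w ∈ golayCode) :
    Co0 :=
  mkCo0 (signedPerm σ (support₂ w)) (signedPermInv σ (support₂ w))
    (fun _ hx => signedPerm_mem hσ hw hx) (fun _ hx => signedPermInv_mem hσ hw hx)
    (fun x _ => signedPerm_inv_right σ _ x) (fun x _ => signedPerm_inv_left σ _ x)
    (fun x _ y _ => signedPerm_add σ _ x y) (fun x _ => sqNorm_signedPerm σ _ x)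

theorem monoCo0_smul (σ : Equiv.Perm GolayPt) (hσ : σ ∈ M24) (w : GolayPt → ZMod 2)
    (hw : w ∈ golayCode) (v : leechLattice) :
    ((monoCo0 σ hσ w hw • v : leechLattice) : GolayPt → ℤ)
      = signedPerm σ (support₂ w) (v : GolayPt → ℤ) := rfl

end Cfsg.Agent.Lib.H27
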