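import Mathlib
import Cfsg.Prelude.Def_Sporadic_a
import Cfsg.Agent.Lib.H27.Co0Basic
import Cfsg.Agent.Lib.H28.M24Stab

/-!
helper27 library: the centre of `Cfsg.Co0` is `{1, -1}`.
-/

set_option autoImplicit false

namespace Cfsg.Agent.Lib.H27

open Cfsg Finset Cfsg.Agent.Lib.H28

/-- masks of code words separating points -/
def sepMasks : List ℕ := qrMasks ++ qrMasks.map (· ^^^ 16777215)

theorem sep_bool : (List.range 24).all (fun a => (List.range 24).all (fun b =>
    a == b || sepMasks.any (fun m => m.testBit a && !m.testBit b))) = true := by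
  decide +kernel

theorem W_sepMasks_mem : ∀ m ∈ sepMasks, W m ∈ golayCode := by
  intro m hm
  unfold sepMasks at hm
  rw [List.mem_append] at hm
  rcases hm with hm | hm
  · exact W_genMasks_mem_golayCode m (List.mem_append_left _ hm)
  · rw [List.mem_map] at hm
    obtain ⟨m', hm', rfl⟩ := hm
    rw [W_xor]
    exact golayCode.add_mem (W_genMasks_mem_golayCode m' (List.mem_append_left _ hm'))
      (W_genMasks_mem_golayCode _ (List.mem_append_right _ (by simp)))

/-- Two distinct points are separated by a code word. -/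
theorem exists_sep (i k : GolayPt) (hik : i ≠ k) : ∃ w ∈ golayCode, w i ≠ 0 ∧ w k = 0 := by
  have h := sep_bool
  rw [List.all_eq_true] at h
  have h1 := h (gIdx i) (List.mem_range.2 (gIdx_lt i))
  rw [List.all_eq_true] at h1
  have h2 := h1 (gIdx k) (List.mem_range.2 (gIdx_lt k))
  rw [Bool.or_eq_true] at h2
  rcases h2 with h2 | h2
  · exfalso
    apply hik
    apply gIdx_injective
    simpa using h2
  · rw [List.any_eq_true] at h2
    obtain ⟨m, hm, hb⟩ := h2
    rw [Bool.and_eq_true] at hb
    refine ⟨W m, W_sepMasks_mem m hm, (W_apply_ne_zero m i).2 hb.1, ?_⟩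
    rw [W_apply]
    have : m.testBit (gIdx k) = false := by simpa using hb.2
    rw [this]
    rfl

/-- `8 e_i` as a lattice vector. -/
theorem single8_mem (i : GolayPt) : (Pi.single i 8 : GolayPt → ℤ) ∈ leechLattice := by
  apply mem_leechLattice_of_leechDesc (m := 0) (c := 0)
  refine ⟨golayCode.zero_mem, fun k => ?_, ?_⟩
  · simp only [Pi.single_apply, Pi.zero_apply, ZMod.val_zero, Nat.cast_zero, mul_zero, add_zero]
    unfold Int.ModEq
    split_ifs <;> omega
  · rw [Finset.sum_pi_single']
    simp [Int.ModEq]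

/-- `8 e_i` as an element of the lattice. -/
def u8 (i : GolayPt) : leechLattice := ⟨Pi.single i 8, single8_mem i⟩

/-- An element of `Co0` as an additive map. -/
def Co0Hom (g : Co0) : leechLattice →+ leechLattice :=
  AddMonoidHom.mk' (fun v => g • v) (Co0_smul_add g)

theorem Co0Hom_apply (g : Co0) (v : leechLattice) : Co0Hom g v = g • v := rfl

/-- The pure sign change `ε_w`. -/
def signCo0 (w : GolayPt → ZMod 2) (hw : w ∈ golayCode) : Co0 := monoCo0 1 (one_mem _) w hw

theorem signCo0_smul (w : GolayPt → ZMod 2) (hw : w ∈ golayCode) (v : leechLattice) (k : GolayPt) :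
    ((signCo0 w hw • v : leechLattice) : GolayPt → ℤ) k
      = if k ∈ support₂ w then -(v : GolayPt → ℤ) k else (v : GolayPt → ℤ) k := rfl

/-- The pure permutation `π`. -/
def permCo0 (σ : Equiv.Perm GolayPt) (hσ : σ ∈ M24) : Co0 := monoCo0 σ hσ 0 golayCode.zero_mem

theorem permCo0_smul (σ : Equiv.Perm GolayPt) (hσ : σ ∈ M24) (v : leechLattice) (k : GolayPt) :
    ((permCo0 σ hσ • v : leechLattice) : GolayPt → ℤ) k = (v : GolayPt → ℤ) (σ.symm k) := by
  unfold permCo0
  rw [monoCo0_smul]
  unfold signedPerm
  have : k ∉ support₂ (0 : GolayPt → ZMod 2) := by simp [support₂]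
  rw [if_neg this]

section Center

variable {z : Co0} (hz : z ∈ Subgroup.center Co0)
include hz

theorem center_single_zero (i k : GolayPt) (hik : i ≠ k) :
    ((z • u8 i : leechLattice) : GolayPt → ℤ) k = 0 := by
  obtain ⟨w, hw, hwi, hwk⟩ := exists_sep i k hik
  have hcomm : signCo0 w hw * z = z * signCo0 w hw := (Subgroup.mem_center_iff.1 hz _)
  have hi : i ∈ support₂ w := by simpa [support₂] using hwi
  have hk : k ∉ support₂ w := by simp [support₂, hwk]
  have h1 : signCo0 w hw • u8 i = -u8 i := by
    apply Subtype.ext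
    funext j
    rw [signCo0_smul]
    simp only [u8, AddSubgroup.coe_neg, Pi.neg_apply, Pi.single_apply]
    by_cases hj : j = i
    · subst hj; rw [if_pos hi]
    · simp [hj]
  have h2 : signCo0 w hw • (z • u8 i) = z • (signCo0 w hw • u8 i) := by
    rw [← mul_smul, ← mul_smul, hcomm]
  rw [h1, Co0_smul_neg] at h2
  have h3 := congrArg (fun v : leechLattice => (v : GolayPt → ℤ) k) h2
  simp only [signCo0_smul, if_neg hk, AddSubgroup.coe_neg, Pi.neg_apply] at h3
  omega

theorem center_single_sq (i : GolayPt) :
    ((z • u8 i : leechLattice) : GolayPt → ℤ) i ^ 2 = 64 := by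
  have h := Co0_sqNorm z (u8 i)
  have h64 : sqNorm ((u8 i : leechLattice) : GolayPt → ℤ) = 64 := by
    unfold sqNorm u8
    have : ∀ k, (Pi.single i 8 : GolayPt → ℤ) k ^ 2 = (Pi.single i 64 : GolayPt → ℤ) k := by
      intro k
      simp only [Pi.single_apply]
      split_ifs <;> norm_num
    rw [Finset.sum_congr rfl (fun k _ => this k), Finset.sum_pi_single']
    simp
  rw [h64] at h
  unfold sqNorm at h
  rw [Finset.sum_eq_single i] at h
  · exact h
  · intro k _ hki
    rw [center_single_zero hz i k (Ne.symm hki)]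
    norm_num
  · intro hi
    exact absurd (Finset.mem_univ i) hi

/-- The sign of `z` at the coordinate `i`. -/
noncomputable def csign (z : Co0) (i : GolayPt) : ℤ := ((z • u8 i : leechLattice) : GolayPt → ℤ) i / 8

theorem csign_cases (i : GolayPt) : csign z i = 1 ∨ csign z i = -1 := by
  have h := center_single_sq hz i
  unfold csign
  have : ((z • u8 i : leechLattice) : GolayPt → ℤ) i = 8 ∨
      ((z • u8 i : leechLattice) : GolayPt → ℤ) i = -8 := by
    have h' : (((z • u8 i : leechLattice) : GolayPt → ℤ) i - 8) *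
        (((z • u8 i : leechLattice) : GolayPt → ℤ) i + 8) = 0 := by ring_nf; ring_nf at h; omega
    rcases mul_eq_zero.1 h' with h1 | h1
    · left; omega
    · right; omega
  rcases this with h1 | h1 <;> rw [h1] <;> norm_num

theorem center_single (i k : GolayPt) :
    ((z • u8 i : leechLattice) : GolayPt → ℤ) k = if k = i then 8 * csign z i else 0 := by
  by_cases hk : k = i
  · subst hk
    rw [if_pos rfl]
    have h := center_single_sq hz k
    unfold csign
    have : ((z • u8 k : leechLattice) : GolayPt → ℤ) k = 8 ∨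
        ((z • u8 k : leechLattice) : GolayPt → ℤ) k = -8 := by
      have h' : (((z • u8 k : leechLattice) : GolayPt → ℤ) k - 8) *
          (((z • u8 k : leechLattice) : GolayPt → ℤ) k + 8) = 0 := by ring_nf; ring_nf at h; omega
      rcases mul_eq_zero.1 h' with h1 | h1
      · left; omega
      · right; omega
    rcases this with h1 | h1 <;> rw [h1] <;> norm_num
  · rw [if_neg hk]
    exact center_single_zero hz i k (Ne.symm hk)

/-- A central element acts diagonally. -/
theorem center_diag (v : leechLattice) (k : GolayPt) :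
    ((z • v : leechLattice) : GolayPt → ℤ) k = csign z k * (v : GolayPt → ℤ) k := by
  have hv : (8 : ℤ) • v = ∑ i, ((v : GolayPt → ℤ) i) • u8 i := by
    apply Subtype.ext
    funext j
    rw [AddSubgroup.coe_zsmul, AddSubgroup.val_finsetSum, Finset.sum_apply]
    simp only [AddSubgroup.coe_zsmul, Pi.smul_apply, u8, Pi.single_apply, smul_eq_mul]
    rw [Finset.sum_eq_single j]
    · simp; ring
    · intro i _ hij
      rw [if_neg (Ne.symm hij), mul_zero]
    · intro hj
      exact absurd (Finset.mem_univ j) hj
  have h1 : Co0Hom z ((8 : ℤ) • v) = (8 : ℤ) • (z • v) := by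
    rw [map_zsmul]; rfl
  have h2 : Co0Hom z (∑ i, ((v : GolayPt → ℤ) i) • u8 i)
      = ∑ i, ((v : GolayPt → ℤ) i) • (z • u8 i) := by
    rw [map_sum]
    apply Finset.sum_congr rfl
    intro i _
    rw [map_zsmul]; rfl
  rw [hv, h2] at h1
  have h3 := congrArg (fun w : leechLattice => (w : GolayPt → ℤ) k) h1
  simp only [AddSubgroup.val_finsetSum, Finset.sum_apply, AddSubgroup.coe_zsmul, Pi.smul_apply,
    smul_eq_mul] at h3
  rw [Finset.sum_eq_single k] at h3
  · rw [center_single hz k k, if_pos rfl] at h3
    have : (8 : ℤ) * ((z • v : leechLattice) : GolayPt → ℤ) k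
        = 8 * (csign z k * (v : GolayPt → ℤ) k) := by rw [← h3]; ring
    omega
  · intro i _ hik
    rw [center_single hz i k, if_neg (Ne.symm hik), mul_zero]
  · intro hk
    exact absurd (Finset.mem_univ k) hk

theorem csign_perm (σ : Equiv.Perm GolayPt) (hσ : σ ∈ M24) (k : GolayPt) :
    csign z (σ.symm k) = csign z k := by
  have hv : vOdd ∈ leechLattice := mem_leechLattice_of_leechDesc vOdd_desc
  let v : leechLattice := ⟨vOdd, hv⟩
  have hcomm : permCo0 σ hσ * z = z * permCo0 σ hσ := (Subgroup.mem_center_iff.1 hz _)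
  have h2 : permCo0 σ hσ • (z • v) = z • (permCo0 σ hσ • v) := by
    rw [← mul_smul, ← mul_smul, hcomm]
  have h3 : ((permCo0 σ hσ • (z • v) : leechLattice) : GolayPt → ℤ) k
      = ((z • (permCo0 σ hσ • v) : leechLattice) : GolayPt → ℤ) k := by rw [h2]
  rw [permCo0_smul, center_diag hz, center_diag hz, permCo0_smul] at h3
  have hne : (v : GolayPt → ℤ) (σ.symm k) ≠ 0 := by
    show vOdd (σ.symm k) ≠ 0
    unfold vOdd
    split_ifs <;> norm_num
  exact mul_right_cancel₀ hne h3

theorem csign_const (i k : GolayPt) : csign z i = csign z k := by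
  obtain ⟨⟨σ, hσ⟩, h⟩ := M24_isPretransitive.exists_smul_eq k i
  have h' : σ k = i := h
  have := csign_perm hz σ hσ i
  rw [← h', Equiv.symm_apply_apply] at this
  rw [← h']
  exact this.symm

theorem center_cases : z = 1 ∨ z = negCo0 := by
  rcases csign_cases hz none with h | h
  · left
    apply Co0_ext
    intro v
    funext k
    rw [center_diag hz, csign_const hz k none, h, one_mul, one_smul]
  · right
    apply Co0_ext
    intro v
    funext k
    rw [center_diag hz, csign_const hz k none, h, negCo0_smul]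
    simp

end Center

theorem negCo0_mem_center : negCo0 ∈ Subgroup.center Co0 := by
  rw [Subgroup.mem_center_iff]
  intro g
  exact negCo0_central g

theorem card_center_Co0 : Nat.card (Subgroup.center Co0) = 2 := by
  rw [Nat.card_eq_two_iff]
  refine ⟨⟨1, Subgroup.one_mem _⟩, ⟨negCo0, negCo0_mem_center⟩, ?_, ?_⟩
  · intro h
    exact negCo0_ne_one (Subtype.ext_iff.1 h).symm
  · ext ⟨z, hz⟩
    simp only [Set.mem_insert_iff, Set.mem_singleton_iff, Set.mem_univ, iff_true, Subtype.mk.injEq]
    exact center_cases hz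

end Cfsg.Agent.Lib.H27
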