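import Mathlib
import Cfsg.Prelude.Def_Sporadic_a
import Cfsg.Prelude.Def_SporadicCombinatorics
import Cfsg.Agent.Lib.H27.Co0Center
import Cfsg.Agent.Lib.H28.M24Order

/-!
helper27 library: the stabiliser in `Cfsg.Co0` of the standard cross `{± 8 e_i}` consists of the
signed permutations `signedPerm σ c` with `σ ∈ M24` and `c` the support of a code word; it has
order `4096 * 244823040`.
-/

set_option autoImplicit false

namespace Cfsg.Agent.Lib.H27

open Cfsg Finset Cfsg.Agent.Lib.H28

theorem eight_smul_eq_sum (v : leechLattice) :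
    (8 : ℤ) • v = ∑ i, ((v : GolayPt → ℤ) i) • u8 i := by
  apply Subtype.ext
  funext j
  rw [AddSubgroup.coe_zsmul, AddSubgroup.val_finsetSum, Finset.sum_apply]
  simp only [AddSubgroup.coe_zsmul, Pi.smul_apply, u8, Pi.single_apply, smul_eq_mul]
  rw [Finset.sum_eq_single j]
  · simp; ring
  · intro i _ hij
    rw [if_neg (Ne.symm hij), mul_zero]
  · intro hj
    exact absurd (Finset.mem_univ j) hj

theorem Co0_smul_eight (g : Co0) (v : leechLattice) :
    (8 : ℤ) • (g • v) = ∑ i, ((v : GolayPt → ℤ) i) • (g • u8 i) := by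
  have h1 : Co0Hom g ((8 : ℤ) • v) = (8 : ℤ) • (g • v) := by
    rw [map_zsmul]; rfl
  have h2 : Co0Hom g (∑ i, ((v : GolayPt → ℤ) i) • u8 i)
      = ∑ i, ((v : GolayPt → ℤ) i) • (g • u8 i) := by
    rw [map_sum]
    apply Finset.sum_congr rfl
    intro i _
    rw [map_zsmul]; rfl
  rw [← h1, eight_smul_eq_sum v, h2]

theorem Co0_smul_sub (g : Co0) (v w : leechLattice) : g • (v - w) = g • v - g • w := by
  rw [sub_eq_add_neg, Co0_smul_add, Co0_smul_neg, ← sub_eq_add_neg]

theorem val_one_of_mem {c : GolayPt → ZMod 2} {i : GolayPt} (h : i ∈ support₂ c) :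
    ((c i).val : ℤ) = 1 := by
  have h' : c i ≠ 0 := by simpa [support₂] using h
  have : ∀ a : ZMod 2, a ≠ 0 → ((a.val : ℕ) : ℤ) = 1 := by decide
  exact this _ h'

theorem val_zero_of_not_mem {c : GolayPt → ZMod 2} {i : GolayPt} (h : i ∉ support₂ c) :
    ((c i).val : ℤ) = 0 := by
  have h' : c i = 0 := by simpa [support₂] using h
  rw [h']; rfl

/-- The property of stabilising the standard cross. -/
def StabCross (g : Co0) : Prop :=
  ∀ v : leechLattice, (v : GolayPt → ℤ) ∈ stdCross → ((g • v : leechLattice) : GolayPt → ℤ) ∈ stdCross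

theorem u8_mem_stdCross (i : GolayPt) : ((u8 i : leechLattice) : GolayPt → ℤ) ∈ stdCross :=
  ⟨i, 8, Or.inl rfl, rfl⟩

theorem sqNorm_single (i : GolayPt) (a : ℤ) : sqNorm (Pi.single i a : GolayPt → ℤ) = a ^ 2 := by
  unfold sqNorm
  have : ∀ k, (Pi.single i a : GolayPt → ℤ) k ^ 2 = (Pi.single i (a ^ 2) : GolayPt → ℤ) k := by
    intro k
    simp only [Pi.single_apply]
    split_ifs <;> simp
  rw [Finset.sum_congr rfl (fun k _ => this k), Finset.sum_pi_single']
  simp

theorem sqNorm_single_sub (i j : GolayPt) (hij : i ≠ j) :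
    sqNorm ((Pi.single i 8 : GolayPt → ℤ) - Pi.single j 8) = 128 := by
  unfold sqNorm
  have : ∀ k, ((Pi.single i 8 - Pi.single j 8 : GolayPt → ℤ)) k ^ 2
      = (Pi.single i 64 : GolayPt → ℤ) k + (Pi.single j 64 : GolayPt → ℤ) k := by
    intro k
    simp only [Pi.sub_apply, Pi.single_apply]
    by_cases h1 : k = i
    · have h2 : k ≠ j := fun h => hij (h1.symm.trans h)
      simp [h1, hij]
    · by_cases h2 : k = j
      · have h3 : j ≠ i := fun h => hij h.symm
        subst h2; simp [h3]
      · simp [h1, h2]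
  rw [Finset.sum_congr rfl (fun k _ => this k), Finset.sum_add_distrib, Finset.sum_pi_single',
    Finset.sum_pi_single']
  simp

section Stab

variable {g : Co0} (hg : StabCross g)
include hg

theorem stab_exists (i : GolayPt) : ∃ (j : GolayPt) (s : ℤ), (s = 1 ∨ s = -1) ∧
    ((g • u8 i : leechLattice) : GolayPt → ℤ) = Pi.single j (8 * s) := by
  obtain ⟨j, s, hs, h⟩ := hg (u8 i) (u8_mem_stdCross i)
  rcases hs with rfl | rfl
  · exact ⟨j, 1, Or.inl rfl, by rw [h]; norm_num⟩
  · exact ⟨j, -1, Or.inr rfl, by rw [h]; norm_num⟩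

end Stab

/-- The data of an element stabilising the standard cross. -/
theorem stab_structure {g : Co0} (hg : StabCross g) :
    ∃ (σ : Equiv.Perm GolayPt) (s : GolayPt → ℤ), (∀ i, s i = 1 ∨ s i = -1) ∧
      ∀ (v : leechLattice) (i : GolayPt),
        ((g • v : leechLattice) : GolayPt → ℤ) (σ i) = s i * (v : GolayPt → ℤ) i := by
  classical
  choose σ0 s hs hgu using stab_exists hg
  have hinj : Function.Injective σ0 := by
    intro i j hij
    by_contra hne
    have h1 : ((g • (u8 i - u8 j) : leechLattice) : GolayPt → ℤ)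
        = Pi.single (σ0 i) (8 * s i) - Pi.single (σ0 i) (8 * s j) := by
      rw [Co0_smul_sub, AddSubgroup.coe_sub, hgu i, hgu j, hij]
    have h2 := Co0_sqNorm g (u8 i - u8 j)
    rw [h1, ← Pi.single_sub, sqNorm_single] at h2
    have h3 : sqNorm ((u8 i - u8 j : leechLattice) : GolayPt → ℤ) = 128 := by
      rw [AddSubgroup.coe_sub]
      exact sqNorm_single_sub i j hne
    rw [h3] at h2
    rcases hs i with h | h <;> rcases hs j with h' | h' <;> rw [h, h'] at h2 <;> norm_num at h2
  have hbij : Function.Bijective σ0 := Finite.injective_iff_bijective.1 hinj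
  refine ⟨Equiv.ofBijective σ0 hbij, s, hs, fun v i => ?_⟩
  have h := Co0_smul_eight g v
  have h3 : ((((8 : ℤ) • (g • v) : leechLattice)) : GolayPt → ℤ) (σ0 i)
      = ((∑ j, ((v : GolayPt → ℤ) j) • (g • u8 j) : leechLattice) : GolayPt → ℤ) (σ0 i) := by
    rw [h]
  rw [AddSubgroup.val_finsetSum, Finset.sum_apply, AddSubgroup.coe_zsmul, Pi.smul_apply,
    smul_eq_mul] at h3
  rw [Finset.sum_eq_single i] at h3
  · rw [AddSubgroup.coe_zsmul, Pi.smul_apply, hgu i, Pi.single_eq_same, smul_eq_mul] at h3
    rw [Equiv.ofBijective_apply]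
    have : (8 : ℤ) * ((g • v : leechLattice) : GolayPt → ℤ) (σ0 i)
        = 8 * (s i * (v : GolayPt → ℤ) i) := by rw [h3]; ring
    omega
  · intro j _ hji
    rw [AddSubgroup.coe_zsmul, Pi.smul_apply, hgu j, Pi.single_apply,
      if_neg (fun h => hji (hinj h.symm)), smul_zero]
  · intro hi
    exact absurd (Finset.mem_univ i) hi

/-- An element stabilising the standard cross acts as a signed permutation of the monomial
group. -/
theorem stab_monomial {g : Co0} (hg : StabCross g) :
    ∃ (σ : Equiv.Perm GolayPt) (_ : σ ∈ M24) (w : GolayPt → ZMod 2) (_ : w ∈ golayCode),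
      ∀ v : leechLattice, ((g • v : leechLattice) : GolayPt → ℤ)
        = signedPerm σ (support₂ w) (v : GolayPt → ℤ) := by
  classical
  obtain ⟨σ, s, hs, hgv⟩ := stab_structure hg
  have hgv' : ∀ (v : leechLattice) (k : GolayPt),
      ((g • v : leechLattice) : GolayPt → ℤ) k = s (σ.symm k) * (v : GolayPt → ℤ) (σ.symm k) := by
    intro v k
    have := hgv v (σ.symm k)
    rwa [Equiv.apply_symm_apply] at this
  -- the permutation preserves the code
  have hσ : σ ∈ M24 := by
    rw [mem_M24_iff]
    intro w hw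
    have hx : twoLift w ∈ leechLattice := mem_leechLattice_of_leechDesc (leechDesc_twoLift hw)
    obtain ⟨m, c, hm, hc, h1, _⟩ := exists_leechDesc_normal (g • (⟨twoLift w, hx⟩ : leechLattice)).2
    have hcoord : ∀ k, ((g • (⟨twoLift w, hx⟩ : leechLattice) : leechLattice) : GolayPt → ℤ) k
        = s (σ.symm k) * (2 * (((w (σ.symm k)).val : ℕ) : ℤ)) := fun k => hgv' _ k
    have hm0 : m = 0 := by
      rcases hm with rfl | rfl
      · rfl
      · exfalso
        have := h1 none
        rw [hcoord] at this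
        unfold Int.ModEq at this
        rcases hs (σ.symm none) with h | h <;> rw [h] at this <;> omega
    subst hm0
    have : w ∘ σ.symm = c := by
      funext k
      have := h1 k
      rw [hcoord] at this
      have key : ∀ a b : ZMod 2, (2 * (((a.val : ℕ) : ℤ))) % 4 = (2 * ((b.val : ℕ) : ℤ)) % 4 → a = b := by
        decide
      apply key
      unfold Int.ModEq at this
      simp only [Function.comp_apply]
      rcases hs (σ.symm k) with h | h <;> rw [h] at this <;> omega
    rw [this]; exact hc
  -- the signs form a code word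
  have hv : (fun i => vOdd (σ i)) ∈ leechLattice :=
    perm_mem hσ (mem_leechLattice_of_leechDesc vOdd_desc)
  obtain ⟨m, c, hm, hc, h1, _⟩ := exists_leechDesc_normal
    (g • (⟨fun i => vOdd (σ i), hv⟩ : leechLattice)).2
  have hcoord : ∀ k, ((g • (⟨fun i => vOdd (σ i), hv⟩ : leechLattice) : leechLattice) :
      GolayPt → ℤ) k = s (σ.symm k) * vOdd k := by
    intro k
    rw [hgv']
    simp
  have hodd : ∀ k, vOdd k % 4 = 1 := by
    intro k
    unfold vOdd
    split_ifs <;> norm_num
  have hm1 : m = 1 := by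
    rcases hm with rfl | rfl
    · exfalso
      have := h1 none
      rw [hcoord] at this
      have h2 := hodd none
      unfold Int.ModEq at this
      rcases hs (σ.symm none) with h | h <;> rw [h] at this <;> omega
    · rfl
  subst hm1
  have hsign : ∀ k, k ∈ support₂ c ↔ s (σ.symm k) = -1 := by
    intro k
    have := h1 k
    rw [hcoord] at this
    have h2 := hodd k
    unfold Int.ModEq at this
    constructor
    · intro hk
      rw [val_one_of_mem hk] at this
      rcases hs (σ.symm k) with h | h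
      · rw [h] at this; omega
      · exact h
    · intro hk
      by_contra hk'
      rw [val_zero_of_not_mem hk', hk] at this
      omega
  refine ⟨σ, hσ, c, hc, fun v => ?_⟩
  funext k
  rw [hgv']
  unfold signedPerm
  by_cases hk : k ∈ support₂ c
  · rw [if_pos hk, (hsign k).1 hk]; ring
  · rw [if_neg hk]
    rcases hs (σ.symm k) with h | h
    · rw [h]; ring
    · exact absurd ((hsign k).2 h) hk

theorem signedPerm_single (σ : Equiv.Perm GolayPt) (c : Finset GolayPt) (i : GolayPt) (a : ℤ) :
    signedPerm σ c (Pi.single i a) = Pi.single (σ i) (if σ i ∈ c then -a else a) := by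
  funext k
  unfold signedPerm
  simp only [Pi.single_apply]
  by_cases hk : k = σ i
  · subst hk
    simp
  · have : σ.symm k ≠ i := by
      intro h
      apply hk
      rw [← h, Equiv.apply_symm_apply]
    simp [hk, this]

theorem monoCo0_stab (σ : Equiv.Perm GolayPt) (hσ : σ ∈ M24) (w : GolayPt → ZMod 2)
    (hw : w ∈ golayCode) : StabCross (monoCo0 σ hσ w hw) := by
  rintro v ⟨i, s, hs, hv⟩
  rw [monoCo0_smul, hv, signedPerm_single]
  by_cases h : σ i ∈ support₂ w
  · rw [if_pos h]
    refine ⟨σ i, -s, ?_, rfl⟩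
    rcases hs with rfl | rfl <;> simp
  · rw [if_neg h]
    exact ⟨σ i, s, hs, rfl⟩

/-- The parametrisation of the stabiliser of the standard cross. -/
def stabMap (p : M24 × golayCode) : {g : Co0 // StabCross g} :=
  ⟨monoCo0 p.1.1 p.1.2 p.2.1 p.2.2, monoCo0_stab _ _ _ _⟩

theorem stabMap_injective : Function.Injective stabMap := by
  rintro ⟨⟨σ, hσ⟩, ⟨w, hw⟩⟩ ⟨⟨σ', hσ'⟩, ⟨w', hw'⟩⟩ h
  have h1 : monoCo0 σ hσ w hw = monoCo0 σ' hσ' w' hw' := congrArg Subtype.val h
  have h2 : ∀ i, (Pi.single (σ i) (if σ i ∈ support₂ w then -8 else 8) : GolayPt → ℤ)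
      = Pi.single (σ' i) (if σ' i ∈ support₂ w' then -8 else 8) := by
    intro i
    have := congrArg (fun g : Co0 => ((g • u8 i : leechLattice) : GolayPt → ℤ)) h1
    simp only [monoCo0_smul, u8, signedPerm_single] at this
    exact this
  have hσeq : ∀ i, σ i = σ' i := by
    intro i
    by_contra hne
    have := congrFun (h2 i) (σ i)
    rw [Pi.single_eq_same, Pi.single_apply, if_neg hne] at this
    split_ifs at this <;> omega
  have hσσ : σ = σ' := Equiv.ext hσeq
  subst hσσ
  have hsupp : support₂ w = support₂ w' := by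
    ext k
    have := congrFun (h2 (σ.symm k)) k
    simp only [Equiv.apply_symm_apply, Pi.single_eq_same] at this
    constructor
    · intro hk
      rw [if_pos hk] at this
      by_contra hk'
      rw [if_neg hk'] at this
      omega
    · intro hk
      rw [if_pos hk] at this
      by_contra hk'
      rw [if_neg hk'] at this
      omega
  have hww : w = w' := support₂_injective hsupp
  subst hww
  rfl

theorem stabMap_surjective : Function.Surjective stabMap := by
  rintro ⟨g, hg⟩
  obtain ⟨σ, hσ, w, hw, h⟩ := stab_monomial hg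
  refine ⟨⟨⟨σ, hσ⟩, ⟨w, hw⟩⟩, ?_⟩
  apply Subtype.ext
  apply Co0_ext
  intro v
  rw [h v]
  rfl

theorem card_stabCross : Nat.card {g : Co0 // StabCross g} = 4096 * 244823040 := by
  rw [← Nat.card_congr (Equiv.ofBijective stabMap ⟨stabMap_injective, stabMap_surjective⟩),
    Nat.card_prod, card_M24, golay_card]
  norm_num

end Cfsg.Agent.Lib.H27
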