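import Mathlib
import Cfsg.Prelude.Def_Sporadic_a
import Cfsg.Agent.Lib.H27.Leech
import Cfsg.Agent.Lib.H27.Leech2
import Cfsg.Agent.Lib.H27.GolayFacts
import Cfsg.Agent.Lib.H27.LeechGen
import Cfsg.Agent.Lib.H28.GolayConcrete
import Cfsg.Agent.Lib.H28.M24Basic

/-!
helper27 library: a kernel-checkable membership test for explicit vectors of the rank-24 lattice,
and a criterion for a subgroup of `ℤ^24` to contain the lattice (an explicit finite generating
set).
-/

set_option autoImplicit false

namespace Cfsg.Agent.Lib.H27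

open Cfsg Finset Cfsg.Agent.Lib.H28

/-- The bitmask of the positions where `x ≡ m + 2` modulo 4. -/
def maskOf (x : GolayPt → ℤ) (m : ℤ) : ℕ :=
  Nat.ofBits (fun k : Fin 24 => decide ((x (gPt k.val) - m) % 4 = 2))

theorem testBit_maskOf (x : GolayPt → ℤ) (m : ℤ) (p : GolayPt) :
    (maskOf x m).testBit (gIdx p) = decide ((x p - m) % 4 = 2) := by
  unfold maskOf
  rw [Nat.testBit_ofBits_lt _ _ (gIdx_lt p)]
  simp only [gPt_gIdx]

/-- Boolean membership test for the lattice. -/
def inLeech (x : GolayPt → ℤ) : Bool :=
  (decide (∀ i, x i % 2 = x none % 2)) && inC (maskOf x (x none % 2)) &&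
    decide ((∑ i, x i) % 8 = 4 * (x none % 2) % 8)

theorem leechDesc_of_inLeech {x : GolayPt → ℤ} (h : inLeech x = true) :
    LeechDesc x (x none % 2) (W (maskOf x (x none % 2))) := by
  unfold inLeech at h
  rw [Bool.and_eq_true, Bool.and_eq_true, decide_eq_true_eq, decide_eq_true_eq] at h
  obtain ⟨⟨h1, h2⟩, h3⟩ := h
  refine ⟨W_mem_of_inC h2, fun i => ?_, ?_⟩
  · rw [W_apply, testBit_maskOf]
    have := h1 i
    by_cases hc : (x i - x none % 2) % 4 = 2
    · rw [decide_eq_true hc, if_pos rfl]
      have : ((1 : ZMod 2).val : ℤ) = 1 := by decide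
      rw [this]
      unfold Int.ModEq
      omega
    · rw [decide_eq_false hc]
      simp only [Bool.false_eq_true, if_false, ZMod.val_zero, Nat.cast_zero, mul_zero, add_zero]
      unfold Int.ModEq
      omega
  · unfold Int.ModEq
    omega

theorem mem_of_inLeech {x : GolayPt → ℤ} (h : inLeech x = true) : x ∈ leechLattice :=
  mem_leechLattice_of_leechDesc (leechDesc_of_inLeech h)

/-! ### A finite generating set -/

section gens

variable (H : AddSubgroup (GolayPt → ℤ))
  (h1 : ∀ i : GolayPt, (Pi.single i 4 - Pi.single none 4 : GolayPt → ℤ) ∈ H)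
  (h2 : (Pi.single none 8 : GolayPt → ℤ) ∈ H)
  (h3 : ∀ b ∈ basisMasks, twoLift (W b) ∈ H)
  (h4 : vOdd ∈ H)

include h1 h2 in
theorem mem_of_four_gens {x : GolayPt → ℤ} (h4' : ∀ i, x i % 4 = 0) (h8 : (∑ i, x i) % 8 = 0) :
    x ∈ H := by
  classical
  have hx : x = ∑ i, (x i / 4) • (Pi.single i 4 - Pi.single none 4 : GolayPt → ℤ)
      + ((∑ i, x i) / 8) • (Pi.single none 8 : GolayPt → ℤ) := by
    funext k
    simp only [Pi.add_apply, Finset.sum_apply, Pi.smul_apply, Pi.sub_apply, Pi.single_apply,
      smul_eq_mul]
    have h1 : ∀ i, x i / 4 * ((if k = i then 4 else 0) - (if k = none then 4 else 0))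
        = (if k = i then x i else 0) - (if k = none then x i else 0) := by
      intro i
      have := h4' i
      split_ifs <;> omega
    rw [Finset.sum_congr rfl (fun i _ => h1 i), Finset.sum_sub_distrib, Finset.sum_ite_eq]
    simp only [Finset.mem_univ, if_true]
    by_cases hk : k = none
    · simp only [hk, if_true]
      omega
    · simp only [hk, if_false, Finset.sum_const_zero]
      omega
  rw [hx]
  apply add_mem
  · apply sum_mem
    intro i _
    exact zsmul_mem (h1 i) _
  · exact zsmul_mem h2 _

include h1 h2 h3 in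
theorem mem_of_even_gens (c : GolayPt → ZMod 2) (hc : c ∈ golayCode) :
    ∀ x : GolayPt → ℤ, LeechDesc x 0 c → x ∈ H := by
  have h00 : ∀ x : GolayPt → ℤ, LeechDesc x 0 0 → x ∈ H := by
    intro x hx
    apply mem_of_four_gens H h1 h2
    · intro i
      have := hx.2.1 i
      simp only [Pi.zero_apply, ZMod.val_zero, Nat.cast_zero, mul_zero, add_zero] at this
      exact this
    · have := hx.2.2
      unfold Int.ModEq at this
      omega
  have hC := golayCode_eq_span
  have hc' := hc
  rw [hC] at hc
  induction hc using Submodule.span_induction with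
  | mem w hw =>
    intro x hx
    obtain ⟨b, hb, rfl⟩ := hw
    have hwC : W b ∈ golayCode := hc'
    have h1' : LeechDesc (x - twoLift (W b)) 0 0 := by
      have := leechDesc_add hx (leechDesc_neg (leechDesc_twoLift hwC))
      rw [← sub_eq_add_neg] at this
      have e : W b + W b = 0 := add_self' (W b)
      rw [e] at this
      simpa using this
    have := add_mem (h00 _ h1') (h3 b hb)
    rwa [sub_add_cancel] at this
  | zero =>
    intro x hx
    exact h00 x hx
  | add c1 c2 hc1 hc2 ih1 ih2 =>
    intro x hx
    rw [← hC] at hc1 hc2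
    have h1' : LeechDesc (twoLift c1) 0 c1 := leechDesc_twoLift hc1
    have h2' : LeechDesc (x - twoLift c1) 0 c2 := by
      have := leechDesc_add hx (leechDesc_neg h1')
      rw [← sub_eq_add_neg] at this
      have e : c1 + c2 + c1 = c2 := by
        rw [add_comm c1 c2, add_assoc, add_self' c1, add_zero]
      rw [e] at this
      simpa using this
    have := add_mem (ih2 hc2 _ h2') (ih1 hc1 _ h1')
    rwa [sub_add_cancel] at this
  | smul a c hc ih =>
    intro x hx
    have ha : a = 0 ∨ a = 1 := by
      have : ∀ b : ZMod 2, b = 0 ∨ b = 1 := by decide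
      exact this a
    rcases ha with rfl | rfl
    · rw [zero_smul] at hx
      exact h00 x hx
    · rw [one_smul] at hx hc'
      exact ih hc' x hx

include h1 h2 h3 h4 in
/-- A subgroup containing the listed vectors contains the lattice. -/
theorem leech_le_of_gens : leechLattice ≤ H := by
  intro x hx
  obtain ⟨m, c, hm, hd⟩ := exists_leechDesc_normal hx
  rcases hm with rfl | rfl
  · exact mem_of_even_gens H h1 h2 h3 c hd.1 x hd
  · have h1' : LeechDesc (x - vOdd) 0 c := by
      have := leechDesc_add hd (leechDesc_neg vOdd_desc)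
      rw [← sub_eq_add_neg] at this
      simpa using this
    have := add_mem (mem_of_even_gens H h1 h2 h3 c hd.1 _ h1') h4
    rwa [sub_add_cancel] at this

end gens

end Cfsg.Agent.Lib.H27
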