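import Mathlib
import Cfsg.Prelude.Def_Sporadic_a
import Cfsg.Agent.Lib.H27.LeechDec
import Cfsg.Agent.Lib.H27.Co0Basic

/-!
helper27 library: an automorphism `xiCo0` of the rank-24 lattice that is not monomial.  For the
sextet containing the tetrad of points with indices `0,1,2,3`, it replaces the coordinates
`x_i` on each tetrad `T` by `(1/2) * (sum of x over T) - x_i`, and then changes sign on the
first tetrad.  It is defined through the integral matrix `xiM` of twice the map.
-/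

set_option autoImplicit false

namespace Cfsg.Agent.Lib.H27

open Cfsg Finset Cfsg.Agent.Lib.H28

/-- The tetrad index of each point index (a sextet of the length-24 code). -/
def tetTab : List ℕ := [0,0,0,0,5,2,4,5,3,4,5,4,5,1,2,3,3,2,1,3,1,1,4,2]

/-- The number of the tetrad containing a point. -/
def tet (p : GolayPt) : ℕ := tetTab.getD (gIdx p) 0

/-- Twice the matrix of the automorphism. -/
def xiM : Matrix GolayPt GolayPt ℤ := fun i j =>
  if tet i = tet j then (if tet i = 0 then -1 else 1) * (if i = j then -1 else 1) else 0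

theorem xiM_sq_entry : ∀ i j, (xiM * xiM) i j = if i = j then 4 else 0 := by
  decide +kernel

theorem xiM_sq : xiM * xiM = (4 : ℤ) • (1 : Matrix GolayPt GolayPt ℤ) := by
  ext i j
  rw [xiM_sq_entry, Matrix.smul_apply, Matrix.one_apply]
  split_ifs <;> simp

theorem xiM_symm_entry : ∀ i j : GolayPt, xiM j i = xiM i j := by
  unfold xiM
  decide +kernel

theorem xiM_transpose : xiM.transpose = xiM := by
  ext i j
  rw [Matrix.transpose_apply]
  exact xiM_symm_entry i j

/-- Twice the automorphism, as a map of `ℤ^24`. -/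
def xi2 (x : GolayPt → ℤ) : GolayPt → ℤ := xiM.mulVec x

theorem xi2_apply (x : GolayPt → ℤ) (i : GolayPt) : xi2 x i = ∑ j, xiM i j * x j := rfl

theorem xi2_add (x y : GolayPt → ℤ) : xi2 (x + y) = xi2 x + xi2 y := Matrix.mulVec_add _ _ _

theorem xi2_neg (x : GolayPt → ℤ) : xi2 (-x) = -xi2 x := Matrix.mulVec_neg _ _

theorem xi2_zero : xi2 0 = 0 := Matrix.mulVec_zero _

theorem xi2_xi2 (x : GolayPt → ℤ) : xi2 (xi2 x) = (4 : ℤ) • x := by
  unfold xi2
  rw [Matrix.mulVec_mulVec, xiM_sq, Matrix.smul_mulVec, Matrix.one_mulVec]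

theorem sqNorm_eq_dot (y : GolayPt → ℤ) : sqNorm y = y ⬝ᵥ y := by
  unfold sqNorm dotProduct
  apply Finset.sum_congr rfl
  intro i _
  ring

theorem sqNorm_xi2 (x : GolayPt → ℤ) : sqNorm (xi2 x) = 4 * sqNorm x := by
  rw [sqNorm_eq_dot, sqNorm_eq_dot]
  unfold xi2
  rw [Matrix.dotProduct_mulVec, ← Matrix.mulVec_transpose, xiM_transpose, Matrix.mulVec_mulVec,
    xiM_sq, Matrix.smul_mulVec, Matrix.one_mulVec, smul_dotProduct, smul_eq_mul]

theorem sqNorm_two_mul (y : GolayPt → ℤ) : sqNorm (fun i => 2 * y i) = 4 * sqNorm y := by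
  unfold sqNorm
  rw [Finset.mul_sum]
  apply Finset.sum_congr rfl
  intro i _
  ring

/-- The vectors of the lattice mapped into twice the lattice by `xi2`. -/
def xiSub : AddSubgroup (GolayPt → ℤ) where
  carrier := {x | ∃ y ∈ leechLattice, ∀ i, xi2 x i = 2 * y i}
  zero_mem' := ⟨0, leechLattice.zero_mem, fun i => by rw [xi2_zero]; simp⟩
  add_mem' := by
    rintro x x' ⟨y, hy, h⟩ ⟨y', hy', h'⟩
    refine ⟨y + y', add_mem hy hy', fun i => ?_⟩
    rw [xi2_add, Pi.add_apply, h, h', Pi.add_apply]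
    ring
  neg_mem' := by
    rintro x ⟨y, hy, h⟩
    refine ⟨-y, neg_mem hy, fun i => ?_⟩
    rw [xi2_neg, Pi.neg_apply, h, Pi.neg_apply]
    ring

/-- Half of `xi2`. -/
def xiF (x : GolayPt → ℤ) : GolayPt → ℤ := fun i => xi2 x i / 2

/-- The test used on the generators. -/
def xiOK (x : GolayPt → ℤ) : Bool := decide (∀ i, xi2 x i % 2 = 0) && inLeech (xiF x)

theorem mem_xiSub_of_xiOK {x : GolayPt → ℤ} (h : xiOK x = true) : x ∈ xiSub := by
  unfold xiOK at h
  rw [Bool.and_eq_true, decide_eq_true_eq] at h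
  refine ⟨xiF x, mem_of_inLeech h.2, fun i => ?_⟩
  have := h.1 i
  unfold xiF
  omega

theorem xiOK_gen1 : ∀ i : GolayPt, xiOK (Pi.single i 4 - Pi.single none 4) = true := by
  decide +kernel

theorem xiOK_gen2 : xiOK (Pi.single none 8) = true := by
  decide +kernel

theorem xiOK_gen3 : ∀ b ∈ basisMasks, xiOK (twoLift (W b)) = true := by
  decide +kernel

theorem xiOK_gen4 : xiOK vOdd = true := by
  decide +kernel

theorem leech_le_xiSub : leechLattice ≤ xiSub :=
  leech_le_of_gens xiSub (fun i => mem_xiSub_of_xiOK (xiOK_gen1 i)) (mem_xiSub_of_xiOK xiOK_gen2)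
    (fun b hb => mem_xiSub_of_xiOK (xiOK_gen3 b hb)) (mem_xiSub_of_xiOK xiOK_gen4)

theorem xi2_eq_two_xiF {x : GolayPt → ℤ} (hx : x ∈ leechLattice) (i : GolayPt) :
    xi2 x i = 2 * xiF x i := by
  obtain ⟨y, _, h⟩ := leech_le_xiSub hx
  unfold xiF
  rw [h]
  omega

theorem xiF_mem {x : GolayPt → ℤ} (hx : x ∈ leechLattice) : xiF x ∈ leechLattice := by
  obtain ⟨y, hy, h⟩ := leech_le_xiSub hx
  have : xiF x = y := by
    funext i
    unfold xiF
    rw [h]
    omega
  rw [this]
  exact hy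

theorem xi2_two_mul (y : GolayPt → ℤ) : xi2 (fun i => 2 * y i) = fun i => 2 * xi2 y i := by
  have : (fun i => 2 * y i) = y + y := by
    funext i
    rw [Pi.add_apply]
    ring
  rw [this, xi2_add]
  funext i
  rw [Pi.add_apply]
  ring

theorem xiF_xiF {x : GolayPt → ℤ} (hx : x ∈ leechLattice) : xiF (xiF x) = x := by
  have h1 : xi2 x = fun i => 2 * xiF x i := funext (xi2_eq_two_xiF hx)
  have h2 : xi2 (xiF x) = fun i => 2 * xiF (xiF x) i := funext (xi2_eq_two_xiF (xiF_mem hx))
  have h3 := xi2_xi2 x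
  rw [h1, xi2_two_mul, h2] at h3
  funext i
  have := congrFun h3 i
  simp only [Pi.smul_apply, smul_eq_mul] at this
  omega

theorem xiF_add {x y : GolayPt → ℤ} (hx : x ∈ leechLattice) (hy : y ∈ leechLattice) :
    xiF (x + y) = xiF x + xiF y := by
  funext i
  have h1 := xi2_eq_two_xiF hx i
  have h2 := xi2_eq_two_xiF hy i
  have h3 := xi2_eq_two_xiF (add_mem hx hy) i
  rw [xi2_add, Pi.add_apply] at h3
  rw [Pi.add_apply]
  omega

theorem sqNorm_xiF {x : GolayPt → ℤ} (hx : x ∈ leechLattice) : sqNorm (xiF x) = sqNorm x := by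
  have h1 : xi2 x = fun i => 2 * xiF x i := funext (xi2_eq_two_xiF hx)
  have h2 := sqNorm_xi2 x
  rw [h1, sqNorm_two_mul] at h2
  omega

/-- The extra automorphism of the lattice. -/
def xiCo0 : Co0 :=
  mkCo0 xiF xiF (fun _ hx => xiF_mem hx) (fun _ hx => xiF_mem hx) (fun _ hx => xiF_xiF hx)
    (fun _ hx => xiF_xiF hx) (fun _ hx _ hy => xiF_add hx hy) (fun _ hx => sqNorm_xiF hx)

theorem xiCo0_smul (v : leechLattice) :
    ((xiCo0 • v : leechLattice) : GolayPt → ℤ) = xiF (v : GolayPt → ℤ) := rfl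

theorem two_mul_xiCo0_smul (v : leechLattice) (i : GolayPt) :
    2 * ((xiCo0 • v : leechLattice) : GolayPt → ℤ) i = xi2 (v : GolayPt → ℤ) i := by
  rw [xiCo0_smul, ← xi2_eq_two_xiF v.2]

end Cfsg.Agent.Lib.H27
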