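import Mathlib
import Cfsg.Prelude.Def_Sporadic_a
import Cfsg.Agent.Lib.H27.GolayFacts
import Cfsg.Agent.Lib.H28.GolayConcrete

/-!
helper27 library: the length-24 code is its own orthogonal complement, and the resulting
description of the restriction of the code to a set of points: a subset `S` of `T` is the
trace on `T` of a code word as soon as it meets evenly every code word contained in `T`.
-/

set_option autoImplicit false

namespace Cfsg.Agent.Lib.H27

open Cfsg Finset Cfsg.Agent.Lib.H28

/-- The standard dot product on binary words of length 24, as a bilinear form. -/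
noncomputable def dotB : LinearMap.BilinForm (ZMod 2) (GolayPt → ZMod 2) :=
  Matrix.toBilin' (1 : Matrix GolayPt GolayPt (ZMod 2))

theorem dotB_apply (u v : GolayPt → ZMod 2) : dotB u v = ∑ i, u i * v i := by
  unfold dotB
  rw [Matrix.toBilin'_apply', Matrix.one_mulVec]
  rfl

theorem dotB_nondeg : dotB.Nondegenerate := by
  unfold dotB
  apply LinearMap.BilinForm.nondegenerate_toBilin'_of_det_ne_zero'
  rw [Matrix.det_one]
  exact one_ne_zero

theorem dotB_refl : dotB.IsRefl := by
  intro u v h
  rw [dotB_apply] at h ⊢
  rw [← h]
  apply Finset.sum_congr rfl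
  intro i _
  ring

theorem golay_self_dual : dotB.orthogonal golayCode = golayCode := by
  symm
  apply Submodule.eq_of_le_of_finrank_eq
  · intro v hv w hw
    show dotB w v = 0
    rw [dotB_apply]
    exact golayCode_orth w hw v hv
  · rw [LinearMap.BilinForm.finrank_orthogonal dotB_nondeg, golayCode_finrank]
    simp

/-- Words vanishing on `T`. -/
def offSub (T : Finset GolayPt) : Submodule (ZMod 2) (GolayPt → ZMod 2) where
  carrier := {u | ∀ i ∈ T, u i = 0}
  zero_mem' := fun _ _ => rfl
  add_mem' := by
    intro u v hu hv i hi
    simp only [Set.mem_ofPred_eq] at hu hv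
    rw [Pi.add_apply, hu i hi, hv i hi, add_zero]
  smul_mem' := by
    intro a u hu i hi
    simp only [Set.mem_ofPred_eq] at hu
    rw [Pi.smul_apply, hu i hi, smul_zero]

theorem mem_offSub {T : Finset GolayPt} {u : GolayPt → ZMod 2} :
    u ∈ offSub T ↔ ∀ i ∈ T, u i = 0 := Iff.rfl

/-- A subset `S` of `T` meeting evenly every code word inside `T` is the trace on `T` of a code
word. -/
theorem golay_restrict_surj (T S : Finset GolayPt) (hST : S ⊆ T)
    (h : ∀ c ∈ golayCode, support₂ c ⊆ T → Even (support₂ c ∩ S).card) :
    ∃ c ∈ golayCode, support₂ c ∩ T = S := by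
  classical
  have key : ind S ∈ golayCode ⊔ offSub T := by
    rw [← LinearMap.BilinForm.orthogonal_orthogonal dotB_nondeg dotB_refl (golayCode ⊔ offSub T)]
    intro v hv
    show dotB v (ind S) = 0
    have hv1 : v ∈ golayCode := by
      rw [← golay_self_dual]
      intro w hw
      exact hv w (Submodule.mem_sup_left hw)
    have hv2 : support₂ v ⊆ T := by
      intro i hi
      by_contra hiT
      have h1 : (Pi.single i 1 : GolayPt → ZMod 2) ∈ offSub T := by
        intro j hj
        rw [Pi.single_apply, if_neg]
        rintro rfl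
        exact hiT hj
      have h2 := hv _ (Submodule.mem_sup_right h1)
      change dotB (Pi.single i 1) v = 0 at h2
      rw [dotB_apply] at h2
      simp only [Pi.single_apply, ite_mul, one_mul, zero_mul, Finset.sum_ite_eq',
        Finset.mem_univ, if_true] at h2
      unfold support₂ at hi
      rw [Finset.mem_filter] at hi
      exact hi.2 h2
    rw [dotB_apply, dot_eq, supp_ind, supp_eq_support₂]
    obtain ⟨k, hk⟩ := h v hv1 hv2
    rw [hk]
    push_cast
    rw [← two_mul]
    have : (2 : ZMod 2) = 0 := by decide
    rw [this, zero_mul]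
  obtain ⟨c, hc, u, hu, hcu⟩ := Submodule.mem_sup.1 key
  refine ⟨c, hc, ?_⟩
  ext i
  rw [Finset.mem_inter]
  constructor
  · rintro ⟨hi, hiT⟩
    have := congrFun hcu i
    rw [Pi.add_apply, hu i hiT, add_zero] at this
    unfold support₂ at hi
    rw [Finset.mem_filter] at hi
    by_contra hiS
    apply hi.2
    rw [this]
    unfold ind
    rw [if_neg hiS]
  · intro hiS
    have hiT := hST hiS
    refine ⟨?_, hiT⟩
    have := congrFun hcu i
    rw [Pi.add_apply, hu i hiT, add_zero] at this
    unfold support₂
    rw [Finset.mem_filter]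
    refine ⟨Finset.mem_univ _, ?_⟩
    rw [this]
    unfold ind
    rw [if_pos hiS]
    exact one_ne_zero

end Cfsg.Agent.Lib.H27
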