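import Mathlib
import Cfsg.Prelude.Def_Sporadic_a
import Cfsg.Agent.Lib.H27.Co0Xi
import Cfsg.Agent.Lib.H27.Co0Center
import Cfsg.Agent.Lib.H27.GolayDual

/-!
helper27 library: the orbit relation of `Co0` on lattice vectors, and tools to show that two
vectors with the same absolute values of coordinates are related by a sign change on a code word.
-/

set_option autoImplicit false

namespace Cfsg.Agent.Lib.H27

open Cfsg Finset Cfsg.Agent.Lib.H28

/-- Two lattice vectors in the same orbit of `Co0`. -/
def CoRel (v w : leechLattice) : Prop := ∃ g : Co0, g • v = w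

theorem CoRel.refl (v : leechLattice) : CoRel v v := ⟨1, one_smul _ _⟩

theorem CoRel.symm {v w : leechLattice} (h : CoRel v w) : CoRel w v := by
  obtain ⟨g, rfl⟩ := h
  exact ⟨g⁻¹, inv_smul_smul g v⟩

theorem CoRel.trans {u v w : leechLattice} (h : CoRel u v) (h' : CoRel v w) : CoRel u w := by
  obtain ⟨g, rfl⟩ := h
  obtain ⟨g', rfl⟩ := h'
  exact ⟨g' * g, mul_smul g' g u⟩

theorem coRel_xi (v : leechLattice) : CoRel v (xiCo0 • v) := ⟨xiCo0, rfl⟩

theorem coRel_perm (σ : Equiv.Perm GolayPt) (hσ : σ ∈ M24) (v : leechLattice) :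
    CoRel v (permCo0 σ hσ • v) := ⟨_, rfl⟩

theorem coRel_sign {v w : leechLattice} (c : GolayPt → ZMod 2) (hc : c ∈ golayCode)
    (h : ∀ k, (w : GolayPt → ℤ) k
      = if k ∈ support₂ c then -(v : GolayPt → ℤ) k else (v : GolayPt → ℤ) k) : CoRel v w := by
  refine ⟨signCo0 c hc, Subtype.ext (funext fun k => ?_)⟩
  rw [signCo0_smul, h]

theorem mem_support₂_iff (c : GolayPt → ZMod 2) (k : GolayPt) : k ∈ support₂ c ↔ c k ≠ 0 := by
  unfold support₂
  rw [Finset.mem_filter]
  exact ⟨fun h => h.2, fun h => ⟨Finset.mem_univ _, h⟩⟩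

/-- Coordinates of a lattice vector all have the same parity. -/
theorem leech_parity {x : GolayPt → ℤ} (hx : x ∈ leechLattice) (i k : GolayPt) :
    x i % 2 = x k % 2 := by
  obtain ⟨m, c, _, h1, _⟩ := exists_leechDesc hx
  have hi := h1 i
  have hk := h1 k
  unfold Int.ModEq at hi hk
  omega

theorem eq_or_eq_neg_of_abs {a b : ℤ} (h : |a| = |b|) : a = b ∨ a = -b :=
  abs_eq_abs.1 h

/-- Odd vectors with the same absolute values differ by a sign change on a code word. -/
theorem sign_fix_odd {v w : leechLattice}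
    (habs : ∀ k, |(w : GolayPt → ℤ) k| = |(v : GolayPt → ℤ) k|)
    (hodd : (v : GolayPt → ℤ) none % 2 = 1) : CoRel v w := by
  have hd : ((v - w : leechLattice) : GolayPt → ℤ) ∈ leechLattice := (v - w).2
  obtain ⟨m, c, hm, hc, h1, _⟩ := exists_leechDesc_normal hd
  have hvodd : ∀ k, (v : GolayPt → ℤ) k % 2 = 1 := fun k => by
    rw [leech_parity v.2 k none]; exact hodd
  have hm0 : m = 0 := by
    rcases hm with rfl | rfl
    · rfl
    · exfalso
      have h := h1 none
      rw [AddSubgroup.coe_sub, Pi.sub_apply] at h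
      have hv := hvodd none
      rcases eq_or_eq_neg_of_abs (habs none) with e | e <;> rw [e] at h <;>
        unfold Int.ModEq at h <;> omega
  subst hm0
  apply coRel_sign c hc
  intro k
  have h := h1 k
  rw [AddSubgroup.coe_sub, Pi.sub_apply] at h
  have hv := hvodd k
  have hck : c k = 0 ∨ c k = 1 := by
    have : ∀ b : ZMod 2, b = 0 ∨ b = 1 := by decide
    exact this _
  rcases hck with e0 | e1
  · rw [e0] at h
    rw [if_neg (fun hmem => (mem_support₂_iff c k).1 hmem e0)]
    simp only [ZMod.val_zero, Nat.cast_zero, mul_zero, add_zero] at h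
    rcases eq_or_eq_neg_of_abs (habs k) with e | e
    · exact e
    · exfalso
      rw [e] at h
      unfold Int.ModEq at h
      omega
  · rw [e1] at h
    rw [if_pos ((mem_support₂_iff c k).2 (by rw [e1]; decide))]
    have h1' : ((1 : ZMod 2).val : ℤ) = 1 := by decide
    rw [h1'] at h
    rcases eq_or_eq_neg_of_abs (habs k) with e | e
    · exfalso
      rw [e] at h
      unfold Int.ModEq at h
      omega
    · exact e

/-- Vectors with the same absolute values differ by a sign change on a code word as soon as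
the set of sign differences meets evenly every code word inside the support. -/
theorem sign_fix_even {v w : leechLattice}
    (habs : ∀ k, |(w : GolayPt → ℤ) k| = |(v : GolayPt → ℤ) k|)
    (hT : ∀ c ∈ golayCode, (∀ k, c k ≠ 0 → (v : GolayPt → ℤ) k ≠ 0) →
      Even (Finset.univ.filter fun k => c k ≠ 0 ∧ (w : GolayPt → ℤ) k ≠ (v : GolayPt → ℤ) k).card) :
    CoRel v w := by
  classical
  set T : Finset GolayPt := Finset.univ.filter fun k => (v : GolayPt → ℤ) k ≠ 0 with hTdef
  set S : Finset GolayPt :=
    Finset.univ.filter fun k => (w : GolayPt → ℤ) k ≠ (v : GolayPt → ℤ) k with hSdef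
  have hST : S ⊆ T := by
    intro k hk
    rw [hSdef, Finset.mem_filter] at hk
    rw [hTdef, Finset.mem_filter]
    refine ⟨Finset.mem_univ _, fun h0 => hk.2 ?_⟩
    have := habs k
    rw [h0, abs_zero, abs_eq_zero] at this
    rw [this, h0]
  obtain ⟨c, hc, hcT⟩ := golay_restrict_surj T S hST (by
    intro c hc hsub
    have := hT c hc (fun k hk => by
      have := hsub ((mem_support₂_iff c k).2 hk)
      rw [hTdef, Finset.mem_filter] at this
      exact this.2)
    convert this using 2
    ext k
    rw [Finset.mem_inter, mem_support₂_iff, hSdef, Finset.mem_filter, Finset.mem_filter]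
    simp)
  apply coRel_sign c hc
  intro k
  by_cases hk : (v : GolayPt → ℤ) k = 0
  · have := habs k
    rw [hk, abs_zero, abs_eq_zero] at this
    rw [this, hk]
    simp
  · have hkT : k ∈ T := by
      rw [hTdef, Finset.mem_filter]; exact ⟨Finset.mem_univ _, hk⟩
    have hiff : k ∈ support₂ c ↔ k ∈ S := by
      rw [← hcT, Finset.mem_inter]
      exact ⟨fun h => ⟨h, hkT⟩, fun h => h.1⟩
    by_cases hkS : k ∈ S
    · rw [if_pos (hiff.2 hkS)]
      rw [hSdef, Finset.mem_filter] at hkS
      rcases eq_or_eq_neg_of_abs (habs k) with e | e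
      · exact absurd e hkS.2
      · exact e
    · rw [if_neg (fun h => hkS (hiff.1 h))]
      rw [hSdef, Finset.mem_filter] at hkS
      by_contra hne
      exact hkS ⟨Finset.mem_univ _, hne⟩

end Cfsg.Agent.Lib.H27
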