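import Mathlib
import Cfsg.Prelude.Def_Sporadic_a
import Cfsg.Agent.Lib.H27.Leech
import Cfsg.Agent.Lib.H27.Leech2
import Cfsg.Agent.Lib.H27.GolayFacts
import Cfsg.Agent.Lib.H28.GolayConcrete

/-!
helper27 library: the three shapes of the lattice vectors of squared length 32:
`(±4, ±4, 0^22)`, `(±2^8, 0^16)` on an octad, and `(∓3, ±1^23)`.
-/

set_option autoImplicit false

namespace Cfsg.Agent.Lib.H27

open Cfsg Finset Cfsg.Agent.Lib.H28

/-! ### Sums of nonnegative integers -/

theorem exists_pos_of_sum_pos {ι : Type*} [Fintype ι] (f : ι → ℤ) (h : 0 < ∑ k, f k) :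
    ∃ i, 0 < f i := by
  by_contra hne
  push Not at hne
  have : ∑ k, f k ≤ 0 := Finset.sum_nonpos (fun k _ => hne k)
  omega

theorem sum_split_at {ι : Type*} [Fintype ι] [DecidableEq ι] (f : ι → ℤ) (i : ι) :
    ∑ k, f k = f i + ∑ k, (if k = i then 0 else f k) := by
  have h1 : ∀ k, f k = (if k = i then f i else 0) + (if k = i then 0 else f k) := by
    intro k
    split_ifs with h
    · rw [h, add_zero]
    · rw [zero_add]
  conv_lhs => rw [Finset.sum_congr rfl (fun k _ => h1 k)]
  rw [Finset.sum_add_distrib, Finset.sum_ite_eq' Finset.univ i (fun _ => f i)]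
  simp

theorem single_of_sum {ι : Type*} [Fintype ι] [DecidableEq ι] {f : ι → ℤ} {n : ℤ} (hn : 0 < n)
    (h0 : ∀ k, 0 ≤ f k) (hs : ∑ k, f k = n) (hstep : ∀ k, f k = 0 ∨ n ≤ f k) :
    ∃ i, f i = n ∧ ∀ k, k ≠ i → f k = 0 := by
  obtain ⟨i, hi⟩ := exists_pos_of_sum_pos f (by omega)
  have hsp := sum_split_at f i
  have hrest : 0 ≤ ∑ k, (if k = i then 0 else f k) :=
    Finset.sum_nonneg (fun k _ => by split_ifs <;> [exact le_refl 0; exact h0 k])
  have hfi : f i = n := by
    rcases hstep i with h | h <;> omega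
  refine ⟨i, hfi, fun k hk => ?_⟩
  have hz : ∑ k, (if k = i then 0 else f k) = 0 := by omega
  rw [Finset.sum_eq_zero_iff_of_nonneg
    (fun k _ => by split_ifs <;> [exact le_refl 0; exact h0 k])] at hz
  have := hz k (Finset.mem_univ _)
  rwa [if_neg hk] at this

theorem abs_eq_of_sq_eq {a n : ℤ} (hn : 0 ≤ n) (h : a ^ 2 = n ^ 2) : |a| = n := by
  rw [← abs_of_nonneg hn]
  exact sq_eq_sq_iff_abs_eq_abs a n |>.1 h

/-! ### The three shapes -/

/-- Shape `(±4, ±4, 0^22)`. -/
def IsA (x : GolayPt → ℤ) : Prop :=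
  ∃ i j, i ≠ j ∧ ∀ k, |x k| = if k = i ∨ k = j then 4 else 0

/-- Shape `(±2^8, 0^16)`. -/
def IsB (x : GolayPt → ℤ) : Prop :=
  ∃ c ∈ golayCode, (support₂ c).card = 8 ∧ ∀ k, |x k| = if c k ≠ 0 then 2 else 0

/-- Shape `(∓3, ±1^23)`. -/
def IsC (x : GolayPt → ℤ) : Prop := ∃ i, ∀ k, |x k| = if k = i then 3 else 1

theorem shape32_odd {x : GolayPt → ℤ} (hodd : ∀ k, x k % 2 = 1) (hn : sqNorm x = 32) : IsC x := by
  classical
  have h0 : ∀ k, 0 ≤ x k ^ 2 - 1 := by
    intro k
    have := hodd k
    have h1 : x k ≠ 0 := by omega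
    have : 1 ≤ x k ^ 2 := by
      have := sq_nonneg (x k)
      rcases lt_trichotomy (x k) 0 with h | h | h
      · nlinarith
      · exact absurd h h1
      · nlinarith
    omega
  have hs : ∑ k, (x k ^ 2 - 1) = 8 := by
    rw [Finset.sum_sub_distrib]
    unfold sqNorm at hn
    rw [hn]
    simp
  have hstep : ∀ k, x k ^ 2 - 1 = 0 ∨ 8 ≤ x k ^ 2 - 1 := by
    intro k
    have := hodd k
    have hc : x k = 1 ∨ x k = -1 ∨ 3 ≤ x k ∨ x k ≤ -3 := by omega
    rcases hc with h | h | h | h
    · left; rw [h]; norm_num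
    · left; rw [h]; norm_num
    · right; nlinarith
    · right; nlinarith
  obtain ⟨i, hi, hrest⟩ := single_of_sum (by norm_num) h0 hs hstep
  refine ⟨i, fun k => ?_⟩
  split_ifs with hk
  · rw [hk]
    apply abs_eq_of_sq_eq (by norm_num)
    omega
  · apply abs_eq_of_sq_eq (by norm_num)
    have := hrest k hk
    omega

theorem shape32_four {x : GolayPt → ℤ} (h4 : ∀ k, x k % 4 = 0) (hn : sqNorm x = 32) : IsA x := by
  classical
  set f : GolayPt → ℤ := fun k => (x k / 4) ^ 2 with hf
  have hx : ∀ k, x k = 4 * (x k / 4) := fun k => by have := h4 k; omega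
  have h0 : ∀ k, 0 ≤ f k := fun k => sq_nonneg _
  have hs : ∑ k, f k = 2 := by
    unfold sqNorm at hn
    have : ∑ k, x k ^ 2 = 16 * ∑ k, f k := by
      rw [Finset.mul_sum]
      apply Finset.sum_congr rfl
      intro k _
      rw [hf]
      conv_lhs => rw [hx k]
      ring
    omega
  have hval : ∀ k, f k = 0 ∨ f k = 1 ∨ 4 ≤ f k := by
    intro k
    rw [hf]
    simp only
    have hc : x k / 4 = 0 ∨ x k / 4 = 1 ∨ x k / 4 = -1 ∨ 2 ≤ x k / 4 ∨ x k / 4 ≤ -2 := by omega
    rcases hc with h | h | h | h | h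
    · left; rw [h]; norm_num
    · right; left; rw [h]; norm_num
    · right; left; rw [h]; norm_num
    · right; right; nlinarith
    · right; right; nlinarith
  obtain ⟨i, hi⟩ := exists_pos_of_sum_pos f (by omega)
  have hsp := sum_split_at f i
  have hrest0 : 0 ≤ ∑ k, (if k = i then 0 else f k) :=
    Finset.sum_nonneg (fun k _ => by split_ifs <;> [exact le_refl 0; exact h0 k])
  have hfi : f i = 1 := by
    rcases hval i with h | h | h <;> omega
  have hs' : ∑ k, (if k = i then 0 else f k) = 1 := by omega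
  obtain ⟨j, hj, hrest⟩ := single_of_sum (f := fun k => if k = i then 0 else f k) (by norm_num)
    (fun k => by split_ifs <;> [exact le_refl 0; exact h0 k]) hs'
    (fun k => by
      split_ifs
      · left; rfl
      · rcases hval k with h | h | h <;> omega)
  have hji : j ≠ i := by
    rintro rfl
    simp at hj
  rw [if_neg hji] at hj
  have habs : ∀ k, f k = 1 → |x k| = 4 := by
    intro k hk
    apply abs_eq_of_sq_eq (by norm_num)
    rw [hf] at hk
    simp only at hk
    rw [hx k]
    rw [mul_pow, hk]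
    norm_num
  refine ⟨i, j, hji.symm, fun k => ?_⟩
  split_ifs with hk
  · rcases hk with rfl | rfl
    · exact habs _ hfi
    · exact habs _ hj
  · push Not at hk
    have := hrest k hk.2
    rw [if_neg hk.1, hf] at this
    simp only at this
    have h0' : x k / 4 = 0 := by
      exact pow_eq_zero_iff (by norm_num) |>.1 this
    rw [hx k, h0']
    simp

theorem shape32_even {x : GolayPt → ℤ} {c : GolayPt → ZMod 2} (hd : LeechDesc x 0 c)
    (hn : sqNorm x = 32) : IsA x ∨ IsB x := by
  classical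
  obtain ⟨hc, h1, _⟩ := hd
  have hcv : ∀ k, (c k = 0 ∧ ((c k).val : ℤ) = 0) ∨ (c k ≠ 0 ∧ ((c k).val : ℤ) = 1) := by
    intro k
    have : ∀ b : ZMod 2, (b = 0 ∧ ((b.val : ℕ) : ℤ) = 0) ∨ (b ≠ 0 ∧ ((b.val : ℕ) : ℤ) = 1) := by decide
    exact this _
  have h0 : ∀ k, 0 ≤ x k ^ 2 - 4 * ((c k).val : ℤ) := by
    intro k
    have := h1 k
    rcases hcv k with ⟨_, e⟩ | ⟨_, e⟩
    · rw [e]; have := sq_nonneg (x k); omega
    · rw [e] at this ⊢
      unfold Int.ModEq at this
      have hc2 : 2 ≤ x k ∨ x k ≤ -2 := by omega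
      rcases hc2 with h | h <;> nlinarith
  have hs : ∑ k, (x k ^ 2 - 4 * ((c k).val : ℤ)) = 32 - 4 * ((support₂ c).card : ℤ) := by
    rw [Finset.sum_sub_distrib, ← Finset.mul_sum, sum_val_eq_card]
    unfold sqNorm at hn
    rw [hn]
  have hsum0 : 0 ≤ ∑ k, (x k ^ 2 - 4 * ((c k).val : ℤ)) := Finset.sum_nonneg (fun k _ => h0 k)
  have hw := golayCode_weight hc
  rw [← card_support₂_eq] at hw
  have hcard : (support₂ c).card = 0 ∨ (support₂ c).card = 8 := by
    rcases hw with h | h | h | h | h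
    · left; exact h
    · right; exact h
    all_goals (exfalso; rw [hs, h] at hsum0; norm_num at hsum0)
  rcases hcard with h | h
  · left
    apply shape32_four _ hn
    intro k
    have hck : c k = 0 := by
      by_contra hne
      have : k ∈ support₂ c := by
        unfold support₂
        rw [Finset.mem_filter]
        exact ⟨Finset.mem_univ _, hne⟩
      rw [Finset.card_eq_zero] at h
      rw [h] at this
      exact absurd this (Finset.notMem_empty _)
    have := h1 k
    rw [hck] at this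
    simp only [ZMod.val_zero, Nat.cast_zero, mul_zero, add_zero] at this
    exact this
  · right
    refine ⟨c, hc, h, fun k => ?_⟩
    rw [h] at hs
    have hz : ∑ k, (x k ^ 2 - 4 * ((c k).val : ℤ)) = 0 := by rw [hs]; norm_num
    rw [Finset.sum_eq_zero_iff_of_nonneg (fun k _ => h0 k)] at hz
    have hk := hz k (Finset.mem_univ _)
    rcases hcv k with ⟨e0, e⟩ | ⟨e1, e⟩
    · rw [e] at hk
      rw [if_neg (by simpa using e0)]
      have : x k ^ 2 = 0 := by omega
      rw [pow_eq_zero_iff (by norm_num)] at this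
      rw [this]; simp
    · rw [e] at hk
      rw [if_pos e1]
      apply abs_eq_of_sq_eq (by norm_num)
      omega

/-- The vectors of squared length 32 have one of three shapes. -/
theorem shape32 {x : GolayPt → ℤ} (hx : x ∈ leechLattice) (hn : sqNorm x = 32) :
    IsA x ∨ IsB x ∨ IsC x := by
  obtain ⟨m, c, hm, hd⟩ := exists_leechDesc_normal hx
  rcases hm with rfl | rfl
  · rcases shape32_even hd hn with h | h
    · exact Or.inl h
    · exact Or.inr (Or.inl h)
  · right; right
    apply shape32_odd _ hn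
    intro k
    have := hd.2.1 k
    unfold Int.ModEq at this
    omega

end Cfsg.Agent.Lib.H27
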