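import Mathlib
import Cfsg.Prelude.Def_Sporadic_a
import Cfsg.Agent.Lib.H27.Co0Orbit
import Cfsg.Agent.Lib.H27.Leech32Shapes
import Cfsg.Agent.Lib.H28.M24Trans
import Cfsg.Agent.Lib.H28.M24Stab

/-!
helper27 library: `Co0` is transitive on the lattice vectors of squared length 32.
-/

set_option autoImplicit false

namespace Cfsg.Agent.Lib.H27

open Cfsg Finset Cfsg.Agent.Lib.H28
open scoped Pointwise

theorem eq_zero_of_card_lt {c : GolayPt → ZMod 2} (hc : c ∈ golayCode)
    (h : (support₂ c).card < 8) : c = 0 := by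
  by_contra hne
  have := golay_min_weight c hc hne
  omega

theorem filter_eq_empty_of_zero (P : GolayPt → Prop) [DecidablePred P] :
    (Finset.univ.filter fun k => (0 : GolayPt → ZMod 2) k ≠ 0 ∧ P k) = ∅ := by
  rw [Finset.filter_eq_empty_iff]
  intro k _ h
  exact h.1 rfl

/-- A set of positions carrying values `≡ 4 (mod 8)` of a function vanishing elsewhere whose sum
is divisible by 8 has even size. -/
theorem even_card_of_sum_mod (S : Finset GolayPt) (g : GolayPt → ℤ)
    (h4 : ∀ k ∈ S, g k % 8 = 4) (h0 : ∀ k, k ∉ S → g k = 0) (hs : (∑ k, g k) % 8 = 0) :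
    Even S.card := by
  have h1 : ∑ k, g k = ∑ k ∈ S, g k := by
    symm
    apply Finset.sum_subset (Finset.subset_univ _)
    intro k _ hk
    exact h0 k hk
  have h2 : ∑ k ∈ S, g k = ∑ k ∈ S, (g k - 4) + 4 * (S.card : ℤ) := by
    rw [Finset.sum_sub_distrib, Finset.sum_const, nsmul_eq_mul]
    ring
  have h3 : (8 : ℤ) ∣ ∑ k ∈ S, (g k - 4) := by
    apply Finset.dvd_sum
    intro k hk
    have := h4 k hk
    omega
  rw [h1, h2] at hs
  obtain ⟨t, ht⟩ := h3
  rw [ht] at hs
  rw [Nat.even_iff]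
  omega

theorem transA {v w : leechLattice} (hv : IsA (v : GolayPt → ℤ)) (hw : IsA (w : GolayPt → ℤ)) :
    CoRel v w := by
  obtain ⟨i, j, hij, hvk⟩ := hv
  obtain ⟨i', j', hij', hwk⟩ := hw
  obtain ⟨σ, hσ, hmap⟩ := exists_M24_map (n := 2) (by norm_num) ![i, j] ![i', j']
    (injective_pair hij) (injective_pair hij')
  have hi : σ i = i' := hmap 0
  have hj : σ j = j' := hmap 1
  refine (coRel_perm σ hσ v).trans ?_
  have habs : ∀ k, |(w : GolayPt → ℤ) k| = |((permCo0 σ hσ • v : leechLattice) : GolayPt → ℤ) k| := by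
    intro k
    rw [permCo0_smul, hwk, hvk]
    have e1 : σ.symm k = i ↔ k = i' := by
      rw [← hi]; exact ⟨fun h => by rw [← h, Equiv.apply_symm_apply], fun h => by rw [h, Equiv.symm_apply_apply]⟩
    have e2 : σ.symm k = j ↔ k = j' := by
      rw [← hj]; exact ⟨fun h => by rw [← h, Equiv.apply_symm_apply], fun h => by rw [h, Equiv.symm_apply_apply]⟩
    simp only [e1, e2]
  apply sign_fix_even habs
  intro c hc hsub
  have hc0 : c = 0 := by
    apply eq_zero_of_card_lt hc
    have : support₂ c ⊆ {i', j'} := by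
      intro k hk
      have h1 := hsub k ((mem_support₂_iff c k).1 hk)
      have h2 := habs k
      rw [hwk] at h2
      by_contra hne
      rw [Finset.mem_insert, Finset.mem_singleton] at hne
      rw [if_neg hne] at h2
      apply h1
      rw [← abs_eq_zero, ← h2]
    have := Finset.card_le_card this
    have h2 : ({i', j'} : Finset GolayPt).card ≤ 2 := Finset.card_le_two
    omega
  rw [hc0, filter_eq_empty_of_zero]
  exact ⟨0, rfl⟩

theorem even_of_abs_two {x : GolayPt → ℤ} (hx : x ∈ leechLattice) {c : GolayPt → ZMod 2}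
    (h : ∀ k, |x k| = if c k ≠ 0 then 2 else 0) : (∑ k, x k) % 8 = 0 := by
  obtain ⟨m, d, hm, hd⟩ := exists_leechDesc_normal hx
  rcases hm with rfl | rfl
  · have := hd.2.2
    unfold Int.ModEq at this
    omega
  · exfalso
    have h1 := hd.2.1 none
    have h2 := h none
    unfold Int.ModEq at h1
    split_ifs at h2
    · rcases abs_eq (by norm_num : (0 : ℤ) ≤ 2) |>.1 h2 with e | e <;> rw [e] at h1 <;> omega
    · rw [abs_eq_zero] at h2
      rw [h2] at h1
      omega

theorem transB {v w : leechLattice} (hv : IsB (v : GolayPt → ℤ)) (hw : IsB (w : GolayPt → ℤ)) :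
    CoRel v w := by
  classical
  obtain ⟨cv, hcv, hcv8, hvk⟩ := hv
  obtain ⟨cw, hcw, hcw8, hwk⟩ := hw
  have hov : support₂ cv ∈ octads := ⟨⟨cv, hcv, rfl⟩, hcv8⟩
  have how : support₂ cw ∈ octads := ⟨⟨cw, hcw, rfl⟩, hcw8⟩
  obtain ⟨σ, hσ, hmap⟩ := exists_M24_smul_octad hov how
  refine (coRel_perm σ hσ v).trans ?_
  have hiff : ∀ k, cv (σ.symm k) ≠ 0 ↔ cw k ≠ 0 := by
    intro k
    rw [← mem_support₂_iff, ← mem_support₂_iff, ← hmap]
    constructor
    · intro h
      have : k = σ • σ.symm k := by rw [Equiv.Perm.smul_def, Equiv.apply_symm_apply]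
      rw [this]
      exact Finset.smul_mem_smul_finset h
    · intro h
      obtain ⟨p, hp, rfl⟩ := Finset.mem_smul_finset.1 h
      rw [Equiv.Perm.smul_def, Equiv.symm_apply_apply]
      exact hp
  have hv'k : ∀ k, |((permCo0 σ hσ • v : leechLattice) : GolayPt → ℤ) k|
      = if cw k ≠ 0 then 2 else 0 := by
    intro k
    rw [permCo0_smul, hvk]
    simp only [hiff k]
  have habs : ∀ k, |(w : GolayPt → ℤ) k| = |((permCo0 σ hσ • v : leechLattice) : GolayPt → ℤ) k| := by
    intro k
    rw [hv'k, hwk]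
  apply sign_fix_even habs
  intro c hc hsub
  by_cases hc0 : c = 0
  · rw [hc0, filter_eq_empty_of_zero]
    exact ⟨0, rfl⟩
  · have hsubset : support₂ c ⊆ support₂ cw := by
      intro k hk
      have h1 := hsub k ((mem_support₂_iff c k).1 hk)
      rw [mem_support₂_iff]
      intro h0
      apply h1
      rw [← abs_eq_zero, hv'k, if_neg (by simpa using h0)]
    have h8 := golay_min_weight c hc hc0
    have heq : support₂ c = support₂ cw :=
      Finset.eq_of_subset_of_card_le hsubset (by omega)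
    have hceq : ∀ k, c k ≠ 0 ↔ cw k ≠ 0 := by
      intro k
      rw [← mem_support₂_iff, ← mem_support₂_iff, heq]
    set v' : leechLattice := permCo0 σ hσ • v with hv'
    apply even_card_of_sum_mod _ (fun k => (v' : GolayPt → ℤ) k - (w : GolayPt → ℤ) k)
    · intro k hk
      rw [Finset.mem_filter] at hk
      obtain ⟨_, hck, hne⟩ := hk
      have h1 := hv'k k
      have h2 := hwk k
      rw [if_pos ((hceq k).1 hck)] at h1 h2
      rcases abs_eq (by norm_num : (0 : ℤ) ≤ 2) |>.1 h1 with e1 | e1 <;>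
        rcases abs_eq (by norm_num : (0 : ℤ) ≤ 2) |>.1 h2 with e2 | e2
      · exact absurd (e2.trans e1.symm) hne
      · show ((v' : GolayPt → ℤ) k - (w : GolayPt → ℤ) k) % 8 = 4
        rw [e1, e2]; norm_num
      · show ((v' : GolayPt → ℤ) k - (w : GolayPt → ℤ) k) % 8 = 4
        rw [e1, e2]; norm_num
      · exact absurd (e2.trans e1.symm) hne
    · intro k hk
      rw [Finset.mem_filter] at hk
      push Not at hk
      have hk' := hk (Finset.mem_univ _)
      by_cases hck : c k ≠ 0
      · rw [hk' hck, sub_self]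
      · have h1 := hv'k k
        have h2 := hwk k
        rw [if_neg (fun h => hck ((hceq k).2 h))] at h1 h2
        rw [abs_eq_zero] at h1 h2
        rw [h1, h2, sub_self]
    · rw [Finset.sum_sub_distrib]
      have e1 := even_of_abs_two v'.2 hv'k
      have e2 := even_of_abs_two w.2 hwk
      omega

theorem transC {v w : leechLattice} (hv : IsC (v : GolayPt → ℤ)) (hw : IsC (w : GolayPt → ℤ)) :
    CoRel v w := by
  obtain ⟨i, hvk⟩ := hv
  obtain ⟨i', hwk⟩ := hw
  obtain ⟨σ, hσ, hmap⟩ := exists_M24_map (n := 1) (by norm_num) (fun _ => i) (fun _ => i')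
    (Function.injective_of_subsingleton _) (Function.injective_of_subsingleton _)
  have hi : σ i = i' := hmap 0
  refine (coRel_perm σ hσ v).trans ?_
  have e1 : ∀ k, σ.symm k = i ↔ k = i' := by
    intro k
    rw [← hi]; exact ⟨fun h => by rw [← h, Equiv.apply_symm_apply], fun h => by rw [h, Equiv.symm_apply_apply]⟩
  have hv'k : ∀ k, |((permCo0 σ hσ • v : leechLattice) : GolayPt → ℤ) k|
      = if k = i' then 3 else 1 := by
    intro k
    rw [permCo0_smul, hvk]
    simp only [e1]
  apply sign_fix_odd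
  · intro k
    rw [hv'k, hwk]
  · have := hv'k none
    split_ifs at this
    · rcases abs_eq (by norm_num : (0 : ℤ) ≤ 3) |>.1 this with e | e <;> rw [e] <;> norm_num
    · rcases abs_eq (by norm_num : (0 : ℤ) ≤ 1) |>.1 this with e | e <;> rw [e] <;> norm_num

/-! ### Fusion -/

/-- `(4, 0, …, 4, …)` with the fours in different tetrads. -/
def vA0 : leechLattice :=
  ⟨vec44 (gPt 0) (gPt 13) 4, by
    rw [← minGen_eq]; exact vec44_mem _ _ (by decide) 4 (Or.inl rfl)⟩

theorem vA0_isA : IsA (vA0 : GolayPt → ℤ) := by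
  refine ⟨gPt 0, gPt 13, by decide, ?_⟩
  show ∀ k, |vec44 (gPt 0) (gPt 13) 4 k| = _
  unfold vec44
  decide

theorem sqNorm_vA0 : sqNorm (vA0 : GolayPt → ℤ) = 32 := by
  show sqNorm (vec44 (gPt 0) (gPt 13) 4) = 32
  unfold vec44
  decide

theorem xi_vA0_val : ((xiCo0 • vA0 : leechLattice) : GolayPt → ℤ) (gPt 0) = 2 := by
  have h := two_mul_xiCo0_smul vA0 (gPt 0)
  have h2 : xi2 (vA0 : GolayPt → ℤ) (gPt 0) = 4 := by
    show xi2 (vec44 (gPt 0) (gPt 13) 4) (gPt 0) = 4
    unfold vec44
    decide +kernel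
  omega

theorem xi_vA0_isB : IsB ((xiCo0 • vA0 : leechLattice) : GolayPt → ℤ) := by
  have hn : sqNorm ((xiCo0 • vA0 : leechLattice) : GolayPt → ℤ) = 32 := by
    rw [Co0_sqNorm, sqNorm_vA0]
  rcases shape32 (xiCo0 • vA0).2 hn with h | h | h
  · exfalso
    obtain ⟨i, j, _, hk⟩ := h
    have := hk (gPt 0)
    rw [xi_vA0_val] at this
    split_ifs at this <;> norm_num at this
  · exact h
  · exfalso
    obtain ⟨i, hk⟩ := h
    have := hk (gPt 0)
    rw [xi_vA0_val] at this
    split_ifs at this <;> norm_num at this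

/-- Twice an octad meeting the sextet in `3 + 1 + 1 + 1 + 1 + 1`. -/
def vB0 : leechLattice :=
  ⟨twoLift (W 12656663), mem_leechLattice_of_leechDesc
    (leechDesc_twoLift (W_mem_of_inC (by decide +kernel)))⟩

theorem vB0_isB : IsB (vB0 : GolayPt → ℤ) := by
  refine ⟨W 12656663, W_mem_of_inC (by decide +kernel), ?_, ?_⟩
  · rw [card_support₂_eq, hammingNorm_W]
    decide +kernel
  · show ∀ k, |twoLift (W 12656663) k| = _
    unfold twoLift
    decide +kernel

theorem sqNorm_vB0 : sqNorm (vB0 : GolayPt → ℤ) = 32 := by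
  show sqNorm (twoLift (W 12656663)) = 32
  rw [sqNorm_twoLift, card_support₂_eq, hammingNorm_W]
  decide +kernel

theorem xi_vB0_val : ((xiCo0 • vB0 : leechLattice) : GolayPt → ℤ) (gPt 0) = -1 := by
  have h := two_mul_xiCo0_smul vB0 (gPt 0)
  have h2 : xi2 (vB0 : GolayPt → ℤ) (gPt 0) = -2 := by
    show xi2 (twoLift (W 12656663)) (gPt 0) = -2
    unfold twoLift
    decide +kernel
  omega

theorem xi_vB0_isC : IsC ((xiCo0 • vB0 : leechLattice) : GolayPt → ℤ) := by
  have hn : sqNorm ((xiCo0 • vB0 : leechLattice) : GolayPt → ℤ) = 32 := by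
    rw [Co0_sqNorm, sqNorm_vB0]
  rcases shape32 (xiCo0 • vB0).2 hn with h | h | h
  · exfalso
    obtain ⟨i, j, _, hk⟩ := h
    have := hk (gPt 0)
    rw [xi_vB0_val] at this
    split_ifs at this <;> norm_num at this
  · exfalso
    obtain ⟨c, _, _, hk⟩ := h
    have := hk (gPt 0)
    rw [xi_vB0_val] at this
    split_ifs at this <;> norm_num at this
  · exact h

theorem coRel_vA0 (v : leechLattice) (hv : sqNorm (v : GolayPt → ℤ) = 32) : CoRel v vA0 := by
  have hB : ∀ u : leechLattice, IsB (u : GolayPt → ℤ) → CoRel u vA0 := fun u hu =>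
    (transB hu xi_vA0_isB).trans (coRel_xi vA0).symm
  rcases shape32 v.2 hv with h | h | h
  · exact transA h vA0_isA
  · exact hB v h
  · exact ((transC h xi_vB0_isC).trans (coRel_xi vB0).symm).trans (hB vB0 vB0_isB)

/-- `Co0` is transitive on the vectors of squared length 32. -/
theorem co0_trans32 (v w : leechLattice) (hv : sqNorm (v : GolayPt → ℤ) = 32)
    (hw : sqNorm (w : GolayPt → ℤ) = 32) : ∃ g : Co0, g • v = w :=
  (coRel_vA0 v hv).trans (coRel_vA0 w hw).symm

end Cfsg.Agent.Lib.H27
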