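import Mathlib
import Cfsg.Prelude.Def_Sporadic_a
import Cfsg.Agent.Lib.H27.Leech32Shapes

/-!
helper27 library: the four shapes of the lattice vectors of squared length 48:
`(±2^12, 0^12)` on a dodecad, `(±3^3, ±1^21)`, `(±4, ±2^8, 0^15)`, `(±5, ±1^23)`.
-/

set_option autoImplicit false

namespace Cfsg.Agent.Lib.H27

open Cfsg Finset Cfsg.Agent.Lib.H28

/-- Shape `(±2^12, 0^12)`. -/
def IsD2 (x : GolayPt → ℤ) : Prop :=
  ∃ c ∈ golayCode, (support₂ c).card = 12 ∧ ∀ k, |x k| = if c k ≠ 0 then 2 else 0

/-- Shape `(±3^3, ±1^21)`. -/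
def IsD3 (x : GolayPt → ℤ) : Prop :=
  ∃ F : Finset GolayPt, F.card = 3 ∧ ∀ k, |x k| = if k ∈ F then 3 else 1

/-- Shape `(±4, ±2^8, 0^15)`. -/
def IsD4 (x : GolayPt → ℤ) : Prop :=
  ∃ c ∈ golayCode, (support₂ c).card = 8 ∧ ∃ p, c p = 0 ∧
    ∀ k, |x k| = if k = p then 4 else if c k ≠ 0 then 2 else 0

/-- Shape `(±5, ±1^23)`. -/
def IsD5 (x : GolayPt → ℤ) : Prop := ∃ i, ∀ k, |x k| = if k = i then 5 else 1

theorem odd_sq_cases {a : ℤ} (h : a % 2 = 1) :
    a ^ 2 - 1 = 0 ∨ a ^ 2 - 1 = 8 ∨ a ^ 2 - 1 = 24 ∨ 48 ≤ a ^ 2 - 1 := by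
  have hc : a = 1 ∨ a = -1 ∨ a = 3 ∨ a = -3 ∨ a = 5 ∨ a = -5 ∨ 7 ≤ a ∨ a ≤ -7 := by omega
  rcases hc with h | h | h | h | h | h | h | h
  · left; rw [h]; norm_num
  · left; rw [h]; norm_num
  · right; left; rw [h]; norm_num
  · right; left; rw [h]; norm_num
  · right; right; left; rw [h]; norm_num
  · right; right; left; rw [h]; norm_num
  · right; right; right; nlinarith
  · right; right; right; nlinarith

theorem shape48_odd {x : GolayPt → ℤ} (hodd : ∀ k, x k % 2 = 1) (hn : sqNorm x = 48) :
    IsD3 x ∨ IsD5 x := by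
  classical
  set f : GolayPt → ℤ := fun k => x k ^ 2 - 1 with hf
  have hval : ∀ k, f k = 0 ∨ f k = 8 ∨ f k = 24 ∨ 48 ≤ f k := fun k => odd_sq_cases (hodd k)
  have h0 : ∀ k, 0 ≤ f k := fun k => by rcases hval k with h | h | h | h <;> omega
  have hs : ∑ k, f k = 24 := by
    rw [hf, Finset.sum_sub_distrib]
    unfold sqNorm at hn
    rw [hn]
    simp
  have habs : ∀ k (n : ℤ), 0 ≤ n → f k = n ^ 2 - 1 → |x k| = n := by
    intro k n hn' h
    apply abs_eq_of_sq_eq hn'
    rw [hf] at h
    simp only at h
    omega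
  obtain ⟨i, hi⟩ := exists_pos_of_sum_pos f (by omega)
  have hsp := sum_split_at f i
  have hnn : ∀ (j : GolayPt) (k : GolayPt), 0 ≤ (if k = j then 0 else f k) := by
    intro j k; split_ifs <;> [exact le_refl 0; exact h0 k]
  have hrest0 : 0 ≤ ∑ k, (if k = i then 0 else f k) := Finset.sum_nonneg (fun k _ => hnn i k)
  rcases hval i with h | h | h | h
  · omega
  · -- f i = 8
    left
    set f1 : GolayPt → ℤ := fun k => if k = i then 0 else f k with hf1
    have hs1 : ∑ k, f1 k = 16 := by
      have hsp' : ∑ k, f k = f i + ∑ k, f1 k := hsp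
      omega
    obtain ⟨j, hj⟩ := exists_pos_of_sum_pos f1 (by omega)
    have hji : j ≠ i := by
      rintro rfl
      rw [hf1] at hj
      simp at hj
    have hsp1 := sum_split_at f1 j
    have hnn1 : ∀ k, 0 ≤ f1 k := fun k => hnn i k
    have hrest1 : 0 ≤ ∑ k, (if k = j then 0 else f1 k) :=
      Finset.sum_nonneg (fun k _ => by split_ifs <;> [exact le_refl 0; exact hnn1 k])
    have hf1j : f1 j = f j := by rw [hf1]; simp only; rw [if_neg hji]
    have hfj : f j = 8 := by
      rcases hval j with h' | h' | h' | h' <;> omega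
    set f2 : GolayPt → ℤ := fun k => if k = j then 0 else f1 k with hf2
    have hs2 : ∑ k, f2 k = 8 := by
      have hsp1' : ∑ k, f1 k = f1 j + ∑ k, f2 k := hsp1
      omega
    obtain ⟨l, hl, hrest⟩ := single_of_sum (f := f2) (by norm_num)
      (fun k => by rw [hf2]; simp only; split_ifs <;> [exact le_refl 0; exact hnn1 k]) hs2
      (fun k => by
        rw [hf2, hf1]; simp only
        split_ifs
        · left; rfl
        · left; rfl
        · rcases hval k with h' | h' | h' | h' <;> omega)
    have hlj : l ≠ j := by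
      rintro rfl
      rw [hf2] at hl
      simp at hl
    have hli : l ≠ i := by
      rintro rfl
      rw [hf2, hf1] at hl
      simp at hl
    have hfl : f l = 8 := by
      rw [hf2, hf1] at hl
      simp only at hl
      rwa [if_neg hlj, if_neg hli] at hl
    refine ⟨{i, j, l}, ?_, fun k => ?_⟩
    · rw [Finset.card_eq_three]
      exact ⟨i, j, l, hji.symm, hli.symm, hlj.symm, rfl⟩
    · split_ifs with hk
      · rw [Finset.mem_insert, Finset.mem_insert, Finset.mem_singleton] at hk
        rcases hk with rfl | rfl | rfl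
        · exact habs _ 3 (by norm_num) (by rw [h]; norm_num)
        · exact habs _ 3 (by norm_num) (by rw [hfj]; norm_num)
        · exact habs _ 3 (by norm_num) (by rw [hfl]; norm_num)
      · rw [Finset.mem_insert, Finset.mem_insert, Finset.mem_singleton] at hk
        push Not at hk
        have := hrest k hk.2.2
        rw [hf2, hf1] at this
        simp only at this
        rw [if_neg hk.2.1, if_neg hk.1] at this
        exact habs _ 1 (by norm_num) (by rw [this]; norm_num)
  · -- f i = 24
    right
    refine ⟨i, fun k => ?_⟩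
    have hz : ∑ k, (if k = i then 0 else f k) = 0 := by omega
    rw [Finset.sum_eq_zero_iff_of_nonneg (fun k _ => hnn i k)] at hz
    split_ifs with hk
    · rw [hk]
      exact habs _ 5 (by norm_num) (by rw [h]; norm_num)
    · have := hz k (Finset.mem_univ _)
      rw [if_neg hk] at this
      exact habs _ 1 (by norm_num) (by rw [this]; norm_num)
  · omega

theorem zmod2_cases (b : ZMod 2) :
    (b = 0 ∧ ((b.val : ℕ) : ℤ) = 0) ∨ (b ≠ 0 ∧ ((b.val : ℕ) : ℤ) = 1) := by
  revert b; decide

theorem shape48_even {x : GolayPt → ℤ} {c : GolayPt → ZMod 2} (hd : LeechDesc x 0 c)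
    (hn : sqNorm x = 48) : IsD2 x ∨ IsD4 x := by
  classical
  obtain ⟨hc, h1, hsum⟩ := hd
  set g : GolayPt → ℤ := fun k => x k ^ 2 - 4 * ((c k).val : ℤ) with hg
  have hval : ∀ k, g k = 0 ∨ 16 ≤ g k := by
    intro k
    have := h1 k
    rw [hg]
    simp only
    rcases zmod2_cases (c k) with ⟨_, e⟩ | ⟨_, e⟩
    · rw [e] at this ⊢
      unfold Int.ModEq at this
      have hc : x k = 0 ∨ 4 ≤ x k ∨ x k ≤ -4 := by omega
      rcases hc with h | h | h
      · left; rw [h]; norm_num
      · right; nlinarith
      · right; nlinarith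
    · rw [e] at this ⊢
      unfold Int.ModEq at this
      have hc : x k = 2 ∨ x k = -2 ∨ 6 ≤ x k ∨ x k ≤ -6 := by omega
      rcases hc with h | h | h | h
      · left; rw [h]; norm_num
      · left; rw [h]; norm_num
      · right; nlinarith
      · right; nlinarith
  have h0 : ∀ k, 0 ≤ g k := fun k => by rcases hval k with h | h <;> omega
  have hs : ∑ k, g k = 48 - 4 * ((support₂ c).card : ℤ) := by
    rw [hg, Finset.sum_sub_distrib, ← Finset.mul_sum, sum_val_eq_card]
    unfold sqNorm at hn
    rw [hn]
  have hsum0 : 0 ≤ ∑ k, g k := Finset.sum_nonneg (fun k _ => h0 k)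
  have hw := golayCode_weight hc
  rw [← card_support₂_eq] at hw
  have hcard : (support₂ c).card = 0 ∨ (support₂ c).card = 8 ∨ (support₂ c).card = 12 := by
    rcases hw with h | h | h | h | h
    · left; exact h
    · right; left; exact h
    · right; right; exact h
    all_goals (exfalso; rw [hs, h] at hsum0; norm_num at hsum0)
  rcases hcard with h | h | h
  · -- impossible: all coordinates divisible by 4, sum of (x/4)^2 = 3 odd
    exfalso
    have hck : ∀ k, c k = 0 := by
      intro k
      by_contra hne
      have : k ∈ support₂ c := by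
        unfold support₂
        rw [Finset.mem_filter]
        exact ⟨Finset.mem_univ _, hne⟩
      rw [Finset.card_eq_zero] at h
      rw [h] at this
      exact absurd this (Finset.notMem_empty _)
    have h4 : ∀ k, x k % 4 = 0 := by
      intro k
      have := h1 k
      rw [hck k] at this
      simp only [ZMod.val_zero, Nat.cast_zero, mul_zero, add_zero] at this
      exact this
    have hx : ∀ k, x k = 4 * (x k / 4) := fun k => by have := h4 k; omega
    have hs3 : ∑ k, (x k / 4) ^ 2 = 3 := by
      unfold sqNorm at hn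
      have : ∑ k, x k ^ 2 = 16 * ∑ k, (x k / 4) ^ 2 := by
        rw [Finset.mul_sum]
        apply Finset.sum_congr rfl
        intro k _
        conv_lhs => rw [hx k]
        ring
      omega
    have hpar : (∑ k, (x k / 4) ^ 2) % 2 = (∑ k, x k / 4) % 2 := by
      have : (2 : ℤ) ∣ ∑ k, ((x k / 4) ^ 2 - x k / 4) := by
        apply Finset.dvd_sum
        intro k _
        have : (x k / 4) ^ 2 - x k / 4 = (x k / 4) * (x k / 4 - 1) := by ring
        rw [this]
        exact Int.even_mul_pred_self _ |>.two_dvd
      rw [Finset.sum_sub_distrib] at this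
      omega
    have hsx : ∑ k, x k = 4 * ∑ k, x k / 4 := by
      rw [Finset.mul_sum]
      apply Finset.sum_congr rfl
      intro k _
      exact hx k
    unfold Int.ModEq at hsum
    omega
  · -- weight 8
    right
    have hs16 : ∑ k, g k = 16 := by rw [hs, h]; norm_num
    obtain ⟨p, hp, hrest⟩ := single_of_sum (by norm_num) h0 hs16 hval
    have hcp : c p = 0 := by
      by_contra hne
      rcases zmod2_cases (c p) with ⟨e0, _⟩ | ⟨_, e⟩
      · exact hne e0
      · have := h1 p
        rw [hg] at hp
        simp only at hp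
        rw [e] at hp this
        unfold Int.ModEq at this
        have hc : x p = 2 ∨ x p = -2 ∨ 6 ≤ x p ∨ x p ≤ -6 := by omega
        rcases hc with h' | h' | h' | h'
        · rw [h'] at hp; norm_num at hp
        · rw [h'] at hp; norm_num at hp
        · nlinarith
        · nlinarith
    refine ⟨c, hc, h, p, hcp, fun k => ?_⟩
    split_ifs with hk hck
    · rw [hk]
      apply abs_eq_of_sq_eq (by norm_num)
      rw [hg] at hp
      simp only at hp
      rw [hcp] at hp
      simp only [ZMod.val_zero, Nat.cast_zero, mul_zero, sub_zero] at hp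
      rw [hp]; norm_num
    · have := hrest k hk
      rw [hg] at this
      simp only at this
      rcases zmod2_cases (c k) with ⟨e0, _⟩ | ⟨_, e⟩
      · exact absurd e0 hck
      · rw [e] at this
        apply abs_eq_of_sq_eq (by norm_num)
        omega
    · have := hrest k hk
      rw [hg] at this
      simp only at this
      have e0 : c k = 0 := by simpa using hck
      rw [e0] at this
      simp only [ZMod.val_zero, Nat.cast_zero, mul_zero, sub_zero] at this
      rw [pow_eq_zero_iff (by norm_num)] at this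
      rw [this]; simp
  · -- weight 12
    left
    refine ⟨c, hc, h, fun k => ?_⟩
    have hz : ∑ k, g k = 0 := by rw [hs, h]; norm_num
    rw [Finset.sum_eq_zero_iff_of_nonneg (fun k _ => h0 k)] at hz
    have hk := hz k (Finset.mem_univ _)
    rw [hg] at hk
    simp only at hk
    rcases zmod2_cases (c k) with ⟨e0, e⟩ | ⟨e1, e⟩
    · rw [e] at hk
      rw [if_neg (by simpa using e0)]
      have : x k ^ 2 = 0 := by omega
      rw [pow_eq_zero_iff (by norm_num)] at this
      rw [this]; simp
    · rw [e] at hk
      rw [if_pos e1]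
      apply abs_eq_of_sq_eq (by norm_num)
      omega

/-- The vectors of squared length 48 have one of four shapes. -/
theorem shape48 {x : GolayPt → ℤ} (hx : x ∈ leechLattice) (hn : sqNorm x = 48) :
    IsD2 x ∨ IsD3 x ∨ IsD4 x ∨ IsD5 x := by
  obtain ⟨m, c, hm, hd⟩ := exists_leechDesc_normal hx
  rcases hm with rfl | rfl
  · rcases shape48_even hd hn with h | h
    · exact Or.inl h
    · exact Or.inr (Or.inr (Or.inl h))
  · have hodd : ∀ k, x k % 2 = 1 := by
      intro k
      have := hd.2.1 k
      unfold Int.ModEq at this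
      omega
    rcases shape48_odd hodd hn with h | h
    · exact Or.inr (Or.inl h)
    · exact Or.inr (Or.inr (Or.inr h))

end Cfsg.Agent.Lib.H27
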