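import Mathlib
import Cfsg.Prelude.Def_Sporadic_a
import Cfsg.Agent.Lib.H27.Co0Trans32
import Cfsg.Agent.Lib.H27.Leech48Shapes
import Cfsg.Agent.Lib.H28.M24Orbit

/-!
helper27 library: `Co0` is transitive on the lattice vectors of squared length 48.
-/

set_option autoImplicit false

namespace Cfsg.Agent.Lib.H27

open Cfsg Finset Cfsg.Agent.Lib.H28
open scoped Pointwise

/-- Two code words whose supports differ in fewer than 8 places are equal. -/
theorem eq_of_symmDiff_lt {c cw : GolayPt → ZMod 2} (hc : c ∈ golayCode) (hcw : cw ∈ golayCode)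
    (h : (symmDiff (support₂ c) (support₂ cw)).card < 8) : c = cw := by
  have h1 : c + cw = 0 := by
    apply eq_zero_of_card_lt (golayCode.add_mem hc hcw)
    rw [← supp_eq_support₂, supp_add, supp_eq_support₂, supp_eq_support₂]
    exact h
  calc c = c + (cw + cw) := by rw [add_self', add_zero]
    _ = (c + cw) + cw := by rw [add_assoc]
    _ = cw := by rw [h1, zero_add]

/-- A code word inside a code word of weight less than 16 is zero or everything. -/
theorem sub_codeword {c cw : GolayPt → ZMod 2} (hc : c ∈ golayCode) (hcw : cw ∈ golayCode)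
    (hsub : support₂ c ⊆ support₂ cw) (hn : (support₂ cw).card < 16) : c = 0 ∨ c = cw := by
  by_cases hc0 : c = 0
  · exact Or.inl hc0
  · right
    apply eq_of_symmDiff_lt hc hcw
    have h8 := golay_min_weight c hc hc0
    have h1 := card_symmDiff' (support₂ c) (support₂ cw)
    rw [Finset.inter_eq_left.2 hsub] at h1
    omega

/-- A code word inside an octad plus one point is zero or the octad. -/
theorem sub_codeword_point {c cw : GolayPt → ZMod 2} (hc : c ∈ golayCode) (hcw : cw ∈ golayCode)
    (q : GolayPt) (hsub : support₂ c ⊆ insert q (support₂ cw)) (hn : (support₂ cw).card = 8) :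
    c = 0 ∨ c = cw := by
  classical
  by_cases hc0 : c = 0
  · exact Or.inl hc0
  · right
    apply eq_of_symmDiff_lt hc hcw
    have h8 := golay_min_weight c hc hc0
    have h1 := card_symmDiff' (support₂ c) (support₂ cw)
    have h2 : (support₂ c \ support₂ cw).card ≤ 1 := by
      have : support₂ c \ support₂ cw ⊆ {q} := by
        intro k hk
        rw [Finset.mem_sdiff] at hk
        have := hsub hk.1
        rw [Finset.mem_insert] at this
        rcases this with h | h
        · rw [h]; exact Finset.mem_singleton_self _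
        · exact absurd h hk.2
      have := Finset.card_le_card this
      simpa using this
    have h3 := Finset.card_sdiff_add_card_inter (support₂ c) (support₂ cw)
    have h4 : (support₂ c ∩ support₂ cw).card ≤ (support₂ cw).card :=
      Finset.card_le_card Finset.inter_subset_right
    omega

theorem even_card_of_sum_mod' (S : Finset GolayPt) (g : GolayPt → ℤ)
    (h4 : ∀ k ∈ S, g k % 8 = 4) (h0 : ∀ k, k ∉ S → g k % 8 = 0) (hs : (∑ k, g k) % 8 = 0) :
    Even S.card := by
  classical
  have h1 : ∑ k, g k = ∑ k ∈ S, g k + ∑ k ∈ Sᶜ, g k := (Finset.sum_add_sum_compl S g).symm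
  have h2 : ∑ k ∈ S, g k = ∑ k ∈ S, (g k - 4) + 4 * (S.card : ℤ) := by
    rw [Finset.sum_sub_distrib, Finset.sum_const, nsmul_eq_mul]
    ring
  have h3 : (8 : ℤ) ∣ ∑ k ∈ S, (g k - 4) := by
    apply Finset.dvd_sum
    intro k hk
    have := h4 k hk
    omega
  have h5 : (8 : ℤ) ∣ ∑ k ∈ Sᶜ, g k := by
    apply Finset.dvd_sum
    intro k hk
    have := h0 k (Finset.mem_compl.1 hk)
    omega
  rw [h1, h2] at hs
  obtain ⟨t, ht⟩ := h3
  obtain ⟨t', ht'⟩ := h5
  rw [ht, ht'] at hs
  rw [Nat.even_iff]
  omega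

/-- The coordinate sum of an even lattice vector is divisible by 8. -/
theorem sum_mod8_of_even {x : GolayPt → ℤ} (hx : x ∈ leechLattice) (h : x none % 2 = 0) :
    (∑ k, x k) % 8 = 0 := by
  obtain ⟨m, d, hm, hd⟩ := exists_leechDesc_normal hx
  rcases hm with rfl | rfl
  · have := hd.2.2
    unfold Int.ModEq at this
    omega
  · exfalso
    have h1 := hd.2.1 none
    unfold Int.ModEq at h1
    omega

theorem smul_iff {σ : Equiv.Perm GolayPt} {cv cw : GolayPt → ZMod 2}
    (hmap : σ • support₂ cv = support₂ cw) (k : GolayPt) : cv (σ.symm k) ≠ 0 ↔ cw k ≠ 0 := by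
  rw [← mem_support₂_iff, ← mem_support₂_iff, ← hmap]
  constructor
  · intro h
    have : k = σ • σ.symm k := by rw [Equiv.Perm.smul_def, Equiv.apply_symm_apply]
    rw [this]
    exact Finset.smul_mem_smul_finset h
  · intro h
    obtain ⟨p, hp, rfl⟩ := Finset.mem_smul_finset.1 h
    rw [Equiv.Perm.smul_def, Equiv.symm_apply_apply]
    exact hp

/-- Vectors `±2` on the supports of two code words of weight `< 16` in the same orbit of `M24`
are in the same orbit. -/
theorem trans_two {v w : leechLattice} {cv cw : GolayPt → ZMod 2} (hcw : cw ∈ golayCode)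
    (hvk : ∀ k, |(v : GolayPt → ℤ) k| = if cv k ≠ 0 then 2 else 0)
    (hwk : ∀ k, |(w : GolayPt → ℤ) k| = if cw k ≠ 0 then 2 else 0)
    {σ : Equiv.Perm GolayPt} (hσ : σ ∈ M24) (hmap : σ • support₂ cv = support₂ cw)
    (hlt : (support₂ cw).card < 16) : CoRel v w := by
  classical
  refine (coRel_perm σ hσ v).trans ?_
  have hv'k : ∀ k, |((permCo0 σ hσ • v : leechLattice) : GolayPt → ℤ) k|
      = if cw k ≠ 0 then 2 else 0 := by
    intro k
    rw [permCo0_smul, hvk]
    simp only [smul_iff hmap k]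
  have habs : ∀ k, |(w : GolayPt → ℤ) k| = |((permCo0 σ hσ • v : leechLattice) : GolayPt → ℤ) k| := by
    intro k
    rw [hv'k, hwk]
  apply sign_fix_even habs
  intro c hc hsub
  have hsubset : support₂ c ⊆ support₂ cw := by
    intro k hk
    have h1 := hsub k ((mem_support₂_iff c k).1 hk)
    rw [mem_support₂_iff]
    intro h0
    apply h1
    rw [← abs_eq_zero, hv'k, if_neg (by simpa using h0)]
  rcases sub_codeword hc hcw hsubset hlt with hc0 | hceq'
  · rw [hc0, filter_eq_empty_of_zero]
    exact ⟨0, rfl⟩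
  · subst hceq'
    set v' : leechLattice := permCo0 σ hσ • v with hv'
    apply even_card_of_sum_mod' _ (fun k => (v' : GolayPt → ℤ) k - (w : GolayPt → ℤ) k)
    · intro k hk
      rw [Finset.mem_filter] at hk
      obtain ⟨_, hck, hne⟩ := hk
      have h1 := hv'k k
      have h2 := hwk k
      rw [if_pos hck] at h1 h2
      rcases abs_eq (by norm_num : (0 : ℤ) ≤ 2) |>.1 h1 with e1 | e1 <;>
        rcases abs_eq (by norm_num : (0 : ℤ) ≤ 2) |>.1 h2 with e2 | e2
      · exact absurd (e2.trans e1.symm) hne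
      · show ((v' : GolayPt → ℤ) k - (w : GolayPt → ℤ) k) % 8 = 4
        rw [e1, e2]; norm_num
      · show ((v' : GolayPt → ℤ) k - (w : GolayPt → ℤ) k) % 8 = 4
        rw [e1, e2]; norm_num
      · exact absurd (e2.trans e1.symm) hne
    · intro k hk
      rw [Finset.mem_filter] at hk
      push Not at hk
      have hk' := hk (Finset.mem_univ _)
      show ((v' : GolayPt → ℤ) k - (w : GolayPt → ℤ) k) % 8 = 0
      by_cases hck : c k ≠ 0
      · rw [hk' hck, sub_self]; rfl
      · have h1 := hv'k k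
        have h2 := hwk k
        rw [if_neg hck] at h1 h2
        rw [abs_eq_zero] at h1 h2
        rw [h1, h2, sub_self]; rfl
    · rw [Finset.sum_sub_distrib]
      have e1 := even_of_abs_two v'.2 hv'k
      have e2 := even_of_abs_two w.2 hwk
      omega

theorem transD2 {v w : leechLattice} (hv : IsD2 (v : GolayPt → ℤ)) (hw : IsD2 (w : GolayPt → ℤ)) :
    CoRel v w := by
  obtain ⟨cv, hcv, hcv12, hvk⟩ := hv
  obtain ⟨cw, hcw, hcw12, hwk⟩ := hw
  have hov : support₂ cv ∈ dodecads := ⟨⟨cv, hcv, rfl⟩, hcv12⟩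
  have how : support₂ cw ∈ dodecads := ⟨⟨cw, hcw, rfl⟩, hcw12⟩
  obtain ⟨σ, hσ, hmap⟩ := exists_M24_smul_dodecad hov how
  exact trans_two hcw hvk hwk hσ hmap (by omega)

theorem injective_triple {a b c : GolayPt} (hab : a ≠ b) (hac : a ≠ c) (hbc : b ≠ c) :
    Function.Injective ![a, b, c] := by
  intro i j hij
  fin_cases i <;> fin_cases j <;> simp_all

theorem transD3 {v w : leechLattice} (hv : IsD3 (v : GolayPt → ℤ)) (hw : IsD3 (w : GolayPt → ℤ)) :
    CoRel v w := by
  obtain ⟨F, hF, hvk⟩ := hv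
  obtain ⟨F', hF', hwk⟩ := hw
  obtain ⟨a, b, c, hab, hac, hbc, rfl⟩ := Finset.card_eq_three.1 hF
  obtain ⟨a', b', c', hab', hac', hbc', rfl⟩ := Finset.card_eq_three.1 hF'
  obtain ⟨σ, hσ, hmap⟩ := exists_M24_map (n := 3) (by norm_num) ![a, b, c] ![a', b', c']
    (injective_triple hab hac hbc) (injective_triple hab' hac' hbc')
  have ha : σ a = a' := hmap 0
  have hb : σ b = b' := hmap 1
  have hc : σ c = c' := hmap 2
  refine (coRel_perm σ hσ v).trans ?_
  have e : ∀ (x x' : GolayPt), σ x = x' → ∀ k, σ.symm k = x ↔ k = x' := by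
    intro x x' hx k
    rw [← hx]
    exact ⟨fun h => by rw [← h, Equiv.apply_symm_apply], fun h => by rw [h, Equiv.symm_apply_apply]⟩
  have hv'k : ∀ k, |((permCo0 σ hσ • v : leechLattice) : GolayPt → ℤ) k|
      = if k ∈ ({a', b', c'} : Finset GolayPt) then 3 else 1 := by
    intro k
    rw [permCo0_smul, hvk]
    simp only [Finset.mem_insert, Finset.mem_singleton, e a a' ha, e b b' hb, e c c' hc]
  apply sign_fix_odd
  · intro k
    rw [hv'k, hwk]
  · have := hv'k none
    split_ifs at this
    · rcases abs_eq (by norm_num : (0 : ℤ) ≤ 3) |>.1 this with e | e <;> rw [e] <;> norm_num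
    · rcases abs_eq (by norm_num : (0 : ℤ) ≤ 1) |>.1 this with e | e <;> rw [e] <;> norm_num

theorem transD5 {v w : leechLattice} (hv : IsD5 (v : GolayPt → ℤ)) (hw : IsD5 (w : GolayPt → ℤ)) :
    CoRel v w := by
  obtain ⟨i, hvk⟩ := hv
  obtain ⟨i', hwk⟩ := hw
  obtain ⟨σ, hσ, hmap⟩ := exists_M24_map (n := 1) (by norm_num) (fun _ => i) (fun _ => i')
    (Function.injective_of_subsingleton _) (Function.injective_of_subsingleton _)
  have hi : σ i = i' := hmap 0
  refine (coRel_perm σ hσ v).trans ?_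
  have e1 : ∀ k, σ.symm k = i ↔ k = i' := by
    intro k
    rw [← hi]; exact ⟨fun h => by rw [← h, Equiv.apply_symm_apply], fun h => by rw [h, Equiv.symm_apply_apply]⟩
  have hv'k : ∀ k, |((permCo0 σ hσ • v : leechLattice) : GolayPt → ℤ) k|
      = if k = i' then 5 else 1 := by
    intro k
    rw [permCo0_smul, hvk]
    simp only [e1]
  apply sign_fix_odd
  · intro k
    rw [hv'k, hwk]
  · have := hv'k none
    split_ifs at this
    · rcases abs_eq (by norm_num : (0 : ℤ) ≤ 5) |>.1 this with e | e <;> rw [e] <;> norm_num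
    · rcases abs_eq (by norm_num : (0 : ℤ) ≤ 1) |>.1 this with e | e <;> rw [e] <;> norm_num

/-! ### Fusion -/

/-- `(5, 1^23)`. -/
def u5fun : GolayPt → ℤ := fun k => if k = gPt 0 then 5 else 1

def u5 : leechLattice := ⟨u5fun, mem_of_inLeech (by decide +kernel)⟩

theorem u5_isD5 : IsD5 (u5 : GolayPt → ℤ) := by
  refine ⟨gPt 0, fun k => ?_⟩
  show |u5fun k| = _
  unfold u5fun
  split_ifs <;> norm_num

theorem sqNorm_u5 : sqNorm (u5 : GolayPt → ℤ) = 48 := by
  show sqNorm u5fun = 48
  decide +kernel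

theorem xi_u5_val : ((xiCo0 • u5 : leechLattice) : GolayPt → ℤ) (gPt 1) = -3 := by
  have h := two_mul_xiCo0_smul u5 (gPt 1)
  have h2 : xi2 (u5 : GolayPt → ℤ) (gPt 1) = -6 := by
    show xi2 u5fun (gPt 1) = -6
    decide +kernel
  omega

theorem xi_u5_isD3 : IsD3 ((xiCo0 • u5 : leechLattice) : GolayPt → ℤ) := by
  have hn : sqNorm ((xiCo0 • u5 : leechLattice) : GolayPt → ℤ) = 48 := by
    rw [Co0_sqNorm, sqNorm_u5]
  rcases shape48 (xiCo0 • u5).2 hn with h | h | h | h
  · exfalso
    obtain ⟨c, _, _, hk⟩ := h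
    have := hk (gPt 1)
    rw [xi_u5_val] at this
    split_ifs at this <;> norm_num at this
  · exact h
  · exfalso
    obtain ⟨c, _, _, p, _, hk⟩ := h
    have := hk (gPt 1)
    rw [xi_u5_val] at this
    split_ifs at this <;> norm_num at this
  · exfalso
    obtain ⟨i, hk⟩ := h
    have := hk (gPt 1)
    rw [xi_u5_val] at this
    split_ifs at this <;> norm_num at this

/-- Odd vectors of squared length 48 are all in the orbit of `u5`. -/
theorem coRel_u5_of_odd (v : leechLattice) (hv : sqNorm (v : GolayPt → ℤ) = 48)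
    (hodd : (v : GolayPt → ℤ) none % 2 = 1) : CoRel v u5 := by
  rcases shape48 v.2 hv with h | h | h | h
  · exfalso
    obtain ⟨c, _, _, hk⟩ := h
    have := hk none
    split_ifs at this
    · rcases abs_eq (by norm_num : (0 : ℤ) ≤ 2) |>.1 this with e | e <;> rw [e] at hodd <;>
        norm_num at hodd
    · rw [abs_eq_zero] at this
      rw [this] at hodd
      norm_num at hodd
  · exact (transD3 h xi_u5_isD3).trans (coRel_xi u5).symm
  · exfalso
    obtain ⟨c, _, _, p, _, hk⟩ := h
    have := hk none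
    split_ifs at this
    · rcases abs_eq (by norm_num : (0 : ℤ) ≤ 4) |>.1 this with e | e <;> rw [e] at hodd <;>
        norm_num at hodd
    · rcases abs_eq (by norm_num : (0 : ℤ) ≤ 2) |>.1 this with e | e <;> rw [e] at hodd <;>
        norm_num at hodd
    · rw [abs_eq_zero] at this
      rw [this] at hodd
      norm_num at hodd
  · exact transD5 h u5_isD5

/-- If the image under `xiCo0` is odd, the vector is in the orbit of `u5`. -/
theorem coRel_u5_of_xi_odd (v : leechLattice) (hv : sqNorm (v : GolayPt → ℤ) = 48)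
    (hodd : xi2 (v : GolayPt → ℤ) none % 4 = 2) : CoRel v u5 := by
  refine (coRel_xi v).trans (coRel_u5_of_odd _ ?_ ?_)
  · rw [Co0_sqNorm, hv]
  · have := two_mul_xiCo0_smul v none
    omega

/-- Twice a dodecad meeting the sextet in `3 + 3 + 3 + 1 + 1 + 1`. -/
def vD2 : leechLattice :=
  ⟨twoLift (W 8101915), mem_leechLattice_of_leechDesc
    (leechDesc_twoLift (W_mem_of_inC (by decide +kernel)))⟩

theorem vD2_isD2 : IsD2 (vD2 : GolayPt → ℤ) := by
  refine ⟨W 8101915, W_mem_of_inC (by decide +kernel), ?_, ?_⟩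
  · rw [card_support₂_eq, hammingNorm_W]
    decide +kernel
  · show ∀ k, |twoLift (W 8101915) k| = _
    unfold twoLift
    decide +kernel

theorem sqNorm_vD2 : sqNorm (vD2 : GolayPt → ℤ) = 48 := by
  show sqNorm (twoLift (W 8101915)) = 48
  rw [sqNorm_twoLift, card_support₂_eq, hammingNorm_W]
  decide +kernel

theorem coRel_vD2 : CoRel vD2 u5 := by
  apply coRel_u5_of_xi_odd vD2 sqNorm_vD2
  show xi2 (twoLift (W 8101915)) none % 4 = 2
  unfold twoLift
  decide +kernel

/-- `(4, -2, 2^7)` on the octad `12656663` and the point `q`. -/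
def wq (q : GolayPt) : GolayPt → ℤ := fun k =>
  if k = q then 4 else if k = gPt 0 then -2 else if W 12656663 k ≠ 0 then 2 else 0

theorem wq_ok : ∀ q, W 12656663 q = 0 →
    inLeech (wq q) = true ∧ xi2 (wq q) none % 4 = 2 ∧ sqNorm (wq q) = 48 := by
  unfold wq
  decide +kernel

theorem abs_wq (q : GolayPt) (hq : W 12656663 q = 0) (k : GolayPt) :
    |wq q k| = if k = q then 4 else if W 12656663 k ≠ 0 then 2 else 0 := by
  unfold wq
  split_ifs with h1 h2 h3 h4 h5
  · norm_num
  · norm_num
  · exfalso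
    apply h3
    rw [h2]
    decide +kernel
  · norm_num
  · norm_num

theorem transD4 (v : leechLattice) (hv : sqNorm (v : GolayPt → ℤ) = 48)
    (h : IsD4 (v : GolayPt → ℤ)) : CoRel v u5 := by
  classical
  obtain ⟨cv, hcv, hcv8, p, hcp, hvk⟩ := h
  have hW : W 12656663 ∈ golayCode := W_mem_of_inC (by decide +kernel)
  have hW8 : (support₂ (W 12656663)).card = 8 := by
    rw [card_support₂_eq, hammingNorm_W]
    decide +kernel
  have hov : support₂ cv ∈ octads := ⟨⟨cv, hcv, rfl⟩, hcv8⟩
  have how : support₂ (W 12656663) ∈ octads := ⟨⟨_, hW, rfl⟩, hW8⟩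
  obtain ⟨σ, hσ, hmap⟩ := exists_M24_smul_octad hov how
  have hq : W 12656663 (σ p) = 0 := by
    by_contra hne
    have := (smul_iff hmap (σ p)).2 hne
    rw [Equiv.symm_apply_apply] at this
    exact this hcp
  obtain ⟨hin, hxi, hwn'⟩ := wq_ok (σ p) hq
  set w : leechLattice := ⟨wq (σ p), mem_of_inLeech hin⟩ with hw
  have hwn : sqNorm (w : GolayPt → ℤ) = 48 := hwn'
  refine (coRel_perm σ hσ v).trans (CoRel.trans ?_ (coRel_u5_of_xi_odd w hwn hxi))
  have e1 : ∀ k, σ.symm k = p ↔ k = σ p := by
    intro k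
    exact ⟨fun h => by rw [← h, Equiv.apply_symm_apply], fun h => by rw [h, Equiv.symm_apply_apply]⟩
  have hv'k : ∀ k, |((permCo0 σ hσ • v : leechLattice) : GolayPt → ℤ) k|
      = if k = σ p then 4 else if W 12656663 k ≠ 0 then 2 else 0 := by
    intro k
    rw [permCo0_smul, hvk]
    simp only [e1, smul_iff hmap k]
  have hwk : ∀ k, |(w : GolayPt → ℤ) k| = if k = σ p then 4 else if W 12656663 k ≠ 0 then 2 else 0 :=
    abs_wq (σ p) hq
  have habs : ∀ k, |(w : GolayPt → ℤ) k| = |((permCo0 σ hσ • v : leechLattice) : GolayPt → ℤ) k| := by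
    intro k
    rw [hv'k, hwk]
  apply sign_fix_even habs
  intro c hc hsub
  have hsubset : support₂ c ⊆ insert (σ p) (support₂ (W 12656663)) := by
    intro k hk
    have h1 := hsub k ((mem_support₂_iff c k).1 hk)
    rw [Finset.mem_insert, mem_support₂_iff]
    by_contra hne
    push Not at hne
    apply h1
    rw [← abs_eq_zero, hv'k, if_neg hne.1, if_neg (by simpa using hne.2)]
  rcases sub_codeword_point hc hW (σ p) hsubset hW8 with hc0 | hceq'
  · rw [hc0, filter_eq_empty_of_zero]
    exact ⟨0, rfl⟩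
  · subst hceq'
    set v' : leechLattice := permCo0 σ hσ • v with hv'
    have hevv : ∀ u : leechLattice, (∀ k, |(u : GolayPt → ℤ) k|
        = if k = σ p then 4 else if W 12656663 k ≠ 0 then 2 else 0) →
        (∑ k, (u : GolayPt → ℤ) k) % 8 = 0 := by
      intro u hu
      apply sum_mod8_of_even u.2
      have := hu none
      split_ifs at this
      · rcases abs_eq (by norm_num : (0 : ℤ) ≤ 4) |>.1 this with e | e <;> rw [e] <;> norm_num
      · rcases abs_eq (by norm_num : (0 : ℤ) ≤ 2) |>.1 this with e | e <;> rw [e] <;> norm_num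
      · rw [abs_eq_zero] at this
        rw [this]; norm_num
    apply even_card_of_sum_mod' _ (fun k => (v' : GolayPt → ℤ) k - (w : GolayPt → ℤ) k)
    · intro k hk
      rw [Finset.mem_filter] at hk
      obtain ⟨_, hck, hne⟩ := hk
      have hkq : k ≠ σ p := by
        rintro rfl
        exact hck hq
      have h1 := hv'k k
      have h2 := hwk k
      rw [if_neg hkq, if_pos hck] at h1 h2
      rcases abs_eq (by norm_num : (0 : ℤ) ≤ 2) |>.1 h1 with e1 | e1 <;>
        rcases abs_eq (by norm_num : (0 : ℤ) ≤ 2) |>.1 h2 with e2 | e2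
      · exact absurd (e2.trans e1.symm) hne
      · show ((v' : GolayPt → ℤ) k - (w : GolayPt → ℤ) k) % 8 = 4
        rw [e1, e2]; norm_num
      · show ((v' : GolayPt → ℤ) k - (w : GolayPt → ℤ) k) % 8 = 4
        rw [e1, e2]; norm_num
      · exact absurd (e2.trans e1.symm) hne
    · intro k hk
      rw [Finset.mem_filter] at hk
      push Not at hk
      have hk' := hk (Finset.mem_univ _)
      show ((v' : GolayPt → ℤ) k - (w : GolayPt → ℤ) k) % 8 = 0
      by_cases hck : W 12656663 k ≠ 0
      · rw [hk' hck, sub_self]; rfl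
      · have h1 := hv'k k
        have h2 := hwk k
        rw [if_neg hck] at h1 h2
        by_cases hkq : k = σ p
        · rw [if_pos hkq] at h1 h2
          rcases abs_eq (by norm_num : (0 : ℤ) ≤ 4) |>.1 h1 with e1 | e1 <;>
            rcases abs_eq (by norm_num : (0 : ℤ) ≤ 4) |>.1 h2 with e2 | e2 <;>
            rw [e1, e2] <;> norm_num
        · rw [if_neg hkq] at h1 h2
          rw [abs_eq_zero] at h1 h2
          rw [h1, h2, sub_self]; rfl
    · rw [Finset.sum_sub_distrib]
      have e1 := hevv v' hv'k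
      have e2 := hevv w hwk
      omega

theorem coRel_u5 (v : leechLattice) (hv : sqNorm (v : GolayPt → ℤ) = 48) : CoRel v u5 := by
  rcases shape48 v.2 hv with h | h | h | h
  · exact (transD2 h vD2_isD2).trans coRel_vD2
  · exact (transD3 h xi_u5_isD3).trans (coRel_xi u5).symm
  · exact transD4 v hv h
  · exact transD5 h u5_isD5

/-- `Co0` is transitive on the vectors of squared length 48. -/
theorem co0_trans48 (v w : leechLattice) (hv : sqNorm (v : GolayPt → ℤ) = 48)
    (hw : sqNorm (w : GolayPt → ℤ) = 48) : ∃ g : Co0, g • v = w :=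
  (coRel_u5 v hv).trans (coRel_u5 w hw).symm

end Cfsg.Agent.Lib.H27
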