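import Mathlib
import Cfsg.Prelude.Def_Sporadic_a
import Cfsg.Agent.Lib.H27.Leech48Shapes

/-!
helper27 library: a coarse classification of the lattice vectors of squared length 64:
`(±8, 0^23)`, `(±4^4, 0^20)`, even vectors with a nonzero code word, `(±3^5, ±1^19)`,
`(±5, ±3^2, ±1^21)`.
-/

set_option autoImplicit false

namespace Cfsg.Agent.Lib.H27

open Cfsg Finset Cfsg.Agent.Lib.H28

/-- Decomposition of a sum of integers taking the values `0`, `a`, `b` or at least `N`. -/
theorem sum_decomp {ι : Type*} [Fintype ι] (f : ι → ℤ) (a b N : ℤ) (hab : a ≠ b)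
    (haN : a < N) (hbN : b < N) (hN : 0 < N)
    (hval : ∀ k, f k = 0 ∨ f k = a ∨ f k = b ∨ N ≤ f k) :
    ∑ k, f k = a * ((Finset.univ.filter fun k => f k = a).card : ℤ)
      + b * ((Finset.univ.filter fun k => f k = b).card : ℤ)
      + ∑ k ∈ Finset.univ.filter (fun k => N ≤ f k), f k := by
  classical
  have h1 : ∀ k, f k = (if f k = a then a else 0) + (if f k = b then b else 0)
      + (if N ≤ f k then f k else 0) := by
    intro k
    rcases hval k with h | h | h | h
    · by_cases ha : (0 : ℤ) = a
      · by_cases hb : (0 : ℤ) = b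
        · exact absurd (ha.symm.trans hb) hab
        · rw [h, if_pos ha, if_neg hb, if_neg (by omega)]; omega
      · by_cases hb : (0 : ℤ) = b
        · rw [h, if_neg ha, if_pos hb, if_neg (by omega)]; omega
        · rw [h, if_neg ha, if_neg hb, if_neg (by omega)]; omega
    · rw [h, if_pos rfl, if_neg hab, if_neg (by omega)]; omega
    · rw [h, if_neg (Ne.symm hab), if_pos rfl, if_neg (by omega)]; omega
    · rw [if_neg (by omega), if_neg (by omega), if_pos h]; omega
  have e : ∀ a : ℤ, ∑ k, (if f k = a then a else 0)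
      = a * ((Finset.univ.filter fun k => f k = a).card : ℤ) := by
    intro a
    rw [Finset.sum_ite, Finset.sum_const, Finset.sum_const_zero, add_zero, nsmul_eq_mul, mul_comm]
  conv_lhs => rw [Finset.sum_congr rfl (fun k _ => h1 k)]
  rw [Finset.sum_add_distrib, Finset.sum_add_distrib, e a, e b, ← Finset.sum_filter]

theorem big_part_cases {ι : Type*} [Fintype ι] (f : ι → ℤ) (N : ℤ) (hN : 0 ≤ N) :
    (∀ k, ¬ N ≤ f k) ∨ N ≤ ∑ k ∈ Finset.univ.filter (fun k => N ≤ f k), f k := by
  classical
  by_cases h : ∀ k, ¬ N ≤ f k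
  · exact Or.inl h
  · right
    push Not at h
    obtain ⟨i, hi⟩ := h
    have hi' : i ∈ Finset.univ.filter (fun k => N ≤ f k) := by
      rw [Finset.mem_filter]; exact ⟨Finset.mem_univ _, hi⟩
    calc N ≤ f i := hi
      _ ≤ ∑ k ∈ Finset.univ.filter (fun k => N ≤ f k), f k := by
        apply Finset.single_le_sum (f := f) _ hi'
        intro k hk
        rw [Finset.mem_filter] at hk
        omega

/-- Shape `(±8, 0^23)`. -/
def IsE8 (x : GolayPt → ℤ) : Prop := ∃ i, ∀ k, |x k| = if k = i then 8 else 0

/-- Shape `(±4^4, 0^20)`. -/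
def IsE44 (x : GolayPt → ℤ) : Prop :=
  ∃ F : Finset GolayPt, F.card = 4 ∧ ∀ k, |x k| = if k ∈ F then 4 else 0

/-- Even vectors whose code word is not zero. -/
def IsEvenC (x : GolayPt → ℤ) : Prop := ∃ c, c ≠ 0 ∧ LeechDesc x 0 c

/-- Shape `(±3^5, ±1^19)`. -/
def IsO3 (x : GolayPt → ℤ) : Prop :=
  ∃ F : Finset GolayPt, F.card = 5 ∧ ∀ k, |x k| = if k ∈ F then 3 else 1

/-- Shape `(±5, ±3^2, ±1^21)`. -/
def IsO5 (x : GolayPt → ℤ) : Prop :=
  ∃ i, ∃ F : Finset GolayPt, F.card = 2 ∧ i ∉ F ∧
    ∀ k, |x k| = if k = i then 5 else if k ∈ F then 3 else 1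

theorem shape64_odd {x : GolayPt → ℤ} (hodd : ∀ k, x k % 2 = 1) (hn : sqNorm x = 64) :
    IsO3 x ∨ IsO5 x := by
  classical
  set f : GolayPt → ℤ := fun k => x k ^ 2 - 1 with hf
  have hval : ∀ k, f k = 0 ∨ f k = 8 ∨ f k = 24 ∨ 48 ≤ f k := fun k => odd_sq_cases (hodd k)
  have hs : ∑ k, f k = 40 := by
    rw [hf, Finset.sum_sub_distrib]
    unfold sqNorm at hn
    rw [hn]
    simp
  have habs : ∀ k (n : ℤ), 0 ≤ n → f k = n ^ 2 - 1 → |x k| = n := by
    intro k n hn' h
    apply abs_eq_of_sq_eq hn'
    rw [hf] at h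
    simp only at h
    omega
  have hd := sum_decomp f 8 24 48 (by norm_num) (by norm_num) (by norm_num) (by norm_num) hval
  rw [hs] at hd
  rcases big_part_cases f 48 (by norm_num) with hbig | hbig
  · have hz : ∑ k ∈ Finset.univ.filter (fun k => 48 ≤ f k), f k = 0 := by
      apply Finset.sum_eq_zero
      intro k hk
      rw [Finset.mem_filter] at hk
      exact absurd hk.2 (hbig k)
    rw [hz] at hd
    set A := Finset.univ.filter fun k => f k = 8 with hA
    set B := Finset.univ.filter fun k => f k = 24 with hB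
    have hcases : (A.card = 5 ∧ B.card = 0) ∨ (A.card = 2 ∧ B.card = 1) := by omega
    have hother : ∀ k, k ∉ A → k ∉ B → |x k| = 1 := by
      intro k hkA hkB
      rw [hA, Finset.mem_filter] at hkA
      rw [hB, Finset.mem_filter] at hkB
      rcases hval k with h | h | h | h
      · exact habs k 1 (by norm_num) (by rw [h]; norm_num)
      · exact absurd ⟨Finset.mem_univ _, h⟩ hkA
      · exact absurd ⟨Finset.mem_univ _, h⟩ hkB
      · exact absurd h (hbig k)
    have hA3 : ∀ k, k ∈ A → |x k| = 3 := by
      intro k hk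
      rw [hA, Finset.mem_filter] at hk
      exact habs k 3 (by norm_num) (by rw [hk.2]; norm_num)
    have hB5 : ∀ k, k ∈ B → |x k| = 5 := by
      intro k hk
      rw [hB, Finset.mem_filter] at hk
      exact habs k 5 (by norm_num) (by rw [hk.2]; norm_num)
    rcases hcases with ⟨h5, h0⟩ | ⟨h2, h1⟩
    · left
      refine ⟨A, h5, fun k => ?_⟩
      rw [Finset.card_eq_zero] at h0
      split_ifs with hk
      · exact hA3 k hk
      · exact hother k hk (by rw [h0]; exact Finset.notMem_empty _)
    · right
      obtain ⟨i, hi⟩ := Finset.card_eq_one.1 h1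
      have hiB : i ∈ B := by rw [hi]; exact Finset.mem_singleton_self _
      refine ⟨i, A, h2, ?_, fun k => ?_⟩
      · intro hiA
        have e1 := hA3 i hiA
        have e2 := hB5 i hiB
        omega
      · split_ifs with hk hkA
        · rw [hk]; exact hB5 i hiB
        · exact hA3 k hkA
        · exact hother k hkA (by rw [hi, Finset.mem_singleton]; exact hk)
  · exfalso
    have h1 : (0 : ℤ) ≤ ((Finset.univ.filter fun k => f k = 8).card : ℤ) := Int.natCast_nonneg _
    have h2 : (0 : ℤ) ≤ ((Finset.univ.filter fun k => f k = 24).card : ℤ) := Int.natCast_nonneg _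
    omega

theorem shape64_four {x : GolayPt → ℤ} (h4 : ∀ k, x k % 4 = 0) (hn : sqNorm x = 64) :
    IsE8 x ∨ IsE44 x := by
  classical
  set f : GolayPt → ℤ := fun k => (x k / 4) ^ 2 with hf
  have hx : ∀ k, x k = 4 * (x k / 4) := fun k => by have := h4 k; omega
  have hs : ∑ k, f k = 4 := by
    unfold sqNorm at hn
    have : ∑ k, x k ^ 2 = 16 * ∑ k, f k := by
      rw [Finset.mul_sum]
      apply Finset.sum_congr rfl
      intro k _
      rw [hf]
      conv_lhs => rw [hx k]
      ring
    omega
  have hval : ∀ k, f k = 0 ∨ f k = 1 ∨ f k = 4 ∨ 9 ≤ f k := by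
    intro k
    rw [hf]
    simp only
    have hc : x k / 4 = 0 ∨ x k / 4 = 1 ∨ x k / 4 = -1 ∨ x k / 4 = 2 ∨ x k / 4 = -2 ∨
        3 ≤ x k / 4 ∨ x k / 4 ≤ -3 := by omega
    rcases hc with h | h | h | h | h | h | h
    · left; rw [h]; norm_num
    · right; left; rw [h]; norm_num
    · right; left; rw [h]; norm_num
    · right; right; left; rw [h]; norm_num
    · right; right; left; rw [h]; norm_num
    · right; right; right; nlinarith
    · right; right; right; nlinarith
  have habs : ∀ k (n : ℤ), 0 ≤ n → f k = n ^ 2 → |x k| = 4 * n := by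
    intro k n hn' h
    apply abs_eq_of_sq_eq (by omega)
    rw [hf] at h
    simp only at h
    rw [hx k, mul_pow, h]
    ring
  have hd := sum_decomp f 1 4 9 (by norm_num) (by norm_num) (by norm_num) (by norm_num) hval
  rw [hs] at hd
  rcases big_part_cases f 9 (by norm_num) with hbig | hbig
  · have hz : ∑ k ∈ Finset.univ.filter (fun k => 9 ≤ f k), f k = 0 := by
      apply Finset.sum_eq_zero
      intro k hk
      rw [Finset.mem_filter] at hk
      exact absurd hk.2 (hbig k)
    rw [hz] at hd
    set A := Finset.univ.filter fun k => f k = 1 with hA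
    set B := Finset.univ.filter fun k => f k = 4 with hB
    have hcases : (A.card = 4 ∧ B.card = 0) ∨ (A.card = 0 ∧ B.card = 1) := by omega
    have hother : ∀ k, k ∉ A → k ∉ B → |x k| = 0 := by
      intro k hkA hkB
      rw [hA, Finset.mem_filter] at hkA
      rw [hB, Finset.mem_filter] at hkB
      rcases hval k with h | h | h | h
      · have := habs k 0 (by norm_num) (by rw [h]; norm_num)
        simpa using this
      · exact absurd ⟨Finset.mem_univ _, h⟩ hkA
      · exact absurd ⟨Finset.mem_univ _, h⟩ hkB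
      · exact absurd h (hbig k)
    rcases hcases with ⟨h4', h0⟩ | ⟨h0, h1⟩
    · right
      refine ⟨A, h4', fun k => ?_⟩
      rw [Finset.card_eq_zero] at h0
      split_ifs with hk
      · rw [hA, Finset.mem_filter] at hk
        have := habs k 1 (by norm_num) (by rw [hk.2]; norm_num)
        simpa using this
      · exact hother k hk (by rw [h0]; exact Finset.notMem_empty _)
    · left
      obtain ⟨i, hi⟩ := Finset.card_eq_one.1 h1
      rw [Finset.card_eq_zero] at h0
      refine ⟨i, fun k => ?_⟩
      split_ifs with hk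
      · have hiB : i ∈ B := by rw [hi]; exact Finset.mem_singleton_self _
        rw [hB, Finset.mem_filter] at hiB
        rw [hk]
        have := habs i 2 (by norm_num) (by rw [hiB.2]; norm_num)
        simpa using this
      · exact hother k (by rw [h0]; exact Finset.notMem_empty _)
          (by rw [hi, Finset.mem_singleton]; exact hk)
  · exfalso
    have h1 : (0 : ℤ) ≤ ((Finset.univ.filter fun k => f k = 1).card : ℤ) := Int.natCast_nonneg _
    have h2 : (0 : ℤ) ≤ ((Finset.univ.filter fun k => f k = 4).card : ℤ) := Int.natCast_nonneg _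
    omega

/-- The vectors of squared length 64, coarsely classified. -/
theorem shape64 {x : GolayPt → ℤ} (hx : x ∈ leechLattice) (hn : sqNorm x = 64) :
    IsE8 x ∨ IsE44 x ∨ IsEvenC x ∨ IsO3 x ∨ IsO5 x := by
  obtain ⟨m, c, hm, hd⟩ := exists_leechDesc_normal hx
  rcases hm with rfl | rfl
  · by_cases hc0 : c = 0
    · have h4 : ∀ k, x k % 4 = 0 := by
        intro k
        have := hd.2.1 k
        rw [hc0] at this
        simp only [Pi.zero_apply, ZMod.val_zero, Nat.cast_zero, mul_zero, add_zero] at this
        exact this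
      rcases shape64_four h4 hn with h | h
      · exact Or.inl h
      · exact Or.inr (Or.inl h)
    · exact Or.inr (Or.inr (Or.inl ⟨c, hc0, hd⟩))
  · have hodd : ∀ k, x k % 2 = 1 := by
      intro k
      have := hd.2.1 k
      unfold Int.ModEq at this
      omega
    rcases shape64_odd hodd hn with h | h
    · exact Or.inr (Or.inr (Or.inr (Or.inl h)))
    · exact Or.inr (Or.inr (Or.inr (Or.inr h)))

end Cfsg.Agent.Lib.H27
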