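import Mathlib
import Cfsg.Prelude.Def_Sporadic_a
import Cfsg.Agent.Lib.H27.Co0Trans48
import Cfsg.Agent.Lib.H27.Leech64Shapes
import Cfsg.Agent.Lib.H27.Co0Cross

/-!
helper27 library: `Co0` is transitive on the lattice vectors of squared length 64.
-/

set_option autoImplicit false

namespace Cfsg.Agent.Lib.H27

open Cfsg Finset Cfsg.Agent.Lib.H28
open scoped Pointwise

/-- `M24` is transitive on `n`-subsets for `n ≤ 5`. -/
theorem exists_M24_finset_map {n : ℕ} (hn : n ≤ 5) (F F' : Finset GolayPt) (hF : F.card = n)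
    (hF' : F'.card = n) : ∃ σ ∈ M24, ∀ k, k ∈ F ↔ σ k ∈ F' := by
  let ex := (Finset.equivFinOfCardEq hF).symm
  let ey := (Finset.equivFinOfCardEq hF').symm
  obtain ⟨g, hg, hmap⟩ := exists_M24_map hn (fun i => (ex i : GolayPt)) (fun i => (ey i : GolayPt))
    (Subtype.val_injective.comp ex.injective) (Subtype.val_injective.comp ey.injective)
  refine ⟨g, hg, fun k => ⟨fun hk => ?_, fun hk => ?_⟩⟩
  · obtain ⟨i, hi⟩ := ex.surjective ⟨k, hk⟩
    have : (ex i : GolayPt) = k := by rw [hi]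
    rw [← this, hmap i]
    exact (ey i).2
  · obtain ⟨i, hi⟩ := ey.surjective ⟨g k, hk⟩
    have h1 : (ey i : GolayPt) = g k := by rw [hi]
    have h2 := hmap i
    rw [h1] at h2
    have : (ex i : GolayPt) = k := g.injective h2
    rw [← this]
    exact (ex i).2

/-- Vectors with the same absolute values and fewer than 8 nonzero coordinates are related. -/
theorem sign_fix_small {v w : leechLattice}
    (habs : ∀ k, |(w : GolayPt → ℤ) k| = |(v : GolayPt → ℤ) k|)
    (hsmall : (Finset.univ.filter fun k => (v : GolayPt → ℤ) k ≠ 0).card < 8) : CoRel v w := by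
  apply sign_fix_even habs
  intro c hc hsub
  have hc0 : c = 0 := by
    apply eq_zero_of_card_lt hc
    have : support₂ c ⊆ Finset.univ.filter fun k => (v : GolayPt → ℤ) k ≠ 0 := by
      intro k hk
      rw [Finset.mem_filter]
      exact ⟨Finset.mem_univ _, hsub k ((mem_support₂_iff c k).1 hk)⟩
    have := Finset.card_le_card this
    omega
  rw [hc0, filter_eq_empty_of_zero]
  exact ⟨0, rfl⟩

theorem leechDesc_perm {σ : Equiv.Perm GolayPt} (hσ : σ ∈ M24) {x : GolayPt → ℤ} {m : ℤ}
    {c : GolayPt → ZMod 2} (hd : LeechDesc x m c) : LeechDesc (fun i => x (σ i)) m (c ∘ σ) := by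
  obtain ⟨hc, h1, h2⟩ := hd
  refine ⟨comp_mem_of_mem_M24 hσ hc, fun i => h1 (σ i), ?_⟩
  rw [Equiv.sum_comp σ x]
  exact h2

theorem xi2_four_mul (y : GolayPt → ℤ) (i : GolayPt) :
    xi2 (fun k => 4 * y k) i = 4 * xi2 y i := by
  rw [xi2_apply, xi2_apply, Finset.mul_sum]
  apply Finset.sum_congr rfl
  intro j _
  ring

/-- The image under `xi2` of an even vector is congruent modulo 4 to that of twice its code word. -/
theorem xi_odd_of_desc {x : GolayPt → ℤ} {c : GolayPt → ZMod 2} (hd : LeechDesc x 0 c)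
    (h : xi2 (twoLift c) none % 4 = 2) : xi2 x none % 4 = 2 := by
  have hx : x = twoLift c + fun k => 4 * ((x k - twoLift c k) / 4) := by
    funext k
    have := hd.2.1 k
    rw [Pi.add_apply]
    unfold twoLift
    unfold Int.ModEq at this
    omega
  rw [hx, xi2_add, Pi.add_apply, xi2_four_mul]
  omega

/-! ### Transitivity of the monomial group on some shapes -/

theorem transE8 {v w : leechLattice} (hv : IsE8 (v : GolayPt → ℤ)) (hw : IsE8 (w : GolayPt → ℤ)) :
    CoRel v w := by
  classical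
  obtain ⟨i, hvk⟩ := hv
  obtain ⟨i', hwk⟩ := hw
  obtain ⟨σ, hσ, hmap⟩ := exists_M24_map (n := 1) (by norm_num) (fun _ => i) (fun _ => i')
    (Function.injective_of_subsingleton _) (Function.injective_of_subsingleton _)
  have hi : σ i = i' := hmap 0
  refine (coRel_perm σ hσ v).trans ?_
  have e1 : ∀ k, σ.symm k = i ↔ k = i' := by
    intro k
    rw [← hi]; exact ⟨fun h => by rw [← h, Equiv.apply_symm_apply], fun h => by rw [h, Equiv.symm_apply_apply]⟩
  have hv'k : ∀ k, |((permCo0 σ hσ • v : leechLattice) : GolayPt → ℤ) k|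
      = if k = i' then 8 else 0 := by
    intro k
    rw [permCo0_smul, hvk]
    simp only [e1]
  apply sign_fix_small
  · intro k
    rw [hv'k, hwk]
  · have : (Finset.univ.filter fun k => ((permCo0 σ hσ • v : leechLattice) : GolayPt → ℤ) k ≠ 0)
        ⊆ {i'} := by
      intro k hk
      rw [Finset.mem_filter] at hk
      rw [Finset.mem_singleton]
      by_contra hne
      apply hk.2
      rw [← abs_eq_zero, hv'k, if_neg hne]
    have := Finset.card_le_card this
    rw [Finset.card_singleton] at this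
    omega

theorem transE44 {v w : leechLattice} (hv : IsE44 (v : GolayPt → ℤ))
    (hw : IsE44 (w : GolayPt → ℤ)) : CoRel v w := by
  classical
  obtain ⟨F, hF, hvk⟩ := hv
  obtain ⟨F', hF', hwk⟩ := hw
  obtain ⟨σ, hσ, hmap⟩ := exists_M24_finset_map (n := 4) (by norm_num) F F' hF hF'
  refine (coRel_perm σ hσ v).trans ?_
  have e1 : ∀ k, σ.symm k ∈ F ↔ k ∈ F' := by
    intro k
    rw [hmap, Equiv.apply_symm_apply]
  have hv'k : ∀ k, |((permCo0 σ hσ • v : leechLattice) : GolayPt → ℤ) k|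
      = if k ∈ F' then 4 else 0 := by
    intro k
    rw [permCo0_smul, hvk]
    simp only [e1]
  apply sign_fix_small
  · intro k
    rw [hv'k, hwk]
  · have : (Finset.univ.filter fun k => ((permCo0 σ hσ • v : leechLattice) : GolayPt → ℤ) k ≠ 0)
        ⊆ F' := by
      intro k hk
      rw [Finset.mem_filter] at hk
      by_contra hne
      apply hk.2
      rw [← abs_eq_zero, hv'k, if_neg hne]
    have := Finset.card_le_card this
    omega

theorem transO3 {v w : leechLattice} (hv : IsO3 (v : GolayPt → ℤ)) (hw : IsO3 (w : GolayPt → ℤ)) :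
    CoRel v w := by
  obtain ⟨F, hF, hvk⟩ := hv
  obtain ⟨F', hF', hwk⟩ := hw
  obtain ⟨σ, hσ, hmap⟩ := exists_M24_finset_map (n := 5) (by norm_num) F F' hF hF'
  refine (coRel_perm σ hσ v).trans ?_
  have e1 : ∀ k, σ.symm k ∈ F ↔ k ∈ F' := by
    intro k
    rw [hmap, Equiv.apply_symm_apply]
  have hv'k : ∀ k, |((permCo0 σ hσ • v : leechLattice) : GolayPt → ℤ) k|
      = if k ∈ F' then 3 else 1 := by
    intro k
    rw [permCo0_smul, hvk]
    simp only [e1]
  apply sign_fix_odd
  · intro k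
    rw [hv'k, hwk]
  · have := hv'k none
    split_ifs at this
    · rcases abs_eq (by norm_num : (0 : ℤ) ≤ 3) |>.1 this with e | e <;> rw [e] <;> norm_num
    · rcases abs_eq (by norm_num : (0 : ℤ) ≤ 1) |>.1 this with e | e <;> rw [e] <;> norm_num

theorem transO5 {v w : leechLattice} (hv : IsO5 (v : GolayPt → ℤ)) (hw : IsO5 (w : GolayPt → ℤ)) :
    CoRel v w := by
  obtain ⟨i, F, hF, hiF, hvk⟩ := hv
  obtain ⟨i', F', hF', hiF', hwk⟩ := hw
  obtain ⟨a, b, hab, rfl⟩ := Finset.card_eq_two.1 hF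
  obtain ⟨a', b', hab', rfl⟩ := Finset.card_eq_two.1 hF'
  rw [Finset.mem_insert, Finset.mem_singleton] at hiF hiF'
  push Not at hiF hiF'
  obtain ⟨σ, hσ, hmap⟩ := exists_M24_map (n := 3) (by norm_num) ![i, a, b] ![i', a', b']
    (injective_triple hiF.1 hiF.2 hab) (injective_triple hiF'.1 hiF'.2 hab')
  have hi : σ i = i' := hmap 0
  have ha : σ a = a' := hmap 1
  have hb : σ b = b' := hmap 2
  refine (coRel_perm σ hσ v).trans ?_
  have e : ∀ (x x' : GolayPt), σ x = x' → ∀ k, σ.symm k = x ↔ k = x' := by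
    intro x x' hx k
    rw [← hx]
    exact ⟨fun h => by rw [← h, Equiv.apply_symm_apply], fun h => by rw [h, Equiv.symm_apply_apply]⟩
  have hv'k : ∀ k, |((permCo0 σ hσ • v : leechLattice) : GolayPt → ℤ) k|
      = if k = i' then 5 else if k ∈ ({a', b'} : Finset GolayPt) then 3 else 1 := by
    intro k
    rw [permCo0_smul, hvk]
    simp only [Finset.mem_insert, Finset.mem_singleton, e i i' hi, e a a' ha, e b b' hb]
  apply sign_fix_odd
  · intro k
    rw [hv'k, hwk]
  · have := hv'k none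
    split_ifs at this
    · rcases abs_eq (by norm_num : (0 : ℤ) ≤ 5) |>.1 this with e | e <;> rw [e] <;> norm_num
    · rcases abs_eq (by norm_num : (0 : ℤ) ≤ 3) |>.1 this with e | e <;> rw [e] <;> norm_num
    · rcases abs_eq (by norm_num : (0 : ℤ) ≤ 1) |>.1 this with e | e <;> rw [e] <;> norm_num

/-! ### The odd vectors -/

/-- An odd vector of shape `(5, 3^2, 1^21)`. -/
def u64fun : GolayPt → ℤ := fun p =>
  ([3, 3, -1, -1, 1, 5, 1, 1, 1, 1, 1, 1, 1, -1, 1, 1, 1, 1, -1, 1, -1, -1, 1, 1] : List ℤ).getD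
    (gIdx p) 0

def u64 : leechLattice := ⟨u64fun, mem_of_inLeech (by decide +kernel)⟩

theorem sqNorm_u64 : sqNorm (u64 : GolayPt → ℤ) = 64 := by
  show sqNorm u64fun = 64
  decide +kernel

theorem u64_isO5 : IsO5 (u64 : GolayPt → ℤ) := by
  refine ⟨gPt 5, {gPt 0, gPt 1}, by decide, by decide, ?_⟩
  show ∀ k, |u64fun k| = _
  decide +kernel

theorem xi2_u64_abs : ∀ k, |xi2 u64fun k|
    = if k ∈ ({gPt 2, gPt 3, gPt 14, gPt 17, gPt 23} : Finset GolayPt) then 6 else 2 := by
  decide +kernel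

theorem xi_u64_isO3 : IsO3 ((xiCo0 • u64 : leechLattice) : GolayPt → ℤ) := by
  refine ⟨{gPt 2, gPt 3, gPt 14, gPt 17, gPt 23}, by decide, fun k => ?_⟩
  have h1 := two_mul_xiCo0_smul u64 k
  have h2 := xi2_u64_abs k
  change |xi2 (u64 : GolayPt → ℤ) k| = _ at h2
  rw [← h1, abs_mul] at h2
  have h3 : |(2 : ℤ)| = 2 := by norm_num
  rw [h3] at h2
  split_ifs at h2 ⊢ <;> omega

theorem coRel_u64_of_odd (v : leechLattice) (hv : sqNorm (v : GolayPt → ℤ) = 64)
    (hodd : (v : GolayPt → ℤ) none % 2 = 1) : CoRel v u64 := by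
  rcases shape64 v.2 hv with h | h | h | h | h
  · exfalso
    obtain ⟨i, hk⟩ := h
    have := hk none
    split_ifs at this
    · rcases abs_eq (by norm_num : (0 : ℤ) ≤ 8) |>.1 this with e | e <;> rw [e] at hodd <;>
        norm_num at hodd
    · rw [abs_eq_zero] at this
      rw [this] at hodd
      norm_num at hodd
  · exfalso
    obtain ⟨F, _, hk⟩ := h
    have := hk none
    split_ifs at this
    · rcases abs_eq (by norm_num : (0 : ℤ) ≤ 4) |>.1 this with e | e <;> rw [e] at hodd <;>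
        norm_num at hodd
    · rw [abs_eq_zero] at this
      rw [this] at hodd
      norm_num at hodd
  · exfalso
    obtain ⟨c, _, hd⟩ := h
    have := hd.2.1 none
    unfold Int.ModEq at this
    omega
  · exact (transO3 h xi_u64_isO3).trans (coRel_xi u64).symm
  · exact transO5 h u64_isO5

/-- If the image under `xiCo0` is odd, the vector is in the orbit of `u64`. -/
theorem coRel_u64_of_xi_odd (v : leechLattice) (hv : sqNorm (v : GolayPt → ℤ) = 64)
    (hodd : xi2 (v : GolayPt → ℤ) none % 4 = 2) : CoRel v u64 := by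
  refine (coRel_xi v).trans (coRel_u64_of_odd _ ?_ ?_)
  · rw [Co0_sqNorm, hv]
  · have := two_mul_xiCo0_smul v none
    omega

/-! ### Even vectors with a nonzero code word -/

theorem support₂_add_one (c : GolayPt → ZMod 2) : support₂ (c + 1) = (support₂ c)ᶜ := by
  ext k
  rw [Finset.mem_compl, mem_support₂_iff, mem_support₂_iff, Pi.add_apply, Pi.one_apply]
  have : ∀ b : ZMod 2, b + 1 ≠ 0 ↔ ¬ b ≠ 0 := by decide
  exact this _

theorem xi_std_vals : xi2 (twoLift (W 12656663)) none % 4 = 2 ∧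
    xi2 (twoLift (W 12656663 + 1)) none % 4 = 2 ∧ xi2 (twoLift (W 8101915)) none % 4 = 2 := by
  unfold twoLift
  decide +kernel

theorem coRel_u64_of_evenC (v : leechLattice) (hv : sqNorm (v : GolayPt → ℤ) = 64)
    (h : IsEvenC (v : GolayPt → ℤ)) : CoRel v u64 := by
  classical
  obtain ⟨c, hc0, hd⟩ := h
  have hc := hd.1
  -- the weight of `c` is 8, 12 or 16
  have h0 : ∀ k, 0 ≤ (v : GolayPt → ℤ) k ^ 2 - 4 * ((c k).val : ℤ) := by
    intro k
    have := hd.2.1 k
    rcases zmod2_cases (c k) with ⟨_, e⟩ | ⟨_, e⟩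
    · rw [e]; have := sq_nonneg ((v : GolayPt → ℤ) k); omega
    · rw [e] at this ⊢
      unfold Int.ModEq at this
      have hc2 : 2 ≤ (v : GolayPt → ℤ) k ∨ (v : GolayPt → ℤ) k ≤ -2 := by omega
      rcases hc2 with h | h <;> nlinarith
  have hs : ∑ k, ((v : GolayPt → ℤ) k ^ 2 - 4 * ((c k).val : ℤ))
      = 64 - 4 * ((support₂ c).card : ℤ) := by
    rw [Finset.sum_sub_distrib, ← Finset.mul_sum, sum_val_eq_card]
    unfold sqNorm at hv
    rw [hv]
  have hsum0 := Finset.sum_nonneg (fun k (_ : k ∈ Finset.univ) => h0 k)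
  rw [hs] at hsum0
  have hw := golayCode_weight hc
  rw [← card_support₂_eq] at hw
  have h8 := golay_min_weight c hc hc0
  have hW : W 12656663 ∈ golayCode := W_mem_of_inC (by decide +kernel)
  have hW8 : (support₂ (W 12656663)).card = 8 := by
    rw [card_support₂_eq, hammingNorm_W]
    decide +kernel
  have hD : W 8101915 ∈ golayCode := W_mem_of_inC (by decide +kernel)
  have hD12 : (support₂ (W 8101915)).card = 12 := by
    rw [card_support₂_eq, hammingNorm_W]
    decide +kernel
  -- a permutation bringing the code word into standard position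
  have key : ∃ σ ∈ M24, ∃ c' : GolayPt → ZMod 2, c ∘ σ.symm = c' ∧
      xi2 (twoLift c') none % 4 = 2 := by
    have hcard : (support₂ c).card = 8 ∨ (support₂ c).card = 12 ∨ (support₂ c).card = 16 := by
      omega
    rcases hcard with h | h | h
    · obtain ⟨σ, hσ, hmap⟩ := exists_M24_smul_octad (o := support₂ c) (o' := support₂ (W 12656663))
        ⟨⟨c, hc, rfl⟩, h⟩ ⟨⟨_, hW, rfl⟩, hW8⟩
      refine ⟨σ, hσ, W 12656663, ?_, xi_std_vals.1⟩
      apply support₂_injective
      rw [← smul_support₂, hmap]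
    · obtain ⟨σ, hσ, hmap⟩ := exists_M24_smul_dodecad (d := support₂ c) (d' := support₂ (W 8101915))
        ⟨⟨c, hc, rfl⟩, h⟩ ⟨⟨_, hD, rfl⟩, hD12⟩
      refine ⟨σ, hσ, W 8101915, ?_, xi_std_vals.2.2⟩
      apply support₂_injective
      rw [← smul_support₂, hmap]
    · have hc1 : c + 1 ∈ golayCode := golayCode.add_mem hc one_mem_golayCode
      have h8' : (support₂ (c + 1)).card = 8 := by
        rw [support₂_add_one, Finset.card_compl, h]
        rfl
      obtain ⟨σ, hσ, hmap⟩ := exists_M24_smul_octad (o := support₂ (c + 1))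
        (o' := support₂ (W 12656663)) ⟨⟨_, hc1, rfl⟩, h8'⟩ ⟨⟨_, hW, rfl⟩, hW8⟩
      refine ⟨σ, hσ, W 12656663 + 1, ?_, xi_std_vals.2.1⟩
      have e1 : (c + 1) ∘ σ.symm = W 12656663 := by
        apply support₂_injective
        rw [← smul_support₂, hmap]
      have e2 : (c + 1) ∘ σ.symm = c ∘ σ.symm + 1 := rfl
      rw [e2] at e1
      rw [← e1, add_assoc, add_self', add_zero]
  obtain ⟨σ, hσ, c', hcc', hxi⟩ := key
  refine (coRel_perm σ hσ v).trans (coRel_u64_of_xi_odd _ ?_ ?_)
  · rw [Co0_sqNorm, hv]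
  · apply xi_odd_of_desc (c := c') _ hxi
    have := leechDesc_perm (M24.inv_mem hσ) hd
    rw [← hcc']
    have e : ((permCo0 σ hσ • v : leechLattice) : GolayPt → ℤ)
        = fun i => (v : GolayPt → ℤ) (σ⁻¹ i) := by
      funext k
      rw [permCo0_smul]
      rfl
    rw [e]
    exact this

/-! ### The vectors with zero code word -/

/-- `(4, 4, 4, 0 | 4, 0, 0, 0 | 0 …)`. -/
def x44fun : GolayPt → ℤ := fun p =>
  if p ∈ ({gPt 0, gPt 1, gPt 2, gPt 13} : Finset GolayPt) then 4 else 0

def x44 : leechLattice := ⟨x44fun, mem_of_inLeech (by decide +kernel)⟩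

theorem x44_isE44 : IsE44 (x44 : GolayPt → ℤ) := by
  refine ⟨{gPt 0, gPt 1, gPt 2, gPt 13}, by decide, fun k => ?_⟩
  show |x44fun k| = _
  unfold x44fun
  split_ifs <;> norm_num

theorem sqNorm_x44 : sqNorm (x44 : GolayPt → ℤ) = 64 := by
  show sqNorm x44fun = 64
  decide +kernel

theorem xi_x44_val : ((xiCo0 • x44 : leechLattice) : GolayPt → ℤ) (gPt 0) = -2 := by
  have h := two_mul_xiCo0_smul x44 (gPt 0)
  have h2 : xi2 (x44 : GolayPt → ℤ) (gPt 0) = -4 := by
    show xi2 x44fun (gPt 0) = -4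
    decide +kernel
  omega

theorem coRel_u64_of_E44 (v : leechLattice) (h : IsE44 (v : GolayPt → ℤ)) : CoRel v u64 := by
  refine (transE44 h x44_isE44).trans ((coRel_xi x44).trans ?_)
  have hn : sqNorm ((xiCo0 • x44 : leechLattice) : GolayPt → ℤ) = 64 := by
    rw [Co0_sqNorm, sqNorm_x44]
  apply coRel_u64_of_evenC _ hn
  rcases shape64 (xiCo0 • x44).2 hn with h | h | h | h | h
  · exfalso
    obtain ⟨i, hk⟩ := h
    have := hk (gPt 0)
    rw [xi_x44_val] at this
    split_ifs at this <;> norm_num at this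
  · exfalso
    obtain ⟨F, _, hk⟩ := h
    have := hk (gPt 0)
    rw [xi_x44_val] at this
    split_ifs at this <;> norm_num at this
  · exact h
  · exfalso
    obtain ⟨F, _, hk⟩ := h
    have := hk (gPt 0)
    rw [xi_x44_val] at this
    split_ifs at this <;> norm_num at this
  · exfalso
    obtain ⟨i, F, _, _, hk⟩ := h
    have := hk (gPt 0)
    rw [xi_x44_val] at this
    split_ifs at this <;> norm_num at this

theorem u8_isE8 (i : GolayPt) : IsE8 ((u8 i : leechLattice) : GolayPt → ℤ) := by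
  refine ⟨i, fun k => ?_⟩
  show |(Pi.single i 8 : GolayPt → ℤ) k| = _
  rw [Pi.single_apply]
  split_ifs <;> norm_num

theorem sqNorm_u8 (i : GolayPt) : sqNorm ((u8 i : leechLattice) : GolayPt → ℤ) = 64 := by
  show sqNorm (Pi.single i 8 : GolayPt → ℤ) = 64
  rw [sqNorm_single]
  norm_num

theorem xi_u8_val : ((xiCo0 • u8 (gPt 0) : leechLattice) : GolayPt → ℤ) (gPt 0) = 4 := by
  have h := two_mul_xiCo0_smul (u8 (gPt 0)) (gPt 0)
  have h2 : xi2 ((u8 (gPt 0) : leechLattice) : GolayPt → ℤ) (gPt 0) = 8 := by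
    show xi2 (Pi.single (gPt 0) 8) (gPt 0) = 8
    decide +kernel
  omega

theorem coRel_u64_of_E8 (v : leechLattice) (h : IsE8 (v : GolayPt → ℤ)) : CoRel v u64 := by
  refine (transE8 h (u8_isE8 (gPt 0))).trans ((coRel_xi (u8 (gPt 0))).trans ?_)
  have hn : sqNorm ((xiCo0 • u8 (gPt 0) : leechLattice) : GolayPt → ℤ) = 64 := by
    rw [Co0_sqNorm, sqNorm_u8]
  rcases shape64 (xiCo0 • u8 (gPt 0)).2 hn with h | h | h | h | h
  · exfalso
    obtain ⟨i, hk⟩ := h
    have := hk (gPt 0)
    rw [xi_u8_val] at this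
    split_ifs at this <;> norm_num at this
  · exact coRel_u64_of_E44 _ h
  · exact coRel_u64_of_evenC _ hn h
  · exfalso
    obtain ⟨F, _, hk⟩ := h
    have := hk (gPt 0)
    rw [xi_u8_val] at this
    split_ifs at this <;> norm_num at this
  · exfalso
    obtain ⟨i, F, _, _, hk⟩ := h
    have := hk (gPt 0)
    rw [xi_u8_val] at this
    split_ifs at this <;> norm_num at this

theorem coRel_u64 (v : leechLattice) (hv : sqNorm (v : GolayPt → ℤ) = 64) : CoRel v u64 := by
  rcases shape64 v.2 hv with h | h | h | h | h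
  · exact coRel_u64_of_E8 v h
  · exact coRel_u64_of_E44 v h
  · exact coRel_u64_of_evenC v hv h
  · exact (transO3 h xi_u64_isO3).trans (coRel_xi u64).symm
  · exact transO5 h u64_isO5

/-- `Co0` is transitive on the vectors of squared length 64. -/
theorem co0_trans64 (v w : leechLattice) (hv : sqNorm (v : GolayPt → ℤ) = 64)
    (hw : sqNorm (w : GolayPt → ℤ) = 64) : ∃ g : Co0, g • v = w :=
  (coRel_u64 v hv).trans (coRel_u64 w hw).symm

end Cfsg.Agent.Lib.H27
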