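import Mathlib
import Cfsg.Agent.Lib.H27.Leech

/-!
helper27 library: squared lengths of vectors of `Cfsg.leechLattice` are divisible by 16
(given that the code is doubly even).
-/

set_option autoImplicit false

namespace Cfsg.Agent.Lib.H27

open Cfsg Finset

theorem sq_even_coord (a v : ℤ) (hv : v = 0 ∨ v = 1) (h : a ≡ 0 + 2 * v [ZMOD 4]) :
    (16 : ℤ) ∣ a ^ 2 - 4 * v := by
  obtain ⟨t, ht⟩ : ∃ t, a = 2 * v + 4 * t := by
    refine ⟨(a - 2 * v) / 4, ?_⟩
    unfold Int.ModEq at h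
    omega
  rcases hv with rfl | rfl
  · refine ⟨t ^ 2, ?_⟩
    rw [ht]; ring
  · refine ⟨t ^ 2 + t, ?_⟩
    rw [ht]; ring

theorem sq_odd_coord (a v : ℤ) (hv : v = 0 ∨ v = 1) (h : a ≡ 1 + 2 * v [ZMOD 4]) :
    (16 : ℤ) ∣ a ^ 2 - (2 * a + 4 * v - 1) := by
  obtain ⟨t, ht⟩ : ∃ t, a = 1 + 2 * v + 4 * t := by
    refine ⟨(a - 1 - 2 * v) / 4, ?_⟩
    unfold Int.ModEq at h
    omega
  rcases hv with rfl | rfl
  · refine ⟨t ^ 2, ?_⟩
    rw [ht]; ring
  · refine ⟨t ^ 2 + t, ?_⟩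
    rw [ht]; ring

theorem val_zero_or_one (a : ZMod 2) : ((a.val : ℕ) : ℤ) = 0 ∨ ((a.val : ℕ) : ℤ) = 1 := by
  revert a; decide

/-- Squared lengths of lattice vectors are divisible by 16, given that the code is doubly even. -/
theorem sixteen_dvd_sqNorm (hde : ∀ c ∈ golayCode, 4 ∣ (support₂ c).card)
    {x : GolayPt → ℤ} (hx : x ∈ leechLattice) : (16 : ℤ) ∣ sqNorm x := by
  obtain ⟨m, c, hm, hc, h1, h2⟩ := exists_leechDesc_normal hx
  obtain ⟨t, ht⟩ := hde c hc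
  have hwt : ∑ i, ((c i).val : ℤ) = 4 * (t : ℤ) := by
    rw [sum_val_eq_card, ht]; push_cast; ring
  rcases hm with rfl | rfl
  · have key : (16 : ℤ) ∣ sqNorm x - 4 * ∑ i, ((c i).val : ℤ) := by
      unfold sqNorm
      rw [mul_sum, ← sum_sub_distrib]
      apply dvd_sum
      intro i _
      exact sq_even_coord _ _ (val_zero_or_one _) (h1 i)
    rw [hwt] at key
    have : sqNorm x = (sqNorm x - 4 * (4 * (t : ℤ))) + 16 * t := by ring
    rw [this]
    exact dvd_add key (Dvd.intro _ rfl)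
  · have key : (16 : ℤ) ∣ sqNorm x - ∑ i, (2 * x i + 4 * ((c i).val : ℤ) - 1) := by
      unfold sqNorm
      rw [← sum_sub_distrib]
      apply dvd_sum
      intro i _
      exact sq_odd_coord _ _ (val_zero_or_one _) (h1 i)
    rw [sum_sub_distrib, sum_add_distrib, ← mul_sum, ← mul_sum, hwt, sum_const, card_univ,
      card_golayPt] at key
    obtain ⟨s, hs⟩ : ∃ s, ∑ i, x i = 4 + 8 * s := by
      refine ⟨(∑ i, x i - 4) / 8, ?_⟩
      unfold Int.ModEq at h2
      omega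
    rw [hs] at key
    simp only [nsmul_eq_mul, Nat.cast_ofNat, mul_one] at key
    have : sqNorm x = (sqNorm x - (2 * (4 + 8 * s) + 4 * (4 * (t : ℤ)) - 24)) + 16 * (s + t - 1) := by
      ring
    rw [this]
    exact dvd_add key (Dvd.intro _ rfl)

end Cfsg.Agent.Lib.H27
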