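import Mathlib
import Cfsg.Agent.Lib.H27.Leech2

/-!
helper27 library: the index of `Cfsg.leechLattice` in `ℤ^24` is `2^48 / |golayCode|`.
-/

set_option autoImplicit false

namespace Cfsg.Agent.Lib.H27

open Cfsg Finset

/-- nonzero residues mod 23 -/
abbrev NZ : Type := {k : ZMod 23 // k ≠ 0}

/-- The target group of order `2^48`. -/
abbrev T4 : Type := ZMod 2 × (NZ → ZMod 4) × ZMod 8

/-- `x ↦ (x_∞ mod 2; (x_k - x_∞ mod 4)_{k ≠ 0}; ∑ x mod 8)`. -/
def Theta4 : (GolayPt → ℤ) →+ T4 where
  toFun x := ((x none : ZMod 2), (fun k => ((x (some k.1) - x none : ℤ) : ZMod 4)),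
    ((∑ i, x i : ℤ) : ZMod 8))
  map_zero' := by
    ext <;> simp
  map_add' x y := by
    ext
    · simp
    · simp only [Pi.add_apply, Prod.snd_add, Prod.fst_add]
      push_cast; ring
    · simp only [Pi.add_apply, Prod.snd_add, sum_add_distrib]
      push_cast; ring

theorem card_NZ : Nat.card NZ = 22 := by
  rw [Nat.card_eq_fintype_card]; decide

theorem card_T4 : Nat.card T4 = 2 ^ 48 := by
  rw [Nat.card_prod, Nat.card_prod, Nat.card_fun, card_NZ, Nat.card_zmod, Nat.card_zmod,
    Nat.card_zmod]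
  norm_num

theorem sum_golayPt (x : GolayPt → ℤ) :
    ∑ i, x i = x none + x (some 0) + ∑ k : NZ, x (some k.1) := by
  rw [Fintype.sum_option, add_assoc]
  congr 1

theorem Theta4_surjective : Function.Surjective Theta4 := by
  rintro ⟨a, d, s⟩
  let x : GolayPt → ℤ := fun i =>
    match i with
    | none => (a.val : ℤ)
    | some k => if h : k = 0 then
        (s.val : ℤ) - 23 * (a.val : ℤ) - ∑ j : NZ, ((d j).val : ℤ)
      else (a.val : ℤ) + ((d ⟨k, h⟩).val : ℤ)
  refine ⟨x, ?_⟩
  have hxn : x none = (a.val : ℤ) := rfl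
  have hx0 : x (some 0) = (s.val : ℤ) - 23 * (a.val : ℤ) - ∑ j : NZ, ((d j).val : ℤ) := by
    simp [x]
  have hxk : ∀ k : NZ, x (some k.1) = (a.val : ℤ) + ((d k).val : ℤ) := by
    intro k
    simp [x, k.2]
  ext
  · simp only [Theta4, AddMonoidHom.coe_mk, ZeroHom.coe_mk, hxn]
    simp
  · rename_i k
    simp only [Theta4, AddMonoidHom.coe_mk, ZeroHom.coe_mk, hxn, hxk]
    simp
  · simp only [Theta4, AddMonoidHom.coe_mk, ZeroHom.coe_mk]
    rw [sum_golayPt, hxn, hx0, sum_congr rfl (fun k _ => hxk k), sum_add_distrib, sum_const,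
      card_univ]
    have : Fintype.card NZ = 22 := by decide
    rw [this]
    have e : (a.val : ℤ) + ((s.val : ℤ) - 23 * (a.val : ℤ) - ∑ j : NZ, ((d j).val : ℤ)) +
        (22 • (a.val : ℤ) + ∑ j : NZ, ((d j).val : ℤ)) = (s.val : ℤ) := by
      simp only [nsmul_eq_mul, Nat.cast_ofNat]; ring
    rw [e]
    simp

theorem index_ker_Theta4 : Theta4.ker.index = 2 ^ 48 := by
  rw [AddSubgroup.index_ker, AddMonoidHom.range_eq_top.mpr Theta4_surjective]
  rw [Nat.card_congr (AddSubgroup.topEquiv (G := T4)).toEquiv, card_T4]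

theorem zmod_cast_eq_zero_iff (n : ℕ) (a : ℤ) : ((a : ℤ) : ZMod n) = 0 ↔ a % n = 0 := by
  rw [ZMod.intCast_zmod_eq_zero_iff_dvd]
  exact Int.dvd_iff_emod_eq_zero

theorem mem_ker_Theta4_iff (x : GolayPt → ℤ) :
    x ∈ Theta4.ker ↔ x none % 2 = 0 ∧ (∀ k : NZ, (x (some k.1) - x none) % 4 = 0) ∧
      (∑ i, x i) % 8 = 0 := by
  rw [AddMonoidHom.mem_ker]
  simp only [Theta4, AddMonoidHom.coe_mk, ZeroHom.coe_mk, Prod.mk_eq_zero]
  rw [zmod_cast_eq_zero_iff 2, zmod_cast_eq_zero_iff 8]
  constructor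
  · rintro ⟨h1, h2, h3⟩
    refine ⟨by exact_mod_cast h1, fun k => ?_, by exact_mod_cast h3⟩
    have := congrFun h2 k
    simp only [Pi.zero_apply] at this
    rw [zmod_cast_eq_zero_iff 4] at this
    exact_mod_cast this
  · rintro ⟨h1, h2, h3⟩
    refine ⟨by exact_mod_cast h1, ?_, by exact_mod_cast h3⟩
    funext k
    simp only [Pi.zero_apply]
    rw [zmod_cast_eq_zero_iff 4]
    exact_mod_cast h2 k

theorem leechA_eq_ker : leechA = Theta4.ker := by
  ext x
  rw [mem_ker_Theta4_iff]
  constructor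
  · intro hx
    obtain ⟨hxL, hxK⟩ := AddSubgroup.mem_inf.mp hx
    rw [AddMonoidHom.mem_ker] at hxK
    have hnone : (2 * x none) % 4 = 0 := by
      have := congrFun hxK none
      simp only [Theta, AddMonoidHom.coe_mk, ZeroHom.coe_mk, if_true, Pi.zero_apply] at this
      have h2 : ((2 * x none : ℤ) : ZMod 4) = 0 := by push_cast; exact this
      exact (zmod_cast_eq_zero_iff 4 _).mp h2
    have hdiff : ∀ i, i ≠ none → (x i - x none) % 4 = 0 := by
      intro i hi
      have := congrFun hxK i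
      simp only [Theta, AddMonoidHom.coe_mk, ZeroHom.coe_mk, if_neg hi, Pi.zero_apply] at this
      exact (zmod_cast_eq_zero_iff 4 _).mp this
    obtain ⟨m, c, hc, h1, h2⟩ := exists_leechDesc hxL
    refine ⟨by omega, fun k => hdiff _ (by simp), ?_⟩
    have hn := h1 none
    have hcv : (c none).val < 2 := ZMod.val_lt _
    unfold Int.ModEq at *
    omega
  · rintro ⟨h1, h2, h3⟩
    -- the remaining coordinate
    have hsum := sum_golayPt x
    have hdvd : (4 : ℤ) ∣ ∑ k : NZ, (x (some k.1) - x none) :=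
      dvd_sum (fun k _ => Int.dvd_of_emod_eq_zero (h2 k))
    rw [sum_sub_distrib, sum_const, card_univ] at hdvd
    have hc22 : Fintype.card NZ = 22 := by decide
    rw [hc22] at hdvd
    simp only [nsmul_eq_mul, Nat.cast_ofNat] at hdvd
    obtain ⟨q, hq⟩ := hdvd
    have h0 : (x (some 0) - x none) % 4 = 0 := by omega
    have hall : ∀ i, (x i - x none) % 4 = 0 := by
      intro i
      match i with
      | none => simp
      | some k =>
        by_cases hk : k = 0
        · rw [hk]; exact h0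
        · exact h2 ⟨k, hk⟩
    have hdesc : LeechDesc x (x none) 0 := by
      refine ⟨golayCode.zero_mem, fun i => ?_, ?_⟩
      · have := hall i
        simp only [Pi.zero_apply, ZMod.val_zero, Nat.cast_zero, mul_zero, add_zero]
        unfold Int.ModEq
        omega
      · unfold Int.ModEq
        omega
    refine AddSubgroup.mem_inf.mpr ⟨mem_leechLattice_of_leechDesc hdesc, ?_⟩
    rw [AddMonoidHom.mem_ker]
    funext i
    by_cases hi : i = none
    · subst hi
      simp only [Theta, AddMonoidHom.coe_mk, ZeroHom.coe_mk, if_true, Pi.zero_apply]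
      have : ((2 * x none : ℤ) : ZMod 4) = 0 := by
        rw [zmod_cast_eq_zero_iff 4]; omega
      push_cast at this; exact this
    · simp only [Theta, AddMonoidHom.coe_mk, ZeroHom.coe_mk, if_neg hi, Pi.zero_apply]
      rw [zmod_cast_eq_zero_iff 4]
      exact hall i

/-- `|golayCode| * [ℤ^24 : Λ] = 2^48`. -/
theorem card_mul_index_leech (hde : ∀ c ∈ golayCode, 4 ∣ (support₂ c).card) :
    Nat.card golayCode * leechLattice.index = 2 ^ 48 := by
  rw [← relIndex_leechA hde, AddSubgroup.relIndex_mul_index leechA_le, leechA_eq_ker,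
    index_ker_Theta4]

end Cfsg.Agent.Lib.H27
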