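import Mathlib
import Cfsg.Prelude.Def_Sporadic_a
import Cfsg.Agent.Lib.H27.Leech
import Cfsg.Agent.Lib.H27.Leech3
import Cfsg.Agent.Lib.H27.Leech4
import Cfsg.Agent.Lib.H27.GolayFacts

/-!
helper27 library: the lattice modulo twice the lattice has `2^24` elements.
-/

set_option autoImplicit false

namespace Cfsg.Agent.Lib.H27

open Cfsg Finset

theorem leech_index : leechLattice.index = 2 ^ 36 := by
  have h := card_mul_index_leech golay_doubly_even
  rw [golay_card] at h
  have h2 : (2 : ℕ) ^ 48 = 2 ^ 12 * 2 ^ 36 := by norm_num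
  rw [h2] at h
  exact Nat.eq_of_mul_eq_mul_left (by norm_num) h

/-- Doubling, as an endomorphism of `ℤ^24`. -/
def dblHom : (GolayPt → ℤ) →+ (GolayPt → ℤ) := nsmulAddMonoidHom 2

theorem dblHom_apply (x : GolayPt → ℤ) : dblHom x = 2 • x := rfl

theorem dblHom_injective : Function.Injective dblHom := by
  intro x y h
  funext i
  have := congrFun h i
  simp only [dblHom_apply, Pi.smul_apply, nsmul_eq_mul, Nat.cast_ofNat] at this
  omega

/-- Reduction modulo 2. -/
def mod2Hom : (GolayPt → ℤ) →+ (GolayPt → ZMod 2) :=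
  (Int.castAddHom (ZMod 2)).compLeft GolayPt

theorem mod2Hom_apply (x : GolayPt → ℤ) (i : GolayPt) : mod2Hom x i = ((x i : ℤ) : ZMod 2) := rfl

theorem mod2Hom_surjective : Function.Surjective mod2Hom := by
  intro y
  refine ⟨fun i => ((y i).val : ℤ), ?_⟩
  funext i
  rw [mod2Hom_apply]
  simp

theorem range_dblHom : dblHom.range = mod2Hom.ker := by
  ext x
  rw [AddMonoidHom.mem_range, AddMonoidHom.mem_ker]
  constructor
  · rintro ⟨y, rfl⟩
    funext i
    rw [mod2Hom_apply, dblHom_apply]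
    simp only [Pi.smul_apply, nsmul_eq_mul, Nat.cast_ofNat, Pi.zero_apply]
    rw [zmod_cast_eq_zero_iff 2]
    push_cast
    omega
  · intro h
    refine ⟨fun i => x i / 2, ?_⟩
    funext i
    have := congrFun h i
    rw [mod2Hom_apply, Pi.zero_apply, zmod_cast_eq_zero_iff 2] at this
    push_cast at this
    simp only [dblHom_apply, Pi.smul_apply, nsmul_eq_mul, Nat.cast_ofNat]
    omega

theorem index_range_dblHom : dblHom.range.index = 2 ^ 24 := by
  rw [range_dblHom, AddSubgroup.index_ker, AddMonoidHom.range_eq_top.mpr mod2Hom_surjective]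
  rw [Nat.card_congr (AddSubgroup.topEquiv (G := GolayPt → ZMod 2)).toEquiv, Nat.card_fun,
    Nat.card_zmod, Nat.card_eq_fintype_card, card_golayPt]

/-- Twice the lattice. -/
def twoL : AddSubgroup (GolayPt → ℤ) := leechLattice.map dblHom

theorem mem_twoL {x : GolayPt → ℤ} : x ∈ twoL ↔ ∃ z ∈ leechLattice, x = 2 • z := by
  unfold twoL
  rw [AddSubgroup.mem_map]
  constructor
  · rintro ⟨z, hz, rfl⟩
    exact ⟨z, hz, rfl⟩
  · rintro ⟨z, hz, rfl⟩
    exact ⟨z, hz, rfl⟩

theorem twoL_le : twoL ≤ leechLattice := by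
  intro x hx
  obtain ⟨z, hz, rfl⟩ := mem_twoL.1 hx
  rw [two_nsmul]
  exact add_mem hz hz

theorem index_twoL : twoL.index = 2 ^ 36 * 2 ^ 24 := by
  unfold twoL
  rw [AddSubgroup.index_map_of_injective _ dblHom_injective, leech_index, index_range_dblHom]

theorem relIndex_twoL : twoL.relIndex leechLattice = 2 ^ 24 := by
  have h := AddSubgroup.relIndex_mul_index twoL_le
  rw [index_twoL, leech_index] at h
  have : twoL.relIndex leechLattice * 2 ^ 36 = 2 ^ 24 * 2 ^ 36 := by rw [h]; ring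
  exact Nat.eq_of_mul_eq_mul_right (by norm_num) this

/-- The lattice modulo twice the lattice. -/
abbrev LQ : Type := ↥leechLattice ⧸ twoL.addSubgroupOf leechLattice

theorem card_LQ : Nat.card LQ = 2 ^ 24 := relIndex_twoL

theorem LQ_mk_eq_iff (x y : leechLattice) :
    (QuotientAddGroup.mk x : LQ) = QuotientAddGroup.mk y ↔
      ∃ z ∈ leechLattice, (x : GolayPt → ℤ) - (y : GolayPt → ℤ) = 2 • z := by
  rw [QuotientAddGroup.eq, AddSubgroup.mem_addSubgroupOf]
  constructor
  · intro h
    obtain ⟨z, hz, hz2⟩ := mem_twoL.1 h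
    refine ⟨-z, neg_mem hz, ?_⟩
    rw [smul_neg, ← hz2]
    push_cast
    abel
  · rintro ⟨z, hz, hz2⟩
    apply mem_twoL.2
    refine ⟨-z, neg_mem hz, ?_⟩
    rw [smul_neg, ← hz2]
    push_cast
    abel

end Cfsg.Agent.Lib.H27
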