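import Mathlib

/-!
helper27 library: a finite set of nonzero integer vectors, any two distinct members of which
are opposite or orthogonal, has at most `2 * dimension` members.
-/

set_option autoImplicit false

namespace Cfsg.Agent.Lib.H27

open Finset

theorem card_le_of_orth {ι : Type*} [Fintype ι] [DecidableEq ι] (F : Finset (ι → ℤ))
    (h0 : ∀ x ∈ F, x ≠ 0)
    (h : ∀ x ∈ F, ∀ y ∈ F, x ≠ y → x = -y ∨ ∑ i, x i * y i = 0) :
    F.card ≤ 2 * Fintype.card ι := by
  classical
  set f : (ι → ℤ) → Finset (ι → ℤ) := fun x => {x, -x} with hf
  have hfeq : ∀ x y, f x = f y → y = x ∨ y = -x := by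
    intro x y hxy
    have : y ∈ f x := by rw [hxy, hf]; simp
    rw [hf] at this
    simpa using this
  have h1 : F.card ≤ 2 * (F.image f).card := by
    apply Finset.card_le_mul_card_image
    intro a ha
    rw [Finset.mem_image] at ha
    obtain ⟨x, _, rfl⟩ := ha
    have hsub : F.filter (fun y => f y = f x) ⊆ {x, -x} := by
      intro y hy
      rw [Finset.mem_filter] at hy
      rcases hfeq x y hy.2.symm with h | h <;> simp [h]
    exact (Finset.card_le_card hsub).trans Finset.card_le_two
  have h2 : (F.image f).card ≤ Fintype.card ι := by
    have hrep : ∀ a : {a // a ∈ F.image f}, ∃ x ∈ F, f x = a.1 := by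
      intro a
      have := a.2
      rw [Finset.mem_image] at this
      exact this
    choose rep hrepF hrepf using hrep
    let v : {a // a ∈ F.image f} → EuclideanSpace ℝ ι :=
      fun a => WithLp.toLp 2 (fun i => ((rep a i : ℤ) : ℝ))
    have hinner : ∀ a b, inner ℝ (v a) (v b) = ((∑ i, rep a i * rep b i : ℤ) : ℝ) := by
      intro a b
      rw [PiLp.inner_apply]
      push_cast
      apply Finset.sum_congr rfl
      intro i _
      simp only [v]
      simp [mul_comm]
    have hli : LinearIndependent ℝ v := by
      apply linearIndependent_of_ne_zero_of_inner_eq_zero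
      · intro a hva
        apply h0 (rep a) (hrepF a)
        funext i
        have := congrArg (fun w : EuclideanSpace ℝ ι => w i) hva
        simpa [v] using this
      · intro a b hab
        rw [hinner]
        have hne : rep a ≠ rep b := by
          intro heq
          apply hab
          apply Subtype.ext
          rw [← hrepf a, ← hrepf b, heq]
        rcases h (rep a) (hrepF a) (rep b) (hrepF b) hne with hneg | horth
        · exfalso
          apply hab
          apply Subtype.ext
          rw [← hrepf a, ← hrepf b, hneg, hf]
          simp only [neg_neg]
          exact Finset.pair_comm _ _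
        · rw [horth]; simp
    have := hli.fintype_card_le_finrank
    rw [finrank_euclideanSpace, Fintype.card_coe] at this
    exact this
  omega

end Cfsg.Agent.Lib.H27
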