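import Mathlib
import Cfsg.Prelude.Def_Sporadic_a
import Cfsg.Agent.Lib.H27.LeechMod2
import Cfsg.Agent.Lib.H27.LeechCountFinal
import Cfsg.Agent.Lib.H27.OrthBound

/-!
helper27 library: every class of the lattice modulo twice the lattice contains a vector of
squared length at most 64; the classes of the vectors of squared length 64 contain exactly 48
of them (Conway's counting argument).
-/

set_option autoImplicit false

namespace Cfsg.Agent.Lib.H27

open Cfsg Finset

theorem sqNorm_neg (x : GolayPt → ℤ) : sqNorm (-x) = sqNorm x := by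
  unfold sqNorm
  apply Finset.sum_congr rfl
  intro i _
  simp

theorem sqNorm_eq_zero {x : GolayPt → ℤ} (h : sqNorm x = 0) : x = 0 := by
  funext i
  have h1 := sqNorm_ge_single x i
  rw [h] at h1
  have h2 := sq_nonneg (x i)
  have : x i ^ 2 = 0 := le_antisymm h1 h2
  simpa using this

theorem sqNorm_sub_add_dot (v w : GolayPt → ℤ) :
    sqNorm (v + w) - sqNorm (v - w) = 4 * dotInt v w := by
  unfold sqNorm dotInt
  rw [mul_sum, ← sum_sub_distrib]
  apply sum_congr rfl
  intro i _
  simp only [Pi.sub_apply, Pi.add_apply]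
  ring

/-- Two distinct congruent short vectors are opposite, or both of squared length 64 and orthogonal. -/
theorem short_congr (x y : GolayPt → ℤ) (hx : x ∈ leechLattice) (hy : y ∈ leechLattice)
    (hxy : x ≠ y) (hxn : sqNorm x ≤ 64) (hyn : sqNorm y ≤ 64)
    (hc : ∃ z ∈ leechLattice, x - y = 2 • z) :
    x = -y ∨ (sqNorm x = 64 ∧ sqNorm y = 64 ∧ dotInt x y = 0) := by
  obtain ⟨z, hz, hxyz⟩ := hc
  have hz0 : z ≠ 0 := by
    rintro rfl
    apply hxy
    have : x - y = 0 := by rw [hxyz]; simp
    exact sub_eq_zero.mp this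
  have hzn : 32 ≤ sqNorm z := leech_min_norm golay_doubly_even golay_min_weight hz hz0
  have h1 : sqNorm (x - y) = 4 * sqNorm z := by
    rw [hxyz]; exact sqNorm_two_smul z
  by_cases hw0 : z + y = 0
  · left
    have : x + y = 0 := by
      have : x + y = (x - y) + 2 • y := by rw [two_nsmul]; abel
      rw [this, hxyz, ← smul_add, hw0, smul_zero]
    exact eq_neg_of_add_eq_zero_left this
  · right
    have hw : z + y ∈ leechLattice := add_mem hz hy
    have hwn : 32 ≤ sqNorm (z + y) := leech_min_norm golay_doubly_even golay_min_weight hw hw0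
    have h2 : sqNorm (x + y) = 4 * sqNorm (z + y) := by
      have : x + y = 2 • (z + y) := by
        have : x + y = (x - y) + 2 • y := by rw [two_nsmul]; abel
        rw [this, hxyz, ← smul_add]
      rw [this]; exact sqNorm_two_smul _
    have hp := sqNorm_parallelogram x y
    have hd := sqNorm_sub_add_dot x y
    refine ⟨by omega, by omega, by omega⟩

/-- Lattice vectors of squared length `N`. -/
def SN (N : ℤ) : Set (GolayPt → ℤ) := {x | x ∈ leechLattice ∧ sqNorm x = N}

/-- Lattice vectors of squared length at most 64. -/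
def Short : Set (GolayPt → ℤ) := {x | x ∈ leechLattice ∧ sqNorm x ≤ 64}

theorem norm_cases {x : GolayPt → ℤ} (hx : x ∈ leechLattice) (hn : sqNorm x ≤ 64) :
    x = 0 ∨ sqNorm x = 32 ∨ sqNorm x = 48 ∨ sqNorm x = 64 := by
  by_cases h0 : x = 0
  · exact Or.inl h0
  · right
    have h1 := leech_min_norm golay_doubly_even golay_min_weight hx h0
    obtain ⟨k, hk⟩ := sixteen_dvd_sqNorm golay_doubly_even hx
    omega

theorem SN_zero : SN 0 = {0} := by
  ext x
  simp only [SN, Set.mem_ofPred_eq, Set.mem_singleton_iff]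
  constructor
  · rintro ⟨_, h⟩
    exact sqNorm_eq_zero h
  · rintro rfl
    exact ⟨leechLattice.zero_mem, by simp [sqNorm]⟩

theorem Short_eq : Short = SN 0 ∪ SN 32 ∪ SN 48 ∪ SN 64 := by
  ext x
  simp only [Short, SN, Set.mem_ofPred_eq, Set.mem_union]
  constructor
  · rintro ⟨hx, hn⟩
    rcases norm_cases hx hn with rfl | h | h | h
    · exact Or.inl (Or.inl (Or.inl ⟨hx, by simp [sqNorm]⟩))
    · exact Or.inl (Or.inl (Or.inr ⟨hx, h⟩))
    · exact Or.inl (Or.inr ⟨hx, h⟩)
    · exact Or.inr ⟨hx, h⟩
  · rintro (((⟨hx, h⟩ | ⟨hx, h⟩) | ⟨hx, h⟩) | ⟨hx, h⟩) <;> exact ⟨hx, by omega⟩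

theorem SN_finite (N : ℤ) (hN : N = 0 ∨ N = 32 ∨ N = 48 ∨ N = 64) : (SN N).Finite := by
  rcases hN with rfl | rfl | rfl | rfl
  · rw [SN_zero]; exact Set.finite_singleton _
  · apply Set.finite_of_ncard_ne_zero
    unfold SN; rw [leech_count_32]; norm_num
  · apply Set.finite_of_ncard_ne_zero
    unfold SN; rw [leech_count_48]; norm_num
  · apply Set.finite_of_ncard_ne_zero
    unfold SN; rw [leech_count_64]; norm_num

theorem Short_finite : Short.Finite := by
  rw [Short_eq]
  exact (((SN_finite 0 (by simp)).union (SN_finite 32 (by simp))).union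
    (SN_finite 48 (by simp))).union (SN_finite 64 (by simp))

/-- The short vectors as a finset. -/
noncomputable def ShortF : Finset (GolayPt → ℤ) := Short_finite.toFinset

theorem mem_ShortF {x : GolayPt → ℤ} : x ∈ ShortF ↔ x ∈ leechLattice ∧ sqNorm x ≤ 64 := by
  unfold ShortF
  rw [Set.Finite.mem_toFinset]
  rfl

theorem card_filter_ShortF (N : ℤ) (hN : N ≤ 64) :
    (ShortF.filter (fun x => sqNorm x = N)).card = (SN N).ncard := by
  rw [← Set.ncard_coe_finset]
  congr 1
  ext x
  simp only [Finset.coe_filter, mem_ShortF, Set.mem_ofPred_eq, SN]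
  constructor
  · rintro ⟨⟨hx, _⟩, h⟩; exact ⟨hx, h⟩
  · rintro ⟨hx, h⟩; exact ⟨⟨hx, by omega⟩, h⟩

/-- The weight of a short vector in the counting argument. -/
def wt (x : GolayPt → ℤ) : ℕ :=
  48 * (if sqNorm x = 0 then 1 else 0) + 24 * (if sqNorm x = 32 then 1 else 0)
    + 24 * (if sqNorm x = 48 then 1 else 0) + (if sqNorm x = 64 then 1 else 0)

theorem sum_wt : ∑ x ∈ ShortF, wt x = 48 * 2 ^ 24 := by
  unfold wt
  rw [Finset.sum_add_distrib, Finset.sum_add_distrib, Finset.sum_add_distrib,
    ← Finset.mul_sum, ← Finset.mul_sum, ← Finset.mul_sum,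
    Finset.sum_boole, Finset.sum_boole, Finset.sum_boole, Finset.sum_boole]
  simp only [Nat.cast_id]
  rw [card_filter_ShortF 0 (by norm_num), card_filter_ShortF 32 (by norm_num),
    card_filter_ShortF 48 (by norm_num), card_filter_ShortF 64 (by norm_num)]
  have h0 : (SN 0).ncard = 1 := by rw [SN_zero]; exact Set.ncard_singleton _
  have h32 : (SN 32).ncard = 196560 := leech_count_32
  have h48 : (SN 48).ncard = 16773120 := leech_count_48
  have h64 : (SN 64).ncard = 398034000 := leech_count_64
  rw [h0, h32, h48, h64]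
  norm_num

/-- The class of a vector modulo twice the lattice (`0` outside the lattice). -/
noncomputable def cls (x : GolayPt → ℤ) : LQ := by
  classical
  exact if h : x ∈ leechLattice then QuotientAddGroup.mk ⟨x, h⟩ else 0

theorem cls_eq_iff {x y : GolayPt → ℤ} (hx : x ∈ leechLattice) (hy : y ∈ leechLattice) :
    cls x = cls y ↔ ∃ z ∈ leechLattice, x - y = 2 • z := by
  unfold cls
  rw [dif_pos hx, dif_pos hy, LQ_mk_eq_iff]

instance : Finite LQ := Nat.finite_of_card_ne_zero (by rw [card_LQ]; norm_num)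

noncomputable instance : Fintype LQ := Fintype.ofFinite LQ

noncomputable instance : DecidableEq LQ := Classical.decEq LQ

theorem card_LQ' : Fintype.card LQ = 2 ^ 24 := by
  rw [← Nat.card_eq_fintype_card, card_LQ]

/-- The short vectors in a class. -/
noncomputable def fib (q : LQ) : Finset (GolayPt → ℤ) := ShortF.filter (fun x => cls x = q)

theorem mem_fib {q : LQ} {x : GolayPt → ℤ} :
    x ∈ fib q ↔ (x ∈ leechLattice ∧ sqNorm x ≤ 64) ∧ cls x = q := by
  unfold fib
  rw [Finset.mem_filter, mem_ShortF]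

theorem fib_pair {q : LQ} {x y : GolayPt → ℤ} (hx : x ∈ fib q) (hy : y ∈ fib q) (hne : x ≠ y) :
    x = -y ∨ (sqNorm x = 64 ∧ sqNorm y = 64 ∧ dotInt x y = 0) := by
  rw [mem_fib] at hx hy
  apply short_congr x y hx.1.1 hy.1.1 hne hx.1.2 hy.1.2
  rw [← cls_eq_iff hx.1.1 hy.1.1, hx.2, hy.2]

theorem wt_of_norm_64 {x : GolayPt → ℤ} (h : sqNorm x = 64) : wt x = 1 := by
  unfold wt; rw [h]; norm_num

theorem sum_fib_le (q : LQ) : ∑ x ∈ fib q, wt x ≤ 48 := by
  classical
  by_cases hA : ∃ y ∈ fib q, sqNorm y ≠ 64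
  · obtain ⟨y, hy, hy64⟩ := hA
    have hsub : fib q ⊆ {y, -y} := by
      intro x hx
      by_cases hxy : x = y
      · simp [hxy]
      · rcases fib_pair hx hy hxy with h | ⟨_, h, _⟩
        · simp [h]
        · exact absurd h hy64
    have hyL := (mem_fib.1 hy).1
    calc ∑ x ∈ fib q, wt x ≤ ∑ x ∈ ({y, -y} : Finset (GolayPt → ℤ)), wt x :=
          Finset.sum_le_sum_of_subset hsub
      _ ≤ 48 := by
        rcases norm_cases hyL.1 hyL.2 with rfl | h | h | h
        · simp [wt, sqNorm]
        · have hne : y ≠ -y := by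
            intro he
            have : sqNorm y = 0 := by
              have h2 : y = 0 := by
                funext i
                have := congrFun he i
                simp only [Pi.neg_apply, Pi.zero_apply] at this ⊢
                omega
              rw [h2]; simp [sqNorm]
            omega
          rw [Finset.sum_pair hne]
          simp [wt, sqNorm_neg, h]
        · have hne : y ≠ -y := by
            intro he
            have : sqNorm y = 0 := by
              have h2 : y = 0 := by
                funext i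
                have := congrFun he i
                simp only [Pi.neg_apply, Pi.zero_apply] at this ⊢
                omega
              rw [h2]; simp [sqNorm]
            omega
          rw [Finset.sum_pair hne]
          simp [wt, sqNorm_neg, h]
        · exact absurd h hy64
  · push Not at hA
    rw [Finset.sum_congr rfl (fun x hx => wt_of_norm_64 (hA x hx))]
    rw [Finset.sum_const, smul_eq_mul, mul_one]
    have := card_le_of_orth (fib q) ?_ ?_
    · rw [card_golayPt] at this; omega
    · intro x hx h0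
      have := hA x hx
      rw [h0] at this
      simp [sqNorm] at this
    · intro x hx y hy hne
      rcases fib_pair hx hy hne with h | ⟨_, _, h⟩
      · exact Or.inl h
      · exact Or.inr h

theorem sum_fib_eq (q : LQ) : ∑ x ∈ fib q, wt x = 48 := by
  have h1 : ∑ q : LQ, ∑ x ∈ fib q, wt x = ∑ _q : LQ, 48 := by
    unfold fib
    rw [Finset.sum_fiberwise, sum_wt, Finset.sum_const, Finset.card_univ, card_LQ', smul_eq_mul]
    ring
  exact (Finset.sum_eq_sum_iff_of_le (fun q _ => sum_fib_le q)).1 h1 q (Finset.mem_univ q)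

/-- Every class contains a short vector. -/
theorem exists_short (x : GolayPt → ℤ) (hx : x ∈ leechLattice) :
    ∃ y ∈ leechLattice, sqNorm y ≤ 64 ∧ ∃ z ∈ leechLattice, x - y = 2 • z := by
  have h := sum_fib_eq (cls x)
  have hne : (fib (cls x)).Nonempty := by
    by_contra hcon
    rw [Finset.not_nonempty_iff_eq_empty] at hcon
    rw [hcon, Finset.sum_empty] at h
    omega
  obtain ⟨y, hy⟩ := hne
  rw [mem_fib] at hy
  exact ⟨y, hy.1.1, hy.1.2, (cls_eq_iff hx hy.1.1).1 hy.2.symm⟩

/-- The class of a vector of squared length 64 contains exactly 48 such vectors. -/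
theorem ncard_cross (x : GolayPt → ℤ) (hx : x ∈ leechLattice) (hxn : sqNorm x = 64) :
    {y | y ∈ leechLattice ∧ sqNorm y = sqNorm x ∧ ∃ z ∈ leechLattice, x - y = 2 • z}.ncard = 48 := by
  have hxf : x ∈ fib (cls x) := mem_fib.2 ⟨⟨hx, by omega⟩, rfl⟩
  have hall : ∀ y ∈ fib (cls x), sqNorm y = 64 := by
    intro y hy
    by_cases hxy : x = y
    · rw [← hxy]; exact hxn
    · rcases fib_pair hxf hy hxy with h | ⟨_, h, _⟩
      · rw [← sqNorm_neg, ← h]; exact hxn
      · exact h
  have h := sum_fib_eq (cls x)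
  rw [Finset.sum_congr rfl (fun y hy => wt_of_norm_64 (hall y hy)), Finset.sum_const, smul_eq_mul,
    mul_one] at h
  rw [← h, ← Set.ncard_coe_finset]
  congr 1
  ext y
  simp only [Set.mem_ofPred_eq, Finset.mem_coe, mem_fib]
  constructor
  · rintro ⟨hy, hyn, hz⟩
    exact ⟨⟨hy, by omega⟩, ((cls_eq_iff hx hy).2 hz).symm⟩
  · rintro ⟨⟨hy, hyn⟩, hc⟩
    refine ⟨hy, ?_, (cls_eq_iff hx hy).1 hc.symm⟩
    rw [hxn]
    exact hall y (mem_fib.2 ⟨⟨hy, hyn⟩, hc⟩)

end Cfsg.Agent.Lib.H27
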