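import Mathlib
import Cfsg.Prelude.Def_Sporadic_a
import Cfsg.Prelude.Def_SporadicCombinatorics
import Cfsg.Agent.Lib.H27.Co0Trans64
import Cfsg.Agent.Lib.H27.Co0Cross
import Cfsg.Agent.Lib.H27.LeechCross
import Cfsg.Agent.Lib.H27.LeechCountFinal
import Cfsg.Agent.Lib.H28.M24Stab

/-!
helper27 library: the order of `Co0`, by the orbit-stabiliser theorem for the action on the
398034000 vectors of squared length 64; the stabiliser of `8 e_0` consists of the monomial maps
fixing it.
-/

set_option autoImplicit false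

namespace Cfsg.Agent.Lib.H27

open Cfsg Finset Cfsg.Agent.Lib.H28

theorem dotInt_single (i : GolayPt) (a : ℤ) (y : GolayPt → ℤ) :
    dotInt (Pi.single i a : GolayPt → ℤ) y = a * y i := by
  unfold dotInt
  rw [Finset.sum_eq_single i]
  · rw [Pi.single_eq_same]
  · intro k _ hk
    rw [Pi.single_apply, if_neg hk, zero_mul]
  · intro h
    exact absurd (Finset.mem_univ i) h

/-- Two vectors of the standard cross are congruent modulo twice the lattice. -/
theorem stdCross_congr {a b : GolayPt → ℤ} (ha : a ∈ stdCross) (hb : b ∈ stdCross) :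
    ∃ z ∈ leechLattice, a - b = 2 • z := by
  obtain ⟨i, s, hs, rfl⟩ := ha
  obtain ⟨j, t, ht, rfl⟩ := hb
  refine ⟨Pi.single i (s / 2) - Pi.single j (t / 2), ?_, ?_⟩
  · rw [← minGen_eq]
    apply mem_minGen_of_four
    · intro k
      simp only [Pi.sub_apply, Pi.single_apply]
      rcases hs with rfl | rfl <;> rcases ht with rfl | rfl <;> split_ifs <;> norm_num
    · simp only [Pi.sub_apply]
      rw [Finset.sum_sub_distrib, Finset.sum_pi_single', Finset.sum_pi_single']
      simp only [Finset.mem_univ, if_true]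
      rcases hs with rfl | rfl <;> rcases ht with rfl | rfl <;> norm_num
  · funext k
    simp only [Pi.sub_apply, Pi.single_apply, Pi.smul_apply, smul_eq_mul, nsmul_eq_mul,
      Nat.cast_ofNat]
    rcases hs with rfl | rfl <;> rcases ht with rfl | rfl <;> split_ifs <;> norm_num

theorem single8_mem_stdCross (i : GolayPt) : (Pi.single i 8 : GolayPt → ℤ) ∈ stdCross :=
  ⟨i, 8, Or.inl rfl, rfl⟩

theorem single8_mem_leech {a : GolayPt → ℤ} (ha : a ∈ stdCross) : a ∈ leechLattice := by
  obtain ⟨i, s, hs, rfl⟩ := ha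
  rcases hs with rfl | rfl
  · exact single8_mem i
  · have := neg_mem (single8_mem i)
    rwa [← Pi.single_neg] at this

theorem sqNorm_stdCross {a : GolayPt → ℤ} (ha : a ∈ stdCross) : sqNorm a = 64 := by
  obtain ⟨i, s, hs, rfl⟩ := ha
  rw [sqNorm_single]
  rcases hs with rfl | rfl <;> norm_num

/-- A vector of squared length 64 congruent to a vector of the standard cross lies in it. -/
theorem mem_stdCross_of_congr {y : GolayPt → ℤ} (hy : y ∈ leechLattice) (hn : sqNorm y = 64)
    {a : GolayPt → ℤ} (ha : a ∈ stdCross) (hc : ∃ z ∈ leechLattice, a - y = 2 • z) :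
    y ∈ stdCross := by
  by_contra hns
  have hzero : ∀ i, y i = 0 := by
    intro i
    have hi := single8_mem_stdCross i
    obtain ⟨z1, hz1, e1⟩ := stdCross_congr hi ha
    obtain ⟨z2, hz2, e2⟩ := hc
    have hc' : ∃ z ∈ leechLattice, (Pi.single i 8 : GolayPt → ℤ) - y = 2 • z := by
      refine ⟨z1 + z2, add_mem hz1 hz2, ?_⟩
      rw [smul_add, ← e1, ← e2]
      abel
    have hne : (Pi.single i 8 : GolayPt → ℤ) ≠ y := by
      intro h
      exact hns (h ▸ hi)
    rcases short_congr _ y (single8_mem i) hy hne (by rw [sqNorm_single]; norm_num) (by omega) hc'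
      with h | ⟨_, _, h⟩
    · exfalso
      apply hns
      have : y = Pi.single i (-8) := by
        rw [Pi.single_neg, h, neg_neg]
      rw [this]
      exact ⟨i, -8, Or.inr rfl, rfl⟩
    · rw [dotInt_single] at h
      omega
  have : y = 0 := funext hzero
  rw [this] at hn
  unfold sqNorm at hn
  simp at hn

/-- An automorphism fixing a vector of the standard cross stabilises the standard cross. -/
theorem stabCross_of_fix {g : Co0} {i0 : GolayPt} (h : g • u8 i0 = u8 i0) : StabCross g := by
  intro v hv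
  obtain ⟨z, hz, e⟩ := stdCross_congr (u8_mem_stdCross i0) hv
  apply mem_stdCross_of_congr (g • v).2 _ (u8_mem_stdCross i0)
  · refine ⟨((g • (⟨z, hz⟩ : leechLattice) : leechLattice) : GolayPt → ℤ),
      (g • (⟨z, hz⟩ : leechLattice) : leechLattice).2, ?_⟩
    have e' : u8 i0 - v = (⟨z, hz⟩ : leechLattice) + ⟨z, hz⟩ := by
      apply Subtype.ext
      rw [AddSubgroup.coe_sub, AddSubgroup.coe_add, e, two_nsmul]
    have := congrArg (fun u : leechLattice => (g • u : leechLattice)) e'
    simp only [Co0_smul_sub, Co0_smul_add, h] at this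
    have := congrArg (fun u : leechLattice => (u : GolayPt → ℤ)) this
    simp only [AddSubgroup.coe_sub, AddSubgroup.coe_add] at this
    rw [this, two_nsmul]
  · rw [Co0_sqNorm]
    exact sqNorm_stdCross hv

/-! ### The stabiliser of `8 e_0` -/

/-- The code words vanishing at a point. -/
abbrev CodeZero (p : GolayPt) : Type := {w : golayCode // (w : GolayPt → ZMod 2) p = 0}

theorem card_codeZero (p : GolayPt) : Nat.card (CodeZero p) = 2048 := by
  classical
  have h1 : Nat.card golayCode = Nat.card (CodeZero p) +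
      Nat.card {w : golayCode // ¬ (w : GolayPt → ZMod 2) p = 0} := by
    rw [← Nat.card_sum]
    exact Nat.card_congr (Equiv.sumCompl _).symm
  have h2 : Nat.card (CodeZero p) = Nat.card {w : golayCode // ¬ (w : GolayPt → ZMod 2) p = 0} := by
    have hone : ∀ b : ZMod 2, b = 0 → ¬ b + 1 = 0 := by decide
    have hone' : ∀ b : ZMod 2, ¬ b = 0 → b + 1 = 0 := by decide
    apply Nat.card_congr
    refine ⟨fun w => ⟨⟨w.1.1 + 1, golayCode.add_mem w.1.2 one_mem_golayCode⟩, hone _ w.2⟩,
      fun w => ⟨⟨w.1.1 + 1, golayCode.add_mem w.1.2 one_mem_golayCode⟩, hone' _ w.2⟩, ?_, ?_⟩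
    · intro w
      apply Subtype.ext
      apply Subtype.ext
      show (w.1.1 + 1) + 1 = w.1.1
      rw [add_assoc, add_self', add_zero]
    · intro w
      apply Subtype.ext
      apply Subtype.ext
      show (w.1.1 + 1) + 1 = w.1.1
      rw [add_assoc, add_self', add_zero]
  rw [golay_card] at h1
  omega

/-- The parametrisation of the stabiliser of `8 e_p`. -/
def fixMap (p : GolayPt) (a : MulAction.stabilizer M24 p × CodeZero p) :
    MulAction.stabilizer Co0 (u8 p) :=
  ⟨monoCo0 a.1.1.1 a.1.1.2 a.2.1.1 a.2.1.2, by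
    rw [MulAction.mem_stabilizer_iff]
    apply Subtype.ext
    rw [monoCo0_smul]
    show signedPerm _ _ (Pi.single p 8) = Pi.single p 8
    rw [signedPerm_single]
    have h1 : (a.1.1.1 : Equiv.Perm GolayPt) p = p := a.1.2
    have h2 : p ∉ support₂ (a.2.1.1 : GolayPt → ZMod 2) := by
      rw [mem_support₂_iff]
      exact fun h => h a.2.2
    rw [h1, if_neg h2]⟩

theorem fixMap_injective (p : GolayPt) : Function.Injective (fixMap p) := by
  intro a b h
  have h1 : stabMap (a.1.1, a.2.1) = stabMap (b.1.1, b.2.1) := by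
    apply Subtype.ext
    exact congrArg (fun g : MulAction.stabilizer Co0 (u8 p) => (g : Co0)) h
  have h2 := stabMap_injective h1
  have h3 : a.1.1 = b.1.1 := congrArg Prod.fst h2
  have h4 : a.2.1 = b.2.1 := congrArg Prod.snd h2
  exact Prod.ext (Subtype.ext h3) (Subtype.ext h4)

theorem fixMap_surjective (p : GolayPt) : Function.Surjective (fixMap p) := by
  rintro ⟨g, hg⟩
  rw [MulAction.mem_stabilizer_iff] at hg
  obtain ⟨σ, hσ, w, hw, h⟩ := stab_monomial (stabCross_of_fix hg)
  have h1 := h (u8 p)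
  rw [hg] at h1
  change (Pi.single p 8 : GolayPt → ℤ) = signedPerm σ (support₂ w) (Pi.single p 8) at h1
  rw [signedPerm_single] at h1
  have hσp : σ p = p := by
    by_contra hne
    have := congrFun h1 (σ p)
    rw [Pi.single_eq_same, Pi.single_apply, if_neg hne] at this
    split_ifs at this <;> omega
  have hwp : w p = 0 := by
    by_contra hne
    have := congrFun h1 p
    rw [hσp, Pi.single_eq_same, Pi.single_eq_same, if_pos ((mem_support₂_iff w p).2 hne)] at this
    omega
  refine ⟨(⟨⟨σ, hσ⟩, hσp⟩, ⟨⟨w, hw⟩, hwp⟩), ?_⟩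
  apply Subtype.ext
  apply Co0_ext
  intro v
  rw [h v]
  rfl

theorem card_stabilizer_u8 (p : GolayPt) :
    Nat.card (MulAction.stabilizer Co0 (u8 p)) = 10200960 * 2048 := by
  rw [← Nat.card_congr (Equiv.ofBijective (fixMap p) ⟨fixMap_injective p, fixMap_surjective p⟩),
    Nat.card_prod, card_stabilizer_M24, card_codeZero]

/-! ### The orbit -/

theorem orbit_u8 (p : GolayPt) :
    MulAction.orbit Co0 (u8 p) = {v : leechLattice | sqNorm (v : GolayPt → ℤ) = 64} := by
  ext v
  constructor
  · rintro ⟨g, rfl⟩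
    show sqNorm ((g • u8 p : leechLattice) : GolayPt → ℤ) = 64
    rw [Co0_sqNorm, sqNorm_u8]
  · intro hv
    obtain ⟨g, hg⟩ := co0_trans64 (u8 p) v (sqNorm_u8 p) hv
    exact ⟨g, hg⟩

theorem card_orbit_u8 (p : GolayPt) : Nat.card (MulAction.orbit Co0 (u8 p)) = 398034000 := by
  rw [orbit_u8, ← leech_count_64, ← Nat.card_coe_set_eq]
  apply Nat.card_congr
  refine ⟨fun v => ⟨v.1.1, v.1.2, v.2⟩, fun x => ⟨⟨x.1, x.2.1⟩, x.2.2⟩, ?_, ?_⟩
  · intro v; rfl
  · intro x; rfl

/-- The order of `Co0`. -/
theorem card_Co0 : Nat.card Co0 = 8315553613086720000 := by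
  have h1 := Subgroup.card_eq_card_quotient_mul_card_subgroup
    (MulAction.stabilizer Co0 (u8 (gPt 0)))
  have h2 : Nat.card (Co0 ⧸ MulAction.stabilizer Co0 (u8 (gPt 0)))
      = Nat.card (MulAction.orbit Co0 (u8 (gPt 0))) :=
    Nat.card_congr (MulAction.orbitEquivQuotientStabilizer Co0 (u8 (gPt 0))).symm
  rw [h1, h2, card_orbit_u8, card_stabilizer_u8]

end Cfsg.Agent.Lib.H27
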