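import Mathlib
import Cfsg.Prelude.Def_Sporadic_a
import Cfsg.Agent.Lib.H27.Co0Trans64
import Cfsg.Agent.Lib.H27.LeechCross
import Cfsg.Agent.Lib.H27.Co0Order

/-!
helper27 library: the action of `Co0` on the lattice modulo twice the lattice is faithful modulo
`±1` and irreducible.
-/

set_option autoImplicit false

namespace Cfsg.Agent.Lib.H27

open Cfsg Finset Cfsg.Agent.Lib.H28

theorem Co0_dot (g : Co0) (v w : leechLattice) :
    dotInt ((g • v : leechLattice) : GolayPt → ℤ) ((g • w : leechLattice) : GolayPt → ℤ)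
      = dotInt (v : GolayPt → ℤ) (w : GolayPt → ℤ) := by
  have h1 := sqNorm_sub_add_dot ((g • v : leechLattice) : GolayPt → ℤ)
    ((g • w : leechLattice) : GolayPt → ℤ)
  have h2 := sqNorm_sub_add_dot (v : GolayPt → ℤ) (w : GolayPt → ℤ)
  have e1 : ((g • v : leechLattice) : GolayPt → ℤ) + ((g • w : leechLattice) : GolayPt → ℤ)
      = ((g • (v + w) : leechLattice) : GolayPt → ℤ) := by
    rw [Co0_smul_add]; rfl
  have e2 : ((g • v : leechLattice) : GolayPt → ℤ) - ((g • w : leechLattice) : GolayPt → ℤ)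
      = ((g • (v - w) : leechLattice) : GolayPt → ℤ) := by
    rw [Co0_smul_sub]; rfl
  rw [e1, e2, Co0_sqNorm, Co0_sqNorm] at h1
  have e3 : ((v + w : leechLattice) : GolayPt → ℤ) = (v : GolayPt → ℤ) + (w : GolayPt → ℤ) := rfl
  have e4 : ((v - w : leechLattice) : GolayPt → ℤ) = (v : GolayPt → ℤ) - (w : GolayPt → ℤ) := rfl
  rw [e3, e4] at h1
  omega

theorem dotInt_neg_right (x y : GolayPt → ℤ) : dotInt x (-y) = -dotInt x y := by
  unfold dotInt
  rw [← Finset.sum_neg_distrib]
  apply Finset.sum_congr rfl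
  intro i _
  rw [Pi.neg_apply]
  ring

/-- The vectors `s e_i + t e_j`. -/
def vecA (i j : GolayPt) (s t : ℤ) : GolayPt → ℤ := Pi.single i s + Pi.single j t

theorem vecA_mem {i j : GolayPt} (hij : i ≠ j) {s t : ℤ} (hs : s = 4 ∨ s = -4)
    (ht : t = 4 ∨ t = -4) : vecA i j s t ∈ leechLattice := by
  rw [← minGen_eq]
  apply mem_minGen_of_four
  · intro k
    simp only [vecA, Pi.add_apply, Pi.single_apply]
    rcases hs with rfl | rfl <;> rcases ht with rfl | rfl <;> split_ifs <;> norm_num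
  · simp only [vecA, Pi.add_apply]
    rw [Finset.sum_add_distrib, Finset.sum_pi_single', Finset.sum_pi_single']
    simp only [Finset.mem_univ, if_true]
    rcases hs with rfl | rfl <;> rcases ht with rfl | rfl <;> norm_num

theorem sqNorm_vecA {i j : GolayPt} (hij : i ≠ j) {s t : ℤ} (hs : s = 4 ∨ s = -4)
    (ht : t = 4 ∨ t = -4) : sqNorm (vecA i j s t) = 32 := by
  classical
  unfold sqNorm vecA
  have h : ∀ k, ((Pi.single i s + Pi.single j t : GolayPt → ℤ) k) ^ 2
      = (if k = i then s ^ 2 else 0) + (if k = j then t ^ 2 else 0) := by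
    intro k
    simp only [Pi.add_apply, Pi.single_apply]
    by_cases h1 : k = i
    · have h2 : k ≠ j := fun h => hij (h1.symm.trans h)
      simp [h1, h2, hij]
    · by_cases h2 : k = j
      · simp [h1, h2, hij.symm]
      · simp [h1, h2]
  rw [Finset.sum_congr rfl (fun k _ => h k), Finset.sum_add_distrib, Finset.sum_ite_eq',
    Finset.sum_ite_eq']
  simp only [Finset.mem_univ, if_true]
  rcases hs with rfl | rfl <;> rcases ht with rfl | rfl <;> norm_num

theorem dotInt_vecA (i j : GolayPt) (s t : ℤ) (y : GolayPt → ℤ) :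
    dotInt (vecA i j s t) y = s * y i + t * y j := by
  unfold dotInt vecA
  simp only [Pi.add_apply, add_mul]
  rw [Finset.sum_add_distrib]
  have h1 : ∑ k, (Pi.single i s : GolayPt → ℤ) k * y k = s * y i := dotInt_single i s y
  have h2 : ∑ k, (Pi.single j t : GolayPt → ℤ) k * y k = t * y j := dotInt_single j t y
  rw [h1, h2]

/-! ### Faithfulness modulo `±1` -/

theorem exists_ne (a b c : GolayPt) : ∃ k : GolayPt, k ≠ a ∧ k ≠ b ∧ k ≠ c := by
  revert a b c
  decide


section Faithful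

variable {g : Co0}
  (hg : ∀ v : leechLattice, ∃ w : leechLattice,
    ((g • v : leechLattice) : GolayPt → ℤ) - (v : GolayPt → ℤ) = 2 • (w : GolayPt → ℤ))

include hg

theorem fix_or_neg (x : leechLattice) (hx : sqNorm (x : GolayPt → ℤ) = 32) :
    g • x = x ∨ g • x = -x := by
  by_cases h : g • x = x
  · exact Or.inl h
  · right
    obtain ⟨w, hw⟩ := hg x
    have hne : ((g • x : leechLattice) : GolayPt → ℤ) ≠ (x : GolayPt → ℤ) :=
      fun e => h (Subtype.ext e)
    rcases short_congr _ _ (g • x).2 x.2 hne (by rw [Co0_sqNorm]; omega) (by omega)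
      ⟨w.1, w.2, hw⟩ with e | ⟨_, e, _⟩
    · exact Subtype.ext e
    · omega

theorem fix_of_dot_ne {x y : leechLattice} (hy : sqNorm (y : GolayPt → ℤ) = 32)
    (hfx : g • x = x) (hd : dotInt (x : GolayPt → ℤ) (y : GolayPt → ℤ) ≠ 0) : g • y = y := by
  rcases fix_or_neg hg y hy with h | h
  · exact h
  · exfalso
    have := Co0_dot g x y
    rw [hfx, h] at this
    change dotInt (x : GolayPt → ℤ) (-(y : GolayPt → ℤ)) = _ at this
    rw [dotInt_neg_right] at this
    omega

/-- If `g` fixes `4 e_0 + 4 e_1` it is the identity. -/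
theorem eq_one_of_fix
    (h0 : g • (⟨vecA (gPt 0) (gPt 1) 4 4, vecA_mem (by decide) (Or.inl rfl) (Or.inl rfl)⟩ :
      leechLattice) = ⟨vecA (gPt 0) (gPt 1) 4 4, vecA_mem (by decide) (Or.inl rfl) (Or.inl rfl)⟩) :
    g = 1 := by
  -- vectors `4 e_0 + 4 e_k`
  have step1 : ∀ k (hk : gPt 0 ≠ k), k ≠ gPt 1 →
      g • (⟨vecA (gPt 0) k 4 4, vecA_mem hk (Or.inl rfl) (Or.inl rfl)⟩ : leechLattice)
        = ⟨vecA (gPt 0) k 4 4, vecA_mem hk (Or.inl rfl) (Or.inl rfl)⟩ := by
    intro k hk hk1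
    apply fix_of_dot_ne hg (sqNorm_vecA hk (Or.inl rfl) (Or.inl rfl)) h0
    show dotInt (vecA (gPt 0) (gPt 1) 4 4) (vecA (gPt 0) k 4 4) ≠ 0
    rw [dotInt_vecA]
    unfold vecA
    simp only [Pi.add_apply, Pi.single_apply, if_true]
    rw [if_neg hk, if_neg (by decide : gPt 1 ≠ gPt 0), if_neg (Ne.symm hk1)]
    norm_num
  -- vectors `s e_0 + t e_k`
  have step2 : ∀ k (hk : gPt 0 ≠ k) (s t : ℤ) (hs : s = 4 ∨ s = -4) (ht : t = 4 ∨ t = -4),
      g • (⟨vecA (gPt 0) k s t, vecA_mem hk hs ht⟩ : leechLattice)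
        = ⟨vecA (gPt 0) k s t, vecA_mem hk hs ht⟩ := by
    intro k hk s t hs ht
    obtain ⟨m, hm0, hm1, hmk⟩ := exists_ne (gPt 0) (gPt 1) k
    apply fix_of_dot_ne hg (sqNorm_vecA hk hs ht) (step1 m hm0.symm hm1)
    show dotInt (vecA (gPt 0) m 4 4) (vecA (gPt 0) k s t) ≠ 0
    rw [dotInt_vecA]
    unfold vecA
    simp only [Pi.add_apply, Pi.single_apply, if_true]
    rw [if_neg hk, if_neg hm0, if_neg hmk]
    rcases hs with rfl | rfl <;> norm_num
  -- all vectors `s e_i + t e_j`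
  have step3 : ∀ i j (hij : i ≠ j) (s t : ℤ) (hs : s = 4 ∨ s = -4) (ht : t = 4 ∨ t = -4),
      g • (⟨vecA i j s t, vecA_mem hij hs ht⟩ : leechLattice)
        = ⟨vecA i j s t, vecA_mem hij hs ht⟩ := by
    intro i j hij s t hs ht
    by_cases hi : gPt 0 = i
    · subst hi
      exact step2 j hij s t hs ht
    · by_cases hj : gPt 0 = j
      · subst hj
        have := step2 i hij.symm t s ht hs
        have e : (⟨vecA i (gPt 0) s t, vecA_mem hij hs ht⟩ : leechLattice)
            = ⟨vecA (gPt 0) i t s, vecA_mem hij.symm ht hs⟩ := by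
          apply Subtype.ext
          show vecA i (gPt 0) s t = vecA (gPt 0) i t s
          unfold vecA
          rw [add_comm]
        rw [e]
        exact this
      · apply fix_of_dot_ne hg (sqNorm_vecA hij hs ht) (step2 i hi 4 4 (Or.inl rfl) (Or.inl rfl))
        show dotInt (vecA (gPt 0) i 4 4) (vecA i j s t) ≠ 0
        rw [dotInt_vecA]
        unfold vecA
        simp only [Pi.add_apply, Pi.single_apply, if_true]
        rw [if_neg hi, if_neg hj, if_neg hij]
        rcases hs with rfl | rfl <;> norm_num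
  -- all minimal vectors
  have step4 : ∀ x : leechLattice, sqNorm (x : GolayPt → ℤ) = 32 → g • x = x := by
    intro x hx
    have hx0 : ∃ i, (x : GolayPt → ℤ) i ≠ 0 := by
      by_contra hcon
      push Not at hcon
      have : (x : GolayPt → ℤ) = 0 := funext hcon
      rw [this] at hx
      unfold sqNorm at hx
      simp at hx
    obtain ⟨i, hi⟩ := hx0
    obtain ⟨j, hji, _, _⟩ := exists_ne i i i
    by_cases hd : 4 * (x : GolayPt → ℤ) i + 4 * (x : GolayPt → ℤ) j ≠ 0
    · apply fix_of_dot_ne hg hx (step3 i j hji.symm 4 4 (Or.inl rfl) (Or.inl rfl))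
      show dotInt (vecA i j 4 4) _ ≠ 0
      rw [dotInt_vecA]
      exact hd
    · apply fix_of_dot_ne hg hx (step3 i j hji.symm 4 (-4) (Or.inl rfl) (Or.inr rfl))
      show dotInt (vecA i j 4 (-4)) _ ≠ 0
      rw [dotInt_vecA]
      push Not at hd
      omega
  -- the whole lattice
  apply Co0_ext
  intro v
  rw [one_smul]
  have key : ∀ x (hx : x ∈ minGen), ∀ hx' : x ∈ leechLattice,
      ((g • (⟨x, hx'⟩ : leechLattice) : leechLattice) : GolayPt → ℤ) = x := by
    intro x hx
    unfold minGen at hx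
    induction hx using AddSubgroup.closure_induction with
    | mem x hx =>
      intro hx'
      rw [step4 ⟨x, hx'⟩ hx.2]
    | zero =>
      intro hx'
      have : (⟨0, hx'⟩ : leechLattice) = 0 := rfl
      rw [this, Co0_smul_zero]
      rfl
    | add x y hxm hym ihx ihy =>
      intro hx'
      have hxl : x ∈ leechLattice := by rw [← minGen_eq]; exact hxm
      have hyl : y ∈ leechLattice := by rw [← minGen_eq]; exact hym
      have : (⟨x + y, hx'⟩ : leechLattice) = ⟨x, hxl⟩ + ⟨y, hyl⟩ := rfl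
      rw [this, Co0_smul_add, AddSubgroup.coe_add, ihx hxl, ihy hyl]
    | neg x hxm ihx =>
      intro hx'
      have hxl : x ∈ leechLattice := by rw [← minGen_eq]; exact hxm
      have : (⟨-x, hx'⟩ : leechLattice) = -⟨x, hxl⟩ := rfl
      rw [this, Co0_smul_neg, AddSubgroup.coe_neg, ihx hxl]
  have hv : (v : GolayPt → ℤ) ∈ minGen := by rw [minGen_eq]; exact v.2
  exact key v.1 hv v.2

end Faithful

/-- An automorphism acting trivially modulo twice the lattice is central. -/
theorem mem_center_of_trivial_mod2 (g : Co0)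
    (hg : ∀ v : leechLattice, ∃ w : leechLattice,
      ((g • v : leechLattice) : GolayPt → ℤ) - (v : GolayPt → ℤ) = 2 • (w : GolayPt → ℤ)) :
    g ∈ Subgroup.center Co0 := by
  set a0 : leechLattice :=
    ⟨vecA (gPt 0) (gPt 1) 4 4, vecA_mem (by decide) (Or.inl rfl) (Or.inl rfl)⟩ with ha0
  rcases fix_or_neg hg a0 (sqNorm_vecA (by decide) (Or.inl rfl) (Or.inl rfl)) with h | h
  · rw [eq_one_of_fix hg h]
    exact Subgroup.one_mem _
  · have hg' : ∀ v : leechLattice, ∃ w : leechLattice,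
        (((negCo0 * g) • v : leechLattice) : GolayPt → ℤ) - (v : GolayPt → ℤ)
          = 2 • (w : GolayPt → ℤ) := by
      intro v
      obtain ⟨w, hw⟩ := hg v
      refine ⟨-w - v, ?_⟩
      rw [mul_smul, negCo0_smul]
      have : ((-w - v : leechLattice) : GolayPt → ℤ) = -(w : GolayPt → ℤ) - (v : GolayPt → ℤ) := rfl
      rw [this, smul_sub, smul_neg, ← hw, two_nsmul]
      abel
    have h' : (negCo0 * g) • a0 = a0 := by
      rw [mul_smul, h]
      apply Subtype.ext
      rw [negCo0_smul]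
      simp
    have e := eq_one_of_fix hg' h'
    have : g = negCo0 := by
      have h2 : negCo0 * (negCo0 * g) = negCo0 * 1 := by rw [e]
      rw [← mul_assoc, negCo0_sq, one_mul, mul_one] at h2
      exact h2
    rw [this]
    exact negCo0_mem_center

/-! ### Irreducibility -/

section Irreducible

variable {M : AddSubgroup (GolayPt → ℤ)} (h2 : ∀ v ∈ leechLattice, (2 : ℤ) • v ∈ M)
  (hinv : ∀ g : Co0, ∀ v : leechLattice, (v : GolayPt → ℤ) ∈ M →
    ((g • v : leechLattice) : GolayPt → ℤ) ∈ M)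

include hinv

theorem le_of_min_mem {y : GolayPt → ℤ} (hy : y ∈ leechLattice) (hyn : sqNorm y = 32)
    (hyM : y ∈ M) : leechLattice ≤ M := by
  rw [← minGen_eq]
  unfold minGen
  rw [AddSubgroup.closure_le]
  rintro x ⟨hx, hxn⟩
  obtain ⟨g, hg⟩ := co0_trans32 ⟨y, hy⟩ ⟨x, hx⟩ hyn hxn
  have := hinv g ⟨y, hy⟩ hyM
  rw [hg] at this
  exact this

theorem le_of_48_mem {y : GolayPt → ℤ} (hy : y ∈ leechLattice) (hyn : sqNorm y = 48)
    (hyM : y ∈ M) : leechLattice ≤ M := by
  have hall : ∀ x : leechLattice, sqNorm (x : GolayPt → ℤ) = 48 → (x : GolayPt → ℤ) ∈ M := by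
    intro x hxn
    obtain ⟨g, hg⟩ := co0_trans48 ⟨y, hy⟩ x hyn hxn
    have := hinv g ⟨y, hy⟩ hyM
    rw [hg] at this
    exact this
  have ha : vecA (gPt 0) (gPt 1) 4 (-4) ∈ leechLattice :=
    vecA_mem (by decide) (Or.inl rfl) (Or.inr rfl)
  have h1 := hall u5 sqNorm_u5
  have h2' := hall (u5 - ⟨_, ha⟩) (by
    show sqNorm (u5fun - vecA (gPt 0) (gPt 1) 4 (-4)) = 48
    unfold u5fun vecA
    decide +kernel)
  have h3 : vecA (gPt 0) (gPt 1) 4 (-4) ∈ M := by
    have := M.sub_mem h1 h2'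
    have e : ((u5 : leechLattice) : GolayPt → ℤ) - ((u5 - ⟨_, ha⟩ : leechLattice) : GolayPt → ℤ)
        = vecA (gPt 0) (gPt 1) 4 (-4) := by
      show (u5 : GolayPt → ℤ) - ((u5 : GolayPt → ℤ) - vecA (gPt 0) (gPt 1) 4 (-4)) = _
      abel
    rwa [e] at this
  exact le_of_min_mem hinv ha (sqNorm_vecA (by decide) (Or.inl rfl) (Or.inr rfl)) h3

/-- `(4, 4, 4, 4, 0, …)`. -/
def y44fun : GolayPt → ℤ := fun p =>
  if p ∈ ({gPt 0, gPt 1, gPt 2, gPt 3} : Finset GolayPt) then 4 else 0

theorem le_of_64_mem {y : GolayPt → ℤ} (hy : y ∈ leechLattice) (hyn : sqNorm y = 64)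
    (hyM : y ∈ M) : leechLattice ≤ M := by
  have hall : ∀ x : leechLattice, sqNorm (x : GolayPt → ℤ) = 64 → (x : GolayPt → ℤ) ∈ M := by
    intro x hxn
    obtain ⟨g, hg⟩ := co0_trans64 ⟨y, hy⟩ x hyn hxn
    have := hinv g ⟨y, hy⟩ hyM
    rw [hg] at this
    exact this
  have ha : vecA (gPt 0) (gPt 4) 4 (-4) ∈ leechLattice :=
    vecA_mem (by decide) (Or.inl rfl) (Or.inr rfl)
  have hy1 : y44fun ∈ leechLattice := mem_of_inLeech (by decide +kernel)
  have h1 := hall ⟨y44fun, hy1⟩ (by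
    show sqNorm y44fun = 64
    decide +kernel)
  have h2' := hall (⟨y44fun, hy1⟩ - ⟨_, ha⟩) (by
    show sqNorm (y44fun - vecA (gPt 0) (gPt 4) 4 (-4)) = 64
    unfold y44fun vecA
    decide +kernel)
  have h3 : vecA (gPt 0) (gPt 4) 4 (-4) ∈ M := by
    have := M.sub_mem h1 h2'
    have e : ((⟨y44fun, hy1⟩ : leechLattice) : GolayPt → ℤ)
        - (((⟨y44fun, hy1⟩ : leechLattice) - ⟨_, ha⟩ : leechLattice) : GolayPt → ℤ)
        = vecA (gPt 0) (gPt 4) 4 (-4) := by
      show y44fun - (y44fun - vecA (gPt 0) (gPt 4) 4 (-4)) = _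
      abel
    rwa [e] at this
  exact le_of_min_mem hinv ha (sqNorm_vecA (by decide) (Or.inl rfl) (Or.inr rfl)) h3

include h2

/-- A `Co0`-invariant subgroup between twice the lattice and the lattice is one of the two. -/
theorem invariant_sub_cases (hM : M ≤ leechLattice) :
    (∀ x ∈ M, ∃ w ∈ leechLattice, x = (2 : ℤ) • w) ∨ M = leechLattice := by
  by_cases hall : ∀ x ∈ M, ∃ w ∈ leechLattice, x = (2 : ℤ) • w
  · exact Or.inl hall
  · right
    push Not at hall
    obtain ⟨x, hxM, hx⟩ := hall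
    obtain ⟨y, hy, hyn, z, hz, hxyz⟩ := exists_short x (hM hxM)
    have hyM : y ∈ M := by
      have : y = x - (2 : ℤ) • z := by
        have e : (2 : ℕ) • z = (2 : ℤ) • z := by
          rw [two_nsmul, two_zsmul]
        rw [← e, ← hxyz]
        abel
      rw [this]
      exact M.sub_mem hxM (h2 z hz)
    have hy0 : y ≠ 0 := by
      rintro rfl
      apply hx z hz
      rw [sub_zero] at hxyz
      rw [hxyz, two_nsmul, two_zsmul]
    apply le_antisymm hM
    rcases norm_cases hy hyn with h | h | h | h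
    · exact absurd h hy0
    · exact le_of_min_mem hinv hy h hyM
    · exact le_of_48_mem hinv hy h hyM
    · exact le_of_64_mem hinv hy h hyM

end Irreducible

end Cfsg.Agent.Lib.H27
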