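/-
helper27 library (generated data): candidates for the involutions of `M24` with prescribed images of five
base points, with conjugating words to two representatives.
-/
import Mathlib
import Cfsg.Prelude.Def_Sporadic_a
import Cfsg.Agent.Lib.H28.M24OctadOrbits

set_option autoImplicit false

namespace Cfsg.Agent.Lib.H27

open Cfsg Cfsg.Agent.Lib.H28

namespace InvNF

/-- A word of an involution fixing the points of an octad. -/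
def rAw : List ℕ := [2,0,3,1,1,1,1,3,1,3,1,4,4,1,1,3,3,0,4,4,0,0,4,4,0,3,1,4,4,0,4,0,4,0,0,0,4,0,4,4,3,0,3,0,3,1,4,0,4,4,0,0,3,0,3]

/-- A word of an involution without fixed points. -/
def rBw : List ℕ := [2,0,3,1,1,1,1,3,1,3,1,4,4,1,1,0,3,3,1,4,1,1,1,3,1,3,0,3,3,1,4,1,1,1,3,0,3,3,0]

/-- Equality of the permutations of two words, on indices. -/
def eqW (u v : List ℕ) : Bool := (List.range 24).all (fun k => evalPt u k == evalPt v k)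

/-- A table is an involution. -/
def isInvTab (t : List ℕ) : Bool :=
  (List.range 24).all (fun k => t.getD (t.getD k 0) 0 == k) && (List.range 24).any (fun k => t.getD k 0 != k)

/-- The candidate word. -/
def candWord (tw : List ℕ) (z5 z6 : ℕ) : List ℕ :=
  tw ++ ((witTab.getD 5 []).getD z5 [] ++ (witTab.getD 6 []).getD z6 [])

/-- The check of one candidate, with an optional certificate (conjugating word, class). -/
def candOK (tw : List ℕ) (z5 z6 : ℕ) (cert : Option (List ℕ × Bool)) : Bool :=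
  match cert with
  | none => !(isInvTab (wordTab (candWord tw z5 z6)))
  | some (c, b) => eqW (c ++ (candWord tw z5 z6 ++ invWord c)) (if b then rAw else rBw)

/-- The lookup of a certificate. -/
def lookup (certs : List (ℕ × ℕ × List ℕ × Bool)) (z5 z6 : ℕ) : Option (List ℕ × Bool) :=
  (certs.find? (fun e => e.1 == z5 && e.2.1 == z6)).map (fun e => e.2.2)

/-- The check of a pattern: images `Y` of the first five base points, transversal word `tw`. -/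
def patOK (p : List ℕ × List ℕ × List (ℕ × ℕ × List ℕ × Bool)) : Bool :=
  (List.range 5).all (fun i => evalPt p.2.1 (basePts.getD i 0) == p.1.getD i 0) &&
  (List.range 24).all (fun z5 => (List.range 24).all (fun z6 =>
    !(levelSet 5 z5 && levelSet 6 z6) || candOK p.2.1 z5 z6 (lookup p.2.2 z5 z6)))

/-- The patterns: images of the five base points, a transversal word, certificates. -/
def patTab : List (List ℕ × List ℕ × List (ℕ × ℕ × List ℕ × Bool)) := [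
  ([0,23,2,1,3], [2,0,3,1,1,1,1,3,1,3,1,4,4,1,1,3,3,0,4,4,0,0,4,4,0,3,1], [(6, 17, [], true), (7, 17, [4,0,2,4,0,2,3,3], true), (19, 14, [3,1,1,2,3,3,0], true), (21, 17, [1,3,1,1,2,1,4,1], true)]),
  ([0,23,2,1,4], [2,0,3,1,1,1,1,3,1,3,1,4,4,1,1,0,3,3,1,4,1,1,1,3,1,3,0], [(12, 5, [], false), (12, 14, [1,1,2,3,3,0,0,2,4], false), (12, 17, [0,3,0,3,0,3], false)]),
  ([0,23,2,1,5], [2,0,3,1,1,1,1,3,1,3,1,4,4,1,1,4,4,1,1,1,1,1,1,4,0,4], [(4, 17, [0,2,1], false), (9, 14, [1,3,1,2,0,4,1], true), (10, 5, [4,0,0,3,0,3,3,0], false), (13, 5, [3,0,2,3,0,0,4,1,3], false), (15, 14, [1,1,1,3,1,4,0,0,2], false), (16, 14, [4,0,0,3,1,1,2,0], false), (20, 5, [4,0,3,1,3,1,1], true), (22, 17, [1,3,1,4,0,4,0,0], false)]),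
  ([0,23,2,1,6], [2,0,3,1,1,1,1,3,1,3,1,4,4,1,1,3,0,0,0,3,3,1,4,0], [(4, 17, [0,0,4,1,1,2,0,0,3], false), (6, 14, [0,2,3,1,2,0,4,4], false), (15, 17, [0,2,3,1,1,2,1,4], false)]),
  ([0,23,2,1,7], [2,0,3,1,1,1,1,3,1,3,1,4,4,1,1,1,3,0,4,4,1,1,1,4], [(8, 17, [0,3,0,2,4,4,0,2,4], false), (16, 5, [3,1,4,1,4,1,3,3], false), (19, 14, [0,3,0,2,4,4,0], false)]),
  ([0,23,2,1,8], [2,0,3,1,1,1,1,3,1,3,1,4,4,1,1,3,3,2,0,0,0,3,1,1,2,3], [(7, 5, [2,3,3], false), (11, 5, [0,2,3,3,0,3,3,1,1], false), (13, 5, [4,1,1,2,0,0,3,3], false)]),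
  ([0,23,2,1,9], [2,0,3,1,1,1,1,3,1,3,1,4,4,1,1,1,1,3,1,4,1,1,3,3], [(4, 5, [2,1,4,0,2,3,3,1], false), (8, 14, [0,2,3,0,3,0,3], false), (21, 14, [1,3,1,1,2,0], false)]),
  ([0,23,2,1,10], [2,0,3,1,1,1,1,3,1,3,1,4,4,1,1,0,0,0,0,0,4,0,0,0,4,1,4,1], [(13, 17, [4,1,4,1,2,4,1], false), (20, 5, [2,4,4,1,3,3,0,0], false), (21, 5, [1,3,0,4,4,1,1,1,4], false)]),
  ([0,23,2,1,11], [2,0,3,1,1,1,1,3,1,3,1,4,4,1,1,1,4,1,3,3,0,0,3,0,3,1], [(7, 5, [1,4,1,1,3,1,1,4], false), (16, 14, [2,0,0,4,0,4,1], false), (18, 17, [2,3,3,0,2,1], false)]),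
  ([0,23,2,1,12], [2,0,3,1,1,1,1,3,1,3,1,4,4,1,1,0,0,0,0,0,4,0,0,0,0,3], [(8, 5, [2,3,1,4,1,2,4,1], false), (16, 14, [2,3,1,4,1,4,1], false), (19, 17, [1,1,2,1,3,1,4,1,1], false)]),
  ([0,23,2,1,13], [2,0,3,1,1,1,1,3,1,3,1,4,4,1,1,4,1,1,1,1,3,1,1,1,1,1], [(6, 5, [2,1,4,0,3,3,1], false), (7, 17, [0,2,4,1,4,4,0,3,1], false), (21, 14, [1,1,2,4,1,4,1,4,4], false)]),
  ([0,23,2,1,14], [2,0,3,1,1,1,1,3,1,3,1,4,4,1,1,3,1,1,4,1,1,3,0,4,4,1], [(6, 14, [3,0,0,2,3,1,2], false), (7, 14, [3,1,3,3,0,0], true), (8, 5, [0,2,4,4,0,0,0,3,1], false), (11, 5, [1,1,1,3,0,0,0,2,3], false), (12, 14, [0,3,1,3,1,1,3], false), (18, 17, [4,0,3,1,1,1,1,4], false), (19, 5, [1,2,3,1,1,3,1,1], true), (21, 14, [0,3,1,3,0,3,1,1], false)]),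
  ([0,23,2,1,15], [2,0,3,1,1,1,1,3,1,3,1,4,4,1,1,4,1,3,1,3,1,4,0,3,0], [(9, 17, [3,0,3,1,3,1,1], false), (12, 14, [1,3,1,4,1,4,0,2,3], false), (19, 14, [1,1,1,1,2,0,4,0], false)]),
  ([0,23,2,1,16], [2,0,3,1,1,1,1,3,1,3,1,4,4,1,1,1,3,1,4,0,3,3,0,3,3], [(7, 17, [0,0,0,2,1,4], false), (19, 5, [4,1,1,2,0,0,3], false), (21, 5, [0,0,0,3,0,0,2,4,1], false)]),
  ([0,23,2,1,17], [2,0,3,1,1,1,1,3,1,3,1,4,4,1,1,0,3,0,3,0,3], [(6, 14, [1,3,1,2,3,0,3,1,4], false), (7, 14, [4,1,4,1,1,1,1,1], false), (9, 5, [4,0,4,4,0,0,0,3,1], false), (10, 17, [0,3,0,3,0,3], true), (15, 5, [0,2,0,4,0,4,1,3], false), (19, 5, [2,0,0,3,0,4,0,0], false), (20, 17, [1,4,1,1,3,1,1,3], true), (21, 14, [1,1,1,1,1,1,4,0], false)]),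
  ([0,23,2,1,18], [2,0,3,1,1,1,1,3,1,3,1,4,4,1,1,1,4,1,3,0,4,0,4,0,3], [(7, 14, [2,0,0,4,0,2,4,1], false), (8, 17, [2,0,3,1,2,4,1,1,2], false), (20, 5, [4,4,0,3,0,3,0], false)]),
  ([0,23,2,1,19], [2,0,3,1,1,1,1,3,1,3,1,4,4,1,1], [(7, 5, [2,0,0,0,2,1,1,3,0], false), (9, 5, [0,0,0,0,0,3,0], false), (18, 5, [0,4,1,2,4,4,0,2,3], false)]),
  ([0,23,2,1,20], [2,0,3,1,1,1,1,3,1,3,1,4,4,1,1,4,4,0,0,3,0,4,0,0], [(6, 14, [1,3,0,4,4,1,1,1], false), (8, 14, [1,1,4,4,0,2,4], false), (13, 14, [1,3,0,2,1,4,4,0,2], false)]),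
  ([0,23,2,1,21], [2,0,3,1,1,1,1,3,1,3,1,4,4,1,1,1,4,4,1,1,1,4,1,3,0,0], [(7, 5, [0,4,1,1,2,4,4,0,0], false), (11, 14, [0,0,0,3,0,0,4,1], false), (15, 5, [1,1,1,2,3,0,3,0,2,3], false)]),
  ([0,23,2,1,22], [2,0,3,1,1,1,1,3,1,3,1,4,4,1,1,0,3,3,1,4,0,0,3,0,0,4], [(9, 14, [3,3,0,2,4,4,1,4], false), (10, 17, [2,0,0,4,0,0,2,1,4], false), (20, 14, [0,4,1,3,0,3,1,3,3], false)]),
  ([0,23,1,2,3], [2,0,0,3,3,0,4,0,4,1,1,4,1,4,4,1,1,1,4,4,1,1,1,4,1,3,0,0], [(4, 5, [1,2,1,4,1,1,3], true), (6, 17, [3,0,3,1,2,0,3], true), (7, 14, [1,2,0,0,0,0], true), (8, 14, [1,2,0,3,3,0,0,0], true), (9, 5, [1,2,1,1,4,0,2], true), (12, 17, [1,2,0,4,0,0,0,3], true), (15, 5, [1,3,3,0,0,2], true), (19, 17, [1,4,4,1,2,4,1,4], true), (21, 5, [1,3,3,0,0,2,4,4], true), (21, 14, [1,2,3,1,4,1], true), (21, 17, [1,2,3,3,0,3], true), (22, 5, [0,0,0,0,4,1,3], true)])]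

theorem patTab_ok : patTab.all patOK = true := by decide +kernel

end InvNF

end Cfsg.Agent.Lib.H27
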