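/-
helper27 library: the involutions of `M24` fall into two conjugacy classes (fixed set an octad, or no
fixed point).
-/
import Mathlib
import Cfsg.Prelude.Def_Sporadic_a
import Cfsg.Agent.Lib.H28.M24Order
import Cfsg.Agent.Lib.H28.M24Octad
import Cfsg.Agent.Lib.H28.M24OctadOrbits
import Cfsg.Agent.Lib.H27.InvNFData

set_option autoImplicit false

namespace Cfsg.Agent.Lib.H27

open Cfsg Cfsg.Agent.Lib.H28
open scoped Pointwise

namespace InvNF

theorem wordPerm_eq_of_eqW {u v : List ℕ} (h : eqW u v = true) : wordPerm u = wordPerm v := by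
  apply Equiv.ext
  intro p
  apply gIdx_injective
  rw [gIdx_wordPerm, gIdx_wordPerm]
  have := List.all_eq_true.1 h (gIdx p) (List.mem_range.2 (gIdx_lt p))
  rwa [beq_iff_eq] at this

/-- One step down the stabilizer chain. -/
theorem level_step (k : ℕ) (hk : k < 7) {g : Equiv.Perm GolayPt} (hg : g ∈ fixSub M24 (levelFix k)) :
    ∃ z < 24, levelSet k z = true ∧
      (wordPerm ((witTab.getD k []).getD z []))⁻¹ * g ∈ fixSub M24 (levelFix (k + 1)) := by
  have h5 := level_le k hk g hg
  rw [mem_ptsOf] at h5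
  refine ⟨gIdx (g (gPt (basePts.getD k 0))), gIdx_lt _, h5, ?_⟩
  set z := gIdx (g (gPt (basePts.getD k 0))) with hz
  have hw : levelOK k z ((witTab.getD k []).getD z []) = true := by
    have h1 := List.all_eq_true.1 (List.all_eq_true.1 witTab_ok_all k (List.mem_range.2 hk)) z
      (List.mem_range.2 (gIdx_lt _))
    rw [Bool.or_eq_true, h5] at h1
    rcases h1 with h1 | h1
    · simp at h1
    · exact h1
  obtain ⟨hfix, hmap⟩ := levelOK_spec hk hw
  have hg' := mem_fixSub.1 hg
  rw [mem_fixSub]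
  refine ⟨M24.mul_mem (M24.inv_mem (wordPerm_mem_M24 _)) hg'.1, ?_⟩
  intro j hj
  rw [levelFix_succ k hk] at hj
  rcases List.mem_cons.1 hj with rfl | hj
  · rw [Equiv.Perm.mul_apply, Equiv.Perm.inv_eq_iff_eq, hmap, hz, gPt_gIdx]
  · rw [Equiv.Perm.mul_apply, hg'.2 j hj, Equiv.Perm.inv_eq_iff_eq]
    obtain ⟨i, hi, rfl⟩ := levelFix_sub k (by omega) j hj
    exact (hfix i hi).symm

/-- The elements of `M24` fixing five base points. -/
theorem exists_word_of_fix5 {g : Equiv.Perm GolayPt} (hg : g ∈ fixSub M24 (levelFix 5)) :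
    ∃ z5 z6, z5 < 24 ∧ z6 < 24 ∧ levelSet 5 z5 = true ∧ levelSet 6 z6 = true ∧
      g = wordPerm ((witTab.getD 5 []).getD z5 [] ++ (witTab.getD 6 []).getD z6 []) := by
  obtain ⟨z5, hz5, hl5, hg1⟩ := level_step 5 (by norm_num) hg
  obtain ⟨z6, hz6, hl6, hg2⟩ := level_step 6 (by norm_num) hg1
  refine ⟨z5, z6, hz5, hz6, hl5, hl6, ?_⟩
  have h7 : (wordPerm ((witTab.getD 6 []).getD z6 []))⁻¹ *
      ((wordPerm ((witTab.getD 5 []).getD z5 []))⁻¹ * g) = 1 := by
    have : (wordPerm ((witTab.getD 6 []).getD z6 []))⁻¹ *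
      ((wordPerm ((witTab.getD 5 []).getD z5 []))⁻¹ * g) ∈ (⊥ : Subgroup (Equiv.Perm GolayPt)) := by
      rw [← fixSub_M24_top]
      exact hg2
    exact Subgroup.mem_bot.1 this
  rw [wordPerm_append]
  rw [inv_mul_eq_one, eq_inv_mul_iff_mul_eq] at h7
  exact h7.symm

/-- The elements of `M24` with given images of five base points. -/
theorem exists_cand {g : Equiv.Perm GolayPt} (hg : g ∈ M24) (Y tw : List ℕ)
    (htw : ∀ i < 5, evalPt tw (basePts.getD i 0) = Y.getD i 0)
    (himg : ∀ i < 5, g (gPt (basePts.getD i 0)) = gPt (Y.getD i 0)) :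
    ∃ z5 z6, z5 < 24 ∧ z6 < 24 ∧ levelSet 5 z5 = true ∧ levelSet 6 z6 = true ∧
      g = wordPerm (candWord tw z5 z6) := by
  have hb : ∀ i < 5, basePts.getD i 0 < 24 := by decide
  have ht : ∀ i < 5, wordPerm tw (gPt (basePts.getD i 0)) = gPt (Y.getD i 0) := by
    intro i hi
    exact wordPerm_gPt (hb i hi) (htw i hi)
  have hmem : (wordPerm tw)⁻¹ * g ∈ fixSub M24 (levelFix 5) := by
    rw [mem_fixSub]
    refine ⟨M24.mul_mem (M24.inv_mem (wordPerm_mem_M24 _)) hg, ?_⟩
    intro j hj
    obtain ⟨i, hi, rfl⟩ := levelFix_sub 5 (by norm_num) j hj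
    rw [Equiv.Perm.mul_apply, himg i hi, Equiv.Perm.inv_eq_iff_eq, ht i hi]
  obtain ⟨z5, z6, h1, h2, h3, h4, h5⟩ := exists_word_of_fix5 hmem
  refine ⟨z5, z6, h1, h2, h3, h4, ?_⟩
  unfold candWord
  rw [wordPerm_append, ← h5, mul_inv_cancel_left]

theorem isInvTab_of_order {w : List ℕ} (h2 : orderOf (wordPerm w) = 2) :
    isInvTab (wordTab w) = true := by
  have hsq : wordPerm w * wordPerm w = 1 := by
    rw [← sq, ← h2]; exact pow_orderOf_eq_one _
  have hne : wordPerm w ≠ 1 := by
    intro h
    rw [h, orderOf_one] at h2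
    norm_num at h2
  unfold isInvTab
  rw [Bool.and_eq_true, List.all_eq_true, List.any_eq_true]
  constructor
  · intro k hk
    rw [List.mem_range] at hk
    rw [beq_iff_eq]
    have h1 := wordTab_spec w (gPt k)
    rw [gIdx_gPt hk] at h1
    have h3 := wordTab_spec w (wordPerm w (gPt k))
    rw [h1] at h3
    rw [← h3, ← Equiv.Perm.mul_apply, hsq, Equiv.Perm.one_apply, gIdx_gPt hk]
  · by_contra hcon
    apply hne
    apply Equiv.ext
    intro p
    rw [Equiv.Perm.one_apply]
    apply gIdx_injective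
    rw [wordTab_spec]
    by_contra hp
    apply hcon
    refine ⟨gIdx p, List.mem_range.2 (gIdx_lt p), ?_⟩
    rw [bne_iff_ne]
    exact hp

/-- An involution of `M24` matching a pattern is conjugate to one of the two representatives. -/
theorem conj_of_pat (p : List ℕ × List ℕ × List (ℕ × ℕ × List ℕ × Bool)) (hp : p ∈ patTab)
    {g : Equiv.Perm GolayPt} (hg : g ∈ M24) (h2 : orderOf g = 2)
    (himg : ∀ i < 5, g (gPt (basePts.getD i 0)) = gPt (p.1.getD i 0)) :
    ∃ k ∈ M24, k * g * k⁻¹ = wordPerm rAw ∨ k * g * k⁻¹ = wordPerm rBw := by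
  have hok := List.all_eq_true.1 patTab_ok p hp
  unfold patOK at hok
  rw [Bool.and_eq_true, List.all_eq_true, List.all_eq_true] at hok
  obtain ⟨htw, hall⟩ := hok
  have htw' : ∀ i < 5, evalPt p.2.1 (basePts.getD i 0) = p.1.getD i 0 := by
    intro i hi
    have := htw i (List.mem_range.2 hi)
    rwa [beq_iff_eq] at this
  obtain ⟨z5, z6, h1, h2', h3, h4, h5⟩ := exists_cand hg p.1 p.2.1 htw' himg
  have hc := List.all_eq_true.1 (hall z5 (List.mem_range.2 h1)) z6 (List.mem_range.2 h2')
  rw [h3, h4, Bool.and_self, Bool.not_true, Bool.false_or] at hc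
  unfold candOK at hc
  rcases hlk : lookup p.2.2 z5 z6 with _ | ⟨c, b⟩
  · rw [hlk] at hc
    simp only at hc
    rw [h5] at h2
    rw [isInvTab_of_order h2] at hc
    simp at hc
  · rw [hlk] at hc
    simp only at hc
    have heq := wordPerm_eq_of_eqW hc
    rw [wordPerm_append, wordPerm_append, wordPerm_invWord, ← h5, ← mul_assoc] at heq
    refine ⟨wordPerm c, wordPerm_mem_M24 c, ?_⟩
    cases b
    · right; simpa using heq
    · left; simpa using heq

theorem pat_swap_bool : (List.range 24).all (fun y4 => [23, 0, 1, 2].contains y4 ||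
    patTab.any (fun p => p.1 == [0, 23, 2, 1, y4])) = true := by decide +kernel

theorem pat_swap : ∀ y4 < 24, y4 ≠ 23 → y4 ≠ 0 → y4 ≠ 1 → y4 ≠ 2 →
    ∃ p ∈ patTab, p.1 = [0, 23, 2, 1, y4] := by
  intro y4 hy h1 h2 h3 h4
  have h := List.all_eq_true.1 pat_swap_bool y4 (List.mem_range.2 hy)
  rw [Bool.or_eq_true] at h
  rcases h with h | h
  · exfalso
    simp only [List.contains_eq_mem, List.mem_cons, List.not_mem_nil, or_false, decide_eq_true_eq] at h
    rcases h with h | h | h | h
    · exact h1 h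
    · exact h2 h
    · exact h3 h
    · exact h4 h
  · rw [List.any_eq_true] at h
    obtain ⟨p, hp, hpe⟩ := h
    exact ⟨p, hp, by rwa [beq_iff_eq] at hpe⟩

theorem pat_fix_bool : patTab.any (fun p => p.1 == [0, 23, 1, 2, 3]) = true := by decide +kernel

theorem pat_fix : ∃ p ∈ patTab, p.1 = [0, 23, 1, 2, 3] := by
  have h := pat_fix_bool
  rw [List.any_eq_true] at h
  obtain ⟨p, hp, hpe⟩ := h
  exact ⟨p, hp, by rwa [beq_iff_eq] at hpe⟩

theorem inj5 {α : Type*} {a b c d e : α} (hab : a ≠ b) (hac : a ≠ c) (had : a ≠ d) (hae : a ≠ e)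
    (hbc : b ≠ c) (hbd : b ≠ d) (hbe : b ≠ e) (hcd : c ≠ d) (hce : c ≠ e) (hde : d ≠ e) :
    Function.Injective ![a, b, c, d, e] := by
  intro i j hij
  fin_cases i <;> fin_cases j <;> first
    | rfl
    | (exfalso
       simp only [Fin.zero_eta, Fin.mk_one, Fin.reduceFinMk, Matrix.cons_val_zero, Matrix.cons_val_one,
         Matrix.cons_val] at hij
       first
        | exact hab hij | exact hac hij | exact had hij | exact hae hij | exact hbc hij | exact hbd hij
        | exact hbe hij | exact hcd hij | exact hce hij | exact hde hij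
        | exact hab hij.symm | exact hac hij.symm | exact had hij.symm | exact hae hij.symm
        | exact hbc hij.symm | exact hbd hij.symm
        | exact hbe hij.symm | exact hcd hij.symm | exact hce hij.symm | exact hde hij.symm)

theorem exists_notMem_of_card {S : Finset GolayPt} (h : S.card < 24) : ∃ e, e ∉ S := by
  by_contra hcon
  have hcon' : ∀ e, e ∈ S := by
    intro e
    by_contra he
    exact hcon ⟨e, he⟩
  have : S = Finset.univ := Finset.eq_univ_iff_forall.2 hcon'
  rw [this, Finset.card_univ] at h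
  have hc : Fintype.card GolayPt = 24 := by
    show Fintype.card (Option (ZMod 23)) = 24
    rw [Fintype.card_option, ZMod.card]
  omega

theorem base_inj : Function.Injective (fun i : Fin 5 => gPt (basePts.getD i.val 0)) := by
  intro i j h
  have h' := congrArg gIdx h
  have hb : ∀ i : Fin 5, gIdx (gPt (basePts.getD i.val 0)) = basePts.getD i.val 0 := by
    intro i
    apply gIdx_gPt
    revert i; decide
  simp only [hb] at h'
  revert i j
  decide

/-- Every involution of `M24` is conjugate to one of the two representatives. -/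
theorem exists_conj_rep {g : Equiv.Perm GolayPt} (hg : g ∈ M24) (h2 : orderOf g = 2) :
    ∃ k ∈ M24, k * g * k⁻¹ = wordPerm rAw ∨ k * g * k⁻¹ = wordPerm rBw := by
  classical
  have hsq : ∀ p, g (g p) = p := by
    intro p
    have : g * g = 1 := by rw [← sq, ← h2]; exact pow_orderOf_eq_one _
    rw [← Equiv.Perm.mul_apply, this, Equiv.Perm.one_apply]
  have hne : g ≠ 1 := by
    intro h
    rw [h, orderOf_one] at h2
    norm_num at h2
  obtain ⟨a, ha⟩ : ∃ a, g a ≠ a := by
    by_contra hcon
    apply hne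
    apply Equiv.ext
    intro p
    by_contra hp
    exact hcon ⟨p, hp⟩
  set b := g a with hb
  have hgb : g b = a := hsq a
  have hab : a ≠ b := fun h => ha h.symm
  -- the conjugation step, for five points `x` with images `x'`
  have key : ∀ (x x' : Fin 5 → GolayPt), Function.Injective x → (∀ i, g (x i) = x' i) →
      ∃ k ∈ M24, (∀ i : Fin 5, k (x i) = gPt (basePts.getD i.val 0)) ∧
        ∀ i : Fin 5, (k * g * k⁻¹) (gPt (basePts.getD i.val 0)) = k (x' i) := by
    intro x x' hx hxx'
    obtain ⟨k, hk, hmap⟩ := exists_M24_map (le_refl 5) x _ hx base_inj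
    refine ⟨k, hk, hmap, ?_⟩
    intro i
    rw [← hmap i, Equiv.Perm.mul_apply, Equiv.Perm.mul_apply, Equiv.Perm.inv_def, Equiv.symm_apply_apply, hxx' i]
  -- finish from a conjugate matching a pattern
  have fin : ∀ (k : Equiv.Perm GolayPt), k ∈ M24 →
      (∃ p ∈ patTab, ∀ i < 5, (k * g * k⁻¹) (gPt (basePts.getD i 0)) = gPt (p.1.getD i 0)) →
      ∃ k ∈ M24, k * g * k⁻¹ = wordPerm rAw ∨ k * g * k⁻¹ = wordPerm rBw := by
    intro k hk ⟨p, hp, himg⟩
    have ho : orderOf (k * g * k⁻¹) = 2 := by
      rw [← h2]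
      exact (SemiconjBy.orderOf_eq k (show SemiconjBy k g (k * g * k⁻¹) by
        unfold SemiconjBy; group)).symm
    obtain ⟨k', hk', h⟩ := conj_of_pat p hp (M24.mul_mem (M24.mul_mem hk hg) (M24.inv_mem hk)) ho himg
    refine ⟨k' * k, M24.mul_mem hk' hk, ?_⟩
    have e : k' * k * g * (k' * k)⁻¹ = k' * (k * g * k⁻¹) * k'⁻¹ := by group
    rw [e]
    exact h
  by_cases hcase : ∃ c, c ≠ a ∧ c ≠ b ∧ g c ≠ c
  · obtain ⟨c, hca, hcb, hc⟩ := hcase
    set d := g c with hd
    have hgd : g d = c := hsq c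
    have hda : d ≠ a := by
      intro h
      apply hcb
      rw [← hgd, h]
    have hdb : d ≠ b := by
      intro h
      apply hca
      rw [← hgd, h, hgb]
    have hdc : d ≠ c := hc
    obtain ⟨e, he⟩ := exists_notMem_of_card (S := {a, b, c, d}) (by
      refine lt_of_le_of_lt (Finset.card_le_four) (by norm_num))
    simp only [Finset.mem_insert, Finset.mem_singleton, not_or] at he
    obtain ⟨hea, heb, hec, hed⟩ := he
    have hx : Function.Injective ![a, b, c, d, e] :=
      inj5 hab (Ne.symm hca) (Ne.symm hda) (Ne.symm hea) (Ne.symm hcb) (Ne.symm hdb) (Ne.symm heb)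
        (Ne.symm hdc) (Ne.symm hec) (Ne.symm hed)
    obtain ⟨k, hk, hmap, himg⟩ := key ![a, b, c, d, e] ![b, a, d, c, g e] hx (by
      intro i
      fin_cases i
      · exact hb.symm
      · exact hgb
      · exact hd.symm
      · exact hgd
      · rfl)
    apply fin k hk
    -- the image of the fifth point
    have h0 := hmap 0
    have h1 := hmap 1
    have h2' := hmap 2
    have h3 := hmap 3
    simp only [Matrix.cons_val_zero, Matrix.cons_val_one, Matrix.cons_val] at h0 h1 h2' h3
    have hge : ∀ q, q = a ∨ q = b ∨ q = c ∨ q = d → g e ≠ q := by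
      intro q hq hgeq
      have : e = g q := by rw [← hgeq, hsq]
      rcases hq with rfl | rfl | rfl | rfl
      · exact heb this
      · rw [hgb] at this; exact hea this
      · exact hed this
      · rw [hgd] at this; exact hec this
    set y4 := gIdx (k (g e)) with hy4
    have hy : ∀ q j, k q = gPt j → j < 24 → g e ≠ q → y4 ≠ j := by
      intro q j hq hj hne' h
      apply hne'
      apply k.injective
      rw [hq, ← h, hy4, gPt_gIdx]
    obtain ⟨p, hp, hp1⟩ := pat_swap y4 (gIdx_lt _)
      (hy a 23 h0 (by norm_num) (hge a (Or.inl rfl)))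
      (hy b 0 h1 (by norm_num) (hge b (Or.inr (Or.inl rfl))))
      (hy c 1 h2' (by norm_num) (hge c (Or.inr (Or.inr (Or.inl rfl)))))
      (hy d 2 h3 (by norm_num) (hge d (Or.inr (Or.inr (Or.inr rfl)))))
    refine ⟨p, hp, ?_⟩
    rw [hp1]
    intro i hi
    have hi' := himg ⟨i, hi⟩
    simp only at hi'
    rw [hi']
    interval_cases i
    · exact h1
    · exact h0
    · exact h3
    · exact h2'
    · show k (g e) = gPt y4
      rw [hy4, gPt_gIdx]
  · have hfix : ∀ c, c ≠ a → c ≠ b → g c = c := by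
      intro c hca hcb
      by_contra hc
      exact hcase ⟨c, hca, hcb, hc⟩
    obtain ⟨c, hc⟩ := exists_notMem_of_card (S := {a, b}) (by
      refine lt_of_le_of_lt (Finset.card_le_two) (by norm_num))
    obtain ⟨d, hd⟩ := exists_notMem_of_card (S := {a, b, c}) (by
      refine lt_of_le_of_lt (Finset.card_le_three) (by norm_num))
    obtain ⟨e, he⟩ := exists_notMem_of_card (S := {a, b, c, d}) (by
      refine lt_of_le_of_lt (Finset.card_le_four) (by norm_num))
    simp only [Finset.mem_insert, Finset.mem_singleton, not_or] at hc hd he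
    obtain ⟨hca, hcb⟩ := hc
    obtain ⟨hda, hdb, hdc⟩ := hd
    obtain ⟨hea, heb, hec, hed⟩ := he
    have hx : Function.Injective ![a, b, c, d, e] :=
      inj5 hab (Ne.symm hca) (Ne.symm hda) (Ne.symm hea) (Ne.symm hcb) (Ne.symm hdb) (Ne.symm heb)
        (Ne.symm hdc) (Ne.symm hec) (Ne.symm hed)
    obtain ⟨k, hk, hmap, himg⟩ := key ![a, b, c, d, e] ![b, a, c, d, e] hx (by
      intro i
      fin_cases i
      · exact hb.symm
      · exact hgb
      · exact hfix c hca hcb
      · exact hfix d hda hdb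
      · exact hfix e hea heb)
    apply fin k hk
    have h0 := hmap 0
    have h1 := hmap 1
    have h2' := hmap 2
    have h3 := hmap 3
    have h4 := hmap 4
    simp only [Matrix.cons_val_zero, Matrix.cons_val_one, Matrix.cons_val] at h0 h1 h2' h3 h4
    obtain ⟨p, hp, hp1⟩ := pat_fix
    refine ⟨p, hp, ?_⟩
    rw [hp1]
    intro i hi
    have hi' := himg ⟨i, hi⟩
    simp only at hi'
    rw [hi']
    interval_cases i
    · exact h1
    · exact h0
    · exact h2'
    · exact h3
    · exact h4

end InvNF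

end Cfsg.Agent.Lib.H27
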