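/-
helper27 library: the two classes of involutions of `M24`, final statement.
-/
import Mathlib
import Cfsg.Prelude.Def_Sporadic_a
import Cfsg.Agent.Lib.H28.M12
import Cfsg.Agent.Lib.H27.InvNF

set_option autoImplicit false

namespace Cfsg.Agent.Lib.H27

open Cfsg Cfsg.Agent.Lib.H28
open scoped Pointwise

namespace InvNF

/-- The mask of the fixed points of the first representative. -/
def mA : ℕ := 416040

theorem order_of_word {w : List ℕ} (h1 : eqW (w ++ w) [] = true) (h2 : evalPt w 23 ≠ 23) :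
    orderOf (wordPerm w) = 2 := by
  apply orderOf_eq_prime
  · rw [sq, ← wordPerm_append, wordPerm_eq_of_eqW h1, wordPerm_nil]
  · intro h
    apply h2
    have := gIdx_wordPerm w (gPt 23)
    rw [h, Equiv.Perm.one_apply, gIdx_gPt (by norm_num)] at this
    exact this.symm

theorem rA_order : orderOf (wordPerm rAw) = 2 :=
  order_of_word (by decide +kernel) (by decide +kernel)

theorem rB_order : orderOf (wordPerm rBw) = 2 :=
  order_of_word (by decide +kernel) (by decide +kernel)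

theorem rA_fix_iff (p : GolayPt) : wordPerm rAw p = p ↔ mA.testBit (gIdx p) = true := by
  have h : ∀ z < 24, evalPt rAw z = z ↔ mA.testBit z = true := by decide +kernel
  rw [← h (gIdx p) (gIdx_lt p), ← gIdx_wordPerm]
  exact ⟨fun h => by rw [h], fun h => gIdx_injective h⟩

theorem rA_fixed : (Finset.univ.filter fun p => wordPerm rAw p = p) ∈ octads := by
  have h : (Finset.univ.filter fun p => wordPerm rAw p = p) = ptsMask mA := by
    ext p
    rw [Finset.mem_filter, mem_ptsMask, rA_fix_iff]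
    simp
  rw [h, ptsMask_eq_support₂]
  refine ⟨⟨W mA, W_mem_of_inC (by decide +kernel), rfl⟩, ?_⟩
  rw [← supp_eq_support₂, ← hammingNorm_eq_card_supp, hammingNorm_W]
  decide +kernel

theorem rB_fpf (p : GolayPt) : wordPerm rBw p ≠ p := by
  have h : ∀ z < 24, evalPt rBw z ≠ z := by decide +kernel
  intro hp
  apply h (gIdx p) (gIdx_lt p)
  rw [← gIdx_wordPerm, hp]

theorem conj_fix_iff {g k r : Equiv.Perm GolayPt} (h : k * g * k⁻¹ = r) (p : GolayPt) :
    g p = p ↔ r (k p) = k p := by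
  rw [← h, Equiv.Perm.mul_apply, Equiv.Perm.mul_apply, Equiv.Perm.inv_def, Equiv.symm_apply_apply]
  exact ⟨fun h => by rw [h], fun h => k.injective h⟩

theorem fixed_of_conj_rA {g k : Equiv.Perm GolayPt} (hk : k ∈ M24) (h : k * g * k⁻¹ = wordPerm rAw) :
    (Finset.univ.filter fun p => g p = p) ∈ octads := by
  have e : (Finset.univ.filter fun p => g p = p) =
      k⁻¹ • (Finset.univ.filter fun p => wordPerm rAw p = p) := by
    ext p
    rw [Finset.mem_inv_smul_finset_iff, Finset.mem_filter, Finset.mem_filter, conj_fix_iff h p]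
    simp
  rw [e]
  exact smul_mem_octads (M24.inv_mem hk) rA_fixed

theorem fpf_of_conj_rB {g k : Equiv.Perm GolayPt} (h : k * g * k⁻¹ = wordPerm rBw) (p : GolayPt) :
    g p ≠ p := by
  intro hp
  exact rB_fpf (k p) ((conj_fix_iff h p).1 hp)

theorem not_fpf_of_conj_rA {g k : Equiv.Perm GolayPt} (h : k * g * k⁻¹ = wordPerm rAw) :
    ¬ ∀ p, g p ≠ p := by
  intro hall
  apply hall (k⁻¹ (gPt 3))
  rw [conj_fix_iff h, Equiv.Perm.inv_def, Equiv.apply_symm_apply, rA_fix_iff, gIdx_gPt (by norm_num)]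
  decide +kernel

/-- The involutions of `M24`. -/
theorem main : (∀ g ∈ M24, orderOf g = 2 →
      (Finset.univ.filter fun p => g p = p) ∈ octads ∨ ∀ p, g p ≠ p) ∧
    (∃ g ∈ M24, orderOf g = 2 ∧ (Finset.univ.filter fun p => g p = p) ∈ octads) ∧
    (∃ g ∈ M24, orderOf g = 2 ∧ ∀ p, g p ≠ p) ∧
    ∀ g ∈ M24, ∀ h ∈ M24, orderOf g = 2 → orderOf h = 2 →
      ((∀ p, g p ≠ p) ↔ (∀ p, h p ≠ p)) → ∃ k ∈ M24, k * g * k⁻¹ = h := by
  refine ⟨?_, ⟨wordPerm rAw, wordPerm_mem_M24 _, rA_order, rA_fixed⟩,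
    ⟨wordPerm rBw, wordPerm_mem_M24 _, rB_order, rB_fpf⟩, ?_⟩
  · intro g hg h2
    obtain ⟨k, hk, h | h⟩ := exists_conj_rep hg h2
    · left; exact fixed_of_conj_rA hk h
    · right; exact fpf_of_conj_rB h
  · intro g hg h hh og oh hiff
    obtain ⟨k1, hk1, h1⟩ := exists_conj_rep hg og
    obtain ⟨k2, hk2, h2⟩ := exists_conj_rep hh oh
    have fin : ∀ r : Equiv.Perm GolayPt, k1 * g * k1⁻¹ = r → k2 * h * k2⁻¹ = r →
        ∃ k ∈ M24, k * g * k⁻¹ = h := by
      intro r e1 e2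
      refine ⟨k2⁻¹ * k1, M24.mul_mem (M24.inv_mem hk2) hk1, ?_⟩
      have : k2⁻¹ * k1 * g * (k2⁻¹ * k1)⁻¹ = k2⁻¹ * (k1 * g * k1⁻¹) * k2 := by group
      rw [this, e1, ← e2]
      group
    rcases h1 with h1 | h1 <;> rcases h2 with h2 | h2
    · exact fin _ h1 h2
    · exfalso
      exact not_fpf_of_conj_rA h1 (hiff.2 (fpf_of_conj_rB h2))
    · exfalso
      exact not_fpf_of_conj_rA h2 (hiff.1 (fpf_of_conj_rB h1))
    · exact fin _ h1 h2

end InvNF

end Cfsg.Agent.Lib.H27
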