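import Mathlib
import Cfsg.Prelude.Def_Sporadic_a
import Cfsg.Agent.Lib.H27.Co0Xi
import Cfsg.Agent.Lib.H27.Co0Center
import Cfsg.Agent.Lib.H27.Co0Mod2

/-!
helper27 library: a small computational engine for explicit elements of `Co0` acting on explicit
lattice vectors.  Vectors are lists of 24 integers, elementary group elements are monomial maps
(given by index tables and a sign mask) or the map `xiCo0`; a stack machine enumerates the images
of a vector under words in such elements, all computations being kernel-friendly.
-/

set_option autoImplicit false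

namespace Cfsg.Agent.Lib.H27.Eng

open Cfsg Finset Cfsg.Agent.Lib.H28 Cfsg.Agent.Lib.H27

/-- Concrete vectors. -/
abbrev V := List ℤ

/-- Fast list access (default `0`). -/
def nth : List ℤ → ℕ → ℤ
  | [], _ => 0
  | a :: _, 0 => a
  | _ :: l, k + 1 => nth l k

/-- Fast list access (default `0`). -/
def nthN : List ℕ → ℕ → ℕ
  | [], _ => 0
  | a :: _, 0 => a
  | _ :: l, k + 1 => nthN l k

theorem nth_eq_getD (l : List ℤ) (k : ℕ) : nth l k = l.getD k 0 := by
  induction l generalizing k with
  | nil => simp [nth]
  | cons a l ih =>
    cases k with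
    | zero => simp [nth]
    | succ k => simp [nth, ih]

theorem nthN_eq_getD (l : List ℕ) (k : ℕ) : nthN l k = l.getD k 0 := by
  induction l generalizing k with
  | nil => simp [nthN]
  | cons a l ih =>
    cases k with
    | zero => simp [nthN]
    | succ k => simp [nthN, ih]

/-- The integer vector described by a list. -/
def toFn (l : V) : GolayPt → ℤ := fun p => nth l (gIdx p)

/-- The points as `Fin 24`. -/
def ptEquiv : GolayPt ≃ Fin 24 where
  toFun p := ⟨gIdx p, gIdx_lt p⟩
  invFun k := gPt k.val
  left_inv p := gPt_gIdx p
  right_inv k := Fin.ext (gIdx_gPt k.2)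

theorem sum_golayPt (f : GolayPt → ℤ) : ∑ p, f p = ∑ k ∈ Finset.range 24, f (gPt k) := by
  rw [Finset.sum_range (fun k => f (gPt k))]
  rw [← Equiv.sum_comp ptEquiv (fun k : Fin 24 => f (gPt k.val))]
  apply Finset.sum_congr rfl
  intro p _
  show f p = f (gPt (gIdx p))
  rw [gPt_gIdx]

theorem list_sum_range (n : ℕ) (f : ℕ → ℤ) :
    ((List.range n).map f).sum = ∑ k ∈ Finset.range n, f k := by
  induction n with
  | zero => simp
  | succ n ih =>
    rw [List.range_succ, List.map_append, List.sum_append, ih, Finset.sum_range_succ]
    simp

theorem getD_map_range (n : ℕ) (f : ℕ → ℤ) {k : ℕ} (hk : k < n) :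
    ((List.range n).map f).getD k 0 = f k := by
  rw [List.getD_eq_getElem _ _ (by simpa using hk)]
  simp

theorem nth_map_range (n : ℕ) (f : ℕ → ℤ) {k : ℕ} (hk : k < n) :
    nth ((List.range n).map f) k = f k := by
  rw [nth_eq_getD, getD_map_range n f hk]

/-- Dot product of lists. -/
def dotL (a b : V) : ℤ := ((List.range 24).map (fun k => nth a k * nth b k)).sum

theorem dotL_spec (a b : V) : dotL a b = dotInt (toFn a) (toFn b) := by
  unfold dotL dotInt toFn
  rw [list_sum_range, sum_golayPt]
  apply Finset.sum_congr rfl
  intro k hk
  rw [gIdx_gPt (Finset.mem_range.1 hk)]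

theorem sqNorm_spec (a : V) : dotL a a = sqNorm (toFn a) := by
  rw [dotL_spec]
  unfold dotInt sqNorm
  apply Finset.sum_congr rfl
  intro i _
  ring

/-! ### Monomial elements -/

/-- The list-level action of a monomial element: `ti` is the index table of the inverse
permutation, `c` the sign mask. -/
def monoL (ti : List ℕ) (c : ℕ) (l : V) : V :=
  (List.range 24).map (fun k =>
    bif c.testBit k then -(nth l (nthN ti k)) else nth l (nthN ti k))

/-- The tables `t` and `ti` are inverse to each other. -/
def tabInv (t ti : List ℕ) : Bool :=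
  (List.range 24).all (fun k => decide (t.getD k 0 < 24) && decide (ti.getD k 0 < 24) &&
    decide (ti.getD (t.getD k 0) 0 = k) && decide (t.getD (ti.getD k 0) 0 = k))

theorem tabInv_spec {t ti : List ℕ} (h : tabInv t ti = true) {k : ℕ} (hk : k < 24) :
    t.getD k 0 < 24 ∧ ti.getD k 0 < 24 ∧ ti.getD (t.getD k 0) 0 = k ∧ t.getD (ti.getD k 0) 0 = k := by
  unfold tabInv at h
  rw [List.all_eq_true] at h
  have := h k (List.mem_range.2 hk)
  simp only [Bool.and_eq_true, decide_eq_true_eq] at this
  tauto

/-- The permutation with index table `t`. -/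
def permOfTab (t ti : List ℕ) (h : tabInv t ti = true) : Equiv.Perm GolayPt where
  toFun p := gPt (t.getD (gIdx p) 0)
  invFun p := gPt (ti.getD (gIdx p) 0)
  left_inv p := by
    have := tabInv_spec h (gIdx_lt p)
    show gPt (ti.getD (gIdx (gPt (t.getD (gIdx p) 0))) 0) = p
    rw [gIdx_gPt this.1, this.2.2.1, gPt_gIdx]
  right_inv p := by
    have := tabInv_spec h (gIdx_lt p)
    show gPt (t.getD (gIdx (gPt (ti.getD (gIdx p) 0))) 0) = p
    rw [gIdx_gPt this.2.1, this.2.2.2, gPt_gIdx]

theorem permOfTab_symm_spec (t ti : List ℕ) (h : tabInv t ti = true) (p : GolayPt) :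
    gIdx ((permOfTab t ti h).symm p) = ti.getD (gIdx p) 0 := by
  have := tabInv_spec h (gIdx_lt p)
  show gIdx (gPt (ti.getD (gIdx p) 0)) = _
  rw [gIdx_gPt this.2.1]

/-- Validity test for a monomial element. -/
def monoOK (t ti : List ℕ) (c : ℕ) : Bool :=
  tabInv t ti && basisMasks.all (fun b => inC (pullMask ti b)) && inC c && (ti.length == 24)

theorem permOfTab_mem (t ti : List ℕ) (c : ℕ) (h : monoOK t ti c = true)
    (h1 : tabInv t ti = true) : permOfTab t ti h1 ∈ M24 := by
  unfold monoOK at h
  rw [Bool.and_eq_true, Bool.and_eq_true, Bool.and_eq_true] at h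
  exact mem_M24_of_table _ ti (permOfTab_symm_spec t ti h1) h.1.1.2

/-- Elementary group elements. -/
inductive Gen
  | mono (t ti : List ℕ) (c : ℕ)
  | xi

/-- Validity of an elementary element. -/
def Gen.ok : Gen → Bool
  | Gen.mono t ti c => monoOK t ti c
  | Gen.xi => true

/-- The sum of the entries on the tetrad `t`. -/
def tsum (l : V) (t : ℕ) : ℤ :=
  ((List.range 24).map (fun k => bif nthN tetTab k == t then nth l k else 0)).sum

/-- The list-level action of `ξ`. -/
def xiL (l : V) : V :=
  (List.range 24).map (fun k =>
    bif nthN tetTab k == 0 then (-(tsum l 0 - 2 * nth l k)) / 2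
    else (tsum l (nthN tetTab k) - 2 * nth l k) / 2)

section force

variable {α : Type*}

/-- Force the evaluation of a natural number (for kernel reduction). -/
def forceNat (n : ℕ) (k : ℕ → α) : α :=
  match n with
  | 0 => k 0
  | m + 1 => k (m + 1)

theorem forceNat_eq (n : ℕ) (k : ℕ → α) : forceNat n k = k n := by
  cases n <;> rfl

/-- Force the evaluation of an integer. -/
def forceInt (a : ℤ) (k : ℤ → α) : α :=
  match a with
  | Int.ofNat n => forceNat n (fun n' => k (Int.ofNat n'))
  | Int.negSucc n => forceNat n (fun n' => k (Int.negSucc n'))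

theorem forceInt_eq (a : ℤ) (k : ℤ → α) : forceInt a k = k a := by
  cases a <;> simp [forceInt, forceNat_eq]

/-- Force the evaluation of a list of integers. -/
def forceList : List ℤ → (List ℤ → α) → α
  | [], k => k []
  | a :: l, k => forceInt a (fun a' => forceList l (fun l' => k (a' :: l')))

theorem forceList_eq (l : List ℤ) (k : List ℤ → α) : forceList l k = k l := by
  induction l generalizing k with
  | nil => rfl
  | cons a l ih => simp [forceList, forceInt_eq, ih]

end force

/-- Fast version of `monoL` (one pass over the table). -/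
def monoGo (c : ℕ) (l : V) : List ℕ → ℕ → V
  | [], _ => []
  | i :: rest, k => (bif c.testBit k then -(nth l i) else nth l i) :: monoGo c l rest (k + 1)

theorem nth_monoGo (c : ℕ) (l : V) : ∀ (ti : List ℕ) (k0 j : ℕ), j < ti.length →
    nth (monoGo c l ti k0) j
      = bif c.testBit (k0 + j) then -(nth l (nthN ti j)) else nth l (nthN ti j) := by
  intro ti
  induction ti with
  | nil => intro k0 j hj; simp at hj
  | cons i rest ih =>
    intro k0 j hj
    cases j with
    | zero => rfl
    | succ j =>
      have := ih (k0 + 1) j (by simpa using hj)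
      show nth (monoGo c l rest (k0 + 1)) j = _
      rw [this]
      have e : k0 + 1 + j = k0 + (j + 1) := by omega
      rw [e]
      rfl

/-- Fast version of `monoL`. -/
def monoLF (ti : List ℕ) (c : ℕ) (l : V) : V := monoGo c l ti 0

theorem toFn_monoLF (ti : List ℕ) (c : ℕ) (l : V) (hti : ti.length = 24) :
    toFn (monoLF ti c l) = toFn (monoL ti c l) := by
  funext p
  have hk := gIdx_lt p
  unfold toFn monoLF monoL
  rw [nth_monoGo c l ti 0 (gIdx p) (by rw [hti]; exact hk), nth_map_range 24 _ hk, zero_add]

/-- The tetrads of the sextet. -/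
def tetIdx : List (List ℕ) :=
  [[0, 1, 2, 3], [13, 18, 20, 21], [5, 14, 17, 23], [8, 15, 16, 19], [6, 9, 11, 22], [4, 7, 10, 12]]

/-- The six tetrad sums. -/
def tsums (l : V) : List ℤ := tetIdx.map (fun T => (T.map (nth l)).sum)

theorem tsums_eq (l : V) : ∀ t < 6, nth (tsums l) t = tsum l t := by
  intro t ht
  interval_cases t <;>
    simp [tsums, tetIdx, tsum, nth, nthN, tetTab, List.range_succ] <;> ring

/-- One pass over the tetrad table. -/
def xiGo (s : List ℤ) (l : V) : List ℕ → ℕ → V
  | [], _ => []
  | t :: ts, k =>
    (bif t == 0 then (-(nth s 0 - 2 * nth l k)) / 2 else (nth s t - 2 * nth l k) / 2)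
      :: xiGo s l ts (k + 1)

theorem nth_xiGo (s : List ℤ) (l : V) : ∀ (ts : List ℕ) (k0 j : ℕ), j < ts.length →
    nth (xiGo s l ts k0) j
      = bif nthN ts j == 0 then (-(nth s 0 - 2 * nth l (k0 + j))) / 2
        else (nth s (nthN ts j) - 2 * nth l (k0 + j)) / 2 := by
  intro ts
  induction ts with
  | nil => intro k0 j hj; simp at hj
  | cons t rest ih =>
    intro k0 j hj
    cases j with
    | zero => rfl
    | succ j =>
      have := ih (k0 + 1) j (by simpa using hj)
      show nth (xiGo s l rest (k0 + 1)) j = _
      rw [this]
      have e : k0 + 1 + j = k0 + (j + 1) := by omega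
      rw [e]
      rfl

/-- Fast version of `xiL`. -/
def xiLF (l : V) : V := forceList (tsums l) (fun s => xiGo s l tetTab 0)

theorem tetTab_lt : ∀ j < 24, nthN tetTab j < 6 := by decide

theorem toFn_xiLF (l : V) : toFn (xiLF l) = toFn (xiL l) := by
  funext p
  have hk := gIdx_lt p
  unfold toFn xiLF xiL
  rw [forceList_eq, nth_xiGo _ _ tetTab 0 (gIdx p) (by show gIdx p < 24; exact hk),
    nth_map_range 24 _ hk, zero_add, tsums_eq l 0 (by norm_num),
    tsums_eq l _ (tetTab_lt _ hk)]

/-- The list-level action of an elementary element. -/
def Gen.act : Gen → V → V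
  | Gen.mono _ ti c, l => monoLF ti c l
  | Gen.xi, l => xiLF l

/-- The element of `Co0` described by an elementary element (`1` if invalid). -/
noncomputable def Gen.toCo0 : Gen → Co0
  | Gen.mono t ti c =>
    if h : monoOK t ti c = true then
      monoCo0 (permOfTab t ti (by
        unfold monoOK at h; rw [Bool.and_eq_true, Bool.and_eq_true, Bool.and_eq_true] at h
        exact h.1.1.1))
        (permOfTab_mem t ti c h _) (W c) (W_mem_of_inC (by
        unfold monoOK at h; rw [Bool.and_eq_true, Bool.and_eq_true, Bool.and_eq_true] at h
        exact h.1.2))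
    else 1
  | Gen.xi => xiCo0

theorem Gen.toCo0_mono (t ti : List ℕ) (c : ℕ) (h : monoOK t ti c = true) :
    (Gen.mono t ti c).toCo0 = monoCo0 (permOfTab t ti (by
        unfold monoOK at h; rw [Bool.and_eq_true, Bool.and_eq_true, Bool.and_eq_true] at h
        exact h.1.1.1))
        (permOfTab_mem t ti c h _) (W c) (W_mem_of_inC (by
        unfold monoOK at h; rw [Bool.and_eq_true, Bool.and_eq_true, Bool.and_eq_true] at h
        exact h.1.2)) := by
  simp only [Gen.toCo0, dif_pos h]

/-- The tetrad sums of an integer vector. -/
def tsumF (x : GolayPt → ℤ) (t : ℕ) : ℤ := ∑ j, if tet j = t then x j else 0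

theorem xi2_eq (x : GolayPt → ℤ) (i : GolayPt) :
    xi2 x i = (if tet i = 0 then -1 else 1) * (tsumF x (tet i) - 2 * x i) := by
  rw [xi2_apply]
  unfold tsumF
  have h : ∀ j, xiM i j * x j
      = (if tet i = 0 then -1 else 1) * ((if tet j = tet i then x j else 0)
          - (if j = i then 2 * x i else 0)) := by
    intro j
    by_cases hij : i = j
    · subst hij
      have h1 : xiM i i = (if tet i = 0 then -1 else 1) * (-1) := by
        unfold xiM; rw [if_pos rfl, if_pos rfl]
      rw [h1, if_pos rfl, if_pos rfl]
      ring
    · have hji : ¬ j = i := fun h => hij h.symm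
      by_cases ht : tet i = tet j
      · have h1 : xiM i j = (if tet i = 0 then -1 else 1) * 1 := by
          unfold xiM; rw [if_pos ht, if_neg hij]
        have h2 : (if tet j = tet i then x j else 0) = x j := if_pos ht.symm
        rw [h1, h2, if_neg hji]
        ring
      · have h1 : xiM i j = 0 := by
          unfold xiM; rw [if_neg ht]
        have h2 : (if tet j = tet i then x j else 0) = 0 := if_neg (fun h => ht h.symm)
        rw [h1, h2, if_neg hji]
        ring
  rw [Finset.sum_congr rfl (fun j _ => h j), ← Finset.mul_sum, Finset.sum_sub_distrib,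
    Finset.sum_ite_eq' Finset.univ i]
  simp

theorem tsum_spec (l : V) (t : ℕ) : tsum l t = tsumF (toFn l) t := by
  unfold tsum tsumF
  rw [list_sum_range, sum_golayPt]
  apply Finset.sum_congr rfl
  intro k hk
  have hk' := Finset.mem_range.1 hk
  unfold tet toFn
  rw [gIdx_gPt hk', nthN_eq_getD]
  by_cases h : tetTab.getD k 0 = t
  · rw [if_pos h]
    have : (tetTab.getD k 0 == t) = true := by rw [beq_iff_eq]; exact h
    rw [this]; rfl
  · rw [if_neg h]
    have : (tetTab.getD k 0 == t) = false := by rw [beq_eq_false_iff_ne]; exact h
    rw [this]; rfl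

theorem toFn_xiL (l : V) (p : GolayPt) : toFn (xiL l) p = xiF (toFn l) p := by
  unfold xiF
  rw [xi2_eq]
  have hk := gIdx_lt p
  unfold toFn xiL
  rw [nth_map_range 24 _ hk]
  have ht : nthN tetTab (gIdx p) = tet p := by
    unfold tet; rw [nthN_eq_getD]
  rw [ht]
  by_cases h0 : tet p = 0
  · have : (tet p == 0) = true := by rw [beq_iff_eq]; exact h0
    rw [this, if_pos h0, cond_true, tsum_spec, h0]
    congr 1
    unfold toFn
    ring
  · have : (tet p == 0) = false := by rw [beq_eq_false_iff_ne]; exact h0
    rw [this, if_neg h0, cond_false, tsum_spec]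
    congr 1
    unfold toFn
    ring

theorem toFn_monoL (t ti : List ℕ) (c : ℕ) (h1 : tabInv t ti = true) (l : V) (p : GolayPt) :
    toFn (monoL ti c l) p
      = signedPerm (permOfTab t ti h1) (support₂ (W c)) (toFn l) p := by
  have hk := gIdx_lt p
  unfold toFn monoL signedPerm
  beta_reduce
  rw [nth_map_range 24 _ hk, permOfTab_symm_spec, nthN_eq_getD]
  have hiff : p ∈ support₂ (W c) ↔ c.testBit (gIdx p) = true := by
    rw [mem_support₂_iff, W_apply_ne_zero]
  by_cases hc : c.testBit (gIdx p) = true
  · rw [hc, cond_true, if_pos (hiff.2 hc)]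
  · rw [if_neg (fun h => hc (hiff.1 h))]
    have : c.testBit (gIdx p) = false := by simpa using hc
    rw [this, cond_false]

/-- The list-level action computes the action of the group element. -/
theorem Gen.act_spec (g : Gen) (hg : g.ok = true) (l : V) (hl : toFn l ∈ leechLattice) :
    toFn (g.act l) = ((g.toCo0 • (⟨toFn l, hl⟩ : leechLattice) : leechLattice) : GolayPt → ℤ) := by
  cases g with
  | mono t ti c =>
    have h : monoOK t ti c = true := hg
    have hlen : ti.length = 24 := by
      have h' := h
      unfold monoOK at h'
      rw [Bool.and_eq_true, beq_iff_eq] at h'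
      exact h'.2
    show toFn (monoLF ti c l) = _
    rw [toFn_monoLF ti c l hlen]
    funext p
    rw [Gen.toCo0_mono t ti c h, monoCo0_smul]
    exact toFn_monoL t ti c _ l p
  | xi =>
    show toFn (xiLF l) = _
    rw [toFn_xiLF]
    funext p
    rw [toFn_xiL]
    rfl

/-! ### Words -/

/-- The action of a word (first letter first). -/
def actWord : List Gen → V → V
  | [], l => l
  | g :: w, l => actWord w (g.act l)

/-- The group element of a word. -/
noncomputable def wordCo0 : List Gen → Co0
  | [] => 1
  | g :: w => wordCo0 w * g.toCo0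

theorem wordCo0_nil : wordCo0 [] = 1 := rfl

theorem wordCo0_cons (g : Gen) (w : List Gen) : wordCo0 (g :: w) = wordCo0 w * g.toCo0 := rfl

theorem actWord_spec (w : List Gen) (hw : w.all Gen.ok = true) (l : V)
    (hl : toFn l ∈ leechLattice) :
    toFn (actWord w l)
      = ((wordCo0 w • (⟨toFn l, hl⟩ : leechLattice) : leechLattice) : GolayPt → ℤ) := by
  induction w generalizing l with
  | nil =>
    show toFn l = _
    rw [wordCo0_nil, one_smul]
  | cons g w ih =>
    rw [List.all_cons, Bool.and_eq_true] at hw
    have h1 := Gen.act_spec g hw.1 l hl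
    have hl' : toFn (g.act l) ∈ leechLattice := by
      rw [h1]; exact (g.toCo0 • (⟨toFn l, hl⟩ : leechLattice)).2
    show toFn (actWord w (g.act l)) = _
    rw [ih hw.2 (g.act l) hl', wordCo0_cons, mul_smul]
    congr 2
    exact Subtype.ext h1


/-! ### The stack machine -/


/-- Instruction `0` pops the stack; instruction `j + 1` pushes the image of the top of the stack
under the word `sg[j]` and records it. -/
def run (sg : List (List Gen)) : List ℕ → List V → List V → List V
  | [], _, out => out
  | _ :: _, [], out => out
  | 0 :: is, _ :: st, out => run sg is st out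
  | (j + 1) :: is, y :: st, out =>
      forceList (actWord (sg.getD j []) y) (fun y' => run sg is (y' :: y :: st) (y' :: out))

theorem run_push (sg : List (List Gen)) (j : ℕ) (is : List ℕ) (y : V) (st out : List V) :
    run sg ((j + 1) :: is) (y :: st) out
      = run sg is (actWord (sg.getD j []) y :: y :: st) (actWord (sg.getD j []) y :: out) := by
  rw [run, forceList_eq]

/-- All letters are valid. -/
def sgOK (sg : List (List Gen)) : Bool := sg.all (fun w => w.all Gen.ok)

/-- All words fix all vectors of `ts`. -/
def fixOK (sg : List (List Gen)) (ts : List V) : Bool :=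
  sg.all (fun w => ts.all (fun t => decide (actWord w t = t)))

/-- `y` is the image of `x0` under an element of `Co0` fixing the vectors of `ts`. -/
def InOrb (ts : List V) (x0 : V) (y : V) : Prop :=
  ∃ g : Co0, (∀ t ∈ ts, ∀ ht : toFn t ∈ leechLattice,
      g • (⟨toFn t, ht⟩ : leechLattice) = ⟨toFn t, ht⟩) ∧
    ∃ hx0 : toFn x0 ∈ leechLattice,
      toFn y = ((g • (⟨toFn x0, hx0⟩ : leechLattice) : leechLattice) : GolayPt → ℤ)

theorem InOrb.mem {ts : List V} {x0 y : V} (h : InOrb ts x0 y) : toFn y ∈ leechLattice := by
  obtain ⟨g, _, hx0, hy⟩ := h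
  rw [hy]
  exact (g • (⟨toFn x0, hx0⟩ : leechLattice)).2

theorem inOrb_self (ts : List V) (x0 : V) (hx0 : toFn x0 ∈ leechLattice) : InOrb ts x0 x0 :=
  ⟨1, fun _ _ _ => one_smul _ _, hx0, by rw [one_smul]⟩

theorem inOrb_step {sg : List (List Gen)} {ts : List V} (h1 : sgOK sg = true)
    (h2 : fixOK sg ts = true) {x0 y : V} (hy : InOrb ts x0 y) (j : ℕ) :
    InOrb ts x0 (actWord (sg.getD j []) y) := by
  by_cases hj : j < sg.length
  · have hw : sg.getD j [] ∈ sg := by
      rw [List.getD_eq_getElem _ _ hj]
      exact List.getElem_mem hj
    set w := sg.getD j [] with hwdef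
    unfold sgOK at h1
    unfold fixOK at h2
    rw [List.all_eq_true] at h1 h2
    have hok := h1 w hw
    have hfix := h2 w hw
    rw [List.all_eq_true] at hfix
    have hyL := hy.mem
    obtain ⟨g, hg, hx0, hgy⟩ := hy
    refine ⟨wordCo0 w * g, ?_, hx0, ?_⟩
    · intro t ht htL
      rw [mul_smul, hg t ht htL]
      apply Subtype.ext
      rw [← actWord_spec w hok t htL]
      have := hfix t ht
      rw [decide_eq_true_eq] at this
      rw [this]
    · rw [actWord_spec w hok y hyL, mul_smul]
      congr 2
      exact Subtype.ext hgy
  · rw [List.getD_eq_default _ _ (by omega)]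
    exact hy

theorem run_inOrb {sg : List (List Gen)} {ts : List V} (h1 : sgOK sg = true)
    (h2 : fixOK sg ts = true) {x0 : V} :
    ∀ (is : List ℕ) (st out : List V), (∀ y ∈ st, InOrb ts x0 y) → (∀ y ∈ out, InOrb ts x0 y) →
      ∀ y ∈ run sg is st out, InOrb ts x0 y := by
  intro is
  induction is with
  | nil =>
    intro st out _ hout y hy
    exact hout y hy
  | cons i is ih =>
    intro st out hst hout y hy
    cases st with
    | nil => exact hout y hy
    | cons z st =>
      cases i with
      | zero =>
        exact ih st out (fun y hy => hst y (List.mem_cons_of_mem _ hy)) hout y hy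
      | succ j =>
        have hz : InOrb ts x0 z := hst z (List.mem_cons_self)
        have hz' := inOrb_step h1 h2 hz j
        rw [run_push] at hy
        apply ih _ _ _ _ y hy
        · intro y' hy'
          rcases List.mem_cons.1 hy' with rfl | hy'
          · exact hz'
          · exact hst y' hy'
        · intro y' hy'
          rcases List.mem_cons.1 hy' with rfl | hy'
          · exact hz'
          · exact hout y' hy'

/-- The orbit list computed by the machine. -/
def orbList (sg : List (List Gen)) (is : List ℕ) (x0 : V) : List V := run sg is [x0] [x0]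

theorem orbList_inOrb {sg : List (List Gen)} {ts : List V} (h1 : sgOK sg = true)
    (h2 : fixOK sg ts = true) (is : List ℕ) {x0 : V} (hx0 : toFn x0 ∈ leechLattice) :
    ∀ y ∈ orbList sg is x0, InOrb ts x0 y := by
  apply run_inOrb h1 h2
  · intro y hy
    rw [List.mem_singleton] at hy
    rw [hy]; exact inOrb_self ts x0 hx0
  · intro y hy
    rw [List.mem_singleton] at hy
    rw [hy]; exact inOrb_self ts x0 hx0

/-! ### Sorting (only the permutation property is needed) -/

section sort

variable {α : Type*} (le : α → α → Bool)

/-- Merge with fuel. -/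
def mergeF : ℕ → List α → List α → List α
  | 0, xs, ys => xs ++ ys
  | _ + 1, [], ys => ys
  | _ + 1, xs, [] => xs
  | n + 1, x :: xs, y :: ys =>
    if le x y then x :: mergeF n xs (y :: ys) else y :: mergeF n (x :: xs) ys

theorem mergeF_perm : ∀ (n : ℕ) (xs ys : List α), (mergeF le n xs ys).Perm (xs ++ ys) := by
  intro n
  induction n with
  | zero => intro xs ys; exact List.Perm.refl _
  | succ n ih =>
    intro xs ys
    cases xs with
    | nil => simp [mergeF]
    | cons x xs =>
      cases ys with
      | nil => simp [mergeF]
      | cons y ys =>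
        unfold mergeF
        split_ifs
        · exact (ih xs (y :: ys)).cons x
        · have h1 := (ih (x :: xs) ys).cons y
          refine h1.trans ?_
          simp only [List.cons_append]
          exact (List.perm_middle (a := y) (l₁ := x :: xs) (l₂ := ys)).symm

/-- Merge adjacent runs. -/
def mergePairs : List (List α) → List (List α)
  | a :: b :: rest => mergeF le (a.length + b.length) a b :: mergePairs rest
  | l => l

theorem mergePairs_perm : ∀ ls : List (List α), (mergePairs le ls).flatten.Perm ls.flatten := by
  intro ls
  induction ls using mergePairs.induct with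
  | case1 a b rest ih =>
    unfold mergePairs
    simp only [List.flatten_cons]
    rw [← List.append_assoc]
    exact (mergeF_perm le _ a b).append ih
  | case2 l h =>
    unfold mergePairs
    split
    · rename_i a b rest
      exact absurd rfl (h a b rest)
    · exact List.Perm.refl _

/-- Bottom-up merge sort with fuel. -/
def msortF : ℕ → List (List α) → List α
  | 0, ls => ls.flatten
  | _ + 1, [] => []
  | _ + 1, [a] => a
  | n + 1, a :: b :: rest => msortF n (mergePairs le (a :: b :: rest))

theorem msortF_perm : ∀ (n : ℕ) (ls : List (List α)), (msortF le n ls).Perm ls.flatten := by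
  intro n
  induction n with
  | zero => intro ls; exact List.Perm.refl _
  | succ n ih =>
    intro ls
    match ls with
    | [] => simp [msortF]
    | [a] => simp [msortF]
    | a :: b :: rest =>
      unfold msortF
      exact (ih _).trans (mergePairs_perm le _)

/-- Merge sort. -/
def msort (l : List α) : List α := msortF le l.length (l.map fun a => [a])

theorem msort_perm (l : List α) : (msort le l).Perm l := by
  unfold msort
  refine (msortF_perm le _ _).trans ?_
  have : (l.map fun a => [a]).flatten = l := by
    induction l with
    | nil => rfl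
    | cons a l ih => simp [ih]
  rw [this]

end sort

/-- Strict lexicographic comparison of integer lists. -/
def lexLt : V → V → Bool
  | [], [] => false
  | [], _ :: _ => true
  | _ :: _, [] => false
  | a :: as, b :: bs => if a < b then true else if b < a then false else lexLt as bs

theorem lexLt_irrefl : ∀ l : V, lexLt l l = false := by
  intro l
  induction l with
  | nil => rfl
  | cons a l ih => simp [lexLt, ih]

theorem lexLt_trans : ∀ a b c : V, lexLt a b = true → lexLt b c = true → lexLt a c = true := by
  intro a
  induction a with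
  | nil =>
    intro b c hab hbc
    cases b with
    | nil => simp [lexLt] at hab
    | cons y b =>
      cases c with
      | nil => simp [lexLt] at hbc
      | cons z c => rfl
  | cons x a ih =>
    intro b c hab hbc
    cases b with
    | nil => simp [lexLt] at hab
    | cons y b =>
      cases c with
      | nil => simp [lexLt] at hbc
      | cons z c =>
        unfold lexLt at hab hbc ⊢
        by_cases h1 : x < y
        · by_cases h2 : y < z
          · rw [if_pos (lt_trans h1 h2)]
          · rw [if_neg h2] at hbc
            by_cases h3 : z < y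
            · rw [if_pos h3] at hbc; exact absurd hbc (by simp)
            · have : y = z := le_antisymm (not_lt.1 h3) (not_lt.1 h2)
              rw [← this, if_pos h1]
        · rw [if_neg h1] at hab
          by_cases h1' : y < x
          · rw [if_pos h1'] at hab; exact absurd hab (by simp)
          · rw [if_neg h1'] at hab
            have hxy : x = y := le_antisymm (not_lt.1 h1') (not_lt.1 h1)
            rw [hxy]
            by_cases h2 : y < z
            · rw [if_pos h2]
            · rw [if_neg h2] at hbc ⊢
              by_cases h3 : z < y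
              · rw [if_pos h3] at hbc; exact absurd hbc (by simp)
              · rw [if_neg h3] at hbc ⊢
                exact ih b c hab hbc

/-- The list is strictly increasing. -/
def strictSorted : List V → Bool
  | [] => true
  | [_] => true
  | a :: b :: rest => lexLt a b && strictSorted (b :: rest)

theorem strictSorted_pairwise : ∀ l : List V, strictSorted l = true →
    l.Pairwise (fun a b => lexLt a b = true) := by
  intro l
  induction l with
  | nil => intro _; exact List.Pairwise.nil
  | cons a l ih =>
    intro h
    cases l with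
    | nil => exact List.pairwise_singleton _ _
    | cons b rest =>
      unfold strictSorted at h
      rw [Bool.and_eq_true] at h
      have hrest := ih h.2
      have hrest' := List.pairwise_cons.1 hrest
      rw [List.pairwise_cons]
      refine ⟨?_, hrest⟩
      intro c hc
      rcases List.mem_cons.1 hc with rfl | hc
      · exact h.1
      · exact lexLt_trans a b c h.1 (hrest'.1 c hc)

theorem nodup_of_strictSorted {l : List V} (h : strictSorted l = true) : l.Nodup := by
  have := strictSorted_pairwise l h
  unfold List.Nodup
  refine this.imp ?_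
  intro a b hab heq
  rw [heq, lexLt_irrefl] at hab
  exact absurd hab (by simp)

/-- If the sorted list of machine outputs is strictly increasing, the outputs are distinct. -/
theorem nodup_of_msort {l : List V} (h : strictSorted (msort (fun a b => !lexLt b a) l) = true) :
    l.Nodup :=
  (msort_perm _ l).nodup_iff.1 (nodup_of_strictSorted h)

end Cfsg.Agent.Lib.H27.Eng
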