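import Mathlib
import Cfsg.Prelude.Def_Sporadic_a
import Cfsg.Agent.Lib.H27.Engine

/-!
helper27 library: from a machine run (`Engine`) to transitivity statements: if the machine
produces as many distinct vectors as a set `X` of lattice vectors invariant under the stabiliser
of the fixed vectors has members, then that stabiliser is transitive on `X`.
-/

set_option autoImplicit false

namespace Cfsg.Agent.Lib.H27.Eng

open Cfsg Finset Cfsg.Agent.Lib.H28 Cfsg.Agent.Lib.H27

/-- `g` fixes the vectors described by `ts`. -/
def Fixes (g : Co0) (ts : List V) : Prop :=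
  ∀ t ∈ ts, ∀ ht : toFn t ∈ leechLattice, g • (⟨toFn t, ht⟩ : leechLattice) = ⟨toFn t, ht⟩

theorem Fixes.one (ts : List V) : Fixes 1 ts := fun _ _ _ => one_smul _ _

theorem Fixes.mul {g h : Co0} {ts : List V} (hg : Fixes g ts) (hh : Fixes h ts) :
    Fixes (g * h) ts := by
  intro t ht htL
  rw [mul_smul, hh t ht htL, hg t ht htL]

theorem Fixes.inv {g : Co0} {ts : List V} (hg : Fixes g ts) : Fixes g⁻¹ ts := by
  intro t ht htL
  rw [inv_smul_eq_iff, hg t ht htL]

theorem nth_of_toFn_eq {l l' : V} (h : toFn l = toFn l') {k : ℕ} (hk : k < 24) :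
    nth l k = nth l' k := by
  have := congrFun h (gPt k)
  unfold toFn at this
  rwa [gIdx_gPt hk] at this

theorem eq_of_toFn_eq {l l' : V} (hl : l.length = 24) (hl' : l'.length = 24)
    (h : toFn l = toFn l') : l = l' := by
  apply List.ext_getElem (by rw [hl, hl'])
  intro k h1 h2
  have hk : k < 24 := by rw [hl] at h1; exact h1
  have := nth_of_toFn_eq h hk
  rw [nth_eq_getD, nth_eq_getD, List.getD_eq_getElem _ _ h1, List.getD_eq_getElem _ _ h2] at this
  exact this

/-- The lattice vector described by a list (`0` if it is not in the lattice). -/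
noncomputable def mkL (y : V) : leechLattice := by
  classical
  exact if h : toFn y ∈ leechLattice then ⟨toFn y, h⟩ else 0

theorem mkL_of_mem {y : V} (h : toFn y ∈ leechLattice) : mkL y = ⟨toFn y, h⟩ := by
  unfold mkL
  rw [dif_pos h]

theorem mkL_val {y : V} (h : toFn y ∈ leechLattice) : ((mkL y : leechLattice) : GolayPt → ℤ) = toFn y := by
  rw [mkL_of_mem h]

theorem InOrb.exists {ts : List V} {x0 y : V} (h : InOrb ts x0 y) :
    ∃ g : Co0, Fixes g ts ∧ g • mkL x0 = mkL y := by
  have hy := h.mem
  obtain ⟨g, hg, hx0, hgy⟩ := h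
  refine ⟨g, hg, ?_⟩
  rw [mkL_of_mem hx0, mkL_of_mem hy]
  exact Subtype.ext hgy.symm

/-- The machine output covers an invariant set of the right cardinality. -/
theorem orbit_cover (X : Set leechLattice) {ts : List V} {x0 : V} {sg : List (List Gen)}
    {is : List ℕ} (h1 : sgOK sg = true) (h2 : fixOK sg ts = true)
    (hx0 : toFn x0 ∈ leechLattice) (hX0 : mkL x0 ∈ X)
    (hXinv : ∀ g : Co0, Fixes g ts → ∀ x ∈ X, g • x ∈ X)
    (hlen : (orbList sg is x0).all (fun y => y.length == 24) = true)
    (hsorted : strictSorted (msort (fun a b => !lexLt b a) (orbList sg is x0)) = true)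
    (hcard : X.ncard = (orbList sg is x0).length) :
    ∀ x ∈ X, ∃ y ∈ orbList sg is x0, mkL y = x := by
  classical
  set L := orbList sg is x0 with hL
  have hnd : L.Nodup := nodup_of_msort hsorted
  have hin : ∀ y ∈ L, InOrb ts x0 y := orbList_inOrb h1 h2 is hx0
  have hLX : ∀ y ∈ L, mkL y ∈ X := by
    intro y hy
    obtain ⟨g, hg, hgy⟩ := (hin y hy).exists
    rw [← hgy]
    exact hXinv g hg _ hX0
  have hlen' : ∀ y ∈ L, y.length = 24 := by
    intro y hy
    rw [List.all_eq_true] at hlen
    have := hlen y hy
    rwa [beq_iff_eq] at this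
  have hinj : Set.InjOn mkL (↑L.toFinset : Set V) := by
    intro y hy y' hy' heq
    rw [Finset.mem_coe, List.mem_toFinset] at hy hy'
    have e1 := mkL_val (hin y hy).mem
    have e2 := mkL_val (hin y' hy').mem
    rw [heq] at e1
    exact eq_of_toFn_eq (hlen' y hy) (hlen' y' hy') (e1.symm.trans e2)
  set I : Set leechLattice := mkL '' (↑L.toFinset : Set V) with hI
  have hIX : I ⊆ X := by
    rintro x ⟨y, hy, rfl⟩
    rw [Finset.mem_coe, List.mem_toFinset] at hy
    exact hLX y hy
  have hIcard : I.ncard = L.length := by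
    rw [hI, Set.ncard_image_of_injOn hinj, Set.ncard_coe_finset, List.toFinset_card_of_nodup hnd]
  have hpos : 0 < L.length := by
    have : x0 ∈ L := by
      rw [hL]
      unfold orbList
      -- the root is recorded in the output
      have key : ∀ (is : List ℕ) (st out : List V), x0 ∈ out → x0 ∈ run sg is st out := by
        intro is
        induction is with
        | nil => intro st out h; exact h
        | cons i is ih =>
          intro st out h
          cases st with
          | nil => exact h
          | cons z st =>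
            cases i with
            | zero => exact ih st out h
            | succ j =>
              rw [run_push]
              exact ih _ _ (List.mem_cons_of_mem _ h)
      exact key is [x0] [x0] (List.mem_singleton.2 rfl)
    exact List.length_pos_of_mem this
  have hXfin : X.Finite := Set.finite_of_ncard_pos (by rw [hcard]; exact hpos)
  have hIeq : I = X := Set.eq_of_subset_of_ncard_le hIX (by rw [hcard, hIcard]) hXfin
  intro x hx
  rw [← hIeq] at hx
  obtain ⟨y, hy, rfl⟩ := hx
  rw [Finset.mem_coe, List.mem_toFinset] at hy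
  exact ⟨y, hy, rfl⟩

/-- Transitivity from a machine run. -/
theorem orbit_trans (X : Set leechLattice) {ts : List V} {x0 : V} {sg : List (List Gen)}
    {is : List ℕ} (h1 : sgOK sg = true) (h2 : fixOK sg ts = true)
    (hx0 : toFn x0 ∈ leechLattice) (hX0 : mkL x0 ∈ X)
    (hXinv : ∀ g : Co0, Fixes g ts → ∀ x ∈ X, g • x ∈ X)
    (hlen : (orbList sg is x0).all (fun y => y.length == 24) = true)
    (hsorted : strictSorted (msort (fun a b => !lexLt b a) (orbList sg is x0)) = true)
    (hcard : X.ncard = (orbList sg is x0).length) :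
    ∀ x ∈ X, ∀ x' ∈ X, ∃ g : Co0, Fixes g ts ∧ g • x = x' := by
  have hcov := orbit_cover X h1 h2 hx0 hX0 hXinv hlen hsorted hcard
  have hin := orbList_inOrb (ts := ts) h1 h2 is hx0
  intro x hx x' hx'
  obtain ⟨y, hy, rfl⟩ := hcov x hx
  obtain ⟨y', hy', rfl⟩ := hcov x' hx'
  obtain ⟨g, hg, hgy⟩ := (hin y hy).exists
  obtain ⟨g', hg', hgy'⟩ := (hin y' hy').exists
  refine ⟨g' * g⁻¹, hg'.mul hg.inv, ?_⟩
  rw [mul_smul, ← hgy, inv_smul_smul, hgy']


/-! ### A single-pass check -/

/-- The machine in continuation-passing style (the output is evaluated once). -/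
def runK {α : Type*} (sg : List (List Gen)) : List ℕ → List V → List V → (List V → α) → α
  | [], _, out, k => k out
  | _ :: _, [], out, k => k out
  | 0 :: is, _ :: st, out, k => runK sg is st out k
  | (j + 1) :: is, y :: st, out, k =>
      forceList (actWord (sg.getD j []) y) (fun y' => runK sg is (y' :: y :: st) (y' :: out) k)

theorem runK_eq {α : Type*} (sg : List (List Gen)) (k : List V → α) :
    ∀ (is : List ℕ) (st out : List V), runK sg is st out k = k (run sg is st out) := by
  intro is
  induction is with
  | nil => intro st out; rfl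
  | cons i is ih =>
    intro st out
    cases st with
    | nil => rfl
    | cons z st =>
      cases i with
      | zero =>
        show runK sg is st out k = k (run sg is st out)
        exact ih st out
      | succ j =>
        rw [run_push]
        show forceList _ _ = _
        rw [forceList_eq]
        exact ih _ _

/-- All checks on the machine output at once. -/
def orbCheck (sg : List (List Gen)) (is : List ℕ) (x0 : V) (n : ℕ) : Bool :=
  runK sg is [x0] [x0] (fun L => L.all (fun y => y.length == 24) &&
    strictSorted (msort (fun a b => !lexLt b a) L) && L.length == n)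

theorem orbCheck_spec {sg : List (List Gen)} {is : List ℕ} {x0 : V} {n : ℕ}
    (h : orbCheck sg is x0 n = true) :
    (orbList sg is x0).all (fun y => y.length == 24) = true ∧
    strictSorted (msort (fun a b => !lexLt b a) (orbList sg is x0)) = true ∧
    (orbList sg is x0).length = n := by
  unfold orbCheck at h
  rw [runK_eq] at h
  simp only [Bool.and_eq_true, beq_iff_eq] at h
  exact ⟨h.1.1, h.1.2, h.2⟩

/-- Transitivity from a single-pass check. -/
theorem orbit_trans' (X : Set leechLattice) {ts : List V} {x0 : V} {sg : List (List Gen)}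
    {is : List ℕ} {n : ℕ} (h1 : sgOK sg = true) (h2 : fixOK sg ts = true)
    (hx0 : toFn x0 ∈ leechLattice) (hX0 : mkL x0 ∈ X)
    (hXinv : ∀ g : Co0, Fixes g ts → ∀ x ∈ X, g • x ∈ X)
    (hcheck : orbCheck sg is x0 n = true) (hcard : X.ncard = n) :
    ∀ x ∈ X, ∀ x' ∈ X, ∃ g : Co0, Fixes g ts ∧ g • x = x' := by
  obtain ⟨c1, c2, c3⟩ := orbCheck_spec hcheck
  exact orbit_trans X h1 h2 hx0 hX0 hXinv c1 c2 (by rw [c3]; exact hcard)

theorem orbit_cover' (X : Set leechLattice) {ts : List V} {x0 : V} {sg : List (List Gen)}
    {is : List ℕ} {n : ℕ} (h1 : sgOK sg = true) (h2 : fixOK sg ts = true)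
    (hx0 : toFn x0 ∈ leechLattice) (hX0 : mkL x0 ∈ X)
    (hXinv : ∀ g : Co0, Fixes g ts → ∀ x ∈ X, g • x ∈ X)
    (hcheck : orbCheck sg is x0 n = true) (hcard : X.ncard = n) :
    ∀ x ∈ X, ∃ y ∈ orbList sg is x0, mkL y = x := by
  obtain ⟨c1, c2, c3⟩ := orbCheck_spec hcheck
  exact orbit_cover X h1 h2 hx0 hX0 hXinv c1 c2 (by rw [c3]; exact hcard)

end Cfsg.Agent.Lib.H27.Eng
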