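import Mathlib
import Cfsg.Prelude.Def_Sporadic_a
import Cfsg.Agent.Lib.H27.Engine2

/-!
helper27 library: lower bounds from machine runs (`Engine`): the machine output consists of
distinct members of any invariant set containing the root.
-/

set_option autoImplicit false

namespace Cfsg.Agent.Lib.H27.Eng

open Cfsg Finset Cfsg.Agent.Lib.H28 Cfsg.Agent.Lib.H27

/-- The machine output is a family of distinct members of an invariant set. -/
theorem orbit_image (X : Set leechLattice) {ts : List V} {x0 : V} {sg : List (List Gen)}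
    {is : List ℕ} {n : ℕ} (h1 : sgOK sg = true) (h2 : fixOK sg ts = true)
    (hx0 : toFn x0 ∈ leechLattice) (hX0 : mkL x0 ∈ X)
    (hXinv : ∀ g : Co0, Fixes g ts → ∀ x ∈ X, g • x ∈ X)
    (hcheck : orbCheck sg is x0 n = true) :
    ∃ I : Set leechLattice, I ⊆ X ∧ I.ncard = n ∧ I.Finite := by
  classical
  obtain ⟨hlen, hsorted, hn⟩ := orbCheck_spec hcheck
  set L := orbList sg is x0 with hL
  have hnd : L.Nodup := nodup_of_msort hsorted
  have hin : ∀ y ∈ L, InOrb ts x0 y := orbList_inOrb h1 h2 is hx0
  have hLX : ∀ y ∈ L, mkL y ∈ X := by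
    intro y hy
    obtain ⟨g, hg, hgy⟩ := (hin y hy).exists
    rw [← hgy]
    exact hXinv g hg _ hX0
  have hlen' : ∀ y ∈ L, y.length = 24 := by
    intro y hy
    rw [List.all_eq_true] at hlen
    have := hlen y hy
    rwa [beq_iff_eq] at this
  have hinj : Set.InjOn mkL (↑L.toFinset : Set V) := by
    intro y hy y' hy' heq
    rw [Finset.mem_coe, List.mem_toFinset] at hy hy'
    have e1 := mkL_val (hin y hy).mem
    have e2 := mkL_val (hin y' hy').mem
    rw [heq] at e1
    exact eq_of_toFn_eq (hlen' y hy) (hlen' y' hy') (e1.symm.trans e2)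
  refine ⟨mkL '' (↑L.toFinset : Set V), ?_, ?_, ?_⟩
  · rintro x ⟨y, hy, rfl⟩
    rw [Finset.mem_coe, List.mem_toFinset] at hy
    exact hLX y hy
  · rw [Set.ncard_image_of_injOn hinj, Set.ncard_coe_finset, List.toFinset_card_of_nodup hnd, hn]
  · exact (Finset.finite_toSet _).image _

/-- Lower bound for the size of an invariant set from a machine run. -/
theorem orbit_lower (X : Set leechLattice) (hXfin : X.Finite) {ts : List V} {x0 : V}
    {sg : List (List Gen)} {is : List ℕ} {n : ℕ} (h1 : sgOK sg = true)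
    (h2 : fixOK sg ts = true) (hx0 : toFn x0 ∈ leechLattice) (hX0 : mkL x0 ∈ X)
    (hXinv : ∀ g : Co0, Fixes g ts → ∀ x ∈ X, g • x ∈ X)
    (hcheck : orbCheck sg is x0 n = true) : n ≤ X.ncard := by
  obtain ⟨I, hIX, hIn, -⟩ := orbit_image X h1 h2 hx0 hX0 hXinv hcheck
  rw [← hIn]
  exact Set.ncard_le_ncard hIX hXfin

/-- The image of a set of lattice vectors under an element of `Co0` has the same size. -/
theorem ncard_smul_image (g : Co0) (S : Set leechLattice) :
    ((fun y : leechLattice => g • y) '' S).ncard = S.ncard :=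
  Set.ncard_image_of_injective S (MulAction.injective g)

end Cfsg.Agent.Lib.H27.Eng
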