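import Mathlib
import Cfsg.Prelude.Def_Sporadic_a
import Cfsg.Agent.Lib.H27.Engine3

/-!
helper27 library: lists of distinct points of an orbit (`OrbList`), obtained from one machine run
or from a forest of machine runs checked chunk by chunk (to bound the memory used by the kernel),
and what they give: lower bounds, coverings, transitivity and counts of subsets.
-/

set_option autoImplicit false

namespace Cfsg.Agent.Lib.H27.Eng

open Cfsg Finset Cfsg.Agent.Lib.H28 Cfsg.Agent.Lib.H27

/-- `L` is a list of distinct points of the orbit of `x0` under the stabiliser of `ts`. -/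
structure OrbList (ts : List V) (x0 : V) (L : List V) : Prop where
  nodup : L.Nodup
  len : ∀ y ∈ L, y.length = 24
  inOrb : ∀ y ∈ L, InOrb ts x0 y

theorem InOrb.trans {ts : List V} {x0 r y : V} (h1 : InOrb ts x0 r) (h2 : InOrb ts r y) :
    InOrb ts x0 y := by
  obtain ⟨g, hg, hx0, hgr⟩ := h1
  obtain ⟨g', hg', hr, hgy⟩ := h2
  refine ⟨g' * g, ?_, hx0, ?_⟩
  · intro t ht htL
    rw [mul_smul, hg t ht htL, hg' t ht htL]
  · rw [hgy, mul_smul]
    congr 2
    exact Subtype.ext hgr

theorem OrbList.of_orbCheck {ts : List V} {x0 : V} {sg : List (List Gen)} {is : List ℕ} {n : ℕ}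
    (h1 : sgOK sg = true) (h2 : fixOK sg ts = true) (hx0 : toFn x0 ∈ leechLattice)
    (hcheck : orbCheck sg is x0 n = true) :
    OrbList ts x0 (orbList sg is x0) ∧ (orbList sg is x0).length = n := by
  obtain ⟨hlen, hsorted, hn⟩ := orbCheck_spec hcheck
  refine ⟨⟨nodup_of_msort hsorted, ?_, orbList_inOrb h1 h2 is hx0⟩, hn⟩
  intro y hy
  rw [List.all_eq_true] at hlen
  have := hlen y hy
  rwa [beq_iff_eq] at this

section orblist

variable {ts : List V} {x0 : V} {L : List V}

theorem OrbList.injOn (h : OrbList ts x0 L) : Set.InjOn mkL {y | y ∈ L} := by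
  intro y hy y' hy' heq
  have e1 := mkL_val (h.inOrb y hy).mem
  have e2 := mkL_val (h.inOrb y' hy').mem
  rw [heq] at e1
  exact eq_of_toFn_eq (h.len y hy) (h.len y' hy') (e1.symm.trans e2)

theorem OrbList.ncard_image (h : OrbList ts x0 L) : (mkL '' {y | y ∈ L}).ncard = L.length := by
  classical
  rw [Set.ncard_image_of_injOn h.injOn]
  have : {y | y ∈ L} = (↑L.toFinset : Set V) := by
    ext y; simp
  rw [this, Set.ncard_coe_finset, List.toFinset_card_of_nodup h.nodup]

theorem OrbList.image_subset (h : OrbList ts x0 L) (X : Set leechLattice) (hX0 : mkL x0 ∈ X)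
    (hXinv : ∀ g : Co0, Fixes g ts → ∀ x ∈ X, g • x ∈ X) : mkL '' {y | y ∈ L} ⊆ X := by
  rintro x ⟨y, hy, rfl⟩
  obtain ⟨g, hg, hgy⟩ := (h.inOrb y hy).exists
  rw [← hgy]
  exact hXinv g hg _ hX0

theorem OrbList.lower (h : OrbList ts x0 L) (X : Set leechLattice) (hXfin : X.Finite)
    (hX0 : mkL x0 ∈ X) (hXinv : ∀ g : Co0, Fixes g ts → ∀ x ∈ X, g • x ∈ X) :
    L.length ≤ X.ncard := by
  rw [← h.ncard_image]
  exact Set.ncard_le_ncard (h.image_subset X hX0 hXinv) hXfin

theorem OrbList.image_eq (h : OrbList ts x0 L) (X : Set leechLattice) (hX0 : mkL x0 ∈ X)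
    (hXinv : ∀ g : Co0, Fixes g ts → ∀ x ∈ X, g • x ∈ X) (hpos : 0 < L.length)
    (hcard : X.ncard = L.length) : mkL '' {y | y ∈ L} = X := by
  have hXfin : X.Finite := Set.finite_of_ncard_pos (by rw [hcard]; exact hpos)
  exact Set.eq_of_subset_of_ncard_le (h.image_subset X hX0 hXinv)
    (by rw [hcard, h.ncard_image]) hXfin

theorem OrbList.cover (h : OrbList ts x0 L) (X : Set leechLattice) (hX0 : mkL x0 ∈ X)
    (hXinv : ∀ g : Co0, Fixes g ts → ∀ x ∈ X, g • x ∈ X) (hpos : 0 < L.length)
    (hcard : X.ncard = L.length) : ∀ x ∈ X, ∃ y ∈ L, mkL y = x := by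
  intro x hx
  rw [← h.image_eq X hX0 hXinv hpos hcard] at hx
  obtain ⟨y, hy, rfl⟩ := hx
  exact ⟨y, hy, rfl⟩

theorem OrbList.trans (h : OrbList ts x0 L) (X : Set leechLattice) (hX0 : mkL x0 ∈ X)
    (hXinv : ∀ g : Co0, Fixes g ts → ∀ x ∈ X, g • x ∈ X) (hpos : 0 < L.length)
    (hcard : X.ncard = L.length) :
    ∀ x ∈ X, ∀ x' ∈ X, ∃ g : Co0, Fixes g ts ∧ g • x = x' := by
  have hcov := h.cover X hX0 hXinv hpos hcard
  intro x hx x' hx'
  obtain ⟨y, hy, rfl⟩ := hcov x hx
  obtain ⟨y', hy', rfl⟩ := hcov x' hx'
  obtain ⟨g, hg, hgy⟩ := (h.inOrb y hy).exists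
  obtain ⟨g', hg', hgy'⟩ := (h.inOrb y' hy').exists
  refine ⟨g' * g⁻¹, hg'.mul hg.inv, ?_⟩
  rw [mul_smul, ← hgy, inv_smul_smul, hgy']

/-- Counting a subset of a set enumerated by an `OrbList`. -/
theorem OrbList.ncard_filter (h : OrbList ts x0 L) (X : Set leechLattice) (hX0 : mkL x0 ∈ X)
    (hXinv : ∀ g : Co0, Fixes g ts → ∀ x ∈ X, g • x ∈ X) (hpos : 0 < L.length)
    (hcard : X.ncard = L.length) (P : leechLattice → Prop) (p : V → Bool)
    (hp : ∀ y ∈ L, (p y = true ↔ P (mkL y))) :
    {x | x ∈ X ∧ P x}.ncard = (L.filter p).length := by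
  classical
  have hsub : (L.filter p).Sublist L := List.filter_sublist
  have h' : OrbList ts x0 (L.filter p) :=
    ⟨h.nodup.sublist hsub, fun y hy => h.len y (hsub.subset hy),
      fun y hy => h.inOrb y (hsub.subset hy)⟩
  rw [← h'.ncard_image]
  congr 1
  ext x
  constructor
  · rintro ⟨hx, hPx⟩
    obtain ⟨y, hy, rfl⟩ := h.cover X hX0 hXinv hpos hcard x hx
    refine ⟨y, ?_, rfl⟩
    show y ∈ L.filter p
    rw [List.mem_filter]
    exact ⟨hy, (hp y hy).2 hPx⟩
  · rintro ⟨y, hy, rfl⟩
    have hy' : y ∈ L.filter p := hy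
    rw [List.mem_filter] at hy'
    refine ⟨h.image_subset X hX0 hXinv ⟨y, hy'.1, rfl⟩, (hp y hy'.1).1 hy'.2⟩

end orblist

/-! ### Forests of machine runs -/

/-- A key of a vector (only used to certify distinctness). -/
def zz : ℤ → ℕ
  | Int.ofNat n => 2 * n
  | Int.negSucc n => 2 * n + 1

/-- A key of a vector (only used to certify distinctness). -/
def packV : V → ℕ
  | [] => 0
  | a :: l => packV l * 64 + zz a

/-- Strictly increasing lists of numbers. -/
def strictSortedN : List ℕ → Bool
  | [] => true
  | [_] => true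
  | a :: b :: rest => Nat.blt a b && strictSortedN (b :: rest)

theorem strictSortedN_pairwise : ∀ l : List ℕ, strictSortedN l = true →
    l.Pairwise (fun a b => a < b) := by
  intro l
  induction l with
  | nil => intro _; exact List.Pairwise.nil
  | cons a l ih =>
    intro h
    cases l with
    | nil => exact List.pairwise_singleton _ _
    | cons b rest =>
      unfold strictSortedN at h
      rw [Bool.and_eq_true, Nat.blt_eq] at h
      have hrest := ih h.2
      have hrest' := List.pairwise_cons.1 hrest
      rw [List.pairwise_cons]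
      refine ⟨?_, hrest⟩
      intro c hc
      rcases List.mem_cons.1 hc with rfl | hc
      · exact h.1
      · exact lt_trans h.1 (hrest'.1 c hc)

theorem nodup_of_strictSortedN {l : List ℕ} (h : strictSortedN l = true) : l.Nodup := by
  have := strictSortedN_pairwise l h
  unfold List.Nodup
  exact this.imp (fun hab => ne_of_lt hab)

/-- One chunk of a forest certificate: a machine run from `root`; `kids` are roots of later chunks
found in the output, `keys` is the sorted list of the keys of the output, `stat` the number of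
outputs satisfying a test; `init` is `[root]` or `[]` according as the root is recorded in the
output or not. -/
structure Chunk where
  root : V
  init : List V
  ins : List ℕ
  kids : List V
  keys : List ℕ
  stat : ℕ

/-- The output of a chunk. -/
def Chunk.out (sg : List (List Gen)) (c : Chunk) : List V := run sg c.ins [c.root] c.init

/-- The check of one chunk (one kernel evaluation). -/
def chunkOK (sg : List (List Gen)) (p : V → Bool) (c : Chunk) : Bool :=
  c.init.all (fun y => y == c.root) &&
  runK sg c.ins [c.root] c.init (fun L => L.all (fun y => y.length == 24) &&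
    c.kids.all (fun r => L.elem r) && (msort Nat.ble (L.map packV) == c.keys) &&
    ((L.filter p).length == c.stat))

theorem chunkOK_spec {sg : List (List Gen)} {ts : List V} (h1 : sgOK sg = true)
    (h2 : fixOK sg ts = true) {x0 : V} {p : V → Bool} {c : Chunk} (hc : chunkOK sg p c = true)
    (hroot : InOrb ts x0 c.root) :
    (∀ y ∈ c.out sg, InOrb ts x0 y ∧ y.length = 24) ∧ (∀ r ∈ c.kids, InOrb ts x0 r) ∧
      ((c.out sg).map packV).Perm c.keys ∧ ((c.out sg).filter p).length = c.stat := by
  unfold chunkOK at hc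
  rw [runK_eq] at hc
  simp only [Bool.and_eq_true, beq_iff_eq] at hc
  obtain ⟨hinit, ⟨⟨hlen, hkids⟩, hsorted⟩, hstat⟩ := hc
  unfold Chunk.out
  set L := run sg c.ins [c.root] c.init with hL
  have hin : ∀ y ∈ L, InOrb ts x0 y := by
    apply run_inOrb h1 h2
    · intro y hy
      rw [List.mem_singleton] at hy
      rw [hy]; exact hroot
    · intro y hy
      rw [List.all_eq_true] at hinit
      have := hinit y hy
      rw [beq_iff_eq] at this
      rw [this]; exact hroot
  refine ⟨?_, ?_, ?_, hstat⟩
  · intro y hyL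
    refine ⟨hin y hyL, ?_⟩
    rw [List.all_eq_true] at hlen
    have := hlen y hyL
    rwa [beq_iff_eq] at this
  · intro r hr
    rw [List.all_eq_true] at hkids
    have := hkids r hr
    rw [List.elem_eq_mem, decide_eq_true_eq] at this
    exact hin r this
  · rw [← hsorted]
    exact (msort_perm _ _).symm

/-- Every root is the first root or a kid of an earlier chunk. -/
def linkOK : List Chunk → List V → Bool
  | [], _ => true
  | c :: cs, avail => avail.elem c.root && linkOK cs (c.kids ++ avail)

theorem forest_inOrb {sg : List (List Gen)} {ts : List V} (h1 : sgOK sg = true)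
    (h2 : fixOK sg ts = true) {x0 : V} {p : V → Bool} :
    ∀ (cs : List Chunk) (avail : List V), (∀ c ∈ cs, chunkOK sg p c = true) →
      linkOK cs avail = true → (∀ r ∈ avail, InOrb ts x0 r) →
      ∀ c ∈ cs, InOrb ts x0 c.root := by
  intro cs
  induction cs with
  | nil => intro _ _ _ _ c hc; simp at hc
  | cons c cs ih =>
    intro avail hok hlink havail
    unfold linkOK at hlink
    rw [Bool.and_eq_true] at hlink
    have hroot : InOrb ts x0 c.root := by
      have := hlink.1
      rw [List.elem_eq_mem, decide_eq_true_eq] at this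
      exact havail _ this
    have hspec := chunkOK_spec h1 h2 (hok c List.mem_cons_self) hroot
    intro c' hc'
    rcases List.mem_cons.1 hc' with rfl | hc'
    · exact hroot
    · apply ih (c.kids ++ avail) (fun c'' hc'' => hok c'' (List.mem_cons_of_mem _ hc'')) hlink.2 _ c' hc'
      intro r hr
      rcases List.mem_append.1 hr with hr | hr
      · exact hspec.2.1 r hr
      · exact havail r hr

/-- The list of all points of a forest. -/
def forestList (sg : List (List Gen)) (cs : List Chunk) : List V :=
  (cs.map (Chunk.out sg)).flatten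

/-- The final check of a forest: the sorted key lists of the chunks merge to a strictly increasing
list of the right length. -/
def mergeOK (cs : List Chunk) (n : ℕ) : Bool :=
  forceNat cs.length (fun m =>
    (fun M : List ℕ => strictSortedN M && M.length == n)
      (msortF Nat.ble m (cs.map Chunk.keys)))

theorem perm_flatten_of_forall {α : Type*} : ∀ (l₁ l₂ : List (List α)),
    List.Forall₂ List.Perm l₁ l₂ → l₁.flatten.Perm l₂.flatten := by
  intro l₁ l₂ h
  induction h with
  | nil => exact List.Perm.refl _
  | cons hab _ ih =>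
    simp only [List.flatten_cons]
    exact hab.append ih

theorem forest_orbList {sg : List (List Gen)} {ts : List V} (h1 : sgOK sg = true)
    (h2 : fixOK sg ts = true) {x0 : V} (hx0 : toFn x0 ∈ leechLattice) {p : V → Bool}
    {cs : List Chunk} {n : ℕ}
    (hok : ∀ c ∈ cs, chunkOK sg p c = true) (hlink : linkOK cs [x0] = true)
    (hmerge : mergeOK cs n = true) :
    OrbList ts x0 (forestList sg cs) ∧ (forestList sg cs).length = n ∧
      ((forestList sg cs).filter p).length = (cs.map Chunk.stat).sum := by
  unfold mergeOK at hmerge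
  rw [forceNat_eq] at hmerge
  simp only [Bool.and_eq_true, beq_iff_eq] at hmerge
  have hperm := msortF_perm Nat.ble cs.length (cs.map Chunk.keys)
  have hroots := forest_inOrb h1 h2 cs [x0] hok hlink (by
    intro r hr
    rw [List.mem_singleton] at hr
    rw [hr]; exact inOrb_self ts x0 hx0)
  have hspec : ∀ c ∈ cs, (∀ y ∈ c.out sg, InOrb ts x0 y ∧ y.length = 24) ∧
      ((c.out sg).map packV).Perm c.keys ∧ ((c.out sg).filter p).length = c.stat := by
    intro c hc
    have := chunkOK_spec h1 h2 (hok c hc) (hroots c hc)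
    exact ⟨this.1, this.2.2.1, this.2.2.2⟩
  have hmem : ∀ y ∈ forestList sg cs, ∃ c ∈ cs, y ∈ c.out sg := by
    intro y hy
    unfold forestList at hy
    rw [List.mem_flatten] at hy
    obtain ⟨l, hl, hyl⟩ := hy
    rw [List.mem_map] at hl
    obtain ⟨c, hc, rfl⟩ := hl
    exact ⟨c, hc, hyl⟩
  have hkeys : ((forestList sg cs).map packV).Perm (cs.map Chunk.keys).flatten := by
    unfold forestList
    rw [List.map_flatten, List.map_map]
    apply perm_flatten_of_forall
    rw [List.forall₂_map_left_iff, List.forall₂_map_right_iff, List.forall₂_same]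
    intro c hc
    exact (hspec c hc).2.1
  have hnd : ((forestList sg cs).map packV).Nodup :=
    (hkeys.trans hperm.symm).nodup_iff.2 (nodup_of_strictSortedN hmerge.1)
  refine ⟨⟨List.Nodup.of_map _ hnd, ?_, ?_⟩, ?_, ?_⟩
  · intro y hy
    obtain ⟨c, hc, hyc⟩ := hmem y hy
    exact ((hspec c hc).1 y hyc).2
  · intro y hy
    obtain ⟨c, hc, hyc⟩ := hmem y hy
    exact ((hspec c hc).1 y hyc).1
  · rw [← hmerge.2, hperm.length_eq, ← hkeys.length_eq, List.length_map]
  · unfold forestList
    rw [List.filter_flatten, List.length_flatten, List.map_map, List.map_map]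
    congr 1
    apply List.map_congr_left
    intro c hc
    exact (hspec c hc).2.2

end Cfsg.Agent.Lib.H27.Eng
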