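/-
helper27 library: counting the fixed points of a word on a set enumerated by an `OrbList`.
-/
import Mathlib
import Cfsg.Agent.Lib.H27.Engine4

set_option autoImplicit false

namespace Cfsg.Agent.Lib.H27.Eng

open Cfsg Cfsg.Agent.Lib.H28 Cfsg.Agent.Lib.H27

/-- The two lists agree in the first 24 coordinates. -/
def sameV (a b : V) : Bool := (List.range 24).all (fun k => decide (nth a k = nth b k))

theorem sameV_iff (a b : V) : sameV a b = true ↔ toFn a = toFn b := by
  unfold sameV
  rw [List.all_eq_true]
  constructor
  · intro h
    funext p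
    unfold toFn
    have := h (gIdx p) (List.mem_range.2 (gIdx_lt p))
    rwa [decide_eq_true_eq] at this
  · intro h k hk
    rw [decide_eq_true_eq]
    exact nth_of_toFn_eq h (List.mem_range.1 hk)

/-- The test `actWord w y = y` (coordinatewise). -/
def fixedBy (w : List Gen) (y : V) : Bool := sameV (actWord w y) y

theorem fixedBy_iff (w : List Gen) (hw : w.all Gen.ok = true) (y : V)
    (hy : toFn y ∈ leechLattice) : fixedBy w y = true ↔ wordCo0 w • mkL y = mkL y := by
  unfold fixedBy
  rw [sameV_iff, actWord_spec w hw y hy, mkL_of_mem hy]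
  constructor
  · intro h
    exact Subtype.ext h
  · intro h
    rw [h]

variable {ts : List V} {x0 : V} {L : List V}

/-- Counting the points of `X` fixed by a word. -/
theorem OrbList.ncard_fixed (h : OrbList ts x0 L) (X : Set leechLattice) (hX0 : mkL x0 ∈ X)
    (hXinv : ∀ g : Co0, Fixes g ts → ∀ x ∈ X, g • x ∈ X) (hpos : 0 < L.length)
    (hcard : X.ncard = L.length) (w : List Gen) (hw : w.all Gen.ok = true) :
    {x | x ∈ X ∧ wordCo0 w • x = x}.ncard = (L.filter (fixedBy w)).length :=
  h.ncard_filter X hX0 hXinv hpos hcard (fun x => wordCo0 w • x = x) (fixedBy w)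
    (fun y hy => fixedBy_iff w hw y (h.inOrb y hy).mem)

/-- Chunkwise count of the elements satisfying `p` (one kernel evaluation per chunk). -/
def chunkCnt (sg : List (List Gen)) (p : V → Bool) (c : Chunk) (k : ℕ) : Bool :=
  runK sg c.ins [c.root] c.init (fun L => (L.filter p).length == k)

theorem chunkCnt_spec {sg : List (List Gen)} {p : V → Bool} {c : Chunk} {k : ℕ}
    (h : chunkCnt sg p c k = true) : ((c.out sg).filter p).length = k := by
  unfold chunkCnt at h
  rw [runK_eq, beq_iff_eq] at h
  exact h

theorem filter_length_of_cnts (sg : List (List Gen)) (p : V → Bool) :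
    ∀ (cs : List Chunk) (ks : List ℕ),
      List.Forall₂ (fun c k => chunkCnt sg p c k = true) cs ks →
      ((forestList sg cs).filter p).length = ks.sum := by
  intro cs ks h
  induction h with
  | nil => rfl
  | cons hck _ ih =>
    unfold forestList at ih ⊢
    rw [List.map_cons, List.flatten_cons, List.filter_append, List.length_append, ih,
      chunkCnt_spec hck, List.sum_cons]

end Cfsg.Agent.Lib.H27.Eng
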