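/-
helper27 library (generated by scripts/gen_simple.py): an element of the monomial `M22` whose
number of fixed points on the 2025 points does not divide this degree.
-/
import Cfsg.Agent.Lib.H27.FixCount
import Cfsg.Agent.Lib.H27.McL2025Data

set_option autoImplicit false
set_option maxRecDepth 1000000

namespace Cfsg.Agent.Lib.H27.SimpleDataMcL

open Cfsg.Agent.Lib.H27.Eng

def wMcL : List Gen := [Gen.mono [0, 1, 2, 22, 21, 7, 9, 5, 12, 6, 10, 11, 8, 13, 14, 17, 20, 15, 23, 19, 16, 4, 3, 18] [0, 1, 2, 22, 21, 7, 9, 5, 12, 6, 10, 11, 8, 13, 14, 17, 20, 15, 23, 19, 16, 4, 3, 18] 0]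
theorem wMcL_ok : sgOK [wMcL] = true := by decide +kernel
theorem wMcL_fix : fixOK [wMcL] [McLData.u0, McLData.v0] = true := by decide +kernel
theorem wMcL_cnt0 : chunkCnt McLData.sg (fixedBy wMcL) McL2025Data.bc0 11 = true := by decide +kernel
theorem wMcL_cnt1 : chunkCnt McLData.sg (fixedBy wMcL) McL2025Data.bc1 72 = true := by decide +kernel
theorem wMcL_cnt2 : chunkCnt McLData.sg (fixedBy wMcL) McL2025Data.bc2 22 = true := by decide +kernel
theorem wMcL_cnt : ((forestList McLData.sg McL2025Data.bchunks).filter (fixedBy wMcL)).length = 105 := by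
  have h := filter_length_of_cnts McLData.sg (fixedBy wMcL) McL2025Data.bchunks [11, 72, 22]
    (by
      unfold McL2025Data.bchunks
      exact List.Forall₂.cons wMcL_cnt0 (List.Forall₂.cons wMcL_cnt1 (List.Forall₂.cons wMcL_cnt2 (List.Forall₂.nil))))
  rw [h]
  decide

end Cfsg.Agent.Lib.H27.SimpleDataMcL
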