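import Mathlib
import Cfsg.Prelude.Def_Sporadic_a
import Cfsg.Agent.Lib.H27.Engine4

/-!
helper27 library: deciding that a word in the elementary elements of `Co0` is the identity, by
letting it act on generators of the lattice.
-/

set_option autoImplicit false

namespace Cfsg.Agent.Lib.H27.Eng

open Cfsg Finset Cfsg.Agent.Lib.H28 Cfsg.Agent.Lib.H27

theorem wordCo0_append (w1 w2 : List Gen) : wordCo0 (w1 ++ w2) = wordCo0 w2 * wordCo0 w1 := by
  induction w1 with
  | nil => rw [List.nil_append, wordCo0_nil, mul_one]
  | cons g w ih => rw [List.cons_append, wordCo0_cons, ih, wordCo0_cons, mul_assoc]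

/-- The vectors fixed by an element of `Co0`. -/
def fixSub (h : Co0) : AddSubgroup (GolayPt → ℤ) where
  carrier := {x | ∃ hx : x ∈ leechLattice, h • (⟨x, hx⟩ : leechLattice) = ⟨x, hx⟩}
  zero_mem' := ⟨leechLattice.zero_mem, Co0_smul_zero h⟩
  add_mem' := by
    rintro x y ⟨hx, hx'⟩ ⟨hy, hy'⟩
    refine ⟨leechLattice.add_mem hx hy, ?_⟩
    have := Co0_smul_add h ⟨x, hx⟩ ⟨y, hy⟩
    rw [hx', hy'] at this
    exact this
  neg_mem' := by
    rintro x ⟨hx, hx'⟩
    refine ⟨leechLattice.neg_mem hx, ?_⟩
    have := Co0_smul_neg h ⟨x, hx⟩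
    rw [hx'] at this
    exact this

/-- The lists of the generators of the lattice used in `leech_le_of_gens`. -/
def gen1L (i : ℕ) : V :=
  (List.range 24).map (fun k => (if k = i then 4 else 0) - (if k = 23 then 4 else 0))

def gen2L : V := (List.range 24).map (fun k => if k = 23 then 8 else 0)

def gen3L (b : ℕ) : V := (List.range 24).map (fun k => if b.testBit k then 2 else 0)

def gen4L : V := (List.range 24).map (fun k => if k = 23 then -3 else 1)

def genLists : List V := (List.range 24).map gen1L ++ [gen2L] ++ basisMasks.map gen3L ++ [gen4L]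

theorem gIdx_eq_iff (p : GolayPt) {i : ℕ} (hi : i < 24) : gIdx p = i ↔ p = gPt i := by
  constructor
  · intro h
    rw [← h, gPt_gIdx]
  · intro h
    rw [h, gIdx_gPt hi]

theorem gIdx_eq_23 (p : GolayPt) : gIdx p = 23 ↔ p = none := by
  have : gPt 23 = none := by decide
  rw [gIdx_eq_iff p (by norm_num), this]

theorem toFn_gen1L (i : GolayPt) : toFn (gen1L (gIdx i)) = Pi.single i 4 - Pi.single none 4 := by
  funext p
  unfold toFn gen1L
  rw [nth_map_range 24 _ (gIdx_lt p)]
  simp only [Pi.sub_apply, Pi.single_apply]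
  have h1 : gIdx p = gIdx i ↔ p = i := by
    rw [gIdx_eq_iff p (gIdx_lt i), gPt_gIdx]
  have h2 := gIdx_eq_23 p
  simp only [h1, h2]

theorem toFn_gen2L : toFn gen2L = Pi.single none 8 := by
  funext p
  unfold toFn gen2L
  rw [nth_map_range 24 _ (gIdx_lt p)]
  simp only [Pi.single_apply]
  have h2 := gIdx_eq_23 p
  by_cases hpn : p = none <;> simp [hpn, h2, gIdx_none]

theorem toFn_gen3L (b : ℕ) : toFn (gen3L b) = twoLift (W b) := by
  funext p
  unfold toFn gen3L twoLift
  rw [nth_map_range 24 _ (gIdx_lt p), W_apply]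
  by_cases h : b.testBit (gIdx p) = true
  · rw [if_pos h, if_pos h]; rfl
  · rw [if_neg h, if_neg h]; rfl

theorem toFn_gen4L : toFn gen4L = vOdd := by
  funext p
  unfold toFn gen4L vOdd
  rw [nth_map_range 24 _ (gIdx_lt p)]
  have h2 := gIdx_eq_23 p
  by_cases hpn : p = none <;> simp [hpn, h2, gIdx_none]

theorem genLists_mem_bool : genLists.all (fun b => inLeech (toFn b)) = true := by decide +kernel

theorem genLists_mem {b : V} (hb : b ∈ genLists) : toFn b ∈ leechLattice := by
  have h := genLists_mem_bool
  rw [List.all_eq_true] at h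
  exact mem_of_inLeech (h b hb)

/-- An element of `Co0` fixing the generators is the identity. -/
theorem eq_one_of_fixes {h : Co0} (hfix : Fixes h genLists) : h = 1 := by
  have key : ∀ b ∈ genLists, toFn b ∈ fixSub h := by
    intro b hb
    exact ⟨genLists_mem hb, hfix b hb (genLists_mem hb)⟩
  have hle : leechLattice ≤ fixSub h := by
    apply leech_le_of_gens (fixSub h)
    · intro i
      rw [← toFn_gen1L]
      apply key
      unfold genLists
      simp only [List.mem_append, List.mem_map, List.mem_range]
      exact Or.inl (Or.inl (Or.inl ⟨gIdx i, gIdx_lt i, rfl⟩))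
    · rw [← toFn_gen2L]
      apply key
      simp [genLists]
    · intro b hb
      rw [← toFn_gen3L]
      apply key
      unfold genLists
      simp only [List.mem_append, List.mem_map]
      exact Or.inl (Or.inr ⟨b, hb, rfl⟩)
    · rw [← toFn_gen4L]
      apply key
      simp [genLists]
  apply Co0_ext
  intro v
  obtain ⟨hv, hv'⟩ := hle v.2
  rw [one_smul]
  have : (⟨(v : GolayPt → ℤ), hv⟩ : leechLattice) = v := rfl
  rw [this] at hv'
  rw [hv']

/-- Checking that a word is the identity. -/
def wordIsOne (w : List Gen) : Bool := genLists.all (fun b => decide (actWord w b = b))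

theorem wordCo0_eq_one {w : List Gen} (hok : w.all Gen.ok = true) (h : wordIsOne w = true) :
    wordCo0 w = 1 := by
  apply eq_one_of_fixes
  intro b hb hbL
  unfold wordIsOne at h
  rw [List.all_eq_true] at h
  have := h b hb
  rw [decide_eq_true_eq] at this
  apply Subtype.ext
  rw [← actWord_spec w hok b hbL, this]

end Cfsg.Agent.Lib.H27.Eng
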