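/-
helper27 library: deciding that two words in the elementary elements of `Co0` give the same element (a copy of the
tools of `Co3Cent`/`Co3Rel` that does not depend on the data of `Co3`).
-/
import Mathlib
import Cfsg.Prelude.Def_Sporadic_a
import Cfsg.Agent.Lib.H27.Co0Word

set_option autoImplicit false

namespace Cfsg.Agent.Lib.H27.WEq

open Cfsg Cfsg.Agent.Lib.H28 Cfsg.Agent.Lib.H27 Cfsg.Agent.Lib.H27.Eng

/-- The action of a word, with every intermediate vector evaluated (for long words). -/
def actWordF : List Gen → V → V
  | [], l => l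
  | g :: w, l => forceList (g.act l) (fun l' => actWordF w l')

theorem actWordF_eq (w : List Gen) (l : V) : actWordF w l = actWord w l := by
  induction w generalizing l with
  | nil => rfl
  | cons g w ih =>
    show forceList (g.act l) (fun l' => actWordF w l') = actWord w (g.act l)
    rw [forceList_eq, ih]

/-- Two words acting in the same way on the generators of the lattice give the same element. -/
def wordEq (w1 w2 : List Gen) : Bool := genLists.all (fun b => decide (actWordF w1 b = actWordF w2 b))

theorem wordCo0_eq_of_wordEq {w1 w2 : List Gen} (hok1 : w1.all Gen.ok = true) (hok2 : w2.all Gen.ok = true)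
    (h : wordEq w1 w2 = true) : wordCo0 w1 = wordCo0 w2 := by
  have key : (wordCo0 w2)⁻¹ * wordCo0 w1 = 1 := by
    apply eq_one_of_fixes
    intro b hb hbL
    unfold wordEq at h
    rw [List.all_eq_true] at h
    have := h b hb
    rw [decide_eq_true_eq, actWordF_eq, actWordF_eq] at this
    rw [mul_smul, inv_smul_eq_iff]
    apply Subtype.ext
    rw [← actWord_spec w1 hok1 b hbL, ← actWord_spec w2 hok2 b hbL, this]
  rw [inv_mul_eq_one] at key
  exact key.symm

/-- The word of a product. -/
def wmul (wa wb : List Gen) : List Gen := wb ++ wa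

theorem wordCo0_wmul (wa wb : List Gen) : wordCo0 (wmul wa wb) = wordCo0 wa * wordCo0 wb :=
  wordCo0_append wb wa

theorem wmul_ok {wa wb : List Gen} (ha : wa.all Gen.ok = true) (hb : wb.all Gen.ok = true) :
    (wmul wa wb).all Gen.ok = true := by
  unfold wmul
  rw [List.all_append, ha, hb]
  rfl

/-- The word of a power. -/
def wpow (w : List Gen) : ℕ → List Gen
  | 0 => []
  | n + 1 => wmul w (wpow w n)

theorem wordCo0_wpow (w : List Gen) (n : ℕ) : wordCo0 (wpow w n) = wordCo0 w ^ n := by
  induction n with
  | zero => rfl
  | succ n ih =>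
    show wordCo0 (wmul w (wpow w n)) = _
    rw [wordCo0_wmul, ih, pow_succ']

theorem wpow_ok {w : List Gen} (h : w.all Gen.ok = true) (n : ℕ) : (wpow w n).all Gen.ok = true := by
  induction n with
  | zero => rfl
  | succ n ih => exact wmul_ok h ih

/-- Forced version of `fixOK`. -/
def fixOKF (sg : List (List Gen)) (ts : List V) : Bool :=
  sg.all (fun w => ts.all (fun t => decide (actWordF w t = t)))

theorem fixes_of_fixOKF {sg : List (List Gen)} {ts : List V} (h1 : sgOK sg = true)
    (h2 : fixOKF sg ts = true) {w : List Gen} (hw : w ∈ sg) : Fixes (wordCo0 w) ts := by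
  unfold sgOK at h1
  unfold fixOKF at h2
  rw [List.all_eq_true] at h1 h2
  have hok := h1 w hw
  have hfix := h2 w hw
  rw [List.all_eq_true] at hfix
  intro t ht htL
  apply Subtype.ext
  rw [← actWord_spec w hok t htL]
  have := hfix t ht
  rw [decide_eq_true_eq, actWordF_eq] at this
  rw [this]

end Cfsg.Agent.Lib.H27.WEq
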