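/-
helper27 library (generated by scripts/gen_mclinv.py): data for the involutions of the McLaughlin group
`McL = Stab(u0, v0)`, `u0 = (5, 1^23)`, `v0 = (4, 4, 0^22)`: six elements `W i` of order three in the
centralizer of the coordinate involution `t = wMcL` with `(W i * W j)^2 = t` (generators of `2.A8`), elements of
the centralizer of the involution in `M24` realizing every ordered pair of its fixed points, and the 1155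
involutions of `M24` fixing the first two points.
-/
import Mathlib
import Cfsg.Agent.Lib.H27.SimpleDataMcL
import Cfsg.Agent.Lib.H27.WordEq

set_option autoImplicit false
set_option maxRecDepth 1000000

namespace Cfsg.Agent.Lib.H27.McLInvData

open Cfsg.Agent.Lib.H27.Eng Cfsg.Agent.Lib.H27.WEq Cfsg.Agent.Lib.H27.SimpleDataMcL Cfsg.Agent.Lib.H28

def wW : List (List Gen) := [
  [Gen.mono [0, 2, 6, 23, 19, 14, 4, 7, 3, 5, 21, 11, 1, 8, 13, 20, 12, 18, 22, 16, 17, 15, 10, 9] [0, 12, 1, 8, 6, 9, 2, 7, 13, 23, 22, 11, 16, 14, 5, 21, 19, 20, 17, 4, 15, 10, 18, 3] 11208045, Gen.xi, Gen.mono [4, 13, 19, 20, 9, 14, 6, 3, 15, 8, 21, 11, 5, 23, 18, 1, 7, 22, 16, 2, 12, 17, 10, 0] [23, 15, 19, 7, 0, 12, 6, 16, 9, 4, 22, 11, 20, 1, 5, 8, 18, 21, 14, 2, 3, 10, 17, 13] 9830549, Gen.xi, Gen.mono [5, 11,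 2, 7, 23, 9, 10, 8, 4, 3, 21, 14, 17, 1, 6, 12, 15, 13, 20, 18, 0, 16, 22, 19] [20, 13, 2, 9, 8, 0, 14, 3, 7, 5, 6, 1, 15, 17, 11, 16, 21, 12, 19, 23, 18, 10, 22, 4] 9178690],
  [Gen.mono [0, 3, 11, 6, 17, 13, 2, 21, 8, 1, 18, 22, 23, 7, 20, 15, 4, 14, 16, 12, 10, 19, 9, 5] [0, 9, 6, 1, 16, 23, 3, 13, 8, 22, 20, 2, 19, 5, 17, 15, 18, 4, 10, 21, 14, 7, 11, 12] 6446562, Gen.xi, Gen.mono [12, 13, 18, 19, 0, 5, 14, 16, 21, 23, 2, 10, 7, 6, 11, 22, 17, 1, 4, 3, 15, 9, 8, 20] [4, 17, 10, 19, 18, 5, 13, 12, 22, 21, 11, 14, 0, 1, 6, 20, 7, 16, 2, 3, 23, 8, 15, 9] 0, Gen.xi, Gen.mono [23, 14, 18, 10, 5, 13, 15, 3, 9, 17, 6, 11, 16, 4, 12, 7, 22, 19, 21, 20, 1, 0, 2, 8] [21, 20, 22, 7, 13, 4, 10, 15, 23, 8, 3, 11, 14, 5, 1, 6, 12, 9, 2, 17, 19, 18, 16, 0] 15413891],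
  [Gen.mono [0, 1, 9, 18, 4, 13, 11, 19, 8, 14, 2, 20, 5, 23, 10, 21, 6, 22, 3, 15, 16, 7, 17, 12] [0, 1, 10, 18, 4, 12, 16, 21, 8, 2, 14, 6, 23, 5, 9, 19, 20, 22, 3, 7, 11, 15, 17, 13] 8421811, Gen.xi, Gen.mono [9, 12, 14, 23, 18, 0, 20, 5, 16, 8, 1, 17, 15, 22, 3, 6, 19, 10, 4, 7, 13, 21, 2, 11] [5, 10, 22, 14, 18, 7, 15, 19, 9, 0, 17, 23, 1, 20, 2, 12, 8, 11, 4, 16, 6, 21, 13, 3] 14962268, Gen.xi, Gen.mono [15, 7, 14, 23, 10, 18, 0, 3, 20, 21, 19, 9, 1, 22, 4, 2, 6, 13, 8, 5, 11, 12, 17, 16] [6, 12, 15, 7, 14, 19, 16, 1, 18, 11, 4, 20, 21, 17, 2, 0, 23, 22, 5, 10, 8, 9, 13, 3] 463064, Gen.xi, Gen.mono [19, 2, 18, 9, 8, 14, 16, 15, 10, 21, 7, 3, 23, 1, 11, 20, 13, 12, 0, 17, 5, 4, 6, 22] [18, 13, 1, 11, 21, 20, 22, 10, 4, 3, 8, 14, 17, 16, 5, 7, 6, 19, 2, 0, 15, 9, 23, 12] 7456421],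
  [Gen.mono [0, 23, 6, 18, 4, 2, 7, 8, 3, 10, 16, 15, 19, 1, 14, 21, 17, 13, 5, 11, 22, 20, 12, 9] [0, 13, 5, 8, 4, 18, 2, 6, 7, 23, 9, 19, 22, 17, 14, 11, 10, 16, 3, 12, 21, 15, 20, 1] 4501338, Gen.xi, Gen.mono [1, 3, 6, 23, 16, 9, 7, 22, 13, 12, 17, 11, 19, 4, 14, 8, 0, 20, 15, 10, 2, 18, 5, 21] [16, 0, 20, 1, 13, 22, 2, 6, 15, 5, 19, 11, 9, 8, 14, 18, 4, 10, 21, 12, 17, 23, 7, 3] 11911538, Gen.xi, Gen.mono [7, 0, 12, 21, 2, 16, 3, 20, 1, 13, 8, 9, 15, 14, 4, 5, 17, 23, 19, 18, 10, 22, 6, 11] [1, 8, 4, 6, 14, 15, 22, 0, 10, 11, 20, 23, 2, 9, 13, 12, 5, 16, 19, 18, 7, 3, 21, 17] 1646562, Gen.xi, Gen.mono [16, 17, 2, 14, 0, 23, 22, 15, 3, 11, 13, 1, 20, 5, 21, 10, 12, 6, 9, 19, 7, 18, 8, 4] [4, 11, 2, 8, 23, 13, 17, 20, 22, 18, 15, 9, 16, 10, 3, 7, 0, 1, 21, 19, 12, 14, 6, 5] 9200031],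
  [Gen.mono [0, 1, 13, 9, 10, 14, 5, 12, 17, 11, 22, 23, 18, 16, 4, 8, 7, 3, 19, 2, 20, 6, 21, 15] [0, 1, 19, 17, 14, 6, 21, 16, 15, 3, 4, 9, 7, 2, 5, 23, 13, 8, 12, 18, 20, 22, 10, 11] 9524910, Gen.xi, Gen.mono [8, 19, 21, 23, 12, 1, 15, 2, 14, 0, 16, 11, 22, 17, 3, 7, 20, 18, 13, 4, 9, 6, 10, 5] [9, 5, 7, 14, 19, 23, 21, 15, 0, 20, 22, 11, 4, 18, 8, 6, 10, 13, 17, 1, 16, 2, 12, 3] 9451104, Gen.xi, Gen.mono [14, 23, 10, 6, 17, 22, 9, 19, 13, 8, 0, 4, 20, 18, 1, 7, 11, 12, 3, 21, 16, 5, 15, 2] [10, 14, 23, 18, 11, 21, 3, 15, 9, 6, 2, 16, 17, 8, 0, 22, 20, 4, 13, 7, 12, 19, 5, 1] 8541360, Gen.xi, Gen.mono [5, 13, 10, 20, 7, 9, 15, 14, 3, 21, 16, 11, 19, 1, 6, 8, 18, 12, 17, 22, 4, 0, 2, 23] [21, 13, 22, 8, 20, 0, 14, 4, 15, 5, 2, 11, 17, 1, 7, 6, 10, 18, 16, 12, 3, 9, 19, 23] 13700765],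
  [Gen.mono [0, 1, 18, 6, 22, 21, 14, 20, 7, 19, 5, 3, 23, 10, 15, 4, 13, 8, 16, 11, 2, 17, 12, 9] [0, 1, 20, 11, 15, 10, 3, 8, 17, 23, 13, 19, 22, 16, 6, 14, 18, 21, 2, 9, 7, 5, 4, 12] 3811457, Gen.xi, Gen.mono [0, 1, 5, 18, 7, 2, 22, 17, 13, 20, 12, 23, 21, 10, 19, 8, 14, 4, 11, 16, 3, 15, 6, 9] [0, 1, 5, 20, 17, 2, 22, 4, 15, 23, 13, 18, 10, 8, 16, 21, 19, 7, 3, 14, 9, 12, 6, 11] 361272, Gen.xi, Gen.mono [22, 11, 4, 0, 12, 9, 17, 14, 2, 6, 5, 20, 1, 13, 23, 19, 8, 15, 10, 7, 3, 21, 16, 18] [3, 12, 8, 20, 2, 10, 9, 19, 16, 5, 18, 1, 4, 13, 7, 17, 22, 6, 23, 15, 11, 21, 0, 14] 13047522, Gen.xi, Gen.mono [6, 11, 4, 13, 9, 14, 1, 23, 5, 0, 16, 18, 3, 10, 15, 17, 12, 2, 19, 21, 20, 8, 7, 22] [9, 6, 17, 12, 2, 8, 0, 22, 21, 4, 13, 1, 16, 3, 5, 14, 10, 15, 11, 18, 20, 19, 23, 7] 10252980]]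

theorem wW_ok : sgOK wW = true := by decide +kernel
theorem wW_fix : fixOKF wW [McLData.u0, McLData.v0] = true := by decide +kernel

theorem rel_cube_0 : wordEq (wpow (wW.getD 0 []) 3) [] = true := by decide +kernel
theorem rel_cube_1 : wordEq (wpow (wW.getD 1 []) 3) [] = true := by decide +kernel
theorem rel_cube_2 : wordEq (wpow (wW.getD 2 []) 3) [] = true := by decide +kernel
theorem rel_cube_3 : wordEq (wpow (wW.getD 3 []) 3) [] = true := by decide +kernel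
theorem rel_cube_4 : wordEq (wpow (wW.getD 4 []) 3) [] = true := by decide +kernel
theorem rel_cube_5 : wordEq (wpow (wW.getD 5 []) 3) [] = true := by decide +kernel
theorem rel_sq_0_1 : wordEq (wpow (wmul (wW.getD 0 []) (wW.getD 1 [])) 2) wMcL = true := by decide +kernel
theorem rel_sq_0_2 : wordEq (wpow (wmul (wW.getD 0 []) (wW.getD 2 [])) 2) wMcL = true := by decide +kernel
theorem rel_sq_0_3 : wordEq (wpow (wmul (wW.getD 0 []) (wW.getD 3 [])) 2) wMcL = true := by decide +kernel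
theorem rel_sq_0_4 : wordEq (wpow (wmul (wW.getD 0 []) (wW.getD 4 [])) 2) wMcL = true := by decide +kernel
theorem rel_sq_0_5 : wordEq (wpow (wmul (wW.getD 0 []) (wW.getD 5 [])) 2) wMcL = true := by decide +kernel
theorem rel_sq_1_2 : wordEq (wpow (wmul (wW.getD 1 []) (wW.getD 2 [])) 2) wMcL = true := by decide +kernel
theorem rel_sq_1_3 : wordEq (wpow (wmul (wW.getD 1 []) (wW.getD 3 [])) 2) wMcL = true := by decide +kernel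
theorem rel_sq_1_4 : wordEq (wpow (wmul (wW.getD 1 []) (wW.getD 4 [])) 2) wMcL = true := by decide +kernel
theorem rel_sq_1_5 : wordEq (wpow (wmul (wW.getD 1 []) (wW.getD 5 [])) 2) wMcL = true := by decide +kernel
theorem rel_sq_2_3 : wordEq (wpow (wmul (wW.getD 2 []) (wW.getD 3 [])) 2) wMcL = true := by decide +kernel
theorem rel_sq_2_4 : wordEq (wpow (wmul (wW.getD 2 []) (wW.getD 4 [])) 2) wMcL = true := by decide +kernel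
theorem rel_sq_2_5 : wordEq (wpow (wmul (wW.getD 2 []) (wW.getD 5 [])) 2) wMcL = true := by decide +kernel
theorem rel_sq_3_4 : wordEq (wpow (wmul (wW.getD 3 []) (wW.getD 4 [])) 2) wMcL = true := by decide +kernel
theorem rel_sq_3_5 : wordEq (wpow (wmul (wW.getD 3 []) (wW.getD 5 [])) 2) wMcL = true := by decide +kernel
theorem rel_sq_4_5 : wordEq (wpow (wmul (wW.getD 4 []) (wW.getD 5 [])) 2) wMcL = true := by decide +kernel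
theorem rel_comm_0 : wordEq (wmul (wW.getD 0 []) wMcL) (wmul wMcL (wW.getD 0 [])) = true := by decide +kernel
theorem rel_comm_1 : wordEq (wmul (wW.getD 1 []) wMcL) (wmul wMcL (wW.getD 1 [])) = true := by decide +kernel
theorem rel_comm_2 : wordEq (wmul (wW.getD 2 []) wMcL) (wmul wMcL (wW.getD 2 [])) = true := by decide +kernel
theorem rel_comm_3 : wordEq (wmul (wW.getD 3 []) wMcL) (wmul wMcL (wW.getD 3 [])) = true := by decide +kernel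
theorem rel_comm_4 : wordEq (wmul (wW.getD 4 []) wMcL) (wmul wMcL (wW.getD 4 [])) = true := by decide +kernel
theorem rel_comm_5 : wordEq (wmul (wW.getD 5 []) wMcL) (wmul wMcL (wW.getD 5 [])) = true := by decide +kernel

/-- `t ^ 2 = 1`. -/
theorem rel_t : wordEq (wpow wMcL 2) [] = true := by decide +kernel

/-- `W i ^ 3 = 1`. -/
theorem rel_cube_all : ∀ i < 6, wordEq (wpow (wW.getD i []) 3) [] = true := by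
  intro i hi
  interval_cases i
  · exact rel_cube_0
  · exact rel_cube_1
  · exact rel_cube_2
  · exact rel_cube_3
  · exact rel_cube_4
  · exact rel_cube_5

/-- `(W i * W j) ^ 2 = t`. -/
theorem rel_sq_all : ∀ i < 6, ∀ j < 6, i < j →
    wordEq (wpow (wmul (wW.getD i []) (wW.getD j [])) 2) wMcL = true := by
  intro i hi j hj hij
  interval_cases i <;> interval_cases j
  · exact rel_sq_0_1
  · exact rel_sq_0_2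
  · exact rel_sq_0_3
  · exact rel_sq_0_4
  · exact rel_sq_0_5
  · exact rel_sq_1_2
  · exact rel_sq_1_3
  · exact rel_sq_1_4
  · exact rel_sq_1_5
  · exact rel_sq_2_3
  · exact rel_sq_2_4
  · exact rel_sq_2_5
  · exact rel_sq_3_4
  · exact rel_sq_3_5
  · exact rel_sq_4_5

/-- `W i * t = t * W i`. -/
theorem rel_comm_all : ∀ i < 6, wordEq (wmul (wW.getD i []) wMcL) (wmul wMcL (wW.getD i [])) = true := by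
  intro i hi
  interval_cases i
  · exact rel_comm_0
  · exact rel_comm_1
  · exact rel_comm_2
  · exact rel_comm_3
  · exact rel_comm_4
  · exact rel_comm_5

/-- The table of the involution. -/
def tauTab : List ℕ := [0, 1, 2, 22, 21, 7, 9, 5, 12, 6, 10, 11, 8, 13, 14, 17, 20, 15, 23, 19, 16, 4, 3, 18]

theorem wMcL_eq : wMcL = [Gen.mono tauTab tauTab 0] := rfl

/-- Elements of the centralizer of the involution in `M24` mapping the points `0, 1` to `a, b`. -/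
def cTab : List (ℕ × ℕ × List ℕ × List ℕ) := [
  (0, 1, [0, 1, 2, 3, 4, 5, 6, 7, 8, 9, 10, 11, 12, 13, 14, 15, 16, 17, 18, 19, 20, 21, 22, 23], [0, 1, 2, 3, 4, 5, 6, 7, 8, 9, 10, 11, 12, 13, 14, 15, 16, 17, 18, 19, 20, 21, 22, 23]),
  (0, 2, [0, 2, 11, 5, 6, 21, 20, 4, 18, 16, 10, 1, 23, 14, 19, 22, 17, 3, 8, 13, 15, 9, 7, 12], [0, 11, 1, 17, 7, 3, 4, 22, 18, 21, 10, 2, 23, 19, 13, 20, 9, 16, 8, 14, 6, 5, 15, 12]),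
  (0, 10, [0, 10, 2, 3, 17, 16, 23, 20, 12, 18, 11, 19, 8, 14, 13, 7, 4, 5, 6, 1, 21, 15, 22, 9], [0, 19, 2, 3, 16, 17, 18, 15, 12, 23, 1, 10, 8, 14, 13, 21, 5, 4, 9, 11, 7, 20, 22, 6]),
  (0, 11, [0, 11, 2, 3, 20, 15, 9, 17, 12, 6, 10, 1, 8, 14, 13, 5, 21, 7, 18, 19, 4, 16, 22, 23], [0, 11, 2, 3, 20, 15, 9, 17, 12, 6, 10, 1, 8, 14, 13, 5, 21, 7, 18, 19, 4, 16, 22, 23]),
  (0, 13, [0, 13, 11, 16, 21, 9, 18, 6, 12, 23, 2, 10, 8, 19, 14, 3, 17, 22, 5, 1, 15, 4, 20, 7], [0, 19, 10, 15, 21, 18, 7, 23, 12, 5, 11, 2, 8, 1, 14, 20, 3, 16, 6, 13, 22, 4, 17, 9]),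
  (0, 14, [0, 14, 2, 9, 15, 7, 23, 5, 12, 18, 11, 13, 8, 10, 19, 16, 21, 20, 22, 1, 4, 17, 6, 3], [0, 19, 2, 23, 20, 7, 22, 5, 12, 3, 13, 10, 8, 11, 1, 4, 15, 21, 9, 14, 17, 16, 18, 6]),
  (0, 19, [0, 19, 2, 3, 21, 7, 18, 5, 8, 23, 11, 10, 12, 13, 14, 16, 15, 20, 6, 1, 17, 4, 22, 9], [0, 19, 2, 3, 21, 7, 18, 5, 8, 23, 11, 10, 12, 13, 14, 16, 15, 20, 6, 1, 17, 4, 22, 9]),
  (1, 0, [1, 0, 2, 7, 4, 22, 20, 3, 8, 16, 10, 11, 12, 19, 14, 17, 9, 15, 23, 13, 6, 21, 5, 18], [1, 0, 2, 7, 4, 22, 20, 3, 8, 16, 10, 11, 12, 19, 14, 17, 9, 15, 23, 13, 6, 21, 5, 18]),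
  (1, 2, [1, 2, 11, 22, 20, 21, 6, 4, 23, 9, 10, 0, 18, 14, 13, 5, 15, 7, 8, 19, 17, 16, 3, 12], [11, 0, 1, 22, 7, 15, 6, 17, 18, 9, 10, 2, 23, 14, 13, 16, 21, 20, 12, 19, 4, 5, 3, 8]),
  (1, 10, [1, 10, 2, 7, 15, 9, 18, 6, 12, 23, 11, 13, 8, 14, 19, 3, 4, 22, 20, 0, 21, 17, 5, 16], [19, 0, 2, 15, 16, 22, 7, 3, 12, 5, 1, 10, 8, 11, 13, 4, 23, 21, 6, 14, 18, 20, 17, 9]),
  (1, 11, [1, 11, 2, 7, 6, 17, 16, 15, 12, 20, 10, 0, 8, 14, 19, 22, 21, 3, 23, 13, 4, 9, 5, 18], [11, 0, 2, 17, 20, 22, 4, 3, 12, 21, 10, 1, 8, 19, 13, 7, 6, 5, 23, 14, 9, 16, 15, 18]),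
  (1, 13, [1, 13, 2, 7, 21, 3, 23, 22, 8, 18, 11, 10, 12, 19, 14, 9, 17, 6, 20, 0, 15, 4, 5, 16], [19, 0, 2, 5, 21, 22, 17, 3, 8, 15, 11, 10, 12, 1, 14, 20, 23, 16, 9, 13, 18, 4, 7, 6]),
  (1, 14, [1, 14, 2, 16, 17, 3, 18, 22, 12, 23, 11, 19, 8, 10, 13, 9, 21, 6, 5, 0, 4, 15, 20, 7], [19, 0, 2, 5, 20, 18, 17, 23, 12, 15, 13, 10, 8, 14, 1, 21, 3, 4, 6, 11, 22, 16, 7, 9]),
  (1, 19, [1, 19, 2, 16, 4, 9, 23, 6, 8, 18, 11, 14, 12, 13, 10, 3, 15, 22, 5, 0, 17, 21, 20, 7], [19, 0, 2, 15, 4, 18, 7, 23, 8, 5, 14, 10, 12, 13, 11, 16, 3, 20, 9, 1, 22, 21, 17, 6]),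
  (2, 0, [2, 0, 1, 20, 9, 17, 5, 15, 18, 7, 10, 11, 23, 14, 19, 3, 21, 22, 8, 13, 4, 6, 16, 12], [1, 2, 0, 15, 20, 6, 21, 9, 18, 4, 10, 11, 23, 19, 13, 7, 22, 5, 8, 14, 3, 16, 17, 12]),
  (2, 1, [2, 1, 11, 4, 20, 3, 17, 22, 23, 15, 10, 0, 18, 19, 13, 7, 9, 5, 12, 14, 6, 16, 21, 8], [11, 1, 0, 5, 3, 17, 20, 15, 23, 16, 10, 2, 18, 14, 19, 9, 21, 6, 12, 13, 4, 22, 7, 8]),
  (2, 10, [2, 10, 19, 17, 21, 3, 5, 22, 9, 7, 11, 0, 6, 1, 14, 20, 18, 16, 8, 13, 23, 4, 15, 12], [11, 13, 0, 5, 21, 6, 12, 9, 18, 8, 1, 10, 23, 19, 14, 22, 17, 3, 16, 2, 15, 4, 7, 20]),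
  (2, 11, [2, 11, 1, 20, 4, 3, 7, 22, 23, 5, 10, 0, 18, 19, 14, 17, 6, 15, 8, 13, 9, 21, 16, 12], [11, 2, 0, 5, 4, 9, 16, 6, 18, 20, 10, 1, 23, 19, 14, 17, 22, 15, 12, 13, 3, 21, 7, 8]),
  (2, 13, [2, 13, 1, 20, 21, 22, 8, 3, 23, 12, 0, 10, 18, 19, 14, 6, 17, 9, 7, 11, 15, 4, 16, 5], [10, 2, 0, 7, 21, 23, 15, 18, 6, 17, 11, 19, 9, 1, 14, 20, 22, 16, 12, 13, 3, 4, 5, 8]),
  (2, 14, [2, 14, 1, 5, 17, 22, 12, 3, 18, 8, 0, 19, 23, 10, 13, 6, 21, 9, 16, 11, 4, 15, 7, 20], [10, 2, 0, 7, 20, 3, 15, 22, 9, 17, 13, 19, 6, 14, 1, 21, 18, 4, 8, 11, 23, 16, 5, 12]),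
  (2, 19, [2, 19, 10, 21, 17, 3, 20, 22, 9, 16, 11, 0, 6, 1, 13, 5, 23, 7, 12, 14, 18, 15, 4, 8], [11, 13, 0, 5, 22, 15, 12, 17, 23, 8, 2, 10, 18, 14, 19, 21, 9, 4, 20, 1, 6, 3, 7, 16]),
  (10, 0, [10, 0, 2, 20, 17, 22, 21, 3, 12, 4, 11, 19, 8, 1, 13, 5, 18, 7, 9, 14, 23, 15, 16, 6], [1, 13, 2, 7, 9, 15, 23, 17, 12, 18, 0, 10, 8, 14, 19, 21, 22, 4, 16, 11, 3, 6, 5, 20]),
  (10, 1, [10, 1, 19, 3, 21, 15, 8, 17, 6, 12, 0, 11, 9, 13, 14, 5, 20, 7, 18, 2, 16, 4, 22, 23], [10, 1, 19, 3, 21, 15, 8, 17, 6, 12, 0, 11, 9, 13, 14, 5, 20, 7, 18, 2, 16, 4, 22, 23]),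
  (10, 2, [10, 2, 19, 22, 21, 15, 23, 17, 9, 18, 11, 0, 6, 13, 14, 16, 7, 20, 12, 1, 5, 4, 3, 8], [11, 19, 1, 22, 21, 20, 12, 16, 23, 8, 0, 10, 18, 13, 14, 5, 15, 7, 9, 2, 17, 4, 3, 6]),
  (10, 11, [10, 11, 1, 7, 17, 3, 21, 22, 18, 4, 0, 19, 23, 2, 13, 16, 12, 20, 6, 14, 8, 15, 5, 9], [10, 2, 13, 5, 9, 22, 18, 3, 20, 23, 0, 1, 16, 14, 19, 21, 15, 4, 8, 11, 17, 6, 7, 12]),
  (10, 13, [10, 13, 0, 7, 4, 18, 12, 23, 6, 8, 19, 11, 9, 1, 14, 22, 20, 3, 15, 2, 16, 21, 5, 17], [2, 13, 19, 17, 4, 22, 8, 3, 9, 12, 0, 11, 6, 1, 14, 18, 20, 23, 5, 10, 16, 21, 15, 7]),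
  (10, 14, [10, 14, 2, 20, 15, 3, 9, 22, 12, 6, 19, 11, 8, 1, 13, 18, 5, 23, 21, 0, 7, 17, 16, 4], [19, 13, 2, 5, 23, 16, 9, 20, 12, 6, 0, 11, 8, 14, 1, 4, 22, 21, 15, 10, 3, 18, 7, 17]),
  (10, 19, [10, 19, 1, 3, 4, 23, 12, 18, 20, 8, 13, 11, 16, 0, 14, 5, 6, 7, 17, 2, 9, 21, 22, 15], [13, 2, 19, 3, 4, 15, 16, 17, 9, 20, 0, 11, 6, 10, 14, 23, 12, 18, 7, 1, 8, 21, 22, 5]),
  (11, 0, [11, 0, 2, 17, 20, 22, 4, 3, 12, 21, 10, 1, 8, 19, 13, 7, 6, 5, 23, 14, 9, 16, 15, 18], [1, 11, 2, 7, 6, 17, 16, 15, 12, 20, 10, 0, 8, 14, 19, 22, 21, 3, 23, 13, 4, 9, 5, 18]),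
  (11, 1, [11, 1, 2, 15, 6, 5, 4, 7, 12, 21, 10, 0, 8, 13, 19, 3, 20, 22, 18, 14, 16, 9, 17, 23], [11, 1, 2, 15, 6, 5, 4, 7, 12, 21, 10, 0, 8, 13, 19, 3, 20, 22, 18, 14, 16, 9, 17, 23]),
  (11, 2, [11, 2, 1, 22, 4, 16, 9, 20, 23, 6, 10, 0, 18, 13, 14, 15, 5, 17, 12, 19, 7, 21, 3, 8], [11, 2, 1, 22, 4, 16, 9, 20, 23, 6, 10, 0, 18, 13, 14, 15, 5, 17, 12, 19, 7, 21, 3, 8]),
  (11, 10, [11, 10, 1, 22, 17, 5, 8, 7, 18, 12, 0, 19, 23, 14, 13, 20, 4, 16, 9, 2, 21, 15, 3, 6], [10, 2, 19, 22, 16, 5, 23, 7, 6, 18, 1, 0, 9, 14, 13, 21, 17, 4, 8, 11, 15, 20, 3, 12]),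
  (11, 13, [11, 13, 0, 5, 21, 6, 12, 9, 18, 8, 1, 10, 23, 19, 14, 22, 17, 3, 16, 2, 15, 4, 7, 20], [2, 10, 19, 17, 21, 3, 5, 22, 9, 7, 11, 0, 6, 1, 14, 20, 18, 16, 8, 13, 23, 4, 15, 12]),
  (11, 14, [11, 14, 0, 20, 17, 6, 8, 9, 23, 12, 1, 19, 18, 10, 13, 22, 21, 3, 7, 2, 4, 15, 16, 5], [2, 10, 19, 17, 20, 23, 5, 18, 6, 7, 13, 0, 9, 14, 1, 21, 22, 4, 12, 11, 3, 16, 15, 8]),
  (11, 19, [11, 19, 1, 22, 21, 20, 12, 16, 23, 8, 0, 10, 18, 13, 14, 5, 15, 7, 9, 2, 17, 4, 3, 6], [10, 2, 19, 22, 21, 15, 23, 17, 9, 18, 11, 0, 6, 13, 14, 16, 7, 20, 12, 1, 5, 4, 3, 8]),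
  (13, 0, [13, 0, 11, 6, 21, 20, 15, 16, 12, 17, 2, 10, 8, 1, 14, 22, 23, 3, 7, 19, 18, 4, 9, 5], [1, 13, 10, 17, 21, 23, 3, 18, 12, 22, 11, 2, 8, 0, 14, 6, 7, 9, 20, 19, 5, 4, 15, 16]),
  (13, 1, [13, 1, 2, 22, 21, 5, 15, 7, 8, 17, 11, 10, 12, 0, 14, 6, 18, 9, 16, 19, 23, 4, 3, 20], [13, 1, 2, 22, 21, 5, 15, 7, 8, 17, 11, 10, 12, 0, 14, 6, 18, 9, 16, 19, 23, 4, 3, 20]),
  (13, 2, [13, 2, 1, 3, 21, 16, 15, 20, 23, 17, 0, 10, 18, 11, 14, 9, 12, 6, 5, 19, 8, 4, 22, 7], [10, 2, 1, 3, 21, 18, 17, 23, 20, 15, 11, 13, 16, 0, 14, 6, 5, 9, 12, 19, 7, 4, 22, 8]),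
  (13, 10, [13, 10, 0, 23, 4, 5, 16, 7, 6, 20, 19, 11, 9, 2, 14, 3, 8, 22, 17, 1, 12, 21, 18, 15], [2, 19, 13, 15, 4, 5, 8, 7, 16, 12, 1, 11, 20, 0, 14, 23, 6, 18, 22, 10, 9, 21, 17, 3]),
  (13, 11, [13, 11, 0, 9, 21, 7, 15, 5, 18, 17, 1, 10, 23, 2, 14, 3, 8, 22, 20, 19, 12, 4, 6, 16], [2, 10, 13, 15, 21, 7, 22, 5, 16, 3, 11, 1, 20, 0, 14, 6, 23, 9, 8, 19, 18, 4, 17, 12]),
  (13, 14, [13, 14, 2, 17, 6, 7, 20, 5, 12, 16, 10, 0, 8, 11, 19, 18, 4, 23, 3, 1, 21, 9, 15, 22], [11, 19, 2, 18, 16, 7, 4, 5, 12, 21, 10, 13, 8, 0, 1, 22, 9, 3, 15, 14, 6, 20, 23, 17]),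
  (13, 19, [13, 19, 2, 22, 4, 7, 16, 5, 8, 20, 10, 11, 12, 0, 14, 18, 6, 23, 15, 1, 9, 21, 3, 17], [13, 19, 2, 22, 4, 7, 16, 5, 8, 20, 10, 11, 12, 0, 14, 18, 6, 23, 15, 1, 9, 21, 3, 17]),
  (14, 0, [14, 0, 2, 5, 15, 6, 4, 9, 12, 21, 11, 13, 8, 1, 19, 20, 18, 16, 3, 10, 23, 17, 7, 22], [1, 13, 2, 18, 6, 3, 5, 22, 12, 7, 19, 10, 8, 11, 0, 4, 17, 21, 16, 14, 15, 9, 23, 20]),
  (14, 1, [14, 1, 2, 22, 17, 20, 4, 16, 12, 21, 11, 19, 8, 0, 13, 6, 23, 9, 7, 10, 18, 15, 3, 5], [13, 1, 2, 22, 6, 23, 15, 18, 12, 17, 19, 10, 8, 14, 0, 21, 7, 4, 20, 11, 5, 9, 3, 16]),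
  (14, 2, [14, 2, 1, 3, 17, 7, 4, 5, 18, 21, 0, 19, 23, 11, 13, 9, 8, 6, 20, 10, 12, 15, 22, 16], [10, 2, 1, 3, 6, 7, 17, 5, 16, 15, 19, 13, 20, 14, 0, 21, 23, 4, 8, 11, 18, 9, 22, 12]),
  (14, 10, [14, 10, 2, 22, 15, 16, 7, 20, 12, 5, 19, 11, 8, 0, 13, 23, 6, 18, 4, 1, 9, 17, 3, 21], [13, 19, 2, 22, 18, 9, 16, 6, 12, 20, 1, 11, 8, 14, 0, 4, 5, 21, 17, 10, 7, 23, 3, 15]),
  (14, 11, [14, 11, 0, 9, 17, 16, 4, 20, 23, 21, 1, 19, 18, 2, 13, 3, 12, 22, 5, 10, 8, 15, 6, 7], [2, 10, 13, 15, 6, 18, 22, 23, 20, 3, 19, 1, 16, 14, 0, 21, 5, 4, 12, 11, 7, 9, 17, 8]),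
  (14, 13, [14, 13, 2, 5, 6, 15, 21, 17, 12, 4, 10, 0, 8, 1, 19, 23, 16, 18, 22, 11, 20, 9, 7, 3], [11, 13, 2, 23, 9, 3, 4, 22, 12, 21, 10, 19, 8, 1, 0, 5, 16, 7, 17, 14, 20, 6, 18, 15]),
  (14, 19, [14, 19, 2, 22, 20, 17, 21, 15, 12, 4, 10, 1, 8, 0, 13, 18, 9, 23, 5, 11, 6, 16, 3, 7], [13, 11, 2, 22, 9, 18, 20, 23, 12, 16, 10, 19, 8, 14, 0, 7, 21, 5, 15, 1, 4, 6, 3, 17]),
  (19, 0, [19, 0, 2, 5, 21, 22, 17, 3, 8, 15, 11, 10, 12, 1, 14, 20, 23, 16, 9, 13, 18, 4, 7, 6], [1, 13, 2, 7, 21, 3, 23, 22, 8, 18, 11, 10, 12, 19, 14, 9, 17, 6, 20, 0, 15, 4, 5, 16]),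
  (19, 1, [19, 1, 10, 3, 17, 4, 12, 21, 6, 8, 0, 11, 9, 14, 13, 20, 5, 16, 23, 2, 7, 15, 22, 18], [10, 1, 19, 3, 5, 16, 8, 20, 9, 12, 2, 11, 6, 14, 13, 21, 17, 4, 23, 0, 15, 7, 22, 18]),
  (19, 2, [19, 2, 10, 22, 17, 4, 18, 21, 9, 23, 11, 0, 6, 14, 13, 7, 16, 5, 8, 1, 20, 15, 3, 12], [11, 19, 1, 22, 5, 17, 12, 15, 18, 8, 2, 10, 23, 14, 13, 21, 16, 4, 6, 0, 20, 7, 3, 9]),
  (19, 10, [19, 10, 2, 5, 18, 20, 15, 16, 12, 17, 11, 0, 8, 14, 1, 22, 4, 3, 9, 13, 21, 23, 7, 6], [11, 14, 2, 17, 16, 3, 23, 22, 12, 18, 1, 10, 8, 19, 13, 6, 7, 9, 4, 0, 5, 20, 15, 21]),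
  (19, 11, [19, 11, 1, 16, 21, 3, 17, 22, 23, 15, 0, 10, 18, 2, 14, 7, 8, 5, 6, 13, 12, 4, 20, 9], [10, 2, 13, 5, 21, 17, 18, 15, 16, 23, 11, 1, 20, 19, 14, 9, 3, 6, 12, 0, 22, 4, 7, 8]),
  (19, 13, [19, 13, 2, 5, 4, 3, 9, 22, 8, 6, 10, 11, 12, 1, 14, 23, 20, 18, 17, 0, 16, 21, 7, 15], [19, 13, 2, 5, 4, 3, 9, 22, 8, 6, 10, 11, 12, 1, 14, 23, 20, 18, 17, 0, 16, 21, 7, 15]),
  (19, 14, [19, 14, 2, 15, 20, 3, 6, 22, 12, 9, 10, 1, 8, 11, 13, 23, 4, 18, 7, 0, 21, 16, 17, 5], [19, 11, 2, 5, 16, 23, 6, 18, 12, 9, 10, 13, 8, 14, 1, 3, 21, 22, 17, 0, 4, 20, 7, 15])]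

def cFind (a b : ℕ) : List ℕ × List ℕ :=
  match cTab.find? (fun e => e.1 == a && e.2.1 == b) with
  | some e => e.2.2
  | none => ([], [])

/-- The tables commute. -/
def commTab (t s : List ℕ) : Bool :=
  (List.range 24).all (fun k => t.getD (s.getD k 0) 0 == s.getD (t.getD k 0) 0)

def cOK (a b : ℕ) : Bool :=
  monoOK (cFind a b).1 (cFind a b).2 0 && (cFind a b).1.getD 0 0 == a && (cFind a b).1.getD 1 0 == b &&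
    commTab (cFind a b).1 tauTab

theorem cTab_ok : ∀ a < 24, ∀ b < 24, tauTab.getD a 0 = a → tauTab.getD b 0 = b → a ≠ b → cOK a b = true := by
  decide +kernel

theorem tauTab_ok : monoOK tauTab tauTab 0 = true := by decide +kernel

end Cfsg.Agent.Lib.H27.McLInvData
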