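/-
helper27 library: the involutions of the two-point stabilizer `M22` of `M24` fixing the points `0` and `1` form one
class of size at least 1155; the centralizer of the involution `τ` in `M22` has order at most 384.
-/
import Mathlib
import Cfsg.Prelude.Def_Sporadic_a
import Cfsg.Agent.Lib.H27.InvClasses
import Cfsg.Agent.Lib.H27.McLInvData
import Cfsg.Agent.Lib.H27.McLInvData2
import Cfsg.Agent.S0378

set_option autoImplicit false
set_option linter.style.haveILetI false

namespace Cfsg.Agent.Lib.H27.McLInv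

open Cfsg MulAction Cfsg.Agent.Lib.H28 Cfsg.Agent.Lib.H27 Cfsg.Agent.Lib.H27.Eng
open McLInvData McLInvData2

theorem perm_inv_apply_self {α : Type*} (f : Equiv.Perm α) (x : α) : f⁻¹ (f x) = x := by
  rw [Equiv.Perm.inv_def, Equiv.symm_apply_apply]

theorem perm_apply_inv_self {α : Type*} (f : Equiv.Perm α) (x : α) : f (f⁻¹ x) = x := by
  rw [Equiv.Perm.inv_def, Equiv.apply_symm_apply]

theorem tabInv_of_monoOK {t ti : List ℕ} {c : ℕ} (h : monoOK t ti c = true) : tabInv t ti = true := by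
  unfold monoOK at h
  rw [Bool.and_eq_true, Bool.and_eq_true, Bool.and_eq_true] at h
  exact h.1.1.1

theorem permOfTab_gPt (t ti : List ℕ) (h : tabInv t ti = true) {k : ℕ} (hk : k < 24) :
    permOfTab t ti h (gPt k) = gPt (t.getD k 0) := by
  show gPt (t.getD (gIdx (gPt k)) 0) = _
  rw [gIdx_gPt hk]

theorem gIdx_permOfTab (t ti : List ℕ) (h : tabInv t ti = true) (p : GolayPt) :
    gIdx (permOfTab t ti h p) = t.getD (gIdx p) 0 := by
  show gIdx (gPt (t.getD (gIdx p) 0)) = _
  rw [gIdx_gPt (tabInv_spec h (gIdx_lt p)).1]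

/-- The involution. -/
def τ : Equiv.Perm GolayPt := permOfTab tauTab tauTab (tabInv_of_monoOK tauTab_ok)

theorem τ_mem : τ ∈ M24 := permOfTab_mem _ _ 0 tauTab_ok _

theorem τ_sq : τ * τ = 1 := by
  apply Equiv.ext
  intro p
  apply gIdx_injective
  rw [Equiv.Perm.mul_apply, Equiv.Perm.one_apply]
  unfold τ
  rw [gIdx_permOfTab, gIdx_permOfTab]
  exact (tabInv_spec (tabInv_of_monoOK tauTab_ok) (gIdx_lt p)).2.2.1

theorem τ_fix0 : τ (gPt 0) = gPt 0 := permOfTab_gPt _ _ _ (by norm_num)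

theorem τ_fix1 : τ (gPt 1) = gPt 1 := permOfTab_gPt _ _ _ (by norm_num)

theorem τ_ne_one : τ ≠ 1 := by
  intro h
  have h3 : τ (gPt 3) = gPt 22 := permOfTab_gPt _ _ _ (by norm_num)
  rw [h, Equiv.Perm.one_apply] at h3
  have := congrArg gIdx h3
  rw [gIdx_gPt (by norm_num), gIdx_gPt (by norm_num)] at this
  omega

theorem orderOf_τ : orderOf τ = 2 := by
  haveI : Fact (Nat.Prime 2) := ⟨Nat.prime_two⟩
  exact orderOf_eq_prime (by rw [sq]; exact τ_sq) τ_ne_one

theorem τ_fix_iff (p : GolayPt) : τ p = p ↔ tauTab.getD (gIdx p) 0 = gIdx p := by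
  constructor
  · intro h
    have := gIdx_permOfTab tauTab tauTab (tabInv_of_monoOK tauTab_ok) p
    unfold τ at h
    rw [h] at this
    exact this.symm
  · intro h
    apply gIdx_injective
    unfold τ
    rw [gIdx_permOfTab, h]

/-- Involutions of `M24` fixing the points `0` and `1` are conjugate to `τ` by elements fixing these points. -/
theorem conj_in_M22 (σ : Equiv.Perm GolayPt) (hσ : σ ∈ M24) (h0 : σ (gPt 0) = gPt 0)
    (h1 : σ (gPt 1) = gPt 1) (ho : orderOf σ = 2) :
    ∃ k ∈ M24, k (gPt 0) = gPt 0 ∧ k (gPt 1) = gPt 1 ∧ k * τ * k⁻¹ = σ := by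
  obtain ⟨g, hg, hgσ⟩ := InvNF.main.2.2.2 τ τ_mem σ hσ orderOf_τ ho
    ⟨fun h => absurd τ_fix0 (h _), fun h => absurd h0 (h _)⟩
  have hfix : ∀ q : GolayPt, σ q = q → τ (g⁻¹ q) = g⁻¹ q := by
    intro q hq
    rw [← hgσ] at hq
    simp only [Equiv.Perm.mul_apply] at hq
    have := congrArg (g⁻¹ : Equiv.Perm GolayPt) hq
    rwa [perm_inv_apply_self] at this
  have ha := (τ_fix_iff _).1 (hfix _ h0)
  have hb := (τ_fix_iff _).1 (hfix _ h1)
  have hab : gIdx (g⁻¹ (gPt 0)) ≠ gIdx (g⁻¹ (gPt 1)) := by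
    intro h
    have h2 := (g⁻¹ : Equiv.Perm GolayPt).injective (gIdx_injective h)
    have := congrArg gIdx h2
    rw [gIdx_gPt (by norm_num), gIdx_gPt (by norm_num)] at this
    omega
  have hc := cTab_ok _ (gIdx_lt _) _ (gIdx_lt _) ha hb hab
  unfold cOK at hc
  simp only [Bool.and_eq_true, beq_iff_eq] at hc
  obtain ⟨⟨⟨hok, hc0⟩, hc1⟩, hcomm⟩ := hc
  set t := (cFind (gIdx (g⁻¹ (gPt 0))) (gIdx (g⁻¹ (gPt 1)))).1 with ht
  set ti := (cFind (gIdx (g⁻¹ (gPt 0))) (gIdx (g⁻¹ (gPt 1)))).2 with hti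
  have hinv := tabInv_of_monoOK hok
  set c := permOfTab t ti hinv with hcdef
  have hcM : c ∈ M24 := permOfTab_mem t ti 0 hok _
  have hcτ : c * τ = τ * c := by
    apply Equiv.ext
    intro p
    apply gIdx_injective
    rw [Equiv.Perm.mul_apply, Equiv.Perm.mul_apply]
    unfold τ
    rw [hcdef, gIdx_permOfTab, gIdx_permOfTab, gIdx_permOfTab, gIdx_permOfTab]
    unfold commTab at hcomm
    rw [List.all_eq_true] at hcomm
    have := hcomm (gIdx p) (List.mem_range.2 (gIdx_lt p))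
    rwa [beq_iff_eq] at this
  have hc0' : c (gPt 0) = g⁻¹ (gPt 0) := by
    rw [hcdef, permOfTab_gPt _ _ _ (by norm_num), hc0, gPt_gIdx]
  have hc1' : c (gPt 1) = g⁻¹ (gPt 1) := by
    rw [hcdef, permOfTab_gPt _ _ _ (by norm_num), hc1, gPt_gIdx]
  refine ⟨g * c, M24.mul_mem hg hcM, ?_, ?_, ?_⟩
  · rw [Equiv.Perm.mul_apply, hc0', perm_apply_inv_self]
  · rw [Equiv.Perm.mul_apply, hc1', perm_apply_inv_self]
  · rw [← hgσ]
    have : c * τ * c⁻¹ = τ := by rw [hcτ]; group
    calc g * c * τ * (g * c)⁻¹ = g * (c * τ * c⁻¹) * g⁻¹ := by group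
      _ = g * τ * g⁻¹ := by rw [this]

/-! ### The centralizer of `τ` in the two-point stabilizer -/

/-- A lower bound for the size of a conjugacy class bounds the centralizer. -/
theorem mul_card_centralizer_le {G : Type*} [Group G] [Finite G] (x : G) (n : ℕ) (g : Fin n → G)
    (hinj : ∀ i j, g i * x * (g i)⁻¹ = g j * x * (g j)⁻¹ → i = j) :
    n * Nat.card (Subgroup.centralizer ({x} : Set G)) ≤ Nat.card G := by
  have hcomm : ∀ c : Subgroup.centralizer ({x} : Set G), (c : G) * x * (c : G)⁻¹ = x := by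
    intro c
    have := Subgroup.mem_centralizer_iff.1 c.2 x rfl
    rw [← this]
    group
  have : Function.Injective
      (fun q : Fin n × Subgroup.centralizer ({x} : Set G) => g q.1 * (q.2 : G)) := by
    rintro ⟨i, c⟩ ⟨j, d⟩ h
    simp only at h
    have h1 : g i * x * (g i)⁻¹ = g j * x * (g j)⁻¹ := by
      calc g i * x * (g i)⁻¹ = g i * ((c : G) * x * (c : G)⁻¹) * (g i)⁻¹ := by rw [hcomm c]
        _ = (g i * (c : G)) * x * (g i * (c : G))⁻¹ := by group
        _ = (g j * (d : G)) * x * (g j * (d : G))⁻¹ := by rw [h]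
        _ = g j * ((d : G) * x * (d : G)⁻¹) * (g j)⁻¹ := by group
        _ = g j * x * (g j)⁻¹ := by rw [hcomm d]
    have hij := hinj i j h1
    subst hij
    have : (c : G) = d := mul_left_cancel h
    rw [Subtype.ext this]
  have h2 := Nat.card_le_card_of_injective _ this
  rwa [Nat.card_prod, Nat.card_fin] at h2

/-- The two-point stabilizer. -/
abbrev S2 : Subgroup ↥M24 := stabilizer ↥M24 (gPt 0) ⊓ stabilizer ↥M24 (gPt 1)

theorem card_S2 : Nat.card ↥S2 = 443520 := Cfsg.Agent.S0378.result (gPt 0) (gPt 1) (by decide)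

instance : Finite ↥S2 := Nat.finite_of_card_ne_zero (by rw [card_S2]; norm_num)

theorem mem_S2_iff (σ : ↥M24) : σ ∈ S2 ↔ σ.1 (gPt 0) = gPt 0 ∧ σ.1 (gPt 1) = gPt 1 := by
  rw [Subgroup.mem_inf, mem_stabilizer_iff, mem_stabilizer_iff]
  rfl

/-- The involution as an element of the two-point stabilizer. -/
def τ2 : ↥S2 := ⟨⟨τ, τ_mem⟩, (mem_S2_iff _).2 ⟨τ_fix0, τ_fix1⟩⟩

/-- The permutation of a self-inverse table. -/
def permT (t : List ℕ) : Equiv.Perm GolayPt :=
  if h : tabInv t t = true then permOfTab t t h else 1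

theorem list_eq_of_getD {l l' : List ℕ} (h1 : l.length = 24) (h2 : l'.length = 24)
    (h : ∀ k < 24, l.getD k 0 = l'.getD k 0) : l = l' := by
  apply List.ext_getElem (h1.trans h2.symm)
  intro k hk hk'
  have := h k (h1 ▸ hk)
  rwa [List.getD_eq_getElem _ _ hk, List.getD_eq_getElem _ _ hk'] at this

theorem invOK_spec {t : List ℕ} (h : invOK t = true) :
    monoOK t t 0 = true ∧ t.getD 0 0 = 0 ∧ t.getD 1 0 = 1 ∧ ∃ k < 24, t.getD k 0 ≠ k := by
  unfold invOK at h
  simp only [Bool.and_eq_true, beq_iff_eq, List.any_eq_true, List.mem_range, bne_iff_ne] at h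
  exact ⟨h.1.1.1, h.1.1.2, h.1.2, h.2⟩

theorem length_of_monoOK {t ti : List ℕ} {c : ℕ} (h : monoOK t ti c = true) : ti.length = 24 := by
  unfold monoOK at h
  rw [Bool.and_eq_true, Bool.and_eq_true, Bool.and_eq_true, beq_iff_eq] at h
  exact h.2

theorem permT_props {t : List ℕ} (h : invOK t = true) :
    permT t ∈ M24 ∧ permT t (gPt 0) = gPt 0 ∧ permT t (gPt 1) = gPt 1 ∧ orderOf (permT t) = 2 := by
  obtain ⟨hok, h0, h1, k, hk, hne⟩ := invOK_spec h
  have hinv := tabInv_of_monoOK hok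
  have hdef : permT t = permOfTab t t hinv := by
    unfold permT
    rw [dif_pos hinv]
  rw [hdef]
  refine ⟨permOfTab_mem t t 0 hok _, ?_, ?_, ?_⟩
  · rw [permOfTab_gPt _ _ _ (by norm_num), h0]
  · rw [permOfTab_gPt _ _ _ (by norm_num), h1]
  · haveI : Fact (Nat.Prime 2) := ⟨Nat.prime_two⟩
    apply orderOf_eq_prime
    · rw [sq]
      apply Equiv.ext
      intro p
      apply gIdx_injective
      rw [Equiv.Perm.mul_apply, Equiv.Perm.one_apply, gIdx_permOfTab, gIdx_permOfTab]
      exact (tabInv_spec hinv (gIdx_lt p)).2.2.1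
    · intro h1
      apply hne
      have := permOfTab_gPt t t hinv hk
      rw [h1, Equiv.Perm.one_apply] at this
      have h2 := congrArg gIdx this
      rw [gIdx_gPt hk, gIdx_gPt (tabInv_spec hinv hk).1] at h2
      exact h2.symm

theorem permT_inj {t t' : List ℕ} (h : invOK t = true) (h' : invOK t' = true)
    (he : permT t = permT t') : t = t' := by
  obtain ⟨hok, -⟩ := invOK_spec h
  obtain ⟨hok', -⟩ := invOK_spec h'
  have hinv := tabInv_of_monoOK hok
  have hinv' := tabInv_of_monoOK hok'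
  apply list_eq_of_getD (length_of_monoOK hok) (length_of_monoOK hok')
  intro k hk
  have hdef : permT t = permOfTab t t hinv := by
    unfold permT
    rw [dif_pos hinv]
  have hdef' : permT t' = permOfTab t' t' hinv' := by
    unfold permT
    rw [dif_pos hinv']
  rw [hdef, hdef'] at he
  have : gIdx (permOfTab t t hinv (gPt k)) = gIdx (permOfTab t' t' hinv' (gPt k)) := by rw [he]
  rwa [gIdx_permOfTab, gIdx_permOfTab, gIdx_gPt hk] at this

theorem invTabs_nodup : invTabs.Nodup :=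
  List.Nodup.of_map packT (nodup_of_strictSortedN invTabs_sorted)

/-- The centralizer of `τ` in the two-point stabilizer has order at most 384. -/
theorem card_centralizer_τ2 : Nat.card (Subgroup.centralizer ({τ2} : Set ↥S2)) ≤ 384 := by
  have hall := List.all_eq_true.1 invTabs_ok
  have hlen := invTabs_length
  have hex : ∀ i : Fin 1155, ∃ k : ↥S2,
      ((k * τ2 * k⁻¹ : ↥S2) : ↥M24).1 = permT (invTabs.get (i.cast hlen.symm)) := by
    intro i
    have hi := hall _ (List.get_mem invTabs (i.cast hlen.symm))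
    obtain ⟨hM, h0, h1, ho⟩ := permT_props hi
    obtain ⟨k, hk, hk0, hk1, hkσ⟩ := conj_in_M22 _ hM h0 h1 ho
    exact ⟨⟨⟨k, hk⟩, (mem_S2_iff _).2 ⟨hk0, hk1⟩⟩, hkσ⟩
  choose g hg using hex
  have h := mul_card_centralizer_le τ2 1155 g (by
    intro i j hij
    have h1 : ((g i * τ2 * (g i)⁻¹ : ↥S2) : ↥M24).1 = ((g j * τ2 * (g j)⁻¹ : ↥S2) : ↥M24).1 := by
      rw [hij]
    rw [hg i, hg j] at h1
    have h2 := permT_inj (hall _ (List.get_mem invTabs (i.cast hlen.symm)))
      (hall _ (List.get_mem invTabs (j.cast hlen.symm))) h1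
    have h3 := (List.Nodup.get_inj_iff invTabs_nodup).1 h2
    exact Fin.ext (by simpa using congrArg Fin.val h3))
  rw [card_S2] at h
  omega

end Cfsg.Agent.Lib.H27.McLInv
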