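import Mathlib
import Cfsg.Prelude.Def_Sporadic_a
import Cfsg.Agent.Lib.H27.Co0Mod2

/-!
helper27 library: `Co0` is transitive on the ordered pairs of orthogonal minimal vectors.  Such a
pair `(v, w)` gives two vectors `v + w`, `v - w` of squared length 64 in the same coordinate frame;
the first is moved to `8 e_0`, and the stabiliser of `8 e_0` in the monomial group is transitive
on the other vectors of the standard frame.
-/

set_option autoImplicit false

namespace Cfsg.Agent.Lib.H27

open Cfsg Finset Cfsg.Agent.Lib.H28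

theorem sqNorm_add' (y w : GolayPt → ℤ) :
    sqNorm (y + w) = sqNorm y + 2 * dotInt y w + sqNorm w := by
  unfold sqNorm dotInt
  rw [Finset.mul_sum, ← Finset.sum_add_distrib, ← Finset.sum_add_distrib]
  apply Finset.sum_congr rfl
  intro i _
  rw [Pi.add_apply]
  ring

theorem sqNorm_sub' (y w : GolayPt → ℤ) :
    sqNorm (y - w) = sqNorm y - 2 * dotInt y w + sqNorm w := by
  unfold sqNorm dotInt
  rw [Finset.mul_sum, ← Finset.sum_sub_distrib, ← Finset.sum_add_distrib]
  apply Finset.sum_congr rfl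
  intro i _
  rw [Pi.sub_apply]
  ring

/-- Moving a frame pair into standard position. -/
theorem frame_pair (x y : leechLattice) (hx : sqNorm (x : GolayPt → ℤ) = 64)
    (hy : sqNorm (y : GolayPt → ℤ) = 64) (hc : ∃ z : leechLattice, x - y = z + z)
    (hne1 : y ≠ x) (hne2 : y ≠ -x) :
    ∃ g : Co0, g • x = u8 (gPt 0) ∧ ∃ (i : GolayPt) (s : ℤ), i ≠ gPt 0 ∧ (s = 8 ∨ s = -8) ∧
      ((g • y : leechLattice) : GolayPt → ℤ) = Pi.single i s := by
  obtain ⟨g, hg⟩ := co0_trans64 x (u8 (gPt 0)) hx (sqNorm_u8 _)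
  refine ⟨g, hg, ?_⟩
  obtain ⟨z, hz⟩ := hc
  have hmem : ((g • y : leechLattice) : GolayPt → ℤ) ∈ stdCross := by
    apply mem_stdCross_of_congr (g • y).2 (by rw [Co0_sqNorm, hy]) (u8_mem_stdCross (gPt 0))
    refine ⟨((g • z : leechLattice) : GolayPt → ℤ), (g • z).2, ?_⟩
    have := congrArg (fun u : leechLattice => (g • u : leechLattice)) hz
    simp only [Co0_smul_sub, Co0_smul_add, hg] at this
    have := congrArg (fun u : leechLattice => (u : GolayPt → ℤ)) this
    simp only [AddSubgroup.coe_sub, AddSubgroup.coe_add] at this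
    rw [this, two_nsmul]
  obtain ⟨i, s, hs, hys⟩ := hmem
  refine ⟨i, s, ?_, hs, hys⟩
  rintro rfl
  rcases hs with rfl | rfl
  · apply hne1
    have : g • y = g • x := by
      rw [hg]
      exact Subtype.ext hys
    exact MulAction.injective g this
  · apply hne2
    have : g • y = g • (-x) := by
      rw [Co0_smul_neg, hg]
      apply Subtype.ext
      rw [hys]
      show (Pi.single (gPt 0) (-8) : GolayPt → ℤ) = -(Pi.single (gPt 0) 8)
      rw [Pi.single_neg]
    exact MulAction.injective g this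

/-- A monomial map fixing `8 e_0` and moving `s e_i` to `t e_j`. -/
theorem exists_mono_frame {i j : GolayPt} (hi : i ≠ gPt 0) (hj : j ≠ gPt 0) {s t : ℤ}
    (hs : s = 8 ∨ s = -8) (ht : t = 8 ∨ t = -8) :
    ∃ m : Co0, m • u8 (gPt 0) = u8 (gPt 0) ∧ ∀ y : leechLattice,
      (y : GolayPt → ℤ) = Pi.single i s →
      ((m • y : leechLattice) : GolayPt → ℤ) = Pi.single j t := by
  obtain ⟨σ, hσ, hmap⟩ := exists_M24_map (n := 2) (by norm_num) ![gPt 0, i] ![gPt 0, j]
    (injective_pair (Ne.symm hi)) (injective_pair (Ne.symm hj))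
  have h0 : σ (gPt 0) = gPt 0 := hmap 0
  have h1 : σ i = j := hmap 1
  have key : ∃ c ∈ golayCode, c (gPt 0) = 0 ∧ (c j ≠ 0 ↔ s ≠ t) := by
    by_cases hst : s = t
    · exact ⟨0, golayCode.zero_mem, rfl, by simp [hst]⟩
    · obtain ⟨c, hc, hcj, hc0⟩ := exists_sep j (gPt 0) hj
      exact ⟨c, hc, hc0, by simp [hcj, hst]⟩
  obtain ⟨c, hc, hc0, hcj⟩ := key
  refine ⟨monoCo0 σ hσ c hc, ?_, ?_⟩
  · apply Subtype.ext
    rw [monoCo0_smul]
    show signedPerm σ (support₂ c) (Pi.single (gPt 0) 8) = Pi.single (gPt 0) 8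
    rw [signedPerm_single, h0, if_neg (fun h => (mem_support₂_iff c _).1 h hc0)]
  · intro y hy
    rw [monoCo0_smul, hy, signedPerm_single, h1]
    congr 1
    by_cases hst : s = t
    · rw [if_neg (fun h => (hcj.1 ((mem_support₂_iff c _).1 h)) hst), hst]
    · rw [if_pos ((mem_support₂_iff c _).2 (hcj.2 hst))]
      rcases hs with rfl | rfl <;> rcases ht with rfl | rfl <;> simp_all

/-- `Co0` is transitive on frame pairs. -/
theorem trans_frame_pairs (x y x' y' : leechLattice) (hx : sqNorm (x : GolayPt → ℤ) = 64)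
    (hy : sqNorm (y : GolayPt → ℤ) = 64) (hc : ∃ z : leechLattice, x - y = z + z)
    (hne1 : y ≠ x) (hne2 : y ≠ -x) (hx' : sqNorm (x' : GolayPt → ℤ) = 64)
    (hy' : sqNorm (y' : GolayPt → ℤ) = 64) (hc' : ∃ z : leechLattice, x' - y' = z + z)
    (hne1' : y' ≠ x') (hne2' : y' ≠ -x') : ∃ h : Co0, h • x = x' ∧ h • y = y' := by
  obtain ⟨g1, hg1, i, s, hi, hs, hys⟩ := frame_pair x y hx hy hc hne1 hne2
  obtain ⟨g2, hg2, j, t, hj, ht, hyt⟩ := frame_pair x' y' hx' hy' hc' hne1' hne2'
  obtain ⟨m, hm0, hm⟩ := exists_mono_frame hi hj hs ht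
  refine ⟨g2⁻¹ * m * g1, ?_, ?_⟩
  · rw [mul_smul, mul_smul, hg1, hm0, ← hg2, inv_smul_smul]
  · rw [mul_smul, mul_smul]
    have : m • (g1 • y) = g2 • y' := by
      apply Subtype.ext
      rw [hm _ hys, hyt]
    rw [this, inv_smul_smul]

/-- `Co0` is transitive on the ordered pairs of orthogonal minimal vectors. -/
theorem trans_orth_pairs (v w v' w' : leechLattice) (hv : sqNorm (v : GolayPt → ℤ) = 32)
    (hw : sqNorm (w : GolayPt → ℤ) = 32) (hd : dotInt (v : GolayPt → ℤ) (w : GolayPt → ℤ) = 0)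
    (hv' : sqNorm (v' : GolayPt → ℤ) = 32) (hw' : sqNorm (w' : GolayPt → ℤ) = 32)
    (hd' : dotInt (v' : GolayPt → ℤ) (w' : GolayPt → ℤ) = 0) :
    ∃ h : Co0, h • v = v' ∧ h • w = w' := by
  have aux : ∀ a b : leechLattice, sqNorm (a : GolayPt → ℤ) = 32 →
      sqNorm (b : GolayPt → ℤ) = 32 → dotInt (a : GolayPt → ℤ) (b : GolayPt → ℤ) = 0 →
      sqNorm ((a + b : leechLattice) : GolayPt → ℤ) = 64 ∧
      sqNorm ((a - b : leechLattice) : GolayPt → ℤ) = 64 ∧
      (∃ z : leechLattice, (a + b) - (a - b) = z + z) ∧ a - b ≠ a + b ∧ a - b ≠ -(a + b) := by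
    intro a b ha hb hab
    have hb0 : b ≠ 0 := by
      rintro rfl
      have : sqNorm (((0 : leechLattice)) : GolayPt → ℤ) = 0 := by
        show sqNorm (0 : GolayPt → ℤ) = 0
        unfold sqNorm; simp
      omega
    have ha0 : a ≠ 0 := by
      rintro rfl
      have : sqNorm (((0 : leechLattice)) : GolayPt → ℤ) = 0 := by
        show sqNorm (0 : GolayPt → ℤ) = 0
        unfold sqNorm; simp
      omega
    refine ⟨?_, ?_, ⟨b, by abel⟩, ?_, ?_⟩
    · show sqNorm ((a : GolayPt → ℤ) + (b : GolayPt → ℤ)) = 64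
      rw [sqNorm_add', ha, hb, hab]; norm_num
    · show sqNorm ((a : GolayPt → ℤ) - (b : GolayPt → ℤ)) = 64
      rw [sqNorm_sub', ha, hb, hab]; norm_num
    · intro h
      apply hb0
      have h2 : b + b = 0 := by
        have : (a + b) - (a - b) = 0 := by rw [h]; abel
        rw [← this]; abel
      apply Subtype.ext
      funext k
      have := congrFun (congrArg (fun u : leechLattice => (u : GolayPt → ℤ)) h2) k
      simp only [AddSubgroup.coe_add, Pi.add_apply, AddSubgroup.coe_zero, Pi.zero_apply] at this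
      show (b : GolayPt → ℤ) k = 0
      omega
    · intro h
      apply ha0
      have h2 : a + a = 0 := by
        have : (a - b) + (a + b) = 0 := by rw [h]; abel
        rw [← this]; abel
      apply Subtype.ext
      funext k
      have := congrFun (congrArg (fun u : leechLattice => (u : GolayPt → ℤ)) h2) k
      simp only [AddSubgroup.coe_add, Pi.add_apply, AddSubgroup.coe_zero, Pi.zero_apply] at this
      show (a : GolayPt → ℤ) k = 0
      omega
  obtain ⟨n1, n2, c1, e1, e2⟩ := aux v w hv hw hd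
  obtain ⟨n1', n2', c1', e1', e2'⟩ := aux v' w' hv' hw' hd'
  obtain ⟨h, hx, hy⟩ := trans_frame_pairs (v + w) (v - w) (v' + w') (v' - w') n1 n2 c1 e1 e2
    n1' n2' c1' e1' e2'
  rw [Co0_smul_add] at hx
  rw [Co0_smul_sub] at hy
  refine ⟨h, ?_, ?_⟩
  · apply Subtype.ext
    funext k
    have a1 := congrFun (congrArg (fun u : leechLattice => (u : GolayPt → ℤ)) hx) k
    have a2 := congrFun (congrArg (fun u : leechLattice => (u : GolayPt → ℤ)) hy) k
    simp only [AddSubgroup.coe_add, AddSubgroup.coe_sub, Pi.add_apply, Pi.sub_apply] at a1 a2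
    omega
  · apply Subtype.ext
    funext k
    have a1 := congrFun (congrArg (fun u : leechLattice => (u : GolayPt → ℤ)) hx) k
    have a2 := congrFun (congrArg (fun u : leechLattice => (u : GolayPt → ℤ)) hy) k
    simp only [AddSubgroup.coe_add, AddSubgroup.coe_sub, Pi.add_apply, Pi.sub_apply] at a1 a2
    omega

end Cfsg.Agent.Lib.H27
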