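import Mathlib
import Cfsg.Prelude.Def_Sporadic_a
import Cfsg.Agent.Lib.H27.Co0Pairs

/-!
helper27 library: the stabiliser in `Co0` of a minimal vector `v` is transitive on the minimal
vectors `w` with `v · w = -16` and on those with `v · w = -8` (coordinate dot products).  For
`v = 4 e_0 + 4 e_1` one finds a minimal `z` orthogonal to `v` with `z · w = -16`, moves `z` to
`4 e_0 - 4 e_1` inside the stabiliser of `v`, and finishes with a monomial map.
-/

set_option autoImplicit false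

namespace Cfsg.Agent.Lib.H27

open Cfsg Finset Cfsg.Agent.Lib.H28

/-! ### Octads avoiding three points -/

def avoidL : List ℕ :=
  [9347075, 3227948, 4202192, 6053905, 13811730, 10584520, 138790, 2892897, 797449]

theorem avoidL_ok : ∀ m ∈ avoidL, inC m = true ∧ popc m = 8 := by decide +kernel

theorem avoidL_cover : ∀ a b p : GolayPt, ∃ m ∈ avoidL, W m a = 0 ∧ W m b = 0 ∧ W m p = 0 := by
  decide +kernel

theorem exists_octad_avoid (a b p : GolayPt) :
    ∃ c ∈ golayCode, (support₂ c).card = 8 ∧ c a = 0 ∧ c b = 0 ∧ c p = 0 := by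
  obtain ⟨m, hm, ha, hb, hp⟩ := avoidL_cover a b p
  obtain ⟨h1, h2⟩ := avoidL_ok m hm
  refine ⟨W m, W_mem_of_inC h1, ?_, ha, hb, hp⟩
  rw [card_support₂_eq, hammingNorm_W, h2]

/-- Code words with prescribed trace on a small set. -/
theorem exists_code_trace (T S : Finset GolayPt) (hST : S ⊆ T) (hT : T.card < 8) :
    ∃ c ∈ golayCode, support₂ c ∩ T = S := by
  apply golay_restrict_surj T S hST
  intro c hc hsub
  have : c = 0 := by
    apply eq_zero_of_card_lt hc
    have := Finset.card_le_card hsub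
    omega
  rw [this]
  have : support₂ (0 : GolayPt → ZMod 2) = ∅ := by
    unfold support₂
    rw [Finset.filter_eq_empty_iff]
    intro k _ h
    exact h rfl
  rw [this, Finset.empty_inter, Finset.card_empty]
  exact ⟨0, rfl⟩

/-! ### The vector `ε_c w - w` -/

/-- `ε_c w - w`: it is `-2 w` on the code word `c` and zero elsewhere. -/
def zOf (c : GolayPt → ZMod 2) (hc : c ∈ golayCode) (w : leechLattice) : leechLattice :=
  signCo0 c hc • w - w

theorem zOf_apply (c : GolayPt → ZMod 2) (hc : c ∈ golayCode) (w : leechLattice) (k : GolayPt) :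
    ((zOf c hc w : leechLattice) : GolayPt → ℤ) k
      = if k ∈ support₂ c then -2 * (w : GolayPt → ℤ) k else 0 := by
  unfold zOf
  rw [AddSubgroup.coe_sub, Pi.sub_apply, signCo0_smul]
  split_ifs <;> ring

theorem sqNorm_zOf (c : GolayPt → ZMod 2) (hc : c ∈ golayCode) (w : leechLattice) :
    sqNorm ((zOf c hc w : leechLattice) : GolayPt → ℤ)
      = 4 * ∑ k ∈ support₂ c, (w : GolayPt → ℤ) k ^ 2 := by
  classical
  unfold sqNorm
  have : ∀ k, ((zOf c hc w : leechLattice) : GolayPt → ℤ) k ^ 2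
      = if k ∈ support₂ c then 4 * (w : GolayPt → ℤ) k ^ 2 else 0 := by
    intro k
    rw [zOf_apply]
    split_ifs <;> ring
  rw [Finset.sum_congr rfl (fun k _ => this k), Finset.sum_ite_mem, Finset.univ_inter,
    Finset.mul_sum]

theorem dot_zOf (c : GolayPt → ZMod 2) (hc : c ∈ golayCode) (w : leechLattice) :
    dotInt ((zOf c hc w : leechLattice) : GolayPt → ℤ) (w : GolayPt → ℤ)
      = -2 * ∑ k ∈ support₂ c, (w : GolayPt → ℤ) k ^ 2 := by
  classical
  unfold dotInt
  have : ∀ k, ((zOf c hc w : leechLattice) : GolayPt → ℤ) k * (w : GolayPt → ℤ) k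
      = if k ∈ support₂ c then -2 * (w : GolayPt → ℤ) k ^ 2 else 0 := by
    intro k
    rw [zOf_apply]
    split_ifs <;> ring
  rw [Finset.sum_congr rfl (fun k _ => this k), Finset.sum_ite_mem, Finset.univ_inter,
    Finset.mul_sum]

/-! ### The reference vectors -/

/-- `4 e_0 + 4 e_1`. -/
def v0 : leechLattice :=
  ⟨vecA (gPt 0) (gPt 1) 4 4, vecA_mem (by decide) (Or.inl rfl) (Or.inl rfl)⟩

/-- `4 e_0 - 4 e_1`. -/
def z0 : leechLattice :=
  ⟨vecA (gPt 0) (gPt 1) 4 (-4), vecA_mem (by decide) (Or.inl rfl) (Or.inr rfl)⟩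

theorem sqNorm_v0 : sqNorm (v0 : GolayPt → ℤ) = 32 :=
  sqNorm_vecA (by decide) (Or.inl rfl) (Or.inl rfl)

theorem sqNorm_z0 : sqNorm (z0 : GolayPt → ℤ) = 32 :=
  sqNorm_vecA (by decide) (Or.inl rfl) (Or.inr rfl)

theorem dot_v0 (y : GolayPt → ℤ) :
    dotInt (v0 : GolayPt → ℤ) y = 4 * y (gPt 0) + 4 * y (gPt 1) := dotInt_vecA _ _ _ _ y

theorem dot_z0 (y : GolayPt → ℤ) :
    dotInt (z0 : GolayPt → ℤ) y = 4 * y (gPt 0) + -4 * y (gPt 1) := dotInt_vecA _ _ _ _ y

theorem dot_v0_z0 : dotInt (v0 : GolayPt → ℤ) (z0 : GolayPt → ℤ) = 0 := by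
  rw [dot_v0]
  show 4 * vecA (gPt 0) (gPt 1) 4 (-4) (gPt 0) + 4 * vecA (gPt 0) (gPt 1) 4 (-4) (gPt 1) = 0
  unfold vecA
  decide

theorem dotInt_comm (x y : GolayPt → ℤ) : dotInt x y = dotInt y x := by
  unfold dotInt
  apply Finset.sum_congr rfl
  intro i _
  ring

/-! ### Existence of `z` -/

theorem sq_of_abs {a n : ℤ} (h : |a| = n) : a ^ 2 = n ^ 2 := by
  rw [← h, sq_abs]

/-- For a minimal vector `w` not of shape `(4, 4, 0^22)` there is a minimal vector orthogonal to
`4 e_0 + 4 e_1` with coordinate dot product `-16` with `w`. -/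
theorem exists_z_of_not_A (w : leechLattice) (hw : sqNorm (w : GolayPt → ℤ) = 32)
    (hA : ¬ IsA (w : GolayPt → ℤ)) :
    ∃ z : leechLattice, sqNorm (z : GolayPt → ℤ) = 32 ∧
      dotInt (v0 : GolayPt → ℤ) (z : GolayPt → ℤ) = 0 ∧
      dotInt (z : GolayPt → ℤ) (w : GolayPt → ℤ) = -16 := by
  classical
  rcases shape32 w.2 hw with h | h | h
  · exact absurd h hA
  · -- shape `(2^8)`
    obtain ⟨cw, hcw, hcw8, hwk⟩ := h
    set T := support₂ cw with hT
    have hT' : 2 ≤ (T \ {gPt 0, gPt 1}).card := by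
      have h1 := Finset.le_card_sdiff ({gPt 0, gPt 1} : Finset GolayPt) T
      have h2 : ({gPt 0, gPt 1} : Finset GolayPt).card ≤ 2 := Finset.card_le_two
      omega
    obtain ⟨S, hS, hS2⟩ := Finset.exists_subset_card_eq hT'
    have hST : S ⊆ T := fun k hk => (Finset.mem_sdiff.1 (hS hk)).1
    obtain ⟨c, hc, hcS⟩ := golay_restrict_surj T S hST (by
      intro c hc hsub
      rcases sub_codeword hc hcw hsub (by rw [hcw8]; norm_num) with h0 | h1
      · rw [h0]
        have : support₂ (0 : GolayPt → ZMod 2) = ∅ := by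
          unfold support₂
          rw [Finset.filter_eq_empty_iff]
          intro k _ h
          exact h rfl
        rw [this, Finset.empty_inter, Finset.card_empty]
        exact ⟨0, rfl⟩
      · rw [h1, Finset.inter_eq_right.2 hST, hS2]
        exact ⟨1, rfl⟩)
    have hsum : ∑ k ∈ support₂ c, (w : GolayPt → ℤ) k ^ 2 = 8 := by
      have h1 : ∀ k ∈ support₂ c, (w : GolayPt → ℤ) k ^ 2 = if k ∈ T then 4 else 0 := by
        intro k _
        have := hwk k
        by_cases hk : k ∈ T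
        · rw [if_pos hk]
          rw [if_pos ((mem_support₂_iff cw k).1 hk)] at this
          rw [sq_of_abs this]; norm_num
        · rw [if_neg hk]
          rw [if_neg (fun h => hk ((mem_support₂_iff cw k).2 h))] at this
          rw [sq_of_abs this]; norm_num
      rw [Finset.sum_congr rfl h1, Finset.sum_ite_mem, hcS, Finset.sum_const, hS2]
      norm_num
    refine ⟨zOf c hc w, ?_, ?_, ?_⟩
    · rw [sqNorm_zOf, hsum]; norm_num
    · rw [dot_v0]
      have hz : ∀ p ∈ ({gPt 0, gPt 1} : Finset GolayPt),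
          ((zOf c hc w : leechLattice) : GolayPt → ℤ) p = 0 := by
        intro p hp
        rw [zOf_apply]
        split_ifs with hpc
        · by_cases hpT : p ∈ T
          · exfalso
            have : p ∈ S := by rw [← hcS]; exact Finset.mem_inter.2 ⟨hpc, hpT⟩
            exact (Finset.mem_sdiff.1 (hS this)).2 hp
          · have := hwk p
            rw [if_neg (fun h => hpT ((mem_support₂_iff cw p).2 h)), abs_eq_zero] at this
            rw [this]; norm_num
        · rfl
      rw [hz (gPt 0) (by simp), hz (gPt 1) (by simp)]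
      norm_num
    · rw [dot_zOf, hsum]; norm_num
  · -- shape `(3, 1^23)`
    obtain ⟨p, hwk⟩ := h
    obtain ⟨c, hc, hc8, hca, hcb, hcp⟩ := exists_octad_avoid (gPt 0) (gPt 1) p
    have hsum : ∑ k ∈ support₂ c, (w : GolayPt → ℤ) k ^ 2 = 8 := by
      have h1 : ∀ k ∈ support₂ c, (w : GolayPt → ℤ) k ^ 2 = 1 := by
        intro k hk
        have := hwk k
        have hkp : k ≠ p := by
          rintro rfl
          exact (mem_support₂_iff c _).1 hk hcp
        rw [if_neg hkp] at this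
        rw [sq_of_abs this]; norm_num
      rw [Finset.sum_congr rfl h1, Finset.sum_const, hc8]
      norm_num
    refine ⟨zOf c hc w, ?_, ?_, ?_⟩
    · rw [sqNorm_zOf, hsum]; norm_num
    · rw [dot_v0, zOf_apply, zOf_apply,
        if_neg (fun h => (mem_support₂_iff c _).1 h hca),
        if_neg (fun h => (mem_support₂_iff c _).1 h hcb)]
      norm_num
    · rw [dot_zOf, hsum]; norm_num


/-- The existence of `z` for every minimal `w` with `v0 · w ∈ {-16, -8}`. -/
theorem exists_z (w : leechLattice) (hw : sqNorm (w : GolayPt → ℤ) = 32) {t : ℤ}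
    (ht : t = -16 ∨ t = -8) (hd : dotInt (v0 : GolayPt → ℤ) (w : GolayPt → ℤ) = t) :
    ∃ z : leechLattice, sqNorm (z : GolayPt → ℤ) = 32 ∧
      dotInt (v0 : GolayPt → ℤ) (z : GolayPt → ℤ) = 0 ∧
      dotInt (z : GolayPt → ℤ) (w : GolayPt → ℤ) = -16 := by
  by_cases hA : IsA (w : GolayPt → ℤ)
  · obtain ⟨i, j, hij, hwk⟩ := hA
    rw [dot_v0] at hd
    have h0 := hwk (gPt 0)
    have h1 := hwk (gPt 1)
    have c0 : (w : GolayPt → ℤ) (gPt 0) = 0 ∨ (w : GolayPt → ℤ) (gPt 0) = 4 ∨
        (w : GolayPt → ℤ) (gPt 0) = -4 := by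
      split_ifs at h0
      · rcases abs_eq (by norm_num : (0:ℤ) ≤ 4) |>.1 h0 with e | e
        · exact Or.inr (Or.inl e)
        · exact Or.inr (Or.inr e)
      · exact Or.inl (abs_eq_zero.1 h0)
    have c1 : (w : GolayPt → ℤ) (gPt 1) = 0 ∨ (w : GolayPt → ℤ) (gPt 1) = 4 ∨
        (w : GolayPt → ℤ) (gPt 1) = -4 := by
      split_ifs at h1
      · rcases abs_eq (by norm_num : (0:ℤ) ≤ 4) |>.1 h1 with e | e
        · exact Or.inr (Or.inl e)
        · exact Or.inr (Or.inr e)
      · exact Or.inl (abs_eq_zero.1 h1)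
    have hcases : ((w : GolayPt → ℤ) (gPt 0) = -4 ∧ (w : GolayPt → ℤ) (gPt 1) = 0) ∨
        ((w : GolayPt → ℤ) (gPt 0) = 0 ∧ (w : GolayPt → ℤ) (gPt 1) = -4) := by
      rcases ht with rfl | rfl <;> rcases c0 with e0 | e0 | e0 <;> rcases c1 with e1 | e1 | e1 <;>
        rw [e0, e1] at hd <;> first | omega | (left; exact ⟨e0, e1⟩) | (right; exact ⟨e0, e1⟩)
    rcases hcases with ⟨e0, e1⟩ | ⟨e0, e1⟩
    · refine ⟨z0, sqNorm_z0, dot_v0_z0, ?_⟩
      rw [dot_z0, e0, e1]; norm_num
    · refine ⟨⟨vecA (gPt 0) (gPt 1) (-4) 4, vecA_mem (by decide) (Or.inr rfl) (Or.inl rfl)⟩,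
        sqNorm_vecA (by decide) (Or.inr rfl) (Or.inl rfl), ?_, ?_⟩
      · rw [dot_v0]
        show 4 * vecA (gPt 0) (gPt 1) (-4) 4 (gPt 0) + 4 * vecA (gPt 0) (gPt 1) (-4) 4 (gPt 1) = 0
        unfold vecA
        decide
      · show dotInt (vecA (gPt 0) (gPt 1) (-4) 4) (w : GolayPt → ℤ) = -16
        rw [dotInt_vecA, e0, e1]; norm_num
  · exact exists_z_of_not_A w hw hA

/-! ### The monomial step -/

/-- Odd vectors with the same absolute values differ by a sign change on a code word (with the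
code word exposed). -/
theorem exists_sign_odd {v w : leechLattice}
    (habs : ∀ k, |(w : GolayPt → ℤ) k| = |(v : GolayPt → ℤ) k|)
    (hodd : (v : GolayPt → ℤ) none % 2 = 1) :
    ∃ c ∈ golayCode, ∀ k, (w : GolayPt → ℤ) k
      = if k ∈ support₂ c then -(v : GolayPt → ℤ) k else (v : GolayPt → ℤ) k := by
  have hd : ((v - w : leechLattice) : GolayPt → ℤ) ∈ leechLattice := (v - w).2
  obtain ⟨m, c, hm, hc, h1, _⟩ := exists_leechDesc_normal hd
  have hvodd : ∀ k, (v : GolayPt → ℤ) k % 2 = 1 := fun k => by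
    rw [leech_parity v.2 k none]; exact hodd
  have hm0 : m = 0 := by
    rcases hm with rfl | rfl
    · rfl
    · exfalso
      have h := h1 none
      rw [AddSubgroup.coe_sub, Pi.sub_apply] at h
      have hv := hvodd none
      rcases eq_or_eq_neg_of_abs (habs none) with e | e <;> rw [e] at h <;>
        unfold Int.ModEq at h <;> omega
  subst hm0
  refine ⟨c, hc, ?_⟩
  intro k
  have h := h1 k
  rw [AddSubgroup.coe_sub, Pi.sub_apply] at h
  have hv := hvodd k
  have hck : c k = 0 ∨ c k = 1 := by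
    have : ∀ b : ZMod 2, b = 0 ∨ b = 1 := by decide
    exact this _
  rcases hck with e0 | e1
  · rw [e0] at h
    rw [if_neg (fun hmem => (mem_support₂_iff c k).1 hmem e0)]
    simp only [ZMod.val_zero, Nat.cast_zero, mul_zero, add_zero] at h
    rcases eq_or_eq_neg_of_abs (habs k) with e | e
    · exact e
    · exfalso
      rw [e] at h
      unfold Int.ModEq at h
      omega
  · rw [e1] at h
    rw [if_pos ((mem_support₂_iff c k).2 (by rw [e1]; decide))]
    have h1' : ((1 : ZMod 2).val : ℤ) = 1 := by decide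
    rw [h1'] at h
    rcases eq_or_eq_neg_of_abs (habs k) with e | e
    · exfalso
      rw [e] at h
      unfold Int.ModEq at h
      omega
    · exact e

theorem v0_apply (k : GolayPt) :
    (v0 : GolayPt → ℤ) k = if k = gPt 0 then 4 else if k = gPt 1 then 4 else 0 := by
  show vecA (gPt 0) (gPt 1) 4 4 k = _
  unfold vecA
  simp only [Pi.add_apply, Pi.single_apply]
  by_cases h0 : k = gPt 0
  · subst h0
    rw [if_pos rfl, if_neg (by decide), if_pos rfl]; norm_num
  · rw [if_neg h0, if_neg h0]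
    split_ifs <;> norm_num

/-- The monomial step for `v0 · w = -8`. -/
theorem mono_step8 (w w' : leechLattice) (hw : sqNorm (w : GolayPt → ℤ) = 32)
    (hw' : sqNorm (w' : GolayPt → ℤ) = 32)
    (h0 : (w : GolayPt → ℤ) (gPt 0) = -3) (h1 : (w : GolayPt → ℤ) (gPt 1) = 1)
    (h0' : (w' : GolayPt → ℤ) (gPt 0) = -3) (h1' : (w' : GolayPt → ℤ) (gPt 1) = 1) :
    ∃ g : Co0, g • v0 = v0 ∧ g • w = w' := by
  have hC : ∀ x : leechLattice, sqNorm (x : GolayPt → ℤ) = 32 → (x : GolayPt → ℤ) (gPt 0) = -3 →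
      ∀ k, |(x : GolayPt → ℤ) k| = if k = gPt 0 then 3 else 1 := by
    intro x hx hx0
    rcases shape32 x.2 hx with h | h | h
    · exfalso
      obtain ⟨i, j, _, hk⟩ := h
      have := hk (gPt 0)
      rw [hx0] at this
      split_ifs at this <;> norm_num at this
    · exfalso
      obtain ⟨c, _, _, hk⟩ := h
      have := hk (gPt 0)
      rw [hx0] at this
      split_ifs at this <;> norm_num at this
    · obtain ⟨i, hk⟩ := h
      have hi : i = gPt 0 := by
        by_contra hne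
        have := hk (gPt 0)
        rw [hx0, if_neg (fun h => hne h.symm)] at this
        norm_num at this
      subst hi
      exact hk
  have habs : ∀ k, |(w' : GolayPt → ℤ) k| = |(w : GolayPt → ℤ) k| := by
    intro k
    rw [hC w hw h0 k, hC w' hw' h0' k]
  have hodd : (w : GolayPt → ℤ) none % 2 = 1 := by
    rw [leech_parity w.2 none (gPt 0), h0]; norm_num
  obtain ⟨c, hc, hck⟩ := exists_sign_odd habs hodd
  have hc0 : gPt 0 ∉ support₂ c := by
    intro hmem
    have := hck (gPt 0)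
    rw [if_pos hmem, h0, h0'] at this
    norm_num at this
  have hc1 : gPt 1 ∉ support₂ c := by
    intro hmem
    have := hck (gPt 1)
    rw [if_pos hmem, h1, h1'] at this
    norm_num at this
  refine ⟨signCo0 c hc, Subtype.ext (funext fun k => ?_), Subtype.ext (funext fun k => ?_)⟩
  · rw [signCo0_smul, v0_apply]
    by_cases hk0 : k = gPt 0
    · subst hk0; rw [if_neg hc0]
    · by_cases hk1 : k = gPt 1
      · subst hk1; rw [if_neg hc1]
      · rw [if_neg hk0, if_neg hk1]; simp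
  · rw [signCo0_smul, hck]

/-- Shape of a minimal vector with entries `-4` at `0` and `0` at `1`. -/
theorem form16 (x : leechLattice) (hx : sqNorm (x : GolayPt → ℤ) = 32)
    (h0 : (x : GolayPt → ℤ) (gPt 0) = -4) (h1 : (x : GolayPt → ℤ) (gPt 1) = 0) :
    ∃ k s, k ≠ gPt 0 ∧ k ≠ gPt 1 ∧ (s = 4 ∨ s = -4) ∧
      (x : GolayPt → ℤ) = vecA (gPt 0) k (-4) s := by
  have hA : IsA (x : GolayPt → ℤ) := by
    rcases shape32 x.2 hx with h | h | h
    · exact h
    · exfalso
      obtain ⟨c, _, _, hk⟩ := h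
      have := hk (gPt 0)
      rw [h0] at this
      split_ifs at this <;> norm_num at this
    · exfalso
      obtain ⟨i, hk⟩ := h
      have := hk (gPt 0)
      rw [h0] at this
      split_ifs at this <;> norm_num at this
  obtain ⟨i, j, hij, hk⟩ := hA
  -- the index other than `gPt 0`
  have key : ∃ k, k ≠ gPt 0 ∧ ∀ p, |(x : GolayPt → ℤ) p| = if p = gPt 0 ∨ p = k then 4 else 0 := by
    have h00 := hk (gPt 0)
    rw [h0] at h00
    by_cases hi : gPt 0 = i
    · refine ⟨j, fun h => hij (hi ▸ h.symm), fun p => ?_⟩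
      rw [hk p, hi]
    · by_cases hj : gPt 0 = j
      · refine ⟨i, fun h => hij (h.trans hj), fun p => ?_⟩
        rw [hk p, hj]
        simp only [or_comm]
      · exfalso
        rw [if_neg (by rintro (h | h); exact hi h; exact hj h)] at h00
        norm_num at h00
  obtain ⟨k, hk0, hkp⟩ := key
  have hk1 : k ≠ gPt 1 := by
    rintro rfl
    have := hkp (gPt 1)
    rw [h1, if_pos (Or.inr rfl)] at this
    norm_num at this
  have hxk : |(x : GolayPt → ℤ) k| = 4 := by
    rw [hkp k, if_pos (Or.inr rfl)]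
  refine ⟨k, (x : GolayPt → ℤ) k, hk0, hk1, ?_, ?_⟩
  · rcases abs_eq (by norm_num : (0:ℤ) ≤ 4) |>.1 hxk with e | e
    · exact Or.inl e
    · exact Or.inr e
  · funext p
    unfold vecA
    simp only [Pi.add_apply, Pi.single_apply]
    by_cases hp0 : p = gPt 0
    · subst hp0
      rw [if_pos rfl, if_neg (fun h => hk0 h.symm), h0]; norm_num
    · by_cases hpk : p = k
      · subst hpk
        rw [if_neg hp0, if_pos rfl]; norm_num
      · rw [if_neg hp0, if_neg hpk]
        have := hkp p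
        rw [if_neg (by rintro (h | h); exact hp0 h; exact hpk h), abs_eq_zero] at this
        rw [this]; norm_num

theorem signedPerm_vecA (σ : Equiv.Perm GolayPt) (C : Finset GolayPt) (p q : GolayPt) (s t : ℤ) :
    signedPerm σ C (vecA p q s t)
      = vecA (σ p) (σ q) (if σ p ∈ C then -s else s) (if σ q ∈ C then -t else t) := by
  unfold vecA
  rw [signedPerm_add, signedPerm_single, signedPerm_single]

/-- The monomial step for `v0 · w = -16`. -/
theorem mono_step16 (w w' : leechLattice) (hw : sqNorm (w : GolayPt → ℤ) = 32)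
    (hw' : sqNorm (w' : GolayPt → ℤ) = 32)
    (h0 : (w : GolayPt → ℤ) (gPt 0) = -4) (h1 : (w : GolayPt → ℤ) (gPt 1) = 0)
    (h0' : (w' : GolayPt → ℤ) (gPt 0) = -4) (h1' : (w' : GolayPt → ℤ) (gPt 1) = 0) :
    ∃ g : Co0, g • v0 = v0 ∧ g • w = w' := by
  classical
  obtain ⟨k, s, hk0, hk1, hs, hwf⟩ := form16 w hw h0 h1
  obtain ⟨k', s', hk0', hk1', hs', hwf'⟩ := form16 w' hw' h0' h1'
  have h01 : gPt 0 ≠ gPt 1 := by decide
  obtain ⟨σ, hσ, hmap⟩ := exists_M24_map (n := 3) (by norm_num) ![gPt 0, gPt 1, k]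
    ![gPt 0, gPt 1, k'] (injective_triple h01 (Ne.symm hk0) (Ne.symm hk1))
    (injective_triple h01 (Ne.symm hk0') (Ne.symm hk1'))
  have e0 : σ (gPt 0) = gPt 0 := hmap 0
  have e1 : σ (gPt 1) = gPt 1 := hmap 1
  have ek : σ k = k' := hmap 2
  -- the sign code word
  set S : Finset GolayPt := if s' = s then ∅ else {k'} with hS
  have hST : S ⊆ ({gPt 0, gPt 1, k'} : Finset GolayPt) := by
    rw [hS]
    split_ifs
    · exact Finset.empty_subset _
    · intro p hp
      rw [Finset.mem_singleton] at hp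
      rw [hp]; simp
  obtain ⟨c, hc, hcS⟩ := exists_code_trace ({gPt 0, gPt 1, k'} : Finset GolayPt) S hST (by
    have := Finset.card_le_three (a := gPt 0) (b := gPt 1) (c := k')
    omega)
  have hmem : ∀ p ∈ ({gPt 0, gPt 1, k'} : Finset GolayPt), p ∈ support₂ c ↔ p ∈ S := by
    intro p hp
    rw [← hcS, Finset.mem_inter]
    exact ⟨fun h => ⟨h, hp⟩, fun h => h.1⟩
  have hc0 : gPt 0 ∉ support₂ c := by
    rw [hmem _ (by simp), hS]
    split_ifs
    · exact Finset.notMem_empty _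
    · rw [Finset.mem_singleton]; exact Ne.symm hk0'
  have hc1 : gPt 1 ∉ support₂ c := by
    rw [hmem _ (by simp), hS]
    split_ifs
    · exact Finset.notMem_empty _
    · rw [Finset.mem_singleton]; exact Ne.symm hk1'
  have hck : k' ∈ support₂ c ↔ ¬ s' = s := by
    rw [hmem _ (by simp), hS]
    split_ifs with h
    · simp [h]
    · simp [h]
  refine ⟨monoCo0 σ hσ c hc, Subtype.ext ?_, Subtype.ext ?_⟩
  · rw [monoCo0_smul]
    show signedPerm σ (support₂ c) (vecA (gPt 0) (gPt 1) 4 4) = vecA (gPt 0) (gPt 1) 4 4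
    rw [signedPerm_vecA, e0, e1, if_neg hc0, if_neg hc1]
  · rw [monoCo0_smul, hwf, hwf', signedPerm_vecA, e0, ek, if_neg hc0]
    congr 1
    by_cases h : s' = s
    · rw [if_neg (fun hm => hck.1 hm h), h]
    · rw [if_pos (hck.2 h)]
      rcases hs with rfl | rfl <;> rcases hs' with rfl | rfl <;> first | rfl | exact absurd rfl h


/-! ### Assembly -/

/-- Move `w` to a standard position relative to `v0` and `z0`. -/
theorem exists_normalise (w : leechLattice) (hw : sqNorm (w : GolayPt → ℤ) = 32) {t : ℤ}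
    (ht : t = -16 ∨ t = -8) (hd : dotInt (v0 : GolayPt → ℤ) (w : GolayPt → ℤ) = t) :
    ∃ h : Co0, h • v0 = v0 ∧
      4 * ((h • w : leechLattice) : GolayPt → ℤ) (gPt 0)
        + 4 * ((h • w : leechLattice) : GolayPt → ℤ) (gPt 1) = t ∧
      4 * ((h • w : leechLattice) : GolayPt → ℤ) (gPt 0)
        + -4 * ((h • w : leechLattice) : GolayPt → ℤ) (gPt 1) = -16 := by
  obtain ⟨z, hz, hvz, hzw⟩ := exists_z w hw ht hd
  obtain ⟨h, hv, hz0⟩ := trans_orth_pairs v0 z v0 z0 sqNorm_v0 hz hvz sqNorm_v0 sqNorm_z0 dot_v0_z0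
  refine ⟨h, hv, ?_, ?_⟩
  · rw [← dot_v0, ← hd]
    conv_lhs => rw [← hv]
    rw [hv]
    have := Co0_dot h v0 w
    rw [hv] at this
    exact this
  · rw [← dot_z0, ← hzw, ← hz0]
    exact Co0_dot h z w

theorem trans_pairs_v0 (w w' : leechLattice) (hw : sqNorm (w : GolayPt → ℤ) = 32)
    (hw' : sqNorm (w' : GolayPt → ℤ) = 32) {t : ℤ} (ht : t = -16 ∨ t = -8)
    (hd : dotInt (v0 : GolayPt → ℤ) (w : GolayPt → ℤ) = t)
    (hd' : dotInt (v0 : GolayPt → ℤ) (w' : GolayPt → ℤ) = t) :
    ∃ g : Co0, g • v0 = v0 ∧ g • w = w' := by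
  obtain ⟨h1, hv1, ha1, hb1⟩ := exists_normalise w hw ht hd
  obtain ⟨h2, hv2, ha2, hb2⟩ := exists_normalise w' hw' ht hd'
  have hn1 : sqNorm ((h1 • w : leechLattice) : GolayPt → ℤ) = 32 := by rw [Co0_sqNorm]; exact hw
  have hn2 : sqNorm ((h2 • w' : leechLattice) : GolayPt → ℤ) = 32 := by rw [Co0_sqNorm]; exact hw'
  have key : ∃ m : Co0, m • v0 = v0 ∧ m • (h1 • w) = h2 • w' := by
    rcases ht with rfl | rfl
    · exact mono_step16 _ _ hn1 hn2 (by omega) (by omega) (by omega) (by omega)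
    · exact mono_step8 _ _ hn1 hn2 (by omega) (by omega) (by omega) (by omega)
  obtain ⟨m, hmv, hmw⟩ := key
  refine ⟨h2⁻¹ * m * h1, ?_, ?_⟩
  · rw [mul_smul, mul_smul, hv1, hmv]
    conv_lhs => rw [← hv2]
    rw [inv_smul_smul]
  · rw [mul_smul, mul_smul, hmw, inv_smul_smul]

/-- The stabiliser in `Co0` of a minimal vector `v` is transitive on the minimal vectors with
coordinate dot product `-16` with `v`, and on those with dot product `-8`. -/
theorem trans_pairs (v w w' : leechLattice) (hv : sqNorm (v : GolayPt → ℤ) = 32)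
    (hw : sqNorm (w : GolayPt → ℤ) = 32) (hw' : sqNorm (w' : GolayPt → ℤ) = 32) {t : ℤ}
    (ht : t = -16 ∨ t = -8)
    (hd : dotInt (v : GolayPt → ℤ) (w : GolayPt → ℤ) = t)
    (hd' : dotInt (v : GolayPt → ℤ) (w' : GolayPt → ℤ) = t) :
    ∃ g : Co0, g • v = v ∧ g • w = w' := by
  obtain ⟨h, hh⟩ := co0_trans32 v v0 hv sqNorm_v0
  have h1 : dotInt (v0 : GolayPt → ℤ) ((h • w : leechLattice) : GolayPt → ℤ) = t := by
    rw [← hd, ← hh]; exact Co0_dot h v w
  have h2 : dotInt (v0 : GolayPt → ℤ) ((h • w' : leechLattice) : GolayPt → ℤ) = t := by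
    rw [← hd', ← hh]; exact Co0_dot h v w'
  obtain ⟨g, hg1, hg2⟩ := trans_pairs_v0 (h • w) (h • w') (by rw [Co0_sqNorm]; exact hw)
    (by rw [Co0_sqNorm]; exact hw') ht h1 h2
  refine ⟨h⁻¹ * g * h, ?_, ?_⟩
  · rw [mul_smul, mul_smul, hh, hg1, ← hh, inv_smul_smul]
  · rw [mul_smul, mul_smul, hg2, inv_smul_smul]

/-- Pair version: ordered pairs of minimal vectors with the same dot product `-16` or `-8` are
conjugate under `Co0`. -/
theorem trans_pairs' (v w v' w' : leechLattice) (hv : sqNorm (v : GolayPt → ℤ) = 32)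
    (hw : sqNorm (w : GolayPt → ℤ) = 32) (hv' : sqNorm (v' : GolayPt → ℤ) = 32)
    (hw' : sqNorm (w' : GolayPt → ℤ) = 32) {t : ℤ} (ht : t = -16 ∨ t = -8)
    (hd : dotInt (v : GolayPt → ℤ) (w : GolayPt → ℤ) = t)
    (hd' : dotInt (v' : GolayPt → ℤ) (w' : GolayPt → ℤ) = t) :
    ∃ g : Co0, g • v = v' ∧ g • w = w' := by
  obtain ⟨h, hh⟩ := co0_trans32 v v' hv hv'
  have h1 : dotInt (v' : GolayPt → ℤ) ((h • w : leechLattice) : GolayPt → ℤ) = t := by
    rw [← hd, ← hh]; exact Co0_dot h v w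
  obtain ⟨g, hg1, hg2⟩ := trans_pairs v' (h • w) w' hv' (by rw [Co0_sqNorm]; exact hw) hw' ht h1 hd'
  refine ⟨g * h, ?_, ?_⟩
  · rw [mul_smul, hh, hg1]
  · rw [mul_smul, hg2]

end Cfsg.Agent.Lib.H27
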