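import Mathlib
import Cfsg.Prelude.Def_Sporadic_a
import Cfsg.Agent.Lib.H27.Co0Pairs2

/-!
helper27 library: the minimal vectors of the Leech lattice form a spherical 2-design:
`∑_w (v · w)^2 = 262080 |v|^2`, the sum being over the 196560 minimal vectors.  Consequences:
the census of minimal vectors by inner product with a fixed minimal vector.
-/

set_option autoImplicit false

namespace Cfsg.Agent.Lib.H27

open Cfsg Finset Cfsg.Agent.Lib.H28

/-- The minimal vectors as a finset. -/
noncomputable def MinF : Finset (GolayPt → ℤ) := (SN_finite 32 (by simp)).toFinset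

theorem mem_MinF {w : GolayPt → ℤ} : w ∈ MinF ↔ w ∈ leechLattice ∧ sqNorm w = 32 := by
  unfold MinF
  rw [Set.Finite.mem_toFinset]
  rfl

theorem card_MinF : MinF.card = 196560 := by
  unfold MinF
  rw [← Set.ncard_eq_toFinset_card (SN 32) (SN_finite 32 (by simp))]
  exact leech_count_32

/-! ### Symmetries of `MinF` -/

theorem signChange_signChange (c : Finset GolayPt) (x : GolayPt → ℤ) :
    signChange c (signChange c x) = x := by
  funext i
  unfold signChange
  by_cases h : i ∈ c <;> simp [h]

theorem sqNorm_signChange (c : Finset GolayPt) (x : GolayPt → ℤ) :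
    sqNorm (signChange c x) = sqNorm x := by
  unfold sqNorm
  apply Finset.sum_congr rfl
  intro i _
  unfold signChange
  by_cases h : i ∈ c <;> simp [h]

theorem signChange_mem_MinF {c : GolayPt → ZMod 2} (hc : c ∈ golayCode) {w : GolayPt → ℤ}
    (hw : w ∈ MinF) : signChange (support₂ c) w ∈ MinF := by
  rw [mem_MinF] at hw ⊢
  exact ⟨signChange_mem hc hw.1, by rw [sqNorm_signChange]; exact hw.2⟩

theorem sqNorm_comp (σ : Equiv.Perm GolayPt) (x : GolayPt → ℤ) :
    sqNorm (fun i => x (σ i)) = sqNorm x := by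
  unfold sqNorm
  exact Equiv.sum_comp σ (fun i => x i ^ 2)

theorem comp_mem_MinF {σ : Equiv.Perm GolayPt} (hσ : σ ∈ M24) {w : GolayPt → ℤ}
    (hw : w ∈ MinF) : (fun i => w (σ i)) ∈ MinF := by
  rw [mem_MinF] at hw ⊢
  exact ⟨perm_mem hσ hw.1, by rw [sqNorm_comp]; exact hw.2⟩

/-! ### Second moments -/

theorem moment_off_diag (i j : GolayPt) (hij : i ≠ j) : ∑ w ∈ MinF, w i * w j = 0 := by
  obtain ⟨c, hc, hci, hcj⟩ := exists_sep i j hij
  have hi : i ∈ support₂ c := (mem_support₂_iff c i).2 hci
  have hj : j ∉ support₂ c := fun h => (mem_support₂_iff c j).1 h hcj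
  apply Finset.sum_involution (fun w _ => signChange (support₂ c) w)
  · intro w _
    unfold signChange
    rw [if_pos hi, if_neg hj]
    ring
  · intro w _ hne heq
    have h1 : signChange (support₂ c) w i = w i := by rw [heq]
    unfold signChange at h1
    rw [if_pos hi] at h1
    have : w i = 0 := by omega
    rw [this, zero_mul] at hne
    exact hne rfl
  · intro w hw
    exact signChange_mem_MinF hc hw
  · intro w _
    exact signChange_signChange _ w

theorem moment_diag_eq (i k : GolayPt) : ∑ w ∈ MinF, w i ^ 2 = ∑ w ∈ MinF, w k ^ 2 := by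
  by_cases hik : i = k
  · rw [hik]
  obtain ⟨σ, hσ, hmap⟩ := exists_M24_map (n := 1) (by norm_num) ![k] ![i]
    (fun a b _ => Subsingleton.elim a b) (fun a b _ => Subsingleton.elim a b)
  have hki : σ k = i := hmap 0
  apply Finset.sum_nbij' (fun w => fun p => w (σ p)) (fun w => fun p => w (σ.symm p))
  · intro w hw
    exact comp_mem_MinF hσ hw
  · intro w hw
    have : σ.symm ∈ M24 := M24.inv_mem hσ
    exact comp_mem_MinF this hw
  · intro w _
    funext p
    simp
  · intro w _
    funext p
    simp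
  · intro w _
    show w i ^ 2 = w (σ k) ^ 2
    rw [hki]

theorem moment_diag (i : GolayPt) : ∑ w ∈ MinF, w i ^ 2 = 262080 := by
  have h1 : ∑ k : GolayPt, ∑ w ∈ MinF, w k ^ 2 = 32 * 196560 := by
    rw [Finset.sum_comm]
    have : ∀ w ∈ MinF, ∑ k : GolayPt, w k ^ 2 = 32 := by
      intro w hw
      exact (mem_MinF.1 hw).2
    rw [Finset.sum_congr rfl this, Finset.sum_const, card_MinF]
    norm_num
  rw [Finset.sum_congr rfl (fun k _ => moment_diag_eq k i), Finset.sum_const, Finset.card_univ]
    at h1
  have hc : Fintype.card GolayPt = 24 := by decide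
  rw [hc] at h1
  simp only [nsmul_eq_mul, Nat.cast_ofNat] at h1
  omega

/-- The minimal vectors form a 2-design. -/
theorem design2 (v : GolayPt → ℤ) : ∑ w ∈ MinF, dotInt v w ^ 2 = 262080 * sqNorm v := by
  classical
  have h1 : ∀ w : GolayPt → ℤ, dotInt v w ^ 2
      = ∑ i : GolayPt, ∑ j : GolayPt, (v i * v j) * (w i * w j) := by
    intro w
    unfold dotInt
    rw [sq, Finset.sum_mul_sum]
    apply Finset.sum_congr rfl
    intro i _
    apply Finset.sum_congr rfl
    intro j _
    ring
  rw [Finset.sum_congr rfl (fun w _ => h1 w), Finset.sum_comm]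
  have h2 : ∀ i : GolayPt, ∑ w ∈ MinF, ∑ j : GolayPt, (v i * v j) * (w i * w j)
      = 262080 * v i ^ 2 := by
    intro i
    rw [Finset.sum_comm]
    have h3 : ∀ j : GolayPt, ∑ w ∈ MinF, (v i * v j) * (w i * w j)
        = if j = i then 262080 * v i ^ 2 else 0 := by
      intro j
      rw [← Finset.mul_sum]
      by_cases hji : j = i
      · rw [if_pos hji, hji]
        have := moment_diag i
        have e : ∑ w ∈ MinF, w i * w i = ∑ w ∈ MinF, w i ^ 2 := by
          apply Finset.sum_congr rfl
          intro w _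
          ring
        rw [e, this]
        ring
      · rw [if_neg hji, moment_off_diag i j (fun h => hji h.symm), mul_zero]
    rw [Finset.sum_congr rfl (fun j _ => h3 j), Finset.sum_ite_eq' Finset.univ i]
    simp
  rw [Finset.sum_congr rfl (fun i _ => h2 i), ← Finset.mul_sum]
  rfl


/-! ### Extension of an automorphism to all integer vectors -/

/-- The automorphism `g` as a map on all integer vectors (identity outside the lattice). -/
noncomputable def extCo0 (g : Co0) (w : GolayPt → ℤ) : GolayPt → ℤ := by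
  classical
  exact if h : w ∈ leechLattice then ((g • (⟨w, h⟩ : leechLattice) : leechLattice) : GolayPt → ℤ)
    else w

theorem extCo0_coe (g : Co0) (w : leechLattice) :
    extCo0 g (w : GolayPt → ℤ) = ((g • w : leechLattice) : GolayPt → ℤ) := by
  unfold extCo0
  rw [dif_pos w.2]

theorem extCo0_mem (g : Co0) {w : GolayPt → ℤ} (hw : w ∈ leechLattice) :
    extCo0 g w ∈ leechLattice := by
  have := extCo0_coe g ⟨w, hw⟩
  simp only at this
  rw [this]
  exact (g • (⟨w, hw⟩ : leechLattice)).2

theorem extCo0_inv (g : Co0) {w : GolayPt → ℤ} (hw : w ∈ leechLattice) :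
    extCo0 g⁻¹ (extCo0 g w) = w := by
  have h1 := extCo0_coe g ⟨w, hw⟩
  simp only at h1
  rw [h1, extCo0_coe, inv_smul_smul]

theorem extCo0_inv' (g : Co0) {w : GolayPt → ℤ} (hw : w ∈ leechLattice) :
    extCo0 g (extCo0 g⁻¹ w) = w := by
  have := extCo0_inv g⁻¹ hw
  rwa [inv_inv] at this

theorem sqNorm_extCo0 (g : Co0) {w : GolayPt → ℤ} (hw : w ∈ leechLattice) :
    sqNorm (extCo0 g w) = sqNorm w := by
  have h1 := extCo0_coe g ⟨w, hw⟩
  simp only at h1
  rw [h1, Co0_sqNorm]

theorem dot_extCo0 (g : Co0) {v w : GolayPt → ℤ} (hv : v ∈ leechLattice) (hw : w ∈ leechLattice) :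
    dotInt (extCo0 g v) (extCo0 g w) = dotInt v w := by
  have h1 := extCo0_coe g ⟨w, hw⟩
  have h2 := extCo0_coe g ⟨v, hv⟩
  simp only at h1 h2
  rw [h1, h2, Co0_dot]

theorem extCo0_mem_MinF (g : Co0) {w : GolayPt → ℤ} (hw : w ∈ MinF) : extCo0 g w ∈ MinF := by
  rw [mem_MinF] at hw ⊢
  exact ⟨extCo0_mem g hw.1, by rw [sqNorm_extCo0 g hw.1]; exact hw.2⟩

/-! ### The census -/

/-- The number of minimal vectors with dot product `t` with `v`. -/
noncomputable def nT (v : GolayPt → ℤ) (t : ℤ) : ℕ := (MinF.filter (fun w => dotInt v w = t)).card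

theorem nT_congr (g : Co0) {v : GolayPt → ℤ} (hv : v ∈ leechLattice) (t : ℤ) :
    nT (extCo0 g v) t = nT v t := by
  unfold nT
  apply Finset.card_nbij' (extCo0 g⁻¹) (extCo0 g)
  · intro w hw
    rw [Finset.coe_filter, Set.mem_ofPred_eq] at hw ⊢
    refine ⟨extCo0_mem_MinF _ hw.1, ?_⟩
    have hwL := (mem_MinF.1 hw.1).1
    rw [← hw.2, ← dot_extCo0 g⁻¹ (extCo0_mem g hv) hwL, extCo0_inv g hv]
  · intro w hw
    rw [Finset.coe_filter, Set.mem_ofPred_eq] at hw ⊢
    refine ⟨extCo0_mem_MinF _ hw.1, ?_⟩
    have hwL := (mem_MinF.1 hw.1).1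
    rw [dot_extCo0 g hv hwL]
    exact hw.2
  · intro w hw
    rw [Finset.coe_filter, Set.mem_ofPred_eq] at hw
    exact extCo0_inv' g (mem_MinF.1 hw.1).1
  · intro w hw
    rw [Finset.coe_filter, Set.mem_ofPred_eq] at hw
    exact extCo0_inv g (mem_MinF.1 hw.1).1

/-- `nT v t` does not depend on the minimal vector `v`. -/
theorem nT_const {v v' : GolayPt → ℤ} (hv : v ∈ MinF) (hv' : v' ∈ MinF) (t : ℤ) :
    nT v t = nT v' t := by
  rw [mem_MinF] at hv hv'
  obtain ⟨g, hg⟩ := co0_trans32 ⟨v, hv.1⟩ ⟨v', hv'.1⟩ hv.2 hv'.2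
  have h1 := extCo0_coe g ⟨v, hv.1⟩
  rw [hg] at h1
  simp only at h1
  rw [← h1, nT_congr g hv.1]

theorem dotInt_neg_left (x y : GolayPt → ℤ) : dotInt (-x) y = -dotInt x y := by
  rw [dotInt_comm, dotInt_neg_right, dotInt_comm]

theorem neg_mem_MinF {w : GolayPt → ℤ} (hw : w ∈ MinF) : -w ∈ MinF := by
  rw [mem_MinF] at hw ⊢
  exact ⟨leechLattice.neg_mem hw.1, by rw [sqNorm_neg]; exact hw.2⟩

theorem nT_neg (v : GolayPt → ℤ) (t : ℤ) : nT v (-t) = nT v t := by
  unfold nT
  apply Finset.card_nbij' (fun w => -w) (fun w => -w)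
  · intro w hw
    rw [Finset.coe_filter, Set.mem_ofPred_eq] at hw ⊢
    refine ⟨neg_mem_MinF hw.1, ?_⟩
    rw [dotInt_neg_right, hw.2, neg_neg]
  · intro w hw
    rw [Finset.coe_filter, Set.mem_ofPred_eq] at hw ⊢
    refine ⟨neg_mem_MinF hw.1, ?_⟩
    rw [dotInt_neg_right, hw.2]
  · intro w _
    exact neg_neg w
  · intro w _
    exact neg_neg w

/-- The possible dot products of two minimal vectors. -/
theorem dot_cases {v w : GolayPt → ℤ} (hv : v ∈ MinF) (hw : w ∈ MinF) :
    dotInt v w ∈ ({32, 16, 8, 0, -8, -16, -32} : Finset ℤ) := by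
  rw [mem_MinF] at hv hw
  have h1 := sqNorm_sub' v w
  have h2 := sqNorm_add' v w
  rw [hv.2, hw.2] at h1 h2
  simp only [Finset.mem_insert, Finset.mem_singleton]
  by_cases hd : 0 ≤ dotInt v w
  · have hm : v - w ∈ leechLattice := leechLattice.sub_mem hv.1 hw.1
    rcases norm_cases hm (by omega) with h | h | h | h
    · rw [h] at h1
      have : sqNorm (0 : GolayPt → ℤ) = 0 := by unfold sqNorm; simp
      omega
    · omega
    · omega
    · omega
  · have hm : v + w ∈ leechLattice := leechLattice.add_mem hv.1 hw.1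
    rcases norm_cases hm (by omega) with h | h | h | h
    · rw [h] at h2
      have : sqNorm (0 : GolayPt → ℤ) = 0 := by unfold sqNorm; simp
      omega
    · omega
    · omega
    · omega

theorem nT_32 {v : GolayPt → ℤ} (hv : v ∈ MinF) : nT v 32 = 1 := by
  unfold nT
  rw [Finset.card_eq_one]
  refine ⟨v, ?_⟩
  ext w
  rw [Finset.mem_filter, Finset.mem_singleton]
  constructor
  · rintro ⟨hw, hd⟩
    have h1 := sqNorm_sub' v w
    rw [(mem_MinF.1 hv).2, (mem_MinF.1 hw).2, hd] at h1
    have := sqNorm_eq_zero (x := v - w) (by omega)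
    rw [sub_eq_zero] at this
    exact this.symm
  · rintro rfl
    refine ⟨hv, ?_⟩
    have : dotInt w w = sqNorm w := by
      unfold dotInt sqNorm
      apply Finset.sum_congr rfl
      intro i _
      ring
    rw [this, (mem_MinF.1 hv).2]

theorem sum_nT {v : GolayPt → ℤ} (hv : v ∈ MinF) :
    2 + 2 * nT v 16 + 2 * nT v 8 + nT v 0 = 196560 := by
  have h := Finset.card_eq_sum_card_fiberwise (f := fun w => dotInt v w) (s := MinF)
    (t := ({32, 16, 8, 0, -8, -16, -32} : Finset ℤ)) (fun w hw => dot_cases hv hw)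
  rw [card_MinF] at h
  have e : ∀ t : ℤ, (MinF.filter (fun w => dotInt v w = t)).card = nT v t := fun t => rfl
  simp only [e] at h
  rw [Finset.sum_insert (by decide), Finset.sum_insert (by decide), Finset.sum_insert (by decide),
    Finset.sum_insert (by decide), Finset.sum_insert (by decide), Finset.sum_insert (by decide),
    Finset.sum_singleton, nT_neg, nT_neg, nT_neg, nT_32 hv] at h
  omega

theorem sum_sq_nT {v : GolayPt → ℤ} (hv : v ∈ MinF) :
    2 * 1024 + 512 * nT v 16 + 128 * nT v 8 = 8386560 := by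
  have h := design2 v
  rw [(mem_MinF.1 hv).2] at h
  rw [← Finset.sum_fiberwise_of_maps_to (t := ({32, 16, 8, 0, -8, -16, -32} : Finset ℤ))
    (g := fun w => dotInt v w) (fun w hw => dot_cases hv hw)] at h
  have e : ∀ t : ℤ, ∑ w ∈ MinF with dotInt v w = t, dotInt v w ^ 2 = t ^ 2 * nT v t := by
    intro t
    have : ∀ w ∈ MinF.filter (fun w => dotInt v w = t), dotInt v w ^ 2 = t ^ 2 := by
      intro w hw
      rw [(Finset.mem_filter.1 hw).2]
    rw [Finset.sum_congr rfl this, Finset.sum_const]
    unfold nT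
    simp only [nsmul_eq_mul]
    ring
  simp only [e] at h
  rw [Finset.sum_insert (by decide), Finset.sum_insert (by decide), Finset.sum_insert (by decide),
    Finset.sum_insert (by decide), Finset.sum_insert (by decide), Finset.sum_insert (by decide),
    Finset.sum_singleton, nT_neg, nT_neg, nT_neg, nT_32 hv] at h
  have h' : (((2 * 1024 + 512 * nT v 16 + 128 * nT v 8 : ℕ)) : ℤ) = 8386560 := by
    push_cast at h ⊢
    norm_num at h
    linarith
  exact_mod_cast h'


/-! ### Double counting -/

theorem card_filter_product' {α β : Type*} (A : Finset α) (B : Finset β) (R : α → β → Prop)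
    [∀ a b, Decidable (R a b)] :
    ((A ×ˢ B).filter (fun p => R p.1 p.2)).card = ∑ a ∈ A, (B.filter (R a)).card := by
  rw [Finset.card_filter, Finset.sum_product]
  apply Finset.sum_congr rfl
  intro a _
  rw [Finset.card_filter]

/-- The vectors of squared length 64 as a finset. -/
noncomputable def S64F : Finset (GolayPt → ℤ) := (SN_finite 64 (by simp)).toFinset

theorem mem_S64F {w : GolayPt → ℤ} : w ∈ S64F ↔ w ∈ leechLattice ∧ sqNorm w = 64 := by
  unfold S64F
  rw [Set.Finite.mem_toFinset]
  rfl

theorem card_S64F : S64F.card = 398034000 := by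
  unfold S64F
  rw [← Set.ncard_eq_toFinset_card (SN 64) (SN_finite 64 (by simp))]
  exact leech_count_64

/-- Congruence modulo twice the lattice. -/
def Cong2 (x y : GolayPt → ℤ) : Prop := ∃ z ∈ leechLattice, x - y = 2 • z

open Classical in
/-- The other members of the cross of `x`. -/
noncomputable def crossRest (x : GolayPt → ℤ) : Finset (GolayPt → ℤ) :=
  S64F.filter (fun y => Cong2 x y ∧ y ≠ x ∧ y ≠ -x)

theorem sqNorm_zero' : sqNorm (0 : GolayPt → ℤ) = 0 := by unfold sqNorm; simp

theorem card_crossRest {x : GolayPt → ℤ} (hx : x ∈ S64F) : (crossRest x).card = 46 := by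
  classical
  rw [mem_S64F] at hx
  have h48 := ncard_cross x hx.1 hx.2
  set C : Finset (GolayPt → ℤ) := S64F.filter (fun y => Cong2 x y) with hC
  have hCset : (C : Set (GolayPt → ℤ))
      = {y | y ∈ leechLattice ∧ sqNorm y = sqNorm x ∧ ∃ z ∈ leechLattice, x - y = 2 • z} := by
    ext y
    rw [hC, Finset.coe_filter, Set.mem_ofPred_eq, Set.mem_ofPred_eq, mem_S64F, hx.2]
    unfold Cong2
    tauto
  have hCcard : C.card = 48 := by
    rw [← Set.ncard_coe_finset, hCset]
    exact h48
  have hxC : x ∈ C := by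
    rw [hC, Finset.mem_filter, mem_S64F]
    exact ⟨hx, 0, leechLattice.zero_mem, by simp⟩
  have hnC : -x ∈ C := by
    rw [hC, Finset.mem_filter, mem_S64F]
    refine ⟨⟨leechLattice.neg_mem hx.1, by rw [sqNorm_neg]; exact hx.2⟩, x, hx.1, ?_⟩
    rw [two_smul, sub_neg_eq_add]
  have hne : x ≠ -x := by
    intro h
    have h0 : x = 0 := by
      funext i
      have := congrFun h i
      rw [Pi.neg_apply] at this
      show x i = 0
      omega
    rw [h0, sqNorm_zero'] at hx
    omega
  have hrest : crossRest x = (C.erase x).erase (-x) := by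
    ext y
    unfold crossRest
    rw [Finset.mem_filter, Finset.mem_erase, Finset.mem_erase, hC, Finset.mem_filter]
    tauto
  rw [hrest, Finset.card_erase_of_mem, Finset.card_erase_of_mem hxC, hCcard]
  rw [Finset.mem_erase]
  exact ⟨fun h => hne h.symm, hnC⟩

open Classical in
/-- Ordered pairs of distinct, non-opposite members of a cross. -/
noncomputable def framePairs : Finset ((GolayPt → ℤ) × (GolayPt → ℤ)) :=
  (S64F ×ˢ S64F).filter (fun p => Cong2 p.1 p.2 ∧ p.2 ≠ p.1 ∧ p.2 ≠ -p.1)

theorem card_framePairs : framePairs.card = 398034000 * 46 := by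
  classical
  unfold framePairs
  rw [card_filter_product' S64F S64F (fun x y => Cong2 x y ∧ y ≠ x ∧ y ≠ -x)]
  have : ∀ x ∈ S64F, (S64F.filter (fun y => Cong2 x y ∧ y ≠ x ∧ y ≠ -x)).card = 46 := by
    intro x hx
    have := card_crossRest hx
    unfold crossRest at this
    convert this
  rw [Finset.sum_congr rfl this, Finset.sum_const, card_S64F]
  rfl

/-- Ordered pairs of orthogonal minimal vectors. -/
noncomputable def orthPairs : Finset ((GolayPt → ℤ) × (GolayPt → ℤ)) :=
  (MinF ×ˢ MinF).filter (fun p => dotInt p.1 p.2 = 0)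

theorem card_orthPairs_sum : orthPairs.card = ∑ v ∈ MinF, nT v 0 := by
  unfold orthPairs
  rw [card_filter_product' MinF MinF (fun v w => dotInt v w = 0)]
  rfl

theorem sqNorm_two_smul' (z : GolayPt → ℤ) : sqNorm (2 • z) = 4 * sqNorm z := by
  unfold sqNorm
  rw [Finset.mul_sum]
  apply Finset.sum_congr rfl
  intro i _
  simp only [Pi.smul_apply, smul_eq_mul]
  ring

theorem card_orthPairs : orthPairs.card = 398034000 * 46 := by
  classical
  rw [← card_framePairs]
  apply Finset.card_nbij'
    (fun p : (GolayPt → ℤ) × (GolayPt → ℤ) => (p.1 + p.2, p.1 - p.2))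
    (fun p : (GolayPt → ℤ) × (GolayPt → ℤ) =>
      (fun i => (p.1 i + p.2 i) / 2, fun i => (p.1 i - p.2 i) / 2))
  · rintro ⟨v, w⟩ hp
    unfold orthPairs at hp
    rw [Finset.coe_filter, Set.mem_ofPred_eq, Finset.mem_product] at hp
    obtain ⟨⟨hv, hw⟩, hd⟩ := hp
    simp only at hv hw hd
    rw [mem_MinF] at hv hw
    unfold framePairs
    rw [Finset.coe_filter, Set.mem_ofPred_eq, Finset.mem_product, mem_S64F, mem_S64F]
    simp only
    have h1 := sqNorm_add' v w
    have h2 := sqNorm_sub' v w
    rw [hv.2, hw.2, hd] at h1 h2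
    refine ⟨⟨⟨leechLattice.add_mem hv.1 hw.1, by omega⟩, ⟨leechLattice.sub_mem hv.1 hw.1, by omega⟩⟩,
      ⟨w, hw.1, by rw [two_smul]; abel⟩, ?_, ?_⟩
    · intro h
      have hw0 : w = 0 := by
        funext i
        have := congrFun h i
        simp only [Pi.sub_apply, Pi.add_apply] at this
        show w i = 0
        omega
      rw [hw0, sqNorm_zero'] at hw
      omega
    · intro h
      have hv0 : v = 0 := by
        funext i
        have := congrFun h i
        simp only [Pi.sub_apply, Pi.add_apply, Pi.neg_apply] at this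
        show v i = 0
        omega
      rw [hv0, sqNorm_zero'] at hv
      omega
  · rintro ⟨x, y⟩ hp
    unfold framePairs at hp
    rw [Finset.coe_filter, Set.mem_ofPred_eq, Finset.mem_product, mem_S64F, mem_S64F] at hp
    obtain ⟨⟨hx, hy⟩, ⟨z, hz, hxyz⟩, hne1, hne2⟩ := hp
    simp only at hx hy hxyz hne1 hne2
    have hdot : dotInt x y = 0 := by
      rcases short_congr x y hx.1 hy.1 (fun h => hne1 h.symm) (by omega) (by omega)
        ⟨z, hz, hxyz⟩ with h | ⟨_, _, h⟩
      · exfalso
        apply hne2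
        rw [h, neg_neg]
      · exact h
    have hzi : ∀ i, x i - y i = 2 * z i := by
      intro i
      have := congrFun hxyz i
      simpa using this
    have e2 : (fun i => (x i - y i) / 2) = z := by
      funext i
      rw [hzi i]
      omega
    have e1 : (fun i => (x i + y i) / 2) = x - z := by
      funext i
      have := hzi i
      rw [Pi.sub_apply]
      omega
    have hnz : sqNorm z = 32 := by
      have h1 := sqNorm_sub' x y
      rw [hxyz, sqNorm_two_smul', hx.2, hy.2, hdot] at h1
      omega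
    have hxz : dotInt x z = 32 := by
      have h1 : 2 * dotInt x z = dotInt x (x - y) := by
        rw [hxyz]
        unfold dotInt
        rw [Finset.mul_sum]
        apply Finset.sum_congr rfl
        intro i _
        simp only [Pi.smul_apply, smul_eq_mul]
        ring
      have h2 : dotInt x (x - y) = sqNorm x - dotInt x y := by
        unfold dotInt sqNorm
        rw [← Finset.sum_sub_distrib]
        apply Finset.sum_congr rfl
        intro i _
        rw [Pi.sub_apply]
        ring
      rw [h2, hx.2, hdot] at h1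
      omega
    have hnv : sqNorm (x - z) = 32 := by
      have h1 := sqNorm_sub' x z
      rw [hx.2, hnz, hxz] at h1
      omega
    unfold orthPairs
    rw [Finset.coe_filter, Set.mem_ofPred_eq, Finset.mem_product]
    simp only
    rw [e1, e2, mem_MinF, mem_MinF]
    refine ⟨⟨⟨leechLattice.sub_mem hx.1 hz, hnv⟩, hz, hnz⟩, ?_⟩
    have : dotInt (x - z) z = dotInt x z - sqNorm z := by
      unfold dotInt sqNorm
      rw [← Finset.sum_sub_distrib]
      apply Finset.sum_congr rfl
      intro i _
      rw [Pi.sub_apply]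
      ring
    rw [this, hxz, hnz]
    norm_num
  · rintro ⟨v, w⟩ _
    simp only [Prod.mk.injEq]
    constructor
    · funext i
      simp only [Pi.add_apply, Pi.sub_apply]
      omega
    · funext i
      simp only [Pi.add_apply, Pi.sub_apply]
      omega
  · rintro ⟨x, y⟩ hp
    unfold framePairs at hp
    rw [Finset.coe_filter, Set.mem_ofPred_eq] at hp
    obtain ⟨_, ⟨z, _, hxyz⟩, _, _⟩ := hp
    simp only at hxyz
    have hzi : ∀ i, x i - y i = 2 * z i := by
      intro i
      have := congrFun hxyz i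
      simpa using this
    simp only [Prod.mk.injEq]
    constructor
    · funext i
      have := hzi i
      simp only [Pi.add_apply]
      omega
    · funext i
      have := hzi i
      simp only [Pi.sub_apply]
      omega

theorem nT_zero {v : GolayPt → ℤ} (hv : v ∈ MinF) : nT v 0 = 93150 := by
  have h1 := card_orthPairs
  rw [card_orthPairs_sum, Finset.sum_congr rfl (fun w hw => nT_const hw hv 0), Finset.sum_const,
    card_MinF, smul_eq_mul] at h1
  omega

theorem nT_16 {v : GolayPt → ℤ} (hv : v ∈ MinF) : nT v 16 = 4600 := by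
  have h1 := sum_nT hv
  have h2 := sum_sq_nT hv
  have h3 := nT_zero hv
  omega

theorem nT_8 {v : GolayPt → ℤ} (hv : v ∈ MinF) : nT v 8 = 47104 := by
  have h1 := sum_nT hv
  have h2 := sum_sq_nT hv
  have h3 := nT_zero hv
  omega

/-- The census as `ncard`s of sets. -/
theorem ncard_dot {v : GolayPt → ℤ} (t : ℤ) :
    {w : GolayPt → ℤ | w ∈ leechLattice ∧ sqNorm w = 32 ∧ dotInt v w = t}.ncard = nT v t := by
  unfold nT
  rw [← Set.ncard_coe_finset]
  congr 1
  ext w
  rw [Finset.coe_filter, Set.mem_ofPred_eq, Set.mem_ofPred_eq, mem_MinF]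
  tauto

end Cfsg.Agent.Lib.H27
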