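import Mathlib
import Cfsg.Prelude.Def_Sporadic_a
import Cfsg.Agent.Lib.H27.LeechDesign

/-!
helper27 library: a vector of squared length 48 of the Leech lattice is the sum of two minimal
vectors in exactly 552 ordered ways (double counting against the census of `LeechDesign`).
-/

set_option autoImplicit false

namespace Cfsg.Agent.Lib.H27

open Cfsg Finset Cfsg.Agent.Lib.H28

/-- The vectors of squared length 48 as a finset. -/
noncomputable def S48F : Finset (GolayPt → ℤ) := (SN_finite 48 (by simp)).toFinset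

theorem mem_S48F {w : GolayPt → ℤ} : w ∈ S48F ↔ w ∈ leechLattice ∧ sqNorm w = 48 := by
  unfold S48F
  rw [Set.Finite.mem_toFinset]
  rfl

theorem card_S48F : S48F.card = 16773120 := by
  unfold S48F
  rw [← Set.ncard_eq_toFinset_card (SN 48) (SN_finite 48 (by simp))]
  exact leech_count_48

theorem extCo0_sub (g : Co0) {u v : GolayPt → ℤ} (hu : u ∈ leechLattice) (hv : v ∈ leechLattice) :
    extCo0 g (u - v) = extCo0 g u - extCo0 g v := by
  have h1 := extCo0_coe g ⟨u, hu⟩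
  have h2 := extCo0_coe g ⟨v, hv⟩
  have h3 := extCo0_coe g (⟨u, hu⟩ - ⟨v, hv⟩)
  simp only at h1 h2
  rw [h1, h2]
  have e : (((⟨u, hu⟩ - ⟨v, hv⟩ : leechLattice)) : GolayPt → ℤ) = u - v := rfl
  rw [e] at h3
  rw [h3, Co0_smul_sub]
  rfl

/-- The number of minimal `v` with `u - v` minimal. -/
noncomputable def nSum (u : GolayPt → ℤ) : ℕ := (MinF.filter (fun v => u - v ∈ MinF)).card

theorem nSum_congr (g : Co0) {u : GolayPt → ℤ} (hu : u ∈ leechLattice) :
    nSum (extCo0 g u) = nSum u := by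
  unfold nSum
  apply Finset.card_nbij' (extCo0 g⁻¹) (extCo0 g)
  · intro w hw
    rw [Finset.coe_filter, Set.mem_ofPred_eq] at hw ⊢
    refine ⟨extCo0_mem_MinF _ hw.1, ?_⟩
    have hwL := (mem_MinF.1 hw.1).1
    have := extCo0_mem_MinF g⁻¹ hw.2
    rw [extCo0_sub g⁻¹ (extCo0_mem g hu) hwL, extCo0_inv g hu] at this
    exact this
  · intro w hw
    rw [Finset.coe_filter, Set.mem_ofPred_eq] at hw ⊢
    refine ⟨extCo0_mem_MinF _ hw.1, ?_⟩
    have hwL := (mem_MinF.1 hw.1).1
    rw [← extCo0_sub g hu hwL]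
    exact extCo0_mem_MinF g hw.2
  · intro w hw
    rw [Finset.coe_filter, Set.mem_ofPred_eq] at hw
    exact extCo0_inv' g (mem_MinF.1 hw.1).1
  · intro w hw
    rw [Finset.coe_filter, Set.mem_ofPred_eq] at hw
    exact extCo0_inv g (mem_MinF.1 hw.1).1

theorem nSum_const {u u' : GolayPt → ℤ} (hu : u ∈ S48F) (hu' : u' ∈ S48F) : nSum u = nSum u' := by
  rw [mem_S48F] at hu hu'
  obtain ⟨g, hg⟩ := co0_trans48 ⟨u, hu.1⟩ ⟨u', hu'.1⟩ hu.2 hu'.2
  have h1 := extCo0_coe g ⟨u, hu.1⟩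
  rw [hg] at h1
  simp only at h1
  rw [← h1, nSum_congr g hu.1]

/-- Ordered pairs of minimal vectors with dot product `-8`. -/
noncomputable def pairs8 : Finset ((GolayPt → ℤ) × (GolayPt → ℤ)) :=
  (MinF ×ˢ MinF).filter (fun p => dotInt p.1 p.2 = -8)

theorem card_pairs8 : pairs8.card = 196560 * 47104 := by
  unfold pairs8
  rw [card_filter_product' MinF MinF (fun v w => dotInt v w = -8)]
  have : ∀ v ∈ MinF, (MinF.filter (fun w => dotInt v w = -8)).card = 47104 := by
    intro v hv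
    have h1 : (MinF.filter (fun w => dotInt v w = -8)).card = nT v (-8) := rfl
    rw [h1, nT_neg, nT_8 hv]
  rw [Finset.sum_congr rfl this, Finset.sum_const, card_MinF]
  rfl

/-- Pairs `(u, v)` with `u` of squared length 48 and `v`, `u - v` minimal. -/
noncomputable def sumPairs : Finset ((GolayPt → ℤ) × (GolayPt → ℤ)) :=
  (S48F ×ˢ MinF).filter (fun p => p.1 - p.2 ∈ MinF)

theorem card_sumPairs : sumPairs.card = 196560 * 47104 := by
  rw [← card_pairs8]
  symm
  apply Finset.card_nbij'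
    (fun p : (GolayPt → ℤ) × (GolayPt → ℤ) => (p.1 + p.2, p.1))
    (fun p : (GolayPt → ℤ) × (GolayPt → ℤ) => (p.2, p.1 - p.2))
  · rintro ⟨v, w⟩ hp
    unfold pairs8 at hp
    rw [Finset.coe_filter, Set.mem_ofPred_eq, Finset.mem_product] at hp
    obtain ⟨⟨hv, hw⟩, hd⟩ := hp
    simp only at hv hw hd
    unfold sumPairs
    rw [Finset.coe_filter, Set.mem_ofPred_eq, Finset.mem_product, mem_S48F]
    simp only
    have h1 := sqNorm_add' v w
    rw [(mem_MinF.1 hv).2, (mem_MinF.1 hw).2, hd] at h1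
    refine ⟨⟨⟨leechLattice.add_mem (mem_MinF.1 hv).1 (mem_MinF.1 hw).1, by omega⟩, hv⟩, ?_⟩
    rw [add_sub_cancel_left]
    exact hw
  · rintro ⟨u, v⟩ hp
    unfold sumPairs at hp
    rw [Finset.coe_filter, Set.mem_ofPred_eq, Finset.mem_product, mem_S48F] at hp
    obtain ⟨⟨hu, hv⟩, hw⟩ := hp
    simp only at hu hv hw
    unfold pairs8
    rw [Finset.coe_filter, Set.mem_ofPred_eq, Finset.mem_product]
    simp only
    refine ⟨⟨hv, hw⟩, ?_⟩
    have h1 := sqNorm_add' v (u - v)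
    rw [add_sub_cancel, hu.2, (mem_MinF.1 hv).2, (mem_MinF.1 hw).2] at h1
    omega
  · rintro ⟨v, w⟩ _
    simp only [Prod.mk.injEq, add_sub_cancel_left, and_self]
  · rintro ⟨u, v⟩ _
    simp only [Prod.mk.injEq, add_sub_cancel, and_self]

theorem nSum_eq {u : GolayPt → ℤ} (hu : u ∈ S48F) : nSum u = 552 := by
  have h1 := card_sumPairs
  unfold sumPairs at h1
  rw [card_filter_product' S48F MinF (fun u v => u - v ∈ MinF)] at h1
  have : ∀ u' ∈ S48F, (MinF.filter (fun v => u' - v ∈ MinF)).card = nSum u := by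
    intro u' hu'
    exact nSum_const hu' hu
  rw [Finset.sum_congr rfl this, Finset.sum_const, card_S48F, smul_eq_mul] at h1
  omega

/-- A vector of squared length 48 is the sum of two minimal vectors in exactly 552 ordered ways. -/
theorem ncard_sum_decomp (u : leechLattice) (hu : sqNorm (u : GolayPt → ℤ) = 48) :
    {v : leechLattice | sqNorm (v : GolayPt → ℤ) = 32 ∧
      sqNorm ((u - v : leechLattice) : GolayPt → ℤ) = 32}.ncard = 552 := by
  have hu' : (u : GolayPt → ℤ) ∈ S48F := mem_S48F.2 ⟨u.2, hu⟩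
  rw [← nSum_eq hu']
  unfold nSum
  rw [← Set.ncard_coe_finset, ← Set.ncard_image_of_injective _ Subtype.val_injective]
  congr 1
  ext w
  rw [Finset.coe_filter, Set.mem_ofPred_eq, Set.mem_image, mem_MinF, mem_MinF]
  constructor
  · rintro ⟨v, ⟨h1, h2⟩, rfl⟩
    exact ⟨⟨v.2, h1⟩, (u - v).2, h2⟩
  · rintro ⟨⟨hw, h1⟩, _, h2⟩
    exact ⟨⟨w, hw⟩, ⟨h1, h2⟩, rfl⟩

end Cfsg.Agent.Lib.H27
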