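import Mathlib
import Cfsg.Prelude.Def_Sporadic_a
import Cfsg.Agent.Lib.H27.LeechDesign2

/-!
helper27 library: for `u` of squared length 48 and a decomposition `u = v + (u - v)` into minimal
vectors, exactly 275 of the 552 summands `x` of `u` have `v · x = 16` (and 275 have `v · x = 8`).
-/

set_option autoImplicit false

namespace Cfsg.Agent.Lib.H27

open Cfsg Finset Cfsg.Agent.Lib.H28

/-- The summands of `u`. -/
noncomputable def summands (u : GolayPt → ℤ) : Finset (GolayPt → ℤ) :=
  MinF.filter (fun x => u - x ∈ MinF)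

theorem mem_summands {u x : GolayPt → ℤ} : x ∈ summands u ↔ x ∈ MinF ∧ u - x ∈ MinF := by
  unfold summands
  rw [Finset.mem_filter]

theorem card_summands {u : GolayPt → ℤ} (hu : u ∈ S48F) : (summands u).card = 552 :=
  nSum_eq hu

theorem dotInt_sub_right (x y z : GolayPt → ℤ) : dotInt x (y - z) = dotInt x y - dotInt x z := by
  unfold dotInt
  rw [← Finset.sum_sub_distrib]
  apply Finset.sum_congr rfl
  intro i _
  rw [Pi.sub_apply]
  ring

theorem dotInt_self (x : GolayPt → ℤ) : dotInt x x = sqNorm x := by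
  unfold dotInt sqNorm
  apply Finset.sum_congr rfl
  intro i _
  ring

theorem summand_sub {u x : GolayPt → ℤ} (hx : x ∈ summands u) : u - x ∈ summands u := by
  rw [mem_summands] at hx ⊢
  refine ⟨hx.2, ?_⟩
  rw [sub_sub_cancel]
  exact hx.1

theorem dot_summand {u x : GolayPt → ℤ} (hu : u ∈ S48F) (hx : x ∈ summands u) :
    dotInt u x = 24 := by
  rw [mem_summands, mem_MinF, mem_MinF] at hx
  rw [mem_S48F] at hu
  have h := sqNorm_sub' u x
  rw [hu.2, hx.1.2, hx.2.2] at h
  omega

theorem dot_summand_cases {u v x : GolayPt → ℤ} (hu : u ∈ S48F) (hv : v ∈ summands u)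
    (hx : x ∈ summands u) :
    dotInt v x = 32 ∨ dotInt v x = 16 ∨ dotInt v x = 8 ∨ dotInt v x = -8 := by
  have h1 := dot_cases (mem_summands.1 hv).1 (mem_summands.1 hx).1
  have h2 := dot_cases (mem_summands.1 hv).1 (mem_summands.1 hx).2
  rw [dotInt_sub_right, dotInt_comm v u, dot_summand hu hv] at h2
  simp only [Finset.mem_insert, Finset.mem_singleton] at h1 h2
  omega

theorem eq_of_dot_32 {v x : GolayPt → ℤ} (hv : v ∈ MinF) (hx : x ∈ MinF) (h : dotInt v x = 32) :
    x = v := by
  have h1 := sqNorm_sub' v x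
  rw [(mem_MinF.1 hv).2, (mem_MinF.1 hx).2, h] at h1
  have := sqNorm_eq_zero (x := v - x) (by omega)
  rw [sub_eq_zero] at this
  exact this.symm

/-- The summands with `v · x = t`. -/
noncomputable def summandsAt (u v : GolayPt → ℤ) (t : ℤ) : Finset (GolayPt → ℤ) :=
  (summands u).filter (fun x => dotInt v x = t)

theorem card_summandsAt_16 {u v : GolayPt → ℤ} (hu : u ∈ S48F) (hv : v ∈ summands u) :
    (summandsAt u v 16).card = 275 := by
  have hvM := (mem_summands.1 hv).1
  have hvn : dotInt v v = 32 := by rw [dotInt_self]; exact (mem_MinF.1 hvM).2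
  have huv : dotInt v u = 24 := by rw [dotInt_comm]; exact dot_summand hu hv
  have hcard := Finset.card_eq_sum_card_fiberwise (f := fun x => dotInt v x) (s := summands u)
    (t := ({32, 16, 8, -8} : Finset ℤ)) (fun x hx => by
      have := dot_summand_cases hu hv hx
      simp only [Finset.coe_insert, Finset.coe_singleton, Set.mem_insert_iff,
        Set.mem_singleton_iff]
      exact this)
  rw [card_summands hu] at hcard
  have e : ∀ t : ℤ, ((summands u).filter (fun x => dotInt v x = t)).card
      = (summandsAt u v t).card := fun t => rfl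
  simp only [e] at hcard
  rw [Finset.sum_insert (by decide), Finset.sum_insert (by decide), Finset.sum_insert (by decide),
    Finset.sum_singleton] at hcard
  have h32 : (summandsAt u v 32).card = 1 := by
    rw [Finset.card_eq_one]
    refine ⟨v, ?_⟩
    ext x
    unfold summandsAt
    rw [Finset.mem_filter, Finset.mem_singleton]
    constructor
    · rintro ⟨hx, hd⟩
      exact eq_of_dot_32 hvM (mem_summands.1 hx).1 hd
    · rintro rfl
      exact ⟨hv, hvn⟩
  have hm8 : (summandsAt u v (-8)).card = 1 := by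
    rw [Finset.card_eq_one]
    refine ⟨u - v, ?_⟩
    ext x
    unfold summandsAt
    rw [Finset.mem_filter, Finset.mem_singleton]
    constructor
    · rintro ⟨hx, hd⟩
      have h1 : dotInt v (u - x) = 32 := by rw [dotInt_sub_right, huv, hd]; norm_num
      have := eq_of_dot_32 hvM (mem_summands.1 hx).2 h1
      rw [← this]; abel
    · rintro rfl
      refine ⟨summand_sub hv, ?_⟩
      rw [dotInt_sub_right, huv, hvn]; norm_num
  have h8 : (summandsAt u v 8).card = (summandsAt u v 16).card := by
    apply Finset.card_nbij' (fun x => u - x) (fun x => u - x)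
    · intro x hx
      unfold summandsAt at hx ⊢
      rw [Finset.coe_filter, Set.mem_ofPred_eq] at hx ⊢
      refine ⟨summand_sub hx.1, ?_⟩
      rw [dotInt_sub_right, huv, hx.2]; norm_num
    · intro x hx
      unfold summandsAt at hx ⊢
      rw [Finset.coe_filter, Set.mem_ofPred_eq] at hx ⊢
      refine ⟨summand_sub hx.1, ?_⟩
      rw [dotInt_sub_right, huv, hx.2]; norm_num
    · intro x _
      exact sub_sub_cancel u x
    · intro x _
      exact sub_sub_cancel u x
  omega

/-- The count as a set of lattice vectors. -/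
theorem ncard_mcl (u v : leechLattice) (hu : sqNorm (u : GolayPt → ℤ) = 48)
    (hv : sqNorm (v : GolayPt → ℤ) = 32 ∧ sqNorm ((u - v : leechLattice) : GolayPt → ℤ) = 32) :
    {x : leechLattice | sqNorm (x : GolayPt → ℤ) = 32 ∧
      sqNorm ((u - x : leechLattice) : GolayPt → ℤ) = 32 ∧
      dotInt (v : GolayPt → ℤ) (x : GolayPt → ℤ) = 16}.ncard = 275 := by
  have hu' : (u : GolayPt → ℤ) ∈ S48F := mem_S48F.2 ⟨u.2, hu⟩
  have hv' : (v : GolayPt → ℤ) ∈ summands (u : GolayPt → ℤ) :=
    mem_summands.2 ⟨mem_MinF.2 ⟨v.2, hv.1⟩, mem_MinF.2 ⟨(u - v).2, hv.2⟩⟩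
  rw [← card_summandsAt_16 hu' hv', ← Set.ncard_coe_finset,
    ← Set.ncard_image_of_injective _ Subtype.val_injective]
  congr 1
  ext w
  unfold summandsAt
  rw [Finset.coe_filter, Set.mem_ofPred_eq, Set.mem_image, mem_summands, mem_MinF, mem_MinF]
  constructor
  · rintro ⟨x, ⟨h1, h2, h3⟩, rfl⟩
    exact ⟨⟨⟨x.2, h1⟩, (u - x).2, h2⟩, h3⟩
  · rintro ⟨⟨⟨hw, h1⟩, _, h2⟩, h3⟩
    exact ⟨⟨w, hw⟩, ⟨h1, h2, h3⟩, rfl⟩

end Cfsg.Agent.Lib.H27
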