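/-
helper27 library: a set of minimal vectors is partitioned by the inner product with a base
point; glue for the simplicity criterion.
-/
import Mathlib
import Cfsg.Prelude.Def_Sporadic_a
import Cfsg.Agent.Lib.H27.Co0Pairs
import Cfsg.Agent.Lib.H27.McLCount
import Cfsg.Agent.Lib.H27.LeechCross

set_option autoImplicit false

namespace Cfsg.Agent.Lib.H27

open Cfsg

/-- The members of `S` with inner product `t` with `x`. -/
def dotSub (S : Set leechLattice) (x : leechLattice) (t : ℤ) : Set leechLattice :=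
  {y : leechLattice | y ∈ S ∧ dotInt (x : GolayPt → ℤ) (y : GolayPt → ℤ) = t}

theorem dotSub_32 (S : Set leechLattice) (x : leechLattice) (hx : x ∈ S)
    (hS : ∀ y ∈ S, sqNorm (y : GolayPt → ℤ) = 32) : dotSub S x 32 = {x} := by
  ext y
  rw [Set.mem_singleton_iff]
  constructor
  · rintro ⟨hy, hd⟩
    have h2 := sqNorm_sub' (x : GolayPt → ℤ) (y : GolayPt → ℤ)
    rw [hS x hx, hS y hy, hd] at h2
    have h3 := sqNorm_eq_zero (x := (x : GolayPt → ℤ) - (y : GolayPt → ℤ)) (by omega)
    rw [sub_eq_zero] at h3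
    exact (Subtype.ext h3).symm
  · rintro rfl
    exact ⟨hx, by rw [dotInt_self, hS y hx]⟩

theorem dotSub_cover (S : Set leechLattice) (x : leechLattice) {ι : Type*} (ts : ι → ℤ)
    (h : ∀ y ∈ S, ∃ i, dotInt (x : GolayPt → ℤ) (y : GolayPt → ℤ) = ts i) :
    S = ⋃ i, dotSub S x (ts i) := by
  ext y
  rw [Set.mem_iUnion]
  constructor
  · intro hy
    obtain ⟨i, hi⟩ := h y hy
    exact ⟨i, hy, hi⟩
  · rintro ⟨i, hi⟩
    exact hi.1

theorem dotSub_disj (S : Set leechLattice) (x : leechLattice) {ι : Type*} (ts : ι → ℤ)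
    (hts : Function.Injective ts) :
    ∀ i j, i ≠ j → Disjoint (dotSub S x (ts i)) (dotSub S x (ts j)) := by
  intro i j hij
  rw [Set.disjoint_left]
  intro y hi hj
  exact hij (hts (hi.2.symm.trans hj.2))

end Cfsg.Agent.Lib.H27
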