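import Cfsg.Agent.Lib.H27.HSData
import Cfsg.Agent.Lib.H27.Co0Word

set_option autoImplicit false
set_option maxRecDepth 1000000

namespace Cfsg.Agent.Lib.H27.HSInvData

open Cfsg.Agent.Lib.H27.Eng

/-- A word for a fixed-point-free involution of the Higman-Sims group. -/
def wInv : List Gen :=
  [Gen.mono [2, 0, 15, 14, 7, 17, 11, 18, 23, 5, 22, 9, 1, 21, 13, 4, 12, 16, 10, 19, 3, 6, 8, 20] [1, 12, 0, 20, 15, 9, 21, 4, 22, 11, 18, 6, 16, 14, 3, 2, 17, 5, 7, 19, 23, 13, 10, 8] 15905848, Gen.xi, Gen.mono [2, 22, 0, 3, 13, 21, 6, 14, 10, 9, 8, 11, 12, 4, 7, 18, 23, 17, 15, 19, 20, 5, 1, 16] [2, 22, 0, 3, 13, 21, 6, 14, 10, 9, 8, 11, 12, 4, 7, 18, 23, 17, 15, 19, 20, 5, 1, 16] 5677655, Gen.xi, Gen.mono [1, 12, 0, 20, 15, 9, 21, 4, 22, 11, 18, 6, 16, 14, 3, 2, 17, 5, 7, 19, 23, 13, 10, 8] [2, 0, 15, 14, 7, 17, 11, 18, 23, 5, 22, 9, 1, 21, 13, 4, 12, 16, 10, 19, 3, 6, 8, 20] 9824036]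

/-- The vectors differ in some coordinate. -/
def differs (a b : V) : Bool := (List.range 24).any (fun k => decide (nth a k ≠ nth b k))

theorem wInv_ok : sgOK [wInv] = true := by decide +kernel
theorem wInv_fix : fixOK [wInv] [Co3Data.u0, HSData.w0] = true := by decide +kernel
theorem wInv_sq : wordIsOne (wInv ++ wInv) = true := by decide +kernel
theorem wInv_fpf : (forestList HSData.sgH HSData.bchunks).all (fun y => differs (actWord wInv y) y) = true := by
  decide +kernel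

end Cfsg.Agent.Lib.H27.HSInvData
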