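import Mathlib
import Cfsg.Prelude.Def_Sporadic_a
import Cfsg.Agent.Lib.H27.LeechDesign2

/-!
helper27 library: the minimal vectors of the Leech lattice form a 4-design:
`∑ w, (v · w) ^ 4 = 967680 * (v · v) ^ 2`.
-/

set_option autoImplicit false

namespace Cfsg.Agent.Lib.H27

open Cfsg Finset Cfsg.Agent.Lib.H28

/-- Fourth moments of the minimal vectors. -/
noncomputable def M4 (i j k l : GolayPt) : ℤ := ∑ w ∈ MinF, w i * w j * w k * w l

/-- The sign of a point with respect to a code word. -/
noncomputable def sgnC (c : GolayPt → ZMod 2) (p : GolayPt) : ℤ := if p ∈ support₂ c then -1 else 1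

theorem signChange_eq_sgnC (c : GolayPt → ZMod 2) (w : GolayPt → ℤ) (p : GolayPt) :
    signChange (support₂ c) w p = sgnC c p * w p := by
  unfold signChange sgnC
  by_cases h : p ∈ support₂ c
  · rw [if_pos h, if_pos h]; ring
  · rw [if_neg h, if_neg h]; ring

theorem M4_flip {c : GolayPt → ZMod 2} (hc : c ∈ golayCode) (i j k l : GolayPt) :
    M4 i j k l = sgnC c i * sgnC c j * sgnC c k * sgnC c l * M4 i j k l := by
  have h1 : M4 i j k l = ∑ w ∈ MinF, signChange (support₂ c) w i * signChange (support₂ c) w j *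
      signChange (support₂ c) w k * signChange (support₂ c) w l := by
    unfold M4
    symm
    apply Finset.sum_nbij' (fun w => signChange (support₂ c) w) (fun w => signChange (support₂ c) w)
    · intro w hw; exact signChange_mem_MinF hc hw
    · intro w hw; exact signChange_mem_MinF hc hw
    · intro w _; exact signChange_signChange _ w
    · intro w _; exact signChange_signChange _ w
    · intro w _; rfl
  conv_lhs => rw [h1]
  unfold M4
  rw [Finset.mul_sum]
  apply Finset.sum_congr rfl
  intro w _
  rw [signChange_eq_sgnC, signChange_eq_sgnC, signChange_eq_sgnC, signChange_eq_sgnC]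
  ring

/-- If some point occurs an odd number of times among `i, j, k, l`, the moment vanishes. -/
theorem M4_vanish (i j k l p : GolayPt) (hp : p = i ∨ p = j ∨ p = k ∨ p = l)
    (h : (if i = p then (-1 : ℤ) else 1) * (if j = p then -1 else 1) * (if k = p then -1 else 1) *
      (if l = p then -1 else 1) = -1) : M4 i j k l = 0 := by
  classical
  have hS : ({p} : Finset GolayPt) ⊆ {i, j, k, l} := by
    intro q hq
    rw [Finset.mem_singleton] at hq
    subst hq
    simp only [Finset.mem_insert, Finset.mem_singleton]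
    exact hp
  have hT : ({i, j, k, l} : Finset GolayPt).card < 8 := by
    have h1 := Finset.card_insert_le i ({j, k, l} : Finset GolayPt)
    have h2 := Finset.card_insert_le j ({k, l} : Finset GolayPt)
    have h3 := Finset.card_insert_le k ({l} : Finset GolayPt)
    have h4 := Finset.card_singleton l
    omega
  obtain ⟨c, hc, hcT⟩ := exists_code_trace {i, j, k, l} {p} hS hT
  have key : ∀ q : GolayPt, q ∈ ({i, j, k, l} : Finset GolayPt) →
      sgnC c q = if q = p then -1 else 1 := by
    intro q hq
    unfold sgnC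
    have : q ∈ support₂ c ↔ q = p := by
      constructor
      · intro hqc
        have : q ∈ support₂ c ∩ {i, j, k, l} := Finset.mem_inter.2 ⟨hqc, hq⟩
        rw [hcT, Finset.mem_singleton] at this
        exact this
      · intro hqp
        have : q ∈ support₂ c ∩ {i, j, k, l} := by
          rw [hcT, Finset.mem_singleton]; exact hqp
        exact (Finset.mem_inter.1 this).1
    by_cases hqp : q = p
    · rw [if_pos (this.2 hqp), if_pos hqp]
    · rw [if_neg (fun h => hqp (this.1 h)), if_neg hqp]
  have hflip := M4_flip hc i j k l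
  rw [key i (by simp), key j (by simp), key k (by simp), key l (by simp), h] at hflip
  linarith

/-- Invariance of the fourth moments under `M24`. -/
theorem M4_perm {σ : Equiv.Perm GolayPt} (hσ : σ ∈ M24) (i j k l : GolayPt) :
    M4 (σ i) (σ j) (σ k) (σ l) = M4 i j k l := by
  unfold M4
  apply Finset.sum_nbij' (fun w => fun p => w (σ p)) (fun w => fun p => w (σ.symm p))
  · intro w hw
    exact comp_mem_MinF hσ hw
  · intro w hw
    exact comp_mem_MinF (M24.inv_mem hσ) hw
  · intro w _
    funext p
    simp
  · intro w _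
    funext p
    simp
  · intro w _
    rfl

/-- The diagonal fourth moment. -/
noncomputable def momA : ℤ := M4 (gPt 0) (gPt 0) (gPt 0) (gPt 0)

/-- The mixed fourth moment. -/
noncomputable def momB : ℤ := M4 (gPt 0) (gPt 0) (gPt 1) (gPt 1)

theorem M4_diag (i : GolayPt) : M4 i i i i = momA := by
  obtain ⟨σ, hσ, hmap⟩ := exists_M24_map (n := 1) (by norm_num) ![gPt 0] ![i]
    (fun a b _ => Subsingleton.elim a b) (fun a b _ => Subsingleton.elim a b)
  have h0 : σ (gPt 0) = i := hmap 0
  unfold momA
  rw [← h0, M4_perm hσ]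

theorem M4_mixed (i j : GolayPt) (hij : i ≠ j) : M4 i i j j = momB := by
  have h01 : gPt 0 ≠ gPt 1 := by decide
  obtain ⟨σ, hσ, hmap⟩ := exists_M24_map (n := 2) (by norm_num) ![gPt 0, gPt 1] ![i, j]
    (by
      intro a b hab
      fin_cases a <;> fin_cases b <;> simp_all)
    (by
      intro a b hab
      fin_cases a <;> fin_cases b <;> simp_all)
  have h0 : σ (gPt 0) = i := hmap 0
  have h1 : σ (gPt 1) = j := hmap 1
  unfold momB
  rw [← h0, ← h1, M4_perm hσ]

theorem M4_comm23 (i j k l : GolayPt) : M4 i j k l = M4 i k j l := by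
  unfold M4
  apply Finset.sum_congr rfl
  intro w _
  ring

theorem M4_comm34 (i j k l : GolayPt) : M4 i j k l = M4 i j l k := by
  unfold M4
  apply Finset.sum_congr rfl
  intro w _
  ring

/-- The Kronecker symbol. -/
def kd (a b : GolayPt) : ℤ := if a = b then 1 else 0

/-- All fourth moments. -/
theorem M4_formula (i j k l : GolayPt) :
    M4 i j k l = momB * (kd i j * kd k l + kd i k * kd j l + kd i l * kd j k)
      + (momA - 3 * momB) * (kd i j * kd j k * kd k l) := by
  unfold kd
  by_cases hij : i = j
  · subst hij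
    by_cases hkl : k = l
    · subst hkl
      by_cases hik : i = k
      · subst hik
        simp only [if_true]
        rw [M4_diag]; ring
      · rw [M4_mixed i k hik]
        simp only [if_true, if_neg hik, if_neg (fun h : k = i => hik h.symm)]
        ring
    · -- pattern (i, i, k, l) with k ≠ l
      by_cases hki : k = i
      · subst hki
        have hlk : l ≠ k := fun h => hkl h.symm
        rw [M4_vanish k k k l l (by simp) (by simp [hkl])]
        simp [hkl, hlk]
      · have hik : i ≠ k := fun h => hki h.symm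
        rw [M4_vanish i i k l k (by simp) (by
          simp only [if_neg hik, if_true, if_neg (fun h : l = k => hkl h.symm)]; norm_num)]
        simp [hkl, hik, hki]
  · by_cases hik : i = k
    · subst hik
      by_cases hjl : j = l
      · subst hjl
        rw [M4_comm23, M4_mixed i j hij]
        simp only [if_neg hij, if_true, if_neg (fun h : j = i => hij h.symm)]
        ring
      · have hji : j ≠ i := fun h => hij h.symm
        rw [M4_vanish i j i l j (by simp) (by
          simp only [if_neg hij, if_true, if_neg (fun h : l = j => hjl h.symm)]; norm_num)]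
        simp [hij, hjl, hji]
    · by_cases hil : i = l
      · subst hil
        by_cases hjk : j = k
        · subst hjk
          rw [M4_comm34, M4_comm23, M4_mixed i j hij]
          simp only [if_neg hij, if_true, if_neg (fun h : j = i => hij h.symm)]
          ring
        · have hji : j ≠ i := fun h => hij h.symm
          rw [M4_vanish i j k i j (by simp) (by
            simp only [if_neg hij, if_true, if_neg (fun h : k = j => hjk h.symm)]; norm_num)]
          simp [hij, hik, hjk]
      · have hji : j ≠ i := fun h => hij h.symm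
        have hki : k ≠ i := fun h => hik h.symm
        have hli : l ≠ i := fun h => hil h.symm
        rw [M4_vanish i j k l i (by simp) (by
          simp only [if_true, if_neg hji, if_neg hki, if_neg hli]; norm_num)]
        simp [hij, hik, hil]

/-! ### Contractions with Kronecker symbols -/

theorem kd_sum_r (k : GolayPt) (g : GolayPt → ℤ) : ∑ l, g l * kd k l = g k := by
  unfold kd
  simp only [mul_ite, mul_one, mul_zero]
  rw [Finset.sum_ite_eq Finset.univ k g]
  simp

theorem kd_sum_l (k : GolayPt) (g : GolayPt → ℤ) : ∑ l, g l * kd l k = g k := by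
  unfold kd
  simp only [mul_ite, mul_one, mul_zero]
  rw [Finset.sum_ite_eq' Finset.univ k g]
  simp

theorem contract1 (F : GolayPt → GolayPt → GolayPt → GolayPt → ℤ) :
    ∑ i, ∑ j, ∑ k, ∑ l, F i j k l * (kd i j * kd k l) = ∑ i, ∑ k, F i i k k := by
  apply Finset.sum_congr rfl
  intro i _
  have h1 : ∀ j k, ∑ l, F i j k l * (kd i j * kd k l) = F i j k k * kd i j := by
    intro j k
    have : ∀ l, F i j k l * (kd i j * kd k l) = (fun l => F i j k l * kd i j) l * kd k l := by
      intro l; ring
    rw [Finset.sum_congr rfl (fun l _ => this l), kd_sum_r]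
  have h2 : ∀ j, ∑ k, ∑ l, F i j k l * (kd i j * kd k l)
      = (fun j => ∑ k, F i j k k) j * kd i j := by
    intro j
    rw [Finset.sum_congr rfl (fun k _ => h1 j k), Finset.sum_mul]
  rw [Finset.sum_congr rfl (fun j _ => h2 j), kd_sum_r]

theorem contract2 (F : GolayPt → GolayPt → GolayPt → GolayPt → ℤ) :
    ∑ i, ∑ j, ∑ k, ∑ l, F i j k l * (kd i k * kd j l) = ∑ i, ∑ j, F i j i j := by
  apply Finset.sum_congr rfl
  intro i _
  apply Finset.sum_congr rfl
  intro j _
  have h1 : ∀ k, ∑ l, F i j k l * (kd i k * kd j l) = (fun k => F i j k j) k * kd i k := by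
    intro k
    have : ∀ l, F i j k l * (kd i k * kd j l) = (fun l => F i j k l * kd i k) l * kd j l := by
      intro l; ring
    rw [Finset.sum_congr rfl (fun l _ => this l), kd_sum_r]
  rw [Finset.sum_congr rfl (fun k _ => h1 k), kd_sum_r]

theorem contract3 (F : GolayPt → GolayPt → GolayPt → GolayPt → ℤ) :
    ∑ i, ∑ j, ∑ k, ∑ l, F i j k l * (kd i l * kd j k) = ∑ i, ∑ j, F i j j i := by
  apply Finset.sum_congr rfl
  intro i _
  apply Finset.sum_congr rfl
  intro j _
  have h1 : ∀ k, ∑ l, F i j k l * (kd i l * kd j k) = (fun k => F i j k i) k * kd j k := by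
    intro k
    have : ∀ l, F i j k l * (kd i l * kd j k) = (fun l => F i j k l * kd j k) l * kd i l := by
      intro l; ring
    rw [Finset.sum_congr rfl (fun l _ => this l), kd_sum_r]
  rw [Finset.sum_congr rfl (fun k _ => h1 k), kd_sum_r]

theorem contract4 (F : GolayPt → GolayPt → GolayPt → GolayPt → ℤ) :
    ∑ i, ∑ j, ∑ k, ∑ l, F i j k l * (kd i j * kd j k * kd k l) = ∑ i, F i i i i := by
  apply Finset.sum_congr rfl
  intro i _
  have h1 : ∀ j k, ∑ l, F i j k l * (kd i j * kd j k * kd k l) = F i j k k * (kd i j * kd j k) := by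
    intro j k
    have : ∀ l, F i j k l * (kd i j * kd j k * kd k l)
        = (fun l => F i j k l * (kd i j * kd j k)) l * kd k l := by
      intro l; ring
    rw [Finset.sum_congr rfl (fun l _ => this l), kd_sum_r]
  have h2 : ∀ j, ∑ k, ∑ l, F i j k l * (kd i j * kd j k * kd k l)
      = (fun j => F i j j j) j * kd i j := by
    intro j
    rw [Finset.sum_congr rfl (fun k _ => h1 j k)]
    have : ∀ k, F i j k k * (kd i j * kd j k) = (fun k => F i j k k * kd i j) k * kd j k := by
      intro k; ring
    rw [Finset.sum_congr rfl (fun k _ => this k), kd_sum_r]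
  rw [Finset.sum_congr rfl (fun j _ => h2 j), kd_sum_r]

/-! ### The fourth power of a sum -/

theorem sum_pow_four (a : GolayPt → ℤ) :
    (∑ i, a i) ^ 4 = ∑ i, ∑ j, ∑ k, ∑ l, a i * a j * a k * a l := by
  have e2 : (∑ i, a i) ^ 2 = ∑ i, ∑ j, a i * a j := by rw [sq, Finset.sum_mul_sum]
  have e4 : (∑ i, a i) ^ 4 = (∑ i, a i) ^ 2 * (∑ i, a i) ^ 2 := by ring
  rw [e4, e2, Finset.sum_mul_sum]
  apply Finset.sum_congr rfl
  intro i _
  have h : ∀ k, (∑ j, a i * a j) * (∑ l, a k * a l) = ∑ j, ∑ l, a i * a j * a k * a l := by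
    intro k
    rw [Finset.sum_mul_sum]
    apply Finset.sum_congr rfl
    intro j _
    apply Finset.sum_congr rfl
    intro l _
    ring
  rw [Finset.sum_congr rfl (fun k _ => h k), Finset.sum_comm]

theorem sum_comm4 (f : (GolayPt → ℤ) → GolayPt → GolayPt → GolayPt → GolayPt → ℤ) :
    ∑ w ∈ MinF, ∑ i, ∑ j, ∑ k, ∑ l, f w i j k l = ∑ i, ∑ j, ∑ k, ∑ l, ∑ w ∈ MinF, f w i j k l := by
  rw [Finset.sum_comm]
  apply Finset.sum_congr rfl
  intro i _
  rw [Finset.sum_comm]
  apply Finset.sum_congr rfl
  intro j _
  rw [Finset.sum_comm]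
  apply Finset.sum_congr rfl
  intro k _
  rw [Finset.sum_comm]

/-- The fourth moment of the minimal vectors in terms of the two basic moments. -/
theorem design4_raw (v : GolayPt → ℤ) :
    ∑ w ∈ MinF, dotInt v w ^ 4
      = 3 * momB * sqNorm v ^ 2 + (momA - 3 * momB) * ∑ i, v i ^ 4 := by
  have h1 : ∀ w : GolayPt → ℤ, dotInt v w ^ 4
      = ∑ i, ∑ j, ∑ k, ∑ l, (v i * v j * v k * v l) * (w i * w j * w k * w l) := by
    intro w
    unfold dotInt
    rw [sum_pow_four]
    apply Finset.sum_congr rfl; intro i _
    apply Finset.sum_congr rfl; intro j _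
    apply Finset.sum_congr rfl; intro k _
    apply Finset.sum_congr rfl; intro l _
    ring
  rw [Finset.sum_congr rfl (fun w _ => h1 w), sum_comm4]
  have h2 : ∀ i j k l, ∑ w ∈ MinF, (v i * v j * v k * v l) * (w i * w j * w k * w l)
      = (v i * v j * v k * v l) * (kd i j * kd k l) * momB
        + (v i * v j * v k * v l) * (kd i k * kd j l) * momB
        + (v i * v j * v k * v l) * (kd i l * kd j k) * momB
        + (v i * v j * v k * v l) * (kd i j * kd j k * kd k l) * (momA - 3 * momB) := by
    intro i j k l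
    rw [← Finset.mul_sum]
    have : ∑ w ∈ MinF, w i * w j * w k * w l = M4 i j k l := rfl
    rw [this, M4_formula]
    ring
  have h3 : ∑ i, ∑ j, ∑ k, ∑ l, ∑ w ∈ MinF, (v i * v j * v k * v l) * (w i * w j * w k * w l)
      = (∑ i, ∑ j, ∑ k, ∑ l, (v i * v j * v k * v l) * (kd i j * kd k l)) * momB
        + (∑ i, ∑ j, ∑ k, ∑ l, (v i * v j * v k * v l) * (kd i k * kd j l)) * momB
        + (∑ i, ∑ j, ∑ k, ∑ l, (v i * v j * v k * v l) * (kd i l * kd j k)) * momB
        + (∑ i, ∑ j, ∑ k, ∑ l, (v i * v j * v k * v l) * (kd i j * kd j k * kd k l))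
          * (momA - 3 * momB) := by
    simp only [h2, Finset.sum_add_distrib, Finset.sum_mul]
  rw [h3, contract1 (fun i j k l => v i * v j * v k * v l),
    contract2 (fun i j k l => v i * v j * v k * v l),
    contract3 (fun i j k l => v i * v j * v k * v l),
    contract4 (fun i j k l => v i * v j * v k * v l)]
  have hS : ∀ (F : GolayPt → GolayPt → ℤ), (∀ i k, F i k = v i ^ 2 * v k ^ 2) →
      ∑ i, ∑ k, F i k = sqNorm v ^ 2 := by
    intro F hF
    unfold sqNorm
    rw [sq, Finset.sum_mul_sum]
    apply Finset.sum_congr rfl; intro i _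
    apply Finset.sum_congr rfl; intro k _
    exact hF i k
  rw [hS _ (fun i k => by ring), hS _ (fun i k => by ring), hS _ (fun i k => by ring)]
  have h4 : ∑ i, v i * v i * v i * v i = ∑ i, v i ^ 4 := by
    apply Finset.sum_congr rfl; intro i _; ring
  rw [h4]
  ring

/-! ### The values of the two basic moments -/

theorem sum_pow4_min {v : GolayPt → ℤ} (hv : v ∈ MinF) :
    ∑ w ∈ MinF, dotInt v w ^ 4 = 990904320 := by
  rw [← Finset.sum_fiberwise_of_maps_to (t := ({32, 16, 8, 0, -8, -16, -32} : Finset ℤ))
    (g := fun w => dotInt v w) (fun w hw => dot_cases hv hw)]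
  have e : ∀ t : ℤ, ∑ w ∈ MinF with dotInt v w = t, dotInt v w ^ 4 = t ^ 4 * nT v t := by
    intro t
    have : ∀ w ∈ MinF.filter (fun w => dotInt v w = t), dotInt v w ^ 4 = t ^ 4 := by
      intro w hw
      rw [(Finset.mem_filter.1 hw).2]
    rw [Finset.sum_congr rfl this, Finset.sum_const]
    unfold nT
    simp only [nsmul_eq_mul]
    ring
  simp only [e]
  rw [Finset.sum_insert (by decide), Finset.sum_insert (by decide), Finset.sum_insert (by decide),
    Finset.sum_insert (by decide), Finset.sum_insert (by decide), Finset.sum_insert (by decide),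
    Finset.sum_singleton, nT_neg, nT_neg, nT_neg, nT_32 hv, nT_16 hv, nT_8 hv]
  norm_num

theorem trace4 : ∑ i, ∑ j, M4 i i j j = 201277440 := by
  have h1 : ∑ i, ∑ j, M4 i i j j = ∑ w ∈ MinF, sqNorm w ^ 2 := by
    unfold M4
    have : ∀ i, ∑ j, ∑ w ∈ MinF, w i * w i * w j * w j = ∑ w ∈ MinF, ∑ j, w i * w i * w j * w j :=
      fun i => Finset.sum_comm
    rw [Finset.sum_congr rfl (fun i _ => this i), Finset.sum_comm]
    apply Finset.sum_congr rfl
    intro w _
    unfold sqNorm
    rw [sq, Finset.sum_mul_sum]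
    apply Finset.sum_congr rfl; intro i _
    apply Finset.sum_congr rfl; intro j _
    ring
  rw [h1]
  have : ∀ w ∈ MinF, sqNorm w ^ 2 = 1024 := by
    intro w hw
    rw [(mem_MinF.1 hw).2]; norm_num
  rw [Finset.sum_congr rfl this, Finset.sum_const, card_MinF]
  norm_num

theorem trace4' : ∑ i, ∑ j, M4 i i j j = 24 * momA + 552 * momB := by
  have h : ∀ i j, M4 i i j j = momB + (momA - momB) * kd j i := by
    intro i j
    unfold kd
    by_cases hij : i = j
    · subst hij
      rw [M4_diag, if_pos rfl]; ring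
    · rw [M4_mixed i j hij, if_neg (fun h => hij h.symm)]; ring
  have h2 : ∀ i, ∑ j, M4 i i j j = 24 * momB + (momA - momB) := by
    intro i
    rw [Finset.sum_congr rfl (fun j _ => h i j), Finset.sum_add_distrib, Finset.sum_const,
      Finset.card_univ]
    have : ∑ j, (momA - momB) * kd j i = (fun _ => momA - momB) i := kd_sum_l i (fun _ => momA - momB)
    rw [this]
    have hc : Fintype.card GolayPt = 24 := by decide
    rw [hc]
    simp
  rw [Finset.sum_congr rfl (fun i _ => h2 i), Finset.sum_const, Finset.card_univ]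
  have hc : Fintype.card GolayPt = 24 := by decide
  rw [hc]
  simp only [nsmul_eq_mul, Nat.cast_ofNat]
  ring

theorem sum_pow4_v0 : ∑ i, (v0 : GolayPt → ℤ) i ^ 4 = 512 := by
  have h01 : gPt 0 ≠ gPt 1 := by decide
  have h : ∀ k, (v0 : GolayPt → ℤ) k ^ 4
      = (fun _ => (256 : ℤ)) k * kd k (gPt 0) + (fun _ => (256 : ℤ)) k * kd k (gPt 1) := by
    intro k
    rw [v0_apply]
    unfold kd
    by_cases h0 : k = gPt 0
    · have h1 : k ≠ gPt 1 := by rw [h0]; exact h01
      rw [if_pos h0, if_pos h0, if_neg h1]; norm_num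
    · by_cases h1 : k = gPt 1
      · rw [if_neg h0, if_pos h1, if_neg h0, if_pos h1]; norm_num
      · rw [if_neg h0, if_neg h1, if_neg h0, if_neg h1]; norm_num
  rw [Finset.sum_congr rfl (fun k _ => h k), Finset.sum_add_distrib, kd_sum_l, kd_sum_l]
  norm_num

theorem momAB : momA = 967680 ∧ momB = 322560 := by
  have h1 := design4_raw (v0 : GolayPt → ℤ)
  have hv0 : (v0 : GolayPt → ℤ) ∈ MinF := mem_MinF.2 ⟨v0.2, sqNorm_v0⟩
  rw [sum_pow4_min hv0, sqNorm_v0, sum_pow4_v0] at h1
  have h2 := trace4
  rw [trace4'] at h2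
  constructor <;> linarith

/-- The minimal vectors form a 4-design. -/
theorem design4 (v : GolayPt → ℤ) :
    ∑ w ∈ MinF, dotInt v w ^ 4 = 967680 * sqNorm v ^ 2 := by
  rw [design4_raw, momAB.1, momAB.2]
  ring

end Cfsg.Agent.Lib.H27
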