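import Mathlib
import Cfsg.Prelude.Def_Sporadic_a
import Cfsg.Agent.Lib.H27.LeechDesign4

/-!
helper27 library: the census of the minimal vectors of the Leech lattice by their inner product with
a vector of squared length 48: 552, 11178, 48600, 75900, 48600, 11178, 552 for the inner products
24, 16, 8, 0, -8, -16, -24.
-/

set_option autoImplicit false

namespace Cfsg.Agent.Lib.H27

open Cfsg Finset Cfsg.Agent.Lib.H28

/-- The possible dot products of a vector of squared length 48 and a minimal vector. -/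
theorem dot_cases48 {u w : GolayPt → ℤ} (hu : u ∈ S48F) (hw : w ∈ MinF) :
    dotInt u w ∈ ({24, 16, 8, 0, -8, -16, -24} : Finset ℤ) := by
  rw [mem_S48F] at hu
  rw [mem_MinF] at hw
  have h1 := sqNorm_sub' u w
  have h2 := sqNorm_add' u w
  rw [hu.2, hw.2] at h1 h2
  have hm1 : u - w ∈ leechLattice := leechLattice.sub_mem hu.1 hw.1
  have hm2 : u + w ∈ leechLattice := leechLattice.add_mem hu.1 hw.1
  have hne1 : u - w ≠ 0 := by
    intro h
    rw [sub_eq_zero] at h
    have := hu.2
    rw [h, hw.2] at this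
    omega
  have hne2 : u + w ≠ 0 := by
    intro h
    have e : u = -w := eq_neg_of_add_eq_zero_left h
    have := hu.2
    rw [e, sqNorm_neg, hw.2] at this
    omega
  have a1 := leech_min_norm golay_doubly_even golay_min_weight hm1 hne1
  have a2 := leech_min_norm golay_doubly_even golay_min_weight hm2 hne2
  obtain ⟨k1, hk1⟩ := sixteen_dvd_sqNorm golay_doubly_even hm1
  simp only [Finset.mem_insert, Finset.mem_singleton]
  omega

theorem nT48_24 {u : GolayPt → ℤ} (hu : u ∈ S48F) : nT u 24 = 552 := by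
  rw [← nSum_eq hu]
  unfold nT nSum
  congr 1
  apply Finset.filter_congr
  intro w hw
  have hu' := mem_S48F.1 hu
  have hw' := mem_MinF.1 hw
  have h1 := sqNorm_sub' u w
  rw [hu'.2, hw'.2] at h1
  rw [mem_MinF]
  constructor
  · intro h
    exact ⟨leechLattice.sub_mem hu'.1 hw'.1, by omega⟩
  · rintro ⟨_, h⟩
    omega

theorem sum_nT48 {u : GolayPt → ℤ} (hu : u ∈ S48F) :
    2 * 552 + 2 * nT u 16 + 2 * nT u 8 + nT u 0 = 196560 := by
  have h := Finset.card_eq_sum_card_fiberwise (f := fun w => dotInt u w) (s := MinF)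
    (t := ({24, 16, 8, 0, -8, -16, -24} : Finset ℤ)) (fun w hw => dot_cases48 hu hw)
  rw [card_MinF] at h
  have e : ∀ t : ℤ, (MinF.filter (fun w => dotInt u w = t)).card = nT u t := fun t => rfl
  simp only [e] at h
  rw [Finset.sum_insert (by decide), Finset.sum_insert (by decide), Finset.sum_insert (by decide),
    Finset.sum_insert (by decide), Finset.sum_insert (by decide), Finset.sum_insert (by decide),
    Finset.sum_singleton, nT_neg, nT_neg, nT_neg, nT48_24 hu] at h
  omega

theorem sum_pow_nT48 {u : GolayPt → ℤ} (hu : u ∈ S48F) (n : ℕ) :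
    ∑ w ∈ MinF, dotInt u w ^ n = ∑ t ∈ ({24, 16, 8, 0, -8, -16, -24} : Finset ℤ), t ^ n * nT u t := by
  rw [← Finset.sum_fiberwise_of_maps_to (t := ({24, 16, 8, 0, -8, -16, -24} : Finset ℤ))
    (g := fun w => dotInt u w) (fun w hw => dot_cases48 hu hw)]
  apply Finset.sum_congr rfl
  intro t _
  have : ∀ w ∈ MinF.filter (fun w => dotInt u w = t), dotInt u w ^ n = t ^ n := by
    intro w hw
    rw [(Finset.mem_filter.1 hw).2]
  rw [Finset.sum_congr rfl this, Finset.sum_const]
  unfold nT
  simp only [nsmul_eq_mul]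
  ring

theorem sum_sq_nT48 {u : GolayPt → ℤ} (hu : u ∈ S48F) :
    128 * nT u 8 + 512 * nT u 16 + 1152 * 552 = 12579840 := by
  have h := design2 u
  rw [(mem_S48F.1 hu).2, sum_pow_nT48 hu 2] at h
  rw [Finset.sum_insert (by decide), Finset.sum_insert (by decide), Finset.sum_insert (by decide),
    Finset.sum_insert (by decide), Finset.sum_insert (by decide), Finset.sum_insert (by decide),
    Finset.sum_singleton, nT_neg, nT_neg, nT_neg, nT48_24 hu] at h
  have h' : (((128 * nT u 8 + 512 * nT u 16 + 1152 * 552 : ℕ)) : ℤ) = 12579840 := by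
    push_cast at h ⊢
    norm_num at h
    linarith
  exact_mod_cast h'

theorem sum_pow4_nT48 {u : GolayPt → ℤ} (hu : u ∈ S48F) :
    8192 * nT u 8 + 131072 * nT u 16 + 663552 * 552 = 2229534720 := by
  have h := design4 u
  rw [(mem_S48F.1 hu).2, sum_pow_nT48 hu 4] at h
  rw [Finset.sum_insert (by decide), Finset.sum_insert (by decide), Finset.sum_insert (by decide),
    Finset.sum_insert (by decide), Finset.sum_insert (by decide), Finset.sum_insert (by decide),
    Finset.sum_singleton, nT_neg, nT_neg, nT_neg, nT48_24 hu] at h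
  have h' : (((8192 * nT u 8 + 131072 * nT u 16 + 663552 * 552 : ℕ)) : ℤ) = 2229534720 := by
    push_cast at h ⊢
    norm_num at h
    linarith
  exact_mod_cast h'

theorem nT48_16 {u : GolayPt → ℤ} (hu : u ∈ S48F) : nT u 16 = 11178 := by
  have h2 := sum_sq_nT48 hu
  have h3 := sum_pow4_nT48 hu
  omega

theorem nT48_8 {u : GolayPt → ℤ} (hu : u ∈ S48F) : nT u 8 = 48600 := by
  have h2 := sum_sq_nT48 hu
  have h3 := sum_pow4_nT48 hu
  omega

theorem nT48_0 {u : GolayPt → ℤ} (hu : u ∈ S48F) : nT u 0 = 75900 := by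
  have h1 := sum_nT48 hu
  have h2 := nT48_16 hu
  have h3 := nT48_8 hu
  omega

/-- The census as `ncard`s of sets of lattice vectors. -/
theorem ncard_dot_sub (u : leechLattice) (t : ℤ) :
    {x : leechLattice | sqNorm (x : GolayPt → ℤ) = 32 ∧
      dotInt (u : GolayPt → ℤ) (x : GolayPt → ℤ) = t}.ncard = nT (u : GolayPt → ℤ) t := by
  rw [← ncard_dot, ← Set.ncard_image_of_injective _ Subtype.val_injective]
  congr 1
  ext w
  rw [Set.mem_ofPred_eq, Set.mem_image]
  constructor
  · rintro ⟨x, ⟨h1, h2⟩, rfl⟩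
    exact ⟨x.2, h1, h2⟩
  · rintro ⟨hw, h1, h2⟩
    exact ⟨⟨w, hw⟩, ⟨h1, h2⟩, rfl⟩

/-- A vector of squared length 48 has inner product `-16` with exactly 11178 minimal vectors. -/
theorem ncard_co3 (u : leechLattice) (hu : sqNorm (u : GolayPt → ℤ) = 48) :
    {x : leechLattice | sqNorm (x : GolayPt → ℤ) = 32 ∧
      dotInt (u : GolayPt → ℤ) (x : GolayPt → ℤ) = -16}.ncard = 11178 := by
  have hu' : (u : GolayPt → ℤ) ∈ S48F := mem_S48F.2 ⟨u.2, hu⟩
  rw [ncard_dot_sub, nT_neg, nT48_16 hu']

end Cfsg.Agent.Lib.H27
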