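import Mathlib
import Cfsg.Prelude.Def_Sporadic_a
import Cfsg.Agent.Lib.H27.Co3Data
import Cfsg.Agent.Lib.H27.LeechCensus48
import Cfsg.Agent.Lib.H27.Co0Trans48
import Cfsg.Agent.Lib.H27.McLCount

/-!
helper27 library: the stabiliser of a vector `u` of squared length 48 is transitive on the 11178
minimal vectors `x` with `u · x = -16`; consequences for pairs.
-/

set_option autoImplicit false

namespace Cfsg.Agent.Lib.H27

open Cfsg Finset Cfsg.Agent.Lib.H28 Cfsg.Agent.Lib.H27.Eng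

/-- The minimal vectors with inner product `-16` with `u`. -/
def co3Set (u : leechLattice) : Set leechLattice :=
  {x : leechLattice | sqNorm (x : GolayPt → ℤ) = 32 ∧
    dotInt (u : GolayPt → ℤ) (x : GolayPt → ℤ) = -16}

theorem smul_mem_co3Set (g : Co0) {u x : leechLattice} (hx : x ∈ co3Set u) :
    g • x ∈ co3Set (g • u) :=
  ⟨by rw [Co0_sqNorm]; exact hx.1, by rw [Co0_dot]; exact hx.2⟩

namespace Co3Data

def U0 : leechLattice := ⟨toFn u0, mem_of_inLeech u0_mem⟩
def X16 : leechLattice := ⟨toFn x16, mem_of_inLeech x16_mem⟩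

theorem sqNorm_U0 : sqNorm (U0 : GolayPt → ℤ) = 48 := by
  show sqNorm (toFn u0) = 48
  rw [← sqNorm_spec]; exact dots_ok.1

theorem X16_mem : X16 ∈ co3Set U0 := by
  constructor
  · show sqNorm (toFn x16) = 32
    rw [← sqNorm_spec]; exact dots_ok.2.1
  · show dotInt (toFn u0) (toFn x16) = -16
    rw [← dotL_spec]; exact dots_ok.2.2

theorem fixes_iff (g : Co0) : Fixes g [u0] ↔ g • U0 = U0 := by
  constructor
  · intro h
    exact h u0 (by simp) _
  · intro h1 t ht htL
    simp only [List.mem_cons, List.not_mem_nil, or_false] at ht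
    subst ht
    exact h1

theorem orbList16 : OrbList [u0] x16 (forestList sg chunks) ∧ (forestList sg chunks).length = 11178 := by
  have h := forest_orbList (ts := [u0]) sg_ok fix_ok (mem_of_inLeech x16_mem) all_ok link_ok merge_ok
  exact ⟨h.1, h.2.1⟩

/-- Transitivity on the standard set. -/
theorem trans_std : ∀ x ∈ co3Set U0, ∀ x' ∈ co3Set U0, ∃ g : Co0, g • U0 = U0 ∧ g • x = x' := by
  have h := orbList16.1.trans (co3Set U0)
    (by rw [mkL_of_mem (mem_of_inLeech x16_mem)]; exact X16_mem)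
    (by
      intro g hg x hx
      rw [fixes_iff] at hg
      have := smul_mem_co3Set g hx
      rwa [hg] at this)
    (by rw [orbList16.2]; norm_num)
    (by rw [orbList16.2]; exact ncard_co3 U0 sqNorm_U0)
  intro x hx x' hx'
  obtain ⟨g, hg, hgx⟩ := h x hx x' hx'
  rw [fixes_iff] at hg
  exact ⟨g, hg, hgx⟩

end Co3Data

/-- The stabiliser of `u` is transitive on the minimal vectors with inner product `-16` with `u`. -/
theorem trans_co3Set (u : leechLattice) (hu : sqNorm (u : GolayPt → ℤ) = 48) :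
    ∀ x ∈ co3Set u, ∀ x' ∈ co3Set u, ∃ g : Co0, g • u = u ∧ g • x = x' := by
  obtain ⟨h, hh⟩ := co0_trans48 u Co3Data.U0 hu Co3Data.sqNorm_U0
  intro x hx x' hx'
  have h1 := smul_mem_co3Set h hx
  have h2 := smul_mem_co3Set h hx'
  rw [hh] at h1 h2
  obtain ⟨g, hg1, hg2⟩ := Co3Data.trans_std _ h1 _ h2
  refine ⟨h⁻¹ * g * h, ?_, ?_⟩
  · rw [mul_smul, mul_smul, hh, hg1, ← hh, inv_smul_smul]
  · rw [mul_smul, mul_smul, hg2, inv_smul_smul]

/-- Pairs `(u, x)` with `u` of squared length 48, `x` minimal and `u · x = -16` are conjugate. -/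
theorem trans_co3_pairs (u x u' x' : leechLattice) (hu : sqNorm (u : GolayPt → ℤ) = 48)
    (hu' : sqNorm (u' : GolayPt → ℤ) = 48) (hx : x ∈ co3Set u) (hx' : x' ∈ co3Set u') :
    ∃ g : Co0, g • u = u' ∧ g • x = x' := by
  obtain ⟨h, hh⟩ := co0_trans48 u u' hu hu'
  have h1 := smul_mem_co3Set h hx
  rw [hh] at h1
  obtain ⟨g, hg1, hg2⟩ := trans_co3Set u' hu' _ h1 _ hx'
  exact ⟨g * h, by rw [mul_smul, hh, hg1], by rw [mul_smul, hg2]⟩

/-- Two vectors of squared length 48 with inner product `-32` are exchanged by an automorphism. -/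
theorem swap_48 (v w : leechLattice) (hv : sqNorm (v : GolayPt → ℤ) = 48)
    (hw : sqNorm (w : GolayPt → ℤ) = 48)
    (hvw : dotInt (v : GolayPt → ℤ) (w : GolayPt → ℤ) = -32) :
    ∃ g : Co0, g • v = w ∧ g • w = v := by
  set x : leechLattice := -(v + w) with hx
  have hsum : sqNorm ((v + w : leechLattice) : GolayPt → ℤ) = 32 := by
    have h := sqNorm_add' (v : GolayPt → ℤ) (w : GolayPt → ℤ)
    rw [hv, hw, hvw] at h
    have e : ((v + w : leechLattice) : GolayPt → ℤ) = (v : GolayPt → ℤ) + (w : GolayPt → ℤ) := rfl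
    rw [e, h]; norm_num
  have hxn : sqNorm (x : GolayPt → ℤ) = 32 := by
    have e : (x : GolayPt → ℤ) = -((v + w : leechLattice) : GolayPt → ℤ) := rfl
    rw [e, sqNorm_neg, hsum]
  have hvv : dotInt (v : GolayPt → ℤ) (v : GolayPt → ℤ) = 48 := by rw [dotInt_self]; exact hv
  have hww : dotInt (w : GolayPt → ℤ) (w : GolayPt → ℤ) = 48 := by rw [dotInt_self]; exact hw
  have hwv : dotInt (w : GolayPt → ℤ) (v : GolayPt → ℤ) = -32 := by rw [dotInt_comm]; exact hvw
  have hdot : ∀ a b c : GolayPt → ℤ, dotInt a (-(b + c)) = -(dotInt a b + dotInt a c) := by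
    intro a b c
    unfold dotInt
    rw [← Finset.sum_add_distrib, ← Finset.sum_neg_distrib]
    apply Finset.sum_congr rfl
    intro i _
    simp only [Pi.neg_apply, Pi.add_apply]
    ring
  have hxv : x ∈ co3Set v := by
    refine ⟨hxn, ?_⟩
    have e : (x : GolayPt → ℤ) = -((v : GolayPt → ℤ) + (w : GolayPt → ℤ)) := rfl
    rw [e, hdot, hvv, hvw]; norm_num
  have hxw : x ∈ co3Set w := by
    refine ⟨hxn, ?_⟩
    have e : (x : GolayPt → ℤ) = -((v : GolayPt → ℤ) + (w : GolayPt → ℤ)) := rfl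
    rw [e, hdot, hwv, hww]; norm_num
  obtain ⟨g, hg1, hg2⟩ := trans_co3_pairs v x w x hv hw hxv hxw
  refine ⟨g, hg1, ?_⟩
  have hw' : w = -x - v := by rw [hx]; abel
  have hv' : v = -x - w := by rw [hx]; abel
  conv_lhs => rw [hw']
  rw [Co0_smul_sub, Co0_smul_neg, hg1, hg2]
  exact hv'.symm

end Cfsg.Agent.Lib.H27
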