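import Mathlib
import Cfsg.Prelude.Def_Sporadic_a
import Cfsg.Agent.Lib.H27.HSData
import Cfsg.Agent.Lib.H27.Co3Trans

/-!
helper27 library: the Higman–Sims configuration: for two vectors `v, w` of squared length 48 with
`v · w = -32` there are 100 minimal vectors `x` with `v · x = 24`, `w · x = -24`; the stabiliser of
`v, w` is transitive on them, with rank 3 and subdegrees 1, 22, 77.
-/

set_option autoImplicit false

namespace Cfsg.Agent.Lib.H27

open Cfsg Finset Cfsg.Agent.Lib.H28 Cfsg.Agent.Lib.H27.Eng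

/-- The Higman–Sims set of `(v, w)`. -/
def hsSet (v w : leechLattice) : Set leechLattice :=
  {x : leechLattice | sqNorm (x : GolayPt → ℤ) = 32 ∧
    dotInt (v : GolayPt → ℤ) (x : GolayPt → ℤ) = 24 ∧
    dotInt (w : GolayPt → ℤ) (x : GolayPt → ℤ) = -24}

theorem smul_mem_hsSet (g : Co0) {v w x : leechLattice} (hx : x ∈ hsSet v w) :
    g • x ∈ hsSet (g • v) (g • w) :=
  ⟨by rw [Co0_sqNorm]; exact hx.1, by rw [Co0_dot]; exact hx.2.1, by rw [Co0_dot]; exact hx.2.2⟩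

theorem image_hsSet (g : Co0) (v w : leechLattice) :
    (fun y : leechLattice => g • y) '' hsSet v w = hsSet (g • v) (g • w) := by
  ext y
  constructor
  · rintro ⟨z, hz, rfl⟩
    exact smul_mem_hsSet g hz
  · intro hy
    refine ⟨g⁻¹ • y, ?_, smul_inv_smul g y⟩
    have := smul_mem_hsSet g⁻¹ hy
    rwa [inv_smul_smul, inv_smul_smul] at this

/-- Neighbours at inner product 8. -/
def hsSet8 (v w x : leechLattice) : Set leechLattice :=
  {y : leechLattice | y ∈ hsSet v w ∧ dotInt (x : GolayPt → ℤ) (y : GolayPt → ℤ) = 8}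

/-- The other points. -/
def hsSetN (v w x : leechLattice) : Set leechLattice :=
  {y : leechLattice | y ∈ hsSet v w ∧ y ≠ x ∧ dotInt (x : GolayPt → ℤ) (y : GolayPt → ℤ) ≠ 8}

theorem smul_mem_hsSet8 (g : Co0) {v w x y : leechLattice} (hy : y ∈ hsSet8 v w x) :
    g • y ∈ hsSet8 (g • v) (g • w) (g • x) :=
  ⟨smul_mem_hsSet g hy.1, by rw [Co0_dot]; exact hy.2⟩

theorem smul_mem_hsSetN (g : Co0) {v w x y : leechLattice} (hy : y ∈ hsSetN v w x) :
    g • y ∈ hsSetN (g • v) (g • w) (g • x) :=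
  ⟨smul_mem_hsSet g hy.1, fun h => hy.2.1 (MulAction.injective g h), by rw [Co0_dot]; exact hy.2.2⟩

theorem image_hsSet8 (g : Co0) (v w x : leechLattice) :
    (fun y : leechLattice => g • y) '' hsSet8 v w x = hsSet8 (g • v) (g • w) (g • x) := by
  ext y
  constructor
  · rintro ⟨z, hz, rfl⟩
    exact smul_mem_hsSet8 g hz
  · intro hy
    refine ⟨g⁻¹ • y, ?_, smul_inv_smul g y⟩
    have := smul_mem_hsSet8 g⁻¹ hy
    rwa [inv_smul_smul, inv_smul_smul, inv_smul_smul] at this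

theorem image_hsSetN (g : Co0) (v w x : leechLattice) :
    (fun y : leechLattice => g • y) '' hsSetN v w x = hsSetN (g • v) (g • w) (g • x) := by
  ext y
  constructor
  · rintro ⟨z, hz, rfl⟩
    exact smul_mem_hsSetN g hz
  · intro hy
    refine ⟨g⁻¹ • y, ?_, smul_inv_smul g y⟩
    have := smul_mem_hsSetN g⁻¹ hy
    rwa [inv_smul_smul, inv_smul_smul, inv_smul_smul] at this

/-- For `v, w` of squared length 48 with `v · w = -32`, the vector `-(v + w)` is minimal and has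
inner product `-16` with both. -/
theorem neg_add_mem_co3Set (v w : leechLattice) (hv : sqNorm (v : GolayPt → ℤ) = 48)
    (hw : sqNorm (w : GolayPt → ℤ) = 48)
    (hvw : dotInt (v : GolayPt → ℤ) (w : GolayPt → ℤ) = -32) :
    -(v + w) ∈ co3Set v ∧ -(v + w) ∈ co3Set w := by
  set x : leechLattice := -(v + w) with hx
  have hsum : sqNorm ((v + w : leechLattice) : GolayPt → ℤ) = 32 := by
    have h := sqNorm_add' (v : GolayPt → ℤ) (w : GolayPt → ℤ)
    rw [hv, hw, hvw] at h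
    have e : ((v + w : leechLattice) : GolayPt → ℤ) = (v : GolayPt → ℤ) + (w : GolayPt → ℤ) := rfl
    rw [e, h]; norm_num
  have hxn : sqNorm (x : GolayPt → ℤ) = 32 := by
    have e : (x : GolayPt → ℤ) = -((v + w : leechLattice) : GolayPt → ℤ) := rfl
    rw [e, sqNorm_neg, hsum]
  have hvv : dotInt (v : GolayPt → ℤ) (v : GolayPt → ℤ) = 48 := by rw [dotInt_self]; exact hv
  have hww : dotInt (w : GolayPt → ℤ) (w : GolayPt → ℤ) = 48 := by rw [dotInt_self]; exact hw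
  have hwv : dotInt (w : GolayPt → ℤ) (v : GolayPt → ℤ) = -32 := by rw [dotInt_comm]; exact hvw
  have hdot : ∀ a b c : GolayPt → ℤ, dotInt a (-(b + c)) = -(dotInt a b + dotInt a c) := by
    intro a b c
    unfold dotInt
    rw [← Finset.sum_add_distrib, ← Finset.sum_neg_distrib]
    apply Finset.sum_congr rfl
    intro i _
    simp only [Pi.neg_apply, Pi.add_apply]
    ring
  constructor
  · refine ⟨hxn, ?_⟩
    have e : (x : GolayPt → ℤ) = -((v : GolayPt → ℤ) + (w : GolayPt → ℤ)) := rfl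
    rw [e, hdot, hvv, hvw]; norm_num
  · refine ⟨hxn, ?_⟩
    have e : (x : GolayPt → ℤ) = -((v : GolayPt → ℤ) + (w : GolayPt → ℤ)) := rfl
    rw [e, hdot, hwv, hww]; norm_num

namespace HSData

open Co3Data

def W0 : leechLattice := ⟨toFn w0, mem_of_inLeech w0_mem⟩
def X0 : leechLattice := ⟨toFn x0, mem_of_inLeech x0_mem⟩
def Y8 : leechLattice := ⟨toFn y8, mem_of_inLeech y8_mem⟩
def Y16 : leechLattice := ⟨toFn y16, mem_of_inLeech y16_mem⟩

theorem W0_eq : W0 = -X16 - U0 := by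
  apply Subtype.ext
  funext p
  show toFn w0 p = -(toFn x16 p) - toFn u0 p
  unfold toFn
  exact w0_eq _ (gIdx_lt p)

/-- Pairs `(v, w)` of vectors of squared length 48 with `v · w = -32` are conjugate to the
standard pair. -/
theorem exists_std_pair48 (v w : leechLattice) (hv : sqNorm (v : GolayPt → ℤ) = 48)
    (hw : sqNorm (w : GolayPt → ℤ) = 48)
    (hvw : dotInt (v : GolayPt → ℤ) (w : GolayPt → ℤ) = -32) :
    ∃ h : Co0, h • v = U0 ∧ h • w = W0 := by
  obtain ⟨h, h1, h2⟩ := trans_co3_pairs v (-(v + w)) U0 X16 hv sqNorm_U0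
    (neg_add_mem_co3Set v w hv hw hvw).1 X16_mem
  refine ⟨h, h1, ?_⟩
  have e : w = -(-(v + w)) - v := by abel
  conv_lhs => rw [e]
  rw [Co0_smul_sub, Co0_smul_neg, h1, h2, W0_eq]

theorem dotU0 (y : V) : dotInt (U0 : GolayPt → ℤ) (toFn y) = dotL u0 y := (dotL_spec u0 y).symm
theorem dotW0 (y : V) : dotInt (W0 : GolayPt → ℤ) (toFn y) = dotL w0 y := (dotL_spec w0 y).symm
theorem dotX0 (y : V) : dotInt (X0 : GolayPt → ℤ) (toFn y) = dotL x0 y := (dotL_spec x0 y).symm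

theorem X0_mem : X0 ∈ hsSet U0 W0 := by
  obtain ⟨d1, d2, d3, -⟩ := dots_ok
  refine ⟨?_, ?_, ?_⟩
  · show sqNorm (toFn x0) = 32
    rw [← sqNorm_spec]; exact d1
  · show dotInt (U0 : GolayPt → ℤ) (toFn x0) = 24
    rw [dotU0]; exact d2
  · show dotInt (W0 : GolayPt → ℤ) (toFn x0) = -24
    rw [dotW0]; exact d3

theorem Y8_mem : Y8 ∈ hsSet8 U0 W0 X0 := by
  obtain ⟨-, -, -, d1, d2, d3, d4, -⟩ := dots_ok
  refine ⟨⟨?_, ?_, ?_⟩, ?_⟩
  · show sqNorm (toFn y8) = 32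
    rw [← sqNorm_spec]; exact d1
  · show dotInt (U0 : GolayPt → ℤ) (toFn y8) = 24
    rw [dotU0]; exact d2
  · show dotInt (W0 : GolayPt → ℤ) (toFn y8) = -24
    rw [dotW0]; exact d3
  · show dotInt (X0 : GolayPt → ℤ) (toFn y8) = 8
    rw [dotX0]; exact d4

theorem sqNorm_X0 : sqNorm (X0 : GolayPt → ℤ) = 32 := X0_mem.1

theorem Y16_mem : Y16 ∈ hsSetN U0 W0 X0 := by
  obtain ⟨-, -, -, -, -, -, -, d1, d2, d3, d4⟩ := dots_ok
  have a4 : dotInt (X0 : GolayPt → ℤ) (Y16 : GolayPt → ℤ) = 16 := by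
    show dotInt (X0 : GolayPt → ℤ) (toFn y16) = 16
    rw [dotX0]; exact d4
  refine ⟨⟨?_, ?_, ?_⟩, ?_, ?_⟩
  · show sqNorm (toFn y16) = 32
    rw [← sqNorm_spec]; exact d1
  · show dotInt (U0 : GolayPt → ℤ) (toFn y16) = 24
    rw [dotU0]; exact d2
  · show dotInt (W0 : GolayPt → ℤ) (toFn y16) = -24
    rw [dotW0]; exact d3
  · intro h
    rw [h, dotInt_self, sqNorm_X0] at a4
    omega
  · rw [a4]; norm_num

/-- The 552 summands of the standard vector. -/
def X552 : Set leechLattice :=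
  {x : leechLattice | sqNorm (x : GolayPt → ℤ) = 32 ∧
    dotInt (U0 : GolayPt → ℤ) (x : GolayPt → ℤ) = 24}

theorem ncard_X552 : X552.ncard = 552 := by
  have hu' : (U0 : GolayPt → ℤ) ∈ S48F := mem_S48F.2 ⟨U0.2, sqNorm_U0⟩
  unfold X552
  rw [ncard_dot_sub, nT48_24 hu']

theorem orbListA : OrbList [u0] x0 (forestList Co3Data.sg achunks) ∧
    (forestList Co3Data.sg achunks).length = 552 ∧
    ((forestList Co3Data.sg achunks).filter p100).length = 100 := by
  have h := forest_orbList (ts := [u0]) Co3Data.sg_ok Co3Data.fix_ok (mem_of_inLeech x0_mem)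
    aall_ok alink_ok amerge_ok
  exact ⟨h.1, h.2.1, by rw [h.2.2, astat_sum]⟩

/-- The standard Higman–Sims set has 100 elements. -/
theorem ncard_std : (hsSet U0 W0).ncard = 100 := by
  have h := orbListA.1.ncard_filter X552
    (by rw [mkL_of_mem (mem_of_inLeech x0_mem)]; exact ⟨X0_mem.1, X0_mem.2.1⟩)
    (by
      intro g hg x hx
      rw [Co3Data.fixes_iff] at hg
      refine ⟨by rw [Co0_sqNorm]; exact hx.1, ?_⟩
      have := Co0_dot g U0 x
      rw [hg] at this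
      rw [this]; exact hx.2)
    (by rw [orbListA.2.1]; norm_num)
    (by rw [orbListA.2.1]; exact ncard_X552)
    (fun x => dotInt (W0 : GolayPt → ℤ) (x : GolayPt → ℤ) = -24) p100
    (by
      intro y hy
      have hyL := (orbListA.1.inOrb y hy).mem
      rw [mkL_val hyL, dotW0]
      unfold p100
      rw [decide_eq_true_eq])
  rw [orbListA.2.2] at h
  rw [← h]
  congr 1
  ext x
  constructor
  · rintro ⟨h1, h2, h3⟩
    exact ⟨⟨h1, h2⟩, h3⟩
  · rintro ⟨⟨h1, h2⟩, h3⟩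
    exact ⟨h1, h2, h3⟩

theorem fixesH_iff (g : Co0) : Fixes g [u0, w0] ↔ g • U0 = U0 ∧ g • W0 = W0 := by
  constructor
  · intro h
    exact ⟨h u0 (by simp) _, h w0 (by simp) _⟩
  · rintro ⟨h1, h2⟩ t ht htL
    simp only [List.mem_cons, List.not_mem_nil, or_false] at ht
    rcases ht with rfl | rfl
    · exact h1
    · exact h2

theorem fixesM_iff (g : Co0) :
    Fixes g [u0, w0, x0] ↔ g • U0 = U0 ∧ g • W0 = W0 ∧ g • X0 = X0 := by
  constructor
  · intro h
    exact ⟨h u0 (by simp) _, h w0 (by simp) _, h x0 (by simp) _⟩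
  · rintro ⟨h1, h2, h3⟩ t ht htL
    simp only [List.mem_cons, List.not_mem_nil, or_false] at ht
    rcases ht with rfl | rfl | rfl
    · exact h1
    · exact h2
    · exact h3

theorem orbListB : OrbList [u0, w0] x0 (forestList sgH bchunks) ∧
    (forestList sgH bchunks).length = 100 := by
  have h := forest_orbList (ts := [u0, w0]) sgH_ok fixH_ok (mem_of_inLeech x0_mem)
    ball_ok blink_ok bmerge_ok
  exact ⟨h.1, h.2.1⟩

/-- Transitivity on the standard Higman–Sims set. -/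
theorem trans_std : ∀ x ∈ hsSet U0 W0, ∀ x' ∈ hsSet U0 W0,
    ∃ g : Co0, g • U0 = U0 ∧ g • W0 = W0 ∧ g • x = x' := by
  have h := orbListB.1.trans (hsSet U0 W0)
    (by rw [mkL_of_mem (mem_of_inLeech x0_mem)]; exact X0_mem)
    (by
      intro g hg x hx
      rw [fixesH_iff] at hg
      have := smul_mem_hsSet g hx
      rwa [hg.1, hg.2] at this)
    (by rw [orbListB.2]; norm_num)
    (by rw [orbListB.2]; exact ncard_std)
  intro x hx x' hx'
  obtain ⟨g, hg, hgx⟩ := h x hx x' hx'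
  rw [fixesH_iff] at hg
  exact ⟨g, hg.1, hg.2, hgx⟩

theorem orbListC : OrbList [u0, w0, x0] y8 (forestList sgM cchunks) ∧
    (forestList sgM cchunks).length = 22 := by
  have h := forest_orbList (ts := [u0, w0, x0]) sgM_ok fixM_ok (mem_of_inLeech y8_mem)
    call_ok clink_ok cmerge_ok
  exact ⟨h.1, h.2.1⟩

theorem orbListD : OrbList [u0, w0, x0] y16 (forestList sgM dchunks) ∧
    (forestList sgM dchunks).length = 77 := by
  have h := forest_orbList (ts := [u0, w0, x0]) sgM_ok fixM_ok (mem_of_inLeech y16_mem)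
    dall_ok dlink_ok dmerge_ok
  exact ⟨h.1, h.2.1⟩

theorem inv8 (g : Co0) (hg : Fixes g [u0, w0, x0]) : ∀ y ∈ hsSet8 U0 W0 X0,
    g • y ∈ hsSet8 U0 W0 X0 := by
  intro y hy
  rw [fixesM_iff] at hg
  have := smul_mem_hsSet8 g hy
  rwa [hg.1, hg.2.1, hg.2.2] at this

theorem invN (g : Co0) (hg : Fixes g [u0, w0, x0]) : ∀ y ∈ hsSetN U0 W0 X0,
    g • y ∈ hsSetN U0 W0 X0 := by
  intro y hy
  rw [fixesM_iff] at hg
  have := smul_mem_hsSetN g hy
  rwa [hg.1, hg.2.1, hg.2.2] at this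

theorem hsSet_finite : (hsSet U0 W0).Finite :=
  Set.finite_of_ncard_pos (by rw [ncard_std]; norm_num)

theorem counts : (hsSet8 U0 W0 X0).ncard = 22 ∧ (hsSetN U0 W0 X0).ncard = 77 := by
  have hsub8 : hsSet8 U0 W0 X0 ⊆ hsSet U0 W0 := fun y hy => hy.1
  have hsubN : hsSetN U0 W0 X0 ⊆ hsSet U0 W0 := fun y hy => hy.1
  have hf8 := hsSet_finite.subset hsub8
  have hfN := hsSet_finite.subset hsubN
  have l8 : 22 ≤ (hsSet8 U0 W0 X0).ncard := by
    have := orbListC.1.lower _ hf8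
      (by rw [mkL_of_mem (mem_of_inLeech y8_mem)]; exact Y8_mem) inv8
    rwa [orbListC.2] at this
  have lN : 77 ≤ (hsSetN U0 W0 X0).ncard := by
    have := orbListD.1.lower _ hfN
      (by rw [mkL_of_mem (mem_of_inLeech y16_mem)]; exact Y16_mem) invN
    rwa [orbListD.2] at this
  have hdisj : Disjoint (hsSet8 U0 W0 X0) (hsSetN U0 W0 X0) := by
    rw [Set.disjoint_left]
    intro y h8 hN
    exact hN.2.2 h8.2
  have hunion : hsSet8 U0 W0 X0 ∪ hsSetN U0 W0 X0 ⊆ hsSet U0 W0 \ {X0} := by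
    rintro y (hy | hy)
    · refine ⟨hy.1, ?_⟩
      intro h
      rw [Set.mem_singleton_iff] at h
      have h2 := hy.2
      rw [h, dotInt_self, sqNorm_X0] at h2
      omega
    · exact ⟨hy.1, hy.2.1⟩
  have hc := Set.ncard_union_eq hdisj hf8 hfN
  have hle := Set.ncard_le_ncard hunion (hsSet_finite.subset Set.sdiff_subset)
  have h99 : (hsSet U0 W0 \ {X0}).ncard = 99 := by
    rw [Set.ncard_sdiff_singleton_of_mem X0_mem, ncard_std]
  omega

theorem trans8 : ∀ y ∈ hsSet8 U0 W0 X0, ∀ y' ∈ hsSet8 U0 W0 X0,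
    ∃ g : Co0, g • U0 = U0 ∧ g • W0 = W0 ∧ g • X0 = X0 ∧ g • y = y' := by
  have h := orbListC.1.trans (hsSet8 U0 W0 X0)
    (by rw [mkL_of_mem (mem_of_inLeech y8_mem)]; exact Y8_mem) inv8
    (by rw [orbListC.2]; norm_num) (by rw [orbListC.2]; exact counts.1)
  intro y hy y' hy'
  obtain ⟨g, hg, hgy⟩ := h y hy y' hy'
  rw [fixesM_iff] at hg
  exact ⟨g, hg.1, hg.2.1, hg.2.2, hgy⟩

theorem transN : ∀ y ∈ hsSetN U0 W0 X0, ∀ y' ∈ hsSetN U0 W0 X0,
    ∃ g : Co0, g • U0 = U0 ∧ g • W0 = W0 ∧ g • X0 = X0 ∧ g • y = y' := by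
  have h := orbListD.1.trans (hsSetN U0 W0 X0)
    (by rw [mkL_of_mem (mem_of_inLeech y16_mem)]; exact Y16_mem) invN
    (by rw [orbListD.2]; norm_num) (by rw [orbListD.2]; exact counts.2)
  intro y hy y' hy'
  obtain ⟨g, hg, hgy⟩ := h y hy y' hy'
  rw [fixesM_iff] at hg
  exact ⟨g, hg.1, hg.2.1, hg.2.2, hgy⟩

end HSData

open HSData Co3Data

/-- The Higman–Sims set has 100 elements. -/
theorem ncard_hsSet (v w : leechLattice) (hv : sqNorm (v : GolayPt → ℤ) = 48)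
    (hw : sqNorm (w : GolayPt → ℤ) = 48)
    (hvw : dotInt (v : GolayPt → ℤ) (w : GolayPt → ℤ) = -32) : (hsSet v w).ncard = 100 := by
  obtain ⟨h, h1, h2⟩ := exists_std_pair48 v w hv hw hvw
  have e := image_hsSet h v w
  rw [h1, h2] at e
  have c := ncard_smul_image h (hsSet v w)
  rw [e] at c
  rw [← c]
  exact ncard_std

/-- The stabiliser of `v, w` is transitive on the Higman–Sims set. -/
theorem trans_hsSet (v w : leechLattice) (hv : sqNorm (v : GolayPt → ℤ) = 48)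
    (hw : sqNorm (w : GolayPt → ℤ) = 48)
    (hvw : dotInt (v : GolayPt → ℤ) (w : GolayPt → ℤ) = -32) :
    ∀ x ∈ hsSet v w, ∀ x' ∈ hsSet v w, ∃ g : Co0, g • v = v ∧ g • w = w ∧ g • x = x' := by
  obtain ⟨h, h1, h2⟩ := exists_std_pair48 v w hv hw hvw
  intro x hx x' hx'
  have m1 := smul_mem_hsSet h hx
  have m2 := smul_mem_hsSet h hx'
  rw [h1, h2] at m1 m2
  obtain ⟨g, g1, g2, g3⟩ := HSData.trans_std _ m1 _ m2
  refine ⟨h⁻¹ * g * h, ?_, ?_, ?_⟩
  · rw [mul_smul, mul_smul, h1, g1, ← h1, inv_smul_smul]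
  · rw [mul_smul, mul_smul, h2, g2, ← h2, inv_smul_smul]
  · rw [mul_smul, mul_smul, g3, inv_smul_smul]

/-- Triples `(v, w, x)` of the Higman–Sims configuration are conjugate to the standard one. -/
theorem exists_std_triple48 (v w x : leechLattice) (hv : sqNorm (v : GolayPt → ℤ) = 48)
    (hw : sqNorm (w : GolayPt → ℤ) = 48)
    (hvw : dotInt (v : GolayPt → ℤ) (w : GolayPt → ℤ) = -32) (hx : x ∈ hsSet v w) :
    ∃ h : Co0, h • v = U0 ∧ h • w = W0 ∧ h • x = X0 := by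
  obtain ⟨h0, h1, h2⟩ := exists_std_pair48 v w hv hw hvw
  have m1 := smul_mem_hsSet h0 hx
  rw [h1, h2] at m1
  obtain ⟨g, g1, g2, g3⟩ := HSData.trans_std _ m1 _ HSData.X0_mem
  exact ⟨g * h0, by rw [mul_smul, h1, g1], by rw [mul_smul, h2, g2], by rw [mul_smul, g3]⟩

theorem hs_counts (v w x : leechLattice) (hv : sqNorm (v : GolayPt → ℤ) = 48)
    (hw : sqNorm (w : GolayPt → ℤ) = 48)
    (hvw : dotInt (v : GolayPt → ℤ) (w : GolayPt → ℤ) = -32) (hx : x ∈ hsSet v w) :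
    (hsSet8 v w x).ncard = 22 ∧ (hsSetN v w x).ncard = 77 := by
  obtain ⟨h, h1, h2, h3⟩ := exists_std_triple48 v w x hv hw hvw hx
  have e8 := image_hsSet8 h v w x
  have eN := image_hsSetN h v w x
  rw [h1, h2, h3] at e8 eN
  have c8 := ncard_smul_image h (hsSet8 v w x)
  have cN := ncard_smul_image h (hsSetN v w x)
  rw [e8] at c8
  rw [eN] at cN
  rw [← c8, ← cN]
  exact HSData.counts

theorem hs_trans8 (v w x : leechLattice) (hv : sqNorm (v : GolayPt → ℤ) = 48)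
    (hw : sqNorm (w : GolayPt → ℤ) = 48)
    (hvw : dotInt (v : GolayPt → ℤ) (w : GolayPt → ℤ) = -32) (hx : x ∈ hsSet v w) :
    ∀ y ∈ hsSet8 v w x, ∀ y' ∈ hsSet8 v w x,
    ∃ g : Co0, g • v = v ∧ g • w = w ∧ g • x = x ∧ g • y = y' := by
  obtain ⟨h, h1, h2, h3⟩ := exists_std_triple48 v w x hv hw hvw hx
  intro y hy y' hy'
  have m1 := smul_mem_hsSet8 h hy
  have m2 := smul_mem_hsSet8 h hy'
  rw [h1, h2, h3] at m1 m2
  obtain ⟨g, g1, g2, g3, g4⟩ := HSData.trans8 _ m1 _ m2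
  refine ⟨h⁻¹ * g * h, ?_, ?_, ?_, ?_⟩
  · rw [mul_smul, mul_smul, h1, g1, ← h1, inv_smul_smul]
  · rw [mul_smul, mul_smul, h2, g2, ← h2, inv_smul_smul]
  · rw [mul_smul, mul_smul, h3, g3, ← h3, inv_smul_smul]
  · rw [mul_smul, mul_smul, g4, inv_smul_smul]

theorem hs_transN (v w x : leechLattice) (hv : sqNorm (v : GolayPt → ℤ) = 48)
    (hw : sqNorm (w : GolayPt → ℤ) = 48)
    (hvw : dotInt (v : GolayPt → ℤ) (w : GolayPt → ℤ) = -32) (hx : x ∈ hsSet v w) :
    ∀ y ∈ hsSetN v w x, ∀ y' ∈ hsSetN v w x,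
    ∃ g : Co0, g • v = v ∧ g • w = w ∧ g • x = x ∧ g • y = y' := by
  obtain ⟨h, h1, h2, h3⟩ := exists_std_triple48 v w x hv hw hvw hx
  intro y hy y' hy'
  have m1 := smul_mem_hsSetN h hy
  have m2 := smul_mem_hsSetN h hy'
  rw [h1, h2, h3] at m1 m2
  obtain ⟨g, g1, g2, g3, g4⟩ := HSData.transN _ m1 _ m2
  refine ⟨h⁻¹ * g * h, ?_, ?_, ?_, ?_⟩
  · rw [mul_smul, mul_smul, h1, g1, ← h1, inv_smul_smul]
  · rw [mul_smul, mul_smul, h2, g2, ← h2, inv_smul_smul]
  · rw [mul_smul, mul_smul, h3, g3, ← h3, inv_smul_smul]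
  · rw [mul_smul, mul_smul, g4, inv_smul_smul]

end Cfsg.Agent.Lib.H27
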