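import Mathlib
import Cfsg.Prelude.Def_Sporadic_a
import Cfsg.Agent.Lib.H27.HSInvData
import Cfsg.Agent.Lib.H27.HSTrans

/-!
helper27 library: a fixed-point-free involution of the Higman–Sims group on its 100 points.
-/

set_option autoImplicit false

namespace Cfsg.Agent.Lib.H27

open Cfsg Finset Cfsg.Agent.Lib.H28 Cfsg.Agent.Lib.H27.Eng

namespace Eng

/-- The words of a valid list of words fixing the vectors of `ts` give elements fixing them. -/
theorem fixes_of_fixOK {sg : List (List Gen)} {ts : List V} (h1 : sgOK sg = true)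
    (h2 : fixOK sg ts = true) {w : List Gen} (hw : w ∈ sg) : Fixes (wordCo0 w) ts := by
  unfold sgOK at h1
  unfold fixOK at h2
  rw [List.all_eq_true] at h1 h2
  have hok := h1 w hw
  have hfix := h2 w hw
  rw [List.all_eq_true] at hfix
  intro t ht htL
  apply Subtype.ext
  rw [← actWord_spec w hok t htL]
  have := hfix t ht
  rw [decide_eq_true_eq] at this
  rw [this]

theorem ok_of_sgOK {sg : List (List Gen)} (h1 : sgOK sg = true) {w : List Gen} (hw : w ∈ sg) :
    w.all Gen.ok = true := by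
  unfold sgOK at h1
  rw [List.all_eq_true] at h1
  exact h1 w hw

end Eng

namespace HSInvData

open Co3Data HSData

/-- The involution. -/
noncomputable def gInv : Co0 := wordCo0 wInv

theorem wInv_all_ok : wInv.all Gen.ok = true := ok_of_sgOK wInv_ok (by simp)

theorem gInv_fixes : gInv • U0 = U0 ∧ gInv • W0 = W0 := by
  have h := fixes_of_fixOK wInv_ok wInv_fix (w := wInv) (by simp)
  rw [fixesH_iff] at h
  exact h

theorem gInv_sq : gInv * gInv = 1 := by
  unfold gInv
  rw [← wordCo0_append]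
  apply wordCo0_eq_one _ wInv_sq
  rw [List.all_append, wInv_all_ok]
  rfl

theorem gInv_fpf : ∀ x ∈ hsSet U0 W0, gInv • x ≠ x := by
  intro x hx hfix
  obtain ⟨y, hy, rfl⟩ := orbListB.1.cover (hsSet U0 W0)
    (by rw [mkL_of_mem (mem_of_inLeech x0_mem)]; exact HSData.X0_mem)
    (by
      intro g hg x hx
      rw [fixesH_iff] at hg
      have := smul_mem_hsSet g hx
      rwa [hg.1, hg.2] at this)
    (by rw [orbListB.2]; norm_num)
    (by rw [orbListB.2]; exact ncard_std) x hx
  have hyL := (orbListB.1.inOrb y hy).mem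
  have hchk := wInv_fpf
  rw [List.all_eq_true] at hchk
  have hd := hchk y hy
  unfold differs at hd
  rw [List.any_eq_true] at hd
  obtain ⟨k, hk, hne⟩ := hd
  rw [decide_eq_true_eq] at hne
  rw [List.mem_range] at hk
  apply hne
  have h1 := actWord_spec wInv wInv_all_ok y hyL
  rw [mkL_of_mem hyL] at hfix
  have h2 : toFn (actWord wInv y) = toFn y := by
    rw [h1]
    show ((gInv • (⟨toFn y, hyL⟩ : leechLattice) : leechLattice) : GolayPt → ℤ) = toFn y
    rw [hfix]
  exact nth_of_toFn_eq h2 hk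

end HSInvData

open HSInvData HSData Co3Data

/-- Some involution of the Higman–Sims group has no fixed point among the 100 points. -/
theorem hs_fpf_involution (v w : leechLattice) (hv : sqNorm (v : GolayPt → ℤ) = 48)
    (hw : sqNorm (w : GolayPt → ℤ) = 48)
    (hvw : dotInt (v : GolayPt → ℤ) (w : GolayPt → ℤ) = -32) :
    ∃ g : Co0, g • v = v ∧ g • w = w ∧ orderOf g = 2 ∧ ∀ x ∈ hsSet v w, g • x ≠ x := by
  obtain ⟨h, h1, h2⟩ := exists_std_pair48 v w hv hw hvw
  have hfpf : ∀ x ∈ hsSet v w, (h⁻¹ * gInv * h) • x ≠ x := by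
    intro x hx hfix
    have m := smul_mem_hsSet h hx
    rw [h1, h2] at m
    apply gInv_fpf _ m
    rw [mul_smul, mul_smul, inv_smul_eq_iff] at hfix
    exact hfix
  refine ⟨h⁻¹ * gInv * h, ?_, ?_, ?_, hfpf⟩
  · rw [mul_smul, mul_smul, h1, gInv_fixes.1, ← h1, inv_smul_smul]
  · rw [mul_smul, mul_smul, h2, gInv_fixes.2, ← h2, inv_smul_smul]
  · haveI : Fact (Nat.Prime 2) := ⟨Nat.prime_two⟩
    apply orderOf_eq_prime
    · rw [pow_two]
      have : h⁻¹ * gInv * h * (h⁻¹ * gInv * h) = h⁻¹ * (gInv * gInv) * h := by group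
      rw [this, gInv_sq, mul_one, inv_mul_cancel]
    · intro hone
      have hx0 : h⁻¹ • HSData.X0 ∈ hsSet v w := by
        have := smul_mem_hsSet h⁻¹ HSData.X0_mem
        rwa [← h1, ← h2, inv_smul_smul, inv_smul_smul] at this
      apply hfpf _ hx0
      rw [hone, one_smul]

end Cfsg.Agent.Lib.H27
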