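/-
helper27 library: generic tools about stabilizers in subgroups: stabilizer in a subgroup as an
intersection, conjugate stabilizers, orbit-stabilizer counting for a subgroup acting on a set.
-/
import Mathlib

set_option autoImplicit false

namespace Cfsg.Agent.Lib.H27

open MulAction

variable {G α : Type*} [Group G] [MulAction G α]

/-- The stabilizer of a point in a subgroup `K` is `K ⊓ stabilizer G x`. -/
def stabSubEquiv (K : Subgroup G) (x : α) : stabilizer ↥K x ≃* ↥(K ⊓ stabilizer G x) where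
  toFun h := ⟨h.1.1, Subgroup.mem_inf.2 ⟨h.1.2, h.2⟩⟩
  invFun k := ⟨⟨k.1, (Subgroup.mem_inf.1 k.2).1⟩, (Subgroup.mem_inf.1 k.2).2⟩
  left_inv := fun _ => rfl
  right_inv := fun _ => rfl
  map_mul' := fun _ _ => rfl

/-- Conjugation by `g` carries the common stabilizer of `v, w` to that of `g • v, g • w`. -/
def conjStabEquiv₂ (g : G) (v w : α) :
    ↥(stabilizer G v ⊓ stabilizer G w) ≃* ↥(stabilizer G (g • v) ⊓ stabilizer G (g • w)) where
  toFun k := ⟨g * k.1 * g⁻¹, by
    have h := Subgroup.mem_inf.1 k.2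
    have h1 : k.1 • v = v := h.1
    have h2 : k.1 • w = w := h.2
    refine Subgroup.mem_inf.2 ⟨?_, ?_⟩
    · rw [mem_stabilizer_iff, mul_smul, mul_smul, inv_smul_smul, h1]
    · rw [mem_stabilizer_iff, mul_smul, mul_smul, inv_smul_smul, h2]⟩
  invFun k := ⟨g⁻¹ * k.1 * g, by
    have h := Subgroup.mem_inf.1 k.2
    have h1 : k.1 • g • v = g • v := h.1
    have h2 : k.1 • g • w = g • w := h.2
    refine Subgroup.mem_inf.2 ⟨?_, ?_⟩
    · rw [mem_stabilizer_iff, mul_smul, mul_smul, h1, inv_smul_smul]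
    · rw [mem_stabilizer_iff, mul_smul, mul_smul, h2, inv_smul_smul]⟩
  left_inv k := by
    apply Subtype.ext
    show g⁻¹ * (g * k.1 * g⁻¹) * g = k.1
    group
  right_inv k := by
    apply Subtype.ext
    show g * (g⁻¹ * k.1 * g) * g⁻¹ = k.1
    group
  map_mul' a b := by
    apply Subtype.ext
    show g * (a.1 * b.1) * g⁻¹ = (g * a.1 * g⁻¹) * (g * b.1 * g⁻¹)
    group

/-- Conjugation by `g` carries the stabilizer of `v` to that of `g • v`. -/
def conjStabEquiv (g : G) (v : α) : ↥(stabilizer G v) ≃* ↥(stabilizer G (g • v)) where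
  toFun k := ⟨g * k.1 * g⁻¹, by
    have h1 : k.1 • v = v := k.2
    rw [mem_stabilizer_iff, mul_smul, mul_smul, inv_smul_smul, h1]⟩
  invFun k := ⟨g⁻¹ * k.1 * g, by
    have h1 : k.1 • g • v = g • v := k.2
    rw [mem_stabilizer_iff, mul_smul, mul_smul, h1, inv_smul_smul]⟩
  left_inv k := by
    apply Subtype.ext
    show g⁻¹ * (g * k.1 * g⁻¹) * g = k.1
    group
  right_inv k := by
    apply Subtype.ext
    show g * (g⁻¹ * k.1 * g) * g⁻¹ = k.1
    group
  map_mul' a b := by
    apply Subtype.ext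
    show g * (a.1 * b.1) * g⁻¹ = (g * a.1 * g⁻¹) * (g * b.1 * g⁻¹)
    group

/-- The orbit of `x` under a subgroup `K`, identified with a set on which `K` is transitive. -/
theorem orbit_sub_eq (K : Subgroup G) (x : α) (S : Set α) (hx : x ∈ S)
    (hinv : ∀ g ∈ K, ∀ y ∈ S, g • y ∈ S) (htr : ∀ y ∈ S, ∃ g ∈ K, g • x = y) :
    orbit ↥K x = S := by
  ext y
  constructor
  · rintro ⟨k, rfl⟩
    exact hinv k.1 k.2 x hx
  · intro hy
    obtain ⟨g, hg, rfl⟩ := htr y hy
    exact ⟨⟨g, hg⟩, rfl⟩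

/-- Orbit-stabilizer for a subgroup acting transitively on a set `S`. -/
theorem card_sub_stab (K : Subgroup G) (x : α) (S : Set α) (hx : x ∈ S)
    (hinv : ∀ g ∈ K, ∀ y ∈ S, g • y ∈ S) (htr : ∀ y ∈ S, ∃ g ∈ K, g • x = y) :
    Nat.card ↥(K ⊓ stabilizer G x) * S.ncard = Nat.card ↥K := by
  have h1 := index_stabilizer ↥K x
  rw [orbit_sub_eq K x S hx hinv htr] at h1
  have h2 := (stabilizer ↥K x).card_mul_index
  rw [h1, Nat.card_congr (stabSubEquiv K x).toEquiv] at h2
  exact h2

/-- Orbit-stabilizer for the whole group acting transitively on a set `S`. -/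
theorem card_stab (x : α) (S : Set α) (hx : x ∈ S)
    (hinv : ∀ g : G, ∀ y ∈ S, g • y ∈ S) (htr : ∀ y ∈ S, ∃ g : G, g • x = y) :
    Nat.card ↥(stabilizer G x) * S.ncard = Nat.card G := by
  have h1 := index_stabilizer G x
  have ho : orbit G x = S := by
    ext y
    constructor
    · rintro ⟨k, rfl⟩
      exact hinv k x hx
    · intro hy
      obtain ⟨g, rfl⟩ := htr y hy
      exact ⟨g, rfl⟩
  rw [ho] at h1
  have h2 := (stabilizer G x).card_mul_index
  rw [h1] at h2
  exact h2

end Cfsg.Agent.Lib.H27
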