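/-
helper27 library: orders of the stabilizers in `Co0` of a vector of type 2, of type 3, of a
Higman–Sims pair and of a McLaughlin pair (orbit–stabilizer along the known transitivities).
-/
import Mathlib
import Cfsg.Prelude.Def_Sporadic_a
import Cfsg.Agent.Lib.H27.StabTools
import Cfsg.Agent.Lib.H27.Co0Order
import Cfsg.Agent.Lib.H27.Co0Pairs2
import Cfsg.Agent.Lib.H27.LeechCensus48
import Cfsg.Agent.Lib.H27.Co3Trans
import Cfsg.Agent.Lib.H27.HSTrans

set_option autoImplicit false

namespace Cfsg.Agent.Lib.H27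

open Cfsg MulAction

theorem ncard_typeN (N : ℤ) (k : ℕ)
    (h : {x : GolayPt → ℤ | x ∈ leechLattice ∧ sqNorm x = N}.ncard = k) :
    {v : leechLattice | sqNorm (v : GolayPt → ℤ) = N}.ncard = k := by
  rw [← h, ← Set.ncard_image_of_injective _ Subtype.val_injective]
  congr 1
  ext w
  constructor
  · rintro ⟨v, hv, rfl⟩
    exact ⟨v.2, hv⟩
  · rintro ⟨h1, h2⟩
    exact ⟨⟨w, h1⟩, h2, rfl⟩

theorem ncard_type48 : {v : leechLattice | sqNorm (v : GolayPt → ℤ) = 48}.ncard = 16773120 :=
  ncard_typeN 48 _ leech_count_48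

theorem ncard_type32 : {v : leechLattice | sqNorm (v : GolayPt → ℤ) = 32}.ncard = 196560 :=
  ncard_typeN 32 _ leech_count_32

/-- The stabilizer of a vector of type 3 has the order of `Co3`. -/
theorem card_stab48 (v : leechLattice) (hv : sqNorm (v : GolayPt → ℤ) = 48) :
    Nat.card ↥(stabilizer Co0 v) = 495766656000 := by
  have h := card_stab (G := Co0) v {v : leechLattice | sqNorm (v : GolayPt → ℤ) = 48} hv
    (fun g y hy => by
      show sqNorm ((g • y : leechLattice) : GolayPt → ℤ) = 48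
      rw [Co0_sqNorm]; exact hy)
    (fun y hy => co0_trans48 v y hv hy)
  rw [ncard_type48, card_Co0] at h
  omega

/-- The stabilizer of a vector of type 2 has the order of `Co2`. -/
theorem card_stab32 (v : leechLattice) (hv : sqNorm (v : GolayPt → ℤ) = 32) :
    Nat.card ↥(stabilizer Co0 v) = 42305421312000 := by
  have h := card_stab (G := Co0) v {v : leechLattice | sqNorm (v : GolayPt → ℤ) = 32} hv
    (fun g y hy => by
      show sqNorm ((g • y : leechLattice) : GolayPt → ℤ) = 32
      rw [Co0_sqNorm]; exact hy)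
    (fun y hy => co0_trans32 v y hv hy)
  rw [ncard_type32, card_Co0] at h
  omega

/-- The stabilizer of `u` and of a point of its `co3Set`. -/
theorem card_stab_co3Set (u x : leechLattice) (hu : sqNorm (u : GolayPt → ℤ) = 48)
    (hx : x ∈ co3Set u) :
    Nat.card ↥(stabilizer Co0 u ⊓ stabilizer Co0 x) = 44352000 := by
  have h := card_sub_stab (stabilizer Co0 u) x (co3Set u) hx
    (fun g hg y hy => by
      have := smul_mem_co3Set g hy
      rwa [mem_stabilizer_iff.1 hg] at this)
    (fun y hy => by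
      obtain ⟨g, hg, hgy⟩ := trans_co3Set u hu x hx y hy
      exact ⟨g, hg, hgy⟩)
  have hc : (co3Set u).ncard = 11178 := ncard_co3 u hu
  rw [hc, card_stab48 u hu] at h
  omega

theorem stab_pair48_eq (v w : leechLattice) :
    stabilizer Co0 v ⊓ stabilizer Co0 w = stabilizer Co0 v ⊓ stabilizer Co0 (-(v + w)) := by
  ext g
  simp only [Subgroup.mem_inf, mem_stabilizer_iff]
  constructor
  · rintro ⟨h1, h2⟩
    exact ⟨h1, by rw [Co0_smul_neg, Co0_smul_add, h1, h2]⟩
  · rintro ⟨h1, h2⟩
    refine ⟨h1, ?_⟩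
    have e : w = -(-(v + w)) - v := by abel
    rw [e, Co0_smul_sub, Co0_smul_neg, h2, h1]

/-- The stabilizer of a Higman–Sims pair has the order of `HS`. -/
theorem card_stabHS (v w : leechLattice) (hv : sqNorm (v : GolayPt → ℤ) = 48)
    (hw : sqNorm (w : GolayPt → ℤ) = 48)
    (hvw : dotInt (v : GolayPt → ℤ) (w : GolayPt → ℤ) = -32) :
    Nat.card ↥(stabilizer Co0 v ⊓ stabilizer Co0 w) = 44352000 := by
  rw [stab_pair48_eq]
  exact card_stab_co3Set v _ hv (neg_add_mem_co3Set v w hv hw hvw).1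

/-- The stabilizer of a McLaughlin pair has the order of `McL`. -/
theorem card_stabMcL (v w : leechLattice) (hv : sqNorm (v : GolayPt → ℤ) = 32)
    (hw : sqNorm (w : GolayPt → ℤ) = 32)
    (hvw : dotInt (v : GolayPt → ℤ) (w : GolayPt → ℤ) = -8) :
    Nat.card ↥(stabilizer Co0 v ⊓ stabilizer Co0 w) = 898128000 := by
  have h := card_sub_stab (stabilizer Co0 v) w
    {x : leechLattice | sqNorm (x : GolayPt → ℤ) = 32 ∧
      dotInt (v : GolayPt → ℤ) (x : GolayPt → ℤ) = -8} ⟨hw, hvw⟩
    (fun g hg y hy => by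
      refine ⟨by rw [Co0_sqNorm]; exact hy.1, ?_⟩
      have := Co0_dot g v y
      rw [mem_stabilizer_iff.1 hg] at this
      rw [this]; exact hy.2)
    (fun y hy => by
      obtain ⟨g, hg, hgy⟩ := trans_pairs v w y hv hw hy.1 (Or.inr rfl) hvw hy.2
      exact ⟨g, hg, hgy⟩)
  have hc : {x : leechLattice | sqNorm (x : GolayPt → ℤ) = 32 ∧
      dotInt (v : GolayPt → ℤ) (x : GolayPt → ℤ) = -8}.ncard = 47104 := by
    rw [ncard_dot_sub, nT_neg, nT_8 (mem_MinF.2 ⟨v.2, hv⟩)]
  rw [hc, card_stab32 v hv] at h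
  omega

end Cfsg.Agent.Lib.H27
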