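/-
helper27 library: the coordinate permutations of `M24` as elements of `Co0`; the stabilizer of
the standard Higman–Sims triple `(U0, W0, X0)` is a copy of `M22`, hence simple.
-/
import Mathlib
import Cfsg.Prelude.Def_Sporadic_a
import Cfsg.Agent.Lib.H27.ConwayOrders
import Cfsg.Agent.S0378
import Cfsg.Agent.S0379

set_option autoImplicit false

namespace Cfsg.Agent.Lib.H27

open Cfsg MulAction Cfsg.Agent.Lib.H28 Cfsg.Agent.Lib.H27.Eng

instance finite_Co0 : Finite Co0 :=
  Nat.finite_of_card_ne_zero (by rw [card_Co0]; norm_num)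

/-- The coordinate permutation of `σ ∈ M24` as an element of `Co0`. -/
def pCo0 (σ : M24) : Co0 := permCo0 σ.1 σ.2

theorem pCo0_smul (σ : M24) (v : leechLattice) (i : GolayPt) :
    ((pCo0 σ • v : leechLattice) : GolayPt → ℤ) i = (v : GolayPt → ℤ) (σ.1.symm i) :=
  permCo0_smul σ.1 σ.2 v i

theorem pCo0_mul (σ τ : M24) : pCo0 (σ * τ) = pCo0 σ * pCo0 τ := by
  apply Co0_ext
  intro v
  funext i
  rw [mul_smul, pCo0_smul, pCo0_smul, pCo0_smul]
  rfl

theorem pCo0_one : pCo0 1 = 1 := by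
  apply Co0_ext
  intro v
  funext i
  rw [pCo0_smul, one_smul]
  rfl

/-- Coordinate permutations as a homomorphism. -/
def permHom : ↥M24 →* Co0 where
  toFun := pCo0
  map_one' := pCo0_one
  map_mul' := pCo0_mul

theorem permHom_injective : Function.Injective permHom := by
  intro σ τ h
  have h1 : stabMap (σ, (0 : golayCode)) = stabMap (τ, (0 : golayCode)) := Subtype.ext h
  exact congrArg Prod.fst (stabMap_injective h1)

/-- A permutation fixing the points `0` and `1` fixes every vector that is constant off these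
two coordinates. -/
theorem pCo0_fix (σ : M24) (h0 : σ.1 (gPt 0) = gPt 0) (h1 : σ.1 (gPt 1) = gPt 1)
    (l : V) (hl : inLeech (toFn l) = true) (c : ℤ)
    (hc : ∀ k, k < 24 → k ≠ 0 → k ≠ 1 → nth l k = c) :
    pCo0 σ • (⟨toFn l, mem_of_inLeech hl⟩ : leechLattice) = ⟨toFn l, mem_of_inLeech hl⟩ := by
  apply Subtype.ext
  funext i
  rw [pCo0_smul]
  show toFn l (σ.1.symm i) = toFn l i
  have e0 : σ.1.symm (gPt 0) = gPt 0 := by rw [Equiv.symm_apply_eq, h0]
  have e1 : σ.1.symm (gPt 1) = gPt 1 := by rw [Equiv.symm_apply_eq, h1]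
  by_cases hi0 : i = gPt 0
  · rw [hi0, e0]
  by_cases hi1 : i = gPt 1
  · rw [hi1, e1]
  have hj0 : σ.1.symm i ≠ gPt 0 := by
    intro h
    apply hi0
    rw [← e0] at h
    exact σ.1.symm.injective h
  have hj1 : σ.1.symm i ≠ gPt 1 := by
    intro h
    apply hi1
    rw [← e1] at h
    exact σ.1.symm.injective h
  have key : ∀ p : GolayPt, p ≠ gPt 0 → p ≠ gPt 1 → toFn l p = c := by
    intro p hp0 hp1
    unfold toFn
    apply hc _ (gIdx_lt p)
    · intro h
      apply hp0
      rw [← gPt_gIdx p, h]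
    · intro h
      apply hp1
      rw [← gPt_gIdx p, h]
  rw [key _ hj0 hj1, key _ hi0 hi1]

namespace HSData

open Co3Data

/-- The stabilizer of the standard triple. -/
abbrev K3 : Subgroup Co0 := stabilizer Co0 U0 ⊓ stabilizer Co0 W0 ⊓ stabilizer Co0 X0

theorem card_K3 : Nat.card ↥K3 = 443520 := by
  have h := card_sub_stab (stabilizer Co0 U0 ⊓ stabilizer Co0 W0) X0 (hsSet U0 W0) X0_mem
    (fun g hg y hy => by
      have h1 := Subgroup.mem_inf.1 hg
      have := smul_mem_hsSet g hy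
      rwa [mem_stabilizer_iff.1 h1.1, mem_stabilizer_iff.1 h1.2] at this)
    (fun y hy => by
      obtain ⟨g, hg1, hg2, hgy⟩ := trans_std X0 X0_mem y hy
      exact ⟨g, Subgroup.mem_inf.2 ⟨hg1, hg2⟩, hgy⟩)
  have hc : Nat.card ↥(stabilizer Co0 U0 ⊓ stabilizer Co0 W0) = 44352000 := by
    rw [stab_pair48_eq]
    apply card_stab_co3Set U0 _ sqNorm_U0
    have : -(U0 + W0) = X16 := by rw [W0_eq]; abel
    rw [this]; exact X16_mem
  rw [ncard_std, hc] at h
  show Nat.card ↥(stabilizer Co0 U0 ⊓ stabilizer Co0 W0 ⊓ stabilizer Co0 X0) = 443520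
  omega

/-- The embedding of `M22` (the stabilizer of the points `0, 1`) into `K3`. -/
def m22Hom : ↥(stabilizer M24 (gPt 0) ⊓ stabilizer M24 (gPt 1)) →* ↥K3 where
  toFun σ := ⟨pCo0 σ.1, by
    have h := Subgroup.mem_inf.1 σ.2
    have h0 : σ.1.1 (gPt 0) = gPt 0 := h.1
    have h1 : σ.1.1 (gPt 1) = gPt 1 := h.2
    refine Subgroup.mem_inf.2 ⟨Subgroup.mem_inf.2 ⟨?_, ?_⟩, ?_⟩
    · exact pCo0_fix σ.1 h0 h1 u0 u0_mem 1 (by decide)
    · exact pCo0_fix σ.1 h0 h1 w0 w0_mem (-1) (by decide)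
    · exact pCo0_fix σ.1 h0 h1 x0 x0_mem 0 (by decide)⟩
  map_one' := Subtype.ext pCo0_one
  map_mul' a b := Subtype.ext (pCo0_mul a.1 b.1)

theorem m22Hom_injective : Function.Injective m22Hom := by
  intro a b h
  have h1 : permHom a.1 = permHom b.1 := congrArg Subtype.val h
  exact Subtype.ext (permHom_injective h1)

theorem m22Hom_bijective : Function.Bijective m22Hom := by
  have hfin : Finite ↥K3 := inferInstance
  rw [Nat.bijective_iff_injective_and_card]
  refine ⟨m22Hom_injective, ?_⟩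
  rw [card_K3]
  exact Cfsg.Agent.S0378.result (gPt 0) (gPt 1) (by decide)

/-- The stabilizer of the standard triple is simple. -/
theorem isSimpleGroup_K3 : IsSimpleGroup ↥K3 := by
  have := Cfsg.Agent.S0379.result (gPt 0) (gPt 1) (by decide)
  exact (MulEquiv.ofBijective m22Hom m22Hom_bijective).symm.isSimpleGroup

end HSData

end Cfsg.Agent.Lib.H27
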