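/-
helper27 library: the common stabilizer of three lattice vectors fixed by the monomial `M22`
is simple as soon as it has order 443520.
-/
import Mathlib
import Cfsg.Prelude.Def_Sporadic_a
import Cfsg.Agent.Lib.H27.M22Embed

set_option autoImplicit false

namespace Cfsg.Agent.Lib.H27

open Cfsg MulAction Cfsg.Agent.Lib.H28 Cfsg.Agent.Lib.H27.Eng

/-- The common stabilizer of three vectors fixed by the coordinate permutations of `M22` is
simple if it has the order of `M22`. -/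
theorem isSimpleGroup_of_m22 (A B C : leechLattice)
    (hA : ∀ σ : M24, σ.1 (gPt 0) = gPt 0 → σ.1 (gPt 1) = gPt 1 → pCo0 σ • A = A)
    (hB : ∀ σ : M24, σ.1 (gPt 0) = gPt 0 → σ.1 (gPt 1) = gPt 1 → pCo0 σ • B = B)
    (hC : ∀ σ : M24, σ.1 (gPt 0) = gPt 0 → σ.1 (gPt 1) = gPt 1 → pCo0 σ • C = C)
    (hcard : Nat.card ↥(stabilizer Co0 A ⊓ stabilizer Co0 B ⊓ stabilizer Co0 C) = 443520) :
    IsSimpleGroup ↥(stabilizer Co0 A ⊓ stabilizer Co0 B ⊓ stabilizer Co0 C) := by
  let f : ↥(stabilizer M24 (gPt 0) ⊓ stabilizer M24 (gPt 1)) →*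
      ↥(stabilizer Co0 A ⊓ stabilizer Co0 B ⊓ stabilizer Co0 C) :=
    { toFun := fun σ => ⟨pCo0 σ.1, by
        have h := Subgroup.mem_inf.1 σ.2
        have h0 : σ.1.1 (gPt 0) = gPt 0 := h.1
        have h1 : σ.1.1 (gPt 1) = gPt 1 := h.2
        exact Subgroup.mem_inf.2 ⟨Subgroup.mem_inf.2 ⟨hA σ.1 h0 h1, hB σ.1 h0 h1⟩, hC σ.1 h0 h1⟩⟩
      map_one' := Subtype.ext pCo0_one
      map_mul' := fun a b => Subtype.ext (pCo0_mul a.1 b.1) }
  have hinj : Function.Injective f := by
    intro a b h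
    have h1 : permHom a.1 = permHom b.1 := congrArg Subtype.val h
    exact Subtype.ext (permHom_injective h1)
  have hbij : Function.Bijective f := by
    have hfin : Finite ↥(stabilizer Co0 A ⊓ stabilizer Co0 B ⊓ stabilizer Co0 C) := inferInstance
    rw [Nat.bijective_iff_injective_and_card]
    refine ⟨hinj, ?_⟩
    rw [hcard]
    exact Cfsg.Agent.S0378.result (gPt 0) (gPt 1) (by decide)
  have := Cfsg.Agent.S0379.result (gPt 0) (gPt 1) (by decide)
  exact (MulEquiv.ofBijective f hbij).symm.isSimpleGroup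

end Cfsg.Agent.Lib.H27
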