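import Cfsg.Agent.Lib.H27.Engine2

set_option autoImplicit false

namespace Cfsg.Agent.Lib.H27.McLData

open Cfsg.Agent.Lib.H27.Eng

def u0 : V := [5, 1, 1, 1, 1, 1, 1, 1, 1, 1, 1, 1, 1, 1, 1, 1, 1, 1, 1, 1, 1, 1, 1, 1]
def v0 : V := [4, 4, 0, 0, 0, 0, 0, 0, 0, 0, 0, 0, 0, 0, 0, 0, 0, 0, 0, 0, 0, 0, 0, 0]
def x0 : V := [4, 0, 4, 0, 0, 0, 0, 0, 0, 0, 0, 0, 0, 0, 0, 0, 0, 0, 0, 0, 0, 0, 0, 0]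

def sg : List (List Gen) := [
  [Gen.mono [0, 1, 4, 22, 3, 23, 21, 17, 5, 20, 8, 9, 18, 10, 16, 14, 12, 13, 19, 11, 6, 15, 7, 2] [0, 1, 23, 4, 2, 8, 20, 22, 10, 11, 13, 19, 16, 17, 15, 21, 14, 7, 12, 18, 9, 6, 3, 5] 0],
  [Gen.mono [0, 1, 2, 8, 20, 13, 15, 4, 10, 3, 14, 16, 6, 12, 9, 5, 22, 7, 18, 21, 23, 11, 19, 17] [0, 1, 2, 9, 7, 15, 12, 17, 3, 14, 8, 21, 13, 5, 10, 6, 11, 23, 18, 22, 4, 19, 16, 20] 0],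
  [Gen.xi, Gen.mono [23, 1, 2, 3, 12, 21, 15, 19, 17, 4, 9, 6, 13, 8, 16, 14, 0, 10, 20, 5, 7, 22, 18, 11] [16, 1, 2, 3, 9, 19, 11, 20, 13, 10, 17, 23, 4, 12, 15, 6, 14, 8, 22, 7, 18, 5, 21, 0] 0, Gen.xi]]

def ins : List ℕ := [1, 1, 1, 1, 3, 1, 0, 2, 1, 0, 3, 3, 0, 0, 0, 3, 1, 0, 2, 2, 0, 0, 3, 0, 0, 0, 0, 2, 1, 1, 3, 0, 0, 2, 3, 0, 0, 3, 2, 0, 3, 0, 0, 0, 0, 3, 1, 1, 1, 0, 2, 0, 0, 2, 1, 1, 0, 0, 3, 1, 0, 0, 0, 3, 2, 3, 0, 0, 3, 0, 0, 0, 2, 1, 1, 0, 3, 0, 0, 2, 2, 1, 0, 0, 0, 3, 1, 0, 3, 0, 0, 0, 3, 1, 2, 2, 0, 0, 0, 2, 1, 0, 3, 0, 0, 3, 1, 0, 2, 1, 0, 0, 0, 0, 0, 0, 2, 1, 2, 2, 0, 3, 1, 0, 0, 0, 0, 2, 2, 3, 3, 1, 0, 0, 0, 0, 3, 1, 1, 3, 0, 0, 0, 3, 1, 0, 3, 0, 0, 0, 0, 3, 3, 1, 0, 2,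 0, 0, 0, 0, 0, 2, 1, 1, 0, 2, 0, 3, 1, 3, 0, 0, 2, 2, 2, 2, 0, 0, 3, 0, 0, 0, 0, 0, 2, 3, 1, 1, 1, 0, 0, 2, 1, 3, 0, 0, 0, 3, 1, 3, 0, 0, 2, 0, 0, 0, 2, 1, 2, 0, 0, 2, 2, 0, 0, 3, 1, 1, 0, 0, 0, 0, 0, 0, 3, 1, 1, 1, 3, 1, 0, 0, 0, 0, 2, 1, 1, 0, 2, 1, 0, 0, 3, 0, 0, 3, 0, 0, 3, 1, 1, 0, 2, 0, 3, 2, 0, 0, 0, 2, 1, 0, 3, 0, 0, 3, 2, 0, 3, 0, 0, 0, 0, 2, 1, 1, 2, 0, 0, 2, 2, 0, 0, 3, 0, 0, 2, 1, 2, 3, 0, 0, 0, 2, 1, 0, 3, 0, 0, 3, 0, 0, 3, 2, 1, 0, 3, 0, 0, 3, 1, 0, 3, 0, 0, 0, 0, 3, 1, 2, 0, 0, 2, 1, 1, 0, 3, 1, 0, 0, 0, 0, 0, 0, 0, 3, 1, 1, 1, 1, 1, 0, 2, 0, 3, 0, 0, 3, 3, 0, 0, 0, 2, 1, 0, 2, 1, 0, 0, 3, 1, 1, 0, 0, 2, 0, 0, 0, 3, 2, 0, 3, 0, 0, 0, 2, 1, 2, 2, 0, 0, 0, 2, 1, 3, 0, 0, 2,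 3, 0, 0, 3, 0, 0, 3, 1, 3, 0, 0, 3, 0, 0, 0, 3, 1, 2, 0, 3, 2, 0, 0, 0, 2, 1, 1, 0, 2, 0, 0, 2, 0, 3, 2, 0, 0, 0, 3, 1, 1, 0, 0, 2, 1, 0, 2, 0, 0, 3, 0, 0, 0, 0, 2, 1, 1, 0, 2, 2, 0, 3, 0, 0, 3, 2, 0, 0, 0, 2, 1, 3, 1, 0, 0, 0, 2, 1, 0, 2, 0, 3, 3, 0, 0, 0, 3, 1, 0, 0, 0, 0, 3, 1, 1, 1, 2, 0, 0, 2, 2, 0, 3, 0, 0, 3, 1, 0, 2, 0, 0, 0, 2, 3, 2, 0, 0, 0, 3, 1, 0, 2, 2, 0, 0, 3, 1, 0, 0, 0, 0, 2, 1, 3, 1, 0, 3, 0, 0, 0, 2, 2, 0, 0, 0, 3, 2, 2, 0, 0, 3, 3, 2, 0, 0, 0, 0, 0, 0, 0]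

theorem sg_ok : sgOK sg = true := by decide +kernel
theorem fix_ok : fixOK sg [u0, v0] = true := by decide +kernel
theorem check_ok : orbCheck sg ins x0 275 = true := by decide +kernel

theorem u0_mem : inLeech (toFn u0) = true := by decide +kernel
theorem v0_mem : inLeech (toFn v0) = true := by decide +kernel
theorem x0_mem : inLeech (toFn x0) = true := by decide +kernel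
theorem dots_ok : dotL u0 u0 = 48 ∧ dotL v0 v0 = 32 ∧ dotL u0 v0 = 24 ∧ dotL x0 x0 = 32 ∧
    dotL u0 x0 = 24 ∧ dotL v0 x0 = 16 := by decide +kernel

end Cfsg.Agent.Lib.H27.McLData
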