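import Mathlib
import Cfsg.Prelude.Def_Sporadic_a
import Cfsg.Agent.Lib.H27.McLData
import Cfsg.Agent.Lib.H27.McLCount

/-!
helper27 library: the stabiliser of `u` (squared length 48) and of a summand `v` of `u` is
transitive on the 275 summands `x` of `u` with `v · x = 16`.
-/

set_option autoImplicit false

namespace Cfsg.Agent.Lib.H27

open Cfsg Finset Cfsg.Agent.Lib.H28 Cfsg.Agent.Lib.H27.Eng

/-- Pairs `(u, v)` with `u` of squared length 48 and `v` a summand of `u` are conjugate. -/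
theorem exists_std_pair (u v u' v' : leechLattice) (hu : sqNorm (u : GolayPt → ℤ) = 48)
    (hv : sqNorm (v : GolayPt → ℤ) = 32 ∧ sqNorm ((u - v : leechLattice) : GolayPt → ℤ) = 32)
    (hu' : sqNorm (u' : GolayPt → ℤ) = 48)
    (hv' : sqNorm (v' : GolayPt → ℤ) = 32 ∧ sqNorm ((u' - v' : leechLattice) : GolayPt → ℤ) = 32) :
    ∃ h : Co0, h • u = u' ∧ h • v = v' := by
  have key : ∀ a x : leechLattice, sqNorm (a : GolayPt → ℤ) = 48 → sqNorm (x : GolayPt → ℤ) = 32 →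
      sqNorm ((a - x : leechLattice) : GolayPt → ℤ) = 32 →
      dotInt (x : GolayPt → ℤ) ((a - x : leechLattice) : GolayPt → ℤ) = -8 := by
    intro a x ha hx1 hx2
    have h1 := sqNorm_add' (x : GolayPt → ℤ) ((a - x : leechLattice) : GolayPt → ℤ)
    have e : (x : GolayPt → ℤ) + ((a - x : leechLattice) : GolayPt → ℤ) = (a : GolayPt → ℤ) := by
      rw [AddSubgroup.coe_sub]; abel
    rw [e, ha, hx1, hx2] at h1
    omega
  obtain ⟨g, hg1, hg2⟩ := trans_pairs' v (u - v) v' (u' - v') hv.1 hv.2 hv'.1 hv'.2 (Or.inr rfl)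
    (key u v hu hv.1 hv.2) (key u' v' hu' hv'.1 hv'.2)
  refine ⟨g, ?_, hg1⟩
  have e1 : u = v + (u - v) := by abel
  conv_lhs => rw [e1]
  rw [Co0_smul_add, hg1, hg2]
  abel

/-- The McLaughlin set of `(u, v)`. -/
def mclSet (u v : leechLattice) : Set leechLattice :=
  {x : leechLattice | sqNorm (x : GolayPt → ℤ) = 32 ∧
    sqNorm ((u - x : leechLattice) : GolayPt → ℤ) = 32 ∧
    dotInt (v : GolayPt → ℤ) (x : GolayPt → ℤ) = 16}

theorem smul_mem_mclSet (g : Co0) {u v x : leechLattice} (hx : x ∈ mclSet u v) :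
    g • x ∈ mclSet (g • u) (g • v) := by
  obtain ⟨h1, h2, h3⟩ := hx
  refine ⟨by rw [Co0_sqNorm]; exact h1, ?_, by rw [Co0_dot]; exact h3⟩
  rw [← Co0_smul_sub, Co0_sqNorm]
  exact h2

namespace McLData

def U0 : leechLattice := ⟨toFn u0, mem_of_inLeech u0_mem⟩
def V0 : leechLattice := ⟨toFn v0, mem_of_inLeech v0_mem⟩
def X0 : leechLattice := ⟨toFn x0, mem_of_inLeech x0_mem⟩

theorem sqNorm_U0 : sqNorm (U0 : GolayPt → ℤ) = 48 := by
  show sqNorm (toFn u0) = 48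
  rw [← sqNorm_spec]; exact dots_ok.1

theorem sqNorm_V0 : sqNorm (V0 : GolayPt → ℤ) = 32 := by
  show sqNorm (toFn v0) = 32
  rw [← sqNorm_spec]; exact dots_ok.2.1

theorem dot_U0_V0 : dotInt (U0 : GolayPt → ℤ) (V0 : GolayPt → ℤ) = 24 := by
  show dotInt (toFn u0) (toFn v0) = 24
  rw [← dotL_spec]; exact dots_ok.2.2.1

theorem sqNorm_X0 : sqNorm (X0 : GolayPt → ℤ) = 32 := by
  show sqNorm (toFn x0) = 32
  rw [← sqNorm_spec]; exact dots_ok.2.2.2.1

theorem dot_U0_X0 : dotInt (U0 : GolayPt → ℤ) (X0 : GolayPt → ℤ) = 24 := by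
  show dotInt (toFn u0) (toFn x0) = 24
  rw [← dotL_spec]; exact dots_ok.2.2.2.2.1

theorem dot_V0_X0 : dotInt (V0 : GolayPt → ℤ) (X0 : GolayPt → ℤ) = 16 := by
  show dotInt (toFn v0) (toFn x0) = 16
  rw [← dotL_spec]; exact dots_ok.2.2.2.2.2

theorem sqNorm_sub_of_dot {a x : leechLattice} (ha : sqNorm (a : GolayPt → ℤ) = 48)
    (hx : sqNorm (x : GolayPt → ℤ) = 32)
    (hd : dotInt (a : GolayPt → ℤ) (x : GolayPt → ℤ) = 24) :
    sqNorm ((a - x : leechLattice) : GolayPt → ℤ) = 32 := by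
  have h := sqNorm_sub' (a : GolayPt → ℤ) (x : GolayPt → ℤ)
  rw [ha, hx, hd] at h
  have e : ((a - x : leechLattice) : GolayPt → ℤ) = (a : GolayPt → ℤ) - (x : GolayPt → ℤ) := rfl
  rw [e, h]
  norm_num

theorem V0_summand : sqNorm (V0 : GolayPt → ℤ) = 32 ∧
    sqNorm ((U0 - V0 : leechLattice) : GolayPt → ℤ) = 32 :=
  ⟨sqNorm_V0, sqNorm_sub_of_dot sqNorm_U0 sqNorm_V0 dot_U0_V0⟩

theorem X0_mem : X0 ∈ mclSet U0 V0 :=
  ⟨sqNorm_X0, sqNorm_sub_of_dot sqNorm_U0 sqNorm_X0 dot_U0_X0, dot_V0_X0⟩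

theorem fixes_iff (g : Co0) : Fixes g [u0, v0] ↔ g • U0 = U0 ∧ g • V0 = V0 := by
  constructor
  · intro h
    exact ⟨h u0 (by simp) _, h v0 (by simp) _⟩
  · rintro ⟨h1, h2⟩ t ht htL
    simp only [List.mem_cons, List.mem_singleton, List.not_mem_nil, or_false] at ht
    rcases ht with rfl | rfl
    · exact h1
    · exact h2

/-- Transitivity on the standard McLaughlin set. -/
theorem trans_std : ∀ x ∈ mclSet U0 V0, ∀ x' ∈ mclSet U0 V0,
    ∃ g : Co0, g • U0 = U0 ∧ g • V0 = V0 ∧ g • x = x' := by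
  have h := orbit_trans' (mclSet U0 V0) (ts := [u0, v0]) (x0 := x0) sg_ok fix_ok
    (mem_of_inLeech x0_mem) (by rw [mkL_of_mem (mem_of_inLeech x0_mem)]; exact X0_mem)
    (by
      intro g hg x hx
      rw [fixes_iff] at hg
      have := smul_mem_mclSet g hx
      rwa [hg.1, hg.2] at this)
    check_ok (ncard_mcl U0 V0 sqNorm_U0 V0_summand)
  intro x hx x' hx'
  obtain ⟨g, hg, hgx⟩ := h x hx x' hx'
  rw [fixes_iff] at hg
  exact ⟨g, hg.1, hg.2, hgx⟩

end McLData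

/-- The stabiliser of `u` and `v` is transitive on the McLaughlin set of `(u, v)`. -/
theorem trans_mclSet (u v : leechLattice) (hu : sqNorm (u : GolayPt → ℤ) = 48)
    (hv : sqNorm (v : GolayPt → ℤ) = 32 ∧ sqNorm ((u - v : leechLattice) : GolayPt → ℤ) = 32) :
    ∀ x ∈ mclSet u v, ∀ x' ∈ mclSet u v, ∃ g : Co0, g • u = u ∧ g • v = v ∧ g • x = x' := by
  obtain ⟨h, hhu, hhv⟩ := exists_std_pair u v McLData.U0 McLData.V0 hu hv McLData.sqNorm_U0
    McLData.V0_summand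
  intro x hx x' hx'
  have h1 := smul_mem_mclSet h hx
  have h2 := smul_mem_mclSet h hx'
  rw [hhu, hhv] at h1 h2
  obtain ⟨g, hg1, hg2, hg3⟩ := McLData.trans_std _ h1 _ h2
  refine ⟨h⁻¹ * g * h, ?_, ?_, ?_⟩
  · rw [mul_smul, mul_smul, hhu, hg1, ← hhu, inv_smul_smul]
  · rw [mul_smul, mul_smul, hhv, hg2, ← hhv, inv_smul_smul]
  · rw [mul_smul, mul_smul, hg3, inv_smul_smul]

end Cfsg.Agent.Lib.H27
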