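import Mathlib
import Cfsg.Prelude.Def_Sporadic_a
import Cfsg.Agent.Lib.H27.McL2025Data
import Cfsg.Agent.Lib.H27.McLTrans
import Cfsg.Agent.Lib.H27.LeechCensus48

/-!
helper27 library: for minimal vectors `v, w` with `v · w = -8` there are 2025 minimal vectors `x`
with `v · x = 0`, `w · x = 16`; the stabiliser of `v, w` is transitive on them, with rank 4 and
subdegrees 1, 330, 462, 1232.
-/

set_option autoImplicit false

namespace Cfsg.Agent.Lib.H27

open Cfsg Finset Cfsg.Agent.Lib.H28 Cfsg.Agent.Lib.H27.Eng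

/-- The 2025 points. -/
def mcl2Set (v w : leechLattice) : Set leechLattice :=
  {x : leechLattice | sqNorm (x : GolayPt → ℤ) = 32 ∧
    dotInt (v : GolayPt → ℤ) (x : GolayPt → ℤ) = 0 ∧
    dotInt (w : GolayPt → ℤ) (x : GolayPt → ℤ) = 16}

theorem smul_mem_mcl2Set (g : Co0) {v w x : leechLattice} (hx : x ∈ mcl2Set v w) :
    g • x ∈ mcl2Set (g • v) (g • w) :=
  ⟨by rw [Co0_sqNorm]; exact hx.1, by rw [Co0_dot]; exact hx.2.1, by rw [Co0_dot]; exact hx.2.2⟩

theorem image_mcl2Set (g : Co0) (v w : leechLattice) :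
    (fun y : leechLattice => g • y) '' mcl2Set v w = mcl2Set (g • v) (g • w) := by
  ext y
  constructor
  · rintro ⟨z, hz, rfl⟩
    exact smul_mem_mcl2Set g hz
  · intro hy
    refine ⟨g⁻¹ • y, ?_, smul_inv_smul g y⟩
    have := smul_mem_mcl2Set g⁻¹ hy
    rwa [inv_smul_smul, inv_smul_smul] at this

/-- The members of `mcl2Set v w` with inner product `t` with `x`. -/
def mcl2Sub (v w x : leechLattice) (t : ℤ) : Set leechLattice :=
  {y : leechLattice | y ∈ mcl2Set v w ∧ dotInt (x : GolayPt → ℤ) (y : GolayPt → ℤ) = t}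

theorem smul_mem_mcl2Sub (g : Co0) {v w x y : leechLattice} {t : ℤ} (hy : y ∈ mcl2Sub v w x t) :
    g • y ∈ mcl2Sub (g • v) (g • w) (g • x) t :=
  ⟨smul_mem_mcl2Set g hy.1, by rw [Co0_dot]; exact hy.2⟩

theorem image_mcl2Sub (g : Co0) (v w x : leechLattice) (t : ℤ) :
    (fun y : leechLattice => g • y) '' mcl2Sub v w x t = mcl2Sub (g • v) (g • w) (g • x) t := by
  ext y
  constructor
  · rintro ⟨z, hz, rfl⟩
    exact smul_mem_mcl2Sub g hz
  · intro hy
    refine ⟨g⁻¹ • y, ?_, smul_inv_smul g y⟩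
    have := smul_mem_mcl2Sub g⁻¹ hy
    rwa [inv_smul_smul, inv_smul_smul, inv_smul_smul] at this

namespace McL2025Data

open McLData

def W0 : leechLattice := ⟨toFn w0, mem_of_inLeech w0_mem⟩
def XM : leechLattice := ⟨toFn xm, mem_of_inLeech xm_mem⟩

theorem W0_eq : W0 = U0 - V0 := by
  apply Subtype.ext
  funext p
  show toFn w0 p = toFn u0 p - toFn McLData.v0 p
  unfold toFn
  exact w0_eq _ (gIdx_lt p)

theorem sqNorm_W0 : sqNorm (W0 : GolayPt → ℤ) = 32 := by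
  show sqNorm (toFn w0) = 32
  rw [← sqNorm_spec]; exact dots_ok.1

theorem dot_V0_W0 : dotInt (V0 : GolayPt → ℤ) (W0 : GolayPt → ℤ) = -8 := by
  have h1 := sqNorm_add' (V0 : GolayPt → ℤ) (W0 : GolayPt → ℤ)
  have e : (V0 : GolayPt → ℤ) + (W0 : GolayPt → ℤ) = (U0 : GolayPt → ℤ) := by
    rw [W0_eq, AddSubgroup.coe_sub]; abel
  rw [e, sqNorm_U0, sqNorm_V0, sqNorm_W0] at h1
  omega

theorem dotV0 (y : V) : dotInt (V0 : GolayPt → ℤ) (toFn y) = dotL McLData.v0 y :=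
  (dotL_spec McLData.v0 y).symm
theorem dotW0 (y : V) : dotInt (W0 : GolayPt → ℤ) (toFn y) = dotL w0 y := (dotL_spec w0 y).symm
theorem dotXM (y : V) : dotInt (XM : GolayPt → ℤ) (toFn y) = dotL xm y := (dotL_spec xm y).symm

theorem XM_mem : XM ∈ mcl2Set V0 W0 := by
  obtain ⟨-, d1, d2, d3⟩ := dots_ok
  refine ⟨?_, ?_, ?_⟩
  · show sqNorm (toFn xm) = 32
    rw [← sqNorm_spec]; exact d1
  · show dotInt (V0 : GolayPt → ℤ) (toFn xm) = 0
    rw [dotV0]; exact d2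
  · show dotInt (W0 : GolayPt → ℤ) (toFn xm) = 16
    rw [dotW0]; exact d3

theorem sqNorm_XM : sqNorm (XM : GolayPt → ℤ) = 32 := XM_mem.1

/-- Pairs of minimal vectors with inner product `-8` are conjugate to the standard pair. -/
theorem exists_std_pair8 (v w : leechLattice) (hv : sqNorm (v : GolayPt → ℤ) = 32)
    (hw : sqNorm (w : GolayPt → ℤ) = 32)
    (hvw : dotInt (v : GolayPt → ℤ) (w : GolayPt → ℤ) = -8) :
    ∃ h : Co0, h • v = V0 ∧ h • w = W0 :=
  trans_pairs' v w V0 W0 hv hw sqNorm_V0 sqNorm_W0 (Or.inr rfl) hvw dot_V0_W0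

/-- The 4600 minimal vectors with inner product 16 with `W0`. -/
def X4600 : Set leechLattice :=
  {x : leechLattice | sqNorm (x : GolayPt → ℤ) = 32 ∧
    dotInt (W0 : GolayPt → ℤ) (x : GolayPt → ℤ) = 16}

theorem ncard_X4600 : X4600.ncard = 4600 := by
  have hw : (W0 : GolayPt → ℤ) ∈ MinF := mem_MinF.2 ⟨W0.2, sqNorm_W0⟩
  unfold X4600
  rw [ncard_dot_sub, nT_16 hw]

theorem fixesC_iff (g : Co0) : Fixes g [w0] ↔ g • W0 = W0 := by
  constructor
  · intro h
    exact h w0 (by simp) _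
  · intro h1 t ht htL
    simp only [List.mem_cons, List.not_mem_nil, or_false] at ht
    subst ht
    exact h1

theorem orbListA : OrbList [w0] xm (forestList sgC achunks) ∧
    (forestList sgC achunks).length = 4600 ∧
    ((forestList sgC achunks).filter p2025).length = 2025 := by
  have h := forest_orbList (ts := [w0]) sgC_ok fixC_ok (mem_of_inLeech xm_mem)
    aall_ok alink_ok amerge_ok
  exact ⟨h.1, h.2.1, by rw [h.2.2, astat_sum]⟩

/-- The standard set has 2025 elements. -/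
theorem ncard_std : (mcl2Set V0 W0).ncard = 2025 := by
  have h := orbListA.1.ncard_filter X4600
    (by rw [mkL_of_mem (mem_of_inLeech xm_mem)]; exact ⟨XM_mem.1, XM_mem.2.2⟩)
    (by
      intro g hg x hx
      rw [fixesC_iff] at hg
      refine ⟨by rw [Co0_sqNorm]; exact hx.1, ?_⟩
      have := Co0_dot g W0 x
      rw [hg] at this
      rw [this]; exact hx.2)
    (by rw [orbListA.2.1]; norm_num)
    (by rw [orbListA.2.1]; exact ncard_X4600)
    (fun x => dotInt (V0 : GolayPt → ℤ) (x : GolayPt → ℤ) = 0) p2025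
    (by
      intro y hy
      have hyL := (orbListA.1.inOrb y hy).mem
      rw [mkL_val hyL, dotV0]
      unfold p2025
      rw [decide_eq_true_eq])
  rw [orbListA.2.2] at h
  rw [← h]
  congr 1
  ext x
  constructor
  · rintro ⟨h1, h2, h3⟩
    exact ⟨⟨h1, h3⟩, h2⟩
  · rintro ⟨⟨h1, h3⟩, h2⟩
    exact ⟨h1, h2, h3⟩

theorem smul_W0 {g : Co0} (h1 : g • U0 = U0) (h2 : g • V0 = V0) : g • W0 = W0 := by
  rw [W0_eq, Co0_smul_sub, h1, h2]

theorem orbListB : OrbList [u0, McLData.v0] xm (forestList McLData.sg bchunks) ∧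
    (forestList McLData.sg bchunks).length = 2025 := by
  have h := forest_orbList (ts := [u0, McLData.v0]) McLData.sg_ok McLData.fix_ok
    (mem_of_inLeech xm_mem) ball_ok blink_ok bmerge_ok
  exact ⟨h.1, h.2.1⟩

/-- Transitivity on the standard set. -/
theorem trans_std : ∀ x ∈ mcl2Set V0 W0, ∀ x' ∈ mcl2Set V0 W0,
    ∃ g : Co0, g • V0 = V0 ∧ g • W0 = W0 ∧ g • x = x' := by
  have h := orbListB.1.trans (mcl2Set V0 W0)
    (by rw [mkL_of_mem (mem_of_inLeech xm_mem)]; exact XM_mem)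
    (by
      intro g hg x hx
      rw [McLData.fixes_iff] at hg
      have := smul_mem_mcl2Set g hx
      rwa [hg.2, smul_W0 hg.1 hg.2] at this)
    (by rw [orbListB.2]; norm_num)
    (by rw [orbListB.2]; exact ncard_std)
  intro x hx x' hx'
  obtain ⟨g, hg, hgx⟩ := h x hx x' hx'
  rw [McLData.fixes_iff] at hg
  exact ⟨g, hg.2, smul_W0 hg.1 hg.2, hgx⟩

theorem fixesP_imp {g : Co0} (hg : Fixes g [u0, McLData.v0, xm]) :
    g • V0 = V0 ∧ g • W0 = W0 ∧ g • XM = XM := by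
  have h1 : g • U0 = U0 := hg u0 (by simp) _
  have h2 : g • V0 = V0 := hg McLData.v0 (by simp) _
  have h3 : g • XM = XM := hg xm (by simp) _
  exact ⟨h2, smul_W0 h1 h2, h3⟩

theorem inv_sub (t : ℤ) (g : Co0) (hg : Fixes g [u0, McLData.v0, xm]) :
    ∀ y ∈ mcl2Sub V0 W0 XM t, g • y ∈ mcl2Sub V0 W0 XM t := by
  intro y hy
  obtain ⟨h1, h2, h3⟩ := fixesP_imp hg
  have := smul_mem_mcl2Sub g hy
  rwa [h1, h2, h3] at this

theorem root_mem {r : V} {t : ℤ} (hr : inLeech (toFn r) = true)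
    (hd : dotL r r = 32 ∧ dotL McLData.v0 r = 0 ∧ dotL w0 r = 16 ∧ dotL xm r = t) :
    (⟨toFn r, mem_of_inLeech hr⟩ : leechLattice) ∈ mcl2Sub V0 W0 XM t := by
  refine ⟨⟨?_, ?_, ?_⟩, ?_⟩
  · show sqNorm (toFn r) = 32
    rw [← sqNorm_spec]; exact hd.1
  · show dotInt (V0 : GolayPt → ℤ) (toFn r) = 0
    rw [dotV0]; exact hd.2.1
  · show dotInt (W0 : GolayPt → ℤ) (toFn r) = 16
    rw [dotW0]; exact hd.2.2.1
  · show dotInt (XM : GolayPt → ℤ) (toFn r) = t
    rw [dotXM]; exact hd.2.2.2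

def C0 : leechLattice := ⟨toFn croot, mem_of_inLeech croot_mem⟩
def D0 : leechLattice := ⟨toFn droot, mem_of_inLeech droot_mem⟩
def E0 : leechLattice := ⟨toFn eroot, mem_of_inLeech eroot_mem⟩

theorem C0_mem : C0 ∈ mcl2Sub V0 W0 XM 0 := root_mem croot_mem croot_dots
theorem D0_mem : D0 ∈ mcl2Sub V0 W0 XM 16 := root_mem droot_mem droot_dots
theorem E0_mem : E0 ∈ mcl2Sub V0 W0 XM 8 := root_mem eroot_mem eroot_dots

theorem orbListC : OrbList [u0, McLData.v0, xm] croot (forestList sgP cchunks) ∧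
    (forestList sgP cchunks).length = 330 := by
  have h := forest_orbList (ts := [u0, McLData.v0, xm]) sgP_ok fixP_ok (mem_of_inLeech croot_mem)
    call_ok clink_ok cmerge_ok
  exact ⟨h.1, h.2.1⟩

theorem orbListD : OrbList [u0, McLData.v0, xm] droot (forestList sgP dchunks) ∧
    (forestList sgP dchunks).length = 462 := by
  have h := forest_orbList (ts := [u0, McLData.v0, xm]) sgP_ok fixP_ok (mem_of_inLeech droot_mem)
    dall_ok dlink_ok dmerge_ok
  exact ⟨h.1, h.2.1⟩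

theorem orbListE : OrbList [u0, McLData.v0, xm] eroot (forestList sgP echunks) ∧
    (forestList sgP echunks).length = 1232 := by
  have h := forest_orbList (ts := [u0, McLData.v0, xm]) sgP_ok fixP_ok (mem_of_inLeech eroot_mem)
    eall_ok elink_ok emerge_ok
  exact ⟨h.1, h.2.1⟩

theorem mcl2Set_finite : (mcl2Set V0 W0).Finite :=
  Set.finite_of_ncard_pos (by rw [ncard_std]; norm_num)

theorem sub_subset (t : ℤ) : mcl2Sub V0 W0 XM t ⊆ mcl2Set V0 W0 := fun _ hy => hy.1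

theorem counts_and_union : (mcl2Sub V0 W0 XM 0).ncard = 330 ∧ (mcl2Sub V0 W0 XM 16).ncard = 462 ∧
    (mcl2Sub V0 W0 XM 8).ncard = 1232 ∧
    mcl2Sub V0 W0 XM 0 ∪ mcl2Sub V0 W0 XM 16 ∪ mcl2Sub V0 W0 XM 8 = mcl2Set V0 W0 \ {XM} := by
  have fC := mcl2Set_finite.subset (sub_subset 0)
  have fD := mcl2Set_finite.subset (sub_subset 16)
  have fE := mcl2Set_finite.subset (sub_subset 8)
  have lC : 330 ≤ (mcl2Sub V0 W0 XM 0).ncard := by
    have := orbListC.1.lower _ fC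
      (by rw [mkL_of_mem (mem_of_inLeech croot_mem)]; exact C0_mem) (inv_sub 0)
    rwa [orbListC.2] at this
  have lD : 462 ≤ (mcl2Sub V0 W0 XM 16).ncard := by
    have := orbListD.1.lower _ fD
      (by rw [mkL_of_mem (mem_of_inLeech droot_mem)]; exact D0_mem) (inv_sub 16)
    rwa [orbListD.2] at this
  have lE : 1232 ≤ (mcl2Sub V0 W0 XM 8).ncard := by
    have := orbListE.1.lower _ fE
      (by rw [mkL_of_mem (mem_of_inLeech eroot_mem)]; exact E0_mem) (inv_sub 8)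
    rwa [orbListE.2] at this
  have hdisj : ∀ s t : ℤ, s ≠ t → Disjoint (mcl2Sub V0 W0 XM s) (mcl2Sub V0 W0 XM t) := by
    intro s t hst
    rw [Set.disjoint_left]
    intro y h1 h2
    exact hst (h1.2.symm.trans h2.2)
  have d1 : Disjoint (mcl2Sub V0 W0 XM 0) (mcl2Sub V0 W0 XM 16) := hdisj _ _ (by norm_num)
  have d2 : Disjoint (mcl2Sub V0 W0 XM 0 ∪ mcl2Sub V0 W0 XM 16) (mcl2Sub V0 W0 XM 8) := by
    rw [Set.disjoint_union_left]
    exact ⟨hdisj _ _ (by norm_num), hdisj _ _ (by norm_num)⟩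
  have c1 := Set.ncard_union_eq d1 fC fD
  have c2 := Set.ncard_union_eq d2 (fC.union fD) fE
  have hunion : mcl2Sub V0 W0 XM 0 ∪ mcl2Sub V0 W0 XM 16 ∪ mcl2Sub V0 W0 XM 8
      ⊆ mcl2Set V0 W0 \ {XM} := by
    have key : ∀ t : ℤ, t ≠ 32 → mcl2Sub V0 W0 XM t ⊆ mcl2Set V0 W0 \ {XM} := by
      intro t ht y hy
      refine ⟨hy.1, ?_⟩
      intro h
      rw [Set.mem_singleton_iff] at h
      have h2 := hy.2
      rw [h, dotInt_self, sqNorm_XM] at h2
      exact ht h2.symm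
    intro y hy
    rcases hy with (hy | hy) | hy
    · exact key _ (by norm_num) hy
    · exact key _ (by norm_num) hy
    · exact key _ (by norm_num) hy
  have h2024 : (mcl2Set V0 W0 \ {XM}).ncard = 2024 := by
    rw [Set.ncard_sdiff_singleton_of_mem XM_mem, ncard_std]
  have hle := Set.ncard_le_ncard hunion (mcl2Set_finite.subset Set.sdiff_subset)
  refine ⟨by omega, by omega, by omega, ?_⟩
  exact Set.eq_of_subset_of_ncard_le hunion (by omega) (mcl2Set_finite.subset Set.sdiff_subset)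

theorem trans_sub {r : V} {t : ℤ} {cs : List Chunk} {n : ℕ} (hr : inLeech (toFn r) = true)
    (hmem : (⟨toFn r, mem_of_inLeech hr⟩ : leechLattice) ∈ mcl2Sub V0 W0 XM t)
    (hL : OrbList [u0, McLData.v0, xm] r (forestList sgP cs) ∧ (forestList sgP cs).length = n)
    (hn : 0 < n) (hcard : (mcl2Sub V0 W0 XM t).ncard = n) :
    ∀ y ∈ mcl2Sub V0 W0 XM t, ∀ y' ∈ mcl2Sub V0 W0 XM t,
      ∃ g : Co0, g • V0 = V0 ∧ g • W0 = W0 ∧ g • XM = XM ∧ g • y = y' := by
  have h := hL.1.trans (mcl2Sub V0 W0 XM t)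
    (by rw [mkL_of_mem (mem_of_inLeech hr)]; exact hmem) (inv_sub t)
    (by rw [hL.2]; exact hn) (by rw [hL.2]; exact hcard)
  intro y hy y' hy'
  obtain ⟨g, hg, hgy⟩ := h y hy y' hy'
  obtain ⟨h1, h2, h3⟩ := fixesP_imp hg
  exact ⟨g, h1, h2, h3, hgy⟩

theorem trans_sub_std (t : ℤ) : ∀ y ∈ mcl2Sub V0 W0 XM t, ∀ y' ∈ mcl2Sub V0 W0 XM t,
    ∃ g : Co0, g • V0 = V0 ∧ g • W0 = W0 ∧ g • XM = XM ∧ g • y = y' := by
  intro y hy y' hy'
  by_cases hyx : y = XM
  · have ht : t = 32 := by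
      have := hy.2
      rw [hyx, dotInt_self, sqNorm_XM] at this
      exact this.symm
    have hy'x : y' = XM := by
      have h1 := hy'.2
      rw [ht] at h1
      have h2 := sqNorm_sub' (XM : GolayPt → ℤ) (y' : GolayPt → ℤ)
      rw [sqNorm_XM, hy'.1.1, h1] at h2
      have h3 := sqNorm_eq_zero (x := (XM : GolayPt → ℤ) - (y' : GolayPt → ℤ)) (by omega)
      rw [sub_eq_zero] at h3
      exact (Subtype.ext h3).symm
    exact ⟨1, one_smul _ _, one_smul _ _, one_smul _ _, by rw [one_smul, hyx, hy'x]⟩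
  · have hmem : y ∈ mcl2Set V0 W0 \ {XM} := ⟨hy.1, hyx⟩
    rw [← counts_and_union.2.2.2] at hmem
    rcases hmem with (h | h) | h
    · have ht : t = 0 := hy.2.symm.trans h.2
      subst ht
      exact trans_sub croot_mem C0_mem orbListC (by norm_num) counts_and_union.1 y hy y' hy'
    · have ht : t = 16 := hy.2.symm.trans h.2
      subst ht
      exact trans_sub droot_mem D0_mem orbListD (by norm_num) counts_and_union.2.1 y hy y' hy'
    · have ht : t = 8 := hy.2.symm.trans h.2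
      subst ht
      exact trans_sub eroot_mem E0_mem orbListE (by norm_num) counts_and_union.2.2.1 y hy y' hy'

end McL2025Data

open McLData McL2025Data

theorem ncard_mcl2Set (v w : leechLattice) (hv : sqNorm (v : GolayPt → ℤ) = 32)
    (hw : sqNorm (w : GolayPt → ℤ) = 32)
    (hvw : dotInt (v : GolayPt → ℤ) (w : GolayPt → ℤ) = -8) : (mcl2Set v w).ncard = 2025 := by
  obtain ⟨h, h1, h2⟩ := exists_std_pair8 v w hv hw hvw
  have e := image_mcl2Set h v w
  rw [h1, h2] at e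
  have c := ncard_smul_image h (mcl2Set v w)
  rw [e] at c
  rw [← c]
  exact McL2025Data.ncard_std

theorem trans_mcl2Set (v w : leechLattice) (hv : sqNorm (v : GolayPt → ℤ) = 32)
    (hw : sqNorm (w : GolayPt → ℤ) = 32)
    (hvw : dotInt (v : GolayPt → ℤ) (w : GolayPt → ℤ) = -8) :
    ∀ x ∈ mcl2Set v w, ∀ x' ∈ mcl2Set v w, ∃ g : Co0, g • v = v ∧ g • w = w ∧ g • x = x' := by
  obtain ⟨h, h1, h2⟩ := exists_std_pair8 v w hv hw hvw
  intro x hx x' hx'
  have m1 := smul_mem_mcl2Set h hx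
  have m2 := smul_mem_mcl2Set h hx'
  rw [h1, h2] at m1 m2
  obtain ⟨g, g1, g2, g3⟩ := McL2025Data.trans_std _ m1 _ m2
  refine ⟨h⁻¹ * g * h, ?_, ?_, ?_⟩
  · rw [mul_smul, mul_smul, h1, g1, ← h1, inv_smul_smul]
  · rw [mul_smul, mul_smul, h2, g2, ← h2, inv_smul_smul]
  · rw [mul_smul, mul_smul, g3, inv_smul_smul]

theorem exists_std_triple8 (v w x : leechLattice) (hv : sqNorm (v : GolayPt → ℤ) = 32)
    (hw : sqNorm (w : GolayPt → ℤ) = 32)
    (hvw : dotInt (v : GolayPt → ℤ) (w : GolayPt → ℤ) = -8) (hx : x ∈ mcl2Set v w) :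
    ∃ h : Co0, h • v = V0 ∧ h • w = W0 ∧ h • x = XM := by
  obtain ⟨h0, h1, h2⟩ := exists_std_pair8 v w hv hw hvw
  have m1 := smul_mem_mcl2Set h0 hx
  rw [h1, h2] at m1
  obtain ⟨g, g1, g2, g3⟩ := McL2025Data.trans_std _ m1 _ XM_mem
  exact ⟨g * h0, by rw [mul_smul, h1, g1], by rw [mul_smul, h2, g2], by rw [mul_smul, g3]⟩

theorem ncard_mcl2Sub (v w x : leechLattice) (hv : sqNorm (v : GolayPt → ℤ) = 32)
    (hw : sqNorm (w : GolayPt → ℤ) = 32)
    (hvw : dotInt (v : GolayPt → ℤ) (w : GolayPt → ℤ) = -8) (hx : x ∈ mcl2Set v w) :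
    (mcl2Sub v w x 0).ncard = 330 ∧ (mcl2Sub v w x 16).ncard = 462 ∧
      (mcl2Sub v w x 8).ncard = 1232 := by
  obtain ⟨h, h1, h2, h3⟩ := exists_std_triple8 v w x hv hw hvw hx
  have key : ∀ t : ℤ, (mcl2Sub v w x t).ncard = (mcl2Sub V0 W0 XM t).ncard := by
    intro t
    have e := image_mcl2Sub h v w x t
    rw [h1, h2, h3] at e
    rw [← e, ncard_smul_image]
  rw [key, key, key]
  exact ⟨counts_and_union.1, counts_and_union.2.1, counts_and_union.2.2.1⟩

theorem trans_mcl2Sub (v w x : leechLattice) (hv : sqNorm (v : GolayPt → ℤ) = 32)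
    (hw : sqNorm (w : GolayPt → ℤ) = 32)
    (hvw : dotInt (v : GolayPt → ℤ) (w : GolayPt → ℤ) = -8) (hx : x ∈ mcl2Set v w) (t : ℤ) :
    ∀ y ∈ mcl2Sub v w x t, ∀ y' ∈ mcl2Sub v w x t,
    ∃ g : Co0, g • v = v ∧ g • w = w ∧ g • x = x ∧ g • y = y' := by
  obtain ⟨h, h1, h2, h3⟩ := exists_std_triple8 v w x hv hw hvw hx
  intro y hy y' hy'
  have m1 := smul_mem_mcl2Sub h hy
  have m2 := smul_mem_mcl2Sub h hy'
  rw [h1, h2, h3] at m1 m2
  obtain ⟨g, g1, g2, g3, g4⟩ := trans_sub_std t _ m1 _ m2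
  refine ⟨h⁻¹ * g * h, ?_, ?_, ?_, ?_⟩
  · rw [mul_smul, mul_smul, h1, g1, ← h1, inv_smul_smul]
  · rw [mul_smul, mul_smul, h2, g2, ← h2, inv_smul_smul]
  · rw [mul_smul, mul_smul, h3, g3, ← h3, inv_smul_smul]
  · rw [mul_smul, mul_smul, g4, inv_smul_smul]

/-- The orbits of the stabiliser of `v, w, x` are the sets `mcl2Sub v w x t`. -/
theorem orbit_eq_mcl2Sub (v w x : leechLattice) (hv : sqNorm (v : GolayPt → ℤ) = 32)
    (hw : sqNorm (w : GolayPt → ℤ) = 32)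
    (hvw : dotInt (v : GolayPt → ℤ) (w : GolayPt → ℤ) = -8) (hx : x ∈ mcl2Set v w) (t : ℤ)
    (y : leechLattice) (hy : y ∈ mcl2Sub v w x t) :
    MulAction.orbit ↥(MulAction.stabilizer ↥Co0 v ⊓ MulAction.stabilizer ↥Co0 w ⊓
      MulAction.stabilizer ↥Co0 x) y = mcl2Sub v w x t := by
  ext z
  constructor
  · rintro ⟨⟨g, hg⟩, rfl⟩
    rw [Subgroup.mem_inf, Subgroup.mem_inf, MulAction.mem_stabilizer_iff,
      MulAction.mem_stabilizer_iff, MulAction.mem_stabilizer_iff] at hg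
    have := smul_mem_mcl2Sub g hy
    rw [hg.1.1, hg.1.2, hg.2] at this
    exact this
  · intro hz
    obtain ⟨g, g1, g2, g3, g4⟩ := trans_mcl2Sub v w x hv hw hvw hx t y hy z hz
    refine ⟨⟨g, ?_⟩, g4⟩
    rw [Subgroup.mem_inf, Subgroup.mem_inf, MulAction.mem_stabilizer_iff,
      MulAction.mem_stabilizer_iff, MulAction.mem_stabilizer_iff]
    exact ⟨⟨g1, g2⟩, g3⟩

/-- Rank 4 of the McLaughlin group on 2025 points. -/
theorem mcl_rank4 (v w x : leechLattice) (hv : sqNorm (v : GolayPt → ℤ) = 32)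
    (hw : sqNorm (w : GolayPt → ℤ) = 32)
    (hvw : dotInt (v : GolayPt → ℤ) (w : GolayPt → ℤ) = -8) (hx : x ∈ mcl2Set v w) :
    ∃ y₁ ∈ mcl2Set v w, ∃ y₂ ∈ mcl2Set v w, ∃ y₃ ∈ mcl2Set v w,
      (MulAction.orbit ↥(MulAction.stabilizer ↥Co0 v ⊓ MulAction.stabilizer ↥Co0 w ⊓
        MulAction.stabilizer ↥Co0 x) y₁).ncard = 330 ∧
      (MulAction.orbit ↥(MulAction.stabilizer ↥Co0 v ⊓ MulAction.stabilizer ↥Co0 w ⊓
        MulAction.stabilizer ↥Co0 x) y₂).ncard = 462 ∧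
      (MulAction.orbit ↥(MulAction.stabilizer ↥Co0 v ⊓ MulAction.stabilizer ↥Co0 w ⊓
        MulAction.stabilizer ↥Co0 x) y₃).ncard = 1232 := by
  obtain ⟨h, h1, h2, h3⟩ := exists_std_triple8 v w x hv hw hvw hx
  have key : ∀ (Y : leechLattice) (t : ℤ), Y ∈ mcl2Sub V0 W0 XM t → h⁻¹ • Y ∈ mcl2Sub v w x t := by
    intro Y t hY
    have := smul_mem_mcl2Sub h⁻¹ hY
    rwa [← h1, ← h2, ← h3, inv_smul_smul, inv_smul_smul, inv_smul_smul] at this
  have m1 := key _ _ C0_mem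
  have m2 := key _ _ D0_mem
  have m3 := key _ _ E0_mem
  obtain ⟨c1, c2, c3⟩ := ncard_mcl2Sub v w x hv hw hvw hx
  refine ⟨_, m1.1, _, m2.1, _, m3.1, ?_⟩
  rw [orbit_eq_mcl2Sub v w x hv hw hvw hx _ _ m1, orbit_eq_mcl2Sub v w x hv hw hvw hx _ _ m2,
    orbit_eq_mcl2Sub v w x hv hw hvw hx _ _ m3]
  exact ⟨c1, c2, c3⟩

end Cfsg.Agent.Lib.H27
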