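/-
helper27 library: simplicity of a finite group from a simple point stabilizer, the
suborbit lengths and a fixed-point count (no regular normal subgroup).
-/
import Mathlib

set_option autoImplicit false

namespace Cfsg.Agent.Lib.H27

open MulAction

section General

variable {G α : Type*} [Group G] [MulAction G α]

/-- The orbit of a point under a normal subgroup is invariant under the point stabilizer. -/
theorem orbit_normal_stab_inv (N : Subgroup G) [hN : N.Normal] (x₀ : α) (h : G)
    (hh : h • x₀ = x₀) {y : α} (hy : y ∈ orbit N x₀) : h • y ∈ orbit N x₀ := by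
  obtain ⟨n, rfl⟩ := hy
  refine ⟨⟨h * n.1 * h⁻¹, hN.conj_mem _ n.2 h⟩, ?_⟩
  change (h * n.1 * h⁻¹) • x₀ = h • (n.1 • x₀)
  rw [mul_smul, mul_smul]
  congr 2
  rw [inv_smul_eq_iff, hh]

theorem orbit_subgroup_subset (N : Subgroup G) (x₀ : α) : orbit N x₀ ⊆ orbit G x₀ := by
  rintro _ ⟨n, rfl⟩
  exact ⟨n.1, rfl⟩

/-- The orbit of a point under a normal subgroup has size dividing the size of the
full orbit. -/
theorem ncard_orbit_normal_dvd [Finite G] (N : Subgroup G) [hN : N.Normal] (x₀ : α) :
    (orbit N x₀).ncard ∣ (orbit G x₀).ncard := by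
  classical
  let X := orbit G x₀
  let x' : X := ⟨x₀, mem_orbit_self x₀⟩
  have hB : IsBlock G (orbit N x') := IsBlock.orbit_of_normal x'
  have hdvd := hB.ncard_dvd_card ⟨x', mem_orbit_self x'⟩
  have e1 : (orbit N x').ncard = (orbit N x₀).ncard := by
    rw [← Set.ncard_image_of_injective (orbit N x') Subtype.val_injective]
    congr 1
    ext y
    constructor
    · rintro ⟨_, ⟨n, rfl⟩, rfl⟩
      exact ⟨n, rfl⟩
    · rintro ⟨n, rfl⟩
      exact ⟨n • x', ⟨n, rfl⟩, rfl⟩
  have e2 : Nat.card X = (orbit G x₀).ncard := Nat.card_coe_set_eq _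
  rw [e1, e2] at hdvd
  exact hdvd

theorem orbit_finite' [Finite G] (x₀ : α) : (orbit G x₀).Finite := Set.finite_range _

/-- `ncard` of a finite disjoint union of finite sets. -/
theorem ncard_biUnion_fin {ι : Type*} [DecidableEq ι] (O : ι → Set α) (T : Finset ι)
    (hfin : ∀ i ∈ T, (O i).Finite)
    (hdisj : ∀ i j, i ≠ j → Disjoint (O i) (O j)) :
    (⋃ i ∈ T, O i).ncard = ∑ i ∈ T, (O i).ncard ∧ (⋃ i ∈ T, O i).Finite := by
  induction T using Finset.induction_on with
  | empty => simp
  | insert a s ha ih =>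
    have ih' := ih (fun i hi => hfin i (Finset.mem_insert_of_mem hi))
    have hfa := hfin a (Finset.mem_insert_self a s)
    have hU : (⋃ i ∈ insert a s, O i) = O a ∪ ⋃ i ∈ s, O i := by
      ext y; simp
    have hd : Disjoint (O a) (⋃ i ∈ s, O i) := by
      rw [Set.disjoint_iUnion₂_right]
      intro i hi
      exact hdisj a i (fun h => ha (h ▸ hi))
    rw [hU, Finset.sum_insert ha, Set.ncard_union_eq hd hfa ih'.2, ih'.1]
    exact ⟨rfl, hfa.union ih'.2⟩

end General

section Main

variable {G α : Type*} [Group G] [Finite G] [MulAction G α]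

/-- Suborbit data for the stabilizer of `x₀`: the orbit of `x₀` is the disjoint union of
the sets `O i`, each of which is a single orbit of the stabilizer, with `O i₀ = {x₀}`. -/
structure SubData (G : Type*) {α : Type*} [Group G] [MulAction G α] (x₀ : α) (ι : Type*)
    (O : ι → Set α) (c : ι → ℕ) (i₀ : ι) : Prop where
  base : O i₀ = {x₀}
  cover : orbit G x₀ = ⋃ i, O i
  disj : ∀ i j, i ≠ j → Disjoint (O i) (O j)
  trans : ∀ i, ∀ y ∈ O i, ∀ y' ∈ O i, ∃ h : G, h • x₀ = x₀ ∧ h • y = y'
  card : ∀ i, (O i).ncard = c i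

variable {x₀ : α} {ι : Type*} [Fintype ι] [DecidableEq ι] {O : ι → Set α} {c : ι → ℕ} {i₀ : ι}

theorem SubData.sub_orbit (D : SubData G x₀ ι O c i₀) (i : ι) : O i ⊆ orbit G x₀ := by
  rw [D.cover]; exact Set.subset_iUnion O i

theorem SubData.fin (D : SubData G x₀ ι O c i₀) (i : ι) : (O i).Finite :=
  (orbit_finite' x₀).subset (D.sub_orbit i)

theorem SubData.card_orbit (D : SubData G x₀ ι O c i₀) : (orbit G x₀).ncard = ∑ i, c i := by
  have h := (ncard_biUnion_fin O Finset.univ (fun i _ => D.fin i) D.disj).1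
  have e : (⋃ i ∈ (Finset.univ : Finset ι), O i) = ⋃ i, O i := by ext y; simp
  rw [e, ← D.cover] at h
  rw [h]
  exact Finset.sum_congr rfl (fun i _ => D.card i)

/-- The orbit of `x₀` under a normal subgroup is a union of suborbits whose total size
divides the size of the full orbit. -/
theorem SubData.normal_orbit (D : SubData G x₀ ι O c i₀) (N : Subgroup G) [hN : N.Normal] :
    ∃ T : Finset ι, i₀ ∈ T ∧ orbit N x₀ = ⋃ i ∈ T, O i ∧
      (orbit N x₀).ncard = ∑ i ∈ T, c i ∧ (∑ i ∈ T, c i) ∣ ∑ i, c i := by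
  classical
  let T : Finset ι := Finset.univ.filter (fun i => (O i ∩ orbit N x₀).Nonempty)
  have hT : ∀ i, i ∈ T ↔ (O i ∩ orbit N x₀).Nonempty := by
    intro i; simp [T]
  have hB : orbit N x₀ = ⋃ i ∈ T, O i := by
    ext y
    simp only [Set.mem_iUnion, exists_prop]
    constructor
    · intro hy
      have hy' : y ∈ ⋃ i, O i := by
        rw [← D.cover]; exact orbit_subgroup_subset N x₀ hy
      obtain ⟨i, hi⟩ := Set.mem_iUnion.1 hy'
      exact ⟨i, (hT i).2 ⟨y, hi, hy⟩, hi⟩
    · rintro ⟨i, hi, hy⟩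
      obtain ⟨z, hz, hzN⟩ := (hT i).1 hi
      obtain ⟨h, hh, rfl⟩ := D.trans i z hz y hy
      exact orbit_normal_stab_inv N x₀ h hh hzN
  have h0 : i₀ ∈ T := by
    rw [hT]
    refine ⟨x₀, ?_, mem_orbit_self (M := N) x₀⟩
    rw [D.base]; rfl
  have hc : (orbit N x₀).ncard = ∑ i ∈ T, c i := by
    rw [hB, (ncard_biUnion_fin O T (fun i _ => D.fin i) D.disj).1]
    exact Finset.sum_congr rfl (fun i _ => D.card i)
  refine ⟨T, h0, hB, hc, ?_⟩
  rw [← hc, ← D.card_orbit]
  exact ncard_orbit_normal_dvd N x₀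

/-- A transitive normal subgroup containing the point stabilizer is everything. -/
theorem eq_top_of_transitive_of_stab_le (N : Subgroup G)
    (htr : orbit N x₀ = orbit G x₀) (hle : stabilizer G x₀ ≤ N) : N = ⊤ := by
  rw [eq_top_iff]
  intro g _
  have hg : g • x₀ ∈ orbit N x₀ := by rw [htr]; exact ⟨g, rfl⟩
  obtain ⟨n, hn⟩ := hg
  have hn' : n.1 • x₀ = g • x₀ := hn
  have : n.1⁻¹ * g ∈ stabilizer G x₀ := by
    rw [mem_stabilizer_iff, mul_smul, ← hn', inv_smul_smul]
  have h2 := N.mul_mem n.2 (hle this)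
  rwa [mul_inv_cancel_left] at h2

/-- For a normal subgroup `N`, the intersection with a simple point stabilizer is trivial
or everything. -/
theorem stab_le_or_inf_eq_bot (hH : IsSimpleGroup (stabilizer G x₀)) (N : Subgroup G)
    [hN : N.Normal] : stabilizer G x₀ ≤ N ∨ N ⊓ stabilizer G x₀ = ⊥ := by
  have hnorm : (N.subgroupOf (stabilizer G x₀)).Normal := hN.subgroupOf _
  rcases hH.eq_bot_or_eq_top_of_normal _ hnorm with h | h
  · right
    rw [Subgroup.subgroupOf_eq_bot] at h
    rw [disjoint_iff] at h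
    exact h
  · left
    rwa [Subgroup.subgroupOf_eq_top] at h

/-- A regular normal subgroup forces all fixed-point counts to divide the degree. -/
theorem fix_dvd_of_regular (N : Subgroup G) [hN : N.Normal]
    (htr : orbit N x₀ = orbit G x₀) (hreg : N ⊓ stabilizer G x₀ = ⊥)
    (h : G) (y : α) (hy : y ∈ orbit G x₀) (hfix : h • y = y) :
    {z ∈ orbit G x₀ | h • z = z}.ncard ∣ (orbit G x₀).ncard := by
  classical
  obtain ⟨g, rfl⟩ := hy
  replace hfix : h • g • x₀ = g • x₀ := hfix
  -- N acts regularly with base point g • x₀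
  have hsurj : ∀ z ∈ orbit G x₀, ∃ n : N, n.1 • (g • x₀) = z := by
    intro z hz
    have hz' : g⁻¹ • z ∈ orbit N x₀ := by
      rw [htr]
      obtain ⟨k, rfl⟩ := hz
      exact ⟨g⁻¹ * k, by simp [mul_smul]⟩
    obtain ⟨n, hn⟩ := hz'
    have hn' : n.1 • x₀ = g⁻¹ • z := hn
    refine ⟨⟨g * n.1 * g⁻¹, hN.conj_mem _ n.2 g⟩, ?_⟩
    change (g * n.1 * g⁻¹) • g • x₀ = z
    rw [mul_smul, inv_smul_smul, mul_smul, hn', smul_inv_smul]
  have hstab : ∀ a : G, a ∈ N → a • (g • x₀) = g • x₀ → a = 1 := by
    intro a ha hfa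
    have h1 : g⁻¹ * a * g ∈ N := by
      have := hN.conj_mem a ha g⁻¹
      rwa [inv_inv] at this
    have h2 : g⁻¹ * a * g ∈ stabilizer G x₀ := by
      rw [mem_stabilizer_iff, mul_smul, mul_smul, hfa, inv_smul_smul]
    have h3 : g⁻¹ * a * g ∈ N ⊓ stabilizer G x₀ := Subgroup.mem_inf.2 ⟨h1, h2⟩
    rw [hreg, Subgroup.mem_bot] at h3
    have : a = g * (g⁻¹ * a * g) * g⁻¹ := by group
    rw [this, h3]; group
  have hinj : ∀ a b : G, a ∈ N → b ∈ N → a • (g • x₀) = b • (g • x₀) → a = b := by
    intro a b ha hb hab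
    have : b⁻¹ * a = 1 := by
      apply hstab _ (N.mul_mem (N.inv_mem hb) ha)
      rw [mul_smul, hab, inv_smul_smul]
    rw [inv_mul_eq_one] at this
    exact this.symm
  -- |N| = |orbit|
  have hcardN : Nat.card N = (orbit G x₀).ncard := by
    rw [← Nat.card_coe_set_eq]
    refine Nat.card_congr (Equiv.ofBijective
      (fun n : N => (⟨n.1 • (g • x₀), ⟨n.1 * g, mul_smul n.1 g x₀⟩⟩ : orbit G x₀)) ⟨?_, ?_⟩)
    · intro a b hab
      have := congrArg Subtype.val hab
      exact Subtype.ext (hinj a.1 b.1 a.2 b.2 this)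
    · rintro ⟨z, hz⟩
      obtain ⟨n, hn⟩ := hsurj z hz
      exact ⟨n, Subtype.ext hn⟩
  -- the centralizer of h in N
  let C : Subgroup G := N ⊓ Subgroup.centralizer {h}
  have hCmem : ∀ a : G, a ∈ C ↔ a ∈ N ∧ h * a = a * h := by
    intro a
    simp only [C, Subgroup.mem_inf, Subgroup.mem_centralizer_iff, Set.mem_singleton_iff,
      forall_eq]
  have hcardC : Nat.card C = {z ∈ orbit G x₀ | h • z = z}.ncard := by
    rw [← Nat.card_coe_set_eq]
    refine Nat.card_congr (Equiv.ofBijective
      (fun n : C => (⟨n.1 • (g • x₀), ⟨⟨n.1 * g, mul_smul n.1 g x₀⟩, ?_⟩⟩ :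
        {z ∈ orbit G x₀ | h • z = z})) ⟨?_, ?_⟩)
    · have := ((hCmem n.1).1 n.2).2
      change h • n.1 • g • x₀ = n.1 • g • x₀
      rw [← mul_smul, this, mul_smul, hfix]
    · intro a b hab
      have := congrArg Subtype.val hab
      exact Subtype.ext (hinj a.1 b.1 ((hCmem a.1).1 a.2).1 ((hCmem b.1).1 b.2).1 this)
    · rintro ⟨z, hz, hzf⟩
      obtain ⟨n, hn⟩ := hsurj z hz
      have hcomm : h * n.1 * h⁻¹ = n.1 := by
        apply hinj _ _ (hN.conj_mem _ n.2 h) n.2
        rw [mul_smul, mul_smul]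
        have : h⁻¹ • g • x₀ = g • x₀ := by rw [inv_smul_eq_iff, hfix]
        rw [this, hn, hzf]
      have hnC : n.1 ∈ C := by
        rw [hCmem]
        refine ⟨n.2, ?_⟩
        calc h * n.1 = (h * n.1 * h⁻¹) * h := by group
          _ = n.1 * h := by rw [hcomm]
      exact ⟨⟨n.1, hnC⟩, Subtype.ext hn⟩
  rw [← hcardC, ← hcardN]
  exact Subgroup.card_dvd_of_le inf_le_left

/-- Non-regularity witness: an element with a fixed point in the orbit whose number of
fixed points does not divide the degree. -/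
def NonRegular (G : Type*) {α : Type*} [Group G] [MulAction G α] (x₀ : α) : Prop :=
  ∃ h : G, (∃ y ∈ orbit G x₀, h • y = y) ∧
    ¬ ({z ∈ orbit G x₀ | h • z = z}.ncard ∣ (orbit G x₀).ncard)

/-- A normal subgroup transitive on the orbit of `x₀` is everything, if the point
stabilizer is simple and no regular normal subgroup can exist. -/
theorem eq_top_of_transitive (hH : IsSimpleGroup (stabilizer G x₀))
    (hfix : NonRegular G x₀) (N : Subgroup G) [hN : N.Normal]
    (htr : orbit N x₀ = orbit G x₀) : N = ⊤ := by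
  rcases stab_le_or_inf_eq_bot hH N with h | h
  · exact eq_top_of_transitive_of_stab_le N htr h
  · exfalso
    obtain ⟨k, ⟨y, hy, hky⟩, hnd⟩ := hfix
    exact hnd (fix_dvd_of_regular N htr h k y hy hky)

/-- Simplicity from a simple point stabilizer: the primitive case. -/
theorem isSimpleGroup_of_subData (D : SubData G x₀ ι O c i₀)
    (hH : IsSimpleGroup (stabilizer G x₀))
    (harith : ∀ T : Finset ι, i₀ ∈ T → (∑ i ∈ T, c i) ∣ (∑ i, c i) →
      T = {i₀} ∨ T = Finset.univ)
    (hbig : ∃ i, 2 ≤ c i)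
    (hfix : NonRegular G x₀) : IsSimpleGroup G := by
  classical
  have hnt : Nontrivial G := by
    obtain ⟨a, b, hab⟩ := hH.toNontrivial
    exact ⟨a.1, b.1, fun h => hab (Subtype.ext h)⟩
  refine { toNontrivial := hnt, eq_bot_or_eq_top_of_normal := ?_ }
  intro N hN
  obtain ⟨T, h0, hB, hc, hdvd⟩ := D.normal_orbit N
  rcases harith T h0 hdvd with hT | hT
  · -- N fixes x₀
    left
    have hBx : orbit N x₀ = {x₀} := by
      rw [hB, hT]
      simp [D.base]
    have hle : N ≤ stabilizer G x₀ := by
      intro n hn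
      have : n • x₀ ∈ orbit N x₀ := ⟨⟨n, hn⟩, rfl⟩
      rw [hBx] at this
      exact this
    rcases stab_le_or_inf_eq_bot hH N with h | h
    · -- stabilizer normal: contradiction with a nontrivial suborbit
      exfalso
      have hEq : N = stabilizer G x₀ := le_antisymm hle h
      obtain ⟨i, hi⟩ := hbig
      rw [← D.card i] at hi
      have hne : (O i).Nontrivial := by
        have := (Set.one_lt_ncard_iff_nontrivial_and_finite (s := O i)).1 (by omega)
        exact this.1
      obtain ⟨y, hy, y', hy', hyy'⟩ := hne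
      obtain ⟨k, hk, hky⟩ := D.trans i y hy y' hy'
      obtain ⟨g, rfl⟩ := D.sub_orbit i hy
      have hkN : k ∈ N := by rw [hEq]; exact hk
      have h1 : g⁻¹ * k * g ∈ N := by
        have := hN.conj_mem k hkN g⁻¹
        rwa [inv_inv] at this
      have h2 := hle h1
      rw [mem_stabilizer_iff, mul_smul, mul_smul, inv_smul_eq_iff] at h2
      exact hyy' (h2.symm.trans hky)
    · rw [inf_eq_left.2 hle] at h
      exact h
  · right
    apply eq_top_of_transitive hH hfix N
    rw [hB, hT, D.cover]
    ext y; simp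

/-- The version with a centre: every normal subgroup is central or everything. -/
theorem normal_le_center_or_eq_top (D : SubData G x₀ ι O c i₀)
    (hH : IsSimpleGroup (stabilizer G x₀))
    (harith : ∀ T : Finset ι, i₀ ∈ T → (∑ i ∈ T, c i) ∣ (∑ i, c i) →
      (∑ i ∈ T, c i) ≤ 2 ∨ T = Finset.univ)
    (hbig : ∃ i, 3 ≤ c i)
    (hfix : NonRegular G x₀) (N : Subgroup G) [hN : N.Normal] :
    N ≤ Subgroup.center G ∨ N = ⊤ := by
  classical
  obtain ⟨T, h0, hB, hc, hdvd⟩ := D.normal_orbit N
  rcases harith T h0 hdvd with hT | hT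
  · left
    rw [← hc] at hT
    rcases stab_le_or_inf_eq_bot hH N with h | h
    · exfalso
      obtain ⟨i, hi⟩ := hbig
      rw [← D.card i] at hi
      -- pick y in O i, y = g x₀; then g⁻¹ • O i ⊆ orbit N x₀
      have hne : (O i).Nonempty := by
        rw [← Set.ncard_pos (D.fin i)]; omega
      obtain ⟨y, hy⟩ := hne
      obtain ⟨g, rfl⟩ := D.sub_orbit i hy
      have hsub : (fun z => g⁻¹ • z) '' (O i) ⊆ orbit N x₀ := by
        rintro _ ⟨z, hz, rfl⟩
        obtain ⟨k, hk, hkz⟩ := D.trans i _ hy z hz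
        have hkN : g⁻¹ * k * g ∈ N := by
          have := hN.conj_mem k (h hk) g⁻¹
          rwa [inv_inv] at this
        refine ⟨⟨g⁻¹ * k * g, hkN⟩, ?_⟩
        change (g⁻¹ * k * g) • x₀ = g⁻¹ • z
        rw [mul_smul, mul_smul, hkz]
      have hfinN : (orbit N x₀).Finite := Set.finite_range _
      have h1 := Set.ncard_le_ncard hsub hfinN
      rw [Set.ncard_image_of_injective _ (MulAction.injective g⁻¹)] at h1
      omega
    · -- N acts semiregularly: |N| = |orbit N x₀| ≤ 2
      have hcardN : Nat.card N = (orbit N x₀).ncard := by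
        rw [← Nat.card_coe_set_eq]
        refine Nat.card_congr (Equiv.ofBijective
          (fun n : N => (⟨n • x₀, ⟨n, rfl⟩⟩ : orbit N x₀)) ⟨?_, ?_⟩)
        · intro a b hab
          have hab' : a.1 • x₀ = b.1 • x₀ := congrArg Subtype.val hab
          have h3 : b.1⁻¹ * a.1 ∈ N ⊓ stabilizer G x₀ := by
            refine Subgroup.mem_inf.2 ⟨N.mul_mem (N.inv_mem b.2) a.2, ?_⟩
            rw [mem_stabilizer_iff, mul_smul, hab', inv_smul_smul]
          rw [h, Subgroup.mem_bot, inv_mul_eq_one] at h3
          exact Subtype.ext h3.symm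
        · rintro ⟨z, n, rfl⟩
          exact ⟨n, rfl⟩
      have hle2 : Nat.card N ≤ 2 := by rw [hcardN]; exact hT
      intro n hn
      rw [Subgroup.mem_center_iff]
      intro g
      by_contra hne
      have hconj : g * n * g⁻¹ ∈ N := hN.conj_mem n hn g
      have hne' : g * n * g⁻¹ ≠ n := by
        intro he
        apply hne
        calc g * n = (g * n * g⁻¹) * g := by group
          _ = n * g := by rw [he]
      have hn1 : n ≠ 1 := by
        intro he
        apply hne
        rw [he]; simp
      have hne1 : g * n * g⁻¹ ≠ 1 := by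
        intro he
        apply hn1
        have : n = g⁻¹ * (g * n * g⁻¹) * g := by group
        rw [this, he]; group
      have : 3 ≤ Nat.card N := by
        have hinj : Function.Injective (fun i : Fin 3 =>
            (![(⟨1, N.one_mem⟩ : N), ⟨n, hn⟩, ⟨g * n * g⁻¹, hconj⟩] i)) := by
          intro i j hij
          fin_cases i <;> fin_cases j <;>
            first
              | rfl
              | (exfalso
                 have h' := congrArg Subtype.val hij
                 simp only [Matrix.cons_val_zero, Matrix.cons_val_one, Matrix.cons_val] at h'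
                 first
                   | exact hn1 h'
                   | exact hn1 h'.symm
                   | exact hne1 h'
                   | exact hne1 h'.symm
                   | exact hne' h'
                   | exact hne' h'.symm)
        have := Nat.card_le_card_of_injective _ hinj
        simpa using this
      omega
  · right
    apply eq_top_of_transitive hH hfix N
    rw [hB, hT, D.cover]
    ext y; simp

end Main

end Cfsg.Agent.Lib.H27
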