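/-
helper27 library: the simplicity criterion of `SimpleStab` for a subgroup `K` of a group `G`
acting on a set, phrased with elements of `G`.
-/
import Mathlib
import Cfsg.Agent.Lib.H27.SimpleStab
import Cfsg.Agent.Lib.H27.StabTools

set_option autoImplicit false

namespace Cfsg.Agent.Lib.H27

open MulAction

variable {G α : Type*} [Group G] [Finite G] [MulAction G α]

/-- Suborbit data for a subgroup `K` of `G`, in terms of elements of `G`. -/
theorem subData_of_sub (K : Subgroup G) (x : α) (S : Set α)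
    (hx : x ∈ S) (hinv : ∀ g ∈ K, ∀ y ∈ S, g • y ∈ S) (htr : ∀ y ∈ S, ∃ g ∈ K, g • x = y)
    {ι : Type*} (O : ι → Set α) (c : ι → ℕ) (i₀ : ι)
    (hO0 : O i₀ = {x}) (hcover : S = ⋃ i, O i)
    (hdisj : ∀ i j, i ≠ j → Disjoint (O i) (O j))
    (htrans : ∀ i, ∀ y ∈ O i, ∀ y' ∈ O i, ∃ g ∈ K, g • x = x ∧ g • y = y')
    (hcard : ∀ i, (O i).ncard = c i) : SubData ↥K x ι O c i₀ where
  base := hO0
  cover := by rw [orbit_sub_eq K x S hx hinv htr, hcover]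
  disj := hdisj
  trans := by
    intro i y hy y' hy'
    obtain ⟨g, hg, h1, h2⟩ := htrans i y hy y' hy'
    exact ⟨⟨g, hg⟩, h1, h2⟩
  card := hcard

/-- A non-regularity witness for a subgroup `K` of `G`. -/
theorem nonRegular_of_sub (K : Subgroup G) (x : α) (S : Set α)
    (hx : x ∈ S) (hinv : ∀ g ∈ K, ∀ y ∈ S, g • y ∈ S) (htr : ∀ y ∈ S, ∃ g ∈ K, g • x = y)
    (n : ℕ) (hn : S.ncard = n)
    (h : G) (hK : h ∈ K) (k : ℕ) (hk : {z | z ∈ S ∧ h • z = z}.ncard = k) (hkpos : 0 < k)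
    (hnd : ¬ k ∣ n) : NonRegular ↥K x := by
  have ho := orbit_sub_eq K x S hx hinv htr
  refine ⟨⟨h, hK⟩, ?_, ?_⟩
  · have hne : {z | z ∈ S ∧ h • z = z}.Nonempty := by
      apply Set.nonempty_of_ncard_ne_zero
      rw [hk]; omega
    obtain ⟨z, hz, hfz⟩ := hne
    exact ⟨z, by rw [ho]; exact hz, hfz⟩
  · rw [ho, hn]
    have e : {z | z ∈ S ∧ (⟨h, hK⟩ : K) • z = z} = {z | z ∈ S ∧ h • z = z} := rfl
    have e' : {z ∈ S | (⟨h, hK⟩ : K) • z = z} = {z | z ∈ S ∧ h • z = z} := rfl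
    rw [e', hk]
    exact hnd

/-- Simplicity of a subgroup `K` from a simple point stabilizer. -/
theorem isSimpleGroup_sub (K : Subgroup G) (x : α) (S : Set α)
    (hx : x ∈ S) (hinv : ∀ g ∈ K, ∀ y ∈ S, g • y ∈ S) (htr : ∀ y ∈ S, ∃ g ∈ K, g • x = y)
    {ι : Type*} [Fintype ι] [DecidableEq ι] (O : ι → Set α) (c : ι → ℕ) (i₀ : ι)
    (hO0 : O i₀ = {x}) (hcover : S = ⋃ i, O i)
    (hdisj : ∀ i j, i ≠ j → Disjoint (O i) (O j))
    (htrans : ∀ i, ∀ y ∈ O i, ∀ y' ∈ O i, ∃ g ∈ K, g • x = x ∧ g • y = y')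
    (hcard : ∀ i, (O i).ncard = c i)
    (hsimple : IsSimpleGroup ↥(K ⊓ stabilizer G x))
    (harith : ∀ T : Finset ι, i₀ ∈ T → (∑ i ∈ T, c i) ∣ (∑ i, c i) →
      T = {i₀} ∨ T = Finset.univ)
    (hbig : ∃ i, 2 ≤ c i)
    (n : ℕ) (hn : S.ncard = n)
    (h : G) (hK : h ∈ K) (k : ℕ) (hk : {z | z ∈ S ∧ h • z = z}.ncard = k) (hkpos : 0 < k)
    (hnd : ¬ k ∣ n) : IsSimpleGroup ↥K := by
  have D := subData_of_sub K x S hx hinv htr O c i₀ hO0 hcover hdisj htrans hcard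
  have hH : IsSimpleGroup (stabilizer ↥K x) := (stabSubEquiv K x).isSimpleGroup
  exact isSimpleGroup_of_subData D hH harith hbig
    (nonRegular_of_sub K x S hx hinv htr n hn h hK k hk hkpos hnd)

end Cfsg.Agent.Lib.H27
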