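/-
helper27 library: the stabilizer of a McLaughlin pair of the Leech lattice is simple of
order 898128000.
-/
import Mathlib
import Cfsg.Prelude.Def_Sporadic_a
import Cfsg.Agent.Lib.H27.M22Embed2
import Cfsg.Agent.Lib.H27.SimpleSub
import Cfsg.Agent.Lib.H27.DotSub
import Cfsg.Agent.Lib.H27.McL2025
import Cfsg.Agent.Lib.H27.SimpleDataMcL
import Cfsg.Agent.Lib.H27.HSInv

set_option autoImplicit false

namespace Cfsg.Agent.Lib.H27

open Cfsg MulAction Cfsg.Agent.Lib.H28 Cfsg.Agent.Lib.H27.Eng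

namespace McL2025Data

open McLData SimpleDataMcL

/-- The standard McLaughlin group. -/
abbrev KM : Subgroup Co0 := stabilizer Co0 V0 ⊓ stabilizer Co0 W0

def tM : Fin 4 → ℤ := ![32, 0, 16, 8]

def cM : Fin 4 → ℕ := ![1, 330, 462, 1232]

theorem KM_inv : ∀ g ∈ KM, ∀ y ∈ mcl2Set V0 W0, g • y ∈ mcl2Set V0 W0 := by
  intro g hg y hy
  have h1 := Subgroup.mem_inf.1 hg
  have := smul_mem_mcl2Set g hy
  rwa [mem_stabilizer_iff.1 h1.1, mem_stabilizer_iff.1 h1.2] at this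

theorem KM_tr : ∀ y ∈ mcl2Set V0 W0, ∃ g ∈ KM, g • XM = y := by
  intro y hy
  obtain ⟨g, hg1, hg2, hgy⟩ := trans_std XM XM_mem y hy
  exact ⟨g, Subgroup.mem_inf.2 ⟨hg1, hg2⟩, hgy⟩

theorem KM_cases : ∀ y ∈ mcl2Set V0 W0,
    ∃ i, dotInt (XM : GolayPt → ℤ) (y : GolayPt → ℤ) = tM i := by
  intro y hy
  by_cases hyx : y = XM
  · exact ⟨0, by rw [hyx, dotInt_self, sqNorm_XM]; rfl⟩
  · have hmem : y ∈ mcl2Set V0 W0 \ {XM} := ⟨hy, hyx⟩
    rw [← counts_and_union.2.2.2] at hmem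
    rcases hmem with (h | h) | h
    · exact ⟨1, h.2⟩
    · exact ⟨2, h.2⟩
    · exact ⟨3, h.2⟩

theorem KM_trans : ∀ i, ∀ y ∈ dotSub (mcl2Set V0 W0) XM (tM i),
    ∀ y' ∈ dotSub (mcl2Set V0 W0) XM (tM i), ∃ g ∈ KM, g • XM = XM ∧ g • y = y' := by
  intro i y hy y' hy'
  obtain ⟨g, h1, h2, h3, h4⟩ := trans_sub_std (tM i) y hy y' hy'
  exact ⟨g, Subgroup.mem_inf.2 ⟨h1, h2⟩, h3, h4⟩

theorem KM_card : ∀ i, (dotSub (mcl2Set V0 W0) XM (tM i)).ncard = cM i := by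
  intro i
  fin_cases i
  · show (dotSub (mcl2Set V0 W0) XM 32).ncard = 1
    rw [dotSub_32 _ _ XM_mem (fun y hy => hy.1)]
    exact Set.ncard_singleton XM
  · exact counts_and_union.1
  · exact counts_and_union.2.1
  · exact counts_and_union.2.2.1

theorem card_KM3 :
    Nat.card ↥(stabilizer Co0 V0 ⊓ stabilizer Co0 W0 ⊓ stabilizer Co0 XM) = 443520 := by
  have h := card_sub_stab KM XM (mcl2Set V0 W0) XM_mem KM_inv KM_tr
  have hc : Nat.card ↥KM = 898128000 := card_stabMcL V0 W0 sqNorm_V0 sqNorm_W0 dot_V0_W0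
  rw [ncard_std, hc] at h
  show Nat.card ↥(KM ⊓ stabilizer Co0 XM) = 443520
  generalize Nat.card ↥(KM ⊓ stabilizer Co0 XM) = n at h ⊢
  omega

theorem isSimpleGroup_KM3 :
    IsSimpleGroup ↥(stabilizer Co0 V0 ⊓ stabilizer Co0 W0 ⊓ stabilizer Co0 XM) :=
  isSimpleGroup_of_m22 V0 W0 XM
    (fun σ h0 h1 => pCo0_fix σ h0 h1 McLData.v0 v0_mem 0 (by decide))
    (fun σ h0 h1 => pCo0_fix σ h0 h1 w0 w0_mem 1 (by decide))
    (fun σ h0 h1 => pCo0_fix σ h0 h1 xm xm_mem 0 (by decide))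
    card_KM3

theorem wMcL_all_ok : wMcL.all Gen.ok = true := ok_of_sgOK wMcL_ok (by simp)

theorem wMcL_mem : wordCo0 wMcL ∈ KM := by
  have h := fixes_of_fixOK wMcL_ok wMcL_fix (w := wMcL) (by simp)
  rw [McLData.fixes_iff] at h
  exact Subgroup.mem_inf.2 ⟨h.2, smul_W0 h.1 h.2⟩

theorem wMcL_count : {z | z ∈ mcl2Set V0 W0 ∧ wordCo0 wMcL • z = z}.ncard = 105 := by
  have h := orbListB.1.ncard_fixed (mcl2Set V0 W0)
    (by rw [mkL_of_mem (mem_of_inLeech xm_mem)]; exact XM_mem)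
    (by
      intro g hg x hx
      rw [McLData.fixes_iff] at hg
      have := smul_mem_mcl2Set g hx
      rwa [hg.2, smul_W0 hg.1 hg.2] at this)
    (by rw [orbListB.2]; norm_num)
    (by rw [orbListB.2]; exact ncard_std) wMcL wMcL_all_ok
  rw [h, wMcL_cnt]

/-- The standard McLaughlin group is simple. -/
theorem isSimpleGroup_KM : IsSimpleGroup ↥KM :=
  isSimpleGroup_sub KM XM (mcl2Set V0 W0) XM_mem KM_inv KM_tr
    (fun i => dotSub (mcl2Set V0 W0) XM (tM i)) cM 0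
    (dotSub_32 _ _ XM_mem (fun y hy => hy.1))
    (dotSub_cover _ _ tM KM_cases) (dotSub_disj _ _ tM (by decide))
    KM_trans KM_card isSimpleGroup_KM3 (by decide) ⟨1, by decide⟩ 2025 ncard_std
    (wordCo0 wMcL) wMcL_mem 105 wMcL_count (by norm_num) (by norm_num)

end McL2025Data

open McLData McL2025Data

/-- The stabilizer of a McLaughlin pair is simple of order 898128000. -/
theorem isMcL_stab (v w : leechLattice) (hv : sqNorm (v : GolayPt → ℤ) = 32)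
    (hw : sqNorm (w : GolayPt → ℤ) = 32)
    (hvw : dotInt (v : GolayPt → ℤ) (w : GolayPt → ℤ) = -8) :
    IsSimpleGroup ↥(stabilizer Co0 v ⊓ stabilizer Co0 w) ∧
      Nat.card ↥(stabilizer Co0 v ⊓ stabilizer Co0 w) = 898128000 := by
  refine ⟨?_, card_stabMcL v w hv hw hvw⟩
  obtain ⟨h, h1, h2⟩ := exists_std_pair8 v w hv hw hvw
  have e := conjStabEquiv₂ h v w
  rw [h1, h2] at e
  have := isSimpleGroup_KM
  exact e.isSimpleGroup

end Cfsg.Agent.Lib.H27
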