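/-
helper27 library: the involutions of the standard McLaughlin group `KM = Stab(V0, W0) ≤ Co0` are conjugate to the
coordinate involution `T`, and the centralizer of `T` in `KM` has order at most 40320.
-/
import Mathlib
import Cfsg.Prelude.Def_Spor_Conway
import Cfsg.Agent.Lib.H27.McLSimple
import Cfsg.Agent.Lib.H27.McLInvM22
import Cfsg.Agent.Lib.H16.SylowBasic

set_option autoImplicit false
set_option linter.style.haveILetI false

namespace Cfsg.Agent.Lib.H27.McLInv

open Cfsg MulAction Cfsg.Agent.Lib.H28 Cfsg.Agent.Lib.H27 Cfsg.Agent.Lib.H27.Eng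
open McLData McL2025Data SimpleDataMcL McLInvData WEq

/-- A `p`-element is conjugate into any subgroup of index prime to `p`. -/
theorem exists_conj_mem_of_not_dvd_index {G : Type*} [Group G] [Finite G] {p : ℕ} [Fact p.Prime]
    (H : Subgroup G) (hH : ¬ p ∣ H.index) {g : G} {j : ℕ} (hg : orderOf g = p ^ j) :
    ∃ t : G, t * g * t⁻¹ ∈ H := by
  obtain ⟨S₀⟩ : Nonempty (Sylow p ↥H) := inferInstance
  have hcard : Nat.card ((S₀ : Subgroup H).map H.subtype) = p ^ (Nat.card G).factorization p := by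
    rw [Subgroup.card_map_of_injective H.subtype_injective, S₀.card_eq_multiplicity]
    congr 1
    have h1 := H.card_mul_index
    rw [← h1, Nat.factorization_mul Nat.card_pos.ne' Subgroup.index_ne_zero_of_finite,
      Finsupp.add_apply, Nat.factorization_eq_zero_of_not_dvd hH, add_zero]
  let S : Sylow p G := Sylow.ofCard _ hcard
  have hzg : IsPGroup p (Subgroup.zpowers g) :=
    IsPGroup.of_card (n := j) (by rw [Nat.card_zpowers, hg])
  obtain ⟨t, ht⟩ := Cfsg.Agent.Lib.H16.exists_conj_mem_sylow _ hzg S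
  exact ⟨t, Subgroup.map_subtype_le _ (ht g (Subgroup.mem_zpowers g))⟩

/-- The stabilizer of the point `XM` in the McLaughlin group. -/
abbrev KM3 : Subgroup Co0 := KM ⊓ stabilizer Co0 XM

theorem card_KM3' : Nat.card ↥KM3 = 443520 := card_KM3

theorem mem_KM3_of_S2 (σ : ↥S2) : pCo0 σ.1 ∈ KM3 := by
  have h := (mem_S2_iff σ.1).1 σ.2
  have hA : pCo0 σ.1 • V0 = V0 := pCo0_fix σ.1 h.1 h.2 McLData.v0 v0_mem 0 (by decide)
  have hB : pCo0 σ.1 • W0 = W0 := pCo0_fix σ.1 h.1 h.2 w0 w0_mem 1 (by decide)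
  have hC : pCo0 σ.1 • XM = XM := pCo0_fix σ.1 h.1 h.2 xm xm_mem 0 (by decide)
  exact Subgroup.mem_inf.2 ⟨Subgroup.mem_inf.2 ⟨hA, hB⟩, hC⟩

/-- The coordinate permutations of the two-point stabilizer. -/
def m22Hom : ↥S2 →* ↥KM3 where
  toFun σ := ⟨pCo0 σ.1, mem_KM3_of_S2 σ⟩
  map_one' := Subtype.ext pCo0_one
  map_mul' a b := Subtype.ext (pCo0_mul a.1 b.1)

theorem m22Hom_bijective : Function.Bijective m22Hom := by
  have hinj : Function.Injective m22Hom := by
    intro a b h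
    have h1 : permHom a.1 = permHom b.1 := congrArg Subtype.val h
    exact Subtype.ext (permHom_injective h1)
  have hfin : Finite ↥KM3 := inferInstance
  rw [Nat.bijective_iff_injective_and_card]
  exact ⟨hinj, by rw [card_KM3', card_S2]⟩

/-- The two-point stabilizer of `M24` is the point stabilizer of the McLaughlin group. -/
noncomputable def m22Equiv : ↥S2 ≃* ↥KM3 := MulEquiv.ofBijective m22Hom m22Hom_bijective

theorem m22Equiv_coe (σ : ↥S2) : ((m22Equiv σ : ↥KM3) : Co0) = pCo0 σ.1 := rfl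

/-- The coordinate permutation of a table is the elementary element with this table. -/
theorem pCo0_permOfTab (t ti : List ℕ) (h : monoOK t ti 0 = true) :
    pCo0 ⟨permOfTab t ti (tabInv_of_monoOK h), permOfTab_mem t ti 0 h _⟩ =
      wordCo0 [Gen.mono t ti 0] := by
  rw [wordCo0_cons, wordCo0_nil, one_mul, Gen.toCo0_mono t ti 0 h]
  apply Co0_ext
  intro v
  funext k
  rw [pCo0_smul, monoCo0_smul]
  unfold signedPerm
  have : k ∉ support₂ (W 0) := by rw [W_zero]; simp [support₂]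
  rw [if_neg this]

/-- The involution of the McLaughlin group. -/
noncomputable def T : Co0 := wordCo0 wMcL

theorem m22Equiv_τ2 : ((m22Equiv τ2 : ↥KM3) : Co0) = T := by
  rw [m22Equiv_coe]
  exact pCo0_permOfTab tauTab tauTab tauTab_ok

theorem T_mem_KM3 : T ∈ KM3 := by
  rw [← m22Equiv_τ2]
  exact (m22Equiv τ2).2

theorem T_mem : T ∈ KM := T_mem_KM3.1

theorem T_smul_XM : T • XM = XM := mem_stabilizer_iff.1 T_mem_KM3.2

theorem orderOf_T : orderOf T = 2 := by
  rw [← m22Equiv_τ2, Subgroup.orderOf_coe, MulEquiv.orderOf_eq]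
  have : orderOf (τ2 : ↥S2) = orderOf τ := by
    rw [← Subgroup.orderOf_coe, ← Subgroup.orderOf_coe]
    rfl
  rw [this, orderOf_τ]

theorem card_KM : Nat.card ↥KM = 898128000 := card_stabMcL V0 W0 sqNorm_V0 sqNorm_W0 dot_V0_W0

/-- Every involution of the McLaughlin group is conjugate to `T`. -/
theorem conj_to_T (x : Co0) (hx : x ∈ KM) (ho : orderOf x = 2) :
    ∃ g ∈ KM, g * x * g⁻¹ = T := by
  haveI : Fact (Nat.Prime 2) := ⟨Nat.prime_two⟩
  -- conjugate into the point stabilizer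
  have hle : KM3 ≤ KM := inf_le_left
  have hidx : ¬ 2 ∣ (KM3.subgroupOf KM).index := by
    have h1 := (KM3.subgroupOf KM).card_mul_index
    rw [Nat.card_congr (Subgroup.subgroupOfEquivOfLe hle).toEquiv, card_KM3', card_KM] at h1
    have : (KM3.subgroupOf KM).index = 2025 := by omega
    rw [this]
    norm_num
  have hox : orderOf (⟨x, hx⟩ : ↥KM) = 2 ^ 1 := by
    rw [← Subgroup.orderOf_coe, pow_one]
    exact ho
  obtain ⟨g, hg⟩ := exists_conj_mem_of_not_dvd_index (KM3.subgroupOf KM) hidx hox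
  have hy : (g : Co0) * x * (g : Co0)⁻¹ ∈ KM3 := hg
  set y : Co0 := (g : Co0) * x * (g : Co0)⁻¹ with hydef
  have hoy : orderOf y = 2 := by
    rw [hydef, ← MulAut.conj_apply, MulEquiv.orderOf_eq]
    exact ho
  -- transfer to `M24`
  set σ : ↥S2 := m22Equiv.symm ⟨y, hy⟩ with hσdef
  have hoσ : orderOf ((σ : ↥M24) : Equiv.Perm GolayPt) = 2 := by
    rw [Subgroup.orderOf_coe, Subgroup.orderOf_coe, hσdef, MulEquiv.orderOf_eq,
      ← Subgroup.orderOf_coe]
    exact hoy
  have hσ2 := (mem_S2_iff σ.1).1 σ.2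
  obtain ⟨k, hk, hk0, hk1, hkσ⟩ := conj_in_M22 _ σ.1.2 hσ2.1 hσ2.2 hoσ
  set kk : ↥S2 := ⟨⟨k, hk⟩, (mem_S2_iff _).2 ⟨hk0, hk1⟩⟩ with hkk
  have hconj : kk * τ2 * kk⁻¹ = σ := Subtype.ext (Subtype.ext hkσ)
  have h2 := congrArg (fun z : ↥S2 => ((m22Equiv z : ↥KM3) : Co0)) hconj
  simp only [map_mul, map_inv, Subgroup.coe_mul, Subgroup.coe_inv, m22Equiv_τ2] at h2
  rw [hσdef, MulEquiv.apply_symm_apply] at h2
  set h : Co0 := ((m22Equiv kk : ↥KM3) : Co0) with hh
  have hhK : h ∈ KM := hle (m22Equiv kk).2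
  refine ⟨h⁻¹ * g, KM.mul_mem (KM.inv_mem hhK) g.2, ?_⟩
  have h3 : h * T * h⁻¹ = y := h2
  calc h⁻¹ * (g : Co0) * x * (h⁻¹ * (g : Co0))⁻¹ = h⁻¹ * ((g : Co0) * x * (g : Co0)⁻¹) * h := by group
    _ = h⁻¹ * (h * T * h⁻¹) * h := by rw [← hydef, h3]
    _ = T := by group

/-- The centralizer of the involution in the McLaughlin group. -/
abbrev CT : Subgroup Co0 := KM ⊓ Subgroup.centralizer ({T} : Set Co0)

theorem card_CT_le : Nat.card ↥CT ≤ 40320 := by
  -- the orbit of `XM`
  have hsub : orbit ↥CT XM ⊆ {z | z ∈ mcl2Set V0 W0 ∧ wordCo0 wMcL • z = z} := by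
    rintro z ⟨c, rfl⟩
    have hcK : (c : Co0) ∈ KM := c.2.1
    have hcT : T * (c : Co0) = (c : Co0) * T := Subgroup.mem_centralizer_iff.1 c.2.2 T rfl
    refine ⟨KM_inv _ hcK _ XM_mem, ?_⟩
    show T • ((c : Co0) • XM) = (c : Co0) • XM
    rw [← mul_smul, hcT, mul_smul, T_smul_XM]
  have hfin : {z | z ∈ mcl2Set V0 W0 ∧ wordCo0 wMcL • z = z}.Finite :=
    Set.finite_of_ncard_ne_zero (by rw [wMcL_count]; norm_num)
  have hO : (orbit ↥CT XM).ncard ≤ 105 := by
    rw [← wMcL_count]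
    exact Set.ncard_le_ncard hsub hfin
  have h1 : (stabilizer ↥CT XM).index = (orbit ↥CT XM).ncard := MulAction.index_stabilizer ↥CT XM
  have h2 := (stabilizer ↥CT XM).card_mul_index
  -- the stabilizer
  have hst : Nat.card (stabilizer ↥CT XM) ≤ 384 := by
    refine le_trans ?_ card_centralizer_τ2
    have hmem : ∀ c : stabilizer ↥CT XM, ((c : ↥CT) : Co0) ∈ KM3 := by
      intro c
      refine Subgroup.mem_inf.2 ⟨c.1.2.1, ?_⟩
      exact mem_stabilizer_iff.2 (mem_stabilizer_iff.1 c.2)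
    let φ : stabilizer ↥CT XM → Subgroup.centralizer ({τ2} : Set ↥S2) := fun c =>
      ⟨m22Equiv.symm ⟨((c : ↥CT) : Co0), hmem c⟩, by
        rw [Subgroup.mem_centralizer_iff]
        intro y hy
        rw [Set.mem_singleton_iff] at hy
        subst hy
        apply m22Equiv.injective
        rw [map_mul, map_mul, MulEquiv.apply_symm_apply]
        apply Subtype.ext
        rw [Subgroup.coe_mul, Subgroup.coe_mul, m22Equiv_τ2]
        exact Subgroup.mem_centralizer_iff.1 c.1.2.2 T rfl⟩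
    apply Nat.card_le_card_of_injective φ
    intro a b hab
    have h3 := congrArg (fun z : Subgroup.centralizer ({τ2} : Set ↥S2) => (z : ↥S2)) hab
    simp only [φ] at h3
    have h4 := m22Equiv.symm.injective h3
    have h5 : ((a : ↥CT) : Co0) = ((b : ↥CT) : Co0) := Subtype.mk.inj h4
    exact Subtype.ext (Subtype.ext h5)
  rw [h1] at h2
  calc Nat.card ↥CT = Nat.card (stabilizer ↥CT XM) * (orbit ↥CT XM).ncard := h2.symm
    _ ≤ 384 * 105 := Nat.mul_le_mul hst hO

end Cfsg.Agent.Lib.H27.McLInv
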