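/-
helper27 library: the centralizer of the coordinate involution `T` in the standard McLaughlin group `KM` is the
double cover `2.A8` (the group `P 6` of helper18's `SpinCover`), and all involutions of `KM` are conjugate.
-/
import Mathlib
import Cfsg.Prelude.Def_Spor_Conway
import Cfsg.Prelude.Def_SporadicB
import Cfsg.Agent.Lib.H27.McLInvA
import Cfsg.Agent.Lib.H18.SpinCover2

set_option autoImplicit false
set_option linter.style.haveILetI false

namespace Cfsg.Agent.Lib.H27.McLInv

open Cfsg MulAction Cfsg.Agent.Lib.H28 Cfsg.Agent.Lib.H27 Cfsg.Agent.Lib.H27.Eng Cfsg.Agent.Lib.H18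
open McLData McL2025Data SimpleDataMcL McLInvData WEq

/-! ### Transport of double covers -/

theorem center_map_equiv {A B : Type*} [Group A] [Group B] (e : A ≃* B) :
    (Subgroup.center A).map e.toMonoidHom = Subgroup.center B := by
  ext x
  rw [Subgroup.mem_map, Subgroup.mem_center_iff]
  constructor
  · rintro ⟨a, ha, rfl⟩ g
    obtain ⟨b, rfl⟩ := e.surjective g
    have := Subgroup.mem_center_iff.1 ha b
    show e b * e a = e a * e b
    rw [← map_mul, ← map_mul, this]
  · intro hx
    refine ⟨e.symm x, ?_, e.apply_symm_apply x⟩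
    rw [Subgroup.mem_center_iff]
    intro g
    apply e.injective
    rw [map_mul, map_mul, e.apply_symm_apply]
    exact hx (e g)

theorem nonsplitDoubleCover_congr {A B K : Type*} [Group A] [Group B] [Group K] [Finite B]
    (e : A ≃* B) (h : Cfsg.IsNonsplitDoubleCover B K) : Cfsg.IsNonsplitDoubleCover A K := by
  obtain ⟨h1, ⟨f⟩, h3⟩ := h
  have hc := center_map_equiv e
  have : Finite A := Finite.of_equiv B e.symm.toEquiv
  refine ⟨?_, ⟨?_⟩, ?_⟩
  · rw [← h1]
    exact Nat.card_congr (Subgroup.centerCongr e).toEquiv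
  · exact (QuotientGroup.congr _ _ e hc).trans f
  · intro L hL
    apply h3 (L.map e.toMonoidHom)
    rw [← hc]
    obtain ⟨hcard, hdisj⟩ := Subgroup.isComplement'_iff_card_mul_and_disjoint.mp hL
    apply Subgroup.isComplement'_of_card_mul_and_disjoint
    · rw [Subgroup.card_map_of_injective e.injective, Subgroup.card_map_of_injective e.injective,
        hcard]
      exact Nat.card_congr e.toEquiv
    · rw [Subgroup.disjoint_def] at hdisj ⊢
      rintro x ⟨a, ha, rfl⟩ ⟨b, hb, hab⟩
      have hba : b = a := e.injective hab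
      subst hba
      rw [hdisj ha hb]
      exact map_one _

/-! ### The six elements -/

theorem wW_mem {i : ℕ} (hi : i < 6) : wW.getD i [] ∈ wW := by
  have hl : wW.length = 6 := rfl
  rw [List.getD_eq_getElem _ _ (by rw [hl]; exact hi)]
  exact List.getElem_mem _

theorem wW_ok' {i : ℕ} (hi : i < 6) : (wW.getD i []).all Gen.ok = true := ok_of_sgOK wW_ok (wW_mem hi)

/-- The six elements of order three. -/
noncomputable def Wc (i : ℕ) : Co0 := wordCo0 (wW.getD i [])

theorem Wc_mem {i : ℕ} (hi : i < 6) : Wc i ∈ KM := by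
  have h := fixes_of_fixOKF wW_ok wW_fix (wW_mem hi)
  rw [McLData.fixes_iff] at h
  exact Subgroup.mem_inf.2 ⟨h.2, smul_W0 h.1 h.2⟩

theorem Wc_cube {i : ℕ} (hi : i < 6) : Wc i ^ 3 = 1 := by
  have := wordCo0_eq_of_wordEq (wpow_ok (wW_ok' hi) 3) (by rfl : ([] : List Gen).all Gen.ok = true)
    (rel_cube_all i hi)
  rwa [wordCo0_wpow, wordCo0_nil] at this

theorem Wc_comm {i : ℕ} (hi : i < 6) : Wc i * T = T * Wc i := by
  have := wordCo0_eq_of_wordEq (wmul_ok (wW_ok' hi) wMcL_all_ok) (wmul_ok wMcL_all_ok (wW_ok' hi))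
    (rel_comm_all i hi)
  rwa [wordCo0_wmul, wordCo0_wmul] at this

theorem Wc_sq_lt {i j : ℕ} (hi : i < 6) (hj : j < 6) (hij : i < j) : (Wc i * Wc j) ^ 2 = T := by
  have := wordCo0_eq_of_wordEq (wpow_ok (wmul_ok (wW_ok' hi) (wW_ok' hj)) 2) wMcL_all_ok
    (rel_sq_all i hi j hj hij)
  rwa [wordCo0_wpow, wordCo0_wmul] at this

theorem Wc_sq {i j : ℕ} (hi : i < 6) (hj : j < 6) (hij : i ≠ j) : (Wc i * Wc j) ^ 2 = T := by
  rcases lt_or_gt_of_ne hij with h | h
  · exact Wc_sq_lt hi hj h
  · have h1 := Wc_sq_lt hj hi h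
    have hc := Wc_comm hj
    calc (Wc i * Wc j) ^ 2 = (Wc j)⁻¹ * (Wc j * Wc i) ^ 2 * Wc j := by rw [sq, sq]; group
      _ = (Wc j)⁻¹ * (T * Wc j) := by rw [h1, mul_assoc]
      _ = (Wc j)⁻¹ * (Wc j * T) := by rw [hc]
      _ = T := by group

theorem T_sq : T ^ 2 = 1 := by
  rw [← orderOf_T]
  exact pow_orderOf_eq_one T

theorem T_ne_one : T ≠ 1 := by
  intro h
  have := orderOf_T
  rw [h, orderOf_one] at this
  omega

/-! ### The homomorphism from the double cover -/

/-- The involution as an element of its centralizer. -/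
noncomputable def tC : ↥CT :=
  ⟨T, Subgroup.mem_inf.2 ⟨T_mem, Subgroup.mem_centralizer_iff.2 (by rintro y rfl; rfl)⟩⟩

/-- The six elements in the centralizer. -/
noncomputable def wC (i : Fin 6) : ↥CT :=
  ⟨Wc i.1, Subgroup.mem_inf.2 ⟨Wc_mem i.2, Subgroup.mem_centralizer_iff.2 (by
    rintro y rfl
    exact (Wc_comm i.2).symm)⟩⟩

/-- The homomorphism from the double cover of `A8`. -/
noncomputable def Ψ : SpinCover.P 6 →* ↥CT :=
  SpinCover.homOf tC wC
    (fun i => Subtype.ext (by rw [Subgroup.coe_pow]; exact Wc_cube i.2))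
    (fun i j hij => Subtype.ext (by
      rw [Subgroup.coe_pow, Subgroup.coe_mul]
      exact Wc_sq i.2 j.2 (fun h => hij (Fin.ext h))))
    (Subtype.ext (by rw [Subgroup.coe_pow]; exact T_sq))
    (fun i => Subtype.ext (by
      rw [Subgroup.coe_mul, Subgroup.coe_mul]
      exact (Wc_comm i.2).symm))

theorem Ψ_z : Ψ SpinCover.z = tC := SpinCover.homOf_z _ _ _ _ _ _

theorem tC_ne_one : tC ≠ 1 := by
  intro h
  exact T_ne_one (congrArg Subtype.val h)

theorem Ψ_injective : Function.Injective Ψ := by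
  rw [← MonoidHom.ker_eq_bot_iff]
  have hz : SpinCover.z ∉ Ψ.ker := by
    rw [MonoidHom.mem_ker, Ψ_z]
    exact tC_ne_one
  haveI : IsSimpleGroup (alternatingGroup (Fin (6 + 2))) :=
    alternatingGroup.isSimpleGroup (by simp)
  have hn : (Ψ.ker.map (SpinCover.φ (m := 6))).Normal :=
    Subgroup.Normal.map inferInstance _ SpinCover.φ_surjective
  rcases hn.eq_bot_or_eq_top with h | h
  · rw [eq_bot_iff]
    intro g hg
    have h1 : SpinCover.φ g = 1 := by
      have := Subgroup.mem_map_of_mem (SpinCover.φ (m := 6)) hg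
      rw [h] at this
      exact Subgroup.mem_bot.1 this
    rcases SpinCover.ker_φ h1 with rfl | rfl
    · exact Subgroup.mem_bot.2 rfl
    · exact absurd hg hz
  · exfalso
    apply hz
    have key : ∀ p : SpinCover.P 6, Ψ p = 1 ∨ Ψ p = tC := by
      intro p
      have hp : SpinCover.φ p ∈ Ψ.ker.map (SpinCover.φ (m := 6)) := by
        rw [h]
        exact Subgroup.mem_top _
      obtain ⟨k, hk, hkp⟩ := hp
      have h1 : SpinCover.φ (k⁻¹ * p) = 1 := by
        rw [map_mul, map_inv, hkp, inv_mul_cancel]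
      have hk1 : Ψ k = 1 := hk
      rcases SpinCover.ker_φ h1 with h2 | h2
      · left
        have : p = k := by
          rw [inv_mul_eq_one] at h2
          exact h2.symm
        rw [this, hk1]
      · right
        have : p = k * SpinCover.z := by
          rw [← h2]
          group
        rw [this, map_mul, hk1, one_mul, Ψ_z]
    have hcomm : commutator (SpinCover.P 6) ≤ Ψ.ker := by
      rw [commutator_def, Subgroup.commutator_le]
      intro a _ b _
      rw [MonoidHom.mem_ker, map_commutatorElement]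
      have ht : tC * tC = 1 := by
        have := Subtype.ext (a1 := tC ^ 2) (a2 := (1 : ↥CT)) (by rw [Subgroup.coe_pow]; exact T_sq)
        rwa [sq] at this
      have hti : tC⁻¹ = tC := inv_eq_of_mul_eq_one_right ht
      rcases key a with ha | ha <;> rcases key b with hb | hb <;>
        rw [ha, hb, commutatorElement_def] <;> simp [hti, ht]
    exact hcomm (SpinCover.z_mem_commutator (by norm_num))

theorem card_P6 : Nat.card (SpinCover.P 6) = 40320 := by
  obtain ⟨h1, ⟨e⟩, -⟩ := SpinCover.isNonsplitDoubleCover (m := 6) (by norm_num)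
  have h2 : Nat.card (SpinCover.P 6 ⧸ Subgroup.center (SpinCover.P 6)) = 20160 := by
    rw [Nat.card_congr e.toEquiv, Nat.card_eq_fintype_card]
    have := two_mul_card_alternatingGroup (α := Fin (6 + 2))
    rw [Fintype.card_perm, Fintype.card_fin] at this
    have h8 : (6 + 2).factorial = 40320 := by decide
    omega
  rw [Subgroup.card_eq_card_quotient_mul_card_subgroup (Subgroup.center (SpinCover.P 6)), h1, h2]

theorem Ψ_bijective : Function.Bijective Ψ := by
  haveI := SpinCover.finite_P (m := 6)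
  rw [Nat.bijective_iff_injective_and_card]
  refine ⟨Ψ_injective, ?_⟩
  have h1 := Nat.card_le_card_of_injective Ψ Ψ_injective
  have h2 := card_CT_le
  rw [card_P6] at h1 ⊢
  omega

/-- The centralizer of the involution is the double cover of `A8`. -/
noncomputable def ctEquiv : SpinCover.P 6 ≃* ↥CT := MulEquiv.ofBijective Ψ Ψ_bijective

theorem cover_CT : Cfsg.IsNonsplitDoubleCover ↥CT ↥(alternatingGroup (Fin 8)) := by
  haveI := SpinCover.finite_P (m := 6)
  exact nonsplitDoubleCover_congr ctEquiv.symm (SpinCover.isNonsplitDoubleCover (m := 6) (by norm_num))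

/-! ### The statement for the standard McLaughlin group -/

/-- The statement about the involutions. -/
def InvStmt (G : Type*) [Group G] : Prop :=
  (∀ x y : G, orderOf x = 2 → orderOf y = 2 → IsConj x y) ∧
    ∃ t : G, orderOf t = 2 ∧
      Cfsg.IsNonsplitDoubleCover ↥(Subgroup.centralizer ({t} : Set G)) ↥(alternatingGroup (Fin 8))

/-- The centralizer of an element of a subgroup. -/
def centEquiv {G : Type*} [Group G] (K : Subgroup G) (t : G) (ht : t ∈ K) :
    ↥(Subgroup.centralizer ({(⟨t, ht⟩ : ↥K)} : Set ↥K)) ≃* ↥(K ⊓ Subgroup.centralizer ({t} : Set G)) where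
  toFun x := ⟨x.1.1, Subgroup.mem_inf.2 ⟨x.1.2, Subgroup.mem_centralizer_iff.2 (by
    rintro y rfl
    have := Subgroup.mem_centralizer_iff.1 x.2 ⟨y, ht⟩ rfl
    exact congrArg Subtype.val this)⟩⟩
  invFun y := ⟨⟨y.1, (Subgroup.mem_inf.1 y.2).1⟩, Subgroup.mem_centralizer_iff.2 (by
    rintro z rfl
    apply Subtype.ext
    exact Subgroup.mem_centralizer_iff.1 (Subgroup.mem_inf.1 y.2).2 t rfl)⟩
  left_inv _ := rfl
  right_inv _ := rfl
  map_mul' _ _ := rfl

theorem invStmt_KM : InvStmt ↥KM := by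
  refine ⟨?_, ⟨T, T_mem⟩, ?_, ?_⟩
  · intro x y hx hy
    obtain ⟨g1, hg1, e1⟩ := conj_to_T x.1 x.2 (by rw [Subgroup.orderOf_coe]; exact hx)
    obtain ⟨g2, hg2, e2⟩ := conj_to_T y.1 y.2 (by rw [Subgroup.orderOf_coe]; exact hy)
    rw [isConj_iff]
    refine ⟨⟨g2⁻¹ * g1, KM.mul_mem (KM.inv_mem hg2) hg1⟩, Subtype.ext ?_⟩
    show g2⁻¹ * g1 * (x : Co0) * (g2⁻¹ * g1)⁻¹ = (y : Co0)
    calc g2⁻¹ * g1 * (x : Co0) * (g2⁻¹ * g1)⁻¹ = g2⁻¹ * (g1 * (x : Co0) * g1⁻¹) * g2 := by group
      _ = g2⁻¹ * (g2 * (y : Co0) * g2⁻¹) * g2 := by rw [e1, e2]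
      _ = (y : Co0) := by group
  · rw [← Subgroup.orderOf_coe]
    exact orderOf_T
  · exact nonsplitDoubleCover_congr (centEquiv KM T T_mem) cover_CT

/-- The statement is invariant under isomorphism. -/
theorem InvStmt.congr {G H : Type*} [Group G] [Group H] [Finite G] (e : G ≃* H) (h : InvStmt G) :
    InvStmt H := by
  obtain ⟨h1, t, ht, hc⟩ := h
  refine ⟨?_, e t, ?_, ?_⟩
  · intro x y hx hy
    have := h1 (e.symm x) (e.symm y) (by rw [MulEquiv.orderOf_eq]; exact hx)
      (by rw [MulEquiv.orderOf_eq]; exact hy)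
    rw [isConj_iff] at this ⊢
    obtain ⟨c, hc⟩ := this
    refine ⟨e c, ?_⟩
    have := congrArg e hc
    rwa [map_mul, map_mul, map_inv, e.apply_symm_apply, e.apply_symm_apply] at this
  · rw [MulEquiv.orderOf_eq]
    exact ht
  · let f : ↥(Subgroup.centralizer ({e t} : Set H)) ≃* ↥(Subgroup.centralizer ({t} : Set G)) :=
      { toFun := fun x => ⟨e.symm x.1, Subgroup.mem_centralizer_iff.2 (by
          rintro y rfl
          apply e.injective
          rw [map_mul, map_mul, e.apply_symm_apply]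
          exact Subgroup.mem_centralizer_iff.1 x.2 (e y) rfl)⟩
        invFun := fun y => ⟨e y.1, Subgroup.mem_centralizer_iff.2 (by
          rintro z rfl
          rw [← map_mul, ← map_mul]
          exact congrArg e (Subgroup.mem_centralizer_iff.1 y.2 t rfl))⟩
        left_inv := fun x => Subtype.ext (e.apply_symm_apply x.1)
        right_inv := fun y => Subtype.ext (e.symm_apply_apply y.1)
        map_mul' := fun a b => Subtype.ext (map_mul e.symm a.1 b.1) }
    exact nonsplitDoubleCover_congr f hc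

end Cfsg.Agent.Lib.H27.McLInv
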