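import Mathlib
import Mathlib.Tactic

set_option autoImplicit false

namespace Cfsg.Agent.Lib.H27.SLMin

open Finset

/-- the "one short" value `D = q M - 1` is excluded by divisibility -/
theorem arith_gen_int (q M Q D T : ℤ) (m : ℕ) (hq2 : 2 ≤ q) (hM : q + 1 ≤ M) (hQ : Q = q ^ m)
    (hMQ : M * (q - 1) = Q - 1) (hD : D = q * M - 1) (hT : T = (q * Q - 1) * M)
    (hdiv : D ∣ T * (D - Q)) : False := by
  have h1 : D ∣ T * Q := by
    have : T * Q = T * D - T * (D - Q) := by ring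
    rw [this]
    exact dvd_sub (Dvd.intro_left T rfl) hdiv
  have hcopq : IsCoprime D q := ⟨-1, M, by rw [hD]; ring⟩
  have hcopQ : IsCoprime D Q := by rw [hQ]; exact hcopq.pow_right
  have h2 : D ∣ T := hcopQ.dvd_of_dvd_mul_right h1
  have hcopM : IsCoprime D M := ⟨-1, q, by rw [hD]; ring⟩
  rw [hT] at h2
  have h3 : D ∣ q * Q - 1 := hcopM.dvd_of_dvd_mul_right h2
  have h4 : q * Q - 1 = (q - 1) * D + 2 * (q - 1) := by
    have : Q = M * (q - 1) + 1 := by linarith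
    rw [this, hD]; ring
  rw [h4] at h3
  have h5 : D ∣ 2 * (q - 1) := (dvd_add_right (Dvd.intro_left (q - 1) rfl)).mp h3
  have hpos : 0 < 2 * (q - 1) := by linarith
  have h6 : D ≤ 2 * (q - 1) := Int.le_of_dvd hpos h5
  rw [hD] at h6
  nlinarith

theorem arith_gen (q m D f₀ T : ℕ) (hq : 2 ≤ q) (hm : 2 ≤ m) (hD : D + 1 = f₀ + q ^ m)
    (hf₀ : (q ^ m - q) / (q - 1) ≤ f₀)
    (hT : T * (q - 1) = (q ^ (m + 1) - 1) * (q ^ m - 1))
    (hdiv : (D : ℤ) ∣ (T : ℤ) * ((D : ℤ) - (q : ℤ) ^ m)) :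
    (q ^ (m + 1) - q) / (q - 1) ≤ D := by
  set Mn : ℕ := ∑ i ∈ range m, q ^ i with hMn
  have hq1 : 0 < q - 1 := by omega
  have hqm1 : 1 ≤ q ^ m := Nat.one_le_pow _ _ (by omega)
  have hqm1' : 1 ≤ q ^ (m + 1) := Nat.one_le_pow _ _ (by omega)
  have hqqm : q ≤ q ^ m := by
    calc q = q ^ 1 := (pow_one q).symm
      _ ≤ q ^ m := Nat.pow_le_pow_right (by omega) (by omega)
  have hqqm' : q ≤ q ^ (m + 1) := by
    calc q = q ^ 1 := (pow_one q).symm
      _ ≤ q ^ (m + 1) := Nat.pow_le_pow_right (by omega) (by omega)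
  -- Mn * (q - 1) = q^m - 1, in ℤ
  have hMz : (Mn : ℤ) * ((q : ℤ) - 1) = (q : ℤ) ^ m - 1 := by
    rw [hMn]; push_cast
    exact geom_sum_mul (q : ℤ) m
  have hMN : Mn * (q - 1) = q ^ m - 1 := by
    zify [show 1 ≤ q by omega, hqm1]
    exact hMz
  -- Mn ≥ q + 1
  have hMge : q + 1 ≤ Mn := by
    rw [hMn]
    have hsub : range 2 ⊆ range m := range_subset_range.mpr hm
    calc q + 1 = ∑ i ∈ range 2, q ^ i := by
          simp [Finset.sum_range_succ]; ring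
      _ ≤ ∑ i ∈ range m, q ^ i := Finset.sum_le_sum_of_subset hsub
  -- (q^m - q)/(q-1) = Mn - 1
  have hdiv1 : (q ^ m - q) / (q - 1) = Mn - 1 := by
    apply Nat.div_eq_of_eq_mul_left hq1
    zify [show 1 ≤ q by omega, hqqm, show 1 ≤ Mn by omega]
    linarith [hMz]
  rw [hdiv1] at hf₀
  -- q * Mn = Mn - 1 + q^m
  have hqM : q * Mn + 1 = Mn + q ^ m := by
    zify
    have := hMz
    linarith
  -- D ≥ q * Mn - 1
  have hDge : q * Mn ≤ D + 1 := by omega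
  -- T = (q^(m+1) - 1) * Mn
  have hTz : (T : ℤ) = ((q : ℤ) * (q : ℤ) ^ m - 1) * (Mn : ℤ) := by
    have h := congrArg (fun n : ℕ => (n : ℤ)) hT
    simp only [Nat.cast_mul] at h
    rw [Nat.cast_sub (by omega : 1 ≤ q), Nat.cast_sub hqm1', Nat.cast_sub hqm1] at h
    push_cast at h
    have hne : ((q:ℤ) - 1) ≠ 0 := by
      have : (2:ℤ) ≤ q := by exact_mod_cast hq
      omega
    have : (T : ℤ) * ((q:ℤ) - 1) = (((q : ℤ) * (q : ℤ) ^ m - 1) * (Mn : ℤ)) * ((q:ℤ) - 1) := by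
      rw [h, mul_assoc, hMz]; ring
    exact mul_right_cancel₀ hne this
  have hDne : D + 1 ≠ q * Mn := by
    intro hEq
    apply arith_gen_int (q : ℤ) (Mn : ℤ) ((q : ℤ) ^ m) (D : ℤ) (T : ℤ) m (by exact_mod_cast hq)
      (by exact_mod_cast hMge) rfl hMz ?_ hTz hdiv
    have : ((D + 1 : ℕ) : ℤ) = ((q * Mn : ℕ) : ℤ) := by rw [hEq]
    push_cast at this
    linarith
  have hDge' : q * Mn ≤ D := by omega
  apply Nat.div_le_of_le_mul
  have : (q - 1) * (q * Mn) = q ^ (m + 1) - q := by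
    zify [show 1 ≤ q by omega, hqqm']
    have := hMz
    rw [pow_succ]
    linear_combination (q : ℤ) * this
  calc q ^ (m + 1) - q = (q - 1) * (q * Mn) := this.symm
    _ ≤ (q - 1) * D := Nat.mul_le_mul_left _ hDge'

end Cfsg.Agent.Lib.H27.SLMin
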