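import Mathlib

set_option autoImplicit false

namespace Cfsg.Agent.Lib.H27.FrobAut

variable {F : Type*} [Field F]

/-- every ring automorphism of a field with `2 ^ n` elements is `x ↦ x ^ (2 ^ s)` for some `s < n`. -/
theorem exists_frobenius_pow_eq [CharP F 2] [Finite F] {n : ℕ} (hn : Nat.card F = 2 ^ n)
    (σ : F →+* F) : ∃ s : Fin n, ∀ x : F, σ x = x ^ (2 ^ (s : ℕ)) := by
  classical
  letI : Algebra (ZMod 2) F := ZMod.algebra F 2
  haveI : Fact (Nat.Prime 2) := ⟨Nat.prime_two⟩
  haveI : Module.Finite (ZMod 2) F := Module.Finite.of_finite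
  have hfr : Module.finrank (ZMod 2) F = n := by
    have h1 := Module.natCard_eq_pow_finrank (K := ZMod 2) (V := F)
    rw [hn, Nat.card_zmod] at h1
    exact (Nat.pow_right_injective (le_refl 2) h1).symm
  let σa : F →ₐ[ZMod 2] F :=
    { σ with
      commutes' := fun r => by
        have : σ.comp (algebraMap (ZMod 2) F) = algebraMap (ZMod 2) F := Subsingleton.elim _ _
        exact RingHom.congr_fun this r }
  obtain ⟨k, hk⟩ := (FiniteField.bijective_frobeniusAlgHom_pow (ZMod 2) F).2 σa
  refine ⟨Fin.cast hfr k, fun x => ?_⟩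
  have h2 : σa x = σ x := rfl
  rw [← h2, ← hk]
  simp only [AlgHom.coe_pow, FiniteField.coe_frobeniusAlgHom, pow_iterate, ZMod.card, Fin.val_cast]

end Cfsg.Agent.Lib.H27.FrobAut
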