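import Cfsg.Agent.Lib.H13.HSDefs

/-!
# S2536, pieces L1D and L1F (architect helper13)
-/

namespace Cfsg.Agent.Lib.H27.HS
open Equiv MulAction Cfsg.Agent.Lib.H13.HS
open scoped Pointwise

/-- L1D: if every exact prime power of `X` divides `Y` then `X ∣ Y`. -/
theorem dvd_of_exact_pow_dvd {X Y : ℕ} (hX : X ≠ 0)
    (h : ∀ l : ℕ, l.Prime → l ∣ X → l ^ (X.factorization l) ∣ Y) : X ∣ Y := by
  rcases eq_or_ne Y 0 with rfl | hY
  · exact dvd_zero X
  rw [← Nat.factorization_prime_le_iff_dvd hX hY]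
  intro p hp
  by_cases hpX : p ∣ X
  · exact (hp.pow_dvd_iff_le_factorization hY).mp (h p hp hpX)
  · rw [Nat.factorization_eq_zero_of_not_dvd hpX]
    exact Nat.zero_le _

/-- L1F (Kummer): no carries. -/
theorem noCarry {a m l : ℕ} (hl : l.Prime) (h : ¬ l ∣ (a + m).choose a) (j : ℕ) :
    a % l ^ j + m % l ^ j < l ^ j := by
  rcases Nat.eq_zero_or_pos j with rfl | hj
  · simp [Nat.mod_one]
  have hb : Nat.log l (m + a) < max (Nat.log l (m + a) + 1) (j + 1) :=
    lt_of_lt_of_le (Nat.lt_succ_self _) (le_max_left _ _)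
  have key := hl.emultiplicity_choose' (n := m) (k := a) hb
  rw [add_comm m a] at key
  rw [emultiplicity_eq_zero.mpr h] at key
  have hcard : (Finset.filter (fun i => l ^ i ≤ a % l ^ i + m % l ^ i)
      (Finset.Ico 1 (max (Nat.log l (a + m) + 1) (j + 1)))).card = 0 := by
    exact_mod_cast key.symm
  rw [Finset.card_eq_zero, Finset.filter_eq_empty_iff] at hcard
  have hjmem : j ∈ Finset.Ico 1 (max (Nat.log l (a + m) + 1) (j + 1)) := by
    rw [Finset.mem_Ico]
    exact ⟨hj, lt_of_lt_of_le (Nat.lt_succ_self j) (le_max_right _ _)⟩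
  exact not_le.mp (hcard hjmem)

end Cfsg.Agent.Lib.H27.HS
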