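import Cfsg.Agent.Lib.H13.HSDefs

/-!
# S2536, piece P3 INTRANS (architect helper13)
-/

namespace Cfsg.Agent.Lib.H27.HS
open Equiv MulAction Cfsg.Agent.Lib.H13.HS
open scoped Pointwise

/-- P3: an intransitive permutation group leaves invariant a non-empty set of at most half the points. -/
theorem exists_invariant_set {α : Type*} [Finite α] [Nonempty α] (H : Subgroup (Perm α))
    (h : ¬ IsPretransitive H α) :
    ∃ s : Set α, H ≤ stabilizer (Perm α) s ∧ 1 ≤ s.ncard ∧ 2 * s.ncard ≤ Nat.card α := by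
  obtain ⟨a⟩ := ‹Nonempty α›
  let O : Set α := {x | ∃ g ∈ H, g a = x}
  have haO : a ∈ O := ⟨1, H.one_mem, rfl⟩
  -- invariance
  have hinv : ∀ g ∈ H, g • O = O := by
    intro g hg
    ext x
    rw [Set.mem_smul_set_iff_inv_smul_mem]
    constructor
    · rintro ⟨k, hk, hkx⟩
      refine ⟨g * k, H.mul_mem hg hk, ?_⟩
      rw [Perm.mul_apply, hkx, Perm.smul_def, Perm.inv_def, Equiv.apply_symm_apply]
    · rintro ⟨k, hk, hkx⟩
      refine ⟨g⁻¹ * k, H.mul_mem (H.inv_mem hg) hk, ?_⟩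
      rw [Perm.mul_apply, hkx, Perm.smul_def]
  have hinvc : ∀ g ∈ H, g • Oᶜ = Oᶜ := by
    intro g hg
    rw [Set.smul_set_compl, hinv g hg]
  -- the orbit is proper
  have hne : O ≠ Set.univ := by
    intro hO
    apply h
    refine ⟨fun x y => ?_⟩
    have hx : x ∈ O := hO ▸ Set.mem_univ x
    have hy : y ∈ O := hO ▸ Set.mem_univ y
    obtain ⟨g₁, hg₁, rfl⟩ := hx
    obtain ⟨g₂, hg₂, rfl⟩ := hy
    refine ⟨⟨g₂ * g₁⁻¹, H.mul_mem hg₂ (H.inv_mem hg₁)⟩, ?_⟩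
    change (g₂ * g₁⁻¹) (g₁ a) = g₂ a
    rw [Perm.mul_apply, Perm.inv_def, Equiv.symm_apply_apply]
  have hcne : (Oᶜ).Nonempty := by
    rw [Set.nonempty_compl]
    exact hne
  have hsum : O.ncard + (Oᶜ).ncard = Nat.card α := Set.ncard_add_ncard_compl O
  have hO1 : 1 ≤ O.ncard := by
    rw [Nat.one_le_iff_ne_zero, Ne, Set.ncard_eq_zero]
    exact Set.nonempty_iff_ne_empty.mp ⟨a, haO⟩
  have hOc1 : 1 ≤ (Oᶜ).ncard := by
    rw [Nat.one_le_iff_ne_zero, Ne, Set.ncard_eq_zero]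
    exact Set.nonempty_iff_ne_empty.mp hcne
  by_cases hhalf : 2 * O.ncard ≤ Nat.card α
  · exact ⟨O, fun g hg => (mem_stabilizer_iff).mpr (hinv g hg), hO1, hhalf⟩
  · refine ⟨Oᶜ, fun g hg => (mem_stabilizer_iff).mpr (hinvc g hg), hOc1, ?_⟩
    omega

end Cfsg.Agent.Lib.H27.HS
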