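import Cfsg.Agent.Lib.H13.HSDefs

/-!
# S2536, piece P5 caseC (architect helper13)
-/

namespace Cfsg.Agent.Lib.H27.HS
open Equiv MulAction Cfsg.Agent.Lib.H13.HS
open scoped Pointwise

theorem exists_notMem_finset {α : Type*} [Finite α] (S : Finset α) (h : S.card < Nat.card α) :
    ∃ e, e ∉ S := by
  classical
  by_contra hcon
  push Not at hcon
  have : Fintype α := Fintype.ofFinite α
  have hS : S = Finset.univ := Finset.eq_univ_iff_forall.mpr hcon
  rw [hS, Finset.card_univ, ← Nat.card_eq_fintype_card] at h
  exact lt_irrefl _ h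

/-- P5: the point stabilizer cannot be the full two-point stabilizer. -/
theorem caseC {α : Type*} [Finite α] (h5 : 5 ≤ Nat.card α) {H : Subgroup (Perm α)}
    (htr : IsPretransitive H α) (a b : α) (hab : a ≠ b)
    (hst : ∀ g : Perm α, g a = a → (g ∈ H ↔ g b = b)) : False := by
  classical
  -- (1) elements of `H` fixing `b` fix `a`
  have h1 : ∀ h ∈ H, h b = b → h a = a := by
    have hle : stabilizer H a ≤ stabilizer H b := by
      intro k hk
      rw [mem_stabilizer_iff] at hk ⊢
      have hka : (k : Perm α) a = a := hk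
      exact (hst k hka).mp k.2
    obtain ⟨k, hk⟩ := exists_smul_eq H a b
    have hcard : Nat.card (stabilizer H b) = Nat.card (stabilizer H a) := by
      rw [← hk, stabilizer_smul_eq_stabilizer_map_conj]
      exact Subgroup.card_map_of_injective (MulAut.conj k).injective
    have heq : stabilizer H a = stabilizer H b :=
      Subgroup.eq_of_le_of_card_ge hle (le_of_eq hcard)
    intro h hh hb
    have : (⟨h, hh⟩ : H) ∈ stabilizer H b := by
      rw [mem_stabilizer_iff]; exact hb
    rw [← heq, mem_stabilizer_iff] at this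
    exact this
  obtain ⟨c, hc⟩ := exists_notMem_finset ({a, b} : Finset α)
    (lt_of_le_of_lt Finset.card_le_two (by omega))
  have hca : c ≠ a := fun h => hc (by rw [h]; simp)
  have hcb : c ≠ b := fun h => hc (by rw [h]; simp)
  obtain ⟨⟨g, hgH⟩, hg⟩ := exists_smul_eq H a c
  have hga : g a = c := hg
  set d := g b with hd
  have hdc : d ≠ c := by
    intro h
    rw [hd, ← hga] at h
    exact hab (g.injective h).symm
  have hginv_c : g⁻¹ c = a := by rw [← hga, Perm.inv_def, Equiv.symm_apply_apply]
  have hginv_d : g⁻¹ d = b := by rw [hd, Perm.inv_def, Equiv.symm_apply_apply]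
  -- (K1)
  have K1 : ∀ h : Perm α, h c = c → h d = d → h ∈ H := by
    intro h hhc hhd
    have ka : (g⁻¹ * h * g) a = a := by
      rw [Perm.mul_apply, Perm.mul_apply, hga, hhc, hginv_c]
    have kb : (g⁻¹ * h * g) b = b := by
      rw [Perm.mul_apply, Perm.mul_apply, ← hd, hhd, hginv_d]
    have hk : g⁻¹ * h * g ∈ H := (hst _ ka).mpr kb
    have : h = g * (g⁻¹ * h * g) * g⁻¹ := by group
    rw [this]
    exact H.mul_mem (H.mul_mem hgH hk) (H.inv_mem hgH)
  -- (K2)
  have K2 : ∀ h ∈ H, h c = c → h d = d := by
    intro h hh hhc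
    have ka : (g⁻¹ * h * g) a = a := by
      rw [Perm.mul_apply, Perm.mul_apply, hga, hhc, hginv_c]
    have hk : g⁻¹ * h * g ∈ H := H.mul_mem (H.mul_mem (H.inv_mem hgH) hh) hgH
    have kb := (hst _ ka).mp hk
    rw [Perm.mul_apply, Perm.mul_apply, ← hd] at kb
    have := congrArg g kb
    rw [Perm.inv_def, Equiv.apply_symm_apply] at this
    exact this
  by_cases hda : d = a
  · obtain ⟨e, he⟩ := exists_notMem_finset ({a, b, c} : Finset α)
      (lt_of_le_of_lt Finset.card_le_three (by omega))
    have hea : e ≠ a := fun h => he (by rw [h]; simp)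
    have heb : e ≠ b := fun h => he (by rw [h]; simp)
    have hec : e ≠ c := fun h => he (by rw [h]; simp)
    have hH : swap b e ∈ H := K1 _ (swap_apply_of_ne_of_ne hcb hec.symm)
      (by rw [hda]; exact swap_apply_of_ne_of_ne hab hea.symm)
    have hfa : swap b e a = a := swap_apply_of_ne_of_ne hab hea.symm
    have := (hst _ hfa).mp hH
    rw [swap_apply_left] at this
    exact heb this
  by_cases hdb : d = b
  · obtain ⟨e, he⟩ := exists_notMem_finset ({a, b, c} : Finset α)
      (lt_of_le_of_lt Finset.card_le_three (by omega))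
    have hea : e ≠ a := fun h => he (by rw [h]; simp)
    have heb : e ≠ b := fun h => he (by rw [h]; simp)
    have hec : e ≠ c := fun h => he (by rw [h]; simp)
    have hfb : swap a e b = b := swap_apply_of_ne_of_ne hab.symm heb.symm
    have hH : swap a e ∈ H := K1 _ (swap_apply_of_ne_of_ne hca hec.symm)
      (by rw [hdb]; exact hfb)
    have := h1 _ hH hfb
    rw [swap_apply_left] at this
    exact hea this
  · obtain ⟨e, he⟩ := exists_notMem_finset ({a, b, c, d} : Finset α)
      (lt_of_le_of_lt Finset.card_le_four (by omega))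
    have hea : e ≠ a := fun h => he (by rw [h]; simp)
    have heb : e ≠ b := fun h => he (by rw [h]; simp)
    have hec : e ≠ c := fun h => he (by rw [h]; simp)
    have hed : e ≠ d := fun h => he (by rw [h]; simp)
    have hfa : swap d e a = a := swap_apply_of_ne_of_ne (Ne.symm hda) hea.symm
    have hfb : swap d e b = b := swap_apply_of_ne_of_ne (Ne.symm hdb) heb.symm
    have hH : swap d e ∈ H := (hst _ hfa).mpr hfb
    have := K2 _ hH (swap_apply_of_ne_of_ne hdc.symm hec.symm)
    rw [swap_apply_left] at this
    exact hed this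

end Cfsg.Agent.Lib.H27.HS
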