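import Mathlib
import Cfsg.Agent.Lib.H14.C2Defs

/-!
# S5634 farm-out, task A2: the key lemma `klprop_of_st` (helper27)
-/

set_option autoImplicit false
set_option linter.unusedSectionVars false
set_option linter.unusedVariables false
set_option linter.unusedSimpArgs false

namespace Cfsg.Agent.Lib.H27.C2

open Matrix Cfsg.Agent.Lib.H14.C2

variable {ι : Type} [Fintype ι] [DecidableEq ι] {F : Type*} [Field F] [Fintype F]

/-! ### the finite field lemma -/

/-- a non-zero quadratic has a non-root outside `{0, -1}` when `q ≥ 5` -/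
theorem a2_exists_nonroot (hq : 5 ≤ Fintype.card F) (A B C : F) (hA : A ≠ 0) :
    ∃ x : F, x ≠ 0 ∧ 1 + x ≠ 0 ∧ A * x ^ 2 + B * x + C ≠ 0 := by
  classical
  by_contra hcon
  push Not at hcon
  have hcard : 2 < ((Finset.univ.erase (0 : F)).erase (-1)).card := by
    have h1 : (Finset.univ.erase (0 : F)).card = Fintype.card F - 1 := by
      rw [Finset.card_erase_of_mem (Finset.mem_univ _), Finset.card_univ]
    have h2 := Finset.pred_card_le_card_erase (s := Finset.univ.erase (0 : F)) (a := (-1 : F))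
    omega
  obtain ⟨x₁, x₂, x₃, h1, h2, h3, h12, h13, h23⟩ := Finset.two_lt_card_iff.1 hcard
  simp only [Finset.mem_erase, Finset.mem_univ, and_true] at h1 h2 h3
  have hne : ∀ x : F, x ≠ -1 → 1 + x ≠ 0 := by
    intro x hx h
    apply hx
    linear_combination h
  have e1 := hcon x₁ h1.2 (hne x₁ h1.1)
  have e2 := hcon x₂ h2.2 (hne x₂ h2.1)
  have e3 := hcon x₃ h3.2 (hne x₃ h3.1)
  have k1 : (x₁ - x₂) * (A * (x₁ + x₂) + B) = 0 := by linear_combination e1 - e2
  have k2 : (x₁ - x₃) * (A * (x₁ + x₃) + B) = 0 := by linear_combination e1 - e3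
  have k1' := (mul_eq_zero.1 k1).resolve_left (sub_ne_zero.2 h12)
  have k2' := (mul_eq_zero.1 k2).resolve_left (sub_ne_zero.2 h13)
  have k3 : A * (x₂ - x₃) = 0 := by linear_combination k1' - k2'
  rcases mul_eq_zero.1 k3 with h | h
  · exact hA h
  · exact h23 (sub_eq_zero.1 h)

/-- the case of three weights -/
theorem a2_triple (hq : 5 ≤ Fintype.card F) (w1 w2 w3 : F) (h1 : w1 ≠ 0) (h2 : w2 ≠ 0)
    (h3 : w3 ≠ 0) :
    ∃ x : F, x ≠ 0 ∧ 1 + x ≠ 0 ∧ (w1 * x)⁻¹ + (w2 * 1)⁻¹ + (w3 * (-1 - x))⁻¹ ≠ 0 := by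
  obtain ⟨x, hx0, hx1, hx⟩ := a2_exists_nonroot hq (w1 * w3) (w2 * w3 + w1 * w3 - w1 * w2)
    (w2 * w3) (mul_ne_zero h1 h3)
  refine ⟨x, hx0, hx1, fun h0 => hx ?_⟩
  have h4 : -1 - x ≠ 0 := by
    intro h; apply hx1; linear_combination -h
  have : w1 * w3 * x ^ 2 + (w2 * w3 + w1 * w3 - w1 * w2) * x + w2 * w3 =
      ((w1 * x)⁻¹ + (w2 * 1)⁻¹ + (w3 * (-1 - x))⁻¹) * (w1 * w2 * w3 * x * (1 + x)) := by
    field_simp
    ring
  rw [this, h0, zero_mul]

/-- a nowhere-zero function of sum zero on a set with at least two elements -/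
theorem a2_exists_sum_zero (hq : 3 ≤ Fintype.card F) (S : Finset ι) (hS : 2 ≤ S.card) :
    ∃ τ : ι → F, (∀ a ∈ S, τ a ≠ 0) ∧ ∑ a ∈ S, τ a = 0 := by
  classical
  obtain ⟨a, ha, b, hb, hab⟩ := Finset.one_lt_card.1 hS
  set m2 : F := (((S.erase a).erase b).card : F) with hm2
  have hcard : 0 < ((Finset.univ.erase (0 : F)).erase (-m2)).card := by
    have h1 : (Finset.univ.erase (0 : F)).card = Fintype.card F - 1 := by
      rw [Finset.card_erase_of_mem (Finset.mem_univ _), Finset.card_univ]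
    have h2 := Finset.pred_card_le_card_erase (s := Finset.univ.erase (0 : F)) (a := (-m2 : F))
    omega
  obtain ⟨x, hx⟩ := Finset.card_pos.1 hcard
  simp only [Finset.mem_erase, Finset.mem_univ, and_true] at hx
  have hb' : b ∈ S.erase a := Finset.mem_erase.2 ⟨hab.symm, hb⟩
  refine ⟨fun j => if j = a then x else if j = b then -m2 - x else 1, ?_, ?_⟩
  · intro j _
    by_cases hja : j = a
    · simp only [hja, if_true]; exact hx.2
    · by_cases hjb : j = b
      · simp only [hjb, if_neg hab.symm, if_true]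
        intro h; apply hx.1; linear_combination -h
      · simp only [if_neg hja, if_neg hjb]; exact one_ne_zero
  · rw [← Finset.add_sum_erase S _ ha, ← Finset.add_sum_erase (S.erase a) _ hb']
    have h3 : ∑ j ∈ (S.erase a).erase b, (if j = a then x else if j = b then -m2 - x else 1) =
        ∑ j ∈ (S.erase a).erase b, (1 : F) := by
      refine Finset.sum_congr rfl fun j hj => ?_
      have hjb : j ≠ b := (Finset.mem_erase.1 hj).1
      have hja : j ≠ a := (Finset.mem_erase.1 (Finset.mem_erase.1 hj).2).1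
      rw [if_neg hja, if_neg hjb]
    rw [h3, Finset.sum_const, nsmul_eq_mul, mul_one, if_pos rfl, if_neg hab.symm, if_pos rfl,
      ← hm2]
    ring

/-- **the finite field lemma** -/
theorem a2_field (hq : 5 ≤ Fintype.card F) (Q : Finset ι) (hQ : Q.card = 3 ∨ 5 ≤ Q.card)
    (ω : ι → F) (hω : ∀ a ∈ Q, ω a ≠ 0) :
    ∃ τ : ι → F, (∀ a ∈ Q, τ a ≠ 0) ∧ ∑ a ∈ Q, τ a = 0 ∧ ∑ a ∈ Q, (ω a * τ a)⁻¹ ≠ 0 := by
  classical
  have h2lt : 2 < Q.card := by omega
  obtain ⟨a₁, a₂, a₃, ha₁, ha₂, ha₃, h12, h13, h23⟩ := Finset.two_lt_card_iff.1 h2lt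
  have ha₂' : a₂ ∈ Q.erase a₁ := Finset.mem_erase.2 ⟨h12.symm, ha₂⟩
  have ha₃' : a₃ ∈ (Q.erase a₁).erase a₂ :=
    Finset.mem_erase.2 ⟨h23.symm, Finset.mem_erase.2 ⟨h13.symm, ha₃⟩⟩
  set Q' : Finset ι := ((Q.erase a₁).erase a₂).erase a₃ with hQ'
  have hQ'card : Q'.card = Q.card - 3 := by
    rw [hQ', Finset.card_erase_of_mem ha₃', Finset.card_erase_of_mem ha₂',
      Finset.card_erase_of_mem ha₁]
    omega
  have hQ'mem : ∀ j ∈ Q', j ≠ a₁ ∧ j ≠ a₂ ∧ j ≠ a₃ ∧ j ∈ Q := by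
    intro j hj
    have t1 := Finset.mem_erase.1 hj
    have t2 := Finset.mem_erase.1 t1.2
    have t3 := Finset.mem_erase.1 t2.2
    exact ⟨t3.1, t2.1, t1.1, t3.2⟩
  -- the function on the rest
  obtain ⟨τ', hτ'0, hτ'sum⟩ : ∃ τ' : ι → F, (∀ a ∈ Q', τ' a ≠ 0) ∧ ∑ a ∈ Q', τ' a = 0 := by
    by_cases h0 : Q'.card = 0
    · rw [Finset.card_eq_zero] at h0
      exact ⟨fun _ => 1, fun a ha => by rw [h0] at ha; simp at ha, by rw [h0]; simp⟩
    · exact a2_exists_sum_zero (by omega) Q' (by omega)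
  obtain ⟨x, hx0, hx1, hx⟩ := a2_triple hq (ω a₁) (ω a₂) (ω a₃) (hω _ ha₁) (hω _ ha₂) (hω _ ha₃)
  set f3 : F := (ω a₁ * x)⁻¹ + (ω a₂ * 1)⁻¹ + (ω a₃ * (-1 - x))⁻¹ with hf3
  set C' : F := ∑ a ∈ Q', (ω a * τ' a)⁻¹ with hC'
  -- the scaling factor
  obtain ⟨s, hs0, hs⟩ : ∃ s : F, s ≠ 0 ∧ s⁻¹ * f3 + C' ≠ 0 := by
    by_cases h1 : f3 + C' = 0
    · have hcard : 0 < ((Finset.univ.erase (0 : F)).erase 1).card := by
        have h1 : (Finset.univ.erase (0 : F)).card = Fintype.card F - 1 := by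
          rw [Finset.card_erase_of_mem (Finset.mem_univ _), Finset.card_univ]
        have h2 := Finset.pred_card_le_card_erase (s := Finset.univ.erase (0 : F)) (a := (1 : F))
        omega
      obtain ⟨s, hs⟩ := Finset.card_pos.1 hcard
      simp only [Finset.mem_erase, Finset.mem_univ, and_true] at hs
      refine ⟨s, hs.2, fun h2 => ?_⟩
      have h3 : (s⁻¹ - 1) * f3 = 0 := by linear_combination h2 - h1
      rcases mul_eq_zero.1 h3 with h | h
      · apply hs.1
        have : s⁻¹ = 1 := sub_eq_zero.1 h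
        rw [inv_eq_one] at this
        exact this
      · exact hx h
    · exact ⟨1, one_ne_zero, by rw [inv_one, one_mul]; exact h1⟩
  have hx2 : -1 - x ≠ 0 := by
    intro h; apply hx1; linear_combination -h
  refine ⟨fun j => if j = a₁ then s * x else if j = a₂ then s * 1 else if j = a₃ then s * (-1 - x)
    else τ' j, ?_, ?_, ?_⟩
  · intro j hj
    by_cases hj1 : j = a₁
    · simp only [hj1, if_true]; exact mul_ne_zero hs0 hx0
    · by_cases hj2 : j = a₂
      · simp only [hj2, if_neg h12.symm, if_true]; exact mul_ne_zero hs0 one_ne_zero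
      · by_cases hj3 : j = a₃
        · simp only [hj3, if_neg h13.symm, if_neg h23.symm, if_true]; exact mul_ne_zero hs0 hx2
        · simp only [if_neg hj1, if_neg hj2, if_neg hj3]
          apply hτ'0
          exact Finset.mem_erase.2 ⟨hj3, Finset.mem_erase.2 ⟨hj2, Finset.mem_erase.2 ⟨hj1, hj⟩⟩⟩
  · rw [← Finset.add_sum_erase Q _ ha₁, ← Finset.add_sum_erase (Q.erase a₁) _ ha₂',
      ← Finset.add_sum_erase ((Q.erase a₁).erase a₂) _ ha₃']
    have h3 : ∑ j ∈ Q', (if j = a₁ then s * x else if j = a₂ then s * 1 else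
        if j = a₃ then s * (-1 - x) else τ' j) = ∑ j ∈ Q', τ' j := by
      refine Finset.sum_congr rfl fun j hj => ?_
      obtain ⟨t1, t2, t3, -⟩ := hQ'mem j hj
      rw [if_neg t1, if_neg t2, if_neg t3]
    rw [← hQ', h3, hτ'sum, if_pos rfl, if_neg h12.symm, if_pos rfl, if_neg h13.symm,
      if_neg h23.symm, if_pos rfl]
    ring
  · rw [← Finset.add_sum_erase Q _ ha₁, ← Finset.add_sum_erase (Q.erase a₁) _ ha₂',
      ← Finset.add_sum_erase ((Q.erase a₁).erase a₂) _ ha₃']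
    have h3 : ∑ j ∈ Q', (ω j * (if j = a₁ then s * x else if j = a₂ then s * 1 else
        if j = a₃ then s * (-1 - x) else τ' j))⁻¹ = C' := by
      rw [hC']
      refine Finset.sum_congr rfl fun j hj => ?_
      obtain ⟨t1, t2, t3, -⟩ := hQ'mem j hj
      rw [if_neg t1, if_neg t2, if_neg t3]
    rw [← hQ', h3]
    beta_reduce
    rw [if_pos rfl, if_neg h12.symm, if_pos rfl, if_neg h13.symm,
      if_neg h23.symm, if_pos rfl]
    have : (ω a₁ * (s * x))⁻¹ + ((ω a₂ * (s * 1))⁻¹ + ((ω a₃ * (s * (-1 - x)))⁻¹ + C')) =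
        s⁻¹ * f3 + C' := by
      rw [hf3]
      simp only [mul_inv]
      ring
    rw [this]
    exact hs

/-! ### the key lemma -/

omit [Fintype F] in
theorem a2_monGL_one_val (t : ι → Fˣ) :
    ((monGL (1 : Equiv.Perm ι) t : GL ι F) : Matrix ι ι F) = Matrix.diagonal fun j => (t j : F) := by
  ext i j
  rw [monGL_apply, Matrix.diagonal_apply, Equiv.Perm.one_apply]
  by_cases h : i = j
  · rw [if_pos h, if_pos h, h]
  · rw [if_neg h, if_neg h]

omit [Fintype F] in
theorem a2_monGL_one_inv_val (t : ι → Fˣ) :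
    (((monGL (1 : Equiv.Perm ι) t)⁻¹ : GL ι F) : Matrix ι ι F) =
      Matrix.diagonal fun j => ((t j : F))⁻¹ := by
  rw [monGL_inv, inv_one, a2_monGL_one_val]
  congr 1
  funext j
  simp

/-- **A2 (key lemma)** -/
theorem klprop_of_st (hq : 5 ≤ Fintype.card F) (G : Subgroup (GL ι F))
    (hG : HasMonP G) (hST : STprop G) : KLprop G := by
  classical
  intro g₁ hg₁ g₂ hg₂ i k hQ
  generalize hQd : (Finset.univ.filter fun a => (g₁ : Matrix ι ι F) i a ≠ 0 ∧
    (g₂ : Matrix ι ι F) a k ≠ 0) = Q at hQ ⊢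
  have hmem : ∀ a, a ∈ Q ↔ ((g₁ : Matrix ι ι F) i a ≠ 0 ∧ (g₂ : Matrix ι ι F) a k ≠ 0) := by
    intro a
    rw [← hQd, Finset.mem_filter]
    simp
  by_contra hne
  -- a point outside `Q`
  obtain ⟨a₀, ha₀⟩ : ∃ a₀, a₀ ∉ Q := by
    by_contra hcon
    push Not at hcon
    apply hne
    have : Q = Finset.univ := Finset.eq_univ_iff_forall.2 hcon
    rw [this, Finset.card_univ]
  -- the weights
  set W : F := (colWt (g₂ : Matrix ι ι F) k : F) with hW
  set ω : ι → F := fun a => (colWt (g₁ : Matrix ι ι F) a : F) with hωdef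
  have hω : ∀ a ∈ Q, ω a ≠ 0 := by
    intro a ha h0
    have h1 := (hST g₁ hg₁ i a).2 ((hmem a).1 ha).1
    rw [show (colWt (g₁ : Matrix ι ι F) a : F) = ω a from rfl, h0, mul_zero] at h1
    exact zero_ne_one h1
  obtain ⟨τ, hτ0, hτsum, hτinv⟩ := a2_field hq Q hQ ω hω
  -- the diagonal matrix
  set c : ι → F := fun a => if a ∈ Q then τ a / ((g₁ : Matrix ι ι F) i a * (g₂ : Matrix ι ι F) a k)
    else if a = a₀ then (∏ b ∈ Q, τ b / ((g₁ : Matrix ι ι F) i b * (g₂ : Matrix ι ι F) b k))⁻¹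
    else 1 with hcdef
  have hcQ : ∀ a ∈ Q, c a = τ a / ((g₁ : Matrix ι ι F) i a * (g₂ : Matrix ι ι F) a k) := by
    intro a ha
    rw [hcdef]
    simp only [if_pos ha]
  have hcQ0 : ∀ a ∈ Q, τ a / ((g₁ : Matrix ι ι F) i a * (g₂ : Matrix ι ι F) a k) ≠ 0 := by
    intro a ha
    exact div_ne_zero (hτ0 a ha) (mul_ne_zero ((hmem a).1 ha).1 ((hmem a).1 ha).2)
  have hc0 : ∀ a, c a ≠ 0 := by
    intro a
    by_cases ha : a ∈ Q
    · rw [hcQ a ha]; exact hcQ0 a ha
    · by_cases ha' : a = a₀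
      · rw [hcdef]
        simp only [if_neg ha, if_pos ha']
        exact inv_ne_zero (Finset.prod_ne_zero_iff.2 hcQ0)
      · rw [hcdef]
        simp only [if_neg ha, if_neg ha']
        exact one_ne_zero
  set t : ι → Fˣ := fun a => Units.mk0 (c a) (hc0 a) with htdef
  have hprod : ∏ j, c j = 1 := by
    rw [← Finset.prod_mul_prod_compl Q c]
    have h1 : ∏ j ∈ Q, c j = ∏ b ∈ Q, τ b / ((g₁ : Matrix ι ι F) i b * (g₂ : Matrix ι ι F) b k) :=
      Finset.prod_congr rfl hcQ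
    have h2 : ∏ j ∈ Qᶜ, c j =
        (∏ b ∈ Q, τ b / ((g₁ : Matrix ι ι F) i b * (g₂ : Matrix ι ι F) b k))⁻¹ := by
      rw [Finset.prod_eq_single a₀]
      · rw [hcdef]; simp only [if_neg ha₀, if_true]
      · intro b hb hba
        rw [hcdef]
        simp only [if_neg (Finset.mem_compl.1 hb), if_neg hba]
      · intro h
        exact absurd (Finset.mem_compl.2 ha₀) h
    rw [h1, h2]
    exact mul_inv_cancel₀ (Finset.prod_ne_zero_iff.2 hcQ0)
  have htG : monGL (1 : Equiv.Perm ι) t ∈ G := by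
    apply monGL_mem_of_hasMonP hG
    rw [Equiv.Perm.sign_one]
    simp only [Units.val_one, Int.cast_one, one_mul]
    exact hprod
  set y : GL ι F := g₁ * monGL (1 : Equiv.Perm ι) t * g₂ with hy
  have hyG : y ∈ G := G.mul_mem (G.mul_mem hg₁ htG) hg₂
  -- the entry `y i k`
  have hyik : (y : Matrix ι ι F) i k = 0 := by
    rw [hy, Units.val_mul, Units.val_mul, a2_monGL_one_val, Matrix.mul_apply]
    simp only [Matrix.mul_diagonal]
    rw [← hτsum, ← Finset.sum_subset (Finset.subset_univ Q)]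
    · refine Finset.sum_congr rfl fun a ha => ?_
      show (g₁ : Matrix ι ι F) i a * c a * (g₂ : Matrix ι ι F) a k = τ a
      rw [hcQ a ha]
      have h1 := ((hmem a).1 ha).1
      have h2 := ((hmem a).1 ha).2
      field_simp
    · intro a _ ha
      show (g₁ : Matrix ι ι F) i a * c a * (g₂ : Matrix ι ι F) a k = 0
      have : ¬ ((g₁ : Matrix ι ι F) i a ≠ 0 ∧ (g₂ : Matrix ι ι F) a k ≠ 0) := fun h =>
        ha ((hmem a).2 h)
      rw [not_and_or, not_not, not_not] at this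
      rcases this with h | h
      · rw [h, zero_mul, zero_mul]
      · rw [h, mul_zero]
  -- the entry `y⁻¹ k i`
  have hW0 : ∀ a ∈ Q, (g₂ : Matrix ι ι F) a k * ((g₂⁻¹ : GL ι F) : Matrix ι ι F) k a * W = 1 :=
    fun a ha => (hST g₂ hg₂ a k).2 ((hmem a).1 ha).2
  have hyinv : ((y⁻¹ : GL ι F) : Matrix ι ι F) k i = W⁻¹ * ∑ a ∈ Q, (ω a * τ a)⁻¹ := by
    have e : y⁻¹ = g₂⁻¹ * (monGL (1 : Equiv.Perm ι) t)⁻¹ * g₁⁻¹ := by
      rw [hy]; group
    rw [e, Units.val_mul, Units.val_mul, a2_monGL_one_inv_val, Matrix.mul_apply]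
    simp only [Matrix.mul_diagonal]
    rw [Finset.mul_sum, ← Finset.sum_subset (Finset.subset_univ Q)]
    · refine Finset.sum_congr rfl fun a ha => ?_
      show ((g₂⁻¹ : GL ι F) : Matrix ι ι F) k a * (c a)⁻¹ * ((g₁⁻¹ : GL ι F) : Matrix ι ι F) a i =
        W⁻¹ * (ω a * τ a)⁻¹
      rw [hcQ a ha]
      have h1 := ((hmem a).1 ha).1
      have h2 := ((hmem a).1 ha).2
      have h3 := hW0 a ha
      have h4 : (g₁ : Matrix ι ι F) i a * ((g₁⁻¹ : GL ι F) : Matrix ι ι F) a i * ω a = 1 :=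
        (hST g₁ hg₁ i a).2 h1
      have hW1 : W ≠ 0 := by
        intro h0; rw [h0, mul_zero] at h3; exact zero_ne_one h3
      have hω1 := hω a ha
      have hτ1 := hτ0 a ha
      have h5 : ((g₂⁻¹ : GL ι F) : Matrix ι ι F) k a = ((g₂ : Matrix ι ι F) a k * W)⁻¹ := by
        rw [eq_comm, inv_eq_iff_eq_inv, eq_comm]
        apply inv_eq_of_mul_eq_one_left
        linear_combination h3
      have h6 : ((g₁⁻¹ : GL ι F) : Matrix ι ι F) a i = ((g₁ : Matrix ι ι F) i a * ω a)⁻¹ := by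
        rw [eq_comm, inv_eq_iff_eq_inv, eq_comm]
        apply inv_eq_of_mul_eq_one_left
        linear_combination h4
      rw [h5, h6]
      field_simp
    · intro a _ ha
      show ((g₂⁻¹ : GL ι F) : Matrix ι ι F) k a * (c a)⁻¹ * ((g₁⁻¹ : GL ι F) : Matrix ι ι F) a i = 0
      have : ¬ ((g₁ : Matrix ι ι F) i a ≠ 0 ∧ (g₂ : Matrix ι ι F) a k ≠ 0) := fun h =>
        ha ((hmem a).2 h)
      rw [not_and_or, not_not, not_not] at this
      rcases this with h | h
      · have h' : ((g₁⁻¹ : GL ι F) : Matrix ι ι F) a i = 0 := by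
          by_contra hh
          exact ((hST g₁ hg₁ i a).1.2 hh) h
        rw [h', mul_zero]
      · have h' : ((g₂⁻¹ : GL ι F) : Matrix ι ι F) k a = 0 := by
          by_contra hh
          exact ((hST g₂ hg₂ a k).1.2 hh) h
        rw [h', zero_mul, zero_mul]
  -- `W ≠ 0`
  have hQne : Q.Nonempty := by
    rw [← Finset.card_pos]; omega
  obtain ⟨a₁, ha₁⟩ := hQne
  have hW1 : W ≠ 0 := by
    intro h0
    have h3 := hW0 a₁ ha₁
    rw [h0, mul_zero] at h3
    exact zero_ne_one h3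
  have hyne : ((y⁻¹ : GL ι F) : Matrix ι ι F) k i ≠ 0 := by
    rw [hyinv]
    exact mul_ne_zero (inv_ne_zero hW1) hτinv
  exact ((hST y hyG i k).1.2 hyne) hyik

end Cfsg.Agent.Lib.H27.C2
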