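import Mathlib
import Cfsg.Prelude.Def_Sporadic_a
import Cfsg.Agent.Lib.H27.GolayFacts
import Cfsg.Agent.Lib.H28.M24Orbit
import Cfsg.Agent.Lib.H28.GolaySextet

/-!
helper27 library: subspaces of `GolayPt → ZMod 2` invariant under `M24`.
-/

set_option autoImplicit false

namespace Cfsg.Agent.Lib.H27

open Cfsg Finset Cfsg.Agent.Lib.H28
open scoped Pointwise

/-- The action of a permutation on words. -/
def actW (σ : Equiv.Perm GolayPt) (w : GolayPt → ZMod 2) : GolayPt → ZMod 2 := fun p => w (σ.symm p)

/-- Invariance of a subspace under `M24`. -/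
def InvSub (W' : Submodule (ZMod 2) (GolayPt → ZMod 2)) : Prop :=
  ∀ σ ∈ M24, ∀ w ∈ W', actW σ w ∈ W'

theorem supp_actW (σ : Equiv.Perm GolayPt) (w : GolayPt → ZMod 2) :
    supp (actW σ w) = (supp w).map σ.toEmbedding := by
  ext p
  simp only [mem_supp, actW, Finset.mem_map_equiv]

theorem actW_ind (σ : Equiv.Perm GolayPt) (S : Finset GolayPt) :
    actW σ (ind S) = ind (S.map σ.toEmbedding) := by
  apply supp_injective
  rw [supp_actW, supp_ind, supp_ind]

/-- Every word is congruent modulo the code to a word of weight at most 4. -/
theorem exists_leader (x : GolayPt → ZMod 2) :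
    ∃ e : GolayPt → ZMod 2, x + e ∈ golayCode ∧ hammingNorm e ≤ 4 := by
  have hC := golayCode_isAbsGolay
  rcases coset_dichotomy hC (Submodule.Quotient.mk x) with ⟨u, hu, _⟩ | ⟨_, h6⟩
  · have : u ∈ cosetLow golayCode (Submodule.Quotient.mk x) := by rw [hu]; simp
    rw [mem_cosetLow] at this
    refine ⟨u, ?_, by omega⟩
    have h := (Submodule.Quotient.eq golayCode).1 this.1
    rw [sub_eq_add'] at h
    rwa [add_comm]
  · have hne : (cosetFour golayCode (Submodule.Quotient.mk x)).Nonempty := by
      rw [← Finset.card_pos]; omega
    obtain ⟨u, hu⟩ := hne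
    rw [mem_cosetFour] at hu
    refine ⟨u, ?_, by omega⟩
    have h := (Submodule.Quotient.eq golayCode).1 hu.1
    rw [sub_eq_add'] at h
    rwa [add_comm]

/-- `M24` has an element fixing a set of at most 4 points pointwise and moving a given further
point to another. -/
theorem exists_M24_fix_move (R : Finset GolayPt) (hR : R.card ≤ 4) (a b : GolayPt) (ha : a ∉ R)
    (hb : b ∉ R) : ∃ g ∈ M24, (∀ r ∈ R, g r = r) ∧ g a = b := by
  classical
  let f : Fin R.card ≃ R := R.equivFin.symm
  let x : Fin (R.card + 1) → GolayPt := Fin.cons a (fun i => (f i : GolayPt))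
  let y : Fin (R.card + 1) → GolayPt := Fin.cons b (fun i => (f i : GolayPt))
  have hinj : Function.Injective (fun i : Fin R.card => (f i : GolayPt)) := by
    intro i j h
    exact f.injective (Subtype.ext h)
  have hx : Function.Injective x := by
    rw [Fin.cons_injective_iff]
    refine ⟨?_, hinj⟩
    rintro ⟨i, hi⟩
    exact ha (hi ▸ (f i).2)
  have hy : Function.Injective y := by
    rw [Fin.cons_injective_iff]
    refine ⟨?_, hinj⟩
    rintro ⟨i, hi⟩
    exact hb (hi ▸ (f i).2)
  obtain ⟨g, hg, h⟩ := exists_M24_map (n := R.card + 1) (by omega) x y hx hy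
  refine ⟨g, hg, fun r hr => ?_, ?_⟩
  · have := h (Fin.succ (f.symm ⟨r, hr⟩))
    simpa [x, y] using this
  · have := h 0
    simpa [x, y] using this

/-- The even-weight words. -/
def evenW : Set (GolayPt → ZMod 2) := {w | ∑ p, w p = 0}

theorem sum_eq_card_supp (w : GolayPt → ZMod 2) : ∑ p, w p = ((supp w).card : ZMod 2) := by
  have h : ∀ p, w p = if w p ≠ 0 then 1 else 0 := by
    intro p
    have : ∀ a : ZMod 2, a = if a ≠ 0 then 1 else 0 := by decide
    exact this _
  rw [Finset.sum_congr rfl (fun p _ => h p), Finset.sum_boole]
  rfl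

/-- An invariant subspace containing a word of weight 2 contains all words of even weight. -/
theorem evenW_le_of_pair {W' : Submodule (ZMod 2) (GolayPt → ZMod 2)} (hW : InvSub W')
    {a b : GolayPt} (hab : a ≠ b) (h : ind {a, b} ∈ W') : evenW ⊆ W' := by
  classical
  have hall : ∀ a' b' : GolayPt, a' ≠ b' → ind {a', b'} ∈ W' := by
    intro a' b' hab'
    obtain ⟨g, hg, hmap⟩ := exists_M24_map (n := 2) (by norm_num) ![a, b] ![a', b']
      (injective_pair hab) (injective_pair hab')
    have h1 := hW g hg _ h
    rw [actW_ind] at h1
    have : ({a, b} : Finset GolayPt).map g.toEmbedding = {a', b'} := by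
      have ha := hmap 0
      have hb := hmap 1
      simp only [Matrix.cons_val_zero, Matrix.cons_val_one] at ha hb
      rw [Finset.map_insert, Finset.map_singleton]
      simp [ha, hb]
    rwa [this] at h1
  have key : ∀ n : ℕ, ∀ w : GolayPt → ZMod 2, (supp w).card = n → w ∈ evenW → w ∈ W' := by
    intro n
    induction n using Nat.strong_induction_on with
    | _ n ih =>
      intro w hn hw
      by_cases h0 : n = 0
      · have : w = 0 := by
          rw [← supp_eq_empty, ← Finset.card_eq_zero, hn, h0]
        rw [this]; exact W'.zero_mem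
      · have hev : ((supp w).card : ZMod 2) = 0 := by rw [← sum_eq_card_supp]; exact hw
        have hev' : Even (supp w).card := (ZMod.natCast_eq_zero_iff_even).1 hev
        have h2 : 2 ≤ (supp w).card := by
          obtain ⟨k, hk⟩ := hev'
          omega
        obtain ⟨S, hSw, hS⟩ := Finset.exists_subset_card_eq (s := supp w) (n := 2) h2
        obtain ⟨a', b', hab', rfl⟩ := Finset.card_eq_two.1 hS
        have hw2 : w = (w + ind {a', b'}) + ind {a', b'} := by
          rw [add_assoc, add_self', add_zero]
        have hsupp : supp (w + ind {a', b'}) = supp w \ {a', b'} := by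
          rw [supp_add, supp_ind]
          ext p
          simp only [Finset.mem_symmDiff, Finset.mem_sdiff]
          constructor
          · rintro (⟨h1, h2⟩ | ⟨h1, h2⟩)
            · exact ⟨h1, h2⟩
            · exact absurd (hSw h1) h2
          · rintro ⟨h1, h2⟩
            exact Or.inl ⟨h1, h2⟩
        have hcard : (supp (w + ind {a', b'})).card = n - 2 := by
          rw [hsupp, Finset.card_sdiff_of_subset hSw, hS, hn]
        rw [hw2]
        apply W'.add_mem _ (hall a' b' hab')
        apply ih (n - 2) (by omega) _ hcard
        show ∑ p, (w + ind {a', b'}) p = 0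
        rw [sum_eq_card_supp, hcard]
        have : Even (n - 2) := by
          rw [← hn]
          obtain ⟨k, hk⟩ := hev'
          exact ⟨k - 1, by omega⟩
        exact (ZMod.natCast_eq_zero_iff_even).2 this
  intro w hw
  exact key _ w rfl hw

/-- An invariant subspace containing a nonzero word of weight at most 4 contains all words of
even weight. -/
theorem evenW_le_of_small {W' : Submodule (ZMod 2) (GolayPt → ZMod 2)} (hW : InvSub W')
    {x e : GolayPt → ZMod 2} (hx : x ∈ W') (hinv : ∀ g ∈ M24, actW g (x + e) = x + e)
    (h0 : e ≠ 0) (h4 : hammingNorm e ≤ 4) : evenW ⊆ W' := by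
  classical
  have hne : (supp e).Nonempty := by
    rw [Finset.nonempty_iff_ne_empty, Ne, supp_eq_empty]; exact h0
  obtain ⟨a, ha⟩ := hne
  have hcard : (supp e).card ≤ 4 := h4
  have hex : ∃ b, b ∉ supp e := by
    by_contra hcon
    push Not at hcon
    have : supp e = Finset.univ := Finset.eq_univ_iff_forall.2 hcon
    rw [this, Finset.card_univ] at hcard
    have : Fintype.card GolayPt = 24 := by decide
    omega
  obtain ⟨b, hb⟩ := hex
  have hab : a ≠ b := fun h => hb (h ▸ ha)
  obtain ⟨g, hg, hfix, hgab⟩ := exists_M24_fix_move ((supp e).erase a)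
    (by have := Finset.card_erase_le (s := supp e) (a := a); omega) a b (by simp)
    (fun h => hb (Finset.mem_of_mem_erase h))
  have h1 := W'.add_mem hx (hW g hg x hx)
  have hxe : x + actW g x = e + actW g e := by
    have h2 := hinv g hg
    have h3 : actW g (x + e) = actW g x + actW g e := rfl
    rw [h3] at h2
    have h4 : actW g x = x + e + actW g e := by
      rw [← h2, add_assoc, add_self', add_zero]
    rw [h4, ← add_assoc, ← add_assoc, add_self', zero_add]
  rw [hxe] at h1
  have hsum : e + actW g e = ind {a, b} := by
    apply supp_injective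
    rw [supp_add, supp_actW, supp_ind]
    ext p
    simp only [Finset.mem_symmDiff, Finset.mem_map_equiv, Finset.mem_insert, Finset.mem_singleton]
    constructor
    · rintro (⟨h1, h2⟩ | ⟨h1, h2⟩)
      · by_cases hpa : p = a
        · exact Or.inl hpa
        · exfalso
          apply h2
          have := hfix p (Finset.mem_erase.2 ⟨hpa, h1⟩)
          have hp : g.symm p = p := by
            rw [Equiv.symm_apply_eq]; exact this.symm
          rw [hp]; exact h1
      · by_cases hqa : g.symm p = a
        · right
          rw [← hgab, ← hqa, Equiv.apply_symm_apply]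
        · exfalso
          apply h2
          have := hfix _ (Finset.mem_erase.2 ⟨hqa, h1⟩)
          rw [Equiv.apply_symm_apply] at this
          rw [this]; exact h1
    · rintro (rfl | rfl)
      · left
        refine ⟨ha, ?_⟩
        intro h
        by_cases hqa : g.symm p = p
        · have : g p = p := by
            have h' := congrArg g hqa
            rw [Equiv.apply_symm_apply] at h'
            exact h'.symm
          rw [hgab] at this
          exact hab this.symm
        · have := hfix _ (Finset.mem_erase.2 ⟨hqa, h⟩)
          rw [Equiv.apply_symm_apply] at this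
          exact hqa this.symm
      · right
        refine ⟨?_, hb⟩
        have : g.symm p = a := by
          rw [Equiv.symm_apply_eq, hgab]
        rw [this]; exact ha
  rw [hsum] at h1
  exact evenW_le_of_pair hW hab h1

end Cfsg.Agent.Lib.H27
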