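import Mathlib
import Cfsg.Agent.Lib.H27.SteinerInt

/-!
helper27 library: intersection numbers in a Steiner system `S(5, 8, 24)`.
-/

set_option autoImplicit false

namespace Cfsg.Agent.Lib.H27

open Cfsg Finset Cfsg.Agent.Lib.H28

variable {α : Type*} [Fintype α] [DecidableEq α]

/-- The sums `S_j = ∑_{c ≠ b} C(|c ∩ b|, j)` for `j = 0, …, 4` in an `S(5, 8, 24)`. -/
theorem s5824_sums (hα : Fintype.card α = 24) {B : Set (Finset α)}
    (hB : IsSteinerSystem 5 8 B) {b : Finset α} (hb : b ∈ B) :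
    (∑ c ∈ (blocksF B).erase b, Nat.choose (c ∩ b).card 0) = 758 ∧
    (∑ c ∈ (blocksF B).erase b, Nat.choose (c ∩ b).card 1) = 2016 ∧
    (∑ c ∈ (blocksF B).erase b, Nat.choose (c ∩ b).card 2) = 2128 ∧
    (∑ c ∈ (blocksF B).erase b, Nat.choose (c ∩ b).card 3) = 1120 ∧
    (∑ c ∈ (blocksF B).erase b, Nat.choose (c ∩ b).card 4) = 280 := by
  have h0 := sum_choose_inter_erase hB hb 0 (by norm_num)
  have h1 := sum_choose_inter_erase hB hb 1 (by norm_num)
  have h2 := sum_choose_inter_erase hB hb 2 (by norm_num)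
  have h3 := sum_choose_inter_erase hB hb 3 (by norm_num)
  have h4 := sum_choose_inter_erase hB hb 4 (by norm_num)
  rw [hα] at h0 h1 h2 h3 h4
  have e0 : Nat.choose 8 5 = 56 := by decide
  have e1 : Nat.choose 7 4 = 35 := by decide
  have e2 : Nat.choose 6 3 = 20 := by decide
  have e3 : Nat.choose 5 2 = 10 := by decide
  have e4 : Nat.choose 4 1 = 4 := by decide
  have f0 : Nat.choose 24 5 = 42504 := by decide
  have f1 : Nat.choose 23 4 = 8855 := by decide
  have f2 : Nat.choose 22 3 = 1540 := by decide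
  have f3 : Nat.choose 21 2 = 210 := by decide
  have f4 : Nat.choose 20 1 = 20 := by decide
  have g0 : Nat.choose 8 0 = 1 := by decide
  have g1 : Nat.choose 8 1 = 8 := by decide
  have g2 : Nat.choose 8 2 = 28 := by decide
  have g3 : Nat.choose 8 3 = 56 := by decide
  have g4 : Nat.choose 8 4 = 70 := by decide
  norm_num only [e0, e1, e2, e3, e4, f0, f1, f2, f3, f4, g0, g1, g2, g3, g4] at h0 h1 h2 h3 h4
  refine ⟨?_, ?_, ?_, ?_, ?_⟩ <;> omega

/-- Two distinct blocks of an `S(5, 8, 24)` meet in 0, 2 or 4 points. -/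
theorem s5824_inter (hα : Fintype.card α = 24) {B : Set (Finset α)}
    (hB : IsSteinerSystem 5 8 B) {b c : Finset α} (hb : b ∈ B) (hc : c ∈ B) (hne : c ≠ b) :
    (c ∩ b).card = 0 ∨ (c ∩ b).card = 2 ∨ (c ∩ b).card = 4 := by
  obtain ⟨-, s1, s2, s3, s4⟩ := s5824_sums hα hB hb
  have hle : ∀ d ∈ (blocksF B).erase b,
      6 * Nat.choose (d ∩ b).card 2 + 24 * Nat.choose (d ∩ b).card 4
        ≤ 3 * Nat.choose (d ∩ b).card 1 + 12 * Nat.choose (d ∩ b).card 3 := by
    intro d hd
    rw [mem_erase_blocksF] at hd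
    have hlt := inter_card_lt hB hb hd.2 hd.1
    interval_cases (d ∩ b).card <;> decide
  have hsum : (∑ d ∈ (blocksF B).erase b,
      (6 * Nat.choose (d ∩ b).card 2 + 24 * Nat.choose (d ∩ b).card 4))
      = ∑ d ∈ (blocksF B).erase b,
      (3 * Nat.choose (d ∩ b).card 1 + 12 * Nat.choose (d ∩ b).card 3) := by
    rw [sum_add_distrib, sum_add_distrib, ← mul_sum, ← mul_sum, ← mul_sum, ← mul_sum,
      s1, s2, s3, s4]
    norm_num
  have hall := (sum_eq_sum_iff_of_le hle).mp hsum c (mem_erase_blocksF.mpr ⟨hne, hc⟩)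
  have hlt := inter_card_lt hB hb hc hne
  revert hall
  interval_cases (c ∩ b).card <;> simp [Nat.choose]

/-- Every block of an `S(5, 8, 24)` is disjoint from exactly 30 blocks. -/
theorem s5824_disjoint (hα : Fintype.card α = 24) {B : Set (Finset α)}
    (hB : IsSteinerSystem 5 8 B) {b : Finset α} (hb : b ∈ B) :
    ((blocksF B).filter (fun c => Disjoint b c)).card = 30 := by
  obtain ⟨s0, s1, s2, s3, s4⟩ := s5824_sums hα hB hb
  have hbk : b.card = 8 := hB.1 b hb
  -- b itself is not disjoint from b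
  have hfil : (blocksF B).filter (fun c => Disjoint b c)
      = ((blocksF B).erase b).filter (fun c => Disjoint b c) := by
    ext c
    simp only [mem_filter, mem_erase]
    constructor
    · rintro ⟨h1, h2⟩
      refine ⟨⟨?_, h1⟩, h2⟩
      rintro rfl
      rw [disjoint_self] at h2
      rw [h2] at hbk
      simp at hbk
    · rintro ⟨⟨-, h1⟩, h2⟩
      exact ⟨h1, h2⟩
  rw [hfil, card_eq_sum_ones, sum_filter]
  have hpt : ∀ d ∈ (blocksF B).erase b,
      (if Disjoint b d then 1 else 0) + Nat.choose (d ∩ b).card 1 + Nat.choose (d ∩ b).card 3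
        = Nat.choose (d ∩ b).card 0 + Nat.choose (d ∩ b).card 2 + Nat.choose (d ∩ b).card 4 := by
    intro d hd
    rw [mem_erase_blocksF] at hd
    have hlt := inter_card_lt hB hb hd.2 hd.1
    have hdis : Disjoint b d ↔ (d ∩ b).card = 0 := by
      rw [card_eq_zero, inter_comm, disjoint_iff_inter_eq_empty]
    by_cases h0 : (d ∩ b).card = 0
    · rw [if_pos (hdis.mpr h0), h0]
      decide
    · rw [if_neg (fun h => h0 (hdis.mp h))]
      revert h0
      interval_cases (d ∩ b).card <;> simp [Nat.choose]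
  have hsum := sum_congr rfl hpt
  rw [sum_add_distrib, sum_add_distrib, sum_add_distrib, sum_add_distrib, s0, s1, s2, s3, s4]
    at hsum
  omega

end Cfsg.Agent.Lib.H27
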