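import Mathlib
import Cfsg.Agent.Lib.H27.Steiner5824

/-!
helper27 library: in a Steiner system `S(5, 8, 24)` the symmetric difference of two blocks meeting
in four points is a block.
-/

set_option autoImplicit false

namespace Cfsg.Agent.Lib.H27

open Cfsg Finset Cfsg.Agent.Lib.H28

variable {α : Type*} [Fintype α] [DecidableEq α]

theorem card_symmDiff_add (A B : Finset α) :
    (symmDiff A B).card + 2 * (A ∩ B).card = A.card + B.card := by
  have h1 : symmDiff A B = (A \ B) ∪ (B \ A) := rfl
  have h2 : Disjoint (A \ B) (B \ A) := disjoint_sdiff_sdiff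
  rw [h1, card_union_of_disjoint h2]
  have h3 := card_sdiff_add_card_inter A B
  have h4 := card_sdiff_add_card_inter B A
  rw [inter_comm B A] at h4
  omega

/-- Any two blocks (equal or not) meet in an even number of points. -/
theorem s5824_even_inter (hα : Fintype.card α = 24) {B : Set (Finset α)}
    (hB : IsSteinerSystem 5 8 B) {b c : Finset α} (hb : b ∈ B) (hc : c ∈ B) :
    Even (c ∩ b).card := by
  by_cases hne : c = b
  · rw [hne, inter_self, hB.1 b hb]; decide
  · rcases s5824_inter hα hB hb hc hne with h | h | h <;> rw [h] <;> decide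

/-- Parity of the intersection with a symmetric difference. -/
theorem even_symmDiff_inter (X Y e : Finset α) (hX : Even (X ∩ e).card) (hY : Even (Y ∩ e).card) :
    Even ((symmDiff X Y) ∩ e).card := by
  have h1 : symmDiff X Y ∩ e = symmDiff (X ∩ e) (Y ∩ e) := by
    ext x
    simp only [mem_inter, mem_symmDiff]
    tauto
  rw [h1]
  have h2 := card_symmDiff_add (X ∩ e) (Y ∩ e)
  obtain ⟨a, ha⟩ := hX
  obtain ⟨b, hb⟩ := hY
  rw [Nat.even_iff]
  omega

/-- There are exactly five blocks through four points. -/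
theorem s5824_lambda4 (hα : Fintype.card α = 24) {B : Set (Finset α)}
    (hB : IsSteinerSystem 5 8 B) (Y : Finset α) (hY : Y.card = 4) :
    ((blocksF B).filter (Y ⊆ ·)).card = 5 := by
  have h := steiner_count hB Y (by rw [hY]; norm_num)
  rw [hY, hα] at h
  have e1 : Nat.choose (8 - 4) (5 - 4) = 4 := by decide
  have e2 : Nat.choose (24 - 4) (5 - 4) = 20 := by decide
  rw [e1, e2] at h
  omega

/-- Through a 4-set `Y` there is a block avoiding a given set `Z` of at most 4 other points. -/
theorem s5824_block_avoiding (hα : Fintype.card α = 24) {B : Set (Finset α)}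
    (hB : IsSteinerSystem 5 8 B) (Y Z : Finset α) (hY : Y.card = 4) (hYZ : Disjoint Y Z)
    (hZ : Z.card ≤ 4) : ∃ e ∈ B, Y ⊆ e ∧ Disjoint e Z := by
  by_contra hno
  push Not at hno
  have h5 := s5824_lambda4 hα hB Y hY
  -- the sets e ∩ Z are pairwise disjoint and nonempty
  have hdisj : ∀ e ∈ (blocksF B).filter (Y ⊆ ·), ∀ e' ∈ (blocksF B).filter (Y ⊆ ·), e ≠ e' →
      Disjoint (e ∩ Z) (e' ∩ Z) := by
    intro e he e' he' hne
    rw [mem_filter, mem_blocksF] at he he'
    rw [disjoint_left]
    intro x hx hx'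
    rw [mem_inter] at hx hx'
    -- x ∈ e ∩ e', x ∉ Y, so |e ∩ e'| ≥ 5
    have hxY : x ∉ Y := fun h => (disjoint_left.mp hYZ) h hx.2
    have hsub : insert x Y ⊆ e ∩ e' := by
      intro y hy
      rw [mem_insert] at hy
      rcases hy with rfl | hy
      · exact mem_inter.mpr ⟨hx.1, hx'.1⟩
      · exact mem_inter.mpr ⟨he.2 hy, he'.2 hy⟩
    have hcard : 5 ≤ (e ∩ e').card := by
      calc 5 = (insert x Y).card := by rw [card_insert_of_notMem hxY, hY]
        _ ≤ (e ∩ e').card := card_le_card hsub
    have := inter_card_lt hB he'.1 he.1 hne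
    omega
  have hcard := card_biUnion (s := (blocksF B).filter (Y ⊆ ·)) (t := fun e => e ∩ Z)
    (fun e he e' he' hne => hdisj e he e' he' hne)
  have hsub : ((blocksF B).filter (Y ⊆ ·)).biUnion (fun e => e ∩ Z) ⊆ Z := by
    intro x hx
    rw [mem_biUnion] at hx
    obtain ⟨e, -, hxe⟩ := hx
    exact (mem_inter.mp hxe).2
  have hle := card_le_card hsub
  rw [hcard] at hle
  have hge : ∀ e ∈ (blocksF B).filter (Y ⊆ ·), 1 ≤ (e ∩ Z).card := by
    intro e he
    rw [mem_filter, mem_blocksF] at he
    have := hno e he.1 he.2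
    rw [disjoint_iff_inter_eq_empty] at this
    exact Nat.one_le_iff_ne_zero.mpr (fun h => this (card_eq_zero.mp h))
  have h5' : ((blocksF B).filter (Y ⊆ ·)).card * 1 ≤ ∑ e ∈ (blocksF B).filter (Y ⊆ ·), (e ∩ Z).card := by
    rw [← smul_eq_mul, ← sum_const]
    exact sum_le_sum hge
  omega

/-- A nonempty set of at most 6 points of even size meets some block in an odd number of points. -/
theorem s5824_odd_block (hα : Fintype.card α = 24) {B : Set (Finset α)}
    (hB : IsSteinerSystem 5 8 B) (U : Finset α) (hU0 : U.Nonempty) (hU6 : U.card ≤ 6)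
    (hUe : Even U.card) : ∃ e ∈ B, ¬ Even (U ∩ e).card := by
  have hpos : 0 < U.card := card_pos.mpr hU0
  -- choose the odd size a ∈ {1, 3}
  obtain ⟨a, ha1, ha2, ha3⟩ : ∃ a : ℕ, (a = 1 ∨ a = 3) ∧ a ≤ U.card ∧ U.card - a ≤ 3 := by
    obtain ⟨k, hk⟩ := hUe
    by_cases h2 : U.card = 2
    · exact ⟨1, Or.inl rfl, by omega, by omega⟩
    · exact ⟨3, Or.inr rfl, by omega, by omega⟩
  obtain ⟨A, hAU, hAcard⟩ := exists_subset_card_eq ha2
  have hcompl : 4 - a ≤ Uᶜ.card := by
    rw [card_compl, hα]; omega
  obtain ⟨R, hRU, hRcard⟩ := exists_subset_card_eq hcompl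
  have hAR : Disjoint A R := by
    rw [disjoint_left]
    intro x hxA hxR
    have := hRU hxR
    rw [mem_compl] at this
    exact this (hAU hxA)
  have hYcard : (A ∪ R).card = 4 := by
    rw [card_union_of_disjoint hAR, hAcard, hRcard]
    rcases ha1 with rfl | rfl <;> rfl
  have hYZ : Disjoint (A ∪ R) (U \ A) := by
    rw [disjoint_left]
    intro x hx hx'
    rw [mem_sdiff] at hx'
    rw [mem_union] at hx
    rcases hx with h | h
    · exact hx'.2 h
    · have := hRU h
      rw [mem_compl] at this
      exact this hx'.1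
  have hZcard : (U \ A).card ≤ 4 := by
    rw [card_sdiff_of_subset hAU, hAcard]; omega
  obtain ⟨e, heB, hYe, heZ⟩ := s5824_block_avoiding hα hB (A ∪ R) (U \ A) hYcard hYZ hZcard
  refine ⟨e, heB, ?_⟩
  have hUe' : U ∩ e = A := by
    ext x
    rw [mem_inter]
    constructor
    · rintro ⟨hxU, hxe⟩
      by_contra hxA
      exact (disjoint_left.mp heZ) hxe (mem_sdiff.mpr ⟨hxU, hxA⟩)
    · intro hxA
      exact ⟨hAU hxA, hYe (mem_union_left _ hxA)⟩
  rw [hUe', hAcard]
  rcases ha1 with rfl | rfl <;> decide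

/-- The symmetric difference of two blocks meeting in four points is a block. -/
theorem s5824_symmDiff (hα : Fintype.card α = 24) {B : Set (Finset α)}
    (hB : IsSteinerSystem 5 8 B) {b c : Finset α} (hb : b ∈ B) (hc : c ∈ B)
    (h4 : (b ∩ c).card = 4) : symmDiff b c ∈ B := by
  have hbk : b.card = 8 := hB.1 b hb
  have hck : c.card = 8 := hB.1 c hc
  have hW : (symmDiff b c).card = 8 := by
    have := card_symmDiff_add b c
    omega
  obtain ⟨S, hSW, hScard⟩ := exists_subset_card_eq (show 5 ≤ (symmDiff b c).card by omega)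
  obtain ⟨d, ⟨hdB, hSd⟩, -⟩ := hB.2 S hScard
  have hdk : d.card = 8 := hB.1 d hdB
  have hm : 5 ≤ (symmDiff b c ∩ d).card := by
    rw [← hScard]
    exact card_le_card (subset_inter hSW hSd)
  have hUcard := card_symmDiff_add (symmDiff b c) d
  by_cases hU0 : symmDiff (symmDiff b c) d = ∅
  · have : symmDiff b c = d := by
      have h := symmDiff_eq_bot.mp hU0
      exact h
    rw [this]; exact hdB
  · exfalso
    have hne : (symmDiff (symmDiff b c) d).Nonempty := nonempty_iff_ne_empty.mpr hU0
    have hle : (symmDiff (symmDiff b c) d).card ≤ 6 := by omega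
    have hev : Even (symmDiff (symmDiff b c) d).card := by
      rw [Nat.even_iff]; omega
    obtain ⟨e, heB, hodd⟩ := s5824_odd_block hα hB _ hne hle hev
    apply hodd
    apply even_symmDiff_inter
    · apply even_symmDiff_inter
      · exact s5824_even_inter hα hB heB hb
      · exact s5824_even_inter hα hB heB hc
    · exact s5824_even_inter hα hB heB hdB

end Cfsg.Agent.Lib.H27
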