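/-
helper27: UP2-E2 of the unitary phase-2 farm-out (helper15, tools/blueprints/UP2_sigs.lean):
for `q = 2` the tensor member `GL_2 ⊗ GL_{n₂}` of the unitary group lies in the stabiliser of a non-degenerate
decomposition into two blocks.
-/
import Cfsg.Agent.Lib.Lead.AschUDefs
import Cfsg.Agent.Lib.H29.Tensor
import Cfsg.Agent.Lib.H22.AschUM4E

set_option autoImplicit false

namespace Cfsg.Agent.Lib.H27.UP2

open Cfsg Cfsg.Geo Cfsg.Agent.Lib.Lead.Asch Cfsg.Agent.Lib.H29.Tensor Cfsg.Agent.Lib.H22.Asch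
open scoped MatrixGroups Matrix Kronecker

variable {F : Type*} [Field F] {n q : ℕ}

theorem formOfGram_pt_pow {n₁ n₂ : ℕ} (G₁ : Matrix (Fin n₁) (Fin n₁) F) (G₂ : Matrix (Fin n₂) (Fin n₂) F)
    (u u' : Fin n₁ → F) (z z' : Fin n₂ → F) :
    formOfGram (fun x : F => x ^ q) (G₁ ⊗ₖ G₂) (pt u z) (pt u' z') =
      formOfGram (fun x : F => x ^ q) G₁ u u' * formOfGram (fun x : F => x ^ q) G₂ z z' := by
  unfold formOfGram pt
  simp only [Fintype.sum_prod_type, Matrix.kroneckerMap_apply, Finset.sum_mul_sum, mul_pow]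
  refine Finset.sum_congr rfl fun a _ => ?_
  refine Finset.sum_congr rfl fun b _ => ?_
  refine Finset.sum_congr rfl fun k _ => ?_
  refine Finset.sum_congr rfl fun l _ => ?_
  ring

/-- the value of a unitary form with a tensor structure on pure tensors -/
theorem form_tau_pow {n₁ n₂ : ℕ} (e : Fin n ≃ Fin n₁ × Fin n₂) (P : GL (Fin n) F)
    (φ : F →+* F) (hφ : ∀ x, φ x = x ^ q)
    {f : (Fin n → F) → (Fin n → F) → F} {f₁ : (Fin n₁ → F) → (Fin n₁ → F) → F}
    {f₂ : (Fin n₂ → F) → (Fin n₂ → F) → F} (h1 : IsUnitaryFormPow q f₁) (h2 : IsUnitaryFormPow q f₂) (c : F)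
    (hT : ∀ x y : Fin n₁ × Fin n₂ → F,
      f ((P : Matrix (Fin n) (Fin n) F) *ᵥ (x ∘ e)) ((P : Matrix (Fin n) (Fin n) F) *ᵥ (y ∘ e)) =
      c * formOfGram (fun x : F => x ^ q) (gramMatrix f₁ ⊗ₖ gramMatrix f₂) x y)
    (u u' : Fin n₁ → F) (z z' : Fin n₂ → F) :
    f (tau e P u z) (tau e P u' z') = c * (f₁ u u' * f₂ z z') := by
  have hfun : (fun x : F => x ^ q) = ⇑φ := funext fun x => (hφ x).symm
  unfold tau
  rw [hT, formOfGram_pt_pow, hfun, ← ufp_formOfGram φ hφ h1, ← ufp_formOfGram φ hφ h2]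

theorem tau_zero_right {n₁ n₂ : ℕ} (e : Fin n ≃ Fin n₁ × Fin n₂) (P : GL (Fin n) F) (u : Fin n₁ → F) :
    tau e P u (0 : Fin n₂ → F) = 0 := by
  have := tau_smul_right e P (0 : F) u (0 : Fin n₂ → F)
  rwa [zero_smul, zero_smul] at this

variable [Fintype F]

/-- **UP2-E2**. -/
theorem c4_two_q2 (hF : Fintype.card F = q ^ 2) (hq : q = 2) (n₂ : ℕ) (e : Fin n ≃ Fin 2 × Fin n₂)
    (P : GL (Fin n) F) (f₁ : (Fin 2 → F) → (Fin 2 → F) → F) (f₂ : (Fin n₂ → F) → (Fin n₂ → F) → F)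
    (hf₁ : IsUnitaryFormPow q f₁) (hf₂ : IsUnitaryFormPow q f₂)
    (hT : IsTensorFormStructure (fun x : F => x ^ q) (hermForm n F q) f₁ f₂ e P) (hn₂ : 0 < n₂) :
    ∃ D : Fin 2 → Submodule F (Fin n → F), IsNondegenerateMDecomposition (hermForm n F q) n₂ D ∧
      tensorProductSubgroup 2 n₂ e P ⊓ GU n F q ≤ decompositionStabilizer D := by
  classical
  obtain ⟨φ, hφ, hφ2⟩ := Cfsg.Agent.Lib.H4.exists_frob hF
  obtain ⟨b, hb⟩ := exists_onb hF φ hφ hφ2 f₁ hf₁
  obtain ⟨c, hc, hTc⟩ := hT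
  have hq0 : q ≠ 0 := by rw [hq]; norm_num
  -- arithmetic of the field with four elements
  have h4 : Fintype.card F = 4 := by rw [hF, hq]; norm_num
  have h2 : (2 : F) = 0 := by
    have h := Nat.cast_card_eq_zero F
    rw [h4] at h
    have h' : (2 : F) * 2 = 0 := by
      have : ((4 : ℕ) : F) = 2 * 2 := by norm_num
      rw [← this]; exact h
    rcases mul_self_eq_zero.1 h' with h0
    exact h0
  have hcube : ∀ a : F, a ≠ 0 → a ^ 3 = 1 := by
    intro a ha
    have := FiniteField.pow_card_sub_one_eq_one a ha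
    rwa [h4] at this
  -- the form on pure tensors
  have hform : ∀ (u u' : Fin 2 → F) (z z' : Fin n₂ → F),
      hermForm n F q (tau e P u z) (tau e P u' z') = c * (f₁ u u' * f₂ z z') :=
    form_tau_pow e P φ hφ hf₁ hf₂ c hTc
  have hformb : ∀ (i j : Fin 2) (z z' : Fin n₂ → F),
      hermForm n F q (tau e P (b i) z) (tau e P (b j) z') = c * ((if i = j then 1 else 0) * f₂ z z') := by
    intro i j z z'
    rw [hform, hb]
  have hzero_right : ∀ v : Fin n → F, hermForm n F q v 0 = 0 := by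
    intro v
    unfold hermForm
    refine Finset.sum_eq_zero fun i _ => ?_
    rw [Pi.zero_apply, zero_pow hq0, mul_zero]
  have hzero_left : ∀ v : Fin n → F, hermForm n F q 0 v = 0 := by
    intro v
    unfold hermForm
    refine Finset.sum_eq_zero fun i _ => ?_
    rw [Pi.zero_apply, zero_mul]
  -- the two blocks
  let J : Fin 2 → (Fin n₂ → F) →ₗ[F] (Fin n → F) := fun i =>
    { toFun := fun z => tau e P (b i) z
      map_add' := fun z z' => tau_add_right e P (b i) z z'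
      map_smul' := fun a z => tau_smul_right e P a (b i) z }
  have hJ : ∀ i z, J i z = tau e P (b i) z := fun i z => rfl
  let D : Fin 2 → Submodule F (Fin n → F) := fun i => LinearMap.range (J i)
  have hDmem : ∀ i v, v ∈ D i ↔ ∃ z, tau e P (b i) z = v := fun i v => Iff.rfl
  have hJinj : ∀ i, Function.Injective (J i) := by
    intro i
    rw [← LinearMap.ker_eq_bot, LinearMap.ker_eq_bot']
    intro z hz
    by_contra hz0
    obtain ⟨⟨x, hx⟩, -⟩ := hf₂.nondegenerate z hz0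
    have h1 := hformb i i x z
    rw [← hJ i z, hz, hzero_right, if_pos rfl, one_mul] at h1
    exact (mul_ne_zero hc hx) h1.symm
  have hfin : ∀ i, Module.finrank F (D i) = n₂ := by
    intro i
    show Module.finrank F (LinearMap.range (J i)) = n₂
    rw [LinearMap.finrank_range_of_inj (hJinj i), Module.finrank_fin_fun]
  have hn : n = n₂ + n₂ := by
    have := Fintype.card_congr e
    rw [Fintype.card_fin, Fintype.card_prod, Fintype.card_fin, Fintype.card_fin] at this
    omega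
  have horth : ∀ i j, i ≠ j → AreOrthogonalFor (hermForm n F q) (D i) (D j) := by
    intro i j hij u hu v hv
    obtain ⟨z, rfl⟩ := (hDmem i u).1 hu
    obtain ⟨z', rfl⟩ := (hDmem j v).1 hv
    rw [hformb, if_neg hij, zero_mul, mul_zero]
  have hdisj : Disjoint (D 0) (D 1) := by
    rw [Submodule.disjoint_def]
    intro v h0 h1
    obtain ⟨z, rfl⟩ := (hDmem 0 v).1 h0
    by_contra hv
    have hz0 : z ≠ 0 := by
      rintro rfl
      exact hv (tau_zero_right e P (b 0))
    obtain ⟨⟨x, hx⟩, -⟩ := hf₂.nondegenerate z hz0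
    have e1 := hformb 0 0 x z
    rw [if_pos rfl, one_mul] at e1
    have e2 := horth 0 1 (by decide) _ ((hDmem 0 _).2 ⟨x, rfl⟩) _ h1
    rw [e1] at e2
    exact (mul_ne_zero hc hx) e2
  have hsup : iSup D = ⊤ := by
    have h1 : iSup D = D 0 ⊔ D 1 :=
      le_antisymm (iSup_le (Fin.forall_fin_two.2 ⟨le_sup_left, le_sup_right⟩))
        (sup_le (le_iSup D 0) (le_iSup D 1))
    rw [h1]
    apply Submodule.eq_top_of_disjoint _ _ _ hdisj
    rw [hfin, hfin, Module.finrank_fin_fun]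
    exact hn.le
  have hindep : iSupIndep D := by
    rw [iSupIndep_pair (i := (0 : Fin 2)) (j := 1) (by decide)
      (fun k => by rcases Fin.exists_fin_two.1 ⟨k, rfl⟩ with h | h <;> simp [h])]
    exact hdisj
  have hdec : IsMDecomposition n₂ D := ⟨le_refl 2, hn₂, hfin, hindep, hsup⟩
  refine ⟨D, ⟨hdec, ?_, horth⟩, ?_⟩
  · -- non-degenerate blocks
    intro i w hw hw0
    obtain ⟨z, rfl⟩ := (hDmem i w).1 hw
    have hz0 : z ≠ 0 := by
      rintro rfl
      exact hw0 (tau_zero_right e P (b i))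
    obtain ⟨⟨x, hx⟩, ⟨y, hy⟩⟩ := hf₂.nondegenerate z hz0
    refine ⟨⟨tau e P (b i) x, (hDmem i _).2 ⟨x, rfl⟩, ?_⟩, ⟨tau e P (b i) y, (hDmem i _).2 ⟨y, rfl⟩, ?_⟩⟩
    · rw [hformb, if_pos rfl, one_mul]; exact mul_ne_zero hc hx
    · rw [hformb, if_pos rfl, one_mul]; exact mul_ne_zero hc hy
  · -- the stabiliser
    rintro g ⟨hgT, hgU⟩
    obtain ⟨A, B, hAB⟩ := tensor_apply e P g hgT
    have hgU' : ∀ u v : Fin n → F, hermForm n F q ((g : Matrix (Fin n) (Fin n) F) *ᵥ u)
        ((g : Matrix (Fin n) (Fin n) F) *ᵥ v) = hermForm n F q u v := fun u v => hgU u v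
    -- the similarity relation
    have hsim : ∀ (u u' : Fin 2 → F) (z z' : Fin n₂ → F),
        f₁ ((A : Matrix (Fin 2) (Fin 2) F) *ᵥ u) ((A : Matrix (Fin 2) (Fin 2) F) *ᵥ u') *
          f₂ ((B : Matrix (Fin n₂) (Fin n₂) F) *ᵥ z) ((B : Matrix (Fin n₂) (Fin n₂) F) *ᵥ z') =
        f₁ u u' * f₂ z z' := by
      intro u u' z z'
      have h1 := hgU' (tau e P u z) (tau e P u' z')
      rw [hAB, hAB, hform, hform] at h1
      exact mul_left_cancel₀ hc h1
    -- a pair with non-zero value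
    obtain ⟨z₀, z₀', hz₀⟩ : ∃ z z' : Fin n₂ → F, f₂ z z' ≠ 0 := by
      have hne : (Pi.single (⟨0, hn₂⟩ : Fin n₂) (1 : F) : Fin n₂ → F) ≠ 0 := by
        intro h
        have := congrFun h ⟨0, hn₂⟩
        rw [Pi.single_eq_same, Pi.zero_apply] at this
        exact one_ne_zero this
      obtain ⟨⟨x, hx⟩, -⟩ := hf₂.nondegenerate _ hne
      exact ⟨x, _, hx⟩
    have hBne : f₂ ((B : Matrix (Fin n₂) (Fin n₂) F) *ᵥ z₀) ((B : Matrix (Fin n₂) (Fin n₂) F) *ᵥ z₀') ≠ 0 := by
      intro h0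
      have h1 := hsim (b 0) (b 0) z₀ z₀'
      rw [h0, mul_zero, hb, if_pos rfl, one_mul] at h1
      exact hz₀ h1.symm
    -- values of `f₁` on the images of the basis
    have hval : ∀ i j : Fin 2, f₁ ((A : Matrix (Fin 2) (Fin 2) F) *ᵥ b i)
        ((A : Matrix (Fin 2) (Fin 2) F) *ᵥ b j) ≠ 0 ↔ i = j := by
      intro i j
      have h1 := hsim (b i) (b j) z₀ z₀'
      rw [hb] at h1
      constructor
      · intro hne
        by_contra hij
        rw [if_neg hij, zero_mul] at h1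
        exact (mul_ne_zero hne hBne) h1
      · rintro rfl h0
        rw [h0, zero_mul, if_pos rfl, one_mul] at h1
        exact hz₀ h1.symm
    -- coordinates of the images
    have hcoord : ∀ (i : Fin 2) (u v : Fin 2 → F), f₁ u v =
        b.repr u 0 * (b.repr v 0) ^ q + b.repr u 1 * (b.repr v 1) ^ q := by
      intro i u v
      rw [ufp_onb φ hφ hf₁ b hb, Fin.sum_univ_two, hφ, hφ]
    have hAb : ∀ i : Fin 2, (A : Matrix (Fin 2) (Fin 2) F) *ᵥ b i =
        b.repr ((A : Matrix (Fin 2) (Fin 2) F) *ᵥ b i) 0 • b 0 +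
          b.repr ((A : Matrix (Fin 2) (Fin 2) F) *ᵥ b i) 1 • b 1 := by
      intro i
      have := (b.sum_repr ((A : Matrix (Fin 2) (Fin 2) F) *ᵥ b i)).symm
      rwa [Fin.sum_univ_two] at this
    -- exactly one coordinate of `A (b i)` is non-zero
    have hone : ∀ i : Fin 2,
        (b.repr ((A : Matrix (Fin 2) (Fin 2) F) *ᵥ b i) 0 ≠ 0 ∧
          b.repr ((A : Matrix (Fin 2) (Fin 2) F) *ᵥ b i) 1 = 0) ∨
        (b.repr ((A : Matrix (Fin 2) (Fin 2) F) *ᵥ b i) 0 = 0 ∧
          b.repr ((A : Matrix (Fin 2) (Fin 2) F) *ᵥ b i) 1 ≠ 0) := by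
      intro i
      have h1 := (hval i i).2 rfl
      rw [hcoord i, hq] at h1
      set α := b.repr ((A : Matrix (Fin 2) (Fin 2) F) *ᵥ b i) 0
      set β := b.repr ((A : Matrix (Fin 2) (Fin 2) F) *ᵥ b i) 1
      by_cases ha : α = 0
      · by_cases hb' : β = 0
        · exfalso; apply h1; rw [ha, hb']; ring
        · exact Or.inr ⟨ha, hb'⟩
      · by_cases hb' : β = 0
        · exact Or.inl ⟨ha, hb'⟩
        · exfalso
          apply h1
          have e1 : α * α ^ 2 = 1 := by rw [← hcube α ha]; ring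
          have e2 : β * β ^ 2 = 1 := by rw [← hcube β hb']; ring
          rw [e1, e2]
          linear_combination h2
    -- the image of a block
    have hmap : ∀ (i j : Fin 2) (lam : F), lam ≠ 0 →
        (A : Matrix (Fin 2) (Fin 2) F) *ᵥ b i = lam • b j →
        (D i).map (Matrix.toLin' (g : Matrix (Fin n) (Fin n) F)) = D j := by
      intro i j lam hlam hA
      ext v
      rw [Submodule.mem_map, hDmem]
      constructor
      · rintro ⟨w, hw, rfl⟩
        obtain ⟨z, rfl⟩ := (hDmem i w).1 hw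
        refine ⟨lam • ((B : Matrix (Fin n₂) (Fin n₂) F) *ᵥ z), ?_⟩
        rw [Matrix.toLin'_apply, hAB, hA, tau_smul_left, tau_smul_right]
      · rintro ⟨z, rfl⟩
        refine ⟨tau e P (b i) (((B⁻¹ : GL (Fin n₂) F) : Matrix (Fin n₂) (Fin n₂) F) *ᵥ (lam⁻¹ • z)),
          (hDmem i _).2 ⟨_, rfl⟩, ?_⟩
        rw [Matrix.toLin'_apply, hAB, hA, Matrix.mulVec_mulVec, ← Units.val_mul, mul_inv_cancel,
          Units.val_one, Matrix.one_mulVec, tau_smul_left, tau_smul_right, smul_smul,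
          mul_inv_cancel₀ hlam, one_smul]
    -- the two cases
    have hA0 := hAb 0
    have hA1 := hAb 1
    have hcross : f₁ ((A : Matrix (Fin 2) (Fin 2) F) *ᵥ b 0) ((A : Matrix (Fin 2) (Fin 2) F) *ᵥ b 1) = 0 := by
      by_contra h
      have := (hval 0 1).1 h
      exact absurd this (by decide)
    rw [hcoord 0] at hcross
    rcases hone 0 with ⟨a0, a1⟩ | ⟨a0, a1⟩
    · -- `A (b 0)` is a multiple of `b 0`
      rcases hone 1 with ⟨c0, c1⟩ | ⟨c0, c1⟩
      · exfalso
        rw [a1, c1, zero_mul, add_zero] at hcross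
        exact (mul_ne_zero a0 (pow_ne_zero _ c0)) hcross
      · refine ⟨1, fun i => ?_⟩
        rcases Fin.exists_fin_two.1 ⟨i, rfl⟩ with rfl | rfl
        · exact hmap 0 0 _ a0 (hA0.trans (by rw [a1, zero_smul, add_zero]))
        · exact hmap 1 1 _ c1 (hA1.trans (by rw [c0, zero_smul, zero_add]))
    · rcases hone 1 with ⟨c0, c1⟩ | ⟨c0, c1⟩
      · refine ⟨Equiv.swap 0 1, fun i => ?_⟩
        rcases Fin.exists_fin_two.1 ⟨i, rfl⟩ with rfl | rfl
        · rw [Equiv.swap_apply_left]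
          exact hmap 0 1 _ a1 (hA0.trans (by rw [a0, zero_smul, zero_add]))
        · rw [Equiv.swap_apply_right]
          exact hmap 1 0 _ c0 (hA1.trans (by rw [c1, zero_smul, add_zero]))
      · exfalso
        rw [a0, c0, zero_mul, zero_add] at hcross
        exact (mul_ne_zero a1 (pow_ne_zero _ c1)) hcross

end Cfsg.Agent.Lib.H27.UP2
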