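import Cfsg.Agent.Lib.H7.S3814Defs2

/-!
# S3814, shape (I), BLOCK CASE 1 : cut (helper27, sub-architect)

`K` has a normal elementary abelian `c`-subgroup `M` of rank `≥ 2`.  Target: `Case1Stmt` of
`Lib/H7/S3814Defs2`.  Everything here is a `Prop`-valued piece statement, except the compiled
assemblies `ctx1_of`, `ctx2_false`, `case1`.  One universe `u`.  Notation of the board:
`c = r` (the prime of `M`), `t`, `t'` the two other primes of `K`, `A0 = C_X(M)`,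
`X1 = C_X(u0)`.
-/

namespace Cfsg.Agent.H27.S3814C1

open Cfsg.Agent.H7.S3814Defs

universe u

section defs

variable {G : Type u} [Group G]

/-- `x` centralises `M` elementwise. -/
def Cent (x : G) (M : Subgroup G) : Prop := ∀ m ∈ M, x * m = m * x

/-- `σ = {p, c, t, t'}`. -/
structure Others (σ : Finset ℕ) (p c t t' : ℕ) : Prop where
  hc : c ∈ σ
  ht : t ∈ σ
  ht' : t' ∈ σ
  cp : c ≠ p
  tp : t ≠ p
  t'p : t' ≠ p
  tc : t ≠ c
  t'c : t' ≠ c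
  tt' : t ≠ t'
  all : ∀ s ∈ σ, s = p ∨ s = c ∨ s = t ∨ s = t'

theorem Others.symm {σ : Finset ℕ} {p c t t' : ℕ} (h : Others σ p c t t') :
    Others σ p c t' t :=
  ⟨h.hc, h.ht', h.ht, h.cp, h.t'p, h.tp, h.t'c, h.tc, h.tt'.symm, fun s hs => by
    rcases h.all s hs with h1 | h1 | h1 | h1
    · exact Or.inl h1
    · exact Or.inr (Or.inl h1)
    · exact Or.inr (Or.inr (Or.inr h1))
    · exact Or.inr (Or.inr (Or.inl h1))⟩

/-- The hypotheses of `Case1Stmt`. -/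
structure Ctx0 (σ : Finset ℕ) (p : ℕ) (V K : Subgroup G) (c : ℕ) (M : Subgroup G) : Prop where
  cex : IsCex G σ
  min : MinSub G σ
  shape : ShapeI σ p V K
  kf : KFacts σ p V K
  hc : c.Prime
  hMK : M ≤ K
  hMn : K ≤ Subgroup.normalizer (M : Set G)
  hMe : ElemAb c M
  hM2 : c ^ 2 ∣ Nat.card M

/-- `X` is a complement of `M` in `K` (a Hall `c'`-subgroup of `K`). -/
structure IsCompl (K : Subgroup G) (c : ℕ) (M X : Subgroup G) : Prop where
  le : X ≤ K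
  inf : M ⊓ X = ⊥
  sup : M ⊔ X = K
  cop : (Nat.card X).Coprime c

/-- Stage 1 context: `K = M ⋊ X`, the primes named, (still symmetric in `t`, `t'`). -/
structure Ctx1 (σ : Finset ℕ) (p : ℕ) (V K : Subgroup G) (c : ℕ) (M X : Subgroup G)
    (t t' : ℕ) : Prop where
  c0 : Ctx0 σ p V K c M
  oth : Others σ p c t t'
  mr2 : Rank2 M c
  good : ∃ x ∈ M, orderOf x = c ∧ ¬ Fpf x V
  compl : IsCompl K c M X
  xr2 : Rank2 X t
  xr2' : Rank2 X t'
  xj2 : ∃ u ∈ X, ∃ w ∈ X, orderOf u = t ∧ orderOf w = t' ∧ u * w = w * u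

theorem Ctx1.symm {σ : Finset ℕ} {p : ℕ} {V K : Subgroup G} {c : ℕ} {M X : Subgroup G}
    {t t' : ℕ} (h : Ctx1 σ p V K c M X t t') : Ctx1 σ p V K c M X t' t :=
  ⟨h.c0, h.oth.symm, h.mr2, h.good, h.compl, h.xr2', h.xr2, by
    obtain ⟨u, hu, w, hw, h1, h2, h3⟩ := h.xj2
    exact ⟨w, hw, u, hu, h2, h1, h3.symm⟩⟩

/-! ### instance-level facts -/

/-- (F4) a prime-order element commuting with a `C_s × C_s` (other prime `s`) is bad. -/
def F4Fact (V K : Subgroup G) : Prop :=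
  ∀ y ∈ K, ∀ e₁ ∈ K, ∀ e₂ ∈ K, (orderOf y).Prime → (orderOf e₁).Prime →
    orderOf e₂ = orderOf e₁ → orderOf y ≠ orderOf e₁ → e₁ * e₂ = e₂ * e₁ →
    e₂ ∉ Subgroup.zpowers e₁ → y * e₁ = e₁ * y → y * e₂ = e₂ * y → Fpf y V

/-- (G1)/(G2) a prime-order element commuting with elements of two other primes is bad. -/
def G1Fact (V K : Subgroup G) : Prop :=
  ∀ x ∈ K, ∀ y ∈ K, ∀ z ∈ K, (orderOf x).Prime → (orderOf y).Prime → (orderOf z).Prime →
    orderOf x ≠ orderOf y → orderOf x ≠ orderOf z → orderOf y ≠ orderOf z →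
    x * y = y * x → x * z = z * x → Fpf x V

/-- (A3a) prime-order elements of `A0 = C_X(M)` are bad. -/
def A0BadFact (V M X : Subgroup G) : Prop :=
  ∀ y ∈ X, Cent y M → (orderOf y).Prime → Fpf y V

/-- (A3b) `A0` is a `q`-group for one prime `q`. -/
def A0PrimeFact (M X : Subgroup G) : Prop :=
  ∀ y ∈ X, ∀ z ∈ X, Cent y M → Cent z M → (orderOf y).Prime → (orderOf z).Prime →
    orderOf y = orderOf z

/-- (A3c) `A0` has at most one subgroup of prime order. -/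
def A0UniqFact (M X : Subgroup G) : Prop :=
  ∀ y ∈ X, ∀ z ∈ X, Cent y M → Cent z M → (orderOf y).Prime → orderOf z = orderOf y →
    z ∈ Subgroup.zpowers y

/-- (A4) a bad prime-order element of `X` centralises `M`. -/
def A4Fact (V M X : Subgroup G) : Prop :=
  ∀ y ∈ X, (orderOf y).Prime → Fpf y V → Cent y M

/-- (A5) for a `tt'`-element `uw` of `X`: `M = C_M(u) C_M(w)`. -/
def A5Fact (M X : Subgroup G) (t t' : ℕ) : Prop :=
  ∀ u ∈ X, ∀ w ∈ X, u * w = w * u → orderOf u = t → orderOf w = t' →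
    ∀ m ∈ M, ∃ m₁ ∈ M, ∃ m₂ ∈ M, m = m₁ * m₂ ∧ u * m₁ = m₁ * u ∧ w * m₂ = m₂ * w

/-- (A6) for a `tt'`-element `uw` of `X` exactly one part centralises `M`, the other is
fixed-point-free on `M`. -/
def A6Fact (M X : Subgroup G) (t t' : ℕ) : Prop :=
  ∀ u ∈ X, ∀ w ∈ X, u * w = w * u → orderOf u = t → orderOf w = t' →
    (Cent u M ∧ Fpf w M) ∨ (Cent w M ∧ Fpf u M)

/-- Stage 2 context: the labelling is fixed, `u0 ∈ A0` of order `t`. -/
structure Ctx2 (σ : Finset ℕ) (p : ℕ) (V K : Subgroup G) (c : ℕ) (M X : Subgroup G)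
    (t t' : ℕ) (u0 : G) : Prop where
  c1 : Ctx1 σ p V K c M X t t'
  f4 : F4Fact V K
  g1 : G1Fact V K
  a0bad : A0BadFact V M X
  a0uniq : A0UniqFact M X
  a4 : A4Fact V M X
  hu0 : u0 ∈ X
  ou0 : orderOf u0 = t
  cu0 : Cent u0 M
  /-- (D1) prime-order elements of `A0` have order `t` -/
  a0ord : ∀ y ∈ X, Cent y M → (orderOf y).Prime → orderOf y = t
  /-- (D2) every `tt'`-element `uw` of `X` has `u ∈ A0` and `w` fixed-point-free on `M` -/
  mix : ∀ u ∈ X, ∀ w ∈ X, u * w = w * u → orderOf u = t → orderOf w = t' →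
    Cent u M ∧ Fpf w M
  /-- (D3 = A9) every element of order `t'` of `X` is good -/
  tpgood : ∀ y ∈ X, orderOf y = t' → ¬ Fpf y V

/-- (A7) `⟨u0⟩` is normal in `K`. -/
def A7Fact (K : Subgroup G) (u0 : G) : Prop :=
  ∀ k ∈ K, k * u0 * k⁻¹ ∈ Subgroup.zpowers u0

/-- (A10) the element `e₁`. -/
def E1Fact (M X : Subgroup G) (t' : ℕ) (u0 e₁ : G) : Prop :=
  e₁ ∈ X ∧ orderOf e₁ = t' ∧ e₁ * u0 = u0 * e₁ ∧ Fpf e₁ M

/-- `X1 = C_X(u0)`. -/
def X1 (X : Subgroup G) (u0 : G) : Subgroup G := X ⊓ Subgroup.centralizer ({u0} : Set G)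

/-- (A11) `O_{t'}(X1) = 1`. -/
def A11Fact (X : Subgroup G) (t' : ℕ) (u0 : G) : Prop :=
  ∀ Y : Subgroup G, Y ≤ X1 X u0 → X1 X u0 ≤ Subgroup.normalizer (Y : Set G) →
    IsPGroup t' Y → Y = ⊥

/-- (A12) `A = O_t(X1) = F(X1)` is self-centralising in `X1`. -/
def A12Fact (X : Subgroup G) (t : ℕ) (u0 : G) (A : Subgroup G) : Prop :=
  A ≤ X1 X u0 ∧ X1 X u0 ≤ Subgroup.normalizer (A : Set G) ∧ IsPGroup t A ∧
    ∀ x ∈ X1 X u0, (∀ a ∈ A, x * a = a * x) → x ∈ A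

/-- (A13) `e₁` centralises every `e₁`-invariant abelian `t`-subgroup of `X`. -/
def A13Fact (X : Subgroup G) (t : ℕ) (e₁ : G) : Prop :=
  ∀ L : Subgroup G, L ≤ X → IsPGroup t L → (∀ a ∈ L, ∀ b ∈ L, a * b = b * a) →
    (∀ a ∈ L, e₁ * a * e₁⁻¹ ∈ L) → ∀ a ∈ L, e₁ * a = a * e₁

end defs

/-! ## The pieces -/

/-- PIECE OTH (easy): name the two other primes.  [`c ∣ |K|` so `c ∈ σ`, `c ≠ p`
(`KFacts.primes`); `σ.card = 4`.] -/
def OthersStmt : Prop :=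
  ∀ (G : Type u) [Group G] (σ : Finset ℕ) (p : ℕ) (V K : Subgroup G) (c : ℕ) (M : Subgroup G),
    Ctx0 σ p V K c M → ∃ t t' : ℕ, Others σ p c t t'

/-- PIECE MR2 (easy): `M` contains `C_c × C_c`. -/
def MRank2Stmt : Prop :=
  ∀ (G : Type u) [Group G] (σ : Finset ℕ) (p : ℕ) (V K : Subgroup G) (c : ℕ) (M : Subgroup G),
    Ctx0 σ p V K c M → Rank2 M c

/-- PIECE GOOD (A1): a good element of `M`.  [coprime generation S0058 of `V` under
`E = C_c × C_c ≤ M`: all of `E#` fixed-point-free would give `V = 1`.] -/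
def GoodInMStmt : Prop :=
  ∀ (G : Type u) [Group G] (σ : Finset ℕ) (p : ℕ) (V K : Subgroup G) (c : ℕ) (M : Subgroup G),
    Ctx0 σ p V K c M → Rank2 M c → ∃ x ∈ M, orderOf x = c ∧ ¬ Fpf x V

/-- PIECE COMPL (A2, uses `MinSub`): `K = M ⋊ X`.  [`X` a Hall `c'`-subgroup of `K`;
`H := V ⊔ M ⊔ X` has (J): `pc` from the good element of `M`; `pt`, `pt'` from `KFacts.j1`
conjugated into `X` (Hall in `K`, conjugation by `K` keeps `V`); `ct`, `ct'` from coprime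
generation of `M` under a `C_t × C_t ≤ X` (`KFacts.f2` + Sylow); `tt'` from `KFacts.j2`
conjugated into `X`.  `MinSub` gives `H = ⊤`; `V ⊓ K = ⊥` gives `M ⊔ X = K`.] -/
def ComplStmt : Prop :=
  ∀ (G : Type u) [Group G] (σ : Finset ℕ) (p : ℕ) (V K : Subgroup G) (c : ℕ) (M : Subgroup G),
    Ctx0 σ p V K c M → ∀ t t' : ℕ, Others σ p c t t' → Rank2 M c →
    (∃ x ∈ M, orderOf x = c ∧ ¬ Fpf x V) → ∃ X : Subgroup G, IsCompl K c M X

/-- PIECE XR2: `X` contains `C_t × C_t`.  [`KFacts.f2` gives it in `K`; `X` has index `|M|`,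
a power of `c`, in `K`: Sylow; or project `K = M ⋊ X → X`, injective on `c'`-subgroups.] -/
def XRank2Stmt : Prop :=
  ∀ (G : Type u) [Group G] (σ : Finset ℕ) (p : ℕ) (V K : Subgroup G) (c : ℕ)
    (M X : Subgroup G) (t t' : ℕ),
    Ctx0 σ p V K c M → Others σ p c t t' → IsCompl K c M X → Rank2 X t

/-- PIECE XJ2: `X` contains a `tt'`-element, split into its parts.  [`KFacts.j2` gives `g ∈ K`
of order `t t'`; its image under `K = M ⋊ X → X` has the same order since `⟨g⟩ ⊓ M = ⊥`;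
`u = g^t'`, `w = g^t`.] -/
def XJ2Stmt : Prop :=
  ∀ (G : Type u) [Group G] (σ : Finset ℕ) (p : ℕ) (V K : Subgroup G) (c : ℕ)
    (M X : Subgroup G) (t t' : ℕ),
    Ctx0 σ p V K c M → Others σ p c t t' → IsCompl K c M X →
    ∃ u ∈ X, ∃ w ∈ X, orderOf u = t ∧ orderOf w = t' ∧ u * w = w * u

/-- PIECE F4 (general, shared with Case 2').  [`C_V(y)` is `E`-invariant, `E = ⟨e₁,e₂⟩`;
coprime generation: a nontrivial `C_V(y)` has a nontrivial `C_{C_V(y)}(e)`, `e ∈ E#`;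
`y e` has order `q s`, fixed-point-free by `KFacts.n1`.] -/
def F4Stmt : Prop :=
  ∀ (G : Type u) [Group G] (σ : Finset ℕ), IsCex G σ → ∀ (p : ℕ) (V K : Subgroup G),
    ShapeI σ p V K → KFacts σ p V K → F4Fact V K

/-- PIECE G1 (general, shared with Case 2'; = helper28 [4a]+[4b] / helper20 SR).
[`C_K(x)` acts on `C_V(x) ≠ 1`, its elements of order `q`, `q'` are fixed-point-free there
(`x y'` has mixed order, `KFacts.n1`); SR gives `h ∈ C_K(x)` of order `q q'`; `x h` has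
order `s q q'`, against (N).] -/
def G1Stmt : Prop :=
  ∀ (G : Type u) [Group G] (σ : Finset ℕ), IsCex G σ → ∀ (p : ℕ) (V K : Subgroup G),
    ShapeI σ p V K → KFacts σ p V K → G1Fact V K

/-- PIECE A0BAD (A3a, easy from F4 with `E ≤ M`). -/
def A0BadStmt : Prop :=
  ∀ (G : Type u) [Group G] (σ : Finset ℕ) (p : ℕ) (V K : Subgroup G) (c : ℕ)
    (M X : Subgroup G) (t t' : ℕ),
    Ctx1 σ p V K c M X t t' → F4Fact V K → A0BadFact V M X

/-- PIECE A0PRIME (A3b, easy from G1 with the good element of `M`). -/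
def A0PrimeStmt : Prop :=
  ∀ (G : Type u) [Group G] (σ : Finset ℕ) (p : ℕ) (V K : Subgroup G) (c : ℕ)
    (M X : Subgroup G) (t t' : ℕ),
    Ctx1 σ p V K c M X t t' → G1Fact V K → A0PrimeFact M X

/-- PIECE A0UNIQ (A3c).  [`y, z ∈ A0` of order `q`, `z ∉ ⟨y⟩`: the `q`-group `A0` (A3b)
contains `E = C_q × C_q` (with a central element of order `q`); `E` centralises the good
`x_g ∈ M`, acts on `C_V(x_g) ≠ 1`; coprime generation: some `e ∈ E#` fixes `v ≠ 1` there;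
`x_g e` has order `c q` and fixes `v`, against `KFacts.n1`.] -/
def A0UniqStmt : Prop :=
  ∀ (G : Type u) [Group G] (σ : Finset ℕ) (p : ℕ) (V K : Subgroup G) (c : ℕ)
    (M X : Subgroup G) (t t' : ℕ),
    Ctx1 σ p V K c M X t t' → A0PrimeFact M X → A0UniqFact M X

/-- PIECE A4.  [`y ∈ X` of prime order not centralising `M`: `N := [M,y] ≠ 1`,
`C_N(y) = 1` (coprime action on the abelian `M`); T1 (Lib/H6/FrobActG, Lib/H10/FrobActGen)
with `H = ⟨y⟩` on `V`: `C_V(y) = 1` would give `[V,N] = 1`, against `ShapeI.faithful`.] -/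
def A4Stmt : Prop :=
  ∀ (G : Type u) [Group G] (σ : Finset ℕ) (p : ℕ) (V K : Subgroup G) (c : ℕ)
    (M X : Subgroup G) (t t' : ℕ),
    Ctx1 σ p V K c M X t t' → A4Fact V M X

/-- PIECE A5.  [`⟨uw⟩` cyclic of order `t t'` acts coprimely on `M`;
`M = C_M(u) × [M,u]`, `[M,u] = C_{[M,u]}(w) × M2`, `M2 := [[M,u],w]`; `⟨uw⟩` is semiregular
on `M2`, `uw` is fixed-point-free on `V` (`KFacts.n1`); T1-general (Lib/H10/FrobActGen)
gives `[V,M2] = 1`, so `M2 = 1` (faithful), i.e. `[M,u] ≤ C_M(w)`.] -/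
def A5Stmt : Prop :=
  ∀ (G : Type u) [Group G] (σ : Finset ℕ) (p : ℕ) (V K : Subgroup G) (c : ℕ)
    (M X : Subgroup G) (t t' : ℕ),
    Ctx1 σ p V K c M X t t' → A5Fact M X t t'

/-- PIECE A6.  [`C_M(u) ⊓ C_M(w) = 1` (else `m u w` of order `c t t'`).  If `C_M(u) ≠ 1`:
`u` commutes with `m` (order `c`) and `w` (order `t'`), so `u` is bad (G1), so `u`
centralises `M` (A4), so `C_M(w) = 1`.  If `C_M(u) = 1`: `M = C_M(w)` by (A5), `u` fpf.] -/
def A6Stmt : Prop :=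
  ∀ (G : Type u) [Group G] (σ : Finset ℕ) (p : ℕ) (V K : Subgroup G) (c : ℕ)
    (M X : Subgroup G) (t t' : ℕ),
    Ctx1 σ p V K c M X t t' → G1Fact V K → A4Fact V M X → A5Fact M X t t' → A6Fact M X t t'

/-- PIECE A7.  [`k = m x`, `m ∈ M` centralises `u0`; `x u0 x⁻¹ ∈ X` centralises `M`, has
order `t`, so lies in `⟨u0⟩` by (A3c).] -/
def A7Stmt : Prop :=
  ∀ (G : Type u) [Group G] (σ : Finset ℕ) (p : ℕ) (V K : Subgroup G) (c : ℕ)
    (M X : Subgroup G) (t t' : ℕ) (u0 : G),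
    Ctx2 σ p V K c M X t t' u0 → A7Fact K u0

/-- PIECE A8: `t' ∣ t - 1`.  [`E' = C_{t'} × C_{t'} ≤ X` on `M`: coprime generation gives
`e ∈ E'#`, `m ∈ M#` commuting; `e` does not centralise `u0` (else `u0 m e` of order
`t c t'`); `e` normalises `⟨u0⟩` (A7): Lib/H16/S3814AutCyc.] -/
def A8Stmt : Prop :=
  ∀ (G : Type u) [Group G] (σ : Finset ℕ) (p : ℕ) (V K : Subgroup G) (c : ℕ)
    (M X : Subgroup G) (t t' : ℕ) (u0 : G),
    Ctx2 σ p V K c M X t t' u0 → A7Fact K u0 → t' ∣ t - 1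

/-- PIECE E1 (A10).  [`E' = C_{t'} × C_{t'} ≤ X` normalises `⟨u0⟩` (A7), `Aut(C_t)` is cyclic:
some `e₁ ∈ E'#` centralises `u0` (Lib/H16/S3814AutCyc); `u0 e₁` is a `tt'`-element:
`Ctx2.mix` gives `Fpf e₁ M`.] -/
def E1Stmt : Prop :=
  ∀ (G : Type u) [Group G] (σ : Finset ℕ) (p : ℕ) (V K : Subgroup G) (c : ℕ)
    (M X : Subgroup G) (t t' : ℕ) (u0 : G),
    Ctx2 σ p V K c M X t t' u0 → A7Fact K u0 → ∃ e₁ : G, E1Fact M X t' u0 e₁

/-- PIECE A11: `O_{t'}(X1) = 1`.  [`Y ≠ ⊥` normal `t'`-subgroup of `X1`: each `y ∈ Y` of order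
`t'` commutes with `u0`, so `Fpf y M` (`Ctx2.mix`): `Y` is semiregular on `M`, so has a
unique subgroup `⟨e₇⟩` of order `t'` (as in A0UNIQ, coprime generation on `M`), normal in
`X1`.  `X1` contains `E_t = C_t × C_t` (`Rank2 X t`; `X/X1` embeds in `Aut(C_t)`, a `t'`-group;
Sylow).  `t' < t` (A8) so `E_t` centralises `e₇`; `e₇` is bad (`Ctx2.f4`), against
`Ctx2.tpgood`.] -/
def A11Stmt : Prop :=
  ∀ (G : Type u) [Group G] (σ : Finset ℕ) (p : ℕ) (V K : Subgroup G) (c : ℕ)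
    (M X : Subgroup G) (t t' : ℕ) (u0 : G),
    Ctx2 σ p V K c M X t t' u0 → A7Fact K u0 → t' ∣ t - 1 → A11Fact X t' u0

/-- PIECE A12: `F(X1) = O_t(X1)` is self-centralising.  [`X1` is a solvable `{t,t'}`-group
(`KFacts.primes`, `IsCompl.cop`, `Others.all`) with `O_{t'}(X1) = 1`;
`centralizer_fittingSubgroup_le_of_isSolvable` (Lib/H7/DihedralLemma2) in `↥(X1)`.] -/
def A12Stmt : Prop :=
  ∀ (G : Type u) [Group G] (σ : Finset ℕ) (p : ℕ) (V K : Subgroup G) (c : ℕ)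
    (M X : Subgroup G) (t t' : ℕ) (u0 : G),
    Ctx2 σ p V K c M X t t' u0 → A11Fact X t' u0 → ∃ A : Subgroup G, A12Fact X t u0 A

/-- PIECE A13.  [`L = C_L(e₁) × N`, `N := [L,e₁]`, `C_N(e₁) = 1`; T1 on `M` with `H = ⟨e₁⟩`,
`Fpf e₁ M`: `N` centralises `M`, `N ≤ A0`; if `N ≠ 1` it contains an element of order `t`,
which generates `⟨u0⟩` (`Ctx2.a0uniq`), so `u0 ∈ N`, but `e₁` centralises `u0`.] -/
def A13Stmt : Prop :=
  ∀ (G : Type u) [Group G] (σ : Finset ℕ) (p : ℕ) (V K : Subgroup G) (c : ℕ)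
    (M X : Subgroup G) (t t' : ℕ) (u0 e₁ : G),
    Ctx2 σ p V K c M X t t' u0 → E1Fact M X t' u0 e₁ → A13Fact X t e₁

/-- PIECE LCYC (pure group theory).  A `t`-group `P`, `α` of prime order `t' ∣ t - 1`
normalising and not centralising `P`: some cyclic `α`-invariant `⟨g⟩ ≤ P` is not
centralised.  [`L0` minimal `α`-invariant with `[L0,α] ≠ 1`; `α` acts on `L0/Φ(L0)` (an
`𝔽_t`-space) nontrivially, diagonalisably since `t' ∣ t - 1`: eigenvector `ḡ` with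
eigenvalue `≠ 1`; the preimage of `⟨ḡ⟩` is `α`-invariant with nontrivial action, so is
`L0`; `L0/Φ(L0)` cyclic gives `L0` cyclic.] -/
def LCycStmt : Prop :=
  ∀ (G : Type u) [Group G] [Finite G] (P : Subgroup G) (t t' : ℕ), t.Prime → t'.Prime →
    t' ∣ t - 1 → IsPGroup t P → ∀ α : G, orderOf α = t' → (∀ a ∈ P, α * a * α⁻¹ ∈ P) →
    (∃ a ∈ P, α * a ≠ a * α) →
    ∃ g ∈ P, α * g * α⁻¹ ∈ Subgroup.zpowers g ∧ α * g ≠ g * α

/-! ## Compiled assemblies -/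

section assembly

variable {G : Type u} [Group G] {σ : Finset ℕ} {p : ℕ} {V K : Subgroup G} {c : ℕ}
  {M X : Subgroup G} {t t' : ℕ}

/-- Stage 1 context from the build-up pieces. -/
theorem ctx1_of (hO : OthersStmt.{u}) (hMR : MRank2Stmt.{u}) (hGd : GoodInMStmt.{u})
    (hCo : ComplStmt.{u}) (hXR : XRank2Stmt.{u}) (hXJ : XJ2Stmt.{u})
    (h0 : Ctx0 σ p V K c M) : ∃ (X : Subgroup G) (t t' : ℕ), Ctx1 σ p V K c M X t t' := by
  obtain ⟨t, t', hoth⟩ := hO G σ p V K c M h0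
  have hmr := hMR G σ p V K c M h0
  have hgd := hGd G σ p V K c M h0 hmr
  obtain ⟨X, hX⟩ := hCo G σ p V K c M h0 t t' hoth hmr hgd
  exact ⟨X, t, t', h0, hoth, hmr, hgd, hX, hXR G σ p V K c M X t t' h0 hoth hX,
    hXR G σ p V K c M X t' t h0 hoth.symm hX, hXJ G σ p V K c M X t t' h0 hoth hX⟩

/-- Stage 2 context once an element of order `t` of `A0` is known. -/
theorem ctx2_mk (h : Ctx1 σ p V K c M X t t') (f4 : F4Fact V K) (g1 : G1Fact V K)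
    (a0bad : A0BadFact V M X) (a0prime : A0PrimeFact M X) (a0uniq : A0UniqFact M X)
    (a4 : A4Fact V M X) (a6 : A6Fact M X t t') {u0 : G} (hu0 : u0 ∈ X)
    (ou0 : orderOf u0 = t) (cu0 : Cent u0 M) : Ctx2 σ p V K c M X t t' u0 := by
  have ht : t.Prime := h.c0.cex.prime t h.oth.ht
  have ht' : t'.Prime := h.c0.cex.prime t' h.oth.ht'
  have a0ord : ∀ y ∈ X, Cent y M → (orderOf y).Prime → orderOf y = t :=
    fun y hy hcy hpy => (a0prime y hy u0 hu0 hcy cu0 hpy (ou0 ▸ ht)).trans ou0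
  refine ⟨h, f4, g1, a0bad, a0uniq, a4, hu0, ou0, cu0, a0ord, ?_, ?_⟩
  · intro u hu w hw huw ou ow
    rcases a6 u hu w hw huw ou ow with h1 | ⟨hcw, _⟩
    · exact h1
    · exact absurd ((a0ord w hw hcw (ow ▸ ht')).symm.trans ow) h.oth.tt'
  · intro y hy oy hf
    exact absurd ((a0ord y hy (a4 y hy (oy ▸ ht') hf) (oy ▸ ht')).symm.trans oy) h.oth.tt'

/-- Stage 2 context (for one of the two labellings) from the stage 1 pieces. -/
theorem ctx2_of (hF4 : F4Stmt.{u}) (hG1 : G1Stmt.{u}) (hB : A0BadStmt.{u})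
    (hP : A0PrimeStmt.{u}) (hU : A0UniqStmt.{u}) (h4 : A4Stmt.{u}) (h5 : A5Stmt.{u})
    (h6 : A6Stmt.{u}) (h : Ctx1 σ p V K c M X t t') :
    (∃ u0 : G, Ctx2 σ p V K c M X t t' u0) ∨ (∃ u0 : G, Ctx2 σ p V K c M X t' t u0) := by
  have f4 := hF4 G σ h.c0.cex p V K h.c0.shape h.c0.kf
  have g1 := hG1 G σ h.c0.cex p V K h.c0.shape h.c0.kf
  have a0bad := hB G σ p V K c M X t t' h f4
  have a0prime := hP G σ p V K c M X t t' h g1
  have a0uniq := hU G σ p V K c M X t t' h a0prime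
  have a4 := h4 G σ p V K c M X t t' h
  have a6 := h6 G σ p V K c M X t t' h g1 a4 (h5 G σ p V K c M X t t' h)
  have a6' := h6 G σ p V K c M X t' t h.symm g1 a4 (h5 G σ p V K c M X t' t h.symm)
  obtain ⟨u, hu, w, hw, ou, ow, huw⟩ := h.xj2
  rcases a6 u hu w hw huw ou ow with ⟨hcu, _⟩ | ⟨hcw, _⟩
  · exact Or.inl ⟨u, ctx2_mk h f4 g1 a0bad a0prime a0uniq a4 a6 hu ou hcu⟩
  · exact Or.inr ⟨w, ctx2_mk h.symm f4 g1 a0bad a0prime a0uniq a4 a6' hw ow hcw⟩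

/-- The endgame (A7)-(A14). -/
theorem ctx2_false (h7 : A7Stmt.{u}) (h8 : A8Stmt.{u}) (hE : E1Stmt.{u}) (h11 : A11Stmt.{u})
    (h12 : A12Stmt.{u}) (h13 : A13Stmt.{u}) (hL : LCycStmt.{u}) {u0 : G}
    (h : Ctx2 σ p V K c M X t t' u0) : False := by
  have hfin : Finite G := h.c1.c0.cex.fin
  have ht : t.Prime := h.c1.c0.cex.prime t h.c1.oth.ht
  have ht' : t'.Prime := h.c1.c0.cex.prime t' h.c1.oth.ht'
  have a7 := h7 G σ p V K c M X t t' u0 h
  have a8 := h8 G σ p V K c M X t t' u0 h a7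
  obtain ⟨e₁, he1⟩ := hE G σ p V K c M X t t' u0 h a7
  have a11 := h11 G σ p V K c M X t t' u0 h a7 a8
  obtain ⟨A, hA1, hA2, hA3, hA4⟩ := h12 G σ p V K c M X t t' u0 h a11
  have a13 := h13 G σ p V K c M X t t' u0 e₁ h he1
  obtain ⟨he1X, oe1, ce1, _⟩ := he1
  have he1X1 : e₁ ∈ X1 X u0 := Subgroup.mem_inf.2 ⟨he1X, Subgroup.mem_centralizer_iff.2
    (fun x hx => by rw [Set.mem_singleton_iff.1 hx]; exact ce1.symm)⟩
  have hnorm : ∀ a ∈ A, e₁ * a * e₁⁻¹ ∈ A := fun a ha =>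
    (Subgroup.mem_normalizer_iff.1 (hA2 he1X1) a).1 ha
  by_cases hcen : ∀ a ∈ A, e₁ * a = a * e₁
  · have hmem : e₁ ∈ A := hA4 e₁ he1X1 hcen
    obtain ⟨k, hk⟩ := hA3 ⟨e₁, hmem⟩
    have hk' : e₁ ^ (t ^ k) = 1 := by
      have := congrArg Subtype.val hk
      simpa using this
    have h1 : t' ∣ t ^ k := oe1 ▸ orderOf_dvd_of_pow_eq_one hk'
    have h2 : t' ∣ t := ht'.dvd_of_dvd_pow h1
    exact h.c1.oth.tt' ((Nat.prime_dvd_prime_iff_eq ht' ht).1 h2).symm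
  · push Not at hcen
    obtain ⟨a, ha, hne⟩ := hcen
    obtain ⟨g, hg, hgz, hgne⟩ := hL G A t t' ht ht' a8 hA3 e₁ oe1 hnorm ⟨a, ha, hne⟩
    refine hgne (a13 (Subgroup.zpowers g) ?_ ?_ ?_ ?_ g (Subgroup.mem_zpowers g))
    · exact ((Subgroup.zpowers_le.2 hg).trans hA1).trans inf_le_left
    · exact hA3.to_le (Subgroup.zpowers_le.2 hg)
    · intro a ha b hb
      obtain ⟨i, rfl⟩ := Subgroup.mem_zpowers_iff.1 ha
      obtain ⟨j, rfl⟩ := Subgroup.mem_zpowers_iff.1 hb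
      exact (Commute.zpow_zpow_self g i j).eq
    · intro a ha
      obtain ⟨i, rfl⟩ := Subgroup.mem_zpowers_iff.1 ha
      have h3 : e₁ * g ^ i * e₁⁻¹ = (e₁ * g * e₁⁻¹) ^ i := by rw [conj_zpow]
      rw [h3]
      exact Subgroup.zpow_mem _ hgz i

/-- BLOCK CASE 1 from its pieces. -/
theorem case1 (hO : OthersStmt.{u}) (hMR : MRank2Stmt.{u}) (hGd : GoodInMStmt.{u})
    (hCo : ComplStmt.{u}) (hXR : XRank2Stmt.{u}) (hXJ : XJ2Stmt.{u})
    (hF4 : F4Stmt.{u}) (hG1 : G1Stmt.{u}) (hB : A0BadStmt.{u})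
    (hP : A0PrimeStmt.{u}) (hU : A0UniqStmt.{u}) (h4 : A4Stmt.{u}) (h5 : A5Stmt.{u})
    (h6 : A6Stmt.{u}) (h7 : A7Stmt.{u}) (h8 : A8Stmt.{u}) (hE : E1Stmt.{u})
    (h11 : A11Stmt.{u}) (h12 : A12Stmt.{u}) (h13 : A13Stmt.{u}) (hL : LCycStmt.{u}) :
    Case1Stmt.{u} := by
  intro G _ σ hG hmin p V K hI hKF c M hc hMK hMn hMe hM2
  obtain ⟨X, t, t', h1⟩ := ctx1_of hO hMR hGd hCo hXR hXJ
    (⟨hG, hmin, hI, hKF, hc, hMK, hMn, hMe, hM2⟩ : Ctx0 σ p V K c M)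
  rcases ctx2_of hF4 hG1 hB hP hU h4 h5 h6 h1 with ⟨u0, h2⟩ | ⟨u0, h2⟩
  · exact ctx2_false h7 h8 hE h11 h12 h13 hL h2
  · exact ctx2_false h7 h8 hE h11 h12 h13 hL h2

end assembly

end Cfsg.Agent.H27.S3814C1
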