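/-
helper27 library: an abstract rigidity argument showing that every automorphism of a group is inner, from
control of the centralizers of two elements `s`, `d` and relators pinning down the images of the remaining
generators.
-/
import Mathlib

set_option autoImplicit false

namespace Cfsg.Agent.Lib.H27

namespace AutRigid

variable {G : Type*} [Group G]

/-- The value of a pattern (a word in letters `0, 1, 2, …`) at a tuple of elements. -/
def evalPat {M : Type*} [Monoid M] (vals : ℕ → M) (w : List ℕ) : M := (w.map vals).prod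

theorem map_evalPat {M N : Type*} [Monoid M] [Monoid N] (f : M →* N) (vals : ℕ → M) (w : List ℕ) :
    f (evalPat vals w) = evalPat (fun i => f (vals i)) w := by
  unfold evalPat
  rw [map_list_prod, List.map_map]
  rfl

/-- After an inner adjustment an automorphism maps `s` to `s` or `s⁻¹` and fixes `d`. -/
theorem pin_sd (s d : G)
    (hA1 : ∀ x : G, orderOf x = orderOf s → ∃ k : G, k * x * k⁻¹ = s ∨ k * x * k⁻¹ = s⁻¹)
    (hA2 : ∀ c : G, c * s = s * c → ∃ m : ℤ, c = s ^ m)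
    (hds : d * s * d⁻¹ = s ^ 2) (φ : MulAut G) :
    ∃ k : G, (k * φ s * k⁻¹ = s ∨ k * φ s * k⁻¹ = s⁻¹) ∧ k * φ d * k⁻¹ = d := by
  obtain ⟨k1, hk1⟩ := hA1 (φ s) (MulEquiv.orderOf_eq φ s)
  obtain ⟨e, he⟩ : ∃ e, e = k1 * φ d * k1⁻¹ := ⟨_, rfl⟩
  have hφ : φ d * φ s * (φ d)⁻¹ = (φ s) ^ 2 := by
    rw [← map_inv, ← map_mul, ← map_mul, hds, map_pow]
  have he1 : e * (k1 * φ s * k1⁻¹) * e⁻¹ = (k1 * φ s * k1⁻¹) ^ 2 := by
    rw [conj_pow, ← hφ, he]
    group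
  have he2 : e * s * e⁻¹ = s ^ 2 := by
    rcases hk1 with h | h
    · rw [h] at he1
      exact he1
    · rw [h] at he1
      have h2 : (e * s⁻¹ * e⁻¹)⁻¹ = ((s⁻¹) ^ 2)⁻¹ := by rw [he1]
      have h3 : (e * s⁻¹ * e⁻¹)⁻¹ = e * s * e⁻¹ := by group
      have h4 : ((s⁻¹) ^ 2)⁻¹ = s ^ 2 := by group
      rw [h3, h4] at h2
      exact h2
  have hcomm : (d⁻¹ * e) * s = s * (d⁻¹ * e) := by
    have h1 : e * s = s ^ 2 * e := by rw [← he2]; group
    have h2 : d⁻¹ * s ^ 2 = s * d⁻¹ := by rw [← hds]; group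
    calc d⁻¹ * e * s = d⁻¹ * (e * s) := by group
      _ = d⁻¹ * (s ^ 2 * e) := by rw [h1]
      _ = (d⁻¹ * s ^ 2) * e := by group
      _ = s * d⁻¹ * e := by rw [h2]
      _ = s * (d⁻¹ * e) := by group
  obtain ⟨m, hm⟩ := hA2 _ hcomm
  have hem : e = d * s ^ m := by rw [← hm]; group
  have hdz : ∀ z : ℤ, d * s ^ z = s ^ (2 * z) * d := by
    intro z
    have h1 : d * s ^ z * d⁻¹ = s ^ (2 * z) := by
      rw [← conj_zpow, hds, ← zpow_natCast, ← zpow_mul]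
      norm_num
    rw [← h1]
    group
  refine ⟨s ^ (2 * m) * k1, ?_, ?_⟩
  · rcases hk1 with h | h
    · left
      calc s ^ (2 * m) * k1 * φ s * (s ^ (2 * m) * k1)⁻¹
          = s ^ (2 * m) * (k1 * φ s * k1⁻¹) * (s ^ (2 * m))⁻¹ := by group
        _ = s := by rw [h]; group
    · right
      calc s ^ (2 * m) * k1 * φ s * (s ^ (2 * m) * k1)⁻¹
          = s ^ (2 * m) * (k1 * φ s * k1⁻¹) * (s ^ (2 * m))⁻¹ := by group
        _ = s⁻¹ := by rw [h]; group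
  · calc s ^ (2 * m) * k1 * φ d * (s ^ (2 * m) * k1)⁻¹
        = s ^ (2 * m) * (k1 * φ d * k1⁻¹) * (s ^ (2 * m))⁻¹ := by group
      _ = s ^ (2 * m) * (d * s ^ m) * (s ^ (2 * m))⁻¹ := by rw [← he, hem]
      _ = s ^ (2 * m) * (d * s ^ (-m)) := by group
      _ = s ^ (2 * m) * (s ^ (2 * (-m)) * d) := by rw [hdz (-m)]
      _ = d := by group

/-- An automorphism fixing `d` maps an element `x` normalizing `⟨d⟩` into `x ⟨d⟩`. -/
theorem pin_x (d x : G) (a n : ℕ) (hxd : x * d * x⁻¹ = d ^ a)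
    (hA3 : ∀ c : G, c * d = d * c → ∃ j < n, c = d ^ j)
    (ψ : MulAut G) (hψd : ψ d = d) : ∃ j < n, ψ x = x * d ^ j := by
  have h1 : ψ x * d * (ψ x)⁻¹ = d ^ a := by
    have := congrArg ψ hxd
    rwa [map_mul, map_mul, map_inv, map_pow, hψd] at this
  have hcomm : (x⁻¹ * ψ x) * d = d * (x⁻¹ * ψ x) := by
    have h2 : ψ x * d = d ^ a * ψ x := by rw [← h1]; group
    have h3 : x⁻¹ * d ^ a = d * x⁻¹ := by rw [← hxd]; group
    calc x⁻¹ * ψ x * d = x⁻¹ * (ψ x * d) := by group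
      _ = x⁻¹ * (d ^ a * ψ x) := by rw [h2]
      _ = (x⁻¹ * d ^ a) * ψ x := by group
      _ = d * x⁻¹ * ψ x := by rw [h3]
      _ = d * (x⁻¹ * ψ x) := by group
  obtain ⟨j, hj, hjc⟩ := hA3 _ hcomm
  exact ⟨j, hj, by rw [← hjc]; group⟩

/-- Rigidity with generators `s, t, u` and an auxiliary element `d`. -/
theorem inner_of_data4 (s d t u : G) (n a b : ℕ)
    (hgen : ∀ ψ : MulAut G, ψ s = s → ψ t = t → ψ u = u → ψ = 1)
    (hA1 : ∀ x : G, orderOf x = orderOf s → ∃ k : G, k * x * k⁻¹ = s ∨ k * x * k⁻¹ = s⁻¹)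
    (hA2 : ∀ c : G, c * s = s * c → ∃ m : ℤ, c = s ^ m)
    (hA3 : ∀ c : G, c * d = d * c → ∃ j < n, c = d ^ j)
    (hds : d * s * d⁻¹ = s ^ 2) (htd : t * d * t⁻¹ = d ^ a) (hud : u * d * u⁻¹ = d ^ b)
    (rels : List (List ℕ × ℕ))
    (hrel0 : ∀ r ∈ rels, (evalPat (fun i => [s, d, t, u].getD i 1) r.1) ^ r.2 = 1)
    (hrel : ∀ s' : G, (s' = s ∨ s' = s⁻¹) → ∀ j j' : ℕ, j < n → j' < n →
      (∀ r ∈ rels, (evalPat (fun i => [s', d, t * d ^ j, u * d ^ j'].getD i 1) r.1) ^ r.2 = 1) →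
      s' = s ∧ j = 0 ∧ j' = 0)
    (φ : MulAut G) : ∃ g : G, φ = MulAut.conj g := by
  obtain ⟨k, hks, hkd⟩ := pin_sd s d hA1 hA2 hds φ
  obtain ⟨ψ, hψ⟩ : ∃ ψ : MulAut G, ψ = MulAut.conj k * φ := ⟨_, rfl⟩
  have hψa : ∀ x, ψ x = k * φ x * k⁻¹ := by
    intro x
    rw [hψ, MulAut.mul_apply, MulAut.conj_apply]
  have hψs : ψ s = s ∨ ψ s = s⁻¹ := by rw [hψa]; exact hks
  have hψd : ψ d = d := by rw [hψa]; exact hkd
  obtain ⟨j, hj, hψt⟩ := pin_x d t a n htd hA3 ψ hψd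
  obtain ⟨j', hj', hψu⟩ := pin_x d u b n hud hA3 ψ hψd
  have hr : ∀ r ∈ rels, (evalPat (fun i => [ψ s, d, t * d ^ j, u * d ^ j'].getD i 1) r.1) ^ r.2 = 1 := by
    intro r hr
    have h0 := congrArg ψ (hrel0 r hr)
    rw [map_pow, map_one] at h0
    have h1 := map_evalPat ψ.toMonoidHom (fun i => [s, d, t, u].getD i 1) r.1
    have h2 : (fun i => ψ.toMonoidHom ([s, d, t, u].getD i 1)) =
        (fun i => [ψ s, d, t * d ^ j, u * d ^ j'].getD i 1) := by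
      funext i
      match i with
      | 0 => rfl
      | 1 => exact hψd
      | 2 => exact hψt
      | 3 => exact hψu
      | (i + 4) => exact map_one ψ
    rw [h2] at h1
    rw [← h1]
    exact h0
  obtain ⟨h1, h2, h3⟩ := hrel (ψ s) hψs j j' hj hj' hr
  rw [h2, pow_zero, mul_one] at hψt
  rw [h3, pow_zero, mul_one] at hψu
  have hone := hgen ψ h1 hψt hψu
  refine ⟨k⁻¹, ?_⟩
  rw [map_inv]
  exact eq_inv_of_mul_eq_one_right (by rw [← hψ]; exact hone)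

/-- Rigidity with generators `s, d, u`. -/
theorem inner_of_data3 (s d u : G) (n b : ℕ)
    (hgen : ∀ ψ : MulAut G, ψ s = s → ψ d = d → ψ u = u → ψ = 1)
    (hA1 : ∀ x : G, orderOf x = orderOf s → ∃ k : G, k * x * k⁻¹ = s ∨ k * x * k⁻¹ = s⁻¹)
    (hA2 : ∀ c : G, c * s = s * c → ∃ m : ℤ, c = s ^ m)
    (hA3 : ∀ c : G, c * d = d * c → ∃ j < n, c = d ^ j)
    (hds : d * s * d⁻¹ = s ^ 2) (hud : u * d * u⁻¹ = d ^ b)
    (rels : List (List ℕ × ℕ))
    (hrel0 : ∀ r ∈ rels, (evalPat (fun i => [s, d, u].getD i 1) r.1) ^ r.2 = 1)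
    (hrel : ∀ s' : G, (s' = s ∨ s' = s⁻¹) → ∀ j' : ℕ, j' < n →
      (∀ r ∈ rels, (evalPat (fun i => [s', d, u * d ^ j'].getD i 1) r.1) ^ r.2 = 1) →
      s' = s ∧ j' = 0)
    (φ : MulAut G) : ∃ g : G, φ = MulAut.conj g := by
  obtain ⟨k, hks, hkd⟩ := pin_sd s d hA1 hA2 hds φ
  obtain ⟨ψ, hψ⟩ : ∃ ψ : MulAut G, ψ = MulAut.conj k * φ := ⟨_, rfl⟩
  have hψa : ∀ x, ψ x = k * φ x * k⁻¹ := by
    intro x
    rw [hψ, MulAut.mul_apply, MulAut.conj_apply]
  have hψs : ψ s = s ∨ ψ s = s⁻¹ := by rw [hψa]; exact hks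
  have hψd : ψ d = d := by rw [hψa]; exact hkd
  obtain ⟨j', hj', hψu⟩ := pin_x d u b n hud hA3 ψ hψd
  have hr : ∀ r ∈ rels, (evalPat (fun i => [ψ s, d, u * d ^ j'].getD i 1) r.1) ^ r.2 = 1 := by
    intro r hr
    have h0 := congrArg ψ (hrel0 r hr)
    rw [map_pow, map_one] at h0
    have h1 := map_evalPat ψ.toMonoidHom (fun i => [s, d, u].getD i 1) r.1
    have h2 : (fun i => ψ.toMonoidHom ([s, d, u].getD i 1)) =
        (fun i => [ψ s, d, u * d ^ j'].getD i 1) := by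
      funext i
      match i with
      | 0 => rfl
      | 1 => exact hψd
      | 2 => exact hψu
      | (i + 3) => exact map_one ψ
    rw [h2] at h1
    rw [← h1]
    exact h0
  obtain ⟨h1, h3⟩ := hrel (ψ s) hψs j' hj' hr
  rw [h3, pow_zero, mul_one] at hψu
  have hone := hgen ψ h1 hψd hψu
  refine ⟨k⁻¹, ?_⟩
  rw [map_inv]
  exact eq_inv_of_mul_eq_one_right (by rw [← hψ]; exact hone)

/-- The outer automorphism group is trivial when every automorphism is inner. -/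
theorem card_out_eq_one (h : ∀ φ : MulAut G, ∃ g : G, φ = MulAut.conj g) :
    Nat.card (MulAut G ⧸ (MulAut.conj : G →* MulAut G).range) = 1 := by
  rw [← Subgroup.index_eq_card, Subgroup.index_eq_one, eq_top_iff]
  intro φ _
  obtain ⟨g, hg⟩ := h φ
  exact ⟨g, hg.symm⟩

end AutRigid

end Cfsg.Agent.Lib.H27
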