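/-
helper27 library: normal forms of elements of `M24` via 5-fold transitivity and the stabilizer chain of helper28:
an element of `M24` with given images of the five base points `∞, 0, 1, 2, 3` is one of 48 explicit words.
-/
import Mathlib
import Cfsg.Prelude.Def_Sporadic_a
import Cfsg.Agent.Lib.H28.M24Order
import Cfsg.Agent.Lib.H28.M24Octad
import Cfsg.Agent.Lib.H28.M24OctadOrbits

set_option autoImplicit false

namespace Cfsg.Agent.Lib.H27

open Cfsg Cfsg.Agent.Lib.H28
open scoped Pointwise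

namespace M24NF

/-- Equality of the permutations of two words, on indices. -/
def eqW (u v : List ℕ) : Bool := (List.range 24).all (fun k => evalPt u k == evalPt v k)

theorem wordPerm_eq_of_eqW {u v : List ℕ} (h : eqW u v = true) : wordPerm u = wordPerm v := by
  apply Equiv.ext
  intro p
  apply gIdx_injective
  rw [gIdx_wordPerm, gIdx_wordPerm]
  have := List.all_eq_true.1 h (gIdx p) (List.mem_range.2 (gIdx_lt p))
  rwa [beq_iff_eq] at this

theorem eqW_of_wordPerm_eq {u v : List ℕ} (h : wordPerm u = wordPerm v) : eqW u v = true := by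
  unfold eqW
  rw [List.all_eq_true]
  intro k hk
  rw [List.mem_range] at hk
  rw [beq_iff_eq]
  have h1 := gIdx_wordPerm u (gPt k)
  have h2 := gIdx_wordPerm v (gPt k)
  rw [gIdx_gPt hk] at h1 h2
  rw [← h1, ← h2, h]

/-- The power of a word. -/
def pw (w : List ℕ) (n : ℕ) : List ℕ := (List.replicate n w).flatten

theorem wordPerm_pw (w : List ℕ) (n : ℕ) : wordPerm (pw w n) = wordPerm w ^ n := by
  induction n with
  | zero => rfl
  | succ n ih =>
    unfold pw at ih ⊢
    rw [List.replicate_succ, List.flatten_cons, wordPerm_append, ih, pow_succ']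

/-- The candidate word. -/
def candWord (tw : List ℕ) (z5 z6 : ℕ) : List ℕ :=
  tw ++ ((witTab.getD 5 []).getD z5 [] ++ (witTab.getD 6 []).getD z6 [])

/-- One step down the stabilizer chain. -/
theorem level_step (k : ℕ) (hk : k < 7) {g : Equiv.Perm GolayPt} (hg : g ∈ fixSub M24 (levelFix k)) :
    ∃ z < 24, levelSet k z = true ∧
      (wordPerm ((witTab.getD k []).getD z []))⁻¹ * g ∈ fixSub M24 (levelFix (k + 1)) := by
  have h5 := level_le k hk g hg
  rw [mem_ptsOf] at h5
  refine ⟨gIdx (g (gPt (basePts.getD k 0))), gIdx_lt _, h5, ?_⟩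
  set z := gIdx (g (gPt (basePts.getD k 0))) with hz
  have hw : levelOK k z ((witTab.getD k []).getD z []) = true := by
    have h1 := List.all_eq_true.1 (List.all_eq_true.1 witTab_ok_all k (List.mem_range.2 hk)) z
      (List.mem_range.2 (gIdx_lt _))
    rw [Bool.or_eq_true, h5] at h1
    rcases h1 with h1 | h1
    · simp at h1
    · exact h1
  obtain ⟨hfix, hmap⟩ := levelOK_spec hk hw
  have hg' := mem_fixSub.1 hg
  rw [mem_fixSub]
  refine ⟨M24.mul_mem (M24.inv_mem (wordPerm_mem_M24 _)) hg'.1, ?_⟩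
  intro j hj
  rw [levelFix_succ k hk] at hj
  rcases List.mem_cons.1 hj with rfl | hj
  · rw [Equiv.Perm.mul_apply, Equiv.Perm.inv_eq_iff_eq, hmap, hz, gPt_gIdx]
  · rw [Equiv.Perm.mul_apply, hg'.2 j hj, Equiv.Perm.inv_eq_iff_eq]
    obtain ⟨i, hi, rfl⟩ := levelFix_sub k (by omega) j hj
    exact (hfix i hi).symm

/-- The elements of `M24` fixing five base points. -/
theorem exists_word_of_fix5 {g : Equiv.Perm GolayPt} (hg : g ∈ fixSub M24 (levelFix 5)) :
    ∃ z5 z6, z5 < 24 ∧ z6 < 24 ∧ levelSet 5 z5 = true ∧ levelSet 6 z6 = true ∧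
      g = wordPerm ((witTab.getD 5 []).getD z5 [] ++ (witTab.getD 6 []).getD z6 []) := by
  obtain ⟨z5, hz5, hl5, hg1⟩ := level_step 5 (by norm_num) hg
  obtain ⟨z6, hz6, hl6, hg2⟩ := level_step 6 (by norm_num) hg1
  refine ⟨z5, z6, hz5, hz6, hl5, hl6, ?_⟩
  have h7 : (wordPerm ((witTab.getD 6 []).getD z6 []))⁻¹ *
      ((wordPerm ((witTab.getD 5 []).getD z5 []))⁻¹ * g) = 1 := by
    have : (wordPerm ((witTab.getD 6 []).getD z6 []))⁻¹ *
      ((wordPerm ((witTab.getD 5 []).getD z5 []))⁻¹ * g) ∈ (⊥ : Subgroup (Equiv.Perm GolayPt)) := by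
      rw [← fixSub_M24_top]
      exact hg2
    exact Subgroup.mem_bot.1 this
  rw [wordPerm_append]
  rw [inv_mul_eq_one, eq_inv_mul_iff_mul_eq] at h7
  exact h7.symm

/-- The elements of `M24` with given images of five base points. -/
theorem exists_cand {g : Equiv.Perm GolayPt} (hg : g ∈ M24) (Y tw : List ℕ)
    (htw : ∀ i < 5, evalPt tw (basePts.getD i 0) = Y.getD i 0)
    (himg : ∀ i < 5, g (gPt (basePts.getD i 0)) = gPt (Y.getD i 0)) :
    ∃ z5 z6, z5 < 24 ∧ z6 < 24 ∧ levelSet 5 z5 = true ∧ levelSet 6 z6 = true ∧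
      g = wordPerm (candWord tw z5 z6) := by
  have hb : ∀ i < 5, basePts.getD i 0 < 24 := by decide
  have ht : ∀ i < 5, wordPerm tw (gPt (basePts.getD i 0)) = gPt (Y.getD i 0) := by
    intro i hi
    exact wordPerm_gPt (hb i hi) (htw i hi)
  have hmem : (wordPerm tw)⁻¹ * g ∈ fixSub M24 (levelFix 5) := by
    rw [mem_fixSub]
    refine ⟨M24.mul_mem (M24.inv_mem (wordPerm_mem_M24 _)) hg, ?_⟩
    intro j hj
    obtain ⟨i, hi, rfl⟩ := levelFix_sub 5 (by norm_num) j hj
    rw [Equiv.Perm.mul_apply, himg i hi, Equiv.Perm.inv_eq_iff_eq, ht i hi]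
  obtain ⟨z5, z6, h1, h2, h3, h4, h5⟩ := exists_word_of_fix5 hmem
  refine ⟨z5, z6, h1, h2, h3, h4, ?_⟩
  unfold candWord
  rw [wordPerm_append, ← h5, mul_inv_cancel_left]

theorem inj5 {α : Type*} {a b c d e : α} (hab : a ≠ b) (hac : a ≠ c) (had : a ≠ d) (hae : a ≠ e)
    (hbc : b ≠ c) (hbd : b ≠ d) (hbe : b ≠ e) (hcd : c ≠ d) (hce : c ≠ e) (hde : d ≠ e) :
    Function.Injective ![a, b, c, d, e] := by
  intro i j hij
  fin_cases i <;> fin_cases j <;> first
    | rfl
    | (exfalso
       simp only [Fin.zero_eta, Fin.mk_one, Fin.reduceFinMk, Matrix.cons_val_zero, Matrix.cons_val_one,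
         Matrix.cons_val] at hij
       first
        | exact hab hij | exact hac hij | exact had hij | exact hae hij | exact hbc hij | exact hbd hij
        | exact hbe hij | exact hcd hij | exact hce hij | exact hde hij
        | exact hab hij.symm | exact hac hij.symm | exact had hij.symm | exact hae hij.symm
        | exact hbc hij.symm | exact hbd hij.symm
        | exact hbe hij.symm | exact hcd hij.symm | exact hce hij.symm | exact hde hij.symm)

theorem card_golayPt : Fintype.card GolayPt = 24 := by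
  show Fintype.card (Option (ZMod 23)) = 24
  rw [Fintype.card_option, ZMod.card]

theorem exists_notMem_of_card {S : Finset GolayPt} (h : S.card < 24) : ∃ e, e ∉ S := by
  by_contra hcon
  have hcon' : ∀ e, e ∈ S := by
    intro e
    by_contra he
    exact hcon ⟨e, he⟩
  have : S = Finset.univ := Finset.eq_univ_iff_forall.2 hcon'
  rw [this, Finset.card_univ, card_golayPt] at h
  omega

theorem base_inj : Function.Injective (fun i : Fin 5 => gPt (basePts.getD i.val 0)) := by
  intro i j h
  have h' := congrArg gIdx h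
  have hb : ∀ i : Fin 5, gIdx (gPt (basePts.getD i.val 0)) = basePts.getD i.val 0 := by
    intro i
    apply gIdx_gPt
    revert i; decide
  simp only [hb] at h'
  revert i j
  decide

/-- Conjugating five points to the base points. -/
theorem exists_conj_base (g : Equiv.Perm GolayPt) (x x' : Fin 5 → GolayPt) (hx : Function.Injective x)
    (hxx' : ∀ i, g (x i) = x' i) :
    ∃ k ∈ M24, (∀ i : Fin 5, k (x i) = gPt (basePts.getD i.val 0)) ∧
      ∀ i : Fin 5, (k * g * k⁻¹) (gPt (basePts.getD i.val 0)) = k (x' i) := by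
  obtain ⟨k, hk, hmap⟩ := exists_M24_map (le_refl 5) x _ hx base_inj
  refine ⟨k, hk, hmap, ?_⟩
  intro i
  rw [← hmap i, Equiv.Perm.mul_apply, Equiv.Perm.mul_apply, Equiv.Perm.inv_def,
    Equiv.symm_apply_apply, hxx' i]

theorem orderOf_conj' {G : Type*} [Group G] (k g : G) : orderOf (k * g * k⁻¹) = orderOf g :=
  (SemiconjBy.orderOf_eq k (show SemiconjBy k g (k * g * k⁻¹) by unfold SemiconjBy; group)).symm

theorem conj_fix_iff {g k r : Equiv.Perm GolayPt} (h : k * g * k⁻¹ = r) (p : GolayPt) :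
    g p = p ↔ r (k p) = k p := by
  rw [← h, Equiv.Perm.mul_apply, Equiv.Perm.mul_apply, Equiv.Perm.inv_def, Equiv.symm_apply_apply]
  exact ⟨fun h => by rw [h], fun h => k.injective h⟩

/-- The fixed points of a conjugate. -/
theorem fixed_conj {g k r : Equiv.Perm GolayPt} (h : k * g * k⁻¹ = r) :
    (Finset.univ.filter fun p => g p = p) = k⁻¹ • (Finset.univ.filter fun p => r p = p) := by
  ext p
  rw [Finset.mem_inv_smul_finset_iff, Finset.mem_filter, Finset.mem_filter, conj_fix_iff h p]
  simp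

end M24NF

end Cfsg.Agent.Lib.H27
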