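/-
helper27 library: table form of the candidate words of `M24NF` (fast kernel evaluation): the permutation of
`candWord tw z5 z6` is the composition of three index tables.
-/
import Mathlib
import Cfsg.Prelude.Def_Sporadic_a
import Cfsg.Agent.Lib.H27.M24NF

set_option autoImplicit false

namespace Cfsg.Agent.Lib.H27

open Cfsg Cfsg.Agent.Lib.H28

namespace M24NF

theorem evalPt_append (u v : List ℕ) (k : ℕ) : evalPt (u ++ v) k = evalPt u (evalPt v k) := by
  induction u with
  | nil => rfl
  | cons a u ih =>
    rw [List.cons_append, evalPt_cons, evalPt_cons, ih]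

theorem evalPt_lt (v : List ℕ) {k : ℕ} (hk : k < 24) : evalPt v k < 24 := by
  have h := gIdx_wordPerm v (gPt k)
  rw [gIdx_gPt hk] at h
  rw [← h]
  exact gIdx_lt _

theorem wordTab_getD (u : List ℕ) {k : ℕ} (hk : k < 24) : (wordTab u).getD k 0 = evalPt u k := by
  unfold wordTab
  rw [List.getD_eq_getElem _ _ (by rw [List.length_map, List.length_range]; exact hk), List.getElem_map,
    List.getElem_range]

/-- The composition of three tables at an index. -/
def cand3 (a b c : List ℕ) (k : ℕ) : ℕ := a.getD (b.getD (c.getD k 0) 0) 0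

/-- The level tables: `(z, table of the witness word)`. -/
def levTabOK (lev : ℕ) (l : List (ℕ × List ℕ)) : Bool :=
  l.all (fun e => wordTab ((witTab.getD lev []).getD e.1 []) == e.2) &&
    (List.range 24).all (fun z => !(levelSet lev z) || l.any (fun e => e.1 == z))

theorem exists_levTab {lev : ℕ} {l : List (ℕ × List ℕ)} (h : levTabOK lev l = true) {z : ℕ} (hz : z < 24)
    (hl : levelSet lev z = true) : ∃ e ∈ l, e.1 = z ∧ e.2 = wordTab ((witTab.getD lev []).getD z []) := by
  unfold levTabOK at h
  rw [Bool.and_eq_true, List.all_eq_true, List.all_eq_true] at h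
  have h2 := h.2 z (List.mem_range.2 hz)
  rw [hl, Bool.not_true, Bool.false_or, List.any_eq_true] at h2
  obtain ⟨e, he, hez⟩ := h2
  rw [beq_iff_eq] at hez
  refine ⟨e, he, hez, ?_⟩
  have h1 := h.1 e he
  rw [beq_iff_eq] at h1
  rw [← hez, h1]

theorem gIdx_candWord (tw : List ℕ) (z5 z6 : ℕ) (p : GolayPt) :
    gIdx (wordPerm (candWord tw z5 z6) p) =
      cand3 (wordTab tw) (wordTab ((witTab.getD 5 []).getD z5 [])) (wordTab ((witTab.getD 6 []).getD z6 []))
        (gIdx p) := by
  unfold cand3 candWord
  rw [gIdx_wordPerm, evalPt_append, evalPt_append, wordTab_getD _ (gIdx_lt p),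
    wordTab_getD _ (evalPt_lt _ (gIdx_lt p)), wordTab_getD _ (evalPt_lt _ (evalPt_lt _ (gIdx_lt p)))]

/-- Counting fixed points through indices. -/
theorem card_filter_gIdx (P : ℕ → Bool) :
    (Finset.univ.filter fun p : GolayPt => P (gIdx p) = true).card = (List.range 24).countP P := by
  have h1 : (Finset.univ.filter fun p : GolayPt => P (gIdx p) = true).card
      = ((Finset.range 24).filter fun k => P k = true).card := by
    apply Finset.card_bij (fun p _ => gIdx p)
    · intro p hp
      rw [Finset.mem_filter] at hp ⊢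
      exact ⟨Finset.mem_range.2 (gIdx_lt p), hp.2⟩
    · intro p _ q _ h
      exact gIdx_injective h
    · intro k hk
      rw [Finset.mem_filter, Finset.mem_range] at hk
      refine ⟨gPt k, ?_, gIdx_gPt hk.1⟩
      rw [Finset.mem_filter, gIdx_gPt hk.1]
      exact ⟨Finset.mem_univ _, hk.2⟩
  rw [h1, List.countP_eq_length_filter, Finset.card_def, Finset.filter_val, Finset.range_val]
  change Multiset.card (Multiset.filter (fun k => P k = true) (↑(List.range 24) : Multiset ℕ)) = _
  rw [Multiset.filter_coe, Multiset.coe_card]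
  congr 1
  apply List.filter_congr
  intro k _
  simp

end M24NF

end Cfsg.Agent.Lib.H27
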