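/-
helper27 library: counting the elements of `M24` intertwining two given elements (centralizers, normalizers)
by a pruned enumeration along the stabilizer chain of helper28, with tables packed into natural numbers.
-/
import Mathlib
import Cfsg.Prelude.Def_Sporadic_a
import Cfsg.Agent.Lib.H27.M24NFTab

set_option autoImplicit false

namespace Cfsg.Agent.Lib.H27

open Cfsg Cfsg.Agent.Lib.H28
open scoped Pointwise

namespace M24Cnt

open M24NF

/-! ### Packed tables -/

/-- Entry `i` of a packed table (base 32). -/
def look (T i : ℕ) : ℕ := T / 32 ^ i % 32

/-- Packing a list of entries (base 32, little endian). -/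
def pack : List ℕ → ℕ
  | [] => 0
  | v :: vs => v + 32 * pack vs

theorem look_lt (T i : ℕ) : look T i < 32 := Nat.mod_lt _ (by norm_num)

theorem look_pack : ∀ (vs : List ℕ) (i : ℕ), (∀ v ∈ vs, v < 32) → look (pack vs) i = vs.getD i 0
  | [], i, _ => by simp [look, pack]
  | v :: vs, 0, h => by
    have hv : v < 32 := h v (by simp)
    simp only [look, pack, pow_zero, Nat.div_one, List.getD_cons_zero]
    rw [Nat.add_mul_mod_self_left, Nat.mod_eq_of_lt hv]
  | v :: vs, i + 1, h => by
    have hv : v < 32 := h v (by simp)
    have ih := look_pack vs i (fun x hx => h x (List.mem_cons_of_mem _ hx))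
    simp only [look, pack, List.getD_cons_succ] at ih ⊢
    rw [pow_succ', ← Nat.div_div_eq_div_mul, Nat.add_mul_div_left _ _ (by norm_num : 0 < 32),
      Nat.div_eq_of_lt hv, zero_add]
    exact ih

/-- Composition of packed tables. -/
def compP (a e : ℕ) : ℕ := pack ((List.range 24).map (fun i => look a (look e i)))

theorem look_compP (a e : ℕ) {i : ℕ} (hi : i < 24) : look (compP a e) i = look a (look e i) := by
  unfold compP
  rw [look_pack _ _ (by
    intro v hv
    rw [List.mem_map] at hv
    obtain ⟨j, _, rfl⟩ := hv
    exact look_lt _ _)]
  rw [List.getD_eq_getElem _ _ (by rw [List.length_map, List.length_range]; exact hi), List.getElem_map,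
    List.getElem_range]

/-- The packed table `a` represents the permutation `u`. -/
def Rep (a : ℕ) (u : Equiv.Perm GolayPt) : Prop := ∀ p, gIdx (u p) = look a (gIdx p)

theorem Rep.mul {a e : ℕ} {u v : Equiv.Perm GolayPt} (hu : Rep a u) (hv : Rep e v) :
    Rep (compP a e) (u * v) := by
  intro p
  rw [Equiv.Perm.mul_apply, hu, hv, look_compP _ _ (gIdx_lt p)]

/-- The packed table agrees with a word. -/
def pkOK (T : ℕ) (w : List ℕ) : Bool := (List.range 24).all (fun i => look T i == evalPt w i)

theorem rep_of_pkOK {T : ℕ} {w : List ℕ} (h : pkOK T w = true) : Rep T (wordPerm w) := by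
  intro p
  have := List.all_eq_true.1 h (gIdx p) (List.mem_range.2 (gIdx_lt p))
  rw [beq_iff_eq] at this
  rw [gIdx_wordPerm, this]

/-- The packed identity table. -/
def idP : ℕ := 984818244535754528103549039458486304

theorem rep_idP : Rep idP 1 := by
  have h : pkOK idP [] = true := by decide +kernel
  have := rep_of_pkOK h
  rwa [wordPerm_nil] at this

theorem Rep.apply_gPt {a : ℕ} {u : Equiv.Perm GolayPt} (hu : Rep a u) {b : ℕ} (hb : b < 24) :
    u (gPt b) = gPt (look a b) := by
  have := hu (gPt b)
  rw [gIdx_gPt hb] at this
  rw [← this, gPt_gIdx]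

theorem Rep.look_lt24 {a : ℕ} {u : Equiv.Perm GolayPt} (hu : Rep a u) {b : ℕ} (hb : b < 24) :
    look a b < 24 := by
  have := hu (gPt b)
  rw [gIdx_gPt hb] at this
  rw [← this]
  exact gIdx_lt _

/-- The witness words of the chain. -/
def wit (k z : ℕ) : List ℕ := (witTab.getD k []).getD z []

set_option maxRecDepth 100000 in
/-- The level tables: `(z, packed table of the witness word)`. -/
def lvT : List (List (ℕ × ℕ)) := [
  [(0, 1795248432537898728475572672376535), (1, 44673570877212604306017735907225623), (2, 87551893321887283366365293184594999), (3, 130430215766561988943882167652005975), (4, 167949343988397239805631053865205783), (5, 212210155190609423818408760575238871), (6, 255088477635284129395950923810087959), (7, 297966800079958834973492296770955319), (8, 340845122524633540551034435309743191), (9, 393465023254853140546941875360550944), (10, 434266168903020385066597320399887030), (11, 477144491347695089491217979027889856), (12, 500432394989384232420338740126520576), (13, 569292545633711603354598926417664631), (14, 582315161141811050068090735759498903), (15, 625193483586485755645607610226909879),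 (16, 668070894907291547183267447706330839), (17, 712981383127187936925973110999883479), (18, 755859705571862642503515274234732567), (19, 789931698167370323696501940202197175), (20, 832810020612045029274044103436293335), (21, 901276932450172030087052924672190103), (22, 914299547958271476800544734014024375), (23, 984818244535754528103549039458486304)],
  [(0, 984818244535754528103549039458486304), (1, 956302485175575353788796878166559809), (2, 956709441910203461498593497208492130), (3, 958020233522794296771657265635857539), (4, 956085195133363055212480936219446308), (5, 984676296717505552981297274273957989), (6, 956160537357326378666545112982031494), (7, 957500484933721614665615914943746215), (8, 958839521386248785175031781789406408), (9, 984452513373213040150923350194695625), (10, 963353833454946094121489126149097162), (11, 964693781031342178670787318750185483), (12, 966033700135117359656339188671417388), (13, 980437867787330065105992249233295053), (14, 981777815363726149655290441834383374), (15, 983088606976316984928354210261748783), (16, 984428554552713069477652378166775888), (17, 984492065355537866714755179917379761),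 (18, 955976305995358692400003018625453266), (19, 962738855677243781453175209801685011), (20, 964078803252770950569625387683454004), (21, 982138349382962359004952654256308949), (22, 983478296959358443554250846857397270)],
  [(1, 984818244535754528103549039458486304), (2, 969952412052033243847481939299780672), (3, 972754112876405759327596519220184160), (4, 977864963184960973661438897150854272), (5, 976400755523584918437664801357734048), (6, 980275914351787324191492553553580224), (7, 972399980874550394249100423076074720), (8, 961440983510836116914152844409745664), (9, 972548447453785658768794719459886368), (10, 973114847334426913619526983017184576), (11, 962378174489190592196267287409841504), (12, 967904913145240977942144640948487552), (13, 981857642257255211551828593613425056), (14, 971779134824322933103968001373670848), (15, 972476464909589299314267147262970336), (16, 983013739694242153421248749978191360), (17, 972348165078427852074855878123752992), (18, 974380510768821363662145534143076928), (19, 966078594979540183946379933546601056), (20, 980581112654123379115705592291875456), (21, 973605744550375127841614740843549344),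 (22, 963562278730544904094500759145030336)],
  [(2, 984818244535754528103549039458486304), (3, 984493369334060478447889424982281248), (4, 962466657604444599622550278829576224), (5, 958353171132455277847086531523974176), (6, 969113429024008650151826333357479968), (7, 974349302454933065136319414231374880), (8, 976698300028571283496496776424923168), (9, 979086029861645515049347850276545568), (10, 971857293994715128303675649467852832), (11, 968449907913281441999019325070486560), (12, 959456267338171927618389074305986592), (13, 977882410529177044790835397879116832), (14, 965857357127272223261979644612130848), (15, 969948108926309948518270745543654432), (16, 971506055127627772264437800364130336), (17, 983268927488266462962571453697246240), (18, 964044890161730882598486314045392928), (19, 979325076366845081169914438888868896), (20, 959978195060960915392361913956913184), (21, 976901395001319707736440729428612128), (22, 969920247203628768966989027622803488)],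
  [(3, 984818244535754528103549039458486304), (4, 974422238081544939122441376219924512), (5, 972713015682628765042443678633855008), (6, 981563544338578773660441081710577696), (7, 968816252924646088183698020482910240), (8, 968912900032127568182918297745098784), (9, 976281797225353872099676950016329760), (10, 962660455969611261303912270539327520), (11, 962424592608097860303688889177311264), (12, 968574484370236267479038538177447968), (13, 975553606472918800280472297643870240), (14, 969230734367802084062008899275261984), (15, 963622689626821674729737328088549408), (16, 980551004395263757784158471683835936), (17, 966624404310788219917185392308684832), (18, 959647418736642719728129113751881760), (19, 975571795165448746742199475274090528), (20, 964984542321154493735174471867303968), (21, 972640828999828289679814619323598880), (22, 968817900436283238751635371341842464)],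
  [(4, 984818244535754528103549039458486304), (6, 965128854020860192151391391390468128), (7, 963721886883755259286232606933354528), (8, 971828115858035635643548061566863392), (9, 981515887986994088769278604842469408), (10, 982125237077252311731715764534741024), (11, 979037747421335847153138073498388512), (12, 970499966350631336865513127433832480), (13, 961029066359601346093702817927759904), (15, 968918221426309407724683958819063840), (16, 961409415667826064667231448532617248), (18, 971863989228759034920585190470420512), (19, 965225113279737155758354497310656544), (20, 968621477650857569167789942210922528), (21, 980224387687010295957922729495201824), (22, 961365507626256404119956257276790816)],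
  [(5, 984818244535754528103549039458486304), (14, 976531636853126291160407323722221600), (17, 972606645568131968584696805283956768)]]

set_option maxRecDepth 100000 in
theorem lvT_ok : (List.range 7).all (fun k =>
    ((lvT.getD k []).map Prod.fst == (List.range 24).filter (levelSet k)) &&
    (lvT.getD k []).all (fun e => pkOK e.2 (wit k e.1))) = true := by
  decide +kernel

theorem lvT_fst {k : ℕ} (hk : k < 7) : (lvT.getD k []).map Prod.fst = (List.range 24).filter (levelSet k) := by
  have := List.all_eq_true.1 lvT_ok k (List.mem_range.2 hk)
  rw [Bool.and_eq_true, beq_iff_eq] at this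
  exact this.1

theorem lvT_rep {k : ℕ} (hk : k < 7) {e : ℕ × ℕ} (he : e ∈ lvT.getD k []) :
    Rep e.2 (wordPerm (wit k e.1)) := by
  have := List.all_eq_true.1 lvT_ok k (List.mem_range.2 hk)
  rw [Bool.and_eq_true, List.all_eq_true] at this
  exact rep_of_pkOK (this.2 e he)

theorem lvT_mem {k : ℕ} (hk : k < 7) {e : ℕ × ℕ} (he : e ∈ lvT.getD k []) :
    e.1 < 24 ∧ levelSet k e.1 = true := by
  have h1 : e.1 ∈ (lvT.getD k []).map Prod.fst := List.mem_map_of_mem he
  rw [lvT_fst hk, List.mem_filter, List.mem_range] at h1
  exact h1

/-! ### The stabilizer chain -/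

theorem levelFix_lt : ∀ k ≤ 7, ∀ j ∈ levelFix k, j < 24 := by decide +kernel

theorem basePts_lt : ∀ i < 7, basePts.getD i 0 < 24 := by decide

theorem wit_ok {k z : ℕ} (hk : k < 7) (hz : z < 24) (hl : levelSet k z = true) :
    levelOK k z (wit k z) = true := by
  have h1 := List.all_eq_true.1 (List.all_eq_true.1 witTab_ok_all k (List.mem_range.2 hk)) z
    (List.mem_range.2 hz)
  rw [Bool.or_eq_true, hl] at h1
  rcases h1 with h1 | h1
  · simp at h1
  · exact h1

/-- Going down the chain. -/
theorem level_down {k : ℕ} (hk : k < 7) {g : Equiv.Perm GolayPt} (hg : g ∈ fixSub M24 (levelFix k)) :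
    levelSet k (gIdx (g (gPt (basePts.getD k 0)))) = true ∧
      (wordPerm (wit k (gIdx (g (gPt (basePts.getD k 0))))))⁻¹ * g ∈ fixSub M24 (levelFix (k + 1)) := by
  have h5 := level_le k hk g hg
  rw [mem_ptsOf] at h5
  refine ⟨h5, ?_⟩
  obtain ⟨hfix, hmap⟩ := levelOK_spec hk (wit_ok hk (gIdx_lt _) h5)
  have hg' := mem_fixSub.1 hg
  rw [mem_fixSub]
  refine ⟨M24.mul_mem (M24.inv_mem (wordPerm_mem_M24 _)) hg'.1, ?_⟩
  intro j hj
  rw [levelFix_succ k hk] at hj
  rcases List.mem_cons.1 hj with rfl | hj
  · rw [Equiv.Perm.mul_apply, Equiv.Perm.inv_eq_iff_eq, hmap, gPt_gIdx]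
  · rw [Equiv.Perm.mul_apply, hg'.2 j hj, Equiv.Perm.inv_eq_iff_eq]
    obtain ⟨i, hi, rfl⟩ := levelFix_sub k (by omega) j hj
    exact (hfix i hi).symm

/-- Going up the chain. -/
theorem level_up {k z : ℕ} (hk : k < 7) (hz : z < 24) (hl : levelSet k z = true) {h : Equiv.Perm GolayPt}
    (hh : h ∈ fixSub M24 (levelFix (k + 1))) :
    wordPerm (wit k z) * h ∈ fixSub M24 (levelFix k) ∧
      gIdx ((wordPerm (wit k z) * h) (gPt (basePts.getD k 0))) = z := by
  obtain ⟨hfix, hmap⟩ := levelOK_spec hk (wit_ok hk hz hl)
  have hh' := mem_fixSub.1 hh
  rw [levelFix_succ k hk] at hh'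
  constructor
  · rw [mem_fixSub]
    refine ⟨M24.mul_mem (wordPerm_mem_M24 _) hh'.1, ?_⟩
    intro j hj
    rw [Equiv.Perm.mul_apply, hh'.2 j (List.mem_cons_of_mem _ hj)]
    obtain ⟨i, hi, rfl⟩ := levelFix_sub k (by omega) j hj
    exact hfix i hi
  · rw [Equiv.Perm.mul_apply, hh'.2 _ (List.mem_cons_self ..), hmap, gIdx_gPt hz]

/-! ### The sets counted -/

/-- The elements `h` of the `k`-th stabilizer of the chain such that `u * h` intertwines `r` and `r'`. -/
def cset (r r' : Equiv.Perm GolayPt) (k : ℕ) (u : Equiv.Perm GolayPt) : Set (Equiv.Perm GolayPt) :=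
  {h | h ∈ fixSub M24 (levelFix k) ∧ (u * h) * r = r' * (u * h)}

theorem ncard_cset_step (r r' u : Equiv.Perm GolayPt) {k : ℕ} (hk : k < 7) :
    (cset r r' k u).ncard = (((List.range 24).filter (levelSet k)).map
      (fun z => (cset r r' (k + 1) (u * wordPerm (wit k z))).ncard)).sum := by
  classical
  have hfin : ∀ s : Set (Equiv.Perm GolayPt), s.ncard = s.toFinset.card :=
    fun s => Set.ncard_eq_toFinset_card' s
  have hL : ((List.range 24).filter (levelSet k)).Nodup := List.Nodup.filter _ List.nodup_range
  rw [← List.sum_toFinset _ hL, hfin,
    Finset.card_eq_sum_card_fiberwise (f := fun g => gIdx (g (gPt (basePts.getD k 0))))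
      (t := ((List.range 24).filter (levelSet k)).toFinset)]
  · apply Finset.sum_congr rfl
    intro z hz
    rw [List.mem_toFinset, List.mem_filter, List.mem_range] at hz
    rw [hfin]
    have hset : (cset r r' k u).toFinset.filter (fun g => gIdx (g (gPt (basePts.getD k 0))) = z) =
        (cset r r' (k + 1) (u * wordPerm (wit k z))).toFinset.image (fun h => wordPerm (wit k z) * h) := by
      ext g
      simp only [Finset.mem_filter, Set.mem_toFinset, Finset.mem_image]
      constructor
      · rintro ⟨hg, hgz⟩
        obtain ⟨_, hd⟩ := level_down hk hg.1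
        rw [hgz] at hd
        refine ⟨(wordPerm (wit k z))⁻¹ * g, ⟨hd, ?_⟩, by group⟩
        have e : u * wordPerm (wit k z) * ((wordPerm (wit k z))⁻¹ * g) = u * g := by group
        rw [e]
        exact hg.2
      · rintro ⟨h, hh, rfl⟩
        obtain ⟨h1, h2⟩ := level_up hk hz.1 hz.2 hh.1
        refine ⟨⟨h1, ?_⟩, h2⟩
        have e : u * (wordPerm (wit k z) * h) = u * wordPerm (wit k z) * h := by group
        rw [e]
        exact hh.2
    rw [hset, Finset.card_image_of_injective _ (mul_right_injective _)]
  · intro g hg
    rw [Finset.mem_coe, Set.mem_toFinset] at hg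
    rw [Finset.mem_coe, List.mem_toFinset, List.mem_filter, List.mem_range]
    exact ⟨gIdx_lt _, (level_down hk hg.1).1⟩

theorem ncard_cset_leaf (r r' u : Equiv.Perm GolayPt) :
    (cset r r' 7 u).ncard = if u * r = r' * u then 1 else 0 := by
  unfold cset
  rw [fixSub_M24_top]
  split_ifs with h
  · have : {h : Equiv.Perm GolayPt | h ∈ (⊥ : Subgroup (Equiv.Perm GolayPt)) ∧ u * h * r = r' * (u * h)} = {1} := by
      ext x
      simp only [Set.mem_ofPred_eq, Subgroup.mem_bot, Set.mem_singleton_iff]
      constructor
      · exact fun hx => hx.1
      · rintro rfl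
        exact ⟨rfl, by rw [mul_one]; exact h⟩
    rw [this, Set.ncard_singleton]
  · have : {h : Equiv.Perm GolayPt | h ∈ (⊥ : Subgroup (Equiv.Perm GolayPt)) ∧ u * h * r = r' * (u * h)} = ∅ := by
      ext x
      simp only [Set.mem_ofPred_eq, Subgroup.mem_bot, Set.mem_empty_iff_false, iff_false]
      rintro ⟨rfl, hx⟩
      rw [mul_one] at hx
      exact h hx
    rw [this, Set.ncard_empty]

/-! ### Checks on tables -/

/-- The intertwining relation at the point `b`, for the table `a`. -/
def chk (R R' a b : ℕ) : Bool := look a (look R b) == look R' (look a b)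

/-- The intertwining relation at the point `b`, for the composition of the tables `a` and `e`. -/
def chk2 (R R' a e b : ℕ) : Bool := look a (look e (look R b)) == look R' (look a (look e b))

theorem chk_compP (R R' a e : ℕ) {b : ℕ} (hb : b < 24) (hRb : look R b < 24) :
    chk R R' (compP a e) b = chk2 R R' a e b := by
  unfold chk chk2
  rw [look_compP _ _ hb, look_compP _ _ hRb]

theorem chk_iff {R R' a : ℕ} {r r' u : Equiv.Perm GolayPt} (hr : Rep R r) (hr' : Rep R' r') (hu : Rep a u)
    {b : ℕ} (hb : b < 24) : chk R R' a b = true ↔ (u * r) (gPt b) = (r' * u) (gPt b) := by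
  unfold chk
  rw [beq_iff_eq, Equiv.Perm.mul_apply, Equiv.Perm.mul_apply, hr.apply_gPt hb, hu.apply_gPt (hr.look_lt24 hb),
    hu.apply_gPt hb, hr'.apply_gPt (hu.look_lt24 hb)]
  constructor
  · intro h; rw [h]
  · intro h
    have := congrArg gIdx h
    rwa [gIdx_gPt (hu.look_lt24 (hr.look_lt24 hb)), gIdx_gPt (hr'.look_lt24 (hu.look_lt24 hb))] at this

/-- The leaf test. -/
theorem leaf_iff {R R' a : ℕ} {r r' u : Equiv.Perm GolayPt} (hr : Rep R r) (hr' : Rep R' r') (hu : Rep a u)
    (hrM : r ∈ M24) (hrM' : r' ∈ M24) (huM : u ∈ M24) :
    basePts.all (chk R R' a) = true ↔ u * r = r' * u := by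
  constructor
  · intro h
    have hx : (r' * u)⁻¹ * (u * r) ∈ fixSub M24 (levelFix 7) := by
      rw [mem_fixSub]
      refine ⟨M24.mul_mem (M24.inv_mem (M24.mul_mem hrM' huM)) (M24.mul_mem huM hrM), ?_⟩
      intro j hj
      have hjb : j ∈ basePts := by
        obtain ⟨i, hi, rfl⟩ := levelFix_sub 7 (le_refl 7) j hj
        have : ∀ i < 7, basePts.getD i 0 ∈ basePts := by decide
        exact this i hi
      have hc := List.all_eq_true.1 h j hjb
      rw [chk_iff hr hr' hu (levelFix_lt 7 (le_refl 7) j hj)] at hc
      rw [Equiv.Perm.mul_apply, hc, Equiv.Perm.inv_def, Equiv.symm_apply_apply]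
    rw [fixSub_M24_top, Subgroup.mem_bot, inv_mul_eq_one] at hx
    exact hx.symm
  · intro h
    rw [List.all_eq_true]
    intro b hb
    have hb24 : b < 24 := by
      have : ∀ b ∈ basePts, b < 24 := by decide
      exact this b hb
    rw [chk_iff hr hr' hu hb24, h]

/-- Pruning. -/
theorem cset_eq_empty {R R' a : ℕ} {r r' u : Equiv.Perm GolayPt} (hr : Rep R r) (hr' : Rep R' r') (hu : Rep a u)
    {k : ℕ} (hk : k ≤ 7) {b : ℕ} (hb : b ∈ levelFix k) (hRb : look R b ∈ levelFix k)
    (hc : chk R R' a b = false) : cset r r' k u = ∅ := by
  ext h
  simp only [Set.mem_empty_iff_false, iff_false]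
  rintro ⟨hh, he⟩
  have hb24 := levelFix_lt k hk b hb
  have hfix := (mem_fixSub.1 hh).2
  have h1 := congrArg (fun f : Equiv.Perm GolayPt => f (gPt b)) he
  simp only [Equiv.Perm.mul_apply] at h1
  rw [hr.apply_gPt hb24, hfix _ hRb, hfix _ hb, ← hr.apply_gPt hb24] at h1
  have h2 : chk R R' a b = true := by
    rw [chk_iff hr hr' hu hb24, Equiv.Perm.mul_apply, Equiv.Perm.mul_apply]
    exact h1
  rw [hc] at h2
  exact absurd h2 (by decide)

/-! ### The counting function -/

/-- The pruning points are valid. -/
def ppOK (R : ℕ) (pp : List (List ℕ)) : Bool :=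
  (List.range 8).all (fun k => (pp.getD k []).all (fun b =>
    (levelFix k).contains b && (levelFix k).contains (look R b)))

/-- The number of elements of `M24` intertwining the permutations of the tables `R` and `R'`
(fuel `n`, level `k`, table `a` of the prefix). -/
def cnt (R R' : ℕ) (pp : List (List ℕ)) : ℕ → ℕ → ℕ → ℕ
  | 0, _, a => if basePts.all (chk R R' a) then 1 else 0
  | n + 1, k, a => ((lvT.getD k []).map (fun e =>
      if (pp.getD (k + 1) []).all (chk2 R R' a e.2) then cnt R R' pp n (k + 1) (compP a e.2) else 0)).sum

theorem cnt_sound {rw rw' : List ℕ} {R R' : ℕ} (hR : pkOK R rw = true) (hR' : pkOK R' rw' = true)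
    {pp : List (List ℕ)} (hpp : ppOK R pp = true) :
    ∀ (n k : ℕ), n + k = 7 → ∀ (u : Equiv.Perm GolayPt) (a : ℕ), u ∈ M24 → Rep a u →
      (cset (wordPerm rw) (wordPerm rw') k u).ncard = cnt R R' pp n k a := by
  have hr := rep_of_pkOK hR
  have hr' := rep_of_pkOK hR'
  intro n
  induction n with
  | zero =>
    intro k hk u a huM hu
    have hk7 : k = 7 := by omega
    subst hk7
    rw [ncard_cset_leaf]
    unfold cnt
    have := leaf_iff hr hr' hu (wordPerm_mem_M24 rw) (wordPerm_mem_M24 rw') huM
    by_cases h : u * wordPerm rw = wordPerm rw' * u
    · rw [if_pos h, if_pos (this.2 h)]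
    · rw [if_neg h, if_neg (fun h' => h (this.1 h'))]
  | succ n ih =>
    intro k hk u a huM hu
    have hk7 : k < 7 := by omega
    rw [ncard_cset_step _ _ _ hk7]
    unfold cnt
    rw [← lvT_fst hk7, List.map_map]
    congr 1
    apply List.map_congr_left
    intro e he
    obtain ⟨hz, hl⟩ := lvT_mem hk7 he
    have he' := lvT_rep hk7 he
    have hu' : Rep (compP a e.2) (u * wordPerm (wit k e.1)) := hu.mul he'
    have huM' : u * wordPerm (wit k e.1) ∈ M24 := M24.mul_mem huM (wordPerm_mem_M24 _)
    simp only [Function.comp_apply]
    by_cases hc : (pp.getD (k + 1) []).all (chk2 R R' a e.2) = true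
    · rw [if_pos hc]
      exact ih (k + 1) (by omega) _ _ huM' hu'
    · rw [if_neg hc]
      rw [List.all_eq_true] at hc
      push Not at hc
      obtain ⟨b, hb, hcb⟩ := hc
      replace hcb := Bool.eq_false_iff.2 hcb
      have hppk := List.all_eq_true.1 (List.all_eq_true.1 hpp (k + 1) (List.mem_range.2 (by omega))) b hb
      rw [Bool.and_eq_true, List.contains_iff_mem, List.contains_iff_mem] at hppk
      have hb24 := levelFix_lt (k + 1) (by omega) b hppk.1
      have hRb24 := levelFix_lt (k + 1) (by omega) _ hppk.2
      rw [← chk_compP R R' a e.2 hb24 hRb24] at hcb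
      rw [cset_eq_empty hr hr' hu' (by omega) hppk.1 hppk.2 hcb, Set.ncard_empty]

/-- The number of elements of `M24` intertwining two words. -/
theorem card_intertwiners {rw rw' : List ℕ} {R R' : ℕ} (hR : pkOK R rw = true) (hR' : pkOK R' rw' = true)
    {pp : List (List ℕ)} (hpp : ppOK R pp = true) :
    Nat.card {c : Equiv.Perm GolayPt // c ∈ M24 ∧ c * wordPerm rw = wordPerm rw' * c} =
      cnt R R' pp 7 0 idP := by
  rw [← cnt_sound hR hR' hpp 7 0 rfl 1 idP (Subgroup.one_mem _) rep_idP]
  have : cset (wordPerm rw) (wordPerm rw') 0 1 =
      {c : Equiv.Perm GolayPt | c ∈ M24 ∧ c * wordPerm rw = wordPerm rw' * c} := by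
    ext c
    unfold cset
    simp only [Set.mem_ofPred_eq, one_mul]
    rw [show levelFix 0 = [] from rfl, fixSub_nil]
  rw [this]
  exact Nat.card_coe_set_eq _

end M24Cnt

end Cfsg.Agent.Lib.H27
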