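/-
helper27 library: tables and centralizers for the elements `s : x ↦ x + 1`, `d : x ↦ 2 x`, `t : x ↦ -1/x` and
`u` (the cube twist) of `M24`; packed-table evaluation of patterns.
-/
import Mathlib
import Cfsg.Prelude.Def_Sporadic_a
import Cfsg.Agent.Lib.H27.M24Cnt
import Cfsg.Agent.Lib.H27.AutRigid

set_option autoImplicit false

namespace Cfsg.Agent.Lib.H27

open Cfsg Cfsg.Agent.Lib.H28
open scoped Pointwise

namespace OutM

open M24Cnt M24NF AutRigid

/-! ### Packed-table evaluation -/

/-- Powers of a packed table. -/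
def powP (T : ℕ) : ℕ → ℕ
  | 0 => idP
  | n + 1 => compP T (powP T n)

theorem rep_powP {T : ℕ} {x : Equiv.Perm GolayPt} (h : Rep T x) (n : ℕ) : Rep (powP T n) (x ^ n) := by
  induction n with
  | zero => rw [pow_zero]; exact rep_idP
  | succ n ih => rw [pow_succ']; exact h.mul ih

/-- The packed table of a pattern. -/
def patP (vals : ℕ → ℕ) : List ℕ → ℕ
  | [] => idP
  | a :: w => compP (vals a) (patP vals w)

theorem rep_patP {valsP : ℕ → ℕ} {vals : ℕ → Equiv.Perm GolayPt} (hv : ∀ a, Rep (valsP a) (vals a))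
    (w : List ℕ) : Rep (patP valsP w) (evalPat vals w) := by
  induction w with
  | nil => exact rep_idP
  | cons a w ih =>
    unfold evalPat at ih ⊢
    rw [List.map_cons, List.prod_cons]
    exact (hv a).mul ih

/-- The packed table is the identity. -/
def isIdP (T : ℕ) : Bool := (List.range 24).all (fun k => look T k == k)

theorem eq_one_of_isIdP {T : ℕ} {x : Equiv.Perm GolayPt} (h : Rep T x) (hid : isIdP T = true) : x = 1 := by
  apply Equiv.ext
  intro q
  apply gIdx_injective
  have := List.all_eq_true.1 hid (gIdx q) (List.mem_range.2 (gIdx_lt q))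
  rw [beq_iff_eq] at this
  rw [h, this, Equiv.Perm.one_apply]

theorem isIdP_of_eq_one {T : ℕ} {x : Equiv.Perm GolayPt} (h : Rep T x) (hx : x = 1) : isIdP T = true := by
  unfold isIdP
  rw [List.all_eq_true]
  intro k hk
  rw [List.mem_range] at hk
  rw [beq_iff_eq]
  have := h (gPt k)
  rw [hx, Equiv.Perm.one_apply, gIdx_gPt hk] at this
  exact this.symm

/-! ### The elements -/

def sw : List ℕ := [0]
def tw : List ℕ := [2]
def uw : List ℕ := [3]
def dw : List ℕ := [2, 1, 1, 1, 1, 2, 0, 0, 2, 0, 0, 0, 2, 0, 0, 0, 0, 0]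

def PS : ℕ := 956302485175575353788796878166559809
def PSi : ℕ := 983478296959358443554250846857397270
def PD : ℕ := 983435072843990828779021698901151808
def PT : ℕ := 1795248432537898728475572672376535
def PU : ℕ := 974380510768821363662145534143076928

theorem PS_ok : pkOK PS sw = true := by decide +kernel
theorem PSi_ok : pkOK PSi (pw sw 22) = true := by decide +kernel
theorem PD_ok : pkOK PD dw = true := by decide +kernel
theorem PT_ok : pkOK PT tw = true := by decide +kernel
theorem PU_ok : pkOK PU uw = true := by decide +kernel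

theorem s_pow23 : wordPerm sw ^ 23 = 1 := by
  have h : eqW (pw sw 23) [] = true := by decide +kernel
  rw [← wordPerm_pw, wordPerm_eq_of_eqW h, wordPerm_nil]

theorem s_inv : (wordPerm sw)⁻¹ = wordPerm (pw sw 22) := by
  rw [wordPerm_pw, inv_eq_iff_mul_eq_one, ← pow_succ']
  exact s_pow23

theorem s_ne_one : wordPerm sw ≠ 1 := by
  intro h
  have h2 : evalPt sw 0 ≠ 0 := by decide +kernel
  apply h2
  have := gIdx_wordPerm sw (gPt 0)
  rw [h, Equiv.Perm.one_apply, gIdx_gPt (by norm_num)] at this
  exact this.symm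

theorem s_order : orderOf (wordPerm sw) = 23 := by
  haveI : Fact (Nat.Prime 23) := ⟨by norm_num⟩
  exact orderOf_eq_prime s_pow23 s_ne_one

theorem d_pow11 : wordPerm dw ^ 11 = 1 := by
  have h : eqW (pw dw 11) [] = true := by decide +kernel
  rw [← wordPerm_pw, wordPerm_eq_of_eqW h, wordPerm_nil]

theorem d_ne_one : wordPerm dw ≠ 1 := by
  intro h
  have h2 : evalPt dw 1 ≠ 1 := by decide +kernel
  apply h2
  have := gIdx_wordPerm dw (gPt 1)
  rw [h, Equiv.Perm.one_apply, gIdx_gPt (by norm_num)] at this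
  exact this.symm

theorem d_order : orderOf (wordPerm dw) = 11 := by
  haveI : Fact (Nat.Prime 11) := ⟨by norm_num⟩
  exact orderOf_eq_prime d_pow11 d_ne_one

/-- `d s d⁻¹ = s²`. -/
theorem d_s : wordPerm dw * wordPerm sw * (wordPerm dw)⁻¹ = wordPerm sw ^ 2 := by
  have h : eqW (dw ++ sw) (pw sw 2 ++ dw) = true := by decide +kernel
  have h2 := wordPerm_eq_of_eqW h
  rw [wordPerm_append, wordPerm_append, wordPerm_pw] at h2
  rw [h2, mul_inv_cancel_right]

/-- `t d t⁻¹ = d¹⁰`. -/
theorem t_d : wordPerm tw * wordPerm dw * (wordPerm tw)⁻¹ = wordPerm dw ^ 10 := by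
  have h : eqW (tw ++ dw) (pw dw 10 ++ tw) = true := by decide +kernel
  have h2 := wordPerm_eq_of_eqW h
  rw [wordPerm_append, wordPerm_append, wordPerm_pw] at h2
  rw [h2, mul_inv_cancel_right]

/-- `u d u⁻¹ = d³`. -/
theorem u_d : wordPerm uw * wordPerm dw * (wordPerm uw)⁻¹ = wordPerm dw ^ 3 := by
  have h : eqW (uw ++ dw) (pw dw 3 ++ uw) = true := by decide +kernel
  have h2 := wordPerm_eq_of_eqW h
  rw [wordPerm_append, wordPerm_append, wordPerm_pw] at h2
  rw [h2, mul_inv_cancel_right]

/-! ### The centralizers -/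

def pps : List (List ℕ) := [[], [23], [], [0], [1], [2], [3], [4]]
def ppd : List (List ℕ) := [[], [23], [0], [], [1], [], [2], []]

theorem pps_ok : ppOK PS pps = true := by decide +kernel
theorem ppd_ok : ppOK PD ppd = true := by decide +kernel

set_option maxRecDepth 100000 in
theorem cnt_s : cnt PS PS pps 7 0 idP = 23 := by decide +kernel

set_option maxRecDepth 100000 in
theorem cnt_d : cnt PD PD ppd 7 0 idP = 11 := by decide +kernel

/-- An element of `M24` commuting with a word whose centralizer has as many elements as its order is a power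
of that word. -/
theorem mem_zpowers_of_card {rw : List ℕ} {n : ℕ} (hord : orderOf (wordPerm rw) = n)
    (hcard : Nat.card {c : Equiv.Perm GolayPt // c ∈ M24 ∧ c * wordPerm rw = wordPerm rw * c} = n)
    {c : Equiv.Perm GolayPt} (hc : c ∈ M24) (hcomm : c * wordPerm rw = wordPerm rw * c) :
    c ∈ Subgroup.zpowers (wordPerm rw) := by
  set K : Subgroup (Equiv.Perm GolayPt) := M24 ⊓ Subgroup.centralizer {wordPerm rw} with hK
  have hmemK : ∀ x : Equiv.Perm GolayPt, x ∈ K ↔ x ∈ M24 ∧ x * wordPerm rw = wordPerm rw * x := by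
    intro x
    rw [hK, Subgroup.mem_inf, Subgroup.mem_centralizer_iff]
    constructor
    · rintro ⟨h1, h2⟩
      exact ⟨h1, (h2 _ (Set.mem_singleton _)).symm⟩
    · rintro ⟨h1, h2⟩
      refine ⟨h1, ?_⟩
      intro y hy
      rw [Set.mem_singleton_iff] at hy
      rw [hy, h2]
  have hcardK : Nat.card K = n := by
    rw [← hcard]
    apply Nat.card_congr
    apply Equiv.subtypeEquivRight
    intro x
    exact hmemK x
  have hle : Subgroup.zpowers (wordPerm rw) ≤ K := by
    rw [Subgroup.zpowers_le, hmemK]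
    exact ⟨wordPerm_mem_M24 rw, rfl⟩
  have heq : Subgroup.zpowers (wordPerm rw) = K :=
    Subgroup.eq_of_le_of_card_ge hle (by rw [Nat.card_zpowers, hord, hcardK])
  rw [heq, hmemK]
  exact ⟨hc, hcomm⟩

theorem centralizer_s {c : Equiv.Perm GolayPt} (hc : c ∈ M24) (hcomm : c * wordPerm sw = wordPerm sw * c) :
    c ∈ Subgroup.zpowers (wordPerm sw) :=
  mem_zpowers_of_card s_order (by rw [card_intertwiners PS_ok PS_ok pps_ok, cnt_s]) hc hcomm

theorem centralizer_d {c : Equiv.Perm GolayPt} (hc : c ∈ M24) (hcomm : c * wordPerm dw = wordPerm dw * c) :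
    c ∈ Subgroup.zpowers (wordPerm dw) :=
  mem_zpowers_of_card d_order (by rw [card_intertwiners PD_ok PD_ok ppd_ok, cnt_d]) hc hcomm

end OutM

end Cfsg.Agent.Lib.H27
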