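/-
helper27 library: `M23` is generated by `s : x ↦ x + 1`, `d : x ↦ 2 x` and the cube twist `u`; every
automorphism of `M23` is inner.
-/
import Mathlib
import Cfsg.Prelude.Def_Sporadic_a
import Cfsg.Prelude.Def_Spor_Mathieu
import Cfsg.Agent.Lib.H27.OutMBase
import Cfsg.Agent.Lib.H27.Ord23
import Cfsg.Agent.Lib.H28.M23M22Simple

set_option autoImplicit false

namespace Cfsg.Agent.Lib.H27

open Cfsg Cfsg.Agent.Lib.H28
open scoped Pointwise

namespace OutM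

open M24Cnt M24NF AutRigid

/-! ### Generation of `M23` -/

/-- The subgroup generated by `s`, `d`, `u`. -/
noncomputable def K23 : Subgroup (Equiv.Perm GolayPt) :=
  Subgroup.closure {wordPerm sw, wordPerm dw, wordPerm uw}

/-- The blocks of the witness words. -/
def blk : ℕ → List ℕ
  | 0 => sw
  | 1 => invWord sw
  | 2 => dw
  | 3 => invWord dw
  | 4 => uw
  | 5 => invWord uw
  | _ => []

theorem blk_mem (a : ℕ) : wordPerm (blk a) ∈ K23 := by
  unfold K23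
  match a with
  | 0 => exact Subgroup.subset_closure (by simp [blk])
  | 1 => rw [show blk 1 = invWord sw from rfl, wordPerm_invWord]
         exact Subgroup.inv_mem _ (Subgroup.subset_closure (by simp))
  | 2 => exact Subgroup.subset_closure (by simp [blk])
  | 3 => rw [show blk 3 = invWord dw from rfl, wordPerm_invWord]
         exact Subgroup.inv_mem _ (Subgroup.subset_closure (by simp))
  | 4 => exact Subgroup.subset_closure (by simp [blk])
  | 5 => rw [show blk 5 = invWord uw from rfl, wordPerm_invWord]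
         exact Subgroup.inv_mem _ (Subgroup.subset_closure (by simp))
  | (n + 6) => rw [show blk (n + 6) = [] from rfl, wordPerm_nil]; exact Subgroup.one_mem _

theorem flat_mem (bs : List ℕ) : wordPerm (bs.flatMap blk) ∈ K23 := by
  induction bs with
  | nil => exact Subgroup.one_mem _
  | cons a bs ih =>
    rw [List.flatMap_cons, wordPerm_append]
    exact Subgroup.mul_mem _ (blk_mem a) ih

set_option maxRecDepth 100000 in
/-- The witnesses of the stabilizer chain of `M23`, as lists of blocks. -/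
def witM23 : List (List (List ℕ)) := [
  [[], [], [], [], [], [], [], [], [], [], [], [], [], [], [], [], [], [], [], [], [], [], [], []],
  [[], [0], [0, 0], [0, 0, 0], [2, 0, 0], [1, 5, 0], [5, 0], [0, 5, 0], [4, 3, 0], [3, 4, 0], [1, 3, 1], [3, 1], [3, 0], [2, 4, 0], [4, 1], [0, 4, 1], [5, 2, 4, 0], [1, 4, 0], [4, 0], [5, 1], [4, 2, 1], [2, 1], [1], []],
  [[], [], [2], [3, 5], [2, 2], [1, 4, 4, 0, 0, 2], [5], [5, 1, 4, 4, 0, 0, 2], [4, 3], [3, 4], [1, 4, 4, 0, 0, 3], [2, 1, 4, 4, 0, 0, 2, 2], [3], [2, 4], [3, 1, 4, 4, 0, 0, 2], [1, 1, 5, 5, 0, 4], [1, 1, 5, 5, 0], [1, 4, 4, 0, 0, 2, 2], [4], [1, 1, 5, 5, 0, 3, 4], [1, 1, 5, 5, 0, 1, 1, 5, 5, 0], [4, 1, 4, 4, 0, 0, 2], [1, 1, 5, 5, 0, 3, 5], []],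
  [[], [], [], [0, 4, 2, 2, 1], [0, 3, 3, 5, 1, 3, 5, 5], [0, 3, 3, 5, 1, 0, 3, 3, 5, 1], [4, 4, 2], [3, 5, 5, 0, 4, 2, 2, 1, 4, 4, 2], [3, 5, 5, 3, 5, 5], [3, 5, 5], [4, 4, 2, 0, 3, 3, 5, 1, 4, 4, 2, 4, 4, 2], [0, 4, 2, 2, 1, 4, 4, 2], [0, 4, 2, 2, 1, 0, 4, 2, 2, 1, 4, 4, 2], [3, 5, 5, 0, 4, 2, 2, 1], [0, 3, 3, 5, 1], [0, 4, 2, 2, 1, 4, 4, 2, 0, 4, 2, 2, 1], [4, 4, 2, 4, 4, 2], [0, 4, 2, 2, 1, 0, 4, 2, 2, 1], [4, 4, 2, 0, 4, 2, 2, 1], [4, 4, 2, 0, 3, 3, 5, 1, 4, 4, 2], [0, 3, 3, 5, 1, 4, 4, 2], [3, 5, 5, 0, 3, 3, 5, 1], [0, 3, 3, 5, 1, 4, 4, 2, 4, 4, 2], []],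
  [[], [], [], [], [0, 4, 0, 4, 0, 4], [5, 1, 1, 5, 5, 0, 3, 3, 0, 3, 4, 0, 5, 0, 0, 3], [2, 1, 1, 4, 1, 5, 2, 1, 2, 1, 1, 4, 1, 5, 2, 1, 0, 4, 0, 4, 0, 4], [2, 2, 1, 4, 4, 0, 0, 4], [5, 1, 1, 5, 5, 0, 3, 3, 0, 4, 0, 4, 0, 4], [2, 1, 1, 4, 1, 5, 2, 1, 0, 4, 0, 4, 0, 4], [0, 3, 4, 0, 5, 0, 0, 3, 0, 3, 4, 0, 5, 0, 0, 3], [2, 2, 1, 4, 4, 0, 0, 4, 2, 2, 1, 4, 4, 0, 0, 4], [0, 3, 4, 0, 5, 0, 0, 3, 0, 4, 0, 4, 0, 4], [0, 3, 4, 0, 5, 0, 0, 3, 5, 1, 1, 5, 5, 0, 3, 3], [2, 2, 1, 4, 4, 0, 0, 4, 2, 2, 1, 4, 4, 0, 0, 4, 0, 4, 0, 4, 0, 4], [5, 1, 1, 5, 5, 0, 3, 3], [2, 2, 1, 4, 4, 0, 0, 4, 0, 3, 4, 0, 5, 0, 0, 3, 0, 4, 0, 4, 0, 4], [0, 3, 4, 0, 5, 0, 0, 3, 0, 3, 4, 0, 5, 0, 0, 3, 0, 4, 0, 4, 0, 4], [2, 1, 1, 4, 1, 5, 2, 1], [0, 3, 4, 0, 5, 0, 0, 3], [2, 2, 1, 4, 4, 0, 0, 4, 0, 4, 0, 4, 0, 4], [5, 1, 1, 5, 5, 0, 3, 3, 2, 1, 1, 4, 1, 5, 2, 1], [2, 2, 1, 4, 4, 0, 0, 4, 2, 1, 1, 4, 1, 5, 2, 1], []],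
  [[], [], [], [], [], [], [1, 4, 4, 3, 0, 4, 0, 0, 0, 5, 3, 5, 0, 4, 0, 4, 0, 4, 4, 2, 1, 4, 4, 1, 5, 0, 4, 0, 0, 0, 0], [3, 5, 0, 4, 0, 4, 0, 4, 4, 2, 1, 1, 1, 1, 5, 1, 4, 0, 5, 5, 0, 3, 5, 0, 4, 0, 4, 0, 4, 4, 2], [1, 1, 1, 1, 5, 1, 4, 0, 5, 5, 0, 3, 5, 0, 4, 0, 4, 0, 4, 4, 2], [1, 4, 4, 3, 0, 4, 0, 0, 0, 5, 1, 1, 1, 1, 5, 1, 4, 0, 5, 5, 0], [1, 4, 4, 3, 0, 4, 0, 0, 0, 5, 3, 5, 0, 4, 0, 4, 0, 4, 4, 2], [1, 4, 4, 1, 5, 0, 4, 0, 0, 0, 0], [1, 4, 4, 3, 0, 4, 0, 0, 0, 5, 1, 1, 1, 1, 5, 1, 4, 0, 5, 5, 0, 3, 5, 0, 4, 0, 4, 0, 4, 4, 2], [1, 4, 4, 3, 0, 4, 0, 0, 0, 5, 3, 5, 0, 4, 0, 4, 0, 4, 4, 2, 1, 1, 1, 1, 5, 1, 4, 0, 5, 5, 0], [], [3, 5, 0, 4, 0, 4, 0, 4, 4, 2], [1, 4, 4, 3, 0, 4, 0, 0, 0, 5], [], [1, 4, 4, 3, 0, 4, 0, 0, 0, 5, 1, 4, 4, 1, 5, 0, 4, 0, 0, 0, 0], [1, 4, 4, 3, 0, 4, 0, 0, 0, 5, 3, 5, 0, 4, 0, 4, 0, 4, 4, 2, 1, 1, 1, 1, 5, 1, 4, 0, 5, 5, 0, 3, 5, 0, 4, 0, 4, 0, 4, 4, 2], [1, 1, 1, 1, 5,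 1, 4, 0, 5, 5, 0], [3, 5, 0, 4, 0, 4, 0, 4, 4, 2, 1, 4, 4, 1, 5, 0, 4, 0, 0, 0, 0], [3, 5, 0, 4, 0, 4, 0, 4, 4, 2, 1, 1, 1, 1, 5, 1, 4, 0, 5, 5, 0], []],
  [[], [], [], [], [], [], [], [], [], [], [], [], [], [], [0, 3, 3, 0, 4, 1, 1, 4, 0, 2, 0], [], [], [1, 3, 1, 5, 0, 0, 5, 1, 2, 2, 1], [], [], [], [], [], []]]

set_option maxRecDepth 100000 in
theorem witM23_ok : (List.range 7).all (fun k => (List.range 24).all (fun z =>
    k == 0 || !(levelSet k z) || levelOK k z (((witM23.getD k []).getD z []).flatMap blk))) = true := by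
  decide +kernel

theorem level_ge_K23 (k : ℕ) (hk1 : 1 ≤ k) (hk : k < 7) : ∀ x ∈ ptsOf (levelSet k),
    ∃ g ∈ fixSub K23 (levelFix k), g (gPt (basePts.getD k 0)) = x := by
  intro x hx
  rw [mem_ptsOf] at hx
  have h1 := List.all_eq_true.1 (List.all_eq_true.1 witM23_ok k (List.mem_range.2 hk)) (gIdx x)
    (List.mem_range.2 (gIdx_lt x))
  rw [Bool.or_eq_true, Bool.or_eq_true, hx] at h1
  have h2 : levelOK k (gIdx x) (((witM23.getD k []).getD (gIdx x) []).flatMap blk) = true := by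
    rcases h1 with (h1 | h1) | h1
    · rw [beq_iff_eq] at h1; omega
    · simp at h1
    · exact h1
  obtain ⟨h3, h4⟩ := levelOK_spec hk h2
  refine ⟨wordPerm (((witM23.getD k []).getD (gIdx x) []).flatMap blk), ?_, ?_⟩
  · rw [mem_fixSub]
    refine ⟨flat_mem _, ?_⟩
    intro j hj
    obtain ⟨i, hi, rfl⟩ := levelFix_sub k (by omega) j hj
    exact h3 i hi
  · rw [h4, gPt_gIdx]

theorem card_K23_ge : 10200960 ≤ Nat.card K23 := by
  have h1 := card_fixSub_ge K23 (levelFix 1) 0 _ (level_ge_K23 1 (by norm_num) (by norm_num))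
  have h2 := card_fixSub_ge K23 (levelFix 2) 1 _ (level_ge_K23 2 (by norm_num) (by norm_num))
  have h3 := card_fixSub_ge K23 (levelFix 3) 2 _ (level_ge_K23 3 (by norm_num) (by norm_num))
  have h4 := card_fixSub_ge K23 (levelFix 4) 3 _ (level_ge_K23 4 (by norm_num) (by norm_num))
  have h5 := card_fixSub_ge K23 (levelFix 5) 4 _ (level_ge_K23 5 (by norm_num) (by norm_num))
  have h6 := card_fixSub_ge K23 (levelFix 6) 5 _ (level_ge_K23 6 (by norm_num) (by norm_num))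
  have h7 : 1 ≤ Nat.card (fixSub K23 (levelFix 7)) := Nat.card_pos
  rw [levelSet_card 1 (by norm_num)] at h1
  rw [levelSet_card 2 (by norm_num)] at h2
  rw [levelSet_card 3 (by norm_num)] at h3
  rw [levelSet_card 4 (by norm_num)] at h4
  rw [levelSet_card 5 (by norm_num)] at h5
  rw [levelSet_card 6 (by norm_num)] at h6
  change 23 * Nat.card (fixSub K23 [0, 23]) ≤ Nat.card (fixSub K23 [23]) at h1
  change 22 * Nat.card (fixSub K23 [1, 0, 23]) ≤ Nat.card (fixSub K23 [0, 23]) at h2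
  change 21 * Nat.card (fixSub K23 [2, 1, 0, 23]) ≤ Nat.card (fixSub K23 [1, 0, 23]) at h3
  change 20 * Nat.card (fixSub K23 [3, 2, 1, 0, 23]) ≤ Nat.card (fixSub K23 [2, 1, 0, 23]) at h4
  change 16 * Nat.card (fixSub K23 [4, 3, 2, 1, 0, 23]) ≤ Nat.card (fixSub K23 [3, 2, 1, 0, 23]) at h5
  change 3 * Nat.card (fixSub K23 [5, 4, 3, 2, 1, 0, 23]) ≤ Nat.card (fixSub K23 [4, 3, 2, 1, 0, 23]) at h6
  change 1 ≤ Nat.card (fixSub K23 [5, 4, 3, 2, 1, 0, 23]) at h7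
  have h0 : Nat.card (fixSub K23 [23]) ≤ Nat.card K23 := by
    apply Subgroup.card_le_of_le
    intro g hg
    exact (mem_fixSub.1 hg).1
  omega

theorem gPt_23 : gPt 23 = (none : GolayPt) := by
  unfold gPt
  simp

theorem mem_M23 {g : Equiv.Perm GolayPt} : g ∈ Spor.M23 ↔ g ∈ M24 ∧ g none = none := by
  show g ∈ M24 ⊓ MulAction.stabilizer (Equiv.Perm GolayPt) (none : GolayPt) ↔ _
  rw [Subgroup.mem_inf, MulAction.mem_stabilizer_iff]
  exact Iff.rfl

theorem M23_eq_fixSub : Spor.M23 = fixSub M24 [23] := by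
  ext g
  rw [mem_M23, mem_fixSub]
  constructor
  · rintro ⟨h1, h2⟩
    refine ⟨h1, ?_⟩
    intro k hk
    rw [List.mem_singleton] at hk
    rw [hk, gPt_23, h2]
  · rintro ⟨h1, h2⟩
    refine ⟨h1, ?_⟩
    have := h2 23 (by simp)
    rwa [gPt_23] at this

theorem wordPerm_mem_M23 {w : List ℕ} (h : evalPt w 23 = 23) : wordPerm w ∈ Spor.M23 := by
  rw [mem_M23]
  refine ⟨wordPerm_mem_M24 w, ?_⟩
  have := wordPerm_gPt (w := w) (k := 23) (z := 23) (by norm_num) h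
  rwa [gPt_23] at this

theorem K23_le : K23 ≤ Spor.M23 := by
  unfold K23
  rw [Subgroup.closure_le]
  rintro x (rfl | rfl | rfl)
  · exact wordPerm_mem_M23 (by decide +kernel)
  · exact wordPerm_mem_M23 (by decide +kernel)
  · exact wordPerm_mem_M23 (by decide +kernel)

/-- `M23` is generated by `s`, `d` and `u`. -/
theorem K23_eq : K23 = Spor.M23 := by
  apply Subgroup.eq_of_le_of_card_ge K23_le
  have h1 := card_K23_ge
  have h2 := card_fixSub_chain.1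
  rw [M23_eq_fixSub]
  omega

/-! ### The automorphisms of `M23` -/

/-- The element of `M23` of a word fixing `∞`. -/
noncomputable def mk23 (w : List ℕ) (h : evalPt w 23 = 23) : ↥Spor.M23 := ⟨wordPerm w, wordPerm_mem_M23 h⟩

theorem sw_fix : evalPt sw 23 = 23 := by decide +kernel
theorem dw_fix : evalPt dw 23 = 23 := by decide +kernel
theorem uw_fix : evalPt uw 23 = 23 := by decide +kernel

/-- The relators. -/
def rels23 : List (List ℕ × ℕ) := [([0, 2], 6), ([0, 0, 2], 7), ([0, 2, 2], 5)]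

/-- The tables of the candidate images. -/
def valsP23 (e : Bool) (j' : ℕ) (i : ℕ) : ℕ :=
  [if e then PS else PSi, PD, compP PU (powP PD j')].getD i idP

set_option maxRecDepth 100000 in
theorem chk23 : [true, false].all (fun e => (List.range 11).all (fun j' =>
    (e && j' == 0) || rels23.any (fun r => !(isIdP (powP (patP (valsP23 e j') r.1) r.2))))) = true := by
  decide +kernel

set_option maxRecDepth 100000 in
theorem chk23_0 : rels23.all (fun r => isIdP (powP (patP (valsP23 true 0) r.1) r.2)) = true := by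
  decide +kernel

theorem rep_valsP23 (e : Bool) (j' : ℕ) (i : ℕ) :
    Rep (valsP23 e j' i)
      ([if e then wordPerm sw else (wordPerm sw)⁻¹, wordPerm dw, wordPerm uw * wordPerm dw ^ j'].getD i 1) := by
  unfold valsP23
  match i with
  | 0 =>
    cases e
    · simp only [List.getD_cons_zero, Bool.false_eq_true, if_false]
      rw [s_inv]
      exact rep_of_pkOK PSi_ok
    · simp only [List.getD_cons_zero, if_true]
      exact rep_of_pkOK PS_ok
  | 1 => exact rep_of_pkOK PD_ok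
  | 2 => exact (rep_of_pkOK PU_ok).mul (rep_powP (rep_of_pkOK PD_ok) j')
  | (i + 3) => exact rep_idP

theorem rel23_perm (e : Bool) (j' : ℕ) (hj' : j' < 11)
    (h : ∀ r ∈ rels23, (evalPat (fun i => [if e then wordPerm sw else (wordPerm sw)⁻¹, wordPerm dw,
      wordPerm uw * wordPerm dw ^ j'].getD i 1) r.1) ^ r.2 = 1) :
    e = true ∧ j' = 0 := by
  have h1 := List.all_eq_true.1 (List.all_eq_true.1 chk23 e (by cases e <;> simp))
    j' (List.mem_range.2 hj')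
  rw [Bool.or_eq_true] at h1
  rcases h1 with h1 | h1
  · rw [Bool.and_eq_true, beq_iff_eq] at h1
    exact ⟨h1.1, h1.2⟩
  · exfalso
    rw [List.any_eq_true] at h1
    obtain ⟨r, hr, hr2⟩ := h1
    have hrep := rep_powP (rep_patP (rep_valsP23 e j') r.1) r.2
    rw [isIdP_of_eq_one hrep (h r hr)] at hr2
    exact absurd hr2 (by decide)

theorem rel23_0 : ∀ r ∈ rels23, (evalPat (fun i => [wordPerm sw, wordPerm dw, wordPerm uw].getD i 1) r.1) ^ r.2
    = 1 := by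
  intro r hr
  have h1 := List.all_eq_true.1 chk23_0 r hr
  have hrep := rep_powP (rep_patP (rep_valsP23 true 0) r.1) r.2
  have h2 := eq_one_of_isIdP hrep h1
  simp only [if_true, pow_zero, mul_one] at h2
  exact h2

theorem coe_evalPat23 (vals : ℕ → ↥Spor.M23) (w : List ℕ) :
    ((evalPat vals w : ↥Spor.M23) : Equiv.Perm GolayPt) =
      evalPat (fun i => ((vals i : ↥Spor.M23) : Equiv.Perm GolayPt)) w :=
  map_evalPat (Subgroup.subtype Spor.M23) vals w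

theorem gen23 (ψ : MulAut ↥Spor.M23) (hs : ψ (mk23 sw sw_fix) = mk23 sw sw_fix)
    (hd : ψ (mk23 dw dw_fix) = mk23 dw dw_fix) (hu : ψ (mk23 uw uw_fix) = mk23 uw uw_fix) : ψ = 1 := by
  have key : ∀ y : Equiv.Perm GolayPt, y ∈ K23 → ∀ hy : y ∈ Spor.M23, ψ ⟨y, hy⟩ = ⟨y, hy⟩ := by
    intro y hy
    unfold K23 at hy
    induction hy using Subgroup.closure_induction with
    | mem x hx =>
      intro hxM
      rcases hx with rfl | rfl | rfl
      · exact hs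
      · exact hd
      · exact hu
    | one =>
      intro h1
      exact map_one ψ
    | mul a b ha hb iha ihb =>
      intro hab
      have haM : a ∈ Spor.M23 := K23_le ha
      have hbM : b ∈ Spor.M23 := K23_le hb
      have : (⟨a * b, hab⟩ : ↥Spor.M23) = ⟨a, haM⟩ * ⟨b, hbM⟩ := rfl
      rw [this, map_mul, iha haM, ihb hbM]
    | inv a ha iha =>
      intro hai
      have haM : a ∈ Spor.M23 := K23_le ha
      have : (⟨a⁻¹, hai⟩ : ↥Spor.M23) = (⟨a, haM⟩ : ↥Spor.M23)⁻¹ := rfl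
      rw [this, map_inv, iha haM]
  ext x : 1
  have hx : (x : Equiv.Perm GolayPt) ∈ K23 := by rw [K23_eq]; exact x.2
  have := key x.1 hx x.2
  rw [MulAut.one_apply]
  exact this

theorem s_fix_only {p : GolayPt} (h : wordPerm sw p = p) : p = none := by
  have h1 : ∀ z < 24, evalPt sw z = z → z = 23 := by decide +kernel
  have h2 := h1 (gIdx p) (gIdx_lt p) (by rw [← gIdx_wordPerm, h])
  rw [← gPt_gIdx p, h2, gPt_23]

/-- Every automorphism of `M23` is inner. -/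
theorem all_inner23 (φ : MulAut ↥Spor.M23) : ∃ g : ↥Spor.M23, φ = MulAut.conj g := by
  apply inner_of_data3 (mk23 sw sw_fix) (mk23 dw dw_fix) (mk23 uw uw_fix) 11 3 gen23 _ _ _ _ _ rels23 _ _ φ
  · -- conjugacy of the elements of order 23
    intro x hx
    have ho : orderOf (x : Equiv.Perm GolayPt) = 23 := by
      rw [Subgroup.orderOf_coe, hx, ← Subgroup.orderOf_coe]
      exact s_order
    have hxM := mem_M23.1 x.2
    obtain ⟨k, hk, h⟩ := Ord23.exists_conj_rep hxM.1 ho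
    have hkn : k none = none := by
      have hfix : (k * (x : Equiv.Perm GolayPt) * k⁻¹) (k none) = k none := by
        rw [Equiv.Perm.mul_apply, Equiv.Perm.mul_apply, Equiv.Perm.inv_def, Equiv.symm_apply_apply, hxM.2]
      rcases h with h | h
      · rw [h] at hfix
        exact s_fix_only hfix
      · rw [h] at hfix
        apply s_fix_only
        rw [Equiv.Perm.inv_eq_iff_eq] at hfix
        exact hfix.symm
    have hkM : k ∈ Spor.M23 := mem_M23.2 ⟨hk, hkn⟩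
    rcases h with h | h
    · exact ⟨⟨k, hkM⟩, Or.inl (Subtype.ext h)⟩
    · exact ⟨⟨k, hkM⟩, Or.inr (Subtype.ext h)⟩
  · -- the centralizer of `s`
    intro c hc
    have hc' : (c : Equiv.Perm GolayPt) * wordPerm sw = wordPerm sw * (c : Equiv.Perm GolayPt) :=
      congrArg Subtype.val hc
    obtain ⟨m, hm⟩ := Subgroup.mem_zpowers_iff.1 (centralizer_s (mem_M23.1 c.2).1 hc')
    refine ⟨m, Subtype.ext ?_⟩
    rw [Subgroup.coe_zpow]
    exact hm.symm
  · -- the centralizer of `d`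
    intro c hc
    have hc' : (c : Equiv.Perm GolayPt) * wordPerm dw = wordPerm dw * (c : Equiv.Perm GolayPt) :=
      congrArg Subtype.val hc
    have hmem := centralizer_d (mem_M23.1 c.2).1 hc'
    classical
    rw [mem_zpowers_iff_mem_range_orderOf, d_order, Finset.mem_image] at hmem
    obtain ⟨j, hj, hjc⟩ := hmem
    rw [Finset.mem_range] at hj
    refine ⟨j, hj, Subtype.ext ?_⟩
    rw [Subgroup.coe_pow]
    exact hjc.symm
  · exact Subtype.ext d_s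
  · exact Subtype.ext u_d
  · -- the relators hold
    intro r hr
    apply Subtype.ext
    rw [Subgroup.coe_pow, coe_evalPat23, Subgroup.coe_one]
    have h0 := rel23_0 r hr
    have hf : (fun i => (([mk23 sw sw_fix, mk23 dw dw_fix, mk23 uw uw_fix].getD i 1 : ↥Spor.M23) :
        Equiv.Perm GolayPt)) = (fun i => [wordPerm sw, wordPerm dw, wordPerm uw].getD i 1) := by
      funext i
      match i with
      | 0 => rfl
      | 1 => rfl
      | 2 => rfl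
      | (i + 3) => rfl
    rw [hf]
    exact h0
  · -- the relators pin down the images
    intro s' hs' j' hj' hall
    obtain ⟨e, he⟩ : ∃ e : Bool, (s' : Equiv.Perm GolayPt) = if e then wordPerm sw else (wordPerm sw)⁻¹ := by
      rcases hs' with h | h
      · exact ⟨true, by rw [h]; rfl⟩
      · exact ⟨false, by rw [h]; rfl⟩
    have hperm := rel23_perm e j' hj' (by
      intro r hr
      have h1 := congrArg Subtype.val (hall r hr)
      rw [Subgroup.coe_pow, coe_evalPat23, Subgroup.coe_one] at h1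
      have hf : (fun i => (([s', mk23 dw dw_fix, mk23 uw uw_fix * mk23 dw dw_fix ^ j'].getD i 1 : ↥Spor.M23) :
          Equiv.Perm GolayPt)) =
          (fun i => [if e then wordPerm sw else (wordPerm sw)⁻¹, wordPerm dw,
            wordPerm uw * wordPerm dw ^ j'].getD i 1) := by
        funext i
        match i with
        | 0 => exact he
        | 1 => rfl
        | 2 => rfl
        | (i + 3) => rfl
      rw [hf] at h1
      exact h1)
    obtain ⟨h1, h3⟩ := hperm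
    refine ⟨?_, h3⟩
    apply Subtype.ext
    rw [he, h1]
    rfl

end OutM

end Cfsg.Agent.Lib.H27
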