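import Mathlib
import Cfsg.Prelude.Def_FischerSpaces
import Cfsg.Agent.Lib.H11.SpinSign
import Cfsg.Agent.Lib.H11.ReflClass

/-!
# S5401, piece S5401-OM (helper27 for helper17): `Ω(Q)` lies in the subgroup generated by the reflections of norm `c`
(over `ZMod 3`, even dimension `≠ 4`), from helper11's `ReflClass.index_two`.
-/

set_option autoImplicit false

namespace Cfsg.Agent.Lib.H27.FT

open Cfsg.Agent.Lib.H11.ReflClass

theorem zmod3_sq_eq_one (t : ZMod 3) (ht : t ≠ 0) : t ^ 2 = 1 := by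
  revert t; decide

theorem gensC_eq_reflectionsOfNorm {n : ℕ} (Q : QuadraticForm (ZMod 3) (Fin n → ZMod 3)) (c : ZMod 3) :
    gensC Q c = Cfsg.reflectionsOfNorm (⇑Q) c := by
  ext g
  constructor
  · rintro ⟨v, t, ht, hv, hg⟩
    refine ⟨v, ?_, hg⟩
    rw [hv, zmod3_sq_eq_one t ht, mul_one]
  · rintro ⟨v, hv, hg⟩
    exact ⟨v, 1, one_ne_zero, by rw [hv]; ring, hg⟩

/-- a normal subgroup of index 2 contains the commutator subgroup -/
theorem commutator_le_of_index_two {G : Type*} [Group G] (H : Subgroup G) [H.Normal] (h : H.index = 2) :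
    commutator G ≤ H := by
  haveI : Fact (Nat.Prime 2) := ⟨Nat.prime_two⟩
  have hcard : Nat.card (G ⧸ H) = 2 := h
  haveI : IsCyclic (G ⧸ H) := isCyclic_of_prime_card hcard
  letI : CommGroup (G ⧸ H) := IsCyclic.commGroup
  have := Abelianization.commutator_subset_ker (QuotientGroup.mk' H)
  rwa [QuotientGroup.ker_mk'] at this

theorem omega_le_reflectionSubgroup {n : ℕ} (Q : QuadraticForm (ZMod 3) (Fin n → ZMod 3))
    (hQ : (QuadraticMap.polarBilin Q).Nondegenerate) (hn : 2 ≤ n) (heven : Even n) (hn4 : n ≠ 4)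
    (c : ZMod 3) (hc : c ≠ 0) :
    Cfsg.Omega (ZMod 3) (⇑Q) ≤ Cfsg.reflectionSubgroup (⇑Q) c := by
  have h2 : (2 : ZMod 3) ≠ 0 := by decide
  have hidx := index_two Q hQ h2 hn heven (fun h => hn4 h.1) c hc
  haveI := closure_normal Q c hc
  have h := commutator_le_of_index_two (Subgroup.closure (gensC Q c)) hidx
  rw [gensC_eq_reflectionsOfNorm] at h
  exact h

end Cfsg.Agent.Lib.H27.FT
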