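import Mathlib
import Cfsg.Agent.Lib.H17.HJDefs

/-!
# S3313 piece AZEQ (core): description of the pairs counted by `a(z)`, with the other pieces
(`qdata`, `Qz_normal`, CRIT with NOE8) as hypotheses.
-/

set_option autoImplicit false

namespace Cfsg.Agent.Lib.H27.HJ

open Cfsg Cfsg.Agent.Lib.H17.HJ

variable {G : Type*} [Group G] {z t : G} {K V B : Subgroup G}

/-- an involution `u` with `x ∈ ⟨u v⟩`, `v` an involution, `x² = 1`: `u` centralizes `x` -/
theorem comm_of_mem_zpowers_left {u v x : G} (hu : u * u = 1) (hv : v * v = 1)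
    (hx : x * x = 1) (hmem : x ∈ Subgroup.zpowers (u * v)) : x * u = u * x := by
  obtain ⟨k, hk⟩ := Subgroup.mem_zpowers_iff.mp hmem
  have huinv : u⁻¹ = u := inv_eq_of_mul_eq_one_left hu
  have hvinv : v⁻¹ = v := inv_eq_of_mul_eq_one_left hv
  have hxinv : x⁻¹ = x := inv_eq_of_mul_eq_one_left hx
  have h1 : u * (u * v) * u⁻¹ = (u * v)⁻¹ := by
    rw [_root_.mul_inv_rev, huinv, hvinv, ← mul_assoc, hu, one_mul]
  have h2 : u * x * u⁻¹ = x⁻¹ := by
    rw [← hk, ← conj_zpow, h1, inv_zpow]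
  rw [huinv, hxinv] at h2
  calc x * u = (u * x * u) * u := by rw [h2]
    _ = u * x * (u * u) := by group
    _ = u * x := by rw [hu, mul_one]

theorem comm_of_mem_zpowers_right {u v x : G} (hu : u * u = 1) (hv : v * v = 1)
    (hx : x * x = 1) (hmem : x ∈ Subgroup.zpowers (u * v)) : x * v = v * x := by
  have huinv : u⁻¹ = u := inv_eq_of_mul_eq_one_left hu
  have hvinv : v⁻¹ = v := inv_eq_of_mul_eq_one_left hv
  have hmem' : x ∈ Subgroup.zpowers (v * u) := by
    have : v * u = (u * v)⁻¹ := by rw [_root_.mul_inv_rev, huinv, hvinv]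
    rw [this, Subgroup.zpowers_inv]; exact hmem
  exact comm_of_mem_zpowers_left hv hu hx hmem'

theorem orderOf_of_isConj {x y : G} (h : IsConj x y) : orderOf y = orderOf x := by
  obtain ⟨c, hc⟩ := isConj_iff.mp h
  rw [← hc, ← MulAut.conj_apply, MulEquiv.orderOf_eq]

theorem sq_of_orderOf_two {x : G} (hx : orderOf x = 2) : x * x = 1 := by
  have := pow_orderOf_eq_one x
  rw [hx, pow_two] at this
  exact this

theorem ne_one_of_orderOf_two {x : G} (hx : orderOf x = 2) : x ≠ 1 := by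
  rintro rfl
  simp at hx

theorem az_iff_aux (h : Setting z t K V B)
    (hnorm : ∀ c ∈ Subgroup.centralizer ({z} : Set G), ∀ q ∈ Qz z, c * q * c⁻¹ ∈ Qz z)
    (hcrit : ∀ u v : G, u ∈ Qz z → orderOf u = 2 → u ≠ z → v * z = z * v → orderOf v = 2 →
      v ∉ Qz z → v * u * v⁻¹ ∈ Qz z → (z ∈ Subgroup.zpowers (u * v) ↔ ¬ (u * v = v * u)))
    (p : G × G) :
    (IsConj z p.1 ∧ IsConj t p.2 ∧ z ∈ Subgroup.zpowers (p.1 * p.2)) ↔
      ((p.1 ∈ Qz z ∧ orderOf p.1 = 2 ∧ p.1 ≠ z) ∧
        (p.2 ∈ Subgroup.centralizer ({z} : Set G) ∧ orderOf p.2 = 2 ∧ p.2 ∉ Qz z) ∧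
        ¬ (p.1 * p.2 = p.2 * p.1)) := by
  obtain ⟨u, v⟩ := p
  simp only
  have hz2 : z * z = 1 := sq_of_orderOf_two h.hz
  constructor
  · rintro ⟨hzu, htv, hmem⟩
    have hou : orderOf u = 2 := (orderOf_of_isConj hzu).trans h.hz
    have hov : orderOf v = 2 := (orderOf_of_isConj htv).trans h.ht
    have hu2 := sq_of_orderOf_two hou
    have hv2 := sq_of_orderOf_two hov
    have hzu' : z * u = u * z := comm_of_mem_zpowers_left hu2 hv2 hz2 hmem
    have hzv' : z * v = v * z := comm_of_mem_zpowers_right hu2 hv2 hz2 hmem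
    have huC : u ∈ Subgroup.centralizer ({z} : Set G) :=
      Subgroup.mem_centralizer_singleton_iff.mpr hzu'.symm
    have hvC : v ∈ Subgroup.centralizer ({z} : Set G) :=
      Subgroup.mem_centralizer_singleton_iff.mpr hzv'.symm
    have huQ : u ∈ Qz z := by
      by_contra hnot
      exact h.hzt (hzu.trans (h.hCz u huC hou hnot))
    have hvQ : v ∉ Qz z := by
      intro hin
      have h1 : IsConj v z := h.hQz v hin hov
      exact h.hzt (h1.symm.trans htv.symm)
    have huz : u ≠ z := by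
      rintro rfl
      -- z ∈ zpowers (u * v) with u = z commuting with v
      obtain ⟨k, hk⟩ := Subgroup.mem_zpowers_iff.mp hmem
      have hsq : (u * v) * (u * v) = 1 := by
        calc (u * v) * (u * v) = u * (v * u) * v := by group
          _ = u * (u * v) * v := by rw [← hzv']
          _ = (u * u) * (v * v) := by group
          _ = 1 := by rw [hu2, hv2, mul_one]
      have hinv : (u * v)⁻¹ = u * v := inv_eq_of_mul_eq_one_left hsq
      rcases Int.even_or_odd k with ⟨m, hm⟩ | ⟨m, hm⟩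
      · have : (u * v) ^ k = 1 := by
          rw [hm, ← two_mul, zpow_mul, zpow_two, hsq, one_zpow]
        rw [this] at hk
        exact ne_one_of_orderOf_two hou hk.symm
      · have : (u * v) ^ k = u * v := by
          rw [hm, zpow_add, zpow_mul, zpow_two, hsq, one_zpow, one_mul, zpow_one]
        rw [this] at hk
        have : v = 1 := by
          have := mul_left_cancel (a := u) (b := v) (c := 1) (by rw [mul_one]; exact hk)
          exact this
        exact ne_one_of_orderOf_two hov this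
    refine ⟨⟨huQ, hou, huz⟩, ⟨hvC, hov, hvQ⟩, ?_⟩
    exact (hcrit u v huQ hou huz hzv'.symm hov hvQ (hnorm v hvC u huQ)).mp hmem
  · rintro ⟨⟨huQ, hou, huz⟩, ⟨hvC, hov, hvQ⟩, hnc⟩
    have hzv' : z * v = v * z := (Subgroup.mem_centralizer_singleton_iff.mp hvC).symm
    refine ⟨(h.hQz u huQ hou).symm, (h.hCz v hvC hov hvQ).symm, ?_⟩
    exact (hcrit u v huQ hou huz hzv'.symm hov hvQ (hnorm v hvC u huQ)).mpr hnc

end Cfsg.Agent.Lib.H27.HJ
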