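import Mathlib
import Cfsg.Agent.Lib.H17.HJDefs

/-!
# S3313 piece IOTA (core): `Q` has 12 solutions of `x² = 1`, i.e. 10 involutions other than `z`;
the other pieces (STRUCT, FPF5, A5) enter as hypotheses.
-/

set_option autoImplicit false

namespace Cfsg.Agent.Lib.H27.HJ

open Cfsg Cfsg.Agent.Lib.H17.HJ

variable {G : Type*} [Group G] [Finite G] {z t : G} {K V B : Subgroup G}

theorem card_sq_Qz_aux (h : Setting z t K V B)
    (hex5 : ∃ a : alternatingGroup (Fin 5), orderOf a = 5)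
    (hnorm : ∀ c ∈ Subgroup.centralizer ({z} : Set G), ∀ q ∈ Qz z, c * q * c⁻¹ ∈ Qz z)
    (hcent : ∀ c ∈ Subgroup.centralizer ({z} : Set G), (∀ q ∈ Qz z, c * q = q * c) → c ∈ Qz z)
    (hfpf : ∀ k : G, orderOf k = 5 → k * z = z * k → (∀ q ∈ Qz z, k * q * k⁻¹ ∈ Qz z) →
      (¬ ∀ q ∈ Qz z, k * q = q * k) → Nat.card {x : G // x ∈ Qz z ∧ x * x = 1} = 12) :
    Nat.card {x : G // x ∈ Qz z ∧ x * x = 1} = 12 := by
  obtain ⟨e⟩ := h.hK
  obtain ⟨a, ha⟩ := hex5
  set k' : ↥K := e.symm a with hk'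
  have hk'5 : orderOf k' = 5 := by rw [hk', MulEquiv.orderOf_eq]; exact ha
  have hk5 : orderOf (k' : G) = 5 := by rw [Subgroup.orderOf_coe]; exact hk'5
  have hkC : (k' : G) ∈ Subgroup.centralizer ({z} : Set G) := by
    rw [← h.hKC]
    exact (le_sup_left : K ≤ K ⊔ Qz z) k'.2
  have hkz : (k' : G) * z = z * (k' : G) := Subgroup.mem_centralizer_singleton_iff.mp hkC
  refine hfpf (k' : G) hk5 hkz (hnorm _ hkC) ?_
  intro hall
  have hkQ : (k' : G) ∈ Qz z := hcent _ hkC hall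
  have hbot : (k' : G) ∈ K ⊓ Qz z := ⟨k'.2, hkQ⟩
  rw [h.hKQ, Subgroup.mem_bot] at hbot
  rw [hbot, orderOf_one] at hk5
  omega

theorem card_invol_Qz_aux (h : Setting z t K V B) (hzQ : z ∈ Qz z)
    (h12 : Nat.card {x : G // x ∈ Qz z ∧ x * x = 1} = 12) :
    Nat.card {u : G // u ∈ Qz z ∧ orderOf u = 2 ∧ u ≠ z} = 10 := by
  have hz2 : z * z = 1 := by
    have := pow_orderOf_eq_one z
    rw [h.hz, pow_two] at this
    exact this
  have hz1 : z ≠ 1 := by
    intro h1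
    have := h.hz
    rw [h1, orderOf_one] at this
    omega
  have hS : {x : G | x ∈ Qz z ∧ x * x = 1} =
      {u : G | u ∈ Qz z ∧ orderOf u = 2 ∧ u ≠ z} ∪ {1, z} := by
    ext x
    simp only [Set.mem_ofPred_eq, Set.mem_union, Set.mem_insert_iff, Set.mem_singleton_iff]
    constructor
    · rintro ⟨hxQ, hx2⟩
      by_cases hx1 : x = 1
      · exact Or.inr (Or.inl hx1)
      by_cases hxz : x = z
      · exact Or.inr (Or.inr hxz)
      · refine Or.inl ⟨hxQ, ?_, hxz⟩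
        exact orderOf_eq_prime (by rw [pow_two]; exact hx2) hx1
    · rintro (⟨hxQ, hx2, -⟩ | rfl | rfl)
      · refine ⟨hxQ, ?_⟩
        have := pow_orderOf_eq_one x
        rw [hx2, pow_two] at this
        exact this
      · exact ⟨Subgroup.one_mem _, by simp⟩
      · exact ⟨hzQ, hz2⟩
  have hdisj : Disjoint {u : G | u ∈ Qz z ∧ orderOf u = 2 ∧ u ≠ z} ({1, z} : Set G) := by
    rw [Set.disjoint_left]
    rintro x ⟨-, hx2, hxz⟩ hx
    simp only [Set.mem_insert_iff, Set.mem_singleton_iff] at hx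
    rcases hx with rfl | rfl
    · rw [orderOf_one] at hx2; omega
    · exact hxz rfl
  have hcard : ({x : G | x ∈ Qz z ∧ x * x = 1}).ncard = 12 := by
    rw [← h12]; exact (Nat.card_coe_set_eq _).symm
  rw [hS, Set.ncard_union_eq hdisj (Set.toFinite _) (Set.toFinite _),
    Set.ncard_pair (Ne.symm hz1)] at hcard
  have : Nat.card {u : G // u ∈ Qz z ∧ orderOf u = 2 ∧ u ≠ z} =
      ({u : G | u ∈ Qz z ∧ orderOf u = 2 ∧ u ≠ z}).ncard := Nat.card_coe_set_eq _
  rw [this]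
  omega

end Cfsg.Agent.Lib.H27.HJ
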