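import Mathlib
import Cfsg.Agent.Lib.H17.HJDefs
import Cfsg.Agent.Lib.H11.HJSTRUCT
import Cfsg.Agent.Lib.H6.HJFPF5
import Cfsg.Agent.Lib.H27.HJIOTAa

/-!
# S3313 piece IOTA: `Q = O₂(C_G(z))` has 12 solutions of `x² = 1`, i.e. 10 involutions `≠ z`
(on STRUCT by helper11, FPF5 by helper6).
-/

set_option autoImplicit false

namespace Cfsg.Agent.Lib.H27.HJ

open Cfsg Cfsg.Agent.Lib.H17.HJ

variable {G : Type*} [Group G] [Finite G] {z t : G} {K V B : Subgroup G}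

theorem exists_order_five_A5 : ∃ a : alternatingGroup (Fin 5), orderOf a = 5 := by
  have : Fact (Nat.Prime 5) := ⟨by norm_num⟩
  refine ⟨⟨finRotate 5, by rw [Equiv.Perm.mem_alternatingGroup]; decide⟩, ?_⟩
  apply orderOf_eq_prime
  · decide
  · decide

theorem card_sq_Qz (h : Setting z t K V B) :
    Nat.card {x : G // x ∈ Qz z ∧ x * x = 1} = 12 :=
  card_sq_Qz_aux h exists_order_five_A5
    (fun c hc q hq => Cfsg.Agent.Lib.H11.HJ.Qz_normal z c hc q hq)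
    (fun c hc hcQ => Cfsg.Agent.Lib.H11.HJ.cent_Qz_le h c hc hcQ)
    (fun k hk hkz hkQ hkc =>
      Cfsg.Agent.Lib.H6.HJ.card_sq_eq_one_twelve (Cfsg.Agent.Lib.H11.HJ.qdata h) k hk hkz hkQ hkc)

theorem card_invol_Qz (h : Setting z t K V B) :
    Nat.card {u : G // u ∈ Qz z ∧ orderOf u = 2 ∧ u ≠ z} = 10 :=
  card_invol_Qz_aux h (Cfsg.Agent.Lib.H11.HJ.z_mem_Qz h) (card_sq_Qz h)

end Cfsg.Agent.Lib.H27.HJ
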