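import Mathlib
import Cfsg.Agent.Lib.H17.HJDefs
import Cfsg.Agent.Lib.H11.HJSTRUCT
import Cfsg.Agent.Lib.H6.HJNOE8
import Cfsg.Agent.Lib.H17.HJCRIT
import Cfsg.Agent.Lib.H27.HJIOTA
import Cfsg.Agent.Lib.H27.HJAZEQa

/-!
# S3313 piece AZEQ: description of the pairs counted by `a(z)`
(on STRUCT by helper11, NOE8 by helper6, CRIT by helper17, IOTA).
-/

set_option autoImplicit false

namespace Cfsg.Agent.Lib.H27.HJ

open Cfsg Cfsg.Agent.Lib.H17.HJ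

variable {G : Type*} [Group G] [Finite G] {z t : G} {K V B : Subgroup G}

theorem az_iff (h : Setting z t K V B) (p : G × G) :
    (IsConj z p.1 ∧ IsConj t p.2 ∧ z ∈ Subgroup.zpowers (p.1 * p.2)) ↔
      ((p.1 ∈ Qz z ∧ orderOf p.1 = 2 ∧ p.1 ≠ z) ∧
        (p.2 ∈ Subgroup.centralizer ({z} : Set G) ∧ orderOf p.2 = 2 ∧ p.2 ∉ Qz z) ∧
        ¬ (p.1 * p.2 = p.2 * p.1)) :=
  az_iff_aux h (fun c hc q hq => Cfsg.Agent.Lib.H11.HJ.Qz_normal z c hc q hq)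
    (fun u v hu hu2 huz hvz hv2 hvQ hvn =>
      Cfsg.Agent.Lib.H17.HJ.z_mem_zpowers_iff (Cfsg.Agent.Lib.H11.HJ.qdata h)
        (fun u w hu hw hu2 hw2 hu1 huz huw =>
          Cfsg.Agent.Lib.H6.HJ.invol_comm (Cfsg.Agent.Lib.H11.HJ.qdata h) (card_sq_Qz h) u w hu hw
            hu2 hw2 hu1 huz huw)
        u v hu hu2 huz hvz hv2 hvQ hvn) p

end Cfsg.Agent.Lib.H27.HJ
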