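/-
helper27 library (generated by scripts/gen_simple.py): an element of the monomial `M22` whose
number of fixed points on the 100 points does not divide this degree.
-/
import Cfsg.Agent.Lib.H27.FixCount
import Cfsg.Agent.Lib.H27.HSData

set_option autoImplicit false
set_option maxRecDepth 1000000

namespace Cfsg.Agent.Lib.H27.SimpleDataHS

open Cfsg.Agent.Lib.H27.Eng

def wHS : List Gen := [Gen.mono [0, 1, 18, 13, 23, 8, 10, 15, 4, 12, 17, 9, 19, 20, 14, 7, 6, 16, 2, 11, 21, 3, 22, 5] [0, 1, 18, 21, 8, 23, 16, 15, 5, 11, 6, 19, 9, 3, 14, 7, 17, 10, 2, 12, 13, 20, 22, 4] 0]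
theorem wHS_ok : sgOK [wHS] = true := by decide +kernel
theorem wHS_fix : fixOK [wHS] [Co3Data.u0, HSData.w0] = true := by decide +kernel
theorem wHS_cnt0 : chunkCnt HSData.sgH (fixedBy wHS) HSData.bc0 8 = true := by decide +kernel
theorem wHS_cnt : ((forestList HSData.sgH HSData.bchunks).filter (fixedBy wHS)).length = 8 := by
  have h := filter_length_of_cnts HSData.sgH (fixedBy wHS) HSData.bchunks [8]
    (by
      unfold HSData.bchunks
      exact List.Forall₂.cons wHS_cnt0 (List.Forall₂.nil))
  rw [h]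
  decide

end Cfsg.Agent.Lib.H27.SimpleDataHS
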