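/-
helper27 library: the stabilizer of a Higman–Sims pair of the Leech lattice is simple of
order 44352000.
-/
import Mathlib
import Cfsg.Prelude.Def_Sporadic_a
import Cfsg.Agent.Lib.H27.M22Embed
import Cfsg.Agent.Lib.H27.SimpleSub
import Cfsg.Agent.Lib.H27.SimpleDataHS
import Cfsg.Agent.Lib.H27.HSInv

set_option autoImplicit false

namespace Cfsg.Agent.Lib.H27

open Cfsg MulAction Cfsg.Agent.Lib.H28 Cfsg.Agent.Lib.H27.Eng

namespace HSData

open Co3Data SimpleDataHS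

/-- The standard Higman–Sims group. -/
abbrev KH : Subgroup Co0 := stabilizer Co0 U0 ⊓ stabilizer Co0 W0

/-- The suborbits of the point stabilizer on the 100 points. -/
def OHS : Fin 3 → Set leechLattice := ![{X0}, hsSet8 U0 W0 X0, hsSetN U0 W0 X0]

def cHS : Fin 3 → ℕ := ![1, 22, 77]

theorem KH_inv : ∀ g ∈ KH, ∀ y ∈ hsSet U0 W0, g • y ∈ hsSet U0 W0 := by
  intro g hg y hy
  have h1 := Subgroup.mem_inf.1 hg
  have := smul_mem_hsSet g hy
  rwa [mem_stabilizer_iff.1 h1.1, mem_stabilizer_iff.1 h1.2] at this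

theorem KH_tr : ∀ y ∈ hsSet U0 W0, ∃ g ∈ KH, g • X0 = y := by
  intro y hy
  obtain ⟨g, hg1, hg2, hgy⟩ := trans_std X0 X0_mem y hy
  exact ⟨g, Subgroup.mem_inf.2 ⟨hg1, hg2⟩, hgy⟩

theorem dot_X0_X0 : dotInt (X0 : GolayPt → ℤ) (X0 : GolayPt → ℤ) = 32 := by
  rw [dotInt_self, sqNorm_X0]

theorem OHS_cover : hsSet U0 W0 = ⋃ i, OHS i := by
  ext y
  rw [Set.mem_iUnion]
  constructor
  · intro hy
    by_cases h0 : y = X0
    · exact ⟨0, h0⟩
    by_cases h8 : dotInt (X0 : GolayPt → ℤ) (y : GolayPt → ℤ) = 8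
    · exact ⟨1, hy, h8⟩
    · exact ⟨2, hy, h0, h8⟩
  · rintro ⟨i, hi⟩
    fin_cases i
    · have : y = X0 := hi
      rw [this]; exact X0_mem
    · exact hi.1
    · exact hi.1

theorem OHS_disj : ∀ i j, i ≠ j → Disjoint (OHS i) (OHS j) := by
  have h01 : Disjoint (OHS 0) (OHS 1) := by
    rw [Set.disjoint_left]
    intro y h0 h1
    have e : y = X0 := h0
    have h2 : dotInt (X0 : GolayPt → ℤ) (y : GolayPt → ℤ) = 8 := h1.2
    rw [e, dot_X0_X0] at h2
    omega
  have h02 : Disjoint (OHS 0) (OHS 2) := by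
    rw [Set.disjoint_left]
    intro y h0 h2
    exact h2.2.1 h0
  have h12 : Disjoint (OHS 1) (OHS 2) := by
    rw [Set.disjoint_left]
    intro y h1 h2
    exact h2.2.2 h1.2
  intro i j hij
  fin_cases i <;> fin_cases j
  · exact absurd rfl hij
  · exact h01
  · exact h02
  · exact h01.symm
  · exact absurd rfl hij
  · exact h12
  · exact h02.symm
  · exact h12.symm
  · exact absurd rfl hij

theorem OHS_trans : ∀ i, ∀ y ∈ OHS i, ∀ y' ∈ OHS i, ∃ g ∈ KH, g • X0 = X0 ∧ g • y = y' := by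
  intro i y hy y' hy'
  fin_cases i
  · have e : y = X0 := hy
    have e' : y' = X0 := hy'
    exact ⟨1, KH.one_mem, one_smul _ _, by rw [e, e', one_smul]⟩
  · obtain ⟨g, h1, h2, h3, h4⟩ := trans8 y hy y' hy'
    exact ⟨g, Subgroup.mem_inf.2 ⟨h1, h2⟩, h3, h4⟩
  · obtain ⟨g, h1, h2, h3, h4⟩ := transN y hy y' hy'
    exact ⟨g, Subgroup.mem_inf.2 ⟨h1, h2⟩, h3, h4⟩

theorem OHS_card : ∀ i, (OHS i).ncard = cHS i := by
  intro i
  fin_cases i
  · exact Set.ncard_singleton X0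
  · exact counts.1
  · exact counts.2

theorem wHS_all_ok : wHS.all Gen.ok = true := ok_of_sgOK wHS_ok (by simp)

theorem wHS_mem : wordCo0 wHS ∈ KH := by
  have h := fixes_of_fixOK wHS_ok wHS_fix (w := wHS) (by simp)
  rw [fixesH_iff] at h
  exact Subgroup.mem_inf.2 ⟨h.1, h.2⟩

theorem wHS_count : {z | z ∈ hsSet U0 W0 ∧ wordCo0 wHS • z = z}.ncard = 8 := by
  have h := orbListB.1.ncard_fixed (hsSet U0 W0)
    (by rw [mkL_of_mem (mem_of_inLeech x0_mem)]; exact X0_mem)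
    (by
      intro g hg x hx
      rw [fixesH_iff] at hg
      have := smul_mem_hsSet g hx
      rwa [hg.1, hg.2] at this)
    (by rw [orbListB.2]; norm_num)
    (by rw [orbListB.2]; exact ncard_std) wHS wHS_all_ok
  rw [h, wHS_cnt]

/-- The standard Higman–Sims group is simple. -/
theorem isSimpleGroup_KH : IsSimpleGroup ↥KH :=
  isSimpleGroup_sub KH X0 (hsSet U0 W0) X0_mem KH_inv KH_tr OHS cHS 0 rfl OHS_cover OHS_disj
    OHS_trans OHS_card isSimpleGroup_K3 (by decide) ⟨1, by decide⟩ 100 ncard_std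
    (wordCo0 wHS) wHS_mem 8 wHS_count (by norm_num) (by norm_num)

end HSData

open HSData Co3Data

/-- The stabilizer of a Higman–Sims pair is simple of order 44352000. -/
theorem isHS_stab (v w : leechLattice) (hv : sqNorm (v : GolayPt → ℤ) = 48)
    (hw : sqNorm (w : GolayPt → ℤ) = 48)
    (hvw : dotInt (v : GolayPt → ℤ) (w : GolayPt → ℤ) = -32) :
    IsSimpleGroup ↥(stabilizer Co0 v ⊓ stabilizer Co0 w) ∧
      Nat.card ↥(stabilizer Co0 v ⊓ stabilizer Co0 w) = 44352000 := by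
  refine ⟨?_, card_stabHS v w hv hw hvw⟩
  obtain ⟨h, h1, h2⟩ := exists_std_pair48 v w hv hw hvw
  have e := conjStabEquiv₂ h v w
  rw [h1, h2] at e
  have := isSimpleGroup_KH
  exact e.isSimpleGroup

end Cfsg.Agent.Lib.H27
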