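import Mathlib

/-!
# Lattices of overgroups of a subgroup `U` of a finite group `G`, from kernel-checked word
certificates

Elements of `G` are given by natural-number codes (`ev`), and equality of products of coded
elements is decided by a signature `sigOf` which is injective on `G` and which can be computed
for products by a kernel-friendly function `actS`.  The certificates consist of
* an enumeration of `G` by double cosets `U r U` (closed under right multiplication by the
  generators of `G`),
* for every double coset representative `r` a two-generator group `⟨U, a⟩` of the lattice with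
  `⟨U, r⟩ = ⟨U, a⟩`,
* a join table for the groups of the lattice.
-/

set_option autoImplicit false

namespace Cfsg.Agent.Lib.H27.LatW

/-! ## computational definitions -/

/-- `f i` for all `i < n` -/
def allLt (n : Nat) (f : Nat → Bool) : Bool :=
  Nat.rec (motive := fun _ => Bool) true (fun i ih => f i && ih) n

theorem allLt_spec {n : Nat} {f : Nat → Bool} (h : allLt n f = true) : ∀ i < n, f i = true := by
  induction n with
  | zero => intro i hi; omega
  | succ n ih =>
    have h' : (f n && allLt n f) = true := h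
    rw [Bool.and_eq_true] at h'
    intro i hi
    rcases Nat.lt_succ_iff_lt_or_eq.mp hi with h1 | h1
    · exact ih h'.2 i h1
    · rw [h1]; exact h'.1

/-- letters of a structured word `sw` (base 16, a digit `0` ends the word, the most significant
digit is the leftmost factor, the digit `d + 1` stands for `A[d]`), prepended to `acc` -/
def expand (A : List Nat) (fuel : Nat) : Nat → List Nat → List Nat :=
  Nat.rec (motive := fun _ => Nat → List Nat → List Nat) (fun _ acc => acc)
    (fun _ ih sw acc => Nat.rec (motive := fun _ => List Nat) acc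
      (fun d _ => ih (Nat.div sw 16) (A.getD d 0 :: acc)) (Nat.mod sw 16)) fuel

/-- signature of a product of coded elements -/
def sigL (actS : Nat → Nat → Nat) (s1 : Nat) (l : List Nat) : Nat :=
  List.rec (motive := fun _ => Nat) s1 (fun w _ ih => actS w ih) l

/-- data of a lattice of overgroups of `U` -/
structure LatD where
  /-- generators of `U` -/
  ugens : List Nat
  /-- elements of `U` (at least one from every coset needed on the right) -/
  ulist : List Nat
  /-- number of double coset representatives -/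
  nreps : Nat
  /-- the double coset representatives -/
  rep : Nat → Nat
  /-- the generators (other than those of `U`) of the groups of the lattice -/
  gens : List (List Nat)
  /-- generators of the big group -/
  gg : List Nat

/-- check of one step of the enumeration: `r_ρ u_k g = v₁ r_ρ' u_k'` -/
def chkE1 (actS : Nat → Nat → Nat) (s1 : Nat) (L : LatD) (ρ k g h : Nat) : Bool :=
  (fun k' ρ' v1 =>
    Nat.blt ρ' L.nreps && (Nat.blt k' L.ulist.length &&
      Nat.beq (sigL actS s1 [L.rep ρ, L.ulist.getD k 0, g])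
        (sigL actS s1 (expand L.ugens 16 v1 [L.rep ρ', L.ulist.getD k' 0]))))
    (Nat.mod h 256) (Nat.mod (Nat.div h 256) 16777216) (Nat.div h 4294967296)

/-- check of the enumeration for the representatives `lo ≤ ρ < lo + cnt` -/
def chkE (actS : Nat → Nat → Nat) (s1 : Nat) (L : LatD) (hE : Nat → Nat → Nat → Nat)
    (lo cnt : Nat) : Bool :=
  allLt cnt fun i => allLt L.ulist.length fun k => allLt L.gg.length fun gi =>
    chkE1 actS s1 L (Nat.add lo i) k (L.gg.getD gi 0) (hE (Nat.add lo i) k gi)

/-- check for one representative: the hint contains the index `t` of a two-generator group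
`⟨U, a⟩`, a word for `a` in `U, r` and a word for `r` in `U, a` -/
def chkA1 (actS : Nat → Nat → Nat) (s1 : Nat) (L : LatD) (ρ h : Nat) : Bool :=
  (fun t w1 w2 =>
    List.rec (motive := fun _ => Bool) false
      (fun a tl _ => List.rec (motive := fun _ => Bool)
        (Nat.beq (sigL actS s1 (expand (L.ugens ++ [L.rep ρ]) 24 w1 [])) (sigL actS s1 [a]) &&
          Nat.beq (sigL actS s1 (expand (L.ugens ++ [a]) 24 w2 [])) (sigL actS s1 [L.rep ρ]))
        (fun _ _ _ => false) tl)
      (L.gens.getD t []))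
    (Nat.mod h 256) (Nat.mod (Nat.div h 256) 1208925819614629174706176)
    (Nat.div h 309485009821345068724781056)

def chkA (actS : Nat → Nat → Nat) (s1 : Nat) (L : LatD) (hA : Nat → Nat) (lo cnt : Nat) : Bool :=
  allLt cnt fun i => chkA1 actS s1 L (Nat.add lo i) (hA (Nat.add lo i))

/-- check of one entry `(j, ws, w0)` of the join table at `(i, t)` -/
def chkJ (actS : Nat → Nat → Nat) (s1 : Nat) (L : LatD) (i t : Nat) (e : Nat × List Nat × Nat) :
    Bool :=
  List.rec (motive := fun _ => Bool) true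
    (fun a tl _ => List.rec (motive := fun _ => Bool)
      (Nat.ble i e.1 && Nat.blt e.1 L.gens.length &&
        (Nat.beq (e.2.1.length) ((L.gens.getD e.1 []).length) &&
        (List.zipWith (fun w g => Nat.beq
            (sigL actS s1 (expand (L.ugens ++ L.gens.getD i [] ++ [a]) 24 w []))
            (sigL actS s1 [g]))
          e.2.1 (L.gens.getD e.1 [])).all id &&
        (bif Nat.beq e.1 i then
          Nat.beq (sigL actS s1 (expand (L.ugens ++ L.gens.getD i []) 24 e.2.2 []))
            (sigL actS s1 [a])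
          else true)))
      (fun _ _ _ => true) tl)
    (L.gens.getD t [])

/-- check of the whole join table -/
def chkJT (actS : Nat → Nat → Nat) (s1 : Nat) (L : LatD) (tab : List (Nat × List Nat × Nat)) :
    Bool :=
  (List.range L.gens.length).all fun i => (List.range L.gens.length).all fun t =>
    chkJ actS s1 L i t (tab.getD (i * L.gens.length + t) (0, [], 0))

/-! ## semantics -/

/-- the semantic context: a finite group `Γ`, a subgroup `G`, coded elements of `G`, and a signature
which is injective on `G` -/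
structure Ctx (Γ : Type*) [Group Γ] where
  G : Subgroup Γ
  ev : Nat → Γ
  sigOf : Γ → Nat
  actS : Nat → Nat → Nat
  ev_zero : ev 0 = 1
  ev_mem : ∀ w, ev w ∈ G
  sig_inj : ∀ y ∈ G, ∀ y' ∈ G, sigOf y = sigOf y' → y = y'
  sig_act : ∀ w y, sigOf (ev w * y) = actS w (sigOf y)

variable {Γ : Type*} [Group Γ]

/-- the product of a list of coded elements -/
def Ctx.prodL (C : Ctx Γ) (l : List Nat) : Γ := (l.map C.ev).prod

theorem Ctx.prodL_nil (C : Ctx Γ) : C.prodL [] = 1 := rfl

theorem Ctx.prodL_cons (C : Ctx Γ) (w : Nat) (l : List Nat) :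
    C.prodL (w :: l) = C.ev w * C.prodL l := by
  simp [Ctx.prodL]

theorem Ctx.prodL_append (C : Ctx Γ) (l l' : List Nat) :
    C.prodL (l ++ l') = C.prodL l * C.prodL l' := by
  simp [Ctx.prodL]

theorem Ctx.prodL_mem (C : Ctx Γ) {K : Subgroup Γ} {l : List Nat} (h : ∀ w ∈ l, C.ev w ∈ K) :
    C.prodL l ∈ K := by
  induction l with
  | nil => exact K.one_mem
  | cons w l ih =>
    rw [C.prodL_cons]
    exact K.mul_mem (h w (by simp)) (ih fun w' hw' => h w' (by simp [hw']))

theorem Ctx.prodL_mem_G (C : Ctx Γ) (l : List Nat) : C.prodL l ∈ C.G :=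
  C.prodL_mem fun w _ => C.ev_mem w

theorem Ctx.sigL_eq (C : Ctx Γ) (l : List Nat) :
    sigL C.actS (C.sigOf 1) l = C.sigOf (C.prodL l) := by
  induction l with
  | nil => rfl
  | cons w l ih =>
    rw [C.prodL_cons, C.sig_act, ← ih]
    rfl

theorem Ctx.prod_eq_of_sig (C : Ctx Γ) {l l' : List Nat}
    (h : sigL C.actS (C.sigOf 1) l = sigL C.actS (C.sigOf 1) l') : C.prodL l = C.prodL l' := by
  rw [C.sigL_eq, C.sigL_eq] at h
  exact C.sig_inj _ (C.prodL_mem_G l) _ (C.prodL_mem_G l') h

/-- the elements of an expansion come from the alphabet, the accumulator, or are `0` -/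
theorem mem_expand {A : List Nat} (fuel : Nat) : ∀ (sw : Nat) (acc : List Nat) (w : Nat),
    w ∈ expand A fuel sw acc → w ∈ A ∨ w = 0 ∨ w ∈ acc := by
  induction fuel with
  | zero => intro sw acc w hw; exact Or.inr (Or.inr hw)
  | succ f ih =>
    intro sw acc w hw
    have hstep : expand A (f + 1) sw acc = Nat.rec (motive := fun _ => List Nat) acc
      (fun d _ => expand A f (Nat.div sw 16) (A.getD d 0 :: acc)) (Nat.mod sw 16) := rfl
    rw [hstep] at hw
    rcases hm : Nat.mod sw 16 with _ | d
    · rw [hm] at hw; exact Or.inr (Or.inr hw)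
    · rw [hm] at hw
      rcases ih _ _ w hw with h | h | h
      · exact Or.inl h
      · exact Or.inr (Or.inl h)
      · rcases List.mem_cons.mp h with h | h
        · rw [h, List.getD_eq_getElem?_getD]
          rcases hh : A[d]? with _ | a
          · simp
          · simp only [Option.getD_some]
            exact Or.inl (List.mem_of_getElem? hh)
        · exact Or.inr (Or.inr h)

/-- membership of an expanded word in a subgroup -/
theorem Ctx.expand_mem (C : Ctx Γ) {K : Subgroup Γ} {A acc : List Nat}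
    (hA : ∀ w ∈ A, C.ev w ∈ K) (hacc : ∀ w ∈ acc, C.ev w ∈ K) (fuel sw : Nat) :
    C.prodL (expand A fuel sw acc) ∈ K := by
  apply C.prodL_mem
  intro w hw
  rcases mem_expand fuel sw acc w hw with h | h | h
  · exact hA w h
  · rw [h, C.ev_zero]; exact K.one_mem
  · exact hacc w h

/-- `expand` with an accumulator -/
theorem expand_acc {A : List Nat} (fuel : Nat) : ∀ (sw : Nat) (acc : List Nat),
    expand A fuel sw acc = expand A fuel sw [] ++ acc := by
  induction fuel with
  | zero => intro sw acc; rfl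
  | succ f ih =>
    intro sw acc
    have hstep : ∀ acc', expand A (f + 1) sw acc' = Nat.rec (motive := fun _ => List Nat) acc'
      (fun d _ => expand A f (Nat.div sw 16) (A.getD d 0 :: acc')) (Nat.mod sw 16) := fun _ => rfl
    rw [hstep, hstep]
    rcases Nat.mod sw 16 with _ | d
    · rfl
    · show expand A f (Nat.div sw 16) (A.getD d 0 :: acc) =
        expand A f (Nat.div sw 16) [A.getD d 0] ++ acc
      rw [ih _ (A.getD d 0 :: acc), ih _ [A.getD d 0]]
      simp

/-! ## the groups of the lattice -/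

/-- the subgroup `U` -/
def LatD.U (L : LatD) (C : Ctx Γ) : Subgroup Γ :=
  Subgroup.closure {σ | ∃ g ∈ L.ugens, σ = C.ev g}

/-- the `i`-th group of the lattice -/
def LatD.K (L : LatD) (C : Ctx Γ) (i : Nat) : Subgroup Γ :=
  Subgroup.closure ({σ | ∃ g ∈ L.ugens, σ = C.ev g} ∪ {σ | ∃ g ∈ L.gens.getD i [], σ = C.ev g})

theorem LatD.U_le_K (L : LatD) (C : Ctx Γ) (i : Nat) : L.U C ≤ L.K C i :=
  Subgroup.closure_mono Set.subset_union_left

theorem LatD.ugen_mem_U (L : LatD) (C : Ctx Γ) {g : Nat} (hg : g ∈ L.ugens) : C.ev g ∈ L.U C :=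
  Subgroup.subset_closure ⟨g, hg, rfl⟩

theorem LatD.gen_mem_K (L : LatD) (C : Ctx Γ) (i : Nat) {g : Nat} (hg : g ∈ L.gens.getD i []) :
    C.ev g ∈ L.K C i :=
  Subgroup.subset_closure (Or.inr ⟨g, hg, rfl⟩)

theorem LatD.K_le (L : LatD) (C : Ctx Γ) (i : Nat) {K : Subgroup Γ} (hU : L.U C ≤ K)
    (hg : ∀ g ∈ L.gens.getD i [], C.ev g ∈ K) : L.K C i ≤ K := by
  unfold LatD.K
  rw [Subgroup.closure_le]
  rintro σ (⟨g, hg', rfl⟩ | ⟨g, hg', rfl⟩)
  · exact hU (L.ugen_mem_U C hg')
  · exact hg g hg'

theorem mem_gens_of_getD {L : LatD} {i : Nat} {l : List Nat} (h : L.gens.getD i [] = l)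
    (hl : l ≠ []) : i < L.gens.length := by
  rw [List.getD_eq_getElem?_getD] at h
  rcases hh : L.gens[i]? with _ | l'
  · rw [hh] at h; simp at h; exact absurd h.symm (fun h' => hl h'.symm)
  · exact (List.getElem?_eq_some_iff.mp hh).1

/-- the hypotheses on a lattice -/
structure LatD.OK (L : LatD) (C : Ctx Γ) : Prop where
  enum : ∃ hE, chkE C.actS (C.sigOf 1) L hE 0 L.nreps = true
  alpha : ∃ hA, chkA C.actS (C.sigOf 1) L hA 0 L.nreps = true
  joins : ∃ tab, chkJT C.actS (C.sigOf 1) L tab = true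
  zero : L.gens.getD 0 [] = [0]
  rep0 : L.rep 0 = 0
  u0 : L.ulist.getD 0 1 = 0
  npos : 0 < L.nreps
  usub : ∀ u ∈ L.ulist, C.ev u ∈ L.U C
  gen : C.G ≤ Subgroup.closure {σ | ∃ g ∈ L.gg, σ = C.ev g}

/-- the double coset decomposition -/
def LatD.D (L : LatD) (C : Ctx Γ) (y : Γ) : Prop :=
  ∃ u1 ∈ L.U C, ∃ ρ < L.nreps, ∃ k < L.ulist.length,
    y = u1 * C.ev (L.rep ρ) * C.ev (L.ulist.getD k 0)

theorem getD_mem_of_lt {l : List Nat} {k d : Nat} (hk : k < l.length) : l.getD k d ∈ l := by
  rw [List.getD_eq_getElem?_getD, List.getElem?_eq_getElem hk]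
  simp

theorem LatD.OK.ulen {L : LatD} {C : Ctx Γ} (h : L.OK C) : 0 < L.ulist.length := by
  by_contra hlen
  have h0 : L.ulist.length = 0 := by omega
  rw [List.length_eq_zero_iff] at h0
  have := h.u0
  rw [h0] at this
  simp at this

theorem LatD.OK.D_one {L : LatD} {C : Ctx Γ} (h : L.OK C) : L.D C 1 := by
  refine ⟨1, (L.U C).one_mem, 0, h.npos, 0, h.ulen, ?_⟩
  have hu : L.ulist.getD 0 0 = 0 := by
    have h1 := getD_mem_of_lt (d := 0) h.ulen
    have h2 := getD_mem_of_lt (d := 1) h.ulen
    rw [List.getD_eq_getElem?_getD, List.getElem?_eq_getElem h.ulen] at h1 h2 ⊢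
    have := h.u0
    rw [List.getD_eq_getElem?_getD, List.getElem?_eq_getElem h.ulen] at this
    simpa using this
  rw [h.rep0, hu, C.ev_zero]
  simp

theorem LatD.OK.D_step {L : LatD} {C : Ctx Γ} (h : L.OK C) {y : Γ} (hy : L.D C y) {g : Nat}
    (hg : g ∈ L.gg) : L.D C (y * C.ev g) := by
  obtain ⟨u1, hu1, ρ, hρ, k, hk, rfl⟩ := hy
  obtain ⟨hE, hchk⟩ := h.enum
  obtain ⟨gi, hgi, rfl⟩ := List.getElem_of_mem hg
  have h1 := allLt_spec hchk ρ hρ
  have h2 := allLt_spec h1 k hk
  have h3 := allLt_spec h2 gi hgi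
  have hadd : Nat.add 0 ρ = ρ := Nat.zero_add ρ
  rw [hadd] at h3
  have hget : L.gg.getD gi 0 = L.gg[gi] := by
    rw [List.getD_eq_getElem?_getD, List.getElem?_eq_getElem hgi]; rfl
  rw [hget] at h3
  unfold chkE1 at h3
  simp only [Bool.and_eq_true] at h3
  obtain ⟨hρ', hk', hs⟩ := h3
  have hρ' := Nat.le_of_ble_eq_true hρ'
  have hk' := Nat.le_of_ble_eq_true hk'
  have hs := Nat.eq_of_beq_eq_true hs
  have hp := C.prod_eq_of_sig hs
  rw [expand_acc, C.prodL_append] at hp
  simp only [C.prodL_cons, C.prodL_nil, mul_one] at hp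
  refine ⟨u1 * C.prodL (expand L.ugens 16 (Nat.div (hE ρ k gi) 4294967296) []),
    (L.U C).mul_mem hu1 (C.expand_mem (fun w hw => L.ugen_mem_U C hw) (by simp) _ _),
    _, hρ', _, hk', ?_⟩
  calc u1 * C.ev (L.rep ρ) * C.ev (L.ulist.getD k 0) * C.ev L.gg[gi]
      = u1 * (C.ev (L.rep ρ) * (C.ev (L.ulist.getD k 0) * C.ev L.gg[gi])) := by group
    _ = u1 * (C.prodL (expand L.ugens 16 (Nat.div (hE ρ k gi) 4294967296) []) *
          (C.ev (L.rep (Nat.mod (Nat.div (hE ρ k gi) 256) 16777216)) *
            C.ev (L.ulist.getD (Nat.mod (hE ρ k gi) 256) 0))) := by rw [hp]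
    _ = _ := by group

/-- every element of `G` lies in a double coset of the list -/
theorem LatD.OK.D_all [Finite Γ] {L : LatD} {C : Ctx Γ} (h : L.OK C) {y : Γ} (hy : y ∈ C.G) :
    L.D C y := by
  have hy' := h.gen hy
  rw [← Subgroup.mem_toSubmonoid, Subgroup.closure_toSubmonoid_of_finite] at hy'
  refine Submonoid.closure_induction_right (motive := fun x _ => L.D C x) h.D_one ?_ hy'
  intro x _ z hz ih
  obtain ⟨g, hg, rfl⟩ := hz
  exact h.D_step ih hg

/-- every `y ∈ G`: there is a two-generator group `⟨U, a⟩` of the lattice with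
`a ∈ ⟨U, y⟩` and `y ∈ ⟨U, a⟩` -/
theorem LatD.OK.alpha' [Finite Γ] {L : LatD} {C : Ctx Γ} (h : L.OK C) {y : Γ} (hy : y ∈ C.G) :
    ∃ t a, L.gens.getD t [] = [a] ∧
      (∀ K : Subgroup Γ, L.U C ≤ K → y ∈ K → C.ev a ∈ K) ∧
      (∀ K : Subgroup Γ, L.U C ≤ K → C.ev a ∈ K → y ∈ K) := by
  obtain ⟨u1, hu1, ρ, hρ, k, hk, rfl⟩ := h.D_all hy
  obtain ⟨hA, hchk⟩ := h.alpha
  have h1 := allLt_spec hchk ρ hρ
  have hadd : Nat.add 0 ρ = ρ := Nat.zero_add ρ
  rw [hadd] at h1
  unfold chkA1 at h1
  beta_reduce at h1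
  have hu2 : C.ev (L.ulist.getD k 0) ∈ L.U C := h.usub _ (getD_mem_of_lt hk)
  rcases hl : L.gens.getD (Nat.mod (hA ρ) 256) [] with _ | ⟨a, tl⟩
  · rw [hl] at h1; exact absurd h1 (by simp)
  · rw [hl] at h1
    rcases tl with _ | ⟨b, tl⟩
    · simp only [Bool.and_eq_true] at h1
      obtain ⟨hs1, hs2⟩ := h1
      have hp1 := C.prod_eq_of_sig (Nat.eq_of_beq_eq_true hs1)
      have hp2 := C.prod_eq_of_sig (Nat.eq_of_beq_eq_true hs2)
      simp only [C.prodL_cons, C.prodL_nil, mul_one] at hp1 hp2
      refine ⟨_, a, hl, ?_, ?_⟩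
      · intro K hUK hyK
        have hr : C.ev (L.rep ρ) ∈ K := by
          have : C.ev (L.rep ρ) = u1⁻¹ * (u1 * C.ev (L.rep ρ) * C.ev (L.ulist.getD k 0)) *
              (C.ev (L.ulist.getD k 0))⁻¹ := by group
          rw [this]
          exact K.mul_mem (K.mul_mem (K.inv_mem (hUK hu1)) hyK) (K.inv_mem (hUK hu2))
        rw [← hp1]
        apply C.expand_mem _ (by simp)
        intro w hw
        rcases List.mem_append.mp hw with hw | hw
        · exact hUK (L.ugen_mem_U C hw)
        · rw [List.mem_singleton] at hw; rw [hw]; exact hr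
      · intro K hUK haK
        have hr : C.ev (L.rep ρ) ∈ K := by
          rw [← hp2]
          apply C.expand_mem _ (by simp)
          intro w hw
          rcases List.mem_append.mp hw with hw | hw
          · exact hUK (L.ugen_mem_U C hw)
          · rw [List.mem_singleton] at hw; rw [hw]; exact haK
        exact K.mul_mem (K.mul_mem (hUK hu1) hr) (hUK hu2)
    · exact absurd h1 (by simp)

/-- soundness of one entry of the join table -/
theorem chkJ_sound {L : LatD} {C : Ctx Γ} {i t a : Nat} (ht : L.gens.getD t [] = [a])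
    {e : Nat × List Nat × Nat} (h : chkJ C.actS (C.sigOf 1) L i t e = true) :
    i ≤ e.1 ∧ e.1 < L.gens.length ∧
      (∀ K : Subgroup Γ, L.U C ≤ K → (∀ g ∈ L.gens.getD i [], C.ev g ∈ K) → C.ev a ∈ K →
        ∀ g ∈ L.gens.getD e.1 [], C.ev g ∈ K) ∧
      (e.1 = i → C.ev a ∈ L.K C i) := by
  unfold chkJ at h
  rw [ht] at h
  simp only [Bool.and_eq_true, List.all_eq_true] at h
  obtain ⟨⟨h1, h2⟩, ⟨h3, h4⟩, h5⟩ := h
  have h1 : i ≤ e.1 := Nat.le_of_ble_eq_true h1
  have h2 : e.1 < L.gens.length := Nat.le_of_ble_eq_true h2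
  have h3 : e.2.1.length = (L.gens.getD e.1 []).length := Nat.eq_of_beq_eq_true h3
  refine ⟨h1, h2, ?_, ?_⟩
  · intro K hUK hgi haK g hg
    obtain ⟨k, hk, rfl⟩ := List.getElem_of_mem hg
    have hk' : k < e.2.1.length := by rw [h3]; exact hk
    have hz : k < (List.zipWith (fun w g => Nat.beq
        (sigL C.actS (C.sigOf 1) (expand (L.ugens ++ L.gens.getD i [] ++ [a]) 24 w []))
        (sigL C.actS (C.sigOf 1) [g])) e.2.1 (L.gens.getD e.1 [])).length := by
      rw [List.length_zipWith]; omega
    have := h4 _ (List.getElem_mem hz)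
    rw [List.getElem_zipWith] at this
    have hp := C.prod_eq_of_sig (Nat.eq_of_beq_eq_true this)
    simp only [C.prodL_cons, C.prodL_nil, mul_one] at hp
    rw [← hp]
    apply C.expand_mem _ (by simp)
    intro w hw
    rcases List.mem_append.mp hw with hw | hw
    · rcases List.mem_append.mp hw with hw | hw
      · exact hUK (L.ugen_mem_U C hw)
      · exact hgi w hw
    · rw [List.mem_singleton] at hw; rw [hw]; exact haK
  · intro hji
    have hb : Nat.beq e.1 i = true := by rw [hji]; exact Nat.beq_refl i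
    rw [hb] at h5
    simp only [cond_true] at h5
    have hp := C.prod_eq_of_sig (Nat.eq_of_beq_eq_true h5)
    simp only [C.prodL_cons, C.prodL_nil, mul_one] at hp
    rw [← hp]
    apply C.expand_mem _ (by simp)
    intro w hw
    rcases List.mem_append.mp hw with hw | hw
    · exact L.U_le_K C i (L.ugen_mem_U C hw)
    · exact L.gen_mem_K C i hw

theorem chkJT_spec {actS : Nat → Nat → Nat} {s1 : Nat} {L : LatD}
    {tab : List (Nat × List Nat × Nat)} (h : chkJT actS s1 L tab = true)
    {i t : Nat} (hi : i < L.gens.length) (ht : t < L.gens.length) :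
    chkJ actS s1 L i t (tab.getD (i * L.gens.length + t) (0, [], 0)) = true := by
  unfold chkJT at h
  simp only [List.all_eq_true, List.mem_range] at h
  exact h i hi t ht

theorem LatD.OK.step [Finite Γ] {L : LatD} {C : Ctx Γ} (h : L.OK C) {K : Subgroup Γ}
    (hK : K ≤ C.G) (hU : L.U C ≤ K) {i : Nat} (hi : i < L.gens.length)
    (hKi : L.K C i ≤ K) {y : Γ} (hy : y ∈ K) (hyi : y ∉ L.K C i) :
    ∃ j, i < j ∧ j < L.gens.length ∧ L.K C j ≤ K := by
  obtain ⟨t, a, hta, ha, hya⟩ := h.alpha' (hK hy)
  have htlt : t < L.gens.length := mem_gens_of_getD hta (by simp)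
  obtain ⟨tab, htab⟩ := h.joins
  have hJ := chkJT_spec htab hi htlt
  obtain ⟨h1, h2, h3, h4⟩ := chkJ_sound (C := C) hta hJ
  have haK : C.ev a ∈ K := ha K hU hy
  refine ⟨_, ?_, h2, L.K_le C _ hU (h3 K hU (fun g hg => hKi (L.gen_mem_K C i hg)) haK)⟩
  rcases Nat.lt_or_ge i (tab.getD (i * L.gens.length + t) (0, [], 0)).1 with hlt | hge
  · exact hlt
  · exfalso
    apply hyi
    exact hya _ (L.U_le_K C i) (h4 (le_antisymm hge h1))

/-- **the lattice theorem** -/
theorem LatD.OK.main [Finite Γ] {L : LatD} {C : Ctx Γ} (h : L.OK C) {K : Subgroup Γ}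
    (hK : K ≤ C.G) (hU : L.U C ≤ K) : ∃ i < L.gens.length, K = L.K C i := by
  have key : ∀ d i, L.gens.length - i = d → i < L.gens.length → L.K C i ≤ K →
      ∃ i' < L.gens.length, K = L.K C i' := by
    intro d
    induction d using Nat.strong_induction_on with
    | _ d ih =>
      intro i hd hi hKi
      by_cases hle : K ≤ L.K C i
      · exact ⟨i, hi, le_antisymm hle hKi⟩
      · obtain ⟨y, hy, hyi⟩ := SetLike.not_le_iff_exists.mp hle
        obtain ⟨j, hij, hj, hKj⟩ := h.step hK hU hi hKi hy hyi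
        exact ih (L.gens.length - j) (by omega) j rfl hj hKj
  have h0 : 0 < L.gens.length := mem_gens_of_getD h.zero (by simp)
  refine key _ 0 rfl h0 (L.K_le C 0 hU ?_)
  intro g hg
  rw [h.zero, List.mem_singleton] at hg
  subst hg
  rw [C.ev_zero]
  exact K.one_mem

end Cfsg.Agent.Lib.H27.LatW
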