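/-
helper27 library: abstract rigidity arguments for automorphism groups, second part.  Conjugacy of elements of
prime order `p` when `p ^ 2` does not divide the order (Sylow), a Frobenius subgroup `⟨s⟩ ⋊ ⟨d⟩`, a third
generator normalizing `⟨d⟩`; every automorphism is inner, or the inner ones have index two.
-/
import Mathlib
import Cfsg.Agent.Lib.H27.AutRigid

set_option autoImplicit false

namespace Cfsg.Agent.Lib.H27

namespace AutRigid

variable {G : Type*} [Group G]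

/-- Two elements of prime order `p` of a finite group whose order is not divisible by `p ^ 2`: one is conjugate
to a power of the other. -/
theorem conj_mem_zpowers_of_sylow [Finite G] {p : ℕ} (hp : p.Prime) (hcard : ¬ p ^ 2 ∣ Nat.card G)
    {x s : G} (hx : orderOf x = p) (hs : orderOf s = p) : ∃ g : G, g * x * g⁻¹ ∈ Subgroup.zpowers s := by
  haveI : Fact p.Prime := ⟨hp⟩
  have hPx : IsPGroup p (Subgroup.zpowers x) :=
    IsPGroup.of_card (n := 1) (by rw [Nat.card_zpowers, hx, pow_one])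
  have hPs : IsPGroup p (Subgroup.zpowers s) :=
    IsPGroup.of_card (n := 1) (by rw [Nat.card_zpowers, hs, pow_one])
  obtain ⟨Qx, hQx⟩ := hPx.exists_le_sylow
  obtain ⟨Qs, hQs⟩ := hPs.exists_le_sylow
  have hdvd : p ∣ Nat.card G := by rw [← hx]; exact orderOf_dvd_natCard x
  have hfac : (Nat.card G).factorization p = 1 := by
    have hpos : Nat.card G ≠ 0 := Nat.card_pos.ne'
    apply le_antisymm
    · by_contra hcon
      push Not at hcon
      exact hcard ((hp.pow_dvd_iff_le_factorization hpos).2 hcon)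
    · exact (hp.dvd_iff_one_le_factorization hpos).1 hdvd
  have hcardQ : ∀ Q : Sylow p G, Nat.card Q = p := by
    intro Q
    rw [Sylow.card_eq_multiplicity, hfac, pow_one]
  have hx' : Subgroup.zpowers x = Qx :=
    Subgroup.eq_of_le_of_card_ge hQx (by rw [hcardQ, Nat.card_zpowers, hx])
  have hs' : Subgroup.zpowers s = Qs :=
    Subgroup.eq_of_le_of_card_ge hQs (by rw [hcardQ, Nat.card_zpowers, hs])
  obtain ⟨g, hg⟩ := MulAction.exists_smul_eq G Qx Qs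
  refine ⟨g, ?_⟩
  rw [hs', ← hg, Sylow.coe_subgroup_smul, Subgroup.mem_smul_pointwise_iff_exists]
  refine ⟨x, ?_, ?_⟩
  · rw [← hx']
    exact Subgroup.mem_zpowers x
  · rw [MulAut.smul_def, MulAut.conj_apply]

/-- Conjugation by a power of `d`, where `d s d⁻¹ = s ^ a`. -/
theorem conj_pow_of_conj {s d : G} {a : ℕ} (hds : d * s * d⁻¹ = s ^ a) (m i : ℕ) :
    d ^ m * s ^ i * (d ^ m)⁻¹ = s ^ (i * a ^ m) := by
  induction m generalizing i with
  | zero => simp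
  | succ m ih =>
    have h1 : d ^ (m + 1) * s ^ i * (d ^ (m + 1))⁻¹ = d * (d ^ m * s ^ i * (d ^ m)⁻¹) * d⁻¹ := by
      rw [pow_succ']
      group
    rw [h1, ih, ← conj_pow, hds, ← pow_mul]
    congr 1
    ring

/-- In a Frobenius-like situation, a nontrivial power of `s` is conjugate to `s` or to `s⁻¹`. -/
theorem conj_pm_of_mem_zpowers {s d : G} {p a : ℕ} (hp : 1 < p) (hs : orderOf s = p)
    (hds : d * s * d⁻¹ = s ^ a)
    (hpow : ∀ i < p, i ≠ 0 → ∃ m, (i * a ^ m) % p = 1 ∨ (i * a ^ m) % p = p - 1)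
    {y : G} (hy : y ∈ Subgroup.zpowers s) (hy1 : y ≠ 1) :
    ∃ k : G, k * y * k⁻¹ = s ∨ k * y * k⁻¹ = s⁻¹ := by
  classical
  have hfo : IsOfFinOrder s := orderOf_pos_iff.1 (by rw [hs]; omega)
  rw [hfo.mem_zpowers_iff_mem_range_orderOf, hs, Finset.mem_image] at hy
  obtain ⟨i, hi, rfl⟩ := hy
  rw [Finset.mem_range] at hi
  have hi0 : i ≠ 0 := by
    rintro rfl
    exact hy1 (pow_zero s)
  obtain ⟨m, hm⟩ := hpow i hi hi0
  refine ⟨d ^ m, ?_⟩
  rw [conj_pow_of_conj hds, ← pow_mod_orderOf, hs]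
  rcases hm with hm | hm
  · left
    rw [hm, pow_one]
  · right
    rw [hm, eq_inv_iff_mul_eq_one, ← pow_succ, show p - 1 + 1 = p by omega, ← hs]
    exact pow_orderOf_eq_one s

/-- The conjugacy hypothesis of the rigidity theorems, from Sylow's theorem. -/
theorem conj_pm_of_sylow [Finite G] {s d : G} {p a : ℕ} (hp : p.Prime) (hcard : ¬ p ^ 2 ∣ Nat.card G)
    (hs : orderOf s = p) (hds : d * s * d⁻¹ = s ^ a)
    (hpow : ∀ i < p, i ≠ 0 → ∃ m, (i * a ^ m) % p = 1 ∨ (i * a ^ m) % p = p - 1)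
    (x : G) (hx : orderOf x = orderOf s) : ∃ k : G, k * x * k⁻¹ = s ∨ k * x * k⁻¹ = s⁻¹ := by
  rw [hs] at hx
  obtain ⟨g, hg⟩ := conj_mem_zpowers_of_sylow hp hcard hx hs
  have hne : g * x * g⁻¹ ≠ 1 := by
    intro h
    have h1 : x = 1 := by
      have h2 : g⁻¹ * (g * x * g⁻¹) * g = g⁻¹ * 1 * g := by rw [h]
      rw [show g⁻¹ * (g * x * g⁻¹) * g = x by group, show g⁻¹ * 1 * g = (1 : G) by group] at h2
      exact h2
    rw [h1, orderOf_one] at hx
    exact hp.one_lt.ne hx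
  obtain ⟨k, hk⟩ := conj_pm_of_mem_zpowers hp.one_lt hs hds hpow hg hne
  refine ⟨k * g, ?_⟩
  have e : k * g * x * (k * g)⁻¹ = k * (g * x * g⁻¹) * k⁻¹ := by group
  rw [e]
  exact hk

/-- After an inner adjustment an automorphism maps `s` to `s` or `s⁻¹` and fixes `d`
(`d s d⁻¹ = s ^ a`, and `c0 (a - 1) ≡ a` modulo the order of `s`). -/
theorem pin_sd' (s d : G) (a c0 : ℕ)
    (hA1 : ∀ x : G, orderOf x = orderOf s → ∃ k : G, k * x * k⁻¹ = s ∨ k * x * k⁻¹ = s⁻¹)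
    (hA2 : ∀ c : G, c * s = s * c → ∃ m : ℤ, c = s ^ m)
    (hds : d * s * d⁻¹ = s ^ a) (hc0 : s ^ (c0 + a) = s ^ (a * c0)) (φ : MulAut G) :
    ∃ k : G, (k * φ s * k⁻¹ = s ∨ k * φ s * k⁻¹ = s⁻¹) ∧ k * φ d * k⁻¹ = d := by
  obtain ⟨k1, hk1⟩ := hA1 (φ s) (MulEquiv.orderOf_eq φ s)
  obtain ⟨e, he⟩ : ∃ e, e = k1 * φ d * k1⁻¹ := ⟨_, rfl⟩
  have hφ : φ d * φ s * (φ d)⁻¹ = (φ s) ^ a := by
    rw [← map_inv, ← map_mul, ← map_mul, hds, map_pow]
  have he1 : e * (k1 * φ s * k1⁻¹) * e⁻¹ = (k1 * φ s * k1⁻¹) ^ a := by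
    rw [conj_pow, ← hφ, he]
    group
  have he2 : e * s * e⁻¹ = s ^ a := by
    rcases hk1 with h | h
    · rw [h] at he1
      exact he1
    · rw [h] at he1
      have h2 : (e * s⁻¹ * e⁻¹)⁻¹ = ((s⁻¹) ^ a)⁻¹ := by rw [he1]
      have h3 : (e * s⁻¹ * e⁻¹)⁻¹ = e * s * e⁻¹ := by group
      have h4 : ((s⁻¹) ^ a)⁻¹ = s ^ a := by rw [inv_pow, inv_inv]
      rw [h3, h4] at h2
      exact h2
  have hcomm : (d⁻¹ * e) * s = s * (d⁻¹ * e) := by
    have h1 : e * s = s ^ a * e := by rw [← he2]; group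
    have h2 : d⁻¹ * s ^ a = s * d⁻¹ := by rw [← hds]; group
    calc d⁻¹ * e * s = d⁻¹ * (e * s) := by group
      _ = d⁻¹ * (s ^ a * e) := by rw [h1]
      _ = (d⁻¹ * s ^ a) * e := by group
      _ = s * d⁻¹ * e := by rw [h2]
      _ = s * (d⁻¹ * e) := by group
  obtain ⟨m, hm⟩ := hA2 _ hcomm
  have hem : e = d * s ^ m := by rw [← hm]; group
  have hdz : ∀ z : ℤ, d * s ^ z = s ^ ((a : ℤ) * z) * d := by
    intro z
    have h1 : d * s ^ z * d⁻¹ = s ^ ((a : ℤ) * z) := by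
      rw [← conj_zpow, hds, ← zpow_natCast, ← zpow_mul]
    rw [← h1]
    group
  have hc0' : s ^ ((c0 : ℤ) + (a : ℤ) - (a : ℤ) * (c0 : ℤ)) = 1 := by
    rw [zpow_sub, ← Nat.cast_add, ← Nat.cast_mul, zpow_natCast, zpow_natCast, hc0]
    exact mul_inv_cancel _
  have hfin : s ^ ((c0 : ℤ) * m) * (d * s ^ m) * (s ^ ((c0 : ℤ) * m))⁻¹ = d := by
    calc s ^ ((c0 : ℤ) * m) * (d * s ^ m) * (s ^ ((c0 : ℤ) * m))⁻¹
        = s ^ ((c0 : ℤ) * m) * (d * s ^ (m - (c0 : ℤ) * m)) := by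
          rw [zpow_sub]
          group
      _ = s ^ ((c0 : ℤ) * m) * (s ^ ((a : ℤ) * (m - (c0 : ℤ) * m)) * d) := by rw [hdz]
      _ = s ^ (((c0 : ℤ) + (a : ℤ) - (a : ℤ) * (c0 : ℤ)) * m) * d := by
          rw [← mul_assoc, ← zpow_add]
          congr 2
          ring
      _ = d := by rw [zpow_mul, hc0', one_zpow, one_mul]
  refine ⟨s ^ ((c0 : ℤ) * m) * k1, ?_, ?_⟩
  · rcases hk1 with h | h
    · left
      calc s ^ ((c0 : ℤ) * m) * k1 * φ s * (s ^ ((c0 : ℤ) * m) * k1)⁻¹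
          = s ^ ((c0 : ℤ) * m) * (k1 * φ s * k1⁻¹) * (s ^ ((c0 : ℤ) * m))⁻¹ := by group
        _ = s := by rw [h]; group
    · right
      calc s ^ ((c0 : ℤ) * m) * k1 * φ s * (s ^ ((c0 : ℤ) * m) * k1)⁻¹
          = s ^ ((c0 : ℤ) * m) * (k1 * φ s * k1⁻¹) * (s ^ ((c0 : ℤ) * m))⁻¹ := by group
        _ = s⁻¹ := by rw [h]; group
  · calc s ^ ((c0 : ℤ) * m) * k1 * φ d * (s ^ ((c0 : ℤ) * m) * k1)⁻¹
        = s ^ ((c0 : ℤ) * m) * (k1 * φ d * k1⁻¹) * (s ^ ((c0 : ℤ) * m))⁻¹ := by group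
      _ = s ^ ((c0 : ℤ) * m) * (d * s ^ m) * (s ^ ((c0 : ℤ) * m))⁻¹ := by rw [← he, hem]
      _ = d := hfin

/-- An automorphism fixing `d` maps an element `x` normalizing `⟨d⟩` into `x C(d)`, where the centralizer
of `d` consists of the powers of `y`. -/
theorem pin_x' (d y x : G) (a n : ℕ) (hxd : x * d * x⁻¹ = d ^ a)
    (hA3 : ∀ c : G, c * d = d * c → ∃ j < n, c = y ^ j)
    (ψ : MulAut G) (hψd : ψ d = d) : ∃ j < n, ψ x = x * y ^ j := by
  have h1 : ψ x * d * (ψ x)⁻¹ = d ^ a := by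
    have := congrArg ψ hxd
    rwa [map_mul, map_mul, map_inv, map_pow, hψd] at this
  have hcomm : (x⁻¹ * ψ x) * d = d * (x⁻¹ * ψ x) := by
    have h2 : ψ x * d = d ^ a * ψ x := by rw [← h1]; group
    have h3 : x⁻¹ * d ^ a = d * x⁻¹ := by rw [← hxd]; group
    calc x⁻¹ * ψ x * d = x⁻¹ * (ψ x * d) := by group
      _ = x⁻¹ * (d ^ a * ψ x) := by rw [h2]
      _ = (x⁻¹ * d ^ a) * ψ x := by group
      _ = d * x⁻¹ * ψ x := by rw [h3]
      _ = d * (x⁻¹ * ψ x) := by group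
  obtain ⟨j, hj, hjc⟩ := hA3 _ hcomm
  exact ⟨j, hj, by rw [← hjc]; group⟩

/-- The normal form of an automorphism up to inner automorphisms: generators `s, d, u`. -/
theorem pin_all (s d u y : G) (n a c0 b : ℕ)
    (hA1 : ∀ x : G, orderOf x = orderOf s → ∃ k : G, k * x * k⁻¹ = s ∨ k * x * k⁻¹ = s⁻¹)
    (hA2 : ∀ c : G, c * s = s * c → ∃ m : ℤ, c = s ^ m)
    (hA3 : ∀ c : G, c * d = d * c → ∃ j < n, c = y ^ j)
    (hds : d * s * d⁻¹ = s ^ a) (hc0 : s ^ (c0 + a) = s ^ (a * c0)) (hud : u * d * u⁻¹ = d ^ b)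
    (rels : List (List ℕ × ℕ))
    (hrel0 : ∀ r ∈ rels, (evalPat (fun i => [s, d, u].getD i 1) r.1) ^ r.2 = 1)
    (φ : MulAut G) :
    ∃ k : G, ∃ s' : G, (s' = s ∨ s' = s⁻¹) ∧ ∃ j < n,
      (MulAut.conj k * φ) s = s' ∧ (MulAut.conj k * φ) d = d ∧ (MulAut.conj k * φ) u = u * y ^ j ∧
      ∀ r ∈ rels, (evalPat (fun i => [s', d, u * y ^ j].getD i 1) r.1) ^ r.2 = 1 := by
  obtain ⟨k, hks, hkd⟩ := pin_sd' s d a c0 hA1 hA2 hds hc0 φ
  obtain ⟨ψ, hψ⟩ : ∃ ψ : MulAut G, ψ = MulAut.conj k * φ := ⟨_, rfl⟩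
  have hψa : ∀ x, ψ x = k * φ x * k⁻¹ := by
    intro x
    rw [hψ, MulAut.mul_apply, MulAut.conj_apply]
  have hψs : ψ s = s ∨ ψ s = s⁻¹ := by rw [hψa]; exact hks
  have hψd : ψ d = d := by rw [hψa]; exact hkd
  obtain ⟨j, hj, hψu⟩ := pin_x' d y u b n hud hA3 ψ hψd
  refine ⟨k, ψ s, hψs, j, hj, ?_, ?_, ?_, ?_⟩
  · rw [← hψ]
  · rw [← hψ]; exact hψd
  · rw [← hψ]; exact hψu
  · intro r hr
    have h0 := congrArg ψ (hrel0 r hr)
    rw [map_pow, map_one] at h0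
    have h1 := map_evalPat ψ.toMonoidHom (fun i => [s, d, u].getD i 1) r.1
    have h2 : (fun i => ψ.toMonoidHom ([s, d, u].getD i 1)) =
        (fun i => [ψ s, d, u * y ^ j].getD i 1) := by
      funext i
      match i with
      | 0 => rfl
      | 1 => exact hψd
      | 2 => exact hψu
      | (i + 3) => exact map_one ψ
    rw [h2] at h1
    rw [← h1]
    exact h0

/-- Rigidity: every automorphism is inner. -/
theorem inner_of_pin (s d u y : G) (n a c0 b : ℕ)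
    (hgen : ∀ ψ : MulAut G, ψ s = s → ψ d = d → ψ u = u → ψ = 1)
    (hA1 : ∀ x : G, orderOf x = orderOf s → ∃ k : G, k * x * k⁻¹ = s ∨ k * x * k⁻¹ = s⁻¹)
    (hA2 : ∀ c : G, c * s = s * c → ∃ m : ℤ, c = s ^ m)
    (hA3 : ∀ c : G, c * d = d * c → ∃ j < n, c = y ^ j)
    (hds : d * s * d⁻¹ = s ^ a) (hc0 : s ^ (c0 + a) = s ^ (a * c0)) (hud : u * d * u⁻¹ = d ^ b)
    (rels : List (List ℕ × ℕ))
    (hrel0 : ∀ r ∈ rels, (evalPat (fun i => [s, d, u].getD i 1) r.1) ^ r.2 = 1)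
    (hrel : ∀ s' : G, (s' = s ∨ s' = s⁻¹) → ∀ j : ℕ, j < n →
      (∀ r ∈ rels, (evalPat (fun i => [s', d, u * y ^ j].getD i 1) r.1) ^ r.2 = 1) →
      s' = s ∧ u * y ^ j = u)
    (φ : MulAut G) : ∃ g : G, φ = MulAut.conj g := by
  obtain ⟨k, s', hs', j, hj, h1, h2, h3, h4⟩ := pin_all s d u y n a c0 b hA1 hA2 hA3 hds hc0 hud rels hrel0 φ
  obtain ⟨e1, e2⟩ := hrel s' hs' j hj h4
  rw [e1] at h1
  rw [e2] at h3
  have hone := hgen _ h1 h2 h3
  refine ⟨k⁻¹, ?_⟩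
  rw [map_inv]
  exact eq_inv_of_mul_eq_one_right hone

/-- Rigidity: the inner automorphisms have index two. -/
theorem card_out_eq_two (s d u y : G) (n a c0 b : ℕ)
    (hgen : ∀ ψ : MulAut G, ψ s = s → ψ d = d → ψ u = u → ψ = 1)
    (hA1 : ∀ x : G, orderOf x = orderOf s → ∃ k : G, k * x * k⁻¹ = s ∨ k * x * k⁻¹ = s⁻¹)
    (hA2 : ∀ c : G, c * s = s * c → ∃ m : ℤ, c = s ^ m)
    (hA3 : ∀ c : G, c * d = d * c → ∃ j < n, c = y ^ j)
    (hds : d * s * d⁻¹ = s ^ a) (hc0 : s ^ (c0 + a) = s ^ (a * c0)) (hud : u * d * u⁻¹ = d ^ b)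
    (rels : List (List ℕ × ℕ))
    (hrel0 : ∀ r ∈ rels, (evalPat (fun i => [s, d, u].getD i 1) r.1) ^ r.2 = 1)
    (hrel : ∀ s' : G, (s' = s ∨ s' = s⁻¹) → ∀ j : ℕ, j < n →
      (∀ r ∈ rels, (evalPat (fun i => [s', d, u * y ^ j].getD i 1) r.1) ^ r.2 = 1) →
      u * y ^ j = u)
    (α : MulAut G) (hαs : α s = s⁻¹) (hαd : α d = d) (hαu : α u = u)
    (hni : ∀ g : G, g * s * g⁻¹ ≠ s⁻¹) :
    Nat.card (MulAut G ⧸ (MulAut.conj : G →* MulAut G).range) = 2 := by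
  rw [← Subgroup.index_eq_card, Subgroup.index_eq_two_iff]
  have hαn : α ∉ (MulAut.conj : G →* MulAut G).range := by
    rintro ⟨g, hg⟩
    apply hni g
    rw [← hαs, ← hg, MulAut.conj_apply]
  have hαn' : α⁻¹ ∉ (MulAut.conj : G →* MulAut G).range := by
    intro h
    exact hαn (by simpa using Subgroup.inv_mem _ h)
  refine ⟨α⁻¹, ?_⟩
  intro φ
  obtain ⟨k, s', hs', j, hj, h1, h2, h3, h4⟩ := pin_all s d u y n a c0 b hA1 hA2 hA3 hds hc0 hud rels hrel0 φ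
  have e2 := hrel s' hs' j hj h4
  rw [e2] at h3
  have hk : MulAut.conj k ∈ (MulAut.conj : G →* MulAut G).range := ⟨k, rfl⟩
  rcases hs' with rfl | rfl
  · -- `φ` is inner
    have hone := hgen _ h1 h2 h3
    have hφ : φ = (MulAut.conj k)⁻¹ := eq_inv_of_mul_eq_one_right hone
    have hφm : φ ∈ (MulAut.conj : G →* MulAut G).range := by
      rw [hφ]
      exact Subgroup.inv_mem _ hk
    right
    refine ⟨hφm, ?_⟩
    intro h
    apply hαn'
    have := Subgroup.mul_mem _ (Subgroup.inv_mem _ hφm) h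
    rwa [inv_mul_cancel_left] at this
  · -- `φ` is inner times `α`
    have hone : α⁻¹ * (MulAut.conj k * φ) = 1 := by
      apply hgen
      · rw [MulAut.mul_apply, h1, ← hαs, MulAut.inv_apply_self]
      · rw [MulAut.mul_apply, h2]
        conv_lhs => rw [← hαd]
        exact MulAut.inv_apply_self _ _ _
      · rw [MulAut.mul_apply, h3]
        conv_lhs => rw [← hαu]
        exact MulAut.inv_apply_self _ _ _
    have hφ : φ = (MulAut.conj k)⁻¹ * α := by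
      have : MulAut.conj k * φ = α := by
        have := congrArg (fun z => α * z) hone
        simp only [mul_inv_cancel_left, mul_one] at this
        exact this
      rw [← this, inv_mul_cancel_left]
    left
    refine ⟨?_, ?_⟩
    · rw [hφ, mul_assoc, mul_inv_cancel, mul_one]
      exact Subgroup.inv_mem _ hk
    · intro h
      apply hαn
      rw [hφ] at h
      have := Subgroup.mul_mem _ hk h
      rwa [mul_inv_cancel_left] at this

end AutRigid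

end Cfsg.Agent.Lib.H27
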