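/-
helper27 library: abstract rigidity arguments for automorphism groups, fourth part.  A Frobenius subgroup
`⟨s⟩ ⋊ ⟨d⟩`, a generator `v` normalizing `⟨d⟩` and a generator `c` centralizing `d`, where the centralizer of `d`
is a finite list `L` (not necessarily cyclic); the normal forms of automorphisms are `(s', d, v y, c')` with
`s' = s ^ ± 1` and `y, c' ∈ L`.  If the relators leave only the identity and a fixed automorphism `α`, the inner
automorphisms have index two.
-/
import Mathlib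
import Cfsg.Agent.Lib.H27.AutRigid2

set_option autoImplicit false

namespace Cfsg.Agent.Lib.H27

namespace AutRigid

variable {G : Type*} [Group G]

/-- An automorphism fixing `d` maps an element `x` normalizing `⟨d⟩` into `x C(d)`. -/
theorem pin_xL (d x : G) (a : ℕ) (L : List G) (hxd : x * d * x⁻¹ = d ^ a)
    (hA3 : ∀ c : G, c * d = d * c → c ∈ L)
    (ψ : MulAut G) (hψd : ψ d = d) : ∃ y ∈ L, ψ x = x * y := by
  have h1 : ψ x * d * (ψ x)⁻¹ = d ^ a := by
    have := congrArg ψ hxd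
    rwa [map_mul, map_mul, map_inv, map_pow, hψd] at this
  have hcomm : (x⁻¹ * ψ x) * d = d * (x⁻¹ * ψ x) := by
    have h2 : ψ x * d = d ^ a * ψ x := by rw [← h1]; group
    have h3 : x⁻¹ * d ^ a = d * x⁻¹ := by rw [← hxd]; group
    calc x⁻¹ * ψ x * d = x⁻¹ * (ψ x * d) := by group
      _ = x⁻¹ * (d ^ a * ψ x) := by rw [h2]
      _ = (x⁻¹ * d ^ a) * ψ x := by group
      _ = d * x⁻¹ * ψ x := by rw [h3]
      _ = d * (x⁻¹ * ψ x) := by group
  exact ⟨x⁻¹ * ψ x, hA3 _ hcomm, by group⟩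

/-- The normal form of an automorphism up to inner automorphisms: generators `s, d, v, c`. -/
theorem pin_all4 (s d v c : G) (a c0 b : ℕ) (L : List G)
    (hA1 : ∀ x : G, orderOf x = orderOf s → ∃ k : G, k * x * k⁻¹ = s ∨ k * x * k⁻¹ = s⁻¹)
    (hA2 : ∀ x : G, x * s = s * x → ∃ m : ℤ, x = s ^ m)
    (hA3 : ∀ x : G, x * d = d * x → x ∈ L)
    (hds : d * s * d⁻¹ = s ^ a) (hc0 : s ^ (c0 + a) = s ^ (a * c0)) (hvd : v * d * v⁻¹ = d ^ b)
    (hcd : c * d = d * c)
    (rels : List (List ℕ × ℕ))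
    (hrel0 : ∀ r ∈ rels, (evalPat (fun i => [s, d, v, c].getD i 1) r.1) ^ r.2 = 1)
    (φ : MulAut G) :
    ∃ k : G, ∃ s' : G, (s' = s ∨ s' = s⁻¹) ∧ ∃ y ∈ L, ∃ c' ∈ L,
      (MulAut.conj k * φ) s = s' ∧ (MulAut.conj k * φ) d = d ∧ (MulAut.conj k * φ) v = v * y ∧
      (MulAut.conj k * φ) c = c' ∧
      ∀ r ∈ rels, (evalPat (fun i => [s', d, v * y, c'].getD i 1) r.1) ^ r.2 = 1 := by
  obtain ⟨k, hks, hkd⟩ := pin_sd' s d a c0 hA1 hA2 hds hc0 φ
  obtain ⟨ψ, hψ⟩ : ∃ ψ : MulAut G, ψ = MulAut.conj k * φ := ⟨_, rfl⟩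
  have hψa : ∀ x, ψ x = k * φ x * k⁻¹ := by
    intro x
    rw [hψ, MulAut.mul_apply, MulAut.conj_apply]
  have hψs : ψ s = s ∨ ψ s = s⁻¹ := by rw [hψa]; exact hks
  have hψd : ψ d = d := by rw [hψa]; exact hkd
  obtain ⟨y, hy, hψv⟩ := pin_xL d v b L hvd hA3 ψ hψd
  have hψc : ψ c ∈ L := by
    apply hA3
    have := congrArg ψ hcd
    rwa [map_mul, map_mul, hψd] at this
  refine ⟨k, ψ s, hψs, y, hy, ψ c, hψc, ?_, ?_, ?_, ?_, ?_⟩
  · rw [← hψ]
  · rw [← hψ]; exact hψd
  · rw [← hψ]; exact hψv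
  · rw [← hψ]
  · intro r hr
    have h0 := congrArg ψ (hrel0 r hr)
    rw [map_pow, map_one] at h0
    have h1 := map_evalPat ψ.toMonoidHom (fun i => [s, d, v, c].getD i 1) r.1
    have h2 : (fun i => ψ.toMonoidHom ([s, d, v, c].getD i 1)) =
        (fun i => [ψ s, d, v * y, ψ c].getD i 1) := by
      funext i
      match i with
      | 0 => rfl
      | 1 => exact hψd
      | 2 => exact hψv
      | 3 => rfl
      | (i + 4) => exact map_one ψ
    rw [h2] at h1
    rw [← h1]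
    exact h0

/-- Rigidity: the inner automorphisms have index two, when the relators leave only the identity and a
non-inner automorphism `α`. -/
theorem card_out_eq_two4 (s d v c : G) (a c0 b : ℕ) (L : List G)
    (hgen : ∀ ψ : MulAut G, ψ s = s → ψ d = d → ψ v = v → ψ c = c → ψ = 1)
    (hA1 : ∀ x : G, orderOf x = orderOf s → ∃ k : G, k * x * k⁻¹ = s ∨ k * x * k⁻¹ = s⁻¹)
    (hA2 : ∀ x : G, x * s = s * x → ∃ m : ℤ, x = s ^ m)
    (hA3 : ∀ x : G, x * d = d * x → x ∈ L)
    (hds : d * s * d⁻¹ = s ^ a) (hc0 : s ^ (c0 + a) = s ^ (a * c0)) (hvd : v * d * v⁻¹ = d ^ b)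
    (hcd : c * d = d * c)
    (rels : List (List ℕ × ℕ))
    (hrel0 : ∀ r ∈ rels, (evalPat (fun i => [s, d, v, c].getD i 1) r.1) ^ r.2 = 1)
    (α : MulAut G) (hαd : α d = d)
    (hαn : α ∉ (MulAut.conj : G →* MulAut G).range)
    (hrel : ∀ s' : G, (s' = s ∨ s' = s⁻¹) → ∀ y ∈ L, ∀ c' ∈ L,
      (∀ r ∈ rels, (evalPat (fun i => [s', d, v * y, c'].getD i 1) r.1) ^ r.2 = 1) →
      (s' = s ∧ v * y = v ∧ c' = c) ∨ (s' = α s ∧ v * y = α v ∧ c' = α c)) :
    Nat.card (MulAut G ⧸ (MulAut.conj : G →* MulAut G).range) = 2 := by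
  rw [← Subgroup.index_eq_card, Subgroup.index_eq_two_iff]
  have hαn' : α⁻¹ ∉ (MulAut.conj : G →* MulAut G).range := by
    intro h
    exact hαn (by simpa using Subgroup.inv_mem _ h)
  refine ⟨α⁻¹, ?_⟩
  intro φ
  obtain ⟨k, s', hs', y, hy, c', hc', h1, h2, h3, h4, h5⟩ :=
    pin_all4 s d v c a c0 b L hA1 hA2 hA3 hds hc0 hvd hcd rels hrel0 φ
  have hk : MulAut.conj k ∈ (MulAut.conj : G →* MulAut G).range := ⟨k, rfl⟩
  rcases hrel s' hs' y hy c' hc' h5 with ⟨e1, e2, e3⟩ | ⟨e1, e2, e3⟩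
  · -- `φ` is inner
    rw [e1] at h1
    rw [e2] at h3
    rw [e3] at h4
    have hone := hgen _ h1 h2 h3 h4
    have hφ : φ = (MulAut.conj k)⁻¹ := eq_inv_of_mul_eq_one_right hone
    have hφm : φ ∈ (MulAut.conj : G →* MulAut G).range := by
      rw [hφ]
      exact Subgroup.inv_mem _ hk
    right
    refine ⟨hφm, ?_⟩
    intro h
    apply hαn'
    have := Subgroup.mul_mem _ (Subgroup.inv_mem _ hφm) h
    rwa [inv_mul_cancel_left] at this
  · -- `φ` is inner times `α`
    rw [e1] at h1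
    rw [e2] at h3
    rw [e3] at h4
    have hone : α⁻¹ * (MulAut.conj k * φ) = 1 := by
      apply hgen
      · rw [MulAut.mul_apply, h1, MulAut.inv_apply_self]
      · rw [MulAut.mul_apply, h2]
        conv_lhs => rw [← hαd]
        exact MulAut.inv_apply_self _ _ _
      · rw [MulAut.mul_apply, h3, MulAut.inv_apply_self]
      · rw [MulAut.mul_apply, h4, MulAut.inv_apply_self]
    have hφ : φ = (MulAut.conj k)⁻¹ * α := by
      have : MulAut.conj k * φ = α := by
        have := congrArg (fun z => α * z) hone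
        simp only [mul_inv_cancel_left, mul_one] at this
        exact this
      rw [← this, inv_mul_cancel_left]
    left
    refine ⟨?_, ?_⟩
    · rw [hφ, mul_assoc, mul_inv_cancel, mul_one]
      exact Subgroup.inv_mem _ hk
    · intro h
      apply hαn
      rw [hφ] at h
      have := Subgroup.mul_mem _ hk h
      rwa [mul_inv_cancel_left] at this

/-- The order of the outer automorphism group is invariant under isomorphism. -/
theorem card_out_congr {G H : Type*} [Group G] [Group H] (e : G ≃* H) :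
    Nat.card (MulAut G ⧸ (MulAut.conj : G →* MulAut G).range) =
      Nat.card (MulAut H ⧸ (MulAut.conj : H →* MulAut H).range) := by
  let E : MulAut G ≃* MulAut H := MulAut.congr e
  have hmap : ((MulAut.conj : G →* MulAut G).range).map E.toMonoidHom =
      (MulAut.conj : H →* MulAut H).range := by
    ext ψ
    constructor
    · rintro ⟨φ, ⟨g, rfl⟩, rfl⟩
      refine ⟨e g, ?_⟩
      ext x
      show _ = e (MulAut.conj g (e.symm x))
      rw [MulAut.conj_apply, MulAut.conj_apply, map_mul, map_mul, map_inv, MulEquiv.apply_symm_apply]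
    · rintro ⟨h, rfl⟩
      refine ⟨MulAut.conj (e.symm h), ⟨_, rfl⟩, ?_⟩
      ext x
      show e (MulAut.conj (e.symm h) (e.symm x)) = _
      rw [MulAut.conj_apply, MulAut.conj_apply, map_mul, map_mul, map_inv, MulEquiv.apply_symm_apply,
        MulEquiv.apply_symm_apply]
  rw [← Subgroup.index_eq_card, ← Subgroup.index_eq_card, ← hmap]
  exact (Subgroup.index_map_equiv _ E).symm

/-- Conjugation by an element normalizing a subgroup, as an automorphism of the subgroup. -/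
def conjAut {G : Type*} [Group G] (K : Subgroup G) (t : G) (h1 : ∀ g ∈ K, t * g * t⁻¹ ∈ K)
    (h2 : ∀ g ∈ K, t⁻¹ * g * t ∈ K) : MulAut ↥K where
  toFun g := ⟨t * g * t⁻¹, h1 g g.2⟩
  invFun g := ⟨t⁻¹ * g * t, h2 g g.2⟩
  left_inv g := Subtype.ext (by
    show t⁻¹ * (t * (g : G) * t⁻¹) * t = g
    group)
  right_inv g := Subtype.ext (by
    show t * (t⁻¹ * (g : G) * t) * t⁻¹ = g
    group)
  map_mul' g h := Subtype.ext (by
    show t * ((g : G) * (h : G)) * t⁻¹ = t * g * t⁻¹ * (t * h * t⁻¹)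
    group)

theorem conjAut_apply {G : Type*} [Group G] (K : Subgroup G) (t : G) (h1 : ∀ g ∈ K, t * g * t⁻¹ ∈ K)
    (h2 : ∀ g ∈ K, t⁻¹ * g * t ∈ K) (g : ↥K) : ((conjAut K t h1 h2 g : ↥K) : G) = t * g * t⁻¹ := rfl

theorem evalPat_congr {M : Type*} [Monoid M] (f f' : ℕ → M) (pat : List ℕ) (h : ∀ n ∈ pat, f n = f' n) :
    evalPat f pat = evalPat f' pat := by
  unfold evalPat
  congr 1
  exact List.map_congr_left h

end AutRigid

end Cfsg.Agent.Lib.H27
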