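/-
helper27 library (generated by scripts/gen_co3gen.py): the orbit of the vector `(3; -1^23)` under the subgroup
of `Co0` generated by the coordinate permutations `s`, `d`, `u` of `M23` and the involution `z` centralizing `d`
has 48600 points (forest certificate).
-/
import Mathlib
import Cfsg.Agent.Lib.H27.Co3GenData1
import Cfsg.Agent.Lib.H27.Co3GenData2
import Cfsg.Agent.Lib.H27.Co3GenData3
import Cfsg.Agent.Lib.H27.Co3GenData4
import Cfsg.Agent.Lib.H27.Co3GenData5
import Cfsg.Agent.Lib.H27.Co3GenData6
import Cfsg.Agent.Lib.H27.Co3GenData7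
import Cfsg.Agent.Lib.H27.Co3GenData8

set_option autoImplicit false
set_option maxRecDepth 1000000

namespace Cfsg.Agent.Lib.H27.Co3GenData

open Cfsg.Agent.Lib.H27.Eng


def gchunks : List Chunk := [gc0, gc1, gc2, gc3, gc4, gc5, gc6, gc7, gc8, gc9, gc10, gc11, gc12, gc13, gc14, gc15, gc16, gc17, gc18, gc19, gc20, gc21, gc22, gc23, gc24, gc25, gc26, gc27, gc28, gc29, gc30, gc31, gc32, gc33, gc34, gc35, gc36, gc37, gc38, gc39, gc40, gc41, gc42, gc43, gc44, gc45, gc46]
theorem gall_ok : ∀ c ∈ gchunks, chunkOK sg (fun _ => false) c = true := by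
  intro c hc
  simp only [gchunks, List.mem_cons, List.not_mem_nil, or_false] at hc
  rcases hc with rfl | rfl | rfl | rfl | rfl | rfl | rfl | rfl | rfl | rfl | rfl | rfl | rfl | rfl | rfl | rfl | rfl | rfl | rfl | rfl | rfl | rfl | rfl | rfl | rfl | rfl | rfl | rfl | rfl | rfl | rfl | rfl | rfl | rfl | rfl | rfl | rfl | rfl | rfl | rfl | rfl | rfl | rfl | rfl | rfl | rfl | rfl
  · exact gok0
  · exact gok1
  · exact gok2
  · exact gok3
  · exact gok4
  · exact gok5
  · exact gok6
  · exact gok7
  · exact gok8
  · exact gok9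
  · exact gok10
  · exact gok11
  · exact gok12
  · exact gok13
  · exact gok14
  · exact gok15
  · exact gok16
  · exact gok17
  · exact gok18
  · exact gok19
  · exact gok20
  · exact gok21
  · exact gok22
  · exact gok23
  · exact gok24
  · exact gok25
  · exact gok26
  · exact gok27
  · exact gok28
  · exact gok29
  · exact gok30
  · exact gok31
  · exact gok32
  · exact gok33
  · exact gok34
  · exact gok35
  · exact gok36
  · exact gok37
  · exact gok38
  · exact gok39
  · exact gok40
  · exact gok41
  · exact gok42
  · exact gok43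
  · exact gok44
  · exact gok45
  · exact gok46
theorem glink_ok : linkOK gchunks [vroot] = true := by decide +kernel
theorem gmerge_ok : mergeOK gchunks 48600 = true := by decide +kernel

end Cfsg.Agent.Lib.H27.Co3GenData
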