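/-
helper27 library: the stabilizer `C3` in `Co0` of the vector `(-5; -1^23)` (the group `Co3`) is generated by
the coordinate permutations `s`, `d`, `u` generating `M23` and an involution `z` centralizing `d`.  The subgroup
they generate contains `M23`, which fixes `(3; -1^23)`, and the orbit of that vector has 48600 points.
-/
import Mathlib
import Cfsg.Prelude.Def_Spor_Conway
import Cfsg.Agent.Lib.H27.Co3GenData
import Cfsg.Agent.Lib.H27.Co0Word
import Cfsg.Agent.Lib.H27.M22Embed
import Cfsg.Agent.Lib.H27.OutM23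

set_option autoImplicit false

namespace Cfsg.Agent.Lib.H27

open Cfsg MulAction Cfsg.Agent.Lib.H28 Cfsg.Agent.Lib.H27.Eng

namespace Co3Out

open Co3GenData OutM

/-- The group `Co3` as a subgroup of `Co0`. -/
abbrev C3 : Subgroup Co0 := stabilizer Co0 Spor.leechV

/-! ### Coordinate permutations as words -/

/-- The coordinate permutation of a word in the generators of `M24` is the elementary element with the same
table. -/
theorem pCo0_wordPerm (w : List ℕ) (hw : wordPerm w ∈ M24) (t ti : List ℕ)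
    (h : monoOK t ti 0 = true) (heq : ∀ k < 24, evalPt w k = t.getD k 0) :
    pCo0 ⟨wordPerm w, hw⟩ = wordCo0 [Gen.mono t ti 0] := by
  rw [wordCo0_cons, wordCo0_nil, one_mul, Gen.toCo0_mono t ti 0 h]
  have h1 : tabInv t ti = true := by
    unfold monoOK at h
    rw [Bool.and_eq_true, Bool.and_eq_true, Bool.and_eq_true] at h
    exact h.1.1.1
  have hp : permOfTab t ti h1 = wordPerm w := by
    apply Equiv.ext
    intro p
    apply gIdx_injective
    rw [gIdx_wordPerm, heq _ (gIdx_lt p)]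
    show gIdx (gPt (t.getD (gIdx p) 0)) = _
    rw [gIdx_gPt (tabInv_spec h1 (gIdx_lt p)).1]
  apply Co0_ext
  intro v
  funext k
  rw [pCo0_smul, monoCo0_smul]
  unfold signedPerm
  have : k ∉ support₂ (W 0) := by rw [W_zero]; simp [support₂]
  rw [if_neg this]
  show _ = (v : GolayPt → ℤ) ((permOfTab t ti h1).symm k)
  rw [hp]

theorem sw_mem : wordPerm sw ∈ M24 := wordPerm_mem_M24 _
theorem dw_mem : wordPerm dw ∈ M24 := wordPerm_mem_M24 _
theorem uw_mem : wordPerm uw ∈ M24 := wordPerm_mem_M24 _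

theorem pCo0_s : pCo0 ⟨wordPerm sw, sw_mem⟩ = wordCo0 wS :=
  pCo0_wordPerm sw sw_mem _ _ (by decide +kernel) (by decide +kernel)

theorem pCo0_d : pCo0 ⟨wordPerm dw, dw_mem⟩ = wordCo0 wD :=
  pCo0_wordPerm dw dw_mem _ _ (by decide +kernel) (by decide +kernel)

theorem pCo0_u : pCo0 ⟨wordPerm uw, uw_mem⟩ = wordCo0 wU :=
  pCo0_wordPerm uw uw_mem _ _ (by decide +kernel) (by decide +kernel)

/-! ### The subgroup generated by the four elements -/

/-- The subgroup generated by `s`, `d`, `u`, `z`. -/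
noncomputable def K4 : Subgroup Co0 :=
  Subgroup.closure {wordCo0 wS, wordCo0 wD, wordCo0 wU, wordCo0 wZ}

theorem sg_mem_K4 : ∀ w ∈ sg, wordCo0 w ∈ K4 := by
  intro w hw
  unfold sg at hw
  simp only [List.mem_cons, List.not_mem_nil, or_false] at hw
  unfold K4
  rcases hw with rfl | rfl | rfl | rfl
  · exact Subgroup.subset_closure (by simp)
  · exact Subgroup.subset_closure (by simp)
  · exact Subgroup.subset_closure (by simp)
  · exact Subgroup.subset_closure (by simp)

theorem toFn_v3 : toFn v3 = Spor.vecV := by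
  funext p
  revert p
  decide +kernel

theorem v3_mem : toFn v3 ∈ leechLattice := by
  rw [toFn_v3]
  exact Spor.leechV.2

theorem mkL_v3 : mkL v3 = Spor.leechV := by
  rw [mkL_of_mem v3_mem]
  exact Subtype.ext toFn_v3

theorem word_fix_v3 {w : List Gen} (hw : w ∈ sg) : wordCo0 w • Spor.leechV = Spor.leechV := by
  have h1 := sg_ok
  have h2 := sg_fix
  unfold sgOK at h1
  unfold fixOK at h2
  rw [List.all_eq_true] at h1 h2
  have hok := h1 w hw
  have hfix := h2 w hw
  rw [List.all_eq_true] at hfix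
  have := hfix v3 (by simp)
  rw [decide_eq_true_eq] at this
  rw [← mkL_v3, mkL_of_mem v3_mem]
  apply Subtype.ext
  rw [← actWord_spec w hok v3 v3_mem, this]

theorem K4_le : K4 ≤ C3 := by
  unfold K4
  rw [Subgroup.closure_le]
  rintro x (rfl | rfl | rfl | rfl)
  · exact mem_stabilizer_iff.2 (word_fix_v3 (by simp [sg]))
  · exact mem_stabilizer_iff.2 (word_fix_v3 (by simp [sg]))
  · exact mem_stabilizer_iff.2 (word_fix_v3 (by simp [sg]))
  · exact mem_stabilizer_iff.2 (word_fix_v3 (by simp [sg]))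

/-- The coordinate permutations of `M23` lie in the subgroup. -/
theorem pCo0_mem_K4 (σ : Equiv.Perm GolayPt) (hσ : σ ∈ Spor.M23) :
    pCo0 ⟨σ, (mem_M23.1 hσ).1⟩ ∈ K4 := by
  have key : ∀ y : Equiv.Perm GolayPt, y ∈ K23 → ∀ hy : y ∈ M24, pCo0 ⟨y, hy⟩ ∈ K4 := by
    intro y hy
    unfold K23 at hy
    induction hy using Subgroup.closure_induction with
    | mem x hx =>
      intro hxM
      unfold K4
      rcases hx with rfl | rfl | rfl
      · rw [pCo0_s]; exact Subgroup.subset_closure (by simp)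
      · rw [pCo0_d]; exact Subgroup.subset_closure (by simp)
      · rw [pCo0_u]; exact Subgroup.subset_closure (by simp)
    | one =>
      intro h1
      have : pCo0 ⟨1, h1⟩ = 1 := pCo0_one
      rw [this]
      exact Subgroup.one_mem _
    | mul a b ha hb iha ihb =>
      intro hab
      have haM : a ∈ M24 := (mem_M23.1 (K23_le ha)).1
      have hbM : b ∈ M24 := (mem_M23.1 (K23_le hb)).1
      have : pCo0 ⟨a * b, hab⟩ = pCo0 ⟨a, haM⟩ * pCo0 ⟨b, hbM⟩ := pCo0_mul ⟨a, haM⟩ ⟨b, hbM⟩
      rw [this]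
      exact Subgroup.mul_mem _ (iha haM) (ihb hbM)
    | inv a ha iha =>
      intro hai
      have haM : a ∈ M24 := (mem_M23.1 (K23_le ha)).1
      have : pCo0 ⟨a⁻¹, hai⟩ = (pCo0 ⟨a, haM⟩)⁻¹ := by
        rw [eq_inv_iff_mul_eq_one]
        have h2 : pCo0 (⟨a⁻¹, hai⟩ * ⟨a, haM⟩) = pCo0 ⟨a⁻¹, hai⟩ * pCo0 ⟨a, haM⟩ := pCo0_mul _ _
        rw [← h2]
        have h3 : (⟨a⁻¹, hai⟩ * ⟨a, haM⟩ : ↥M24) = 1 := Subtype.ext (inv_mul_cancel a)
        rw [h3]
        exact pCo0_one
      rw [this]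
      exact Subgroup.inv_mem _ (iha haM)
  exact key σ (by rw [K23_eq]; exact hσ) _

theorem vroot_L : toFn vroot ∈ leechLattice := mem_of_inLeech vroot_mem

/-- A permutation fixing `∞` fixes the vector `(3; -1^23)`. -/
theorem pCo0_fix_vroot (σ : Equiv.Perm GolayPt) (hσ : σ ∈ Spor.M23) :
    pCo0 ⟨σ, (mem_M23.1 hσ).1⟩ • mkL vroot = mkL vroot := by
  rw [mkL_of_mem vroot_L]
  apply Subtype.ext
  funext i
  rw [pCo0_smul]
  show toFn vroot (σ.symm i) = toFn vroot i
  have hn : σ none = none := (mem_M23.1 hσ).2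
  have hn' : σ.symm none = none := by rw [Equiv.symm_apply_eq, hn]
  have key : ∀ p : GolayPt, toFn vroot p = if p = none then 3 else -1 := by decide +kernel
  rw [key, key]
  by_cases hi : i = none
  · rw [hi, hn']
  · have : σ.symm i ≠ none := by
      intro h
      apply hi
      rw [← hn'] at h
      exact σ.symm.injective h
    rw [if_neg hi, if_neg this]

/-- The stabilizer of `(3; -1^23)` in the subgroup contains a copy of `M23`. -/
theorem card_stab_vroot_ge : 10200960 ≤ Nat.card (stabilizer ↥K4 (mkL vroot)) := by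
  have hfin : Finite (stabilizer ↥K4 (mkL vroot)) := inferInstance
  let f : ↥Spor.M23 → stabilizer ↥K4 (mkL vroot) := fun σ =>
    ⟨⟨pCo0 ⟨σ.1, (mem_M23.1 σ.2).1⟩, pCo0_mem_K4 σ.1 σ.2⟩, by
      rw [mem_stabilizer_iff]
      exact pCo0_fix_vroot σ.1 σ.2⟩
  have hinj : Function.Injective f := by
    intro a b hab
    have h1 : pCo0 ⟨a.1, (mem_M23.1 a.2).1⟩ = pCo0 ⟨b.1, (mem_M23.1 b.2).1⟩ :=
      congrArg (fun x : stabilizer ↥K4 (mkL vroot) => ((x : ↥K4) : Co0)) hab
    have h2 : (⟨a.1, (mem_M23.1 a.2).1⟩ : ↥M24) = ⟨b.1, (mem_M23.1 b.2).1⟩ := permHom_injective h1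
    have h3 : (a : Equiv.Perm GolayPt) = b := congrArg (fun x : ↥M24 => (x : Equiv.Perm GolayPt)) h2
    exact Subtype.ext h3
  have h := Nat.card_le_card_of_injective f hinj
  have h2 := card_K23_ge
  rw [K23_eq] at h2
  omega

theorem card_C3 : Nat.card ↥C3 = 495766656000 := by
  apply card_stab48
  show sqNorm Spor.vecV = 48
  decide +kernel

/-- `Co3` is generated by `s`, `d`, `u`, `z`. -/
theorem K4_eq : K4 = C3 := by
  apply Subgroup.eq_of_le_of_card_ge K4_le
  have h1 := forest_card_le (K := K4) sg_ok sg_mem_K4 vroot_L gall_ok glink_ok gmerge_ok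
  have h2 := card_stab_vroot_ge
  rw [card_C3]
  calc 495766656000 = 48600 * 10200960 := by norm_num
    _ ≤ 48600 * Nat.card (stabilizer ↥K4 (mkL vroot)) := Nat.mul_le_mul_left _ h2
    _ ≤ Nat.card ↥K4 := h1

end Co3Out

end Cfsg.Agent.Lib.H27
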