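/-
helper27 library: centralizers in `Co3` (the stabilizer `C3` of `(-5; -1^23)` in `Co0`) of the coordinate
permutations `s : x ↦ x + 1` and `d : x ↦ 2 x`.  An element commuting with such a permutation maps `8 e_∞` to a
vector invariant under the permutation; norms and inner products leave few candidates, and an element fixing
`8 e_∞` is a coordinate permutation of `M23`.
-/
import Mathlib
import Cfsg.Prelude.Def_Spor_Conway
import Cfsg.Agent.Lib.H27.Co3Gen
import Cfsg.Agent.Lib.H27.Co0Order
import Cfsg.Agent.Lib.H27.Co0Pairs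

set_option autoImplicit false

namespace Cfsg.Agent.Lib.H27

open Cfsg MulAction Cfsg.Agent.Lib.H28 Cfsg.Agent.Lib.H27.Eng

namespace Co3Out

open Co3GenData OutM

/-! ### Generalities -/

/-- Inner products of lattice vectors are divisible by 8. -/
theorem eight_dvd_dotInt {x y : GolayPt → ℤ} (hx : x ∈ leechLattice) (hy : y ∈ leechLattice) :
    (8 : ℤ) ∣ dotInt x y := by
  obtain ⟨a, ha⟩ := sixteen_dvd_sqNorm golay_doubly_even hx
  obtain ⟨b, hb⟩ := sixteen_dvd_sqNorm golay_doubly_even hy
  obtain ⟨c, hc⟩ := sixteen_dvd_sqNorm golay_doubly_even (leechLattice.add_mem hx hy)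
  have h := sqNorm_add' x y
  rw [ha, hb, hc] at h
  exact ⟨c - a - b, by linarith⟩

/-- A coordinate permutation fixing `∞` fixes `8 e_∞`. -/
theorem pCo0_fix_u8 (σ : ↥M24) (hσ : σ.1 none = none) : pCo0 σ • u8 none = u8 none := by
  apply Subtype.ext
  funext k
  rw [pCo0_smul]
  show (Pi.single none 8 : GolayPt → ℤ) (σ.1.symm k) = (Pi.single none 8 : GolayPt → ℤ) k
  have hn' : σ.1.symm none = none := by rw [Equiv.symm_apply_eq, hσ]
  by_cases hk : k = none
  · rw [hk, hn']
  · have : σ.1.symm k ≠ none := by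
      intro h
      apply hk
      rw [← hn'] at h
      exact σ.1.symm.injective h
    rw [Pi.single_apply, Pi.single_apply, if_neg hk, if_neg this]

/-- The image of a fixed vector of `P` under an element commuting with `P` is fixed by `P`. -/
theorem smul_fixed_of_comm {g P : Co0} (hc : g * P = P * g) {x : leechLattice} (hx : P • x = x) :
    P • (g • x) = g • x := by
  rw [← mul_smul, ← hc, mul_smul, hx]

/-- A vector fixed by a coordinate permutation is constant on the cycles of the permutation. -/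
theorem coord_of_fixed (σ : ↥M24) {y : leechLattice} (hy : pCo0 σ • y = y) (k : GolayPt) :
    (y : GolayPt → ℤ) (σ.1 k) = (y : GolayPt → ℤ) k := by
  have h : ((pCo0 σ • y : leechLattice) : GolayPt → ℤ) (σ.1 k) = (y : GolayPt → ℤ) (σ.1 k) := by rw [hy]
  rw [pCo0_smul, Equiv.symm_apply_apply] at h
  exact h.symm

/-- The same in terms of indices, for the permutation of a word. -/
theorem idx_of_fixed (w : List ℕ) {y : leechLattice} (hy : pCo0 ⟨wordPerm w, wordPerm_mem_M24 w⟩ • y = y)
    (k : ℕ) (hk : k < 24) :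
    (y : GolayPt → ℤ) (gPt (evalPt w k)) = (y : GolayPt → ℤ) (gPt k) := by
  have h := coord_of_fixed ⟨wordPerm w, wordPerm_mem_M24 w⟩ hy (gPt k)
  rw [← h]
  show _ = (y : GolayPt → ℤ) (wordPerm w (gPt k))
  rw [wordPerm_gPt hk rfl]

theorem evalPt_lt (w : List ℕ) {k : ℕ} (hk : k < 24) : evalPt w k < 24 := by
  rw [← gIdx_gPt hk, ← gIdx_wordPerm]
  exact gIdx_lt _

theorem iter_lt (w : List ℕ) {k : ℕ} (hk : k < 24) (m : ℕ) : (evalPt w)^[m] k < 24 := by
  induction m with
  | zero => exact hk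
  | succ m ih =>
    rw [Function.iterate_succ_apply']
    exact evalPt_lt w ih

theorem idx_iter_of_fixed (w : List ℕ) {y : leechLattice}
    (hy : pCo0 ⟨wordPerm w, wordPerm_mem_M24 w⟩ • y = y) (k : ℕ) (hk : k < 24) (m : ℕ) :
    (y : GolayPt → ℤ) (gPt ((evalPt w)^[m] k)) = (y : GolayPt → ℤ) (gPt k) := by
  induction m with
  | zero => rfl
  | succ m ih =>
    rw [Function.iterate_succ_apply', idx_of_fixed w hy _ (iter_lt w hk m), ih]

/-! ### Elements fixing `8 e_∞` -/

/-- An element of `C3` fixing `8 e_∞` is a coordinate permutation of `M23`. -/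
theorem perm_of_fix_u8 {g : Co0} (hg : g ∈ C3) (hfix : g • u8 none = u8 none) :
    ∃ σ : ↥M24, σ.1 none = none ∧ g = pCo0 σ := by
  obtain ⟨σ, hσ, w, hw, hgv⟩ := stab_monomial (stabCross_of_fix hfix)
  have hV : g • Spor.leechV = Spor.leechV := mem_stabilizer_iff.1 hg
  have h1 := hgv Spor.leechV
  rw [hV] at h1
  have h2 : ∀ k : GolayPt, Spor.vecV k =
      if k ∈ support₂ w then -Spor.vecV (σ.symm k) else Spor.vecV (σ.symm k) := by
    intro k
    have := congrFun h1 k
    exact this
  have hneg : ∀ k : GolayPt, Spor.vecV k < 0 := by decide +kernel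
  have hsupp : ∀ k : GolayPt, k ∉ support₂ w := by
    intro k hk
    have := h2 k
    rw [if_pos hk] at this
    have a1 := hneg k
    have a2 := hneg (σ.symm k)
    omega
  have hvec : ∀ k : GolayPt, Spor.vecV (σ.symm k) = Spor.vecV k := by
    intro k
    have := h2 k
    rw [if_neg (hsupp k)] at this
    exact this.symm
  have hnone : σ.symm none = none := by
    have h5 : ∀ k : GolayPt, Spor.vecV k = -5 → k = none := by decide +kernel
    apply h5
    rw [hvec]
    rfl
  refine ⟨⟨σ, hσ⟩, ?_, ?_⟩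
  · show σ none = none
    have := congrArg σ hnone
    rw [Equiv.apply_symm_apply] at this
    exact this.symm
  · apply Co0_ext
    intro v
    funext k
    rw [hgv v, pCo0_smul]
    unfold signedPerm
    rw [if_neg (hsupp k)]

/-! ### Two Diophantine systems -/

theorem dioph_s (a b : ℤ) (h1 : a ^ 2 + 23 * b ^ 2 = 64) (h2 : -5 * a - 23 * b = -40) : a = 8 ∧ b = 0 := by
  have hb1 : -1 ≤ b := by nlinarith [sq_nonneg a, sq_nonneg (b + 1)]
  have hb2 : b ≤ 1 := by nlinarith [sq_nonneg a, sq_nonneg (b - 1)]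
  have ha : a = 8 - (23 * b - 0) / 5 * 1 ∨ True := Or.inr trivial
  interval_cases b
  · exfalso; omega
  · constructor
    · omega
    · rfl
  · exfalso; omega

theorem dioph_d (a b p q : ℤ) (h1 : a ^ 2 + b ^ 2 + 11 * p ^ 2 + 11 * q ^ 2 = 64)
    (h2 : -5 * a - b - 11 * p - 11 * q = -40) :
    (a = 8 ∧ b = 0 ∧ p = 0 ∧ q = 0) ∨ (a = 4 ∧ b = -2 ∧ p = 2 ∧ q = 0) ∨ (a = 4 ∧ b = -2 ∧ p = 0 ∧ q = 2) := by
  have hp1 : -2 ≤ p := by nlinarith [sq_nonneg a, sq_nonneg b, sq_nonneg q, sq_nonneg (p + 2)]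
  have hp2 : p ≤ 2 := by nlinarith [sq_nonneg a, sq_nonneg b, sq_nonneg q, sq_nonneg (p - 2)]
  have hq1 : -2 ≤ q := by nlinarith [sq_nonneg a, sq_nonneg b, sq_nonneg p, sq_nonneg (q + 2)]
  have hq2 : q ≤ 2 := by nlinarith [sq_nonneg a, sq_nonneg b, sq_nonneg p, sq_nonneg (q - 2)]
  have ha1 : -8 ≤ a := by nlinarith [sq_nonneg b, sq_nonneg p, sq_nonneg q, sq_nonneg (a + 8)]
  have ha2 : a ≤ 8 := by nlinarith [sq_nonneg b, sq_nonneg p, sq_nonneg q, sq_nonneg (a - 8)]
  have hb : b = 40 - 5 * a - 11 * p - 11 * q := by linarith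
  subst hb
  interval_cases p <;> interval_cases q <;> interval_cases a <;> simp_all

/-! ### Words with the same action -/

/-- The action of a word, with every intermediate vector evaluated (for long words). -/
def actWordF : List Gen → V → V
  | [], l => l
  | g :: w, l => forceList (g.act l) (fun l' => actWordF w l')

theorem actWordF_eq (w : List Gen) (l : V) : actWordF w l = actWord w l := by
  induction w generalizing l with
  | nil => rfl
  | cons g w ih =>
    show forceList (g.act l) (fun l' => actWordF w l') = actWord w (g.act l)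
    rw [forceList_eq, ih]

/-- Two words acting in the same way on the generators of the lattice give the same element. -/
def wordEq (w1 w2 : List Gen) : Bool := genLists.all (fun b => decide (actWordF w1 b = actWordF w2 b))

/-- Checking that a long word is the identity. -/
def wordIsOneF (w : List Gen) : Bool := genLists.all (fun b => decide (actWordF w b = b))

theorem wordCo0_eq_oneF {w : List Gen} (hok : w.all Gen.ok = true) (h : wordIsOneF w = true) :
    wordCo0 w = 1 := by
  apply wordCo0_eq_one hok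
  unfold wordIsOne
  unfold wordIsOneF at h
  rw [List.all_eq_true] at h ⊢
  intro b hb
  have := h b hb
  rwa [actWordF_eq] at this

theorem wordCo0_eq_of_wordEq {w1 w2 : List Gen} (hok1 : w1.all Gen.ok = true) (hok2 : w2.all Gen.ok = true)
    (h : wordEq w1 w2 = true) : wordCo0 w1 = wordCo0 w2 := by
  have key : (wordCo0 w2)⁻¹ * wordCo0 w1 = 1 := by
    apply eq_one_of_fixes
    intro b hb hbL
    unfold wordEq at h
    rw [List.all_eq_true] at h
    have := h b hb
    rw [decide_eq_true_eq, actWordF_eq, actWordF_eq] at this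
    rw [mul_smul, inv_smul_eq_iff]
    apply Subtype.ext
    rw [← actWord_spec w1 hok1 b hbL, ← actWord_spec w2 hok2 b hbL, this]
  rw [inv_mul_eq_one] at key
  exact key.symm

/-! ### The elements `s`, `d`, `z` -/

/-- The coordinate permutation `s` as an element of `M24`. -/
noncomputable def sM : ↥M24 := ⟨wordPerm sw, wordPerm_mem_M24 sw⟩
/-- The coordinate permutation `d` as an element of `M24`. -/
noncomputable def dM : ↥M24 := ⟨wordPerm dw, wordPerm_mem_M24 dw⟩

theorem sM_none : sM.1 none = none := by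
  have := wordPerm_gPt (w := sw) (k := 23) (z := 23) (by norm_num) (by decide +kernel)
  rwa [gPt_23] at this

theorem dM_none : dM.1 none = none := by
  have := wordPerm_gPt (w := dw) (k := 23) (z := 23) (by norm_num) (by decide +kernel)
  rwa [gPt_23] at this

theorem pCo0_sM : pCo0 sM = wordCo0 wS := pCo0_s
theorem pCo0_dM : pCo0 dM = wordCo0 wD := pCo0_d

/-- Lists describing vectors. -/
def e8L : V := [0, 0, 0, 0, 0, 0, 0, 0, 0, 0, 0, 0, 0, 0, 0, 0, 0, 0, 0, 0, 0, 0, 0, 8]
def w4L : V := [-2, 2, 2, 2, 2, 0, 2, 0, 2, 2, 0, 0, 2, 2, 0, 0, 2, 0, 2, 0, 0, 0, 0, 4]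
def w4pL : V := [-2, 0, 0, 0, 0, 2, 0, 2, 0, 0, 2, 2, 0, 0, 2, 2, 0, 2, 0, 2, 2, 2, 2, 4]
def octL : V := [2, 0, 2, 0, 0, 0, 0, 0, 0, 0, 0, 0, 0, 2, 2, 2, 2, 2, 0, 0, 2, 0, 0, 0]

theorem toFn_e8L : toFn e8L = Pi.single none 8 := by
  funext p
  revert p
  decide +kernel

theorem mkL_e8L : mkL e8L = u8 none := by
  have h : toFn e8L ∈ leechLattice := by rw [toFn_e8L]; exact (u8 none).2
  rw [mkL_of_mem h]
  exact Subtype.ext toFn_e8L

theorem sqNorm_u8 : sqNorm ((u8 none : leechLattice) : GolayPt → ℤ) = 64 := by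
  show sqNorm (Pi.single none 8 : GolayPt → ℤ) = 64
  rw [← toFn_e8L, ← sqNorm_spec]
  decide +kernel

theorem dot_u8_V : dotInt ((u8 none : leechLattice) : GolayPt → ℤ) Spor.vecV = -40 := by
  show dotInt (Pi.single none 8 : GolayPt → ℤ) Spor.vecV = -40
  rw [← toFn_e8L, ← toFn_v3, ← dotL_spec]
  decide +kernel

/-- A vector given by its list of coordinates. -/
theorem eq_toFn_of_coords (Y : GolayPt → ℤ) (L : V) (h : ∀ k < 24, Y (gPt k) = nth L k) : Y = toFn L := by
  funext p
  unfold toFn
  rw [← h _ (gIdx_lt p), gPt_gIdx]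

/-- Norm and inner product with `(-5; -1^23)` of the image of `8 e_∞` under an element of `C3`. -/
theorem norm_dot_image {g : Co0} (hg : g ∈ C3) :
    sqNorm ((g • u8 none : leechLattice) : GolayPt → ℤ) = 64 ∧
    dotInt ((g • u8 none : leechLattice) : GolayPt → ℤ) Spor.vecV = -40 := by
  refine ⟨by rw [Co0_sqNorm, sqNorm_u8], ?_⟩
  have hV : g • Spor.leechV = Spor.leechV := mem_stabilizer_iff.1 hg
  have h := Co0_dot g (u8 none) Spor.leechV
  rw [hV] at h
  rw [show (Spor.vecV : GolayPt → ℤ) = ((Spor.leechV : leechLattice) : GolayPt → ℤ) from rfl, h]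
  exact dot_u8_V

/-! ### The centralizer of `s` -/

theorem image_s {g : Co0} (hg : g ∈ C3) (hc : g * wordCo0 wS = wordCo0 wS * g) :
    g • u8 none = u8 none := by
  have hfix : pCo0 sM • (g • u8 none) = g • u8 none := by
    apply smul_fixed_of_comm (by rw [pCo0_sM]; exact hc)
    exact pCo0_fix_u8 sM sM_none
  set y := g • u8 none with hy
  have hiter : ∀ k < 23, (evalPt sw)^[k] 0 = k := by decide +kernel
  have hco : ∀ k < 23, (y : GolayPt → ℤ) (gPt k) = (y : GolayPt → ℤ) (gPt 0) := by
    intro k hk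
    have := idx_iter_of_fixed sw hfix 0 (by norm_num) k
    rwa [hiter k hk] at this
  obtain ⟨a, ha⟩ : ∃ a, a = (y : GolayPt → ℤ) (gPt 23) := ⟨_, rfl⟩
  obtain ⟨b, hb⟩ : ∃ b, b = (y : GolayPt → ℤ) (gPt 0) := ⟨_, rfl⟩
  have hY : (y : GolayPt → ℤ) = toFn [b, b, b, b, b, b, b, b, b, b, b, b, b, b, b, b, b, b, b, b, b, b, b, a] := by
    apply eq_toFn_of_coords
    intro k hk
    rcases Nat.lt_succ_iff_lt_or_eq.1 hk with h | h
    · rw [hco k h, ← hb]
      interval_cases k <;> rfl
    · rw [h, ← ha]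
      rfl
  obtain ⟨n1, n2⟩ := norm_dot_image hg
  rw [← hy, hY] at n1 n2
  rw [← sqNorm_spec] at n1
  rw [← toFn_v3, ← dotL_spec] at n2
  simp only [dotL, List.range_succ, List.range_zero, List.nil_append, List.cons_append, List.map_cons,
    List.map_nil, List.sum_cons, List.sum_nil, nth, v3] at n1 n2
  obtain ⟨rfl, rfl⟩ := dioph_s a b (by linarith) (by linarith)
  apply Subtype.ext
  rw [hY]
  exact toFn_e8L

/-- An element of `M24` whose coordinate permutation commutes with that of `τ` commutes with `τ`. -/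
theorem comm_of_pCo0_comm {σ τ : ↥M24} (h : pCo0 σ * pCo0 τ = pCo0 τ * pCo0 σ) :
    σ.1 * τ.1 = τ.1 * σ.1 := by
  rw [← pCo0_mul, ← pCo0_mul] at h
  have := permHom_injective h
  exact congrArg (fun x : ↥M24 => (x : Equiv.Perm GolayPt)) this

theorem pCo0_zpow (σ : ↥M24) (m : ℤ) : pCo0 (σ ^ m) = pCo0 σ ^ m := map_zpow permHom σ m

theorem pCo0_pow (σ : ↥M24) (m : ℕ) : pCo0 (σ ^ m) = pCo0 σ ^ m := map_pow permHom σ m

/-- The centralizer of `s` in `C3` consists of the powers of `s`. -/
theorem centralizer_sC {g : Co0} (hg : g ∈ C3) (hc : g * wordCo0 wS = wordCo0 wS * g) :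
    ∃ m : ℤ, g = wordCo0 wS ^ m := by
  obtain ⟨σ, -, rfl⟩ := perm_of_fix_u8 hg (image_s hg hc)
  rw [← pCo0_sM] at hc
  have h1 := comm_of_pCo0_comm hc
  obtain ⟨m, hm⟩ := Subgroup.mem_zpowers_iff.1 (centralizer_s σ.2 h1)
  refine ⟨m, ?_⟩
  rw [← pCo0_sM, ← pCo0_zpow]
  congr 1
  apply Subtype.ext
  rw [Subgroup.coe_zpow]
  exact hm.symm

/-! ### The centralizer of `d` -/

theorem wZ_ok : wZ.all Gen.ok = true := by decide +kernel
theorem wD_ok : wD.all Gen.ok = true := by decide +kernel
theorem wS_ok : wS.all Gen.ok = true := by decide +kernel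
theorem wU_ok : wU.all Gen.ok = true := by decide +kernel

theorem e8L_mem : toFn e8L ∈ leechLattice := by rw [toFn_e8L]; exact (u8 none).2

/-- `z` maps `8 e_∞` to `w4`. -/
theorem z_smul_u8 : ((wordCo0 wZ • u8 none : leechLattice) : GolayPt → ℤ) = toFn w4L := by
  have h := actWord_spec wZ wZ_ok e8L e8L_mem
  have e : actWord wZ e8L = w4L := by decide +kernel
  rw [e] at h
  rw [h]
  congr 2
  exact Subtype.ext toFn_e8L.symm

theorem zd_comm : wordCo0 wZ * wordCo0 wD = wordCo0 wD * wordCo0 wZ := by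
  rw [← wordCo0_append, ← wordCo0_append]
  apply wordCo0_eq_of_wordEq
  · rw [List.all_append, wD_ok, wZ_ok]; rfl
  · rw [List.all_append, wD_ok, wZ_ok]; rfl
  · decide +kernel

theorem z_mem : wordCo0 wZ ∈ C3 := K4_le (sg_mem_K4 wZ (by simp [sg]))

theorem image_d {g : Co0} (hg : g ∈ C3) (hc : g * wordCo0 wD = wordCo0 wD * g) :
    g • u8 none = u8 none ∨ g • u8 none = wordCo0 wZ • u8 none := by
  have hfix : pCo0 dM • (g • u8 none) = g • u8 none := by
    apply smul_fixed_of_comm (by rw [pCo0_dM]; exact hc)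
    exact pCo0_fix_u8 dM dM_none
  set y := g • u8 none with hy
  obtain ⟨a, ha⟩ : ∃ a, a = (y : GolayPt → ℤ) (gPt 23) := ⟨_, rfl⟩
  obtain ⟨b, hb⟩ : ∃ b, b = (y : GolayPt → ℤ) (gPt 0) := ⟨_, rfl⟩
  obtain ⟨p, hp⟩ : ∃ p, p = (y : GolayPt → ℤ) (gPt 1) := ⟨_, rfl⟩
  obtain ⟨q, hq⟩ : ∃ q, q = (y : GolayPt → ℤ) (gPt 5) := ⟨_, rfl⟩
  have hY : (y : GolayPt → ℤ) = toFn [b, p, p, p, p, q, p, q, p, p, q, q, p, p, q, q, p, q, p, q, q, q, q, a] := by
    apply eq_toFn_of_coords
    intro k hk
    interval_cases k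
    · rw [← hb]; rfl
    · have e : (evalPt dw)^[0] 1 = 1 := by decide +kernel
      have := idx_iter_of_fixed dw hfix 1 (by norm_num) 0
      rw [e] at this
      rw [this, ← hp]; rfl
    · have e : (evalPt dw)^[1] 1 = 2 := by decide +kernel
      have := idx_iter_of_fixed dw hfix 1 (by norm_num) 1
      rw [e] at this
      rw [this, ← hp]; rfl
    · have e : (evalPt dw)^[8] 1 = 3 := by decide +kernel
      have := idx_iter_of_fixed dw hfix 1 (by norm_num) 8
      rw [e] at this
      rw [this, ← hp]; rfl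
    · have e : (evalPt dw)^[2] 1 = 4 := by decide +kernel
      have := idx_iter_of_fixed dw hfix 1 (by norm_num) 2
      rw [e] at this
      rw [this, ← hp]; rfl
    · have e : (evalPt dw)^[0] 5 = 5 := by decide +kernel
      have := idx_iter_of_fixed dw hfix 5 (by norm_num) 0
      rw [e] at this
      rw [this, ← hq]; rfl
    · have e : (evalPt dw)^[9] 1 = 6 := by decide +kernel
      have := idx_iter_of_fixed dw hfix 1 (by norm_num) 9
      rw [e] at this
      rw [this, ← hp]; rfl
    · have e : (evalPt dw)^[9] 5 = 7 := by decide +kernel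
      have := idx_iter_of_fixed dw hfix 5 (by norm_num) 9
      rw [e] at this
      rw [this, ← hq]; rfl
    · have e : (evalPt dw)^[3] 1 = 8 := by decide +kernel
      have := idx_iter_of_fixed dw hfix 1 (by norm_num) 3
      rw [e] at this
      rw [this, ← hp]; rfl
    · have e : (evalPt dw)^[5] 1 = 9 := by decide +kernel
      have := idx_iter_of_fixed dw hfix 1 (by norm_num) 5
      rw [e] at this
      rw [this, ← hp]; rfl
    · have e : (evalPt dw)^[1] 5 = 10 := by decide +kernel
      have := idx_iter_of_fixed dw hfix 5 (by norm_num) 1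
      rw [e] at this
      rw [this, ← hq]; rfl
    · have e : (evalPt dw)^[4] 5 = 11 := by decide +kernel
      have := idx_iter_of_fixed dw hfix 5 (by norm_num) 4
      rw [e] at this
      rw [this, ← hq]; rfl
    · have e : (evalPt dw)^[10] 1 = 12 := by decide +kernel
      have := idx_iter_of_fixed dw hfix 1 (by norm_num) 10
      rw [e] at this
      rw [this, ← hp]; rfl
    · have e : (evalPt dw)^[7] 1 = 13 := by decide +kernel
      have := idx_iter_of_fixed dw hfix 1 (by norm_num) 7
      rw [e] at this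
      rw [this, ← hp]; rfl
    · have e : (evalPt dw)^[10] 5 = 14 := by decide +kernel
      have := idx_iter_of_fixed dw hfix 5 (by norm_num) 10
      rw [e] at this
      rw [this, ← hq]; rfl
    · have e : (evalPt dw)^[8] 5 = 15 := by decide +kernel
      have := idx_iter_of_fixed dw hfix 5 (by norm_num) 8
      rw [e] at this
      rw [this, ← hq]; rfl
    · have e : (evalPt dw)^[4] 1 = 16 := by decide +kernel
      have := idx_iter_of_fixed dw hfix 1 (by norm_num) 4
      rw [e] at this
      rw [this, ← hp]; rfl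
    · have e : (evalPt dw)^[3] 5 = 17 := by decide +kernel
      have := idx_iter_of_fixed dw hfix 5 (by norm_num) 3
      rw [e] at this
      rw [this, ← hq]; rfl
    · have e : (evalPt dw)^[6] 1 = 18 := by decide +kernel
      have := idx_iter_of_fixed dw hfix 1 (by norm_num) 6
      rw [e] at this
      rw [this, ← hp]; rfl
    · have e : (evalPt dw)^[7] 5 = 19 := by decide +kernel
      have := idx_iter_of_fixed dw hfix 5 (by norm_num) 7
      rw [e] at this
      rw [this, ← hq]; rfl
    · have e : (evalPt dw)^[2] 5 = 20 := by decide +kernel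
      have := idx_iter_of_fixed dw hfix 5 (by norm_num) 2
      rw [e] at this
      rw [this, ← hq]; rfl
    · have e : (evalPt dw)^[6] 5 = 21 := by decide +kernel
      have := idx_iter_of_fixed dw hfix 5 (by norm_num) 6
      rw [e] at this
      rw [this, ← hq]; rfl
    · have e : (evalPt dw)^[5] 5 = 22 := by decide +kernel
      have := idx_iter_of_fixed dw hfix 5 (by norm_num) 5
      rw [e] at this
      rw [this, ← hq]; rfl
    · rw [← ha]; rfl
  obtain ⟨n1, n2⟩ := norm_dot_image hg
  rw [← hy, hY] at n1 n2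
  rw [← sqNorm_spec] at n1
  rw [← toFn_v3, ← dotL_spec] at n2
  simp only [dotL, List.range_succ, List.range_zero, List.nil_append, List.cons_append, List.map_cons,
    List.map_nil, List.sum_cons, List.sum_nil, nth, v3] at n1 n2
  rcases dioph_d a b p q (by linarith) (by linarith) with ⟨rfl, rfl, rfl, rfl⟩ | ⟨rfl, rfl, rfl, rfl⟩ |
    ⟨rfl, rfl, rfl, rfl⟩
  · left
    apply Subtype.ext
    rw [hY]
    exact toFn_e8L
  · right
    apply Subtype.ext
    rw [hY, z_smul_u8]
    rfl
  · exfalso
    have hoct : toFn octL ∈ leechLattice := mem_of_inLeech (by decide +kernel)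
    have h8 := eight_dvd_dotInt hoct y.2
    rw [hY, ← dotL_spec] at h8
    revert h8
    decide +kernel

/-- The centralizer of `d` in `C3` consists of the elements `d ^ j` and `z d ^ j`. -/
theorem centralizer_dC {g : Co0} (hg : g ∈ C3) (hc : g * wordCo0 wD = wordCo0 wD * g) :
    (∃ j < 11, g = wordCo0 wD ^ j) ∨ (∃ j < 11, g = wordCo0 wZ * wordCo0 wD ^ j) := by
  have key : ∀ g : Co0, g ∈ C3 → g * wordCo0 wD = wordCo0 wD * g → g • u8 none = u8 none →
      ∃ j < 11, g = wordCo0 wD ^ j := by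
    intro g hg hc hfix
    obtain ⟨σ, -, rfl⟩ := perm_of_fix_u8 hg hfix
    rw [← pCo0_dM] at hc
    have h1 := comm_of_pCo0_comm hc
    have hmem := centralizer_d σ.2 h1
    classical
    rw [mem_zpowers_iff_mem_range_orderOf, d_order, Finset.mem_image] at hmem
    obtain ⟨j, hj, hjc⟩ := hmem
    rw [Finset.mem_range] at hj
    refine ⟨j, hj, ?_⟩
    rw [← pCo0_dM, ← pCo0_pow]
    congr 1
    apply Subtype.ext
    rw [Subgroup.coe_pow]
    exact hjc.symm
  rcases image_d hg hc with h | h
  · left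
    exact key g hg hc h
  · right
    have h1 : ((wordCo0 wZ)⁻¹ * g) • u8 none = u8 none := by
      rw [mul_smul, h, inv_smul_smul]
    have h2 : (wordCo0 wZ)⁻¹ * g ∈ C3 := Subgroup.mul_mem _ (Subgroup.inv_mem _ z_mem) hg
    have h3 : (wordCo0 wZ)⁻¹ * g * wordCo0 wD = wordCo0 wD * ((wordCo0 wZ)⁻¹ * g) := by
      have e1 : (wordCo0 wZ)⁻¹ * wordCo0 wD = wordCo0 wD * (wordCo0 wZ)⁻¹ := by
        rw [inv_mul_eq_iff_eq_mul, ← mul_assoc, zd_comm, mul_assoc, mul_inv_cancel, mul_one]
      rw [mul_assoc, hc, ← mul_assoc, e1, mul_assoc]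
    obtain ⟨j, hj, hjg⟩ := key _ h2 h3 h1
    refine ⟨j, hj, ?_⟩
    rw [← hjg, mul_inv_cancel_left]

end Co3Out

end Cfsg.Agent.Lib.H27
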