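/-
helper27 library: words in the elementary elements of `Co0` as group elements (products, powers, patterns),
a test showing that a word is not the identity, and the relations and relators used for the automorphisms
of `Co3`.
-/
import Mathlib
import Cfsg.Prelude.Def_Spor_Conway
import Cfsg.Agent.Lib.H27.Co3Cent
import Cfsg.Agent.Lib.H27.AutRigid2

set_option autoImplicit false

namespace Cfsg.Agent.Lib.H27

open Cfsg MulAction Cfsg.Agent.Lib.H28 Cfsg.Agent.Lib.H27.Eng

namespace Co3Out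

open Co3GenData OutM AutRigid

/-! ### Word algebra -/

/-- The word of a product. -/
def wmul (wa wb : List Gen) : List Gen := wb ++ wa

theorem wordCo0_wmul (wa wb : List Gen) : wordCo0 (wmul wa wb) = wordCo0 wa * wordCo0 wb :=
  wordCo0_append wb wa

theorem wmul_ok {wa wb : List Gen} (ha : wa.all Gen.ok = true) (hb : wb.all Gen.ok = true) :
    (wmul wa wb).all Gen.ok = true := by
  unfold wmul
  rw [List.all_append, ha, hb]
  rfl

/-- The word of a power. -/
def wpow (w : List Gen) : ℕ → List Gen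
  | 0 => []
  | n + 1 => wmul w (wpow w n)

theorem wordCo0_wpow (w : List Gen) (n : ℕ) : wordCo0 (wpow w n) = wordCo0 w ^ n := by
  induction n with
  | zero => rfl
  | succ n ih =>
    show wordCo0 (wmul w (wpow w n)) = _
    rw [wordCo0_wmul, ih, pow_succ']

theorem wpow_ok {w : List Gen} (h : w.all Gen.ok = true) (n : ℕ) : (wpow w n).all Gen.ok = true := by
  induction n with
  | zero => rfl
  | succ n ih => exact wmul_ok h ih

/-- The word of a pattern. -/
def patW (vals : ℕ → List Gen) : List ℕ → List Gen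
  | [] => []
  | a :: r => wmul (vals a) (patW vals r)

theorem wordCo0_patW (vals : ℕ → List Gen) (pat : List ℕ) :
    wordCo0 (patW vals pat) = evalPat (fun i => wordCo0 (vals i)) pat := by
  induction pat with
  | nil => rfl
  | cons a r ih =>
    show wordCo0 (wmul (vals a) (patW vals r)) = _
    rw [wordCo0_wmul, ih]
    unfold evalPat
    rw [List.map_cons, List.prod_cons]

theorem patW_ok {vals : ℕ → List Gen} (h : ∀ i, (vals i).all Gen.ok = true) (pat : List ℕ) :
    (patW vals pat).all Gen.ok = true := by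
  induction pat with
  | nil => rfl
  | cons a r ih => exact wmul_ok (h a) ih

/-! ### A test for non-identity -/

/-- The word moves the vector. -/
def moves (w : List Gen) (b : V) : Bool :=
  forceList (actWordF w b) (fun y => (List.range 24).any (fun k => decide (nth y k ≠ nth b k)))

/-- The word moves one of the generators of the lattice. -/
def wordMoves (w : List Gen) : Bool := genLists.any (moves w)

theorem ne_one_of_wordMoves {w : List Gen} (hok : w.all Gen.ok = true) (h : wordMoves w = true) :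
    wordCo0 w ≠ 1 := by
  intro h1
  unfold wordMoves at h
  rw [List.any_eq_true] at h
  obtain ⟨b, hb, hm⟩ := h
  unfold moves at hm
  rw [forceList_eq, actWordF_eq, List.any_eq_true] at hm
  obtain ⟨k, hk, hne⟩ := hm
  rw [List.mem_range] at hk
  rw [decide_eq_true_eq] at hne
  apply hne
  have hbL := genLists_mem hb
  have h2 := actWord_spec w hok b hbL
  rw [h1, one_smul] at h2
  exact nth_of_toFn_eq h2 hk

/-! ### The inverse of `s` -/

/-- The word of `s⁻¹`. -/
def wSi : List Gen := [Gen.mono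
  [22, 0, 1, 2, 3, 4, 5, 6, 7, 8, 9, 10, 11, 12, 13, 14, 15, 16, 17, 18, 19, 20, 21, 23]
  [1, 2, 3, 4, 5, 6, 7, 8, 9, 10, 11, 12, 13, 14, 15, 16, 17, 18, 19, 20, 21, 22, 0, 23] 0]

theorem wSi_ok : wSi.all Gen.ok = true := by decide +kernel

theorem wordCo0_wSi : wordCo0 wSi = (wordCo0 wS)⁻¹ := by
  rw [eq_inv_iff_mul_eq_one, ← wordCo0_wmul]
  exact wordCo0_eq_oneF (wmul_ok wSi_ok wS_ok) (by decide +kernel)

/-! ### Relations -/

theorem z_sq : wordCo0 wZ ^ 2 = 1 := by
  rw [← wordCo0_wpow]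
  exact wordCo0_eq_oneF (wpow_ok wZ_ok 2) (by decide +kernel)

theorem u_pow5 : wordCo0 wU ^ 5 = 1 := by
  rw [← wordCo0_wpow]
  exact wordCo0_eq_oneF (wpow_ok wU_ok 5) (by decide +kernel)

theorem d_pow11 : wordCo0 wD ^ 11 = 1 := by
  rw [← wordCo0_wpow]
  exact wordCo0_eq_oneF (wpow_ok wD_ok 11) (by decide +kernel)

theorem zu_comm : wordCo0 wZ * wordCo0 wU = wordCo0 wU * wordCo0 wZ := by
  rw [← wordCo0_wmul, ← wordCo0_wmul]
  exact wordCo0_eq_of_wordEq (wmul_ok wZ_ok wU_ok) (wmul_ok wU_ok wZ_ok) (by decide +kernel)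

theorem ds_rel : wordCo0 wD * wordCo0 wS = wordCo0 wS ^ 2 * wordCo0 wD := by
  rw [← wordCo0_wpow, ← wordCo0_wmul, ← wordCo0_wmul]
  exact wordCo0_eq_of_wordEq (wmul_ok wD_ok wS_ok) (wmul_ok (wpow_ok wS_ok 2) wD_ok) (by decide +kernel)

theorem ud_rel : wordCo0 wU * wordCo0 wD = wordCo0 wD ^ 3 * wordCo0 wU := by
  rw [← wordCo0_wpow, ← wordCo0_wmul, ← wordCo0_wmul]
  exact wordCo0_eq_of_wordEq (wmul_ok wU_ok wD_ok) (wmul_ok (wpow_ok wD_ok 3) wU_ok) (by decide +kernel)

/-- Simplification of `u z (d z) ^ j`. -/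
theorem uz_dz_pow {G : Type*} [Group G] (U D Z : G) (hz : Z ^ 2 = 1) (hdz : Z * D = D * Z) (j : ℕ) :
    U * Z * (D * Z) ^ j = U * (D ^ j * Z ^ ((j + 1) % 2)) := by
  have hc : Commute D Z := hdz.symm
  rw [hc.mul_pow, mul_assoc U, ← mul_assoc Z, (hc.symm.pow_right j).eq, mul_assoc (D ^ j), ← pow_succ',
    pow_eq_pow_mod (j + 1) hz]

/-! ### The relators -/

/-- The relators: `(s u' u')^5` and `(s d s u')^7`, where `u' = u z`. -/
def rels3 : List (List ℕ × ℕ) := [([0, 2, 2], 5), ([0, 1, 0, 2], 7)]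

/-- The words of the candidate images: `s` or `s⁻¹`, `d`, and `u z (d z) ^ j`. -/
def valsW (e : Bool) (j : ℕ) (i : ℕ) : List Gen :=
  match i with
  | 0 => if e then wS else wSi
  | 1 => wD
  | 2 => wmul wU (wmul (wpow wD j) (wpow wZ ((j + 1) % 2)))
  | _ => []

theorem valsW_ok (e : Bool) (j : ℕ) (i : ℕ) : (valsW e j i).all Gen.ok = true := by
  match i with
  | 0 =>
    cases e
    · exact wSi_ok
    · exact wS_ok
  | 1 => exact wD_ok
  | 2 => exact wmul_ok wU_ok (wmul_ok (wpow_ok wD_ok j) (wpow_ok wZ_ok _))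
  | (i + 3) => rfl

theorem wordCo0_valsW (e : Bool) (j : ℕ) (i : ℕ) :
    wordCo0 (valsW e j i) = [if e then wordCo0 wS else (wordCo0 wS)⁻¹, wordCo0 wD,
      wordCo0 wU * wordCo0 wZ * (wordCo0 wD * wordCo0 wZ) ^ j].getD i 1 := by
  match i with
  | 0 =>
    cases e
    · exact wordCo0_wSi
    · rfl
  | 1 => rfl
  | 2 =>
    show wordCo0 (wmul wU (wmul (wpow wD j) (wpow wZ ((j + 1) % 2)))) = _
    rw [wordCo0_wmul, wordCo0_wmul, wordCo0_wpow, wordCo0_wpow]
    exact (uz_dz_pow _ _ _ z_sq zd_comm j).symm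
  | (i + 3) => rfl

/-- The word of a relator at a candidate. -/
def relW (e : Bool) (j : ℕ) (r : List ℕ × ℕ) : List Gen := wpow (patW (valsW e j) r.1) r.2

theorem relW_ok (e : Bool) (j : ℕ) (r : List ℕ × ℕ) : (relW e j r).all Gen.ok = true :=
  wpow_ok (patW_ok (valsW_ok e j) r.1) r.2

theorem wordCo0_relW (e : Bool) (j : ℕ) (r : List ℕ × ℕ) :
    wordCo0 (relW e j r) = (evalPat (fun i => [if e then wordCo0 wS else (wordCo0 wS)⁻¹, wordCo0 wD,
      wordCo0 wU * wordCo0 wZ * (wordCo0 wD * wordCo0 wZ) ^ j].getD i 1) r.1) ^ r.2 := by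
  unfold relW
  rw [wordCo0_wpow, wordCo0_patW]
  congr 2
  funext i
  exact wordCo0_valsW e j i

end Co3Out

end Cfsg.Agent.Lib.H27
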