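/-
helper27 library: centralizers in the McLaughlin group `MC ≤ Co0` of the element `s = wD` of order 11 (it is
`⟨s⟩`) and of the element `d = wU` of order 5 (it is `⟨c⟩ × ⟨d⟩` of order 25).
-/
import Mathlib
import Cfsg.Prelude.Def_Spor_Conway
import Cfsg.Agent.Lib.H27.McLOutGen

set_option autoImplicit false

namespace Cfsg.Agent.Lib.H27

open Cfsg MulAction Cfsg.Agent.Lib.H28 Cfsg.Agent.Lib.H27.Eng

namespace McLOut

open Co3GenData McLOutData OutM Co3Out AutRigid

theorem wC_ok : wC.all Gen.ok = true := by decide +kernel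
theorem wV_ok : wV.all Gen.ok = true := by decide +kernel

/-! ### The centralizer of `s` -/

theorem z_smul_U : wordCo0 wZ • Spor.leechU = WP := by
  rw [← mkL_uL, ← mkL_wpL, mkL_of_mem uL_L, mkL_of_mem wpL_L]
  apply Subtype.ext
  rw [← actWord_spec wZ wZ_ok uL uL_L]
  have : actWord wZ uL = wpL := by decide +kernel
  rw [this]

theorem z_smul_WP : wordCo0 wZ • WP = Spor.leechU := by
  rw [← mkL_uL, ← mkL_wpL, mkL_of_mem uL_L, mkL_of_mem wpL_L]
  apply Subtype.ext
  rw [← actWord_spec wZ wZ_ok wpL wpL_L]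
  have : actWord wZ wpL = uL := by decide +kernel
  rw [this]

theorem WP_ne_U : WP ≠ Spor.leechU := by
  intro h
  have h1 := congrArg (fun x : leechLattice => (x : GolayPt → ℤ) none) h
  rw [← mkL_wpL, mkL_of_mem wpL_L] at h1
  revert h1
  show toFn wpL none = Spor.vecU none → False
  decide +kernel

theorem wD_mem : wordCo0 wD ∈ MC := word_memM (by simp [sgM])
theorem wU_mem : wordCo0 wU ∈ MC := word_memM (by simp [sgM])
theorem wV_mem : wordCo0 wV ∈ MC := word_memM (by simp [sgM])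
theorem wC_mem : wordCo0 wC ∈ MC := word_memM (by simp [sgM])

/-- The centralizer of `s` in `MC` is `⟨s⟩`. -/
theorem centralizer_sM {g : Co0} (hg : g ∈ MC) (hc : g * wordCo0 wD = wordCo0 wD * g) :
    ∃ j < 11, g = wordCo0 wD ^ j := by
  rcases centralizer_dC (MC_le_C3 hg) hc with h | ⟨j, hj, hjg⟩
  · exact h
  · exfalso
    have h1 : g • Spor.leechU = Spor.leechU := smul_U hg
    have h2 : wordCo0 wD ^ j • Spor.leechU = Spor.leechU := smul_U (Subgroup.pow_mem _ wD_mem j)
    rw [hjg, mul_smul, h2, z_smul_U] at h1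
    exact WP_ne_U h1

/-! ### The points fixed by `d` -/

/-- The 2025 points. -/
abbrev XM : Set leechLattice := mcl2Set Spor.leechU WP

theorem ncard_XM : XM.ncard = 2025 := ncard_mcl2Set _ _ sqNorm_U sqNorm_WP dot_U_WP

theorem xroot_memX : mkL xroot ∈ XM := by
  rw [mkL_of_mem xroot_L]
  refine ⟨?_, ?_, ?_⟩
  · show sqNorm (toFn xroot) = 32
    rw [← sqNorm_spec]
    decide +kernel
  · show dotInt Spor.vecU (toFn xroot) = 0
    rw [← toFn_uL, ← dotL_spec]
    decide +kernel
  · show dotInt (WP : GolayPt → ℤ) (toFn xroot) = 16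
    rw [← toFn_wpL, ← dotL_spec]
    decide +kernel

theorem smul_memX {g : Co0} (hg : g ∈ MC) {x : leechLattice} (hx : x ∈ XM) : g • x ∈ XM := by
  have := smul_mem_mcl2Set g hx
  rwa [smul_U hg, smul_WP hg] at this

theorem mem_MC_of_fixes {g : Co0} (hg : Fixes g [v3, uL]) : g ∈ MC := by
  refine ⟨mem_stabilizer_iff.2 ?_, mem_stabilizer_iff.2 ?_⟩
  · rw [← mkL_v3, mkL_of_mem v3_mem]
    exact hg v3 (by simp) v3_mem
  · rw [← mkL_uL, mkL_of_mem uL_L]
    exact hg uL (by simp) uL_L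

/-- The forest enumerates the 2025 points. -/
theorem orbListM : OrbList [v3, uL] xroot (forestList sgM mchunks) ∧ (forestList sgM mchunks).length = 2025 := by
  obtain ⟨hnd, hall, hlen⟩ := forest_listK (K := K4M) sgM_ok sgM_mem_K4M xroot_L mall_ok mlink_ok mmerge_ok
  refine ⟨⟨hnd, fun y hy => (hall y hy).1, ?_⟩, hlen⟩
  intro y hy
  obtain ⟨g, hg, hx0, hgy⟩ := (hall y hy).2
  have hgM : g ∈ MC := K4M_le hg
  refine ⟨g, ?_, hx0, hgy⟩
  intro t ht htL
  simp only [List.mem_cons, List.not_mem_nil, or_false] at ht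
  rcases ht with rfl | rfl
  · have := smul_V hgM
    rw [← mkL_v3, mkL_of_mem v3_mem] at this
    exact this
  · have := smul_U hgM
    rw [← mkL_uL, mkL_of_mem uL_L] at this
    exact this

theorem coverM : ∀ x ∈ XM, ∃ y ∈ forestList sgM mchunks, mkL y = x := by
  apply orbListM.1.cover XM xroot_memX
  · intro g hg x hx
    exact smul_memX (mem_MC_of_fixes hg) hx
  · rw [orbListM.2]; norm_num
  · rw [orbListM.2]; exact ncard_XM

theorem u_fix_xroot : wordCo0 wU • mkL xroot = mkL xroot := by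
  rw [← fixedBy_iff wU wU_ok xroot xroot_L]
  decide +kernel

/-- The points fixed by `d` are the images of the root under the powers of `c`. -/
theorem fixed_points {x : leechLattice} (hx : x ∈ XM) (hfix : wordCo0 wU • x = x) :
    ∃ k < 5, x = wordCo0 wC ^ k • mkL xroot := by
  obtain ⟨y, hy, rfl⟩ := coverM x hx
  have hyL : toFn y ∈ leechLattice := (orbListM.1.inOrb y hy).mem
  have hp : fixedBy wU y = true := (fixedBy_iff wU wU_ok y hyL).2 hfix
  have hmem : y ∈ (forestList sgM mchunks).filter (fixedBy wU) := List.mem_filter.2 ⟨hy, hp⟩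
  have h5 := fix_filter
  rw [List.all_eq_true] at h5
  have h6 := h5 y hmem
  rw [List.contains_iff_mem] at h6
  rw [fix5_eq] at h6
  simp only [List.mem_cons, List.not_mem_nil, or_false] at h6
  have hact : ∀ w : List Gen, w.all Gen.ok = true → mkL (actWord w xroot) = wordCo0 w • mkL xroot := by
    intro w hw
    have h1 := actWord_spec w hw xroot xroot_L
    have h2 : toFn (actWord w xroot) ∈ leechLattice := by
      rw [h1]; exact (wordCo0 w • (⟨toFn xroot, xroot_L⟩ : leechLattice)).2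
    rw [mkL_of_mem h2, mkL_of_mem xroot_L]
    exact Subtype.ext h1
  have hok2 : (wC ++ wC).all Gen.ok = true := by rw [List.all_append, wC_ok]; rfl
  have hok3 : (wC ++ wC ++ wC).all Gen.ok = true := by rw [List.all_append, hok2, wC_ok]; rfl
  have hok4 : (wC ++ wC ++ wC ++ wC).all Gen.ok = true := by rw [List.all_append, hok3, wC_ok]; rfl
  rcases h6 with rfl | rfl | rfl | rfl | rfl
  · exact ⟨0, by norm_num, by rw [pow_zero, one_smul]⟩
  · exact ⟨1, by norm_num, by rw [hact wC wC_ok, pow_one]⟩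
  · refine ⟨2, by norm_num, ?_⟩
    rw [hact _ hok2, wordCo0_append, ← pow_two]
  · refine ⟨3, by norm_num, ?_⟩
    rw [hact _ hok3, wordCo0_append, wordCo0_append, ← pow_two, ← pow_succ']
  · refine ⟨4, by norm_num, ?_⟩
    rw [hact _ hok4, wordCo0_append, wordCo0_append, wordCo0_append, ← pow_two, ← pow_succ', ← pow_succ']

/-! ### The centralizer of `d` -/

theorem cu_comm : wordCo0 wC * wordCo0 wU = wordCo0 wU * wordCo0 wC := by
  rw [← wordCo0_wmul, ← wordCo0_wmul]
  exact wordCo0_eq_of_wordEq (wmul_ok wC_ok wU_ok) (wmul_ok wU_ok wC_ok) (by decide +kernel)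

noncomputable def uM : ↥M24 := ⟨wordPerm uw, wordPerm_mem_M24 uw⟩

theorem pCo0_uM : pCo0 uM = wordCo0 wU := pCo0_u

theorem u8_eq : u8 none = Spor.leechU + mkL xroot := by
  rw [mkL_of_mem xroot_L]
  apply Subtype.ext
  funext p
  show (Pi.single none 8 : GolayPt → ℤ) p = Spor.vecU p + toFn xroot p
  revert p
  decide +kernel

/-- An element of `MC` fixing the root is a coordinate permutation of `M22`. -/
theorem perm_of_fix_xroot {g : Co0} (hg : g ∈ MC) (hfix : g • mkL xroot = mkL xroot) :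
    ∃ σ : ↥M24, σ.1 ∈ Spor.M22 ∧ g = pCo0 σ := by
  have h8 : g • u8 none = u8 none := by rw [u8_eq, Co0_smul_add, smul_U hg, hfix]
  obtain ⟨σ, hσ, rfl⟩ := perm_of_fix_u8 (MC_le_C3 hg) h8
  refine ⟨σ, ?_, rfl⟩
  rw [mem_M22]
  refine ⟨σ.2, hσ, ?_⟩
  have hU := smul_U hg
  have h1 := congrArg (fun x : leechLattice => (x : GolayPt → ℤ) (some 0)) hU
  simp only [pCo0_smul] at h1
  have hn' : σ.1.symm none = none := by rw [Equiv.symm_apply_eq, hσ]
  have key : ∀ p : GolayPt, Spor.vecU p = Spor.vecU (some 0) → p = none ∨ p = some 0 := by decide +kernel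
  have h2 : σ.1.symm (some 0) = none ∨ σ.1.symm (some 0) = some 0 := key _ h1
  rcases h2 with h2 | h2
  · exfalso
    rw [← hn'] at h2
    have := σ.1.symm.injective h2
    exact absurd this (by simp)
  · rw [Equiv.symm_apply_eq] at h2
    exact h2.symm

/-- The centralizer of `d` in `MC` consists of the elements `c ^ k d ^ j`. -/
theorem centralizer_dM {g : Co0} (hg : g ∈ MC) (hc : g * wordCo0 wU = wordCo0 wU * g) :
    ∃ k < 5, ∃ j < 5, g = wordCo0 wC ^ k * wordCo0 wU ^ j := by
  have hfix : wordCo0 wU • (g • mkL xroot) = g • mkL xroot :=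
    smul_fixed_of_comm hc u_fix_xroot
  obtain ⟨k, hk, hgk⟩ := fixed_points (smul_memX hg xroot_memX) hfix
  set h := (wordCo0 wC ^ k)⁻¹ * g with hh
  have hhM : h ∈ MC := Subgroup.mul_mem _ (Subgroup.inv_mem _ (Subgroup.pow_mem _ wC_mem k)) hg
  have hhfix : h • mkL xroot = mkL xroot := by
    rw [hh, mul_smul, hgk, inv_smul_smul]
  have hhc : h * wordCo0 wU = wordCo0 wU * h := by
    have e1 : Commute (wordCo0 wC ^ k) (wordCo0 wU) := (show Commute (wordCo0 wC) (wordCo0 wU) from cu_comm).pow_left k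
    have e2 : Commute ((wordCo0 wC ^ k)⁻¹) (wordCo0 wU) := e1.inv_left
    rw [hh, mul_assoc, hc, ← mul_assoc, e2.eq, mul_assoc]
  obtain ⟨σ, hσ, hσg⟩ := perm_of_fix_xroot hhM hhfix
  rw [hσg, ← pCo0_uM] at hhc
  have h1 := comm_of_pCo0_comm hhc
  obtain ⟨j, hj, hjc⟩ := data22.hA3 ⟨σ.1, hσ⟩ (Subtype.ext h1)
  refine ⟨k, hk, j, hj, ?_⟩
  have h2 : σ = uM ^ j := by
    apply Subtype.ext
    have := congrArg (fun x : ↥Spor.M22 => (x : Equiv.Perm GolayPt)) hjc
    simp only [Subgroup.coe_pow] at this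
    rw [Subgroup.coe_pow]
    exact this
  have h3 : h = wordCo0 wU ^ j := by rw [hσg, h2, pCo0_pow, pCo0_uM]
  rw [← h3, hh, mul_inv_cancel_left]

end McLOut

end Cfsg.Agent.Lib.H27
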