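/-
helper27 library: relations in the McLaughlin group `MC ≤ Co0` between the generators `s = wD`, `d = wU`,
`v = wV`, `c = wC`, their images under conjugation by the involution `z = wZ`, and the two relators pinning down
the images of the generators under an automorphism; the words of the candidate images.
-/
import Mathlib
import Cfsg.Prelude.Def_Spor_Conway
import Cfsg.Agent.Lib.H27.McLOutCent

set_option autoImplicit false

namespace Cfsg.Agent.Lib.H27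

open Cfsg MulAction Cfsg.Agent.Lib.H28 Cfsg.Agent.Lib.H27.Eng

namespace McLOut

open Co3GenData McLOutData OutM Co3Out AutRigid

/-! ### Relations -/

theorem wordCo0_wDi : wordCo0 wDi = (wordCo0 wD)⁻¹ := by
  rw [eq_inv_iff_mul_eq_one, ← wordCo0_wmul]
  exact wordCo0_eq_oneF (wmul_ok wDi_ok wD_ok) (by decide +kernel)

theorem c_pow5 : wordCo0 wC ^ 5 = 1 := by
  rw [← wordCo0_wpow]
  exact wordCo0_eq_oneF (wpow_ok wC_ok 5) (by decide +kernel)

theorem vu_rel : wordCo0 wV * wordCo0 wU = wordCo0 wU ^ 2 * wordCo0 wV := by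
  rw [← wordCo0_wpow, ← wordCo0_wmul, ← wordCo0_wmul]
  exact wordCo0_eq_of_wordEq (wmul_ok wV_ok wU_ok) (wmul_ok (wpow_ok wU_ok 2) wV_ok) (by decide +kernel)

/-- `z v z⁻¹ = v c³ d²`. -/
theorem zv_rel : wordCo0 wZ * wordCo0 wV =
    wordCo0 wV * (wordCo0 wC ^ 3 * wordCo0 wU ^ 2) * wordCo0 wZ := by
  rw [← wordCo0_wpow, ← wordCo0_wpow, ← wordCo0_wmul, ← wordCo0_wmul, ← wordCo0_wmul, ← wordCo0_wmul]
  exact wordCo0_eq_of_wordEq (wmul_ok wZ_ok wV_ok)
    (wmul_ok (wmul_ok wV_ok (wmul_ok (wpow_ok wC_ok 3) (wpow_ok wU_ok 2))) wZ_ok) (by decide +kernel)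

/-- `z c z⁻¹ = c⁴ d²`. -/
theorem zc_rel : wordCo0 wZ * wordCo0 wC = (wordCo0 wC ^ 4 * wordCo0 wU ^ 2) * wordCo0 wZ := by
  rw [← wordCo0_wpow, ← wordCo0_wpow, ← wordCo0_wmul, ← wordCo0_wmul, ← wordCo0_wmul]
  exact wordCo0_eq_of_wordEq (wmul_ok wZ_ok wC_ok)
    (wmul_ok (wmul_ok (wpow_ok wC_ok 4) (wpow_ok wU_ok 2)) wZ_ok) (by decide +kernel)

/-- `c³ d² ≠ 1`. -/
theorem c3d2_ne_one : wordCo0 wC ^ 3 * wordCo0 wU ^ 2 ≠ 1 := by
  rw [← wordCo0_wpow, ← wordCo0_wpow, ← wordCo0_wmul]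
  exact ne_one_of_wordMoves (wmul_ok (wpow_ok wC_ok 3) (wpow_ok wU_ok 2)) (by decide +kernel)

/-! ### The relators -/

/-- The word of `c⁻¹`. -/
def wCi : List Gen := [Gen.mono [0, 16, 13, 1, 18, 2, 6, 5, 15, 19, 14, 9, 8, 11, 22, 21, 10, 4, 12, 7, 3, 17, 20, 23] [0, 3, 5, 20, 17, 7, 6, 19, 12, 11, 16, 13, 18, 2, 10, 8, 1, 21, 4, 9, 22, 15, 14, 23] 0, Gen.xi, Gen.mono [0, 23, 3, 2, 13, 5, 19, 11, 21, 18, 7, 22, 15, 6, 14, 9, 8, 17, 12, 4, 16, 20, 10, 1] [0, 23, 3, 2, 19, 5, 13, 10, 16, 15, 22, 7, 18, 4, 14, 12, 20, 17, 9, 6, 21, 8, 11, 1] 0, Gen.xi, Gen.mono [0, 15, 12, 13, 22, 16, 18, 7, 19, 11, 17, 14, 4, 1, 8, 20, 3, 9, 2, 10, 5, 6, 21, 23] [0, 13, 18, 16, 12, 20, 21, 7, 14, 17, 19, 9, 2, 3, 11, 1, 5, 10, 6, 8, 15, 22, 4, 23] 0]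

theorem wCi_ok : wCi.all Gen.ok = true := by decide +kernel

theorem wordCo0_wCi : wordCo0 wCi = (wordCo0 wC)⁻¹ := by
  rw [eq_inv_iff_mul_eq_one, ← wordCo0_wmul]
  exact wordCo0_eq_oneF (wmul_ok wCi_ok wC_ok) (by decide +kernel)

/-- Short words for the powers of `c`. -/
def cpowW : ℕ → List Gen
  | 0 => []
  | 1 => wC
  | 2 => wmul wC wC
  | 3 => wmul wCi wCi
  | 4 => wCi
  | _ => []

theorem cpowW_ok (a : ℕ) : (cpowW a).all Gen.ok = true := by
  match a with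
  | 0 => rfl
  | 1 => exact wC_ok
  | 2 => exact wmul_ok wC_ok wC_ok
  | 3 => exact wmul_ok wCi_ok wCi_ok
  | 4 => exact wCi_ok
  | (a + 5) => rfl

theorem wordCo0_cpowW (a : ℕ) (ha : a < 5) : wordCo0 (cpowW a) = wordCo0 wC ^ a := by
  have h5 := c_pow5
  interval_cases a
  · rfl
  · show wordCo0 wC = _
    rw [pow_one]
  · show wordCo0 (wmul wC wC) = _
    rw [wordCo0_wmul, pow_two]
  · show wordCo0 (wmul wCi wCi) = _
    rw [wordCo0_wmul, wordCo0_wCi, ← mul_inv_rev, ← pow_two, inv_eq_iff_eq_inv, eq_inv_iff_mul_eq_one, ← pow_add]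
    exact h5
  · show wordCo0 wCi = _
    rw [wordCo0_wCi, inv_eq_iff_eq_inv, eq_inv_iff_mul_eq_one, ← pow_succ']
    exact h5

/-- The relators: `(s v v s v v d)^2`, `(s s v d)^5` and `(s c v d d)^3`. -/
def relsM : List (List ℕ × ℕ) := [([0, 2, 2, 0, 2, 2, 1], 2), ([0, 0, 2, 1], 5), ([0, 3, 2, 1, 1], 3)]

/-- The words of the candidate images: `s` or `s⁻¹`, `d`, `v c^a d^b`, `c^i d^j`. -/
def valsM (e : Bool) (a b i j : ℕ) (n : ℕ) : List Gen :=
  match n with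
  | 0 => if e then wD else wDi
  | 1 => wU
  | 2 => wmul wV (wmul (cpowW a) (wpow wU b))
  | 3 => wmul (cpowW i) (wpow wU j)
  | _ => []

theorem valsM_ok (e : Bool) (a b i j : ℕ) (n : ℕ) : (valsM e a b i j n).all Gen.ok = true := by
  match n with
  | 0 =>
    cases e
    · exact wDi_ok
    · exact wD_ok
  | 1 => exact wU_ok
  | 2 => exact wmul_ok wV_ok (wmul_ok (cpowW_ok a) (wpow_ok wU_ok b))
  | 3 => exact wmul_ok (cpowW_ok i) (wpow_ok wU_ok j)
  | (n + 4) => rfl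

theorem wordCo0_valsM (e : Bool) (a b i j : ℕ) (ha : a < 5) (hi : i < 5) (n : ℕ) :
    wordCo0 (valsM e a b i j n) = [if e then wordCo0 wD else (wordCo0 wD)⁻¹, wordCo0 wU,
      wordCo0 wV * (wordCo0 wC ^ a * wordCo0 wU ^ b), wordCo0 wC ^ i * wordCo0 wU ^ j].getD n 1 := by
  match n with
  | 0 =>
    cases e
    · exact wordCo0_wDi
    · rfl
  | 1 => rfl
  | 2 =>
    show wordCo0 (wmul wV (wmul (cpowW a) (wpow wU b))) = _
    rw [wordCo0_wmul, wordCo0_wmul, wordCo0_wpow, wordCo0_cpowW a ha]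
    rfl
  | 3 =>
    show wordCo0 (wmul (cpowW i) (wpow wU j)) = _
    rw [wordCo0_wmul, wordCo0_wpow, wordCo0_cpowW i hi]
    rfl
  | (n + 4) => rfl

/-- The word of a relator at a candidate. -/
def relM (e : Bool) (a b i j : ℕ) (r : List ℕ × ℕ) : List Gen := wpow (patW (valsM e a b i j) r.1) r.2

theorem relM_ok (e : Bool) (a b i j : ℕ) (r : List ℕ × ℕ) : (relM e a b i j r).all Gen.ok = true :=
  wpow_ok (patW_ok (valsM_ok e a b i j) r.1) r.2

theorem wordCo0_relM (e : Bool) (a b i j : ℕ) (ha : a < 5) (hi : i < 5) (r : List ℕ × ℕ) :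
    wordCo0 (relM e a b i j r) = (evalPat (fun n => [if e then wordCo0 wD else (wordCo0 wD)⁻¹, wordCo0 wU,
      wordCo0 wV * (wordCo0 wC ^ a * wordCo0 wU ^ b), wordCo0 wC ^ i * wordCo0 wU ^ j].getD n 1) r.1) ^ r.2 := by
  unfold relM
  rw [wordCo0_wpow, wordCo0_patW]
  congr 2
  funext n
  exact wordCo0_valsM e a b i j ha hi n

/-- The test vector. -/
def tvec : V := [1, -1, 1, -1, 1, 1, 1, 1, -1, -1, -1, 1, -1, -1, -1, -1, 1, 1, 1, 1, -1, 1, -1, 3]

theorem tvec_mem : toFn tvec ∈ leechLattice := mem_of_inLeech (by decide +kernel)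

theorem ne_one_of_moves {w : List Gen} (hok : w.all Gen.ok = true) (h : moves w tvec = true) :
    wordCo0 w ≠ 1 := by
  intro h1
  unfold moves at h
  rw [forceList_eq, actWordF_eq, List.any_eq_true] at h
  obtain ⟨k, hk, hne⟩ := h
  rw [List.mem_range] at hk
  rw [decide_eq_true_eq] at hne
  apply hne
  have h2 := actWord_spec w hok tvec tvec_mem
  rw [h1, one_smul] at h2
  exact nth_of_toFn_eq h2 hk

/-- First stage: the pairs `(a, b)` that survive the relators without `c`. -/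
def goodA (a b : ℕ) : Bool := (a == 0 && b == 0) || (a == 3 && b == 2)

def candA (e : Bool) (a b : ℕ) : Bool :=
  goodA a b || moves (relM e a b 0 0 ([0, 2, 2, 0, 2, 2, 1], 2)) tvec ||
    moves (relM e a b 0 0 ([0, 0, 2, 1], 5)) tvec

/-- Second stage: the candidates that survive the third relator. -/
def goodB (e : Bool) (a b i j : ℕ) : Bool :=
  e && ((a == 0 && b == 0 && i == 1 && j == 0) || (a == 3 && b == 2 && i == 4 && j == 2))

def candB (e : Bool) (a b i j : ℕ) : Bool :=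
  goodB e a b i j || moves (relM e a b i j ([0, 3, 2, 1, 1], 3)) tvec

def chkA (e : Bool) (a : ℕ) : Bool := (List.range 5).all fun b => candA e a b

def chkB (e : Bool) (a b : ℕ) : Bool :=
  (List.range 5).all fun i => (List.range 5).all fun j => candB e a b i j

end McLOut

end Cfsg.Agent.Lib.H27
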