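/-
helper27 library (generated): kernel-checked certificates that the relators of `McL` fail at the wrong candidate
images of the generators (part 0: the relators hold).
-/
import Mathlib
import Cfsg.Agent.Lib.H27.McLOutRel

set_option autoImplicit false

namespace Cfsg.Agent.Lib.H27

open Cfsg MulAction Cfsg.Agent.Lib.H28 Cfsg.Agent.Lib.H27.Eng

namespace McLOut

open Co3GenData McLOutData OutM Co3Out AutRigid

theorem chk0_a : wordIsOneF (relM true 0 0 1 0 ([0, 2, 2, 0, 2, 2, 1], 2)) = true := by decide +kernel
theorem chk0_b : wordIsOneF (relM true 0 0 1 0 ([0, 0, 2, 1], 5)) = true := by decide +kernel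
theorem chk0_c : wordIsOneF (relM true 0 0 1 0 ([0, 3, 2, 1, 1], 3)) = true := by decide +kernel

end McLOut

end Cfsg.Agent.Lib.H27
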