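/-
helper27 library (generated): kernel-checked certificates that the relators of `McL` fail at the wrong candidate
images of the generators (part A).
-/
import Mathlib
import Cfsg.Agent.Lib.H27.McLOutRel

set_option autoImplicit false

namespace Cfsg.Agent.Lib.H27

open Cfsg MulAction Cfsg.Agent.Lib.H28 Cfsg.Agent.Lib.H27.Eng

namespace McLOut

open Co3GenData McLOutData OutM Co3Out AutRigid

theorem chkA_t_0 : chkA true 0 = true := by decide +kernel
theorem chkA_t_1 : chkA true 1 = true := by decide +kernel
theorem chkA_t_2 : chkA true 2 = true := by decide +kernel
theorem chkA_t_3 : chkA true 3 = true := by decide +kernel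
theorem chkA_t_4 : chkA true 4 = true := by decide +kernel
theorem chkA_f_0 : chkA false 0 = true := by decide +kernel
theorem chkA_f_1 : chkA false 1 = true := by decide +kernel
theorem chkA_f_2 : chkA false 2 = true := by decide +kernel
theorem chkA_f_3 : chkA false 3 = true := by decide +kernel
theorem chkA_f_4 : chkA false 4 = true := by decide +kernel

end McLOut

end Cfsg.Agent.Lib.H27
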