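/-
helper27 library (generated): kernel-checked certificates that the relators of `McL` fail at the wrong candidate
images of the generators (part B1).
-/
import Mathlib
import Cfsg.Agent.Lib.H27.McLOutRel

set_option autoImplicit false

namespace Cfsg.Agent.Lib.H27

open Cfsg MulAction Cfsg.Agent.Lib.H28 Cfsg.Agent.Lib.H27.Eng

namespace McLOut

open Co3GenData McLOutData OutM Co3Out AutRigid

theorem chkB_t_0_0 : chkB true 0 0 = true := by decide +kernel
theorem chkB_t_3_2 : chkB true 3 2 = true := by decide +kernel

end McLOut

end Cfsg.Agent.Lib.H27
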