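/-
helper27 library: the relators of `McL` hold, and pin down the images of the generators under an automorphism
up to the outer automorphism induced by `z`.
-/
import Mathlib
import Cfsg.Agent.Lib.H27.McLOutChkA
import Cfsg.Agent.Lib.H27.McLOutChkB1
import Cfsg.Agent.Lib.H27.McLOutChkB2
import Cfsg.Agent.Lib.H27.McLOutChk0
import Cfsg.Agent.Lib.H27.AutRigid4

set_option autoImplicit false

namespace Cfsg.Agent.Lib.H27

open Cfsg MulAction Cfsg.Agent.Lib.H28 Cfsg.Agent.Lib.H27.Eng

namespace McLOut

open Co3GenData McLOutData OutM Co3Out AutRigid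

theorem chkA_all (e : Bool) (a : ℕ) (ha : a < 5) : chkA e a = true := by
  cases e
  · interval_cases a
    · exact chkA_f_0
    · exact chkA_f_1
    · exact chkA_f_2
    · exact chkA_f_3
    · exact chkA_f_4
  · interval_cases a
    · exact chkA_t_0
    · exact chkA_t_1
    · exact chkA_t_2
    · exact chkA_t_3
    · exact chkA_t_4

theorem candA_all (e : Bool) (a b : ℕ) (ha : a < 5) (hb : b < 5) : candA e a b = true := by
  have h := chkA_all e a ha
  unfold chkA at h
  rw [List.all_eq_true] at h
  exact h b (List.mem_range.2 hb)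

theorem candB_of_chkB {e : Bool} {a b : ℕ} (h : chkB e a b = true) (i j : ℕ) (hi : i < 5) (hj : j < 5) :
    candB e a b i j = true := by
  unfold chkB at h
  rw [List.all_eq_true] at h
  have h1 := h i (List.mem_range.2 hi)
  rw [List.all_eq_true] at h1
  exact h1 j (List.mem_range.2 hj)

/-- The relators hold. -/
theorem relM_0 : ∀ r ∈ relsM, (evalPat (fun n => [wordCo0 wD, wordCo0 wU, wordCo0 wV,
    wordCo0 wC].getD n 1) r.1) ^ r.2 = 1 := by
  intro r hr
  have h1 : wordIsOneF (relM true 0 0 1 0 r) = true := by
    unfold relsM at hr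
    simp only [List.mem_cons, List.not_mem_nil, or_false] at hr
    rcases hr with rfl | rfl | rfl
    · exact chk0_a
    · exact chk0_b
    · exact chk0_c
  have h2 := wordCo0_eq_oneF (relM_ok true 0 0 1 0 r) h1
  rw [wordCo0_relM true 0 0 1 0 (by norm_num) (by norm_num)] at h2
  simp only [if_true, pow_zero, mul_one, pow_one] at h2
  exact h2

/-- The relators pin down the images. -/
theorem relM_pin (e : Bool) (a b i j : ℕ) (ha : a < 5) (hb : b < 5) (hi : i < 5) (hj : j < 5)
    (h : ∀ r ∈ relsM, (evalPat (fun n => [if e then wordCo0 wD else (wordCo0 wD)⁻¹, wordCo0 wU,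
      wordCo0 wV * (wordCo0 wC ^ a * wordCo0 wU ^ b), wordCo0 wC ^ i * wordCo0 wU ^ j].getD n 1) r.1) ^ r.2 = 1) :
    goodB e a b i j = true := by
  -- first stage
  have hA : goodA a b = true := by
    by_contra hA
    have hc := candA_all e a b ha hb
    unfold candA at hc
    rw [Bool.or_eq_true, Bool.or_eq_true] at hc
    have key : ∀ r ∈ relsM, (∀ n ∈ r.1, n < 3) → moves (relM e a b 0 0 r) tvec = true → False := by
      intro r hr hlt hm
      apply ne_one_of_moves (relM_ok e a b 0 0 r) hm
      rw [wordCo0_relM e a b 0 0 ha (by norm_num)]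
      rw [← h r hr]
      congr 1
      apply evalPat_congr
      intro n hn
      have := hlt n hn
      interval_cases n
      · simp only [List.getD_cons_zero]
      · simp only [List.getD_cons_succ, List.getD_cons_zero]
      · simp only [List.getD_cons_succ, List.getD_cons_zero]
    rcases hc with (hc | hc) | hc
    · exact hA hc
    · exact key _ (by simp [relsM]) (by decide) hc
    · exact key _ (by simp [relsM]) (by decide) hc
  -- second stage
  have hB : chkB e a b = true := by
    unfold goodA at hA
    rw [Bool.or_eq_true, Bool.and_eq_true, Bool.and_eq_true, beq_iff_eq, beq_iff_eq, beq_iff_eq, beq_iff_eq] at hA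
    rcases hA with ⟨rfl, rfl⟩ | ⟨rfl, rfl⟩
    · cases e
      · exact chkB_f_0_0
      · exact chkB_t_0_0
    · cases e
      · exact chkB_f_3_2
      · exact chkB_t_3_2
  have hc := candB_of_chkB hB i j hi hj
  unfold candB at hc
  rw [Bool.or_eq_true] at hc
  rcases hc with hc | hc
  · exact hc
  · exfalso
    apply ne_one_of_moves (relM_ok e a b i j _) hc
    rw [wordCo0_relM e a b i j ha hi]
    exact h _ (by simp [relsM])

end McLOut

end Cfsg.Agent.Lib.H27
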