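/-
helper27 library: the outer automorphism group of the McLaughlin group has order two.  Rigidity argument with the
Frobenius subgroup `11 : 5 = ⟨s, d⟩` of `M22 ≤ McL`, the element `v ∈ M22` of order 4 normalizing `⟨d⟩`, the
element `c` of order 5 with `C(d) = ⟨c⟩ × ⟨d⟩`, and the involution `z ∈ Co3` centralizing `s` and `d`, which
interchanges `U` and `-(U + V)` and induces the outer automorphism.
-/
import Mathlib
import Cfsg.Prelude.Def_Spor_Conway
import Cfsg.Prelude.Def_KGroupFacts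
import Cfsg.Agent.Lib.H27.McLOutRel2
import Cfsg.Agent.Lib.H27.AutRigid4

set_option autoImplicit false

namespace Cfsg.Agent.Lib.H27

open Cfsg MulAction Cfsg.Agent.Lib.H28 Cfsg.Agent.Lib.H27.Eng

namespace McLOut

open Co3GenData McLOutData OutM Co3Out AutRigid

/-- The elements as members of `MC`. -/
noncomputable def sE : ↥MC := ⟨wordCo0 wD, wD_mem⟩
noncomputable def dE : ↥MC := ⟨wordCo0 wU, wU_mem⟩
noncomputable def vE : ↥MC := ⟨wordCo0 wV, wV_mem⟩
noncomputable def cE : ↥MC := ⟨wordCo0 wC, wC_mem⟩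

theorem sE_coe : (sE : Co0) = wordCo0 wD := rfl
theorem dE_coe : (dE : Co0) = wordCo0 wU := rfl
theorem vE_coe : (vE : Co0) = wordCo0 wV := rfl
theorem cE_coe : (cE : Co0) = wordCo0 wC := rfl

theorem orderOf_sE : orderOf sE = 11 := by
  rw [← Subgroup.orderOf_coe, sE_coe, ← pCo0_dM]
  have h1 : orderOf (permHom Co3Out.dM) = orderOf Co3Out.dM :=
    orderOf_injective permHom permHom_injective Co3Out.dM
  have h2 : orderOf Co3Out.dM = orderOf (wordPerm dw) := (Subgroup.orderOf_coe Co3Out.dM).symm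
  show orderOf (permHom Co3Out.dM) = 11
  rw [h1, h2, d_order]

theorem s_pow11 : sE ^ 11 = 1 := Subtype.ext (by rw [Subgroup.coe_pow, sE_coe, Co3Out.d_pow11, Subgroup.coe_one])
theorem d_pow5 : dE ^ 5 = 1 := Subtype.ext (by rw [Subgroup.coe_pow, dE_coe, Co3Out.u_pow5, Subgroup.coe_one])
theorem c_pow5M : cE ^ 5 = 1 := Subtype.ext (by rw [Subgroup.coe_pow, cE_coe, c_pow5, Subgroup.coe_one])

theorem hds : dE * sE * dE⁻¹ = sE ^ 3 := by
  rw [mul_inv_eq_iff_eq_mul]
  apply Subtype.ext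
  simp only [Subgroup.coe_mul, Subgroup.coe_pow, sE_coe, dE_coe]
  exact ud_rel

theorem hvd : vE * dE * vE⁻¹ = dE ^ 2 := by
  rw [mul_inv_eq_iff_eq_mul]
  apply Subtype.ext
  simp only [Subgroup.coe_mul, Subgroup.coe_pow, vE_coe, dE_coe]
  exact vu_rel

theorem hcd : cE * dE = dE * cE := Subtype.ext cu_comm

theorem hc0 : sE ^ (7 + 3) = sE ^ (3 * 7) := by
  have : sE ^ (3 * 7) = sE ^ (7 + 3) * sE ^ 11 := by rw [← pow_add]
  rw [this, s_pow11, mul_one]

/-- Conjugacy of the elements of order 11. -/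
theorem hA1 (x : ↥MC) (hx : orderOf x = orderOf sE) :
    ∃ k : ↥MC, k * x * k⁻¹ = sE ∨ k * x * k⁻¹ = sE⁻¹ := by
  refine conj_pm_of_sylow (p := 11) (a := 3) (by norm_num) ?_ orderOf_sE hds ?_ x hx
  · rw [card_MC]
    norm_num
  · have h : ∀ i < 11, i ≠ 0 → ∃ m < 5, (i * 3 ^ m) % 11 = 1 ∨ (i * 3 ^ m) % 11 = 11 - 1 := by decide
    intro i hi hi0
    obtain ⟨m, -, hm⟩ := h i hi hi0
    exact ⟨m, hm⟩

/-- The centralizer of `s`. -/
theorem hA2 (x : ↥MC) (hx : x * sE = sE * x) : ∃ m : ℤ, x = sE ^ m := by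
  have hx' : (x : Co0) * wordCo0 wD = wordCo0 wD * (x : Co0) := congrArg Subtype.val hx
  obtain ⟨j, -, hj⟩ := centralizer_sM x.2 hx'
  refine ⟨(j : ℤ), Subtype.ext ?_⟩
  rw [zpow_natCast, Subgroup.coe_pow]
  exact hj

/-- The list of the elements centralizing `d`. -/
noncomputable def LM : List ↥MC :=
  (List.range 5).flatMap (fun k => (List.range 5).map (fun j => cE ^ k * dE ^ j))

theorem mem_LM {x : ↥MC} : x ∈ LM ↔ ∃ k < 5, ∃ j < 5, x = cE ^ k * dE ^ j := by
  unfold LM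
  rw [List.mem_flatMap]
  constructor
  · rintro ⟨k, hk, hx⟩
    rw [List.mem_map] at hx
    obtain ⟨j, hj, rfl⟩ := hx
    exact ⟨k, List.mem_range.1 hk, j, List.mem_range.1 hj, rfl⟩
  · rintro ⟨k, hk, j, hj, rfl⟩
    exact ⟨k, List.mem_range.2 hk, List.mem_map.2 ⟨j, List.mem_range.2 hj, rfl⟩⟩

/-- The centralizer of `d`. -/
theorem hA3 (x : ↥MC) (hx : x * dE = dE * x) : x ∈ LM := by
  have hx' : (x : Co0) * wordCo0 wU = wordCo0 wU * (x : Co0) := congrArg Subtype.val hx
  obtain ⟨k, hk, j, hj, hkj⟩ := centralizer_dM x.2 hx'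
  rw [mem_LM]
  refine ⟨k, hk, j, hj, Subtype.ext ?_⟩
  rw [Subgroup.coe_mul, Subgroup.coe_pow, Subgroup.coe_pow]
  exact hkj

/-- Generation: an automorphism fixing `s`, `d`, `v`, `c` is trivial. -/
theorem hgen (ψ : MulAut ↥MC) (hs : ψ sE = sE) (hd : ψ dE = dE) (hv : ψ vE = vE) (hc : ψ cE = cE) :
    ψ = 1 := by
  have key : ∀ y : Co0, y ∈ K4M → ∀ hy : y ∈ MC, ψ ⟨y, hy⟩ = ⟨y, hy⟩ := by
    intro y hy
    unfold K4M at hy
    induction hy using Subgroup.closure_induction with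
    | mem x hx =>
      intro hxM
      rcases hx with rfl | rfl | rfl | rfl
      · exact hs
      · exact hd
      · exact hv
      · exact hc
    | one =>
      intro h1
      exact map_one ψ
    | mul a b ha hb iha ihb =>
      intro hab
      have haM : a ∈ MC := K4M_le ha
      have hbM : b ∈ MC := K4M_le hb
      have : (⟨a * b, hab⟩ : ↥MC) = ⟨a, haM⟩ * ⟨b, hbM⟩ := rfl
      rw [this, map_mul, iha haM, ihb hbM]
    | inv a ha iha =>
      intro hai
      have haM : a ∈ MC := K4M_le ha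
      have : (⟨a⁻¹, hai⟩ : ↥MC) = (⟨a, haM⟩ : ↥MC)⁻¹ := rfl
      rw [this, map_inv, iha haM]
  ext x : 1
  have hx : (x : Co0) ∈ K4M := by rw [K4M_eq]; exact x.2
  have := key x.1 hx x.2
  rw [MulAut.one_apply]
  exact this

/-! ### The outer automorphism -/

theorem z_inv : (wordCo0 wZ)⁻¹ = wordCo0 wZ := by
  rw [inv_eq_iff_mul_eq_one, ← pow_two]
  exact z_sq

theorem z_normalizes : ∀ g ∈ MC, wordCo0 wZ * g * (wordCo0 wZ)⁻¹ ∈ MC := by
  intro g hg
  rw [z_inv]
  refine ⟨Subgroup.mul_mem _ (Subgroup.mul_mem _ z_mem (MC_le_C3 hg)) z_mem, mem_stabilizer_iff.2 ?_⟩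
  rw [mul_smul, mul_smul, z_smul_U, smul_WP hg, z_smul_WP]

theorem z_normalizes' : ∀ g ∈ MC, (wordCo0 wZ)⁻¹ * g * wordCo0 wZ ∈ MC := by
  intro g hg
  have := z_normalizes g hg
  rw [z_inv] at this ⊢
  exact this

/-- The automorphism of `MC` induced by `z`. -/
noncomputable def zAut : MulAut ↥MC := conjAut MC (wordCo0 wZ) z_normalizes z_normalizes'

theorem zAut_coe (g : ↥MC) : ((zAut g : ↥MC) : Co0) = wordCo0 wZ * g * (wordCo0 wZ)⁻¹ := rfl

theorem zAut_s : zAut sE = sE := by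
  apply Subtype.ext
  rw [zAut_coe, sE_coe, zd_comm, mul_inv_cancel_right]

theorem zAut_d : zAut dE = dE := by
  apply Subtype.ext
  rw [zAut_coe, dE_coe, zu_comm, mul_inv_cancel_right]

theorem zAut_v : zAut vE = vE * (cE ^ 3 * dE ^ 2) := by
  apply Subtype.ext
  rw [zAut_coe, vE_coe, zv_rel, mul_inv_cancel_right]
  rfl

theorem zAut_c : zAut cE = cE ^ 4 * dE ^ 2 := by
  apply Subtype.ext
  rw [zAut_coe, cE_coe, zc_rel, mul_inv_cancel_right]
  rfl

theorem zAut_not_inner : zAut ∉ (MulAut.conj : ↥MC →* MulAut ↥MC).range := by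
  rintro ⟨g, hg⟩
  have h1 : g * sE * g⁻¹ = sE := by
    have := congrArg (fun φ : MulAut ↥MC => φ sE) hg
    simp only [MulAut.conj_apply] at this
    rw [this, zAut_s]
  have h2 : g * dE * g⁻¹ = dE := by
    have := congrArg (fun φ : MulAut ↥MC => φ dE) hg
    simp only [MulAut.conj_apply] at this
    rw [this, zAut_d]
  have h3 : g * vE * g⁻¹ = vE * (cE ^ 3 * dE ^ 2) := by
    have := congrArg (fun φ : MulAut ↥MC => φ vE) hg
    simp only [MulAut.conj_apply] at this
    rw [this, zAut_v]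
  obtain ⟨m, hm⟩ := hA2 g (mul_inv_eq_iff_eq_mul.1 h1)
  have hg11 : g ^ 11 = 1 := by
    rw [hm, ← zpow_natCast, ← zpow_mul, mul_comm, zpow_mul, zpow_natCast, s_pow11, one_zpow]
  have hgL := hA3 g (mul_inv_eq_iff_eq_mul.1 h2)
  rw [mem_LM] at hgL
  obtain ⟨k, -, j, -, hkj⟩ := hgL
  have hg5 : g ^ 5 = 1 := by
    have hcomm : Commute (cE ^ k) (dE ^ j) := ((show Commute cE dE from hcd).pow_pow k j)
    rw [hkj, hcomm.mul_pow, ← pow_mul, ← pow_mul, mul_comm k, mul_comm j, pow_mul, pow_mul, c_pow5M, d_pow5,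
      one_pow, one_pow, one_mul]
  have hg1 : g = 1 := by
    have : g = g ^ 11 * ((g ^ 5) ^ 2)⁻¹ := by
      rw [← pow_mul]
      group
    rw [this, hg11, hg5, one_pow, inv_one, one_mul]
  rw [hg1, one_mul, inv_one, mul_one] at h3
  have h4 : cE ^ 3 * dE ^ 2 = 1 := by
    have := congrArg (fun x => vE⁻¹ * x) h3
    simp only [inv_mul_cancel, inv_mul_cancel_left] at this
    exact this.symm
  apply c3d2_ne_one
  have := congrArg (fun x : ↥MC => (x : Co0)) h4
  simpa only [Subgroup.coe_mul, Subgroup.coe_pow, Subgroup.coe_one, cE_coe, dE_coe] using this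

theorem coe_evalPatM (vals : ℕ → ↥MC) (w : List ℕ) :
    ((evalPat vals w : ↥MC) : Co0) = evalPat (fun i => ((vals i : ↥MC) : Co0)) w :=
  map_evalPat (Subgroup.subtype MC) vals w

/-- The inner automorphisms of `MC` have index two. -/
theorem card_out_MC : Nat.card (MulAut ↥MC ⧸ (MulAut.conj : ↥MC →* MulAut ↥MC).range) = 2 := by
  apply card_out_eq_two4 sE dE vE cE 3 7 2 LM hgen hA1 hA2 hA3 hds hc0 hvd hcd relsM _ zAut zAut_d
    zAut_not_inner
  · -- the relators pin down the images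
    intro s' hs' y hy c' hc' h
    rw [mem_LM] at hy hc'
    obtain ⟨a, ha, b, hb, rfl⟩ := hy
    obtain ⟨i, hi, j, hj, rfl⟩ := hc'
    have key : ∀ e : Bool, s' = (if e then sE else sE⁻¹) → goodB e a b i j = true := by
      intro e he
      apply relM_pin e a b i j ha hb hi hj
      intro r hr
      have h1 := congrArg (fun x : ↥MC => (x : Co0)) (h r hr)
      simp only [Subgroup.coe_pow, coe_evalPatM, Subgroup.coe_one] at h1
      have hf : (fun n => (([s', dE, vE * (cE ^ a * dE ^ b), cE ^ i * dE ^ j].getD n 1 : ↥MC) : Co0)) =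
          (fun n => [if e then wordCo0 wD else (wordCo0 wD)⁻¹, wordCo0 wU,
            wordCo0 wV * (wordCo0 wC ^ a * wordCo0 wU ^ b), wordCo0 wC ^ i * wordCo0 wU ^ j].getD n 1) := by
        funext n
        match n with
        | 0 =>
          rw [he]
          cases e
          · rfl
          · rfl
        | 1 => rfl
        | 2 => rfl
        | 3 => rfl
        | (n + 4) => rfl
      rw [hf] at h1
      exact h1
    have fin : ∀ e : Bool, s' = (if e then sE else sE⁻¹) → goodB e a b i j = true →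
        (s' = sE ∧ vE * (cE ^ a * dE ^ b) = vE ∧ cE ^ i * dE ^ j = cE) ∨
        (s' = zAut sE ∧ vE * (cE ^ a * dE ^ b) = zAut vE ∧ cE ^ i * dE ^ j = zAut cE) := by
      intro e he hgood
      unfold goodB at hgood
      simp only [Bool.and_eq_true, Bool.or_eq_true, beq_iff_eq] at hgood
      obtain ⟨rfl, hcase⟩ := hgood
      rw [if_pos rfl] at he
      rcases hcase with ⟨⟨⟨rfl, rfl⟩, rfl⟩, rfl⟩ | ⟨⟨⟨rfl, rfl⟩, rfl⟩, rfl⟩
      · left
        exact ⟨he, by rw [pow_zero, pow_zero, one_mul, mul_one], by rw [pow_one, pow_zero, mul_one]⟩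
      · right
        exact ⟨by rw [zAut_s]; exact he, zAut_v.symm, zAut_c.symm⟩
    rcases hs' with rfl | rfl
    · exact fin true rfl (key true rfl)
    · exact fin false rfl (key false rfl)
  · -- the relators hold
    intro r hr
    apply Subtype.ext
    rw [Subgroup.coe_pow, coe_evalPatM, Subgroup.coe_one]
    have h0 := relM_0 r hr
    have hf : (fun n => (([sE, dE, vE, cE].getD n 1 : ↥MC) : Co0)) =
        (fun n => [wordCo0 wD, wordCo0 wU, wordCo0 wV, wordCo0 wC].getD n 1) := by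
      funext n
      match n with
      | 0 => rfl
      | 1 => rfl
      | 2 => rfl
      | 3 => rfl
      | (n + 4) => rfl
    rw [hf]
    exact h0

/-! ### Transfer to `Spor.McL` -/

/-- The group `MC` is the McLaughlin group of the Prelude. -/
def mcEquiv : ↥MC ≃* ↥Spor.McL where
  toFun g := ⟨((g : Co0) : Equiv.Perm leechLattice),
    ⟨⟨(g : Co0).2, mem_stabilizer_iff.2 (smul_V g.2)⟩, mem_stabilizer_iff.2 (smul_U g.2)⟩⟩
  invFun h := ⟨⟨h.1, h.2.1.1⟩, ⟨mem_stabilizer_iff.2 (mem_stabilizer_iff.1 h.2.1.2),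
    mem_stabilizer_iff.2 (mem_stabilizer_iff.1 h.2.2)⟩⟩
  left_inv := fun _ => rfl
  right_inv := fun _ => rfl
  map_mul' := fun _ _ => rfl

/-- The outer automorphism group of `McL` has order two. -/
theorem card_out_McL : Nat.card (Cfsg.Out ↥Spor.McL) = 2 := by
  rw [← card_out_MC]
  exact (card_out_congr mcEquiv).symm

end McLOut

end Cfsg.Agent.Lib.H27
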