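import Mathlib
import Cfsg.Agent.Lib.H18.L648Defs

/-!
# S3702, piece MONO-B (helper18's farm-out): `monoOK_c3p`, `monoOK_c3`

The data `mC3p`, `mC3` (`B = {p 0 = 0}`, `ν = 6 ng a (+ 6 sgm p)`) satisfy `MonoOK`.
-/

set_option autoImplicit false

namespace Cfsg.Agent.Lib.H27.L648

open Cfsg Cfsg.Agent.Lib.H7.T648 Cfsg.Agent.Lib.H18 Cfsg.Agent.Lib.H18.L648
  Cfsg.Agent.Lib.H18.LatEnum
open scoped ComplexConjugate

theorem ng_mul_add : ∀ a b : ℤˣ, ng (a * b) + 2 * (ng a * ng b) = ng a + ng b := by decide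

theorem ng_cases (a : ℤˣ) : ng a = 0 ∨ ng a = 1 := by
  unfold ng; split_ifs <;> simp

theorem sgm_mul_addB : ∀ p q : Equiv.Perm (Fin 3),
    sgm (p * q) + 2 * (sgm p * sgm q) = sgm p + sgm q := by decide

theorem sgm_casesB (p : Equiv.Perm (Fin 3)) : sgm p = 0 ∨ sgm p = 1 := by
  unfold sgm; split_ifs <;> simp

theorem keyB (x y : M648) (hx : x.p 0 = 0) (hy : y.p 0 = 0) :
    (x * y).p 0 = 0 ∧ (x * y).a = x.a * y.a := by
  refine ⟨?_, ?_⟩
  · rw [M648.mul_p, Equiv.Perm.coe_mul, Function.comp_apply, hy, hx]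
  · rw [M648.mul_a, hy, M648.sg_zero]

theorem monoOK_c3p : MonoOK mC3p := by
  refine ⟨fun _ => rfl, by decide, ?_, by decide, ?_, by decide⟩
  · intro x y hx hy
    simp only [mC3p, decide_eq_true_eq] at hx hy ⊢
    exact (keyB x y hx hy).1
  · intro x y hx hy
    simp only [mC3p, decide_eq_true_eq] at hx hy
    show (6 * ng (x * y).a) % 12 = (6 * ng x.a + 6 * ng y.a) % 12
    rw [(keyB x y hx hy).2]
    have h := ng_mul_add x.a y.a
    rcases ng_cases x.a with ha | ha <;> rcases ng_cases y.a with hb | hb <;>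
      rw [ha, hb] at h ⊢ <;> omega

theorem monoOK_c3 : MonoOK mC3 := by
  refine ⟨fun _ => rfl, by decide, ?_, by decide, ?_, by decide⟩
  · intro x y hx hy
    simp only [mC3, decide_eq_true_eq] at hx hy ⊢
    exact (keyB x y hx hy).1
  · intro x y hx hy
    simp only [mC3, decide_eq_true_eq] at hx hy
    show (6 * ng (x * y).a + 6 * sgm (x * y).p) % 12 =
      ((6 * ng x.a + 6 * sgm x.p) + (6 * ng y.a + 6 * sgm y.p)) % 12
    rw [(keyB x y hx hy).2, M648.mul_p]
    have h := ng_mul_add x.a y.a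
    have h' := sgm_mul_addB x.p y.p
    rcases ng_cases x.a with ha | ha <;> rcases ng_cases y.a with hb | hb <;>
      rcases sgm_casesB x.p with hc | hc <;> rcases sgm_casesB y.p with hd | hd <;>
      rw [ha, hb] at h ⊢ <;> rw [hc, hd] at h' ⊢ <;> omega

end Cfsg.Agent.Lib.H27.L648
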