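import Mathlib
import Cfsg.Agent.Lib.H18.L648Defs

/-!
# S3702, piece MONO-F (helper18's farm-out): `monoOK_F`

The datum `mF k` (`B = {a = b = 1, p 2 = 2}`, `ν = 4 (v 0 + v 1) + 6 k sgm p`) satisfies `MonoOK`.
Also a few small facts shared with MONO-T / MONO-B (`sgm_mul_add`, `sgm_cases`).
-/

set_option autoImplicit false

namespace Cfsg.Agent.Lib.H27.L648

open Cfsg Cfsg.Agent.Lib.H7.T648 Cfsg.Agent.Lib.H18 Cfsg.Agent.Lib.H18.L648
  Cfsg.Agent.Lib.H18.LatEnum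
open scoped ComplexConjugate

theorem perm_fix2 : ∀ p : Equiv.Perm (Fin 3), p 2 = 2 →
    (p 0 = 0 ∧ p 1 = 1) ∨ (p 0 = 1 ∧ p 1 = 0) := by decide

theorem val4_add2 : ∀ s t : ZMod 3, (4 * (s.val + t.val)) % 12 = (4 * (s + t).val) % 12 := by
  decide

theorem val4_add : ∀ s t : ZMod 3, (4 * (s + t).val) % 12 = (4 * s.val + 4 * t.val) % 12 := by
  decide

theorem sgm_mul_add : ∀ p q : Equiv.Perm (Fin 3),
    sgm (p * q) + 2 * (sgm p * sgm q) = sgm p + sgm q := by decide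

theorem sgm_cases (p : Equiv.Perm (Fin 3)) : sgm p = 0 ∨ sgm p = 1 := by
  unfold sgm; split_ifs <;> simp

/-- `6 k sgm` is additive mod 12 -/
theorem sgm6_mul (k : ℕ) (p q : Equiv.Perm (Fin 3)) :
    (6 * k * sgm (p * q)) % 12 = (6 * k * sgm p + 6 * k * sgm q) % 12 := by
  have h := sgm_mul_add p q
  rcases sgm_cases p with ha | ha <;> rcases sgm_cases q with hb | hb <;> rw [ha, hb] at h ⊢
  · have hc : sgm (p * q) = 0 := by omega
    rw [hc]; omega
  · have hc : sgm (p * q) = 1 := by omega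
    rw [hc]; omega
  · have hc : sgm (p * q) = 1 := by omega
    rw [hc]; omega
  · have hc : sgm (p * q) = 0 := by omega
    rw [hc]; omega

theorem unitsInt_cast_one : (((1 : ℤˣ) : ℤ) : ZMod 3) = 1 := by simp

theorem monoOK_F (k : ℕ) : MonoOK (mF k) := by
  have key : ∀ x y : M648, (mF k).P x = true → (mF k).P y = true →
      (x * y).a = 1 ∧ (x * y).b = 1 ∧ (x * y).p 2 = 2 ∧
        (x * y).v 0 + (x * y).v 1 = (x.v 0 + x.v 1) + (y.v 0 + y.v 1) := by
    intro x y hx hy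
    simp only [mF, Bool.and_eq_true, decide_eq_true_eq] at hx hy
    obtain ⟨⟨hxa, hxb⟩, hxp⟩ := hx
    obtain ⟨⟨hya, hyb⟩, hyp⟩ := hy
    have hs0 : x.sg 0 = 1 := by rw [M648.sg_zero]; exact hxa
    have hs1 : x.sg 1 = 1 := by rw [M648.sg_one']; exact hxb
    have hz0 : x.sz 0 = 1 := by unfold M648.sz; rw [hs0]; simp
    have hz1 : x.sz 1 = 1 := by unfold M648.sz; rw [hs1]; simp
    refine ⟨?_, ?_, ?_, ?_⟩
    · rw [M648.mul_a, hya, mul_one]
      rcases perm_fix2 y.p hyp with ⟨h0, _⟩ | ⟨h0, _⟩ <;> rw [h0] <;> assumption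
    · rw [M648.mul_b, hyb, mul_one]
      rcases perm_fix2 y.p hyp with ⟨_, h1⟩ | ⟨_, h1⟩ <;> rw [h1] <;> assumption
    · rw [M648.mul_p, Equiv.Perm.coe_mul, Function.comp_apply, hyp, hxp]
    · rw [M648.mul_v, M648.mul_v]
      rcases perm_fix2 y.p hyp with ⟨h0, h1⟩ | ⟨h0, h1⟩ <;> rw [h0, h1, hz0, hz1] <;> ring
  have hP1 : (mF k).P 1 = true := by
    show (decide ((1 : M648).a = 1) && decide ((1 : M648).b = 1) &&
      decide ((1 : M648).p 2 = 2)) = true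
    decide
  have hcnt : Kl.countP (fun x => (mF k).P x) = (mF k).sz := by
    show Kl.countP (fun x => decide (x.a = 1) && decide (x.b = 1) && decide (x.p 2 = 2)) = 2
    decide
  refine ⟨fun _ => rfl, hP1, ?_, ?_, ?_, hcnt⟩
  · intro x y hx hy
    obtain ⟨ha, hb, hp, _⟩ := key x y hx hy
    simp only [mF, Bool.and_eq_true, decide_eq_true_eq]
    exact ⟨⟨ha, hb⟩, hp⟩
  · simp [mF, sgm]
  · intro x y hx hy
    obtain ⟨_, _, _, hv⟩ := key x y hx hy
    show (4 * (((x * y).v 0).val + ((x * y).v 1).val) + 6 * k * sgm (x * y).p) % 12 =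
      ((4 * ((x.v 0).val + (x.v 1).val) + 6 * k * sgm x.p) +
        (4 * ((y.v 0).val + (y.v 1).val) + 6 * k * sgm y.p)) % 12
    have h1 := val4_add2 ((x * y).v 0) ((x * y).v 1)
    rw [hv] at h1
    have h2 := val4_add (x.v 0 + x.v 1) (y.v 0 + y.v 1)
    have h3 := val4_add2 (x.v 0) (x.v 1)
    have h4 := val4_add2 (y.v 0) (y.v 1)
    have h5 := sgm6_mul k x.p y.p
    rw [M648.mul_p]
    generalize 6 * k * sgm (x.p * y.p) = A at h5 ⊢
    generalize 6 * k * sgm x.p = B at h5 ⊢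
    generalize 6 * k * sgm y.p = C at h5 ⊢
    omega

end Cfsg.Agent.Lib.H27.L648
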