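import Mathlib
import Cfsg.Agent.Lib.H18.L648Defs

/-!
# S3702, piece MONO-T (helper18's farm-out): `monoOK_T`

The datum `mT k` (`B = {a = b = 1, sign p = 1}`, `ν = 4 (v 0 + v 1 + v 2) + 4 k (p 0)`) satisfies `MonoOK`.
-/

set_option autoImplicit false

namespace Cfsg.Agent.Lib.H27.L648

open Cfsg Cfsg.Agent.Lib.H7.T648 Cfsg.Agent.Lib.H18 Cfsg.Agent.Lib.H18.L648
  Cfsg.Agent.Lib.H18.LatEnum
open scoped ComplexConjugate

theorem val4_add3 : ∀ s t u : ZMod 3,
    (4 * (s.val + t.val + u.val)) % 12 = (4 * (s + t + u).val) % 12 := by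
  decide

theorem val4_addT : ∀ s t : ZMod 3, (4 * (s + t).val) % 12 = (4 * s.val + 4 * t.val) % 12 := by
  decide

theorem a3_mul_zero : ∀ p q : Equiv.Perm (Fin 3), Equiv.Perm.sign p = 1 → Equiv.Perm.sign q = 1 →
    (p 0).val + (q 0).val = ((p * q) 0).val ∨ (p 0).val + (q 0).val = ((p * q) 0).val + 3 := by
  decide

theorem sign_mul_one : ∀ p q : Equiv.Perm (Fin 3), Equiv.Perm.sign p = 1 → Equiv.Perm.sign q = 1 →
    Equiv.Perm.sign (p * q) = 1 := by
  intro p q hp hq
  rw [map_mul, hp, hq, one_mul]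

theorem sum_perm3 (f : Fin 3 → ZMod 3) (p : Equiv.Perm (Fin 3)) :
    f (p 0) + f (p 1) + f (p 2) = f 0 + f 1 + f 2 := by
  have h := Equiv.sum_comp p f
  rw [Fin.sum_univ_three, Fin.sum_univ_three] at h
  exact h

theorem monoOK_T (k : ℕ) : MonoOK (mT k) := by
  have key : ∀ x y : M648, (mT k).P x = true → (mT k).P y = true →
      (x * y).a = 1 ∧ (x * y).b = 1 ∧ Equiv.Perm.sign (x * y).p = 1 ∧
        (x * y).v 0 + (x * y).v 1 + (x * y).v 2 =
          (x.v 0 + x.v 1 + x.v 2) + (y.v 0 + y.v 1 + y.v 2) := by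
    intro x y hx hy
    simp only [mT, Bool.and_eq_true, decide_eq_true_eq] at hx hy
    obtain ⟨⟨hxa, hxb⟩, hxp⟩ := hx
    obtain ⟨⟨hya, hyb⟩, hyp⟩ := hy
    have hs : ∀ i, x.sg i = 1 := by
      intro i
      fin_cases i
      · show x.sg 0 = 1
        rw [M648.sg_zero]; exact hxa
      · show x.sg 1 = 1
        rw [M648.sg_one']; exact hxb
      · show x.sg 2 = 1
        rw [M648.sg_two, hxa, hxb, hxp]; rfl
    have hz : ∀ i, x.sz i = 1 := by
      intro i
      unfold M648.sz; rw [hs i]; simp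
    refine ⟨?_, ?_, ?_, ?_⟩
    · rw [M648.mul_a, hya, mul_one, hs]
    · rw [M648.mul_b, hyb, mul_one, hs]
    · rw [M648.mul_p]; exact sign_mul_one _ _ hxp hyp
    · rw [M648.mul_v, M648.mul_v, M648.mul_v, hz, hz, hz]
      have := sum_perm3 x.v y.p
      linear_combination this
  have hP1 : (mT k).P 1 = true := by
    show (decide ((1 : M648).a = 1) && decide ((1 : M648).b = 1) &&
      decide (Equiv.Perm.sign (1 : M648).p = 1)) = true
    decide
  have hcnt : Kl.countP (fun x => (mT k).P x) = (mT k).sz := by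
    show Kl.countP (fun x => decide (x.a = 1) && decide (x.b = 1) &&
      decide (Equiv.Perm.sign x.p = 1)) = 3
    decide
  refine ⟨fun _ => rfl, hP1, ?_, ?_, ?_, hcnt⟩
  · intro x y hx hy
    obtain ⟨ha, hb, hp, _⟩ := key x y hx hy
    simp only [mT, Bool.and_eq_true, decide_eq_true_eq]
    exact ⟨⟨ha, hb⟩, hp⟩
  · simp [mT]
  · intro x y hx hy
    obtain ⟨_, _, _, hv⟩ := key x y hx hy
    have hxp : Equiv.Perm.sign x.p = 1 := by
      simp only [mT, Bool.and_eq_true, decide_eq_true_eq] at hx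
      exact hx.2
    have hyp : Equiv.Perm.sign y.p = 1 := by
      simp only [mT, Bool.and_eq_true, decide_eq_true_eq] at hy
      exact hy.2
    show (4 * (((x * y).v 0).val + ((x * y).v 1).val + ((x * y).v 2).val) +
        4 * k * ((x * y).p 0).val) % 12 =
      ((4 * ((x.v 0).val + (x.v 1).val + (x.v 2).val) + 4 * k * (x.p 0).val) +
        (4 * ((y.v 0).val + (y.v 1).val + (y.v 2).val) + 4 * k * (y.p 0).val)) % 12
    have h1 := val4_add3 ((x * y).v 0) ((x * y).v 1) ((x * y).v 2)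
    rw [hv] at h1
    have h2 := val4_addT (x.v 0 + x.v 1 + x.v 2) (y.v 0 + y.v 1 + y.v 2)
    have h3 := val4_add3 (x.v 0) (x.v 1) (x.v 2)
    have h4 := val4_add3 (y.v 0) (y.v 1) (y.v 2)
    rw [M648.mul_p]
    have h5 : 4 * k * (x.p 0).val + 4 * k * (y.p 0).val = 4 * k * ((x.p * y.p) 0).val ∨
        4 * k * (x.p 0).val + 4 * k * (y.p 0).val = 4 * k * ((x.p * y.p) 0).val + 12 * k := by
      rcases a3_mul_zero x.p y.p hxp hyp with h | h
      · left; rw [← mul_add, h]
      · right; rw [← mul_add, h]; ring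
    generalize 4 * k * ((x.p * y.p) 0).val = A at h5 ⊢
    generalize 4 * k * (x.p 0).val = B at h5 ⊢
    generalize 4 * k * (y.p 0).val = C at h5 ⊢
    omega

end Cfsg.Agent.Lib.H27.L648
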