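import Mathlib
import Cfsg.Prelude.Def_Perm

/-!
# S4025, piece SUBP (architect helper19)

Subgroups of `AΓL(1, 2^r)`, `r` prime, that contain the translations and are transitive on the
non-zero points: they are `AΓL(1, 2^r)` or `AGL(1, 2^r)`.
-/

set_option autoImplicit false

namespace Cfsg.Agent.Lib.H27.EOC

/-- The automorphism group of a field with `2 ^ r` elements has order `r`. -/
theorem card_ringAut_two_pow {F : Type*} [Field F] [Finite F] (r : ℕ)
    (hF : Nat.card F = 2 ^ r) : Nat.card (F ≃+* F) = r := by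
  classical
  have : Fintype F := Fintype.ofFinite F
  have : Fact (Nat.Prime 2) := ⟨Nat.prime_two⟩
  have hF' : Fintype.card F = 2 ^ r := by rw [← Nat.card_eq_fintype_card]; exact hF
  have : CharP F 2 := charP_of_card_eq_prime_pow hF'
  let _ : Algebra (ZMod 2) F := ZMod.algebra F 2
  have hcomm : ∀ (φ : F ≃+* F) (x : ZMod 2),
      φ (algebraMap (ZMod 2) F x) = algebraMap (ZMod 2) F x := by
    intro φ x
    have : (φ : F →+* F).comp (algebraMap (ZMod 2) F) = algebraMap (ZMod 2) F :=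
      Subsingleton.elim _ _
    exact RingHom.congr_fun this x
  let e : (F ≃+* F) ≃ (F ≃ₐ[ZMod 2] F) :=
    { toFun := fun φ => AlgEquiv.ofRingEquiv (f := φ) (hcomm φ)
      invFun := fun ψ => ψ.toRingEquiv
      left_inv := fun φ => by ext x; rfl
      right_inv := fun ψ => by ext x; rfl }
  rw [Nat.card_congr e, IsGalois.card_aut_eq_finrank]
  have h1 : Fintype.card F = Fintype.card (ZMod 2) ^ Module.finrank (ZMod 2) F :=
    Module.card_eq_pow_finrank
  rw [ZMod.card, hF'] at h1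
  exact (Nat.pow_right_injective (le_refl 2) h1).symm

/-- A prime `r` is coprime to `2 ^ r - 1`. -/
theorem coprime_two_pow_sub_one (r : ℕ) (hr : r.Prime) : Nat.Coprime (2 ^ r - 1) r := by
  have : Fact r.Prime := ⟨hr⟩
  rw [Nat.coprime_comm, Nat.Prime.coprime_iff_not_dvd hr]
  intro hdvd
  have h0 : ((2 ^ r - 1 : ℕ) : ZMod r) = 0 := (ZMod.natCast_eq_zero_iff _ _).mpr hdvd
  rw [Nat.cast_sub Nat.one_le_two_pow, Nat.cast_pow, Nat.cast_ofNat, Nat.cast_one,
    ZMod.pow_card] at h0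
  have h1 : (2 : ZMod r) - 1 = 1 := by norm_num
  rw [h1] at h0
  exact one_ne_zero h0

/-- `g` is the semilinear map `x ↦ a * φ x` for some unit `a`. -/
def IsSemi {F : Type*} [Field F] (g : Equiv.Perm F) (φ : F ≃+* F) : Prop :=
  ∃ a : Fˣ, ∀ x, g x = (a : F) * φ x

theorem IsSemi.unique {F : Type*} [Field F] {g : Equiv.Perm F} {φ φ' : F ≃+* F}
    (h : IsSemi g φ) (h' : IsSemi g φ') : φ = φ' := by
  obtain ⟨a, ha⟩ := h
  obtain ⟨a', ha'⟩ := h'
  have h1 : (a : F) = a' := by
    have := ha 1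
    rw [ha' 1, map_one, map_one, mul_one, mul_one] at this
    exact this.symm
  ext x
  have := ha x
  rw [ha' x, ← h1] at this
  exact (mul_left_cancel₀ a.ne_zero this).symm

theorem IsSemi.mul {F : Type*} [Field F] {g k : Equiv.Perm F} {φ ψ : F ≃+* F}
    (h : IsSemi g φ) (h' : IsSemi k ψ) : IsSemi (g * k) (φ * ψ) := by
  obtain ⟨a, ha⟩ := h
  obtain ⟨c, hc⟩ := h'
  refine ⟨a * Units.map (φ : F →* F) c, fun x => ?_⟩
  rw [Equiv.Perm.mul_apply, hc, ha, map_mul, RingAut.mul_apply, Units.val_mul, Units.coe_map,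
    mul_assoc]
  rfl

theorem IsSemi.one {F : Type*} [Field F] : IsSemi (1 : Equiv.Perm F) (1 : F ≃+* F) :=
  ⟨1, fun x => by rw [Equiv.Perm.one_apply, RingAut.one_apply, Units.val_one, one_mul]⟩

theorem IsSemi.pow {F : Type*} [Field F] {g : Equiv.Perm F} {φ : F ≃+* F}
    (h : IsSemi g φ) (k : ℕ) : IsSemi (g ^ k) (φ ^ k) := by
  induction k with
  | zero => rw [pow_zero, pow_zero]; exact IsSemi.one
  | succ k ih => rw [pow_succ, pow_succ]; exact ih.mul h

theorem exists_isSemi {F : Type*} [Field F] {g : Equiv.Perm F}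
    (hg : g ∈ Cfsg.semiaffineGroup F) (h0 : g 0 = 0) : ∃ φ, IsSemi g φ := by
  obtain ⟨a, b, φ, h⟩ := hg
  have hb : b = 0 := by
    have := h 0
    rw [h0, map_zero, mul_zero, zero_add] at this
    exact this.symm
  exact ⟨φ, a, fun x => by rw [h x, hb, add_zero]⟩

/-- Transitivity on the subgroups of order `2` is transitivity on the non-zero points. -/
theorem pt_trans {F : Type*} [Field F] [CharP F 2] (I : Subgroup (Equiv.Perm F))
    (htr1 : ∀ A B : AddSubgroup F, Nat.card A = 2 → Nat.card B = 2 →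
      ∃ g ∈ I, g 0 = 0 ∧ ∀ y, y ∈ B ↔ ∃ x ∈ A, g x = y)
    (u v : F) (hu : u ≠ 0) (hv : v ≠ 0) : ∃ g ∈ I, g 0 = 0 ∧ g u = v := by
  have : Fact (Nat.Prime 2) := ⟨Nat.prime_two⟩
  have hc : ∀ w : F, w ≠ 0 → Nat.card (AddSubgroup.zmultiples w) = 2 := by
    intro w hw
    rw [Nat.card_zmultiples]
    exact addOrderOf_eq_prime (by rw [two_nsmul]; exact CharTwo.add_self_eq_zero w) hw
  obtain ⟨g, hgI, hg0, hiff⟩ := htr1 _ _ (hc u hu) (hc v hv)
  refine ⟨g, hgI, hg0, ?_⟩
  have hmem : g u ∈ AddSubgroup.zmultiples v :=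
    (hiff (g u)).mpr ⟨u, AddSubgroup.mem_zmultiples u, rfl⟩
  obtain ⟨k, hk⟩ := AddSubgroup.mem_zmultiples_iff.mp hmem
  rcases Int.even_or_odd' k with ⟨m, rfl | rfl⟩
  · exfalso
    apply hu
    apply g.injective
    rw [hg0, ← hk, zsmul_eq_mul, Int.cast_mul, Int.cast_ofNat, CharTwo.two_eq_zero, zero_mul,
      zero_mul]
  · rw [← hk, zsmul_eq_mul, Int.cast_add, Int.cast_mul, Int.cast_ofNat, CharTwo.two_eq_zero,
      zero_mul, zero_add, Int.cast_one, one_mul]

/-- **SUBP**. -/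
theorem subp {F : Type*} [Field F] [Finite F] (r : ℕ) (hr : r.Prime) (hF : Nat.card F = 2 ^ r)
    (I : Subgroup (Equiv.Perm F)) (hI : I ≤ Cfsg.semiaffineGroup F)
    (htrl : ∀ b : F, ∃ g ∈ I, ∀ y, g y = y + b)
    (htr1 : ∀ A B : AddSubgroup F, Nat.card A = 2 → Nat.card B = 2 →
      ∃ g ∈ I, g 0 = 0 ∧ ∀ y, y ∈ B ↔ ∃ x ∈ A, g x = y) :
    I = Cfsg.semiaffineGroup F ∨ I = Cfsg.affineGroup F := by
  classical
  have : Fintype F := Fintype.ofFinite F
  have : Fact (Nat.Prime 2) := ⟨Nat.prime_two⟩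
  have hF' : Fintype.card F = 2 ^ r := by rw [← Nat.card_eq_fintype_card]; exact hF
  have hchar : CharP F 2 := charP_of_card_eq_prime_pow hF'
  have hcardAut : Nat.card (RingAut F) = r := card_ringAut_two_pow r hF
  have : Fact (Nat.card (RingAut F)).Prime := ⟨by rw [hcardAut]; exact hr⟩
  have hpt := pt_trans I htr1
  have htp : ∀ (φ : RingAut F) (x : F), RingAut.toPerm F φ x = φ x := fun _ _ => rfl
  rcases (I.comap (RingAut.toPerm F)).eq_bot_or_eq_top_of_prime_card with hbot | htop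
  · right
    have hbot' : ∀ φ : RingAut F, RingAut.toPerm F φ ∈ I → φ = 1 := by
      intro φ h
      have : φ ∈ I.comap (RingAut.toPerm F) := h
      rw [hbot] at this
      exact Subgroup.mem_bot.mp this
    -- the stabilizer of `0`
    let I₀ : Subgroup (Equiv.Perm F) := I ⊓ MulAction.stabilizer (Equiv.Perm F) (0 : F)
    have hI₀ : ∀ g : Equiv.Perm F, g ∈ I₀ ↔ g ∈ I ∧ g 0 = 0 := by
      intro g
      simp only [I₀, Subgroup.mem_inf, MulAction.mem_stabilizer_iff, Equiv.Perm.smul_def]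
    have hne : ∀ g : I₀, (g : Equiv.Perm F) 1 ≠ 0 := by
      intro g h
      have h0 := ((hI₀ g.1).mp g.2).2
      exact one_ne_zero ((g : Equiv.Perm F).injective (h.trans h0.symm))
    let f : I₀ → Fˣ := fun g => Units.mk0 ((g : Equiv.Perm F) 1) (hne g)
    have hfbij : Function.Bijective f := by
      constructor
      · intro g h hgh
        have h1 : (g : Equiv.Perm F) 1 = (h : Equiv.Perm F) 1 := congrArg Units.val hgh
        have hk : (h⁻¹ * g : I₀).1 ∈ I₀ := (h⁻¹ * g).2
        have hk1 : ((h⁻¹ * g : I₀) : Equiv.Perm F) 1 = 1 := by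
          rw [Subgroup.coe_mul, Subgroup.coe_inv, Equiv.Perm.mul_apply, h1,
            Equiv.Perm.inv_def, Equiv.symm_apply_apply]
        obtain ⟨φ, a, ha⟩ := exists_isSemi (hI ((hI₀ _).mp hk).1) ((hI₀ _).mp hk).2
        have ha1 : (a : F) = 1 := by
          have := ha 1
          rw [hk1, map_one, mul_one] at this
          exact this.symm
        have hkφ : ((h⁻¹ * g : I₀) : Equiv.Perm F) = RingAut.toPerm F φ := by
          ext x
          rw [ha x, ha1, one_mul, htp]
        have hφ1 : φ = 1 := hbot' φ (hkφ ▸ ((hI₀ _).mp hk).1)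
        have : (h⁻¹ * g : I₀) = 1 := by
          apply Subtype.ext
          rw [hkφ, hφ1, map_one]
          rfl
        exact (inv_mul_eq_one.mp this).symm
      · intro u
        obtain ⟨g, hgI, hg0, hg1⟩ := hpt 1 u one_ne_zero u.ne_zero
        exact ⟨⟨g, (hI₀ g).mpr ⟨hgI, hg0⟩⟩, Units.ext hg1⟩
    have hcardI₀ : Nat.card I₀ = 2 ^ r - 1 := by
      rw [Nat.card_congr (Equiv.ofBijective f hfbij), Nat.card_units, hF]
    have hclaim : ∀ g ∈ I, g 0 = 0 → ∃ a : Fˣ, ∀ x, g x = (a : F) * x := by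
      intro g hgI hg0
      obtain ⟨φ, hφ⟩ := exists_isSemi (hI hgI) hg0
      have hpow : g ^ (2 ^ r - 1) = 1 := by
        have h := pow_card_eq_one' (G := I₀) (x := ⟨g, (hI₀ g).mpr ⟨hgI, hg0⟩⟩)
        rw [hcardI₀] at h
        have := congrArg Subtype.val h
        rwa [Subgroup.coe_pow, Subgroup.coe_one] at this
      have h1 : φ ^ (2 ^ r - 1) = 1 := by
        have := hφ.pow (2 ^ r - 1)
        rw [hpow] at this
        exact this.unique IsSemi.one
      have h2 : φ ^ r = 1 := by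
        have := pow_card_eq_one' (G := RingAut F) (x := φ)
        rwa [hcardAut] at this
      have h3 : φ ^ (Nat.gcd (2 ^ r - 1) r) = 1 := pow_gcd_eq_one.mpr ⟨h1, h2⟩
      rw [Nat.Coprime.gcd_eq_one (coprime_two_pow_sub_one r hr), pow_one] at h3
      obtain ⟨a, ha⟩ := hφ
      exact ⟨a, fun x => by rw [ha x, h3, RingAut.one_apply]⟩
    apply le_antisymm
    · intro g hgI
      obtain ⟨t, htI, ht⟩ := htrl (-(g 0))
      have h0 : (t * g) 0 = 0 := by rw [Equiv.Perm.mul_apply, ht, add_neg_cancel]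
      obtain ⟨a, ha⟩ := hclaim (t * g) (I.mul_mem htI hgI) h0
      refine ⟨a, g 0, fun x => ?_⟩
      have := ha x
      rw [Equiv.Perm.mul_apply, ht] at this
      rw [← this]
      ring
    · rintro s ⟨a, b, hs⟩
      obtain ⟨g, hgI, hg0, hg1⟩ := hpt 1 a one_ne_zero a.ne_zero
      obtain ⟨c, hc⟩ := hclaim g hgI hg0
      have hca : (c : F) = a := by
        have := hc 1
        rw [hg1, mul_one] at this
        exact this.symm
      obtain ⟨t, htI, ht⟩ := htrl b
      have : s = t * g := by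
        ext x
        rw [Equiv.Perm.mul_apply, ht, hc, hs, hca]
      rw [this]
      exact I.mul_mem htI hgI
  · left
    have hφ : ∀ φ : RingAut F, RingAut.toPerm F φ ∈ I := by
      intro φ
      have : φ ∈ I.comap (RingAut.toPerm F) := by rw [htop]; trivial
      exact this
    refine le_antisymm hI ?_
    rintro s ⟨a, b, φ, hs⟩
    obtain ⟨g, hgI, hg0, hg1⟩ := hpt 1 a one_ne_zero a.ne_zero
    obtain ⟨ψ, c, hc⟩ := exists_isSemi (hI hgI) hg0
    have hca : (c : F) = a := by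
      have := hc 1
      rw [hg1, map_one, mul_one] at this
      exact this.symm
    obtain ⟨t, htI, ht⟩ := htrl b
    have : s = t * (g * RingAut.toPerm F (ψ⁻¹ : RingAut F)) * RingAut.toPerm F φ := by
      ext x
      rw [Equiv.Perm.mul_apply, Equiv.Perm.mul_apply, Equiv.Perm.mul_apply, ht, hc, htp, htp,
        RingAut.inv_apply, RingEquiv.apply_symm_apply, hs, hca]
    rw [this]
    exact I.mul_mem (I.mul_mem htI (I.mul_mem hgI (hφ _))) (hφ _)

end Cfsg.Agent.Lib.H27.EOC
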