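import Mathlib
import Cfsg.Prelude.Def_Sporadic_a
import Cfsg.Prelude.Def_SporadicCombinatorics
import Cfsg.Agent.Lib.H27.Co0Trans32
import Cfsg.Agent.Lib.H27.Co0Cross

/-!
helper27 library (for S1572): the orbit relation of the stabiliser `N = 2^12 : M24` of the standard
cross on lattice vectors; `N` is transitive on each of the three shapes of vectors of squared
length 32 (copies of the `Co0`-versions `transA`, `transB`, `transC` with the witness carried along).
-/

set_option autoImplicit false

namespace Cfsg.Agent.Lib.H27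

open Cfsg Finset Cfsg.Agent.Lib.H28
open scoped Pointwise

theorem stabCross_one : StabCross (1 : Co0) := by
  intro v hv
  rw [one_smul]
  exact hv

theorem stabCross_mul {g h : Co0} (hg : StabCross g) (hh : StabCross h) : StabCross (g * h) := by
  intro v hv
  rw [mul_smul]
  exact hg _ (hh v hv)

theorem neg_mem_stdCross {a : GolayPt → ℤ} (ha : a ∈ stdCross) : -a ∈ stdCross := by
  obtain ⟨i, s, hs, rfl⟩ := ha
  refine ⟨i, -s, ?_, by rw [Pi.single_neg]⟩
  rcases hs with rfl | rfl
  · exact Or.inr rfl
  · exact Or.inl (by norm_num)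

theorem stabCross_inv {g : Co0} (hg : StabCross g) : StabCross g⁻¹ := by
  classical
  obtain ⟨σ, s, hs, h⟩ := stab_structure hg
  rintro v ⟨j, t, ht, hv⟩
  have hcoord : ∀ i, (v : GolayPt → ℤ) (σ i)
      = s i * ((g⁻¹ • v : leechLattice) : GolayPt → ℤ) i := by
    intro i
    have := h (g⁻¹ • v) i
    rw [smul_inv_smul] at this
    exact this
  refine ⟨σ.symm j, s (σ.symm j) * t, ?_, ?_⟩
  · rcases hs (σ.symm j) with e | e <;> rcases ht with rfl | rfl <;> rw [e] <;> norm_num
  · funext i
    have hi := hcoord i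
    rw [hv, Pi.single_apply] at hi
    rw [Pi.single_apply]
    by_cases hij : σ i = j
    · have hi' : i = σ.symm j := by rw [← hij, Equiv.symm_apply_apply]
      rw [if_pos hij] at hi
      rw [if_pos hi', ← hi']
      rcases hs i with e | e <;> rw [e] at hi ⊢ <;> omega
    · have hi' : i ≠ σ.symm j := fun e => hij (by rw [e, Equiv.apply_symm_apply])
      rw [if_neg hij] at hi
      rw [if_neg hi']
      rcases hs i with e | e <;> rw [e] at hi <;> omega

/-- Two lattice vectors in the same orbit of the stabiliser of the standard cross. -/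
def NRel (v w : leechLattice) : Prop := ∃ g : Co0, StabCross g ∧ g • v = w

theorem NRel.refl (v : leechLattice) : NRel v v := ⟨1, stabCross_one, one_smul _ _⟩

theorem NRel.symm {v w : leechLattice} (h : NRel v w) : NRel w v := by
  obtain ⟨g, hg, rfl⟩ := h
  exact ⟨g⁻¹, stabCross_inv hg, inv_smul_smul g v⟩

theorem NRel.trans {u v w : leechLattice} (h : NRel u v) (h' : NRel v w) : NRel u w := by
  obtain ⟨g, hg, rfl⟩ := h
  obtain ⟨g', hg', rfl⟩ := h'
  exact ⟨g' * g, stabCross_mul hg' hg, mul_smul g' g u⟩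

theorem NRel.coRel {v w : leechLattice} (h : NRel v w) : CoRel v w := by
  obtain ⟨g, _, e⟩ := h
  exact ⟨g, e⟩

theorem permCo0_stab (σ : Equiv.Perm GolayPt) (hσ : σ ∈ M24) : StabCross (permCo0 σ hσ) :=
  monoCo0_stab σ hσ 0 golayCode.zero_mem

theorem signCo0_stab (c : GolayPt → ZMod 2) (hc : c ∈ golayCode) : StabCross (signCo0 c hc) :=
  monoCo0_stab 1 (one_mem _) c hc

theorem nRel_perm (σ : Equiv.Perm GolayPt) (hσ : σ ∈ M24) (v : leechLattice) :
    NRel v (permCo0 σ hσ • v) := ⟨_, permCo0_stab σ hσ, rfl⟩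

theorem nRel_sign {v w : leechLattice} (c : GolayPt → ZMod 2) (hc : c ∈ golayCode)
    (h : ∀ k, (w : GolayPt → ℤ) k
      = if k ∈ support₂ c then -(v : GolayPt → ℤ) k else (v : GolayPt → ℤ) k) : NRel v w := by
  refine ⟨signCo0 c hc, signCo0_stab c hc, Subtype.ext (funext fun k => ?_)⟩
  rw [signCo0_smul, h]

/-- Odd vectors with the same absolute values differ by a sign change on a code word. -/
theorem nsign_fix_odd {v w : leechLattice}
    (habs : ∀ k, |(w : GolayPt → ℤ) k| = |(v : GolayPt → ℤ) k|)
    (hodd : (v : GolayPt → ℤ) none % 2 = 1) : NRel v w := by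
  have hd : ((v - w : leechLattice) : GolayPt → ℤ) ∈ leechLattice := (v - w).2
  obtain ⟨m, c, hm, hc, h1, _⟩ := exists_leechDesc_normal hd
  have hvodd : ∀ k, (v : GolayPt → ℤ) k % 2 = 1 := fun k => by
    rw [leech_parity v.2 k none]; exact hodd
  have hm0 : m = 0 := by
    rcases hm with rfl | rfl
    · rfl
    · exfalso
      have h := h1 none
      rw [AddSubgroup.coe_sub, Pi.sub_apply] at h
      have hv := hvodd none
      rcases eq_or_eq_neg_of_abs (habs none) with e | e <;> rw [e] at h <;>
        unfold Int.ModEq at h <;> omega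
  subst hm0
  apply nRel_sign c hc
  intro k
  have h := h1 k
  rw [AddSubgroup.coe_sub, Pi.sub_apply] at h
  have hv := hvodd k
  have hck : c k = 0 ∨ c k = 1 := by
    have : ∀ b : ZMod 2, b = 0 ∨ b = 1 := by decide
    exact this _
  rcases hck with e0 | e1
  · rw [e0] at h
    rw [if_neg (fun hmem => (mem_support₂_iff c k).1 hmem e0)]
    simp only [ZMod.val_zero, Nat.cast_zero, mul_zero, add_zero] at h
    rcases eq_or_eq_neg_of_abs (habs k) with e | e
    · exact e
    · exfalso
      rw [e] at h
      unfold Int.ModEq at h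
      omega
  · rw [e1] at h
    rw [if_pos ((mem_support₂_iff c k).2 (by rw [e1]; decide))]
    have h1' : ((1 : ZMod 2).val : ℤ) = 1 := by decide
    rw [h1'] at h
    rcases eq_or_eq_neg_of_abs (habs k) with e | e
    · exfalso
      rw [e] at h
      unfold Int.ModEq at h
      omega
    · exact e

/-- Vectors with the same absolute values differ by a sign change on a code word as soon as
the set of sign differences meets evenly every code word inside the support. -/
theorem nsign_fix_even {v w : leechLattice}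
    (habs : ∀ k, |(w : GolayPt → ℤ) k| = |(v : GolayPt → ℤ) k|)
    (hT : ∀ c ∈ golayCode, (∀ k, c k ≠ 0 → (v : GolayPt → ℤ) k ≠ 0) →
      Even (Finset.univ.filter fun k => c k ≠ 0 ∧ (w : GolayPt → ℤ) k ≠ (v : GolayPt → ℤ) k).card) :
    NRel v w := by
  classical
  set T : Finset GolayPt := Finset.univ.filter fun k => (v : GolayPt → ℤ) k ≠ 0 with hTdef
  set S : Finset GolayPt :=
    Finset.univ.filter fun k => (w : GolayPt → ℤ) k ≠ (v : GolayPt → ℤ) k with hSdef
  have hST : S ⊆ T := by
    intro k hk
    rw [hSdef, Finset.mem_filter] at hk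
    rw [hTdef, Finset.mem_filter]
    refine ⟨Finset.mem_univ _, fun h0 => hk.2 ?_⟩
    have := habs k
    rw [h0, abs_zero, abs_eq_zero] at this
    rw [this, h0]
  obtain ⟨c, hc, hcT⟩ := golay_restrict_surj T S hST (by
    intro c hc hsub
    have := hT c hc (fun k hk => by
      have := hsub ((mem_support₂_iff c k).2 hk)
      rw [hTdef, Finset.mem_filter] at this
      exact this.2)
    convert this using 2
    ext k
    rw [Finset.mem_inter, mem_support₂_iff, hSdef, Finset.mem_filter, Finset.mem_filter]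
    simp)
  apply nRel_sign c hc
  intro k
  by_cases hk : (v : GolayPt → ℤ) k = 0
  · have := habs k
    rw [hk, abs_zero, abs_eq_zero] at this
    rw [this, hk]
    simp
  · have hkT : k ∈ T := by
      rw [hTdef, Finset.mem_filter]; exact ⟨Finset.mem_univ _, hk⟩
    have hiff : k ∈ support₂ c ↔ k ∈ S := by
      rw [← hcT, Finset.mem_inter]
      exact ⟨fun h => ⟨h, hkT⟩, fun h => h.1⟩
    by_cases hkS : k ∈ S
    · rw [if_pos (hiff.2 hkS)]
      rw [hSdef, Finset.mem_filter] at hkS
      rcases eq_or_eq_neg_of_abs (habs k) with e | e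
      · exact absurd e hkS.2
      · exact e
    · rw [if_neg (fun h => hkS (hiff.1 h))]
      rw [hSdef, Finset.mem_filter] at hkS
      by_contra hne
      exact hkS ⟨Finset.mem_univ _, hne⟩

theorem ntransA {v w : leechLattice} (hv : IsA (v : GolayPt → ℤ)) (hw : IsA (w : GolayPt → ℤ)) :
    NRel v w := by
  obtain ⟨i, j, hij, hvk⟩ := hv
  obtain ⟨i', j', hij', hwk⟩ := hw
  obtain ⟨σ, hσ, hmap⟩ := exists_M24_map (n := 2) (by norm_num) ![i, j] ![i', j']
    (injective_pair hij) (injective_pair hij')
  have hi : σ i = i' := hmap 0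
  have hj : σ j = j' := hmap 1
  refine (nRel_perm σ hσ v).trans ?_
  have habs : ∀ k, |(w : GolayPt → ℤ) k| = |((permCo0 σ hσ • v : leechLattice) : GolayPt → ℤ) k| := by
    intro k
    rw [permCo0_smul, hwk, hvk]
    have e1 : σ.symm k = i ↔ k = i' := by
      rw [← hi]; exact ⟨fun h => by rw [← h, Equiv.apply_symm_apply], fun h => by rw [h, Equiv.symm_apply_apply]⟩
    have e2 : σ.symm k = j ↔ k = j' := by
      rw [← hj]; exact ⟨fun h => by rw [← h, Equiv.apply_symm_apply], fun h => by rw [h, Equiv.symm_apply_apply]⟩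
    simp only [e1, e2]
  apply nsign_fix_even habs
  intro c hc hsub
  have hc0 : c = 0 := by
    apply eq_zero_of_card_lt hc
    have : support₂ c ⊆ {i', j'} := by
      intro k hk
      have h1 := hsub k ((mem_support₂_iff c k).1 hk)
      have h2 := habs k
      rw [hwk] at h2
      by_contra hne
      rw [Finset.mem_insert, Finset.mem_singleton] at hne
      rw [if_neg hne] at h2
      apply h1
      rw [← abs_eq_zero, ← h2]
    have := Finset.card_le_card this
    have h2 : ({i', j'} : Finset GolayPt).card ≤ 2 := Finset.card_le_two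
    omega
  rw [hc0, filter_eq_empty_of_zero]
  exact ⟨0, rfl⟩

theorem ntransB {v w : leechLattice} (hv : IsB (v : GolayPt → ℤ)) (hw : IsB (w : GolayPt → ℤ)) :
    NRel v w := by
  classical
  obtain ⟨cv, hcv, hcv8, hvk⟩ := hv
  obtain ⟨cw, hcw, hcw8, hwk⟩ := hw
  have hov : support₂ cv ∈ octads := ⟨⟨cv, hcv, rfl⟩, hcv8⟩
  have how : support₂ cw ∈ octads := ⟨⟨cw, hcw, rfl⟩, hcw8⟩
  obtain ⟨σ, hσ, hmap⟩ := exists_M24_smul_octad hov how
  refine (nRel_perm σ hσ v).trans ?_
  have hiff : ∀ k, cv (σ.symm k) ≠ 0 ↔ cw k ≠ 0 := by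
    intro k
    rw [← mem_support₂_iff, ← mem_support₂_iff, ← hmap]
    constructor
    · intro h
      have : k = σ • σ.symm k := by rw [Equiv.Perm.smul_def, Equiv.apply_symm_apply]
      rw [this]
      exact Finset.smul_mem_smul_finset h
    · intro h
      obtain ⟨p, hp, rfl⟩ := Finset.mem_smul_finset.1 h
      rw [Equiv.Perm.smul_def, Equiv.symm_apply_apply]
      exact hp
  have hv'k : ∀ k, |((permCo0 σ hσ • v : leechLattice) : GolayPt → ℤ) k|
      = if cw k ≠ 0 then 2 else 0 := by
    intro k
    rw [permCo0_smul, hvk]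
    simp only [hiff k]
  have habs : ∀ k, |(w : GolayPt → ℤ) k| = |((permCo0 σ hσ • v : leechLattice) : GolayPt → ℤ) k| := by
    intro k
    rw [hv'k, hwk]
  apply nsign_fix_even habs
  intro c hc hsub
  by_cases hc0 : c = 0
  · rw [hc0, filter_eq_empty_of_zero]
    exact ⟨0, rfl⟩
  · have hsubset : support₂ c ⊆ support₂ cw := by
      intro k hk
      have h1 := hsub k ((mem_support₂_iff c k).1 hk)
      rw [mem_support₂_iff]
      intro h0
      apply h1
      rw [← abs_eq_zero, hv'k, if_neg (by simpa using h0)]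
    have h8 := golay_min_weight c hc hc0
    have heq : support₂ c = support₂ cw :=
      Finset.eq_of_subset_of_card_le hsubset (by omega)
    have hceq : ∀ k, c k ≠ 0 ↔ cw k ≠ 0 := by
      intro k
      rw [← mem_support₂_iff, ← mem_support₂_iff, heq]
    set v' : leechLattice := permCo0 σ hσ • v with hv'
    apply even_card_of_sum_mod _ (fun k => (v' : GolayPt → ℤ) k - (w : GolayPt → ℤ) k)
    · intro k hk
      rw [Finset.mem_filter] at hk
      obtain ⟨_, hck, hne⟩ := hk
      have h1 := hv'k k
      have h2 := hwk k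
      rw [if_pos ((hceq k).1 hck)] at h1 h2
      rcases abs_eq (by norm_num : (0 : ℤ) ≤ 2) |>.1 h1 with e1 | e1 <;>
        rcases abs_eq (by norm_num : (0 : ℤ) ≤ 2) |>.1 h2 with e2 | e2
      · exact absurd (e2.trans e1.symm) hne
      · show ((v' : GolayPt → ℤ) k - (w : GolayPt → ℤ) k) % 8 = 4
        rw [e1, e2]; norm_num
      · show ((v' : GolayPt → ℤ) k - (w : GolayPt → ℤ) k) % 8 = 4
        rw [e1, e2]; norm_num
      · exact absurd (e2.trans e1.symm) hne
    · intro k hk
      rw [Finset.mem_filter] at hk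
      push Not at hk
      have hk' := hk (Finset.mem_univ _)
      by_cases hck : c k ≠ 0
      · rw [hk' hck, sub_self]
      · have h1 := hv'k k
        have h2 := hwk k
        rw [if_neg (fun h => hck ((hceq k).2 h))] at h1 h2
        rw [abs_eq_zero] at h1 h2
        rw [h1, h2, sub_self]
    · rw [Finset.sum_sub_distrib]
      have e1 := even_of_abs_two v'.2 hv'k
      have e2 := even_of_abs_two w.2 hwk
      omega

theorem ntransC {v w : leechLattice} (hv : IsC (v : GolayPt → ℤ)) (hw : IsC (w : GolayPt → ℤ)) :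
    NRel v w := by
  obtain ⟨i, hvk⟩ := hv
  obtain ⟨i', hwk⟩ := hw
  obtain ⟨σ, hσ, hmap⟩ := exists_M24_map (n := 1) (by norm_num) (fun _ => i) (fun _ => i')
    (Function.injective_of_subsingleton _) (Function.injective_of_subsingleton _)
  have hi : σ i = i' := hmap 0
  refine (nRel_perm σ hσ v).trans ?_
  have e1 : ∀ k, σ.symm k = i ↔ k = i' := by
    intro k
    rw [← hi]; exact ⟨fun h => by rw [← h, Equiv.apply_symm_apply], fun h => by rw [h, Equiv.symm_apply_apply]⟩
  have hv'k : ∀ k, |((permCo0 σ hσ • v : leechLattice) : GolayPt → ℤ) k|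
      = if k = i' then 3 else 1 := by
    intro k
    rw [permCo0_smul, hvk]
    simp only [e1]
  apply nsign_fix_odd
  · intro k
    rw [hv'k, hwk]
  · have := hv'k none
    split_ifs at this
    · rcases abs_eq (by norm_num : (0 : ℤ) ≤ 3) |>.1 this with e | e <;> rw [e] <;> norm_num
    · rcases abs_eq (by norm_num : (0 : ℤ) ≤ 1) |>.1 this with e | e <;> rw [e] <;> norm_num

end Cfsg.Agent.Lib.H27
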