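import Mathlib
import Cfsg.Agent.Lib.H19.SGTDefs
import Cfsg.Agent.Lib.H19.FittingCrit
import Cfsg.Agent.Lib.H19.Fpf4Main

/-!
# S3795 pieces MIN1-4 (helper27): the minimal configuration `IsMin s Q R`

`min_closure_eq` (`[Q, R] = Q`), `min_central` (proper invariant subgroups normalized by `Q` are
central in `Q`), `min_comm_central` (commutators of `Q` are central), `min_pow_central`
(`t`-th powers are central).  MIN3/MIN4 come from MIN2 applied to the Frattini-type subgroup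
`Φ = ⟨commutators, t-th powers⟩`, which lies in a normal subgroup of index `t` of `Q`.
-/

set_option autoImplicit false
set_option linter.unusedSectionVars false
set_option linter.unusedVariables false

namespace Cfsg.Agent.Lib.H27.SGT

open Module Cfsg Cfsg.Agent.Lib.H19.SG Cfsg.Agent.Lib.H19.SGT Cfsg.Agent.Lib.H19.ModRep
  Cfsg.Agent.Lib.H1 Cfsg.Agent.Lib.H1.QuadMul

universe u uΓ

section aux

variable {Γ : Type*} [Group Γ]

/-- conjugation by `g` maps `closure S` into `K` as soon as it maps `S` into `K` -/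
theorem min_conj_closure {S : Set Γ} {K : Subgroup Γ} (g : Γ)
    (h : ∀ y ∈ S, g * y * g⁻¹ ∈ K) : ∀ z ∈ Subgroup.closure S, g * z * g⁻¹ ∈ K := by
  intro z hz
  induction hz using Subgroup.closure_induction with
  | mem y hy => exact h y hy
  | one => simp
  | mul x y _ _ hx hy =>
    have e : g * (x * y) * g⁻¹ = (g * x * g⁻¹) * (g * y * g⁻¹) := by group
    rw [e]; exact K.mul_mem hx hy
  | inv x _ hx =>
    have e : g * x⁻¹ * g⁻¹ = (g * x * g⁻¹)⁻¹ := by group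
    rw [e]; exact K.inv_mem hx

/-- the elements commuting with `z` are closed under the group operations -/
theorem min_comm_closure {S : Set Γ} (z : Γ) (h : ∀ y ∈ S, z * y = y * z) :
    ∀ q ∈ Subgroup.closure S, z * q = q * z := by
  intro q hq
  induction hq using Subgroup.closure_induction with
  | mem y hy => exact h y hy
  | one => simp
  | mul a b _ _ ha hb =>
    calc z * (a * b) = (z * a) * b := by group
      _ = (a * z) * b := by rw [ha]
      _ = a * (z * b) := by group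
      _ = a * (b * z) := by rw [hb]
      _ = a * b * z := by group
  | inv a _ ha =>
    calc z * a⁻¹ = a⁻¹ * (a * z) * a⁻¹ := by group
      _ = a⁻¹ * (z * a) * a⁻¹ := by rw [ha]
      _ = a⁻¹ * z := by group

/-- a nontrivial `t`-subgroup `Q` has a proper subgroup `K` (normal of index `t`) containing all
commutators and all `t`-th powers of `Q` -/
theorem min_exists_index [Finite Γ] {t : ℕ} [Fact t.Prime] {Q : Subgroup Γ} (hQ : IsPGroup t Q)
    (hne : Q ≠ ⊥) :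
    ∃ K : Subgroup Γ, K ≤ Q ∧ K ≠ Q ∧ (∀ a ∈ Q, ∀ b ∈ Q, a * b * a⁻¹ * b⁻¹ ∈ K) ∧
      (∀ a ∈ Q, a ^ t ∈ K) := by
  have ht : t.Prime := Fact.out
  obtain ⟨m, hm⟩ := IsPGroup.iff_card.mp hQ
  have hm0 : m ≠ 0 := by
    rintro rfl
    rw [pow_zero] at hm
    exact hne (Subgroup.card_eq_one.mp hm)
  obtain ⟨K₀, hK₀⟩ := Sylow.exists_subgroup_card_pow_prime (G := ↥Q) t (n := m - 1)
    (by rw [hm]; exact pow_dvd_pow t (Nat.sub_le m 1))
  have hidx : K₀.index = t := by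
    have h1 := K₀.card_mul_index
    rw [hK₀, hm] at h1
    have e : t ^ (m - 1) * t = t ^ m := by
      rw [← pow_succ]; congr 1; omega
    rw [← e] at h1
    exact Nat.eq_of_mul_eq_mul_left (pow_pos ht.pos _) h1
  haveI : K₀.Normal := by
    apply Subgroup.normal_of_index_eq_minFac_card
    rw [hidx, hm, Nat.Prime.pow_minFac ht hm0]
  have hcardq : Nat.card (↥Q ⧸ K₀) = t := by rw [← Subgroup.index_eq_card]; exact hidx
  haveI : IsCyclic (↥Q ⧸ K₀) := isCyclic_of_prime_card hcardq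
  have hcomm : ∀ x y : ↥Q ⧸ K₀, x * y = y * x := by
    intro x y
    letI := IsCyclic.commGroup (α := ↥Q ⧸ K₀)
    exact mul_comm x y
  refine ⟨K₀.map Q.subtype, Subgroup.map_subtype_le _, ?_, ?_, ?_⟩
  · intro heq
    have h1 : Nat.card (K₀.map Q.subtype) = Nat.card Q := by rw [heq]
    rw [Subgroup.card_map_of_injective Q.subtype_injective, hK₀, hm] at h1
    have := Nat.pow_right_injective ht.two_le h1
    omega
  · intro a ha b hb
    refine ⟨(⟨a, ha⟩ : ↥Q) * ⟨b, hb⟩ * (⟨a, ha⟩ : ↥Q)⁻¹ * (⟨b, hb⟩ : ↥Q)⁻¹, ?_, by simp⟩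
    rw [SetLike.mem_coe, ← QuotientGroup.eq_one_iff]
    simp only [QuotientGroup.mk_mul, QuotientGroup.mk_inv]
    rw [hcomm (QuotientGroup.mk ⟨a, ha⟩) (QuotientGroup.mk ⟨b, hb⟩)]
    group
  · intro a ha
    refine ⟨(⟨a, ha⟩ : ↥Q) ^ t, ?_, by simp⟩
    rw [SetLike.mem_coe, ← QuotientGroup.eq_one_iff, QuotientGroup.mk_pow]
    conv_lhs => rw [← hcardq]
    exact pow_card_eq_one'

end aux

section ambient

variable {k : Type*} [Field k] {Γ : Type uΓ} [Group Γ] {W : Type*} [AddCommGroup W] [Module k W]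

variable {ρ : Representation k Γ W} {s : Γ} {n : ℕ} {Q R : Subgroup Γ} {t u : ℕ}

/-- **MIN1**: `[Q, R] = Q`. -/
theorem min_closure_eq [Finite Γ] [Fact t.Prime] [Fact u.Prime] (htu : t ≠ u)
    (h : Cfg ρ s n Q R t u) (hm : IsMin s Q R) :
    Subgroup.closure {y | ∃ q ∈ Q, ∃ x ∈ R, y = q⁻¹ * (x * q * x⁻¹)} = Q := by
  have ht : t.Prime := Fact.out
  have hu : u.Prime := Fact.out
  set Q₁ := Subgroup.closure {y | ∃ q ∈ Q, ∃ x ∈ R, y = q⁻¹ * (x * q * x⁻¹)} with hQ₁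
  have hle : Q₁ ≤ Q := by
    rw [hQ₁, Subgroup.closure_le]
    rintro y ⟨q, hq, x, hx, rfl⟩
    exact Q.mul_mem (Q.inv_mem hq) (h.hRQ x hx q hq)
  by_contra hne
  have hs₁ : ∀ q ∈ Q₁, s * q * s⁻¹ ∈ Q₁ := by
    apply min_conj_closure
    rintro y ⟨q, hq, x, hx, rfl⟩
    apply Subgroup.subset_closure
    refine ⟨s * q * s⁻¹, h.hsQ q hq, s * x * s⁻¹, h.hsR x hx, ?_⟩
    group
  have hR₁ : ∀ x ∈ R, ∀ q ∈ Q₁, x * q * x⁻¹ ∈ Q₁ := by
    intro x₀ hx₀
    apply min_conj_closure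
    rintro y ⟨q, hq, x, hx, rfl⟩
    apply Subgroup.subset_closure
    refine ⟨x₀ * q * x₀⁻¹, h.hRQ x₀ hx₀ q hq, x₀ * x * x₀⁻¹,
      R.mul_mem (R.mul_mem hx₀ hx) (R.inv_mem hx₀), ?_⟩
    group
  have hc : Cent R Q₁ := hm.2 Q₁ hle hne hs₁ hR₁
  apply hm.1
  intro x hx q hq
  set c := q⁻¹ * (x * q * x⁻¹) with hc_def
  have hcQ₁ : c ∈ Q₁ := Subgroup.subset_closure ⟨q, hq, x, hx, rfl⟩
  have hxc : x * c = c * x := hc x hx c hcQ₁
  have e1 : x * q * x⁻¹ = q * c := by rw [hc_def]; group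
  have hpow : ∀ i : ℕ, x ^ i * q * (x ^ i)⁻¹ = q * c ^ i := by
    intro i
    induction i with
    | zero => simp
    | succ i ih =>
      have hxci : x * c ^ i = c ^ i * x := (Commute.pow_right (show Commute x c from hxc) i)
      have e2 : x * c ^ i * x⁻¹ = c ^ i := by rw [hxci]; group
      calc x ^ (i + 1) * q * (x ^ (i + 1))⁻¹ = x * (x ^ i * q * (x ^ i)⁻¹) * x⁻¹ := by
            rw [pow_succ']; group
        _ = x * (q * c ^ i) * x⁻¹ := by rw [ih]
        _ = (x * q * x⁻¹) * (x * c ^ i * x⁻¹) := by group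
        _ = (q * c) * (c ^ i) := by rw [e1, e2]
        _ = q * c ^ (i + 1) := by rw [pow_succ']; group
  have hcm : c ^ orderOf x = 1 := by
    have h1 := hpow (orderOf x)
    rw [pow_orderOf_eq_one, one_mul, inv_one, mul_one] at h1
    exact mul_left_cancel (a := q) (by rw [mul_one]; exact h1.symm)
  have hc1 : c = 1 := by
    have hcQ : c ∈ Q := hle hcQ₁
    obtain ⟨k1, hk1⟩ := h.hQ ⟨c, hcQ⟩
    obtain ⟨k2, hk2⟩ := h.hR ⟨x, hx⟩
    have hk1' : c ^ t ^ k1 = 1 := by simpa using congrArg Subtype.val hk1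
    have hk2' : x ^ u ^ k2 = 1 := by simpa using congrArg Subtype.val hk2
    have hd1 : orderOf c ∣ t ^ k1 := orderOf_dvd_of_pow_eq_one hk1'
    have hd2 : orderOf c ∣ orderOf x := orderOf_dvd_of_pow_eq_one hcm
    have hd3 : orderOf x ∣ u ^ k2 := orderOf_dvd_of_pow_eq_one hk2'
    have hcop : (t ^ k1).Coprime (u ^ k2) :=
      Nat.Coprime.pow _ _ ((Nat.coprime_primes ht hu).mpr htu)
    have h1 : orderOf c = 1 := Nat.eq_one_of_dvd_coprimes hcop hd1 (hd2.trans hd3)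
    exact orderOf_eq_one_iff.mp h1
  have e3 : x * q * x⁻¹ = q := by rw [e1, hc1, mul_one]
  calc x * q = (x * q * x⁻¹) * x := by group
    _ = q * x := by rw [e3]

/-- **MIN2**: proper invariant subgroups normalized by `Q` are central in `Q`. -/
theorem min_central [Finite Γ] [Fact t.Prime] [Fact u.Prime] (htu : t ≠ u)
    (h : Cfg ρ s n Q R t u) (hm : IsMin s Q R) (N : Subgroup Γ) (hNQ : N ≤ Q) (hne : N ≠ Q)
    (hQN : ∀ q ∈ Q, ∀ z ∈ N, q * z * q⁻¹ ∈ N) (hsN : ∀ z ∈ N, s * z * s⁻¹ ∈ N)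
    (hRN : ∀ x ∈ R, ∀ z ∈ N, x * z * x⁻¹ ∈ N) : ∀ z ∈ N, ∀ q ∈ Q, z * q = q * z := by
  have hc : Cent R N := hm.2 N hNQ hne hsN hRN
  intro z hz q hq
  rw [← min_closure_eq htu h hm] at hq
  refine min_comm_closure z ?_ q hq
  rintro y ⟨q, hq, x, hx, rfl⟩
  have h1 : x * z = z * x := hc x hx z hz
  have hz' : q * z * q⁻¹ ∈ N := hQN q hq z hz
  have h2 : x * (q * z * q⁻¹) = (q * z * q⁻¹) * x := hc x hx _ hz'
  have e0 : x⁻¹ * z * x = z := by
    calc x⁻¹ * z * x = x⁻¹ * (z * x) := by group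
      _ = x⁻¹ * (x * z) := by rw [h1]
      _ = z := by group
  have h3 : (x * q * x⁻¹) * z * (x * q * x⁻¹)⁻¹ = q * z * q⁻¹ := by
    calc (x * q * x⁻¹) * z * (x * q * x⁻¹)⁻¹ = x * q * (x⁻¹ * z * x) * q⁻¹ * x⁻¹ := by group
      _ = x * q * z * q⁻¹ * x⁻¹ := by rw [e0]
      _ = (x * (q * z * q⁻¹)) * x⁻¹ := by group
      _ = ((q * z * q⁻¹) * x) * x⁻¹ := by rw [h2]
      _ = q * z * q⁻¹ := by group
  calc z * (q⁻¹ * (x * q * x⁻¹)) = q⁻¹ * (q * z * q⁻¹) * (x * q * x⁻¹) := by group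
    _ = q⁻¹ * ((x * q * x⁻¹) * z * (x * q * x⁻¹)⁻¹) * (x * q * x⁻¹) := by rw [h3]
    _ = q⁻¹ * (x * q * x⁻¹) * z := by group

/-- the Frattini-type subgroup `⟨commutators, t-th powers⟩` of `Q` is central in `Q` -/
theorem min_phi_central [Finite Γ] [Fact t.Prime] [Fact u.Prime] (htu : t ≠ u)
    (h : Cfg ρ s n Q R t u) (hm : IsMin s Q R) :
    ∀ z ∈ Subgroup.closure ({y | ∃ a ∈ Q, ∃ b ∈ Q, y = a * b * a⁻¹ * b⁻¹} ∪
      {y | ∃ a ∈ Q, y = a ^ t}), ∀ q ∈ Q, z * q = q * z := by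
  set Φ := Subgroup.closure ({y | ∃ a ∈ Q, ∃ b ∈ Q, y = a * b * a⁻¹ * b⁻¹} ∪
      {y | ∃ a ∈ Q, y = a ^ t}) with hΦ
  have hQne : Q ≠ ⊥ := by
    intro hbot
    apply hm.1
    intro x hx q hq
    rw [hbot, Subgroup.mem_bot] at hq
    subst hq
    simp
  obtain ⟨K, hKQ, hKne, hKc, hKp⟩ := min_exists_index h.hQ hQne
  have hΦK : Φ ≤ K := by
    rw [hΦ, Subgroup.closure_le]
    rintro y (⟨a, ha, b, hb, rfl⟩ | ⟨a, ha, rfl⟩)
    · exact hKc a ha b hb
    · exact hKp a ha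
  have hΦQ : Φ ≤ Q := hΦK.trans hKQ
  have hΦne : Φ ≠ Q := by
    intro heq
    apply hKne
    exact le_antisymm hKQ (heq ▸ hΦK)
  -- invariance under anything normalizing `Q`
  have hinv : ∀ g : Γ, (∀ q ∈ Q, g * q * g⁻¹ ∈ Q) → ∀ z ∈ Φ, g * z * g⁻¹ ∈ Φ := by
    intro g hg
    apply min_conj_closure
    rintro y (⟨a, ha, b, hb, rfl⟩ | ⟨a, ha, rfl⟩)
    · apply Subgroup.subset_closure
      left
      refine ⟨g * a * g⁻¹, hg a ha, g * b * g⁻¹, hg b hb, ?_⟩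
      group
    · apply Subgroup.subset_closure
      right
      refine ⟨g * a * g⁻¹, hg a ha, ?_⟩
      rw [conj_pow]
  exact min_central htu h hm Φ hΦQ hΦne
    (fun q hq => hinv q (fun a ha => Q.mul_mem (Q.mul_mem hq ha) (Q.inv_mem hq)))
    (hinv s h.hsQ) (fun x hx => hinv x (h.hRQ x hx))

/-- **MIN3**: commutators are central. -/
theorem min_comm_central [Finite Γ] [Fact t.Prime] [Fact u.Prime] (htu : t ≠ u)
    (h : Cfg ρ s n Q R t u) (hm : IsMin s Q R) :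
    ∀ a ∈ Q, ∀ b ∈ Q, ∀ q ∈ Q, (a * b * a⁻¹ * b⁻¹) * q = q * (a * b * a⁻¹ * b⁻¹) := by
  intro a ha b hb q hq
  exact min_phi_central htu h hm _
    (Subgroup.subset_closure (Or.inl ⟨a, ha, b, hb, rfl⟩)) q hq

/-- **MIN4**: `t`-th powers are central (so `Q / Z(Q)` is elementary abelian). -/
theorem min_pow_central [Finite Γ] [Fact t.Prime] [Fact u.Prime] (htu : t ≠ u)
    (h : Cfg ρ s n Q R t u) (hm : IsMin s Q R) :
    ∀ a ∈ Q, ∀ q ∈ Q, a ^ t * q = q * a ^ t := by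
  intro a ha q hq
  exact min_phi_central htu h hm _
    (Subgroup.subset_closure (Or.inr ⟨a, ha, rfl⟩)) q hq

end ambient

end Cfsg.Agent.Lib.H27.SGT
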