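import Mathlib
import Cfsg.Agent.Lib.H19.SGTDefs
import Cfsg.Agent.Lib.H19.FittingCrit
import Cfsg.Agent.Lib.H19.Fpf4Main
import Cfsg.Agent.Lib.H1.IndexBasic
import Cfsg.Agent.Lib.H1.CoprimeSylow
import Cfsg.Agent.Lib.H19.WardG

/-!
# S3795 piece GL1 (helper27): `exists_pgroup_of_sylow_cent`

An involution `τ` normalizing a subgroup `H` of odd order such that for every prime `v ≠ t` some
Sylow `v`-subgroup of `H` is centralized by `τ`: all commutators `h⁻¹ τ h τ⁻¹` lie in one
`t`-subgroup `S` of `H` (a `τ`-invariant Sylow `t`-subgroup).  Proof: `C = C_H(τ)` has `t`-power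
index in `H`, so `H = C S` (coprime indices), and for `h = c x`: `h⁻¹ τ h τ⁻¹ = x⁻¹ (τ x τ⁻¹) ∈ S`.
(No Hall subgroup and no solvability is needed.)
-/

set_option autoImplicit false
set_option linter.unusedSectionVars false
set_option linter.unusedVariables false

namespace Cfsg.Agent.Lib.H27.SGT

open Module Cfsg Cfsg.Agent.Lib.H19.SG Cfsg.Agent.Lib.H19.SGT Cfsg.Agent.Lib.H19.ModRep
  Cfsg.Agent.Lib.H1 Cfsg.Agent.Lib.H1.QuadMul

universe u uΓ

/-- if every prime `v ≠ t` has `v`-adic valuation zero in `m`, then `m` is coprime to every number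
prime to `t`... (auxiliary): `m ≠ 0` whose only possible prime divisor is `t` is a power of `t`. -/
theorem gl1_eq_pow_of_only_prime {t m : ℕ} (ht : t.Prime) (hm : m ≠ 0)
    (h : ∀ v : ℕ, v.Prime → v ≠ t → ¬ v ∣ m) : ∃ a : ℕ, m = t ^ a := by
  refine ⟨m.factorization t, ?_⟩
  apply Nat.eq_of_factorization_eq hm (pow_ne_zero _ ht.ne_zero)
  intro v
  by_cases hv : v.Prime
  · by_cases hvt : v = t
    · subst hvt
      rw [Nat.Prime.factorization_pow ht]
      simp
    · rw [Nat.Prime.factorization_pow ht, Finsupp.single_apply, if_neg (Ne.symm hvt)]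
      exact Nat.factorization_eq_zero_of_not_dvd (h v hv hvt)
  · rw [Nat.factorization_eq_zero_of_not_prime _ hv, Nat.factorization_eq_zero_of_not_prime _ hv]

theorem gl1_card_mul_relIndex {Γ : Type*} [Group Γ] {A B : Subgroup Γ} (h : A ≤ B) :
    Nat.card A * A.relIndex B = Nat.card B := by
  have := Subgroup.relIndex_mul_relIndex (⊥ : Subgroup Γ) A B bot_le h
  rwa [Subgroup.relIndex_bot_left, Subgroup.relIndex_bot_left] at this

/-- **GL1** -/
theorem exists_pgroup_of_sylow_cent {Γ : Type u} [Group Γ] [Finite Γ] (H : Subgroup Γ)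
    [Group.IsSolvable ↥H] (hodd : (Nat.card H).Coprime 2) (τ : Γ) (hτ2 : τ ^ 2 = 1)
    (hτH : ∀ h ∈ H, τ * h * τ⁻¹ ∈ H) (t : ℕ) [Fact t.Prime]
    (hsyl : ∀ v : ℕ, v.Prime → v ≠ t → ∃ U : Subgroup Γ, IsSylowOf v H U ∧
      ∀ x ∈ U, τ * x = x * τ) :
    ∃ S : Subgroup Γ, S ≤ H ∧ IsPGroup t S ∧ ∀ h ∈ H, h⁻¹ * τ * h * τ⁻¹ ∈ S := by
  classical
  have ht : t.Prime := Fact.out
  have hτinv : τ⁻¹ = τ := by
    have : τ * τ = 1 := by rw [← pow_two]; exact hτ2
    exact inv_eq_of_mul_eq_one_left this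
  -- `A = ⟨τ⟩` is a `2`-group normalizing `H`
  have hA : IsPGroup 2 (Subgroup.zpowers τ) :=
    Cfsg.Agent.Lib.H19.SG.isPGroup_zpowers' (n := 1) Nat.prime_two (by rw [pow_one]; exact hτ2)
  have hτN : τ ∈ Subgroup.normalizer (H : Set Γ) := by
    rw [Subgroup.mem_normalizer_iff]
    intro h
    constructor
    · intro hh; exact hτH h hh
    · intro hh
      have := hτH _ hh
      rw [hτinv] at this hh
      have e : τ * (τ * h * τ) * τ = h := by
        have h1 : τ * τ = 1 := by rw [← pow_two]; exact hτ2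
        calc τ * (τ * h * τ) * τ = (τ * τ) * h * (τ * τ) := by group
          _ = h := by rw [h1]; group
      rwa [e] at this
  have hAH : Subgroup.zpowers τ ≤ Subgroup.normalizer (H : Set Γ) := by
    rw [Subgroup.zpowers_le]; exact hτN
  have hca : CoprimeAction (Subgroup.zpowers τ) H :=
    Cfsg.Agent.Lib.H19.Ward.coprimeAction_of_isPGroup hA hodd hAH
  obtain ⟨S, hS, hAS⟩ := coprime_exists_invariant_sylow hca t
  have hτS : τ ∈ Subgroup.normalizer (S : Set Γ) := hAS (Subgroup.mem_zpowers τ)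
  refine ⟨S, hS.le, hS.isPGroup, ?_⟩
  -- the centralizer of `τ` in `H`
  set C : Subgroup Γ := H ⊓ Subgroup.centralizer ({τ} : Set Γ) with hC
  have hCH : C ≤ H := inf_le_left
  -- `[H : C]` is a power of `t`
  have hrelC : ∃ a : ℕ, C.relIndex H = t ^ a := by
    apply gl1_eq_pow_of_only_prime ht
    · intro h0
      have := gl1_card_mul_relIndex hCH
      rw [h0, mul_zero] at this
      exact Nat.card_pos.ne' this.symm
    · intro v hv hvt hdvd
      obtain ⟨U, hU, hUτ⟩ := hsyl v hv hvt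
      have hUC : U ≤ C := by
        intro x hx
        refine ⟨hU.le hx, ?_⟩
        refine Subgroup.mem_centralizer_iff.mpr ?_
        intro y hy
        rw [Set.mem_singleton_iff] at hy
        subst hy
        exact hUτ x hx
      have h1 : Nat.card U ∣ Nat.card C := Subgroup.card_dvd_of_le hUC
      rw [hU.card_eq] at h1
      have h2 : Nat.card C * C.relIndex H = Nat.card H := gl1_card_mul_relIndex hCH
      have h3 : v ^ ((Nat.card H).factorization v + 1) ∣ Nat.card H := by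
        rw [pow_succ]
        calc v ^ (Nat.card H).factorization v * v ∣ Nat.card C * C.relIndex H :=
              Nat.mul_dvd_mul h1 hdvd
          _ = Nat.card H := h2
      have h4 := (Nat.Prime.pow_dvd_iff_le_factorization hv Nat.card_pos.ne').mp h3
      omega
  obtain ⟨a, ha⟩ := hrelC
  -- `[H : S]` is prime to `t`
  have hrelS : ¬ t ∣ S.relIndex H := by
    intro hdvd
    have h2 : Nat.card S * S.relIndex H = Nat.card H := gl1_card_mul_relIndex hS.le
    have h3 : t ^ ((Nat.card H).factorization t + 1) ∣ Nat.card H := by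
      rw [pow_succ]
      calc t ^ (Nat.card H).factorization t * t ∣ Nat.card S * S.relIndex H := by
            rw [hS.card_eq]; exact Nat.mul_dvd_mul_left _ hdvd
        _ = Nat.card H := h2
    have h4 := (Nat.Prime.pow_dvd_iff_le_factorization ht Nat.card_pos.ne').mp h3
    omega
  have hcop : ((C.subgroupOf H).index).Coprime ((S.subgroupOf H).index) := by
    change (C.relIndex H).Coprime (S.relIndex H)
    rw [ha]
    apply Nat.Coprime.pow_left
    exact (Nat.Prime.coprime_iff_not_dvd ht).mpr hrelS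
  intro h hh
  obtain ⟨c, hc, x, hx, hcx⟩ := exists_mul_of_coprime_index hcop (⟨h, hh⟩ : ↥H)
  have hcC : (c : Γ) ∈ C := Subgroup.mem_subgroupOf.mp hc
  have hxS : (x : Γ) ∈ S := Subgroup.mem_subgroupOf.mp hx
  have hhe : h = (c : Γ) * (x : Γ) := by
    have := congrArg Subtype.val hcx
    simpa using this
  have hcτ : τ * (c : Γ) = (c : Γ) * τ := by
    have := Subgroup.mem_centralizer_iff.mp hcC.2
    exact this τ (Set.mem_singleton τ)
  have hconj : τ * (x : Γ) * τ⁻¹ ∈ S := (Subgroup.mem_normalizer_iff.mp hτS _).mp hxS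
  have e : h⁻¹ * τ * h * τ⁻¹ = (x : Γ)⁻¹ * (τ * (x : Γ) * τ⁻¹) := by
    rw [hhe]
    calc ((c : Γ) * (x : Γ))⁻¹ * τ * ((c : Γ) * (x : Γ)) * τ⁻¹
        = (x : Γ)⁻¹ * ((c : Γ)⁻¹ * (τ * (c : Γ))) * (x : Γ) * τ⁻¹ := by group
      _ = (x : Γ)⁻¹ * ((c : Γ)⁻¹ * ((c : Γ) * τ)) * (x : Γ) * τ⁻¹ := by rw [hcτ]
      _ = (x : Γ)⁻¹ * (τ * (x : Γ) * τ⁻¹) := by group
  rw [e]
  exact S.mul_mem (S.inv_mem hxS) hconj

end Cfsg.Agent.Lib.H27.SGT
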