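import Mathlib
import Cfsg.Agent.Lib.H26.TMXDefs

/-!
# S4383 piece MOD (helper26's farm-out), part a: everything except the call of UNIQ

`index_modEq_one_aux`: the statement of MOD with UNIQ (`unique_conj`) as an explicit hypothesis.
-/

set_option autoImplicit false
open Pointwise

namespace Cfsg.Agent.Lib.H27.TMX

open Cfsg.Agent.Lib.H26.TMX

universe u
variable {G : Type u} [Group G] [Finite G]

omit [Finite G] in
theorem mem_conj_smul (M : Subgroup G) (x g : G) :
    g ∈ MulAut.conj x • M ↔ x⁻¹ * g * x ∈ M := by
  rw [Subgroup.mem_pointwise_smul_iff_inv_smul_mem]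
  simp [MulAut.smul_def]

omit [Finite G] in
theorem index_conj_smul (M : Subgroup G) (x : G) : (MulAut.conj x • M).index = M.index := by
  rw [Subgroup.pointwise_smul_def]
  exact Subgroup.index_map_equiv (H := M) (MulAut.conj x)

/-- a finite group acting on a finite set with a fixed point `a₀`, all other point stabilisers of
index divisible by `d`: then `d ∣ |X| - 1` -/
theorem dvd_card_sub_one_of_fixed {P : Type*} [Group P] [Finite P] {X : Type*} [MulAction P X]
    [Finite X] (d : ℕ) (a₀ : X) (hfix : ∀ g : P, g • a₀ = a₀)
    (hd : ∀ a : X, a ≠ a₀ → d ∣ (MulAction.stabilizer P a).index) : d ∣ Nat.card X - 1 := by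
  classical
  haveI : Fintype (Quotient (MulAction.orbitRel P X)) := Fintype.ofFinite _
  have hcard : Nat.card X =
      ∑ ω : Quotient (MulAction.orbitRel P X), (MulAction.stabilizer P ω.out).index := by
    rw [Nat.card_congr (MulAction.selfEquivSigmaOrbitsQuotientStabilizer P X), Nat.card_sigma]
    refine Finset.sum_congr rfl fun ω _ => ?_
    rw [Subgroup.index_eq_card]
  set ω₀ : Quotient (MulAction.orbitRel P X) := Quotient.mk'' a₀ with hω₀
  have hout : ω₀.out = a₀ := by
    have h1 : (Quotient.mk'' ω₀.out : Quotient (MulAction.orbitRel P X)) = Quotient.mk'' a₀ :=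
      Quotient.out_eq' ω₀
    have h2 := Quotient.exact' h1
    rw [MulAction.orbitRel_apply] at h2
    obtain ⟨g, hg⟩ := h2
    rw [← hg]
    exact hfix g
  have hstab : (MulAction.stabilizer P ω₀.out).index = 1 := by
    rw [hout, Subgroup.index_eq_one, eq_top_iff]
    intro g _
    exact hfix g
  rw [hcard, ← Finset.add_sum_erase Finset.univ _ (Finset.mem_univ ω₀), hstab, Nat.add_sub_cancel_left]
  refine Finset.dvd_sum fun ω hω => ?_
  apply hd
  intro h
  apply (Finset.mem_erase.mp hω).1
  rw [hω₀, ← h]
  exact (Quotient.out_eq' ω).symm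

/-- MOD with UNIQ as a hypothesis -/
theorem index_modEq_one_aux (p : ℕ) [Fact p.Prime] (M₁ M₂ : Subgroup G) (hcov : Cover M₁ M₂)
    (hself : Subgroup.normalizer (M₂ : Set G) = M₂)
    (hnp : ¬ IsPGroup p G) (hp1 : p ∣ M₁.index)
    (huniq : ¬ p ∣ M₂.index → ∀ A : Subgroup G, IsPGroup p A →
      p ^ ((Nat.card M₁).factorization p) < Nat.card A → ∀ x y : G,
      A ≤ MulAut.conj x • M₂ → A ≤ MulAut.conj y • M₂ →
      MulAut.conj x • M₂ = MulAut.conj y • M₂) :
    p ^ (M₁.index.factorization p) ∣ M₂.index - 1 := by
  have hp : p.Prime := Fact.out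
  let P : Sylow p G := default
  set n := (Nat.card G).factorization p with hn
  set m := (Nat.card M₁).factorization p with hm
  have hPc : Nat.card (P : Subgroup G) = p ^ n := P.card_eq_multiplicity
  -- the valuation of the index
  have hval : M₁.index.factorization p = n - m := by
    have h1 : Nat.card M₁ * M₁.index = Nat.card G := M₁.card_mul_index
    have h2 : (Nat.card M₁ * M₁.index).factorization p = m + M₁.index.factorization p := by
      rw [Nat.factorization_mul Nat.card_pos.ne' M₁.index_ne_zero_of_finite]
      rfl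
    rw [h1] at h2
    omega
  -- `P` lies in a conjugate of `M₂`
  have hPtop : (P : Subgroup G) ≠ ⊤ := by
    intro h
    apply hnp
    have := P.isPGroup'
    rw [h] at this
    intro g
    obtain ⟨k, hk⟩ := this ⟨g, Subgroup.mem_top g⟩
    exact ⟨k, by simpa using congrArg Subtype.val hk⟩
  obtain ⟨x₀, hx₀⟩ : ∃ x₀ : G, (P : Subgroup G) ≤ MulAut.conj x₀ • M₂ := by
    obtain ⟨g, hg | hg⟩ := hcov P hPtop
    · exfalso
      have h1 := Subgroup.index_dvd_of_le hg
      rw [index_conj_smul] at h1
      exact P.not_dvd_index (dvd_trans hp1 h1)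
    · exact ⟨g, hg⟩
  have hp2 : ¬ p ∣ M₂.index := by
    intro h
    have h1 := Subgroup.index_dvd_of_le hx₀
    rw [index_conj_smul] at h1
    exact P.not_dvd_index (dvd_trans h h1)
  have huniq' := huniq hp2
  -- the action of `P` on `G ⧸ M₂`
  have hsmul : ∀ (g : (P : Subgroup G)) (y : G),
      g • (y : G ⧸ M₂) = ((g : G) * y : G) := fun g y => rfl
  have hstabmem : ∀ (g : (P : Subgroup G)) (y : G),
      g ∈ MulAction.stabilizer (P : Subgroup G) (y : G ⧸ M₂) ↔ (g : G) ∈ MulAut.conj y • M₂ := by
    intro g y
    rw [MulAction.mem_stabilizer_iff, hsmul, QuotientGroup.eq, mem_conj_smul]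
    constructor
    · intro h
      have := M₂.inv_mem h
      convert this using 1
      group
    · intro h
      have := M₂.inv_mem h
      convert this using 1
      group
  rw [hval, Subgroup.index_eq_card]
  apply dvd_card_sub_one_of_fixed (P := (P : Subgroup G)) (p ^ (n - m)) ((x₀ : G) : G ⧸ M₂)
  · intro g
    have : g ∈ MulAction.stabilizer (P : Subgroup G) ((x₀ : G) : G ⧸ M₂) := by
      rw [hstabmem]; exact hx₀ g.2
    exact this
  · intro a ha
    induction a using QuotientGroup.induction_on with
    | H y =>
      set St := MulAction.stabilizer (P : Subgroup G) (y : G ⧸ M₂) with hSt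
      set A : Subgroup G := St.map (P : Subgroup G).subtype with hA
      have hAc : Nat.card A = Nat.card St :=
        Subgroup.card_map_of_injective (P : Subgroup G).subtype_injective
      have hAP : A ≤ (P : Subgroup G) := Subgroup.map_subtype_le St
      have hAp : IsPGroup p A := P.isPGroup'.to_le hAP
      have hAy : A ≤ MulAut.conj y • M₂ := by
        rintro _ ⟨g, hg, rfl⟩
        exact (hstabmem g y).mp hg
      have hle : ¬ p ^ m < Nat.card A := by
        intro hlt
        have heq := huniq' A hAp hlt x₀ y (hAP.trans hx₀) hAy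
        apply ha
        -- `x₀⁻¹ * y ∈ N(M₂) = M₂`
        have hz : x₀⁻¹ * y ∈ Subgroup.normalizer (M₂ : Set G) := by
          rw [Subgroup.mem_normalizer_iff]
          intro h
          constructor
          · intro hh
            have h1 : y * h * y⁻¹ ∈ MulAut.conj y • M₂ := by
              rw [mem_conj_smul]; convert hh using 1; group
            rw [← heq, mem_conj_smul] at h1
            convert h1 using 1
            group
          · intro hh
            have h1 : x₀ * (x₀⁻¹ * y * h * (x₀⁻¹ * y)⁻¹) * x₀⁻¹ ∈ MulAut.conj x₀ • M₂ := by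
              rw [mem_conj_smul]; convert hh using 1; group
            rw [heq, mem_conj_smul] at h1
            convert h1 using 1
            group
        rw [hself] at hz
        exact (QuotientGroup.eq.mpr hz).symm
      obtain ⟨j, hj⟩ := (IsPGroup.iff_card).mp hAp
      have hjm : j ≤ m := by
        by_contra hcon
        apply hle
        rw [hj]
        exact Nat.pow_lt_pow_right hp.one_lt (by omega)
      have hjn : j ≤ n := by
        have h1 : Nat.card A ∣ Nat.card (P : Subgroup G) := Subgroup.card_dvd_of_le hAP
        rw [hj, hPc] at h1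
        exact (Nat.pow_dvd_pow_iff_le_right hp.one_lt).mp h1
      have hidx : St.index = p ^ (n - j) := by
        have h1 : Nat.card St * St.index = Nat.card (P : Subgroup G) := St.card_mul_index
        rw [← hAc, hj, hPc] at h1
        have h2 : p ^ n = p ^ j * p ^ (n - j) := by rw [← pow_add]; congr 1; omega
        rw [h2] at h1
        exact Nat.eq_of_mul_eq_mul_left (pow_pos hp.pos j) h1
      rw [hidx]
      exact pow_dvd_pow p (by omega)

end Cfsg.Agent.Lib.H27.TMX
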