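import Mathlib
import Cfsg.Agent.Lib.H22.PearlDefs

/-!
# S5239 piece S1IDX (helper27): in a `3`-group of maximal class and order `≥ 3^4`, the two-step centralizer
`S₁ = C_G(γ₂/γ₄)` has index `3`.
-/

set_option autoImplicit false

namespace Cfsg.Agent.Lib.H27.Pearl

open Cfsg.Agent.Lib.H22.Pearl
open scoped commutatorElement

/-- For `N ⊴ G`, `s ∈ G` with `[[s,G],G] ≤ N` (in the form: `g c g⁻¹ ≡ c` modulo `N` for the commutators `c = [s,h]`):
`g ↦ [s,g] N` is a homomorphism `G → G ⧸ N`. -/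
def commHomMod {G : Type*} [Group G] (N : Subgroup G) [N.Normal] (s : G)
    (hN : ∀ g h : G, ⁅g, ⁅s, h⁆⁻¹⁆ ∈ N) : G →* G ⧸ N where
  toFun g := QuotientGroup.mk ⁅s, g⁆
  map_one' := by
    rw [commutatorElement_one_right]
    rfl
  map_mul' g h := by
    have h1 : ⁅s, g * h⁆ = ⁅s, g⁆ * (g * ⁅s, h⁆ * g⁻¹) := by
      simp only [commutatorElement_def]
      group
    rw [h1, QuotientGroup.mk_mul]
    congr 1
    rw [QuotientGroup.eq]
    have h2 : (g * ⁅s, h⁆ * g⁻¹)⁻¹ * ⁅s, h⁆ = ⁅g, ⁅s, h⁆⁻¹⁆ := by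
      simp only [commutatorElement_def]
      group
    rw [h2]
    exact hN g h

theorem commHomMod_apply {G : Type*} [Group G] (N : Subgroup G) [N.Normal] (s : G)
    (hN : ∀ g h : G, ⁅g, ⁅s, h⁆⁻¹⁆ ∈ N) (g : G) :
    commHomMod N s hN g = QuotientGroup.mk ⁅s, g⁆ := rfl

theorem mem_ker_commHomMod {G : Type*} [Group G] (N : Subgroup G) [N.Normal] (s : G)
    (hN : ∀ g h : G, ⁅g, ⁅s, h⁆⁻¹⁆ ∈ N) (g : G) :
    g ∈ (commHomMod N s hN).ker ↔ ⁅s, g⁆ ∈ N := by
  rw [MonoidHom.mem_ker, commHomMod_apply, QuotientGroup.eq_one_iff]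

/-- `|A N / N| = |A| / |N|` for `N ≤ A`, in the multiplicative form. -/
theorem card_map_mk_mul {G : Type*} [Group G] [Finite G] (N : Subgroup G) [N.Normal] (A : Subgroup G)
    (hNA : N ≤ A) : Nat.card ↥(A.map (QuotientGroup.mk' N)) * Nat.card ↥N = Nat.card ↥A := by
  have h1 : (A.map (QuotientGroup.mk' N)).index = A.index := by
    rw [← Subgroup.index_comap_of_surjective (A.map (QuotientGroup.mk' N))
      (QuotientGroup.mk'_surjective N), Subgroup.comap_map_eq_self]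
    rw [QuotientGroup.ker_mk']
    exact hNA
  have h2 := Subgroup.card_mul_index (A.map (QuotientGroup.mk' N))
  have h3 := Subgroup.card_mul_index A
  have h4 := Subgroup.card_mul_index N
  have h5 : Nat.card (G ⧸ N) = N.index := (Subgroup.index_eq_card N).symm
  rw [h1, h5] at h2
  -- `a * i = j`, `cA * i = cG`, `cN * j = cG`
  have hi : 0 < A.index := Nat.pos_of_ne_zero Subgroup.index_ne_zero_of_finite
  apply Nat.eq_of_mul_eq_mul_right hi
  calc Nat.card ↥(A.map (QuotientGroup.mk' N)) * Nat.card ↥N * A.index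
      = Nat.card ↥N * (Nat.card ↥(A.map (QuotientGroup.mk' N)) * A.index) := by ring
    _ = Nat.card ↥N * N.index := by rw [h2]
    _ = Nat.card ↥A * A.index := by rw [h4, h3]

/-- **S1IDX**. -/
theorem card_S1 {G : Type*} [Group G] [Finite G] {n : ℕ} (hn : 4 ≤ n) (hG : Nat.card G = 3 ^ n)
    (hcard : ∀ i, 1 ≤ i → i ≤ n - 1 → Nat.card ↥(L G i) = 3 ^ (n - 1 - i)) :
    Nat.card ↥(S1 G) = 3 ^ (n - 1) := by
  haveI : Fact (Nat.Prime 3) := ⟨Nat.prime_three⟩
  have hP : IsPGroup 3 G := IsPGroup.of_card hG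
  haveI : Group.IsNilpotent G := hP.isNilpotent
  obtain ⟨m, rfl⟩ := Nat.exists_eq_add_of_le hn
  have hc1 : Nat.card ↥(L G 1) = 3 ^ (m + 2) := by
    rw [hcard 1 le_rfl (by omega)]; congr 1; omega
  have hc2 : Nat.card ↥(L G 2) = 3 ^ (m + 1) := by
    rw [hcard 2 (by omega) (by omega)]; congr 1; omega
  have hc3 : Nat.card ↥(L G 3) = 3 ^ m := by
    rw [hcard 3 (by omega) (by omega)]; congr 1; omega
  have h21 : L G 2 ≤ L G 1 := Subgroup.lowerCentralSeries_antitone _ (by omega)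
  have h32 : L G 3 ≤ L G 2 := Subgroup.lowerCentralSeries_antitone _ (by omega)
  -- `s ∈ L 1 \ L 2`
  have hlt : L G 2 < L G 1 := by
    refine lt_of_le_of_ne h21 ?_
    intro heq
    rw [heq, hc1] at hc2
    have := Nat.pow_right_injective (show 2 ≤ 3 by norm_num) hc2
    omega
  obtain ⟨s, hs, hsn⟩ := SetLike.exists_of_lt hlt
  have hsup : Subgroup.zpowers s ⊔ L G 2 = L G 1 :=
    Cfsg.Agent.Lib.H25.MCS.mcs_sup_eq hP (L G 1) (L G 2) h21 (by rw [hc1, hc2, pow_succ']) s hs hsn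
  -- commutators
  have hcs : ∀ g : G, ⁅s, g⁆ ∈ L G 2 := fun g =>
    Subgroup.commutator_mem_commutator hs (Subgroup.mem_top g)
  have hc23 : ∀ c ∈ L G 2, ∀ g : G, ⁅c, g⁆ ∈ L G 3 := fun c hc g =>
    Subgroup.commutator_mem_commutator hc (Subgroup.mem_top g)
  have hN : ∀ g h : G, ⁅g, ⁅s, h⁆⁻¹⁆ ∈ L G 3 := fun g h =>
    Cfsg.Agent.Lib.H25.R2.b5_comm_mem_symm _ (hc23 _ (inv_mem (hcs h)) g)
  -- the homomorphism
  set ψ : G →* G ⧸ L G 3 := commHomMod (L G 3) s hN with hψ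
  have hker : ψ.ker = S1 G := by
    ext g
    rw [hψ, mem_ker_commHomMod, mem_S1]
    constructor
    · intro hg x hx
      have hle : Subgroup.zpowers s ⊔ L G 2 ≤ Cfsg.Agent.Lib.H25.R2.b5Cent (L G 3) g := by
        refine sup_le ?_ ?_
        · rw [Subgroup.zpowers_le, Cfsg.Agent.Lib.H25.R2.b5_mem_cent]
          exact Cfsg.Agent.Lib.H25.R2.b5_comm_mem_symm _ hg
        · intro c hc
          rw [Cfsg.Agent.Lib.H25.R2.b5_mem_cent]
          exact Cfsg.Agent.Lib.H25.R2.b5_comm_mem_symm _ (hc23 c hc g)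
      rw [hsup] at hle
      exact Cfsg.Agent.Lib.H25.R2.b5_comm_mem_symm _ (Cfsg.Agent.Lib.H25.R2.b5_mem_cent.mp (hle hx))
    · intro hg
      exact hg s hs
  -- the image
  have hrange : ψ.range ≤ (L G 2).map (QuotientGroup.mk' (L G 3)) := by
    rintro _ ⟨g, rfl⟩
    exact ⟨⁅s, g⁆, hcs g, rfl⟩
  have hA : Nat.card ↥((L G 2).map (QuotientGroup.mk' (L G 3))) = 3 := by
    have h1 := card_map_mk_mul (L G 3) (L G 2) h32
    rw [hc2, hc3, pow_succ'] at h1
    exact Nat.eq_of_mul_eq_mul_right (by positivity) h1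
  have hidx : (S1 G).index ∣ 3 := by
    rw [← hker, Subgroup.index_ker]
    have h1 := Subgroup.card_dvd_of_le hrange
    rw [hA] at h1
    exact h1
  have hne : (S1 G).index ≠ 1 := by
    rw [Ne, Subgroup.index_eq_one]
    refine Cfsg.Agent.Lib.H25.MCS.mcsD_ne_top 1 ?_
    intro hbot
    have hL2 : L G 2 = ⊥ := hbot
    rw [hL2, Subgroup.card_bot] at hc2
    have : 3 ^ (m + 1) = 3 ^ 0 := by rw [← hc2]; rfl
    have := Nat.pow_right_injective (show 2 ≤ 3 by norm_num) this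
    omega
  have h3 : (S1 G).index = 3 := by
    rcases (Nat.dvd_prime Nat.prime_three).mp hidx with h | h
    · exact absurd h hne
    · exact h
  have hmul := Subgroup.card_mul_index (S1 G)
  rw [h3, hG] at hmul
  have : 4 + m - 1 = (m + 2) + 1 := by omega
  rw [this]
  have h4 : (3 : ℕ) ^ (4 + m) = 3 ^ (m + 2 + 1) * 3 := by ring
  rw [h4] at hmul
  exact Nat.eq_of_mul_eq_mul_right (by norm_num) hmul

end Cfsg.Agent.Lib.H27.Pearl
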