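import Mathlib
import Cfsg.Agent.Lib.H22.PearlDefs

/-!
# S5239 piece U (helper27): the element `e` of a `3`-group with `|C_G(e)| = 9` is uniform
(`[·,e]` maps `γ_{i+1}` onto `γ_{i+2}`, and `γ_{i+1} \ γ_{i+2}` outside `γ_{i+3}`).
-/

set_option autoImplicit false

namespace Cfsg.Agent.Lib.H27.Pearl

open Cfsg.Agent.Lib.H22.Pearl
open scoped commutatorElement

/-- Counting: the fibres of `d ↦ [d,e]` on `H` are cosets of `H ⊓ C_G(e)`; if the values lie in `K` and
`|H| ≥ c |K|` with `c ≥ |H ⊓ C_G(e)|` then every element of `K` is a value. -/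
theorem comm_surj_of_card {G : Type*} [Group G] [Finite G] (e : G) (H K : Subgroup G)
    (hHK : ∀ d ∈ H, d * e * d⁻¹ * e⁻¹ ∈ K) (c : ℕ)
    (hc : Nat.card ↥(H ⊓ Subgroup.centralizer ({e} : Set G)) ≤ c)
    (hcard : c * Nat.card ↥K ≤ Nat.card ↥H) :
    ∀ y ∈ K, ∃ d ∈ H, d * e * d⁻¹ * e⁻¹ = y := by
  classical
  haveI : Fintype G := Fintype.ofFinite G
  set f : G → G := fun d => d * e * d⁻¹ * e⁻¹ with hf
  set s : Finset G := Finset.univ.filter (· ∈ H) with hs
  set k : Finset G := Finset.univ.filter (· ∈ K) with hk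
  set z : Finset G := Finset.univ.filter (· ∈ H ⊓ Subgroup.centralizer ({e} : Set G)) with hz
  have hsc : s.card = Nat.card ↥H := by
    rw [Nat.card_eq_fintype_card, Fintype.card_subtype]
  have hkc : k.card = Nat.card ↥K := by
    rw [Nat.card_eq_fintype_card, Fintype.card_subtype]
  have hzc : z.card = Nat.card ↥(H ⊓ Subgroup.centralizer ({e} : Set G)) := by
    rw [Nat.card_eq_fintype_card, Fintype.card_subtype]
  have himg : s.image f ⊆ k := by
    intro a ha
    obtain ⟨d, hd, rfl⟩ := Finset.mem_image.mp ha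
    rw [hs, Finset.mem_filter] at hd
    rw [hk, Finset.mem_filter]
    exact ⟨Finset.mem_univ _, hHK d hd.2⟩
  have hfib : ∀ a ∈ s.image f, (s.filter fun x => f x = a).card ≤ z.card := by
    intro a ha
    obtain ⟨d0, hd0, rfl⟩ := Finset.mem_image.mp ha
    rw [hs, Finset.mem_filter] at hd0
    have hsub : (s.filter fun x => f x = f d0) ⊆ z.image (fun t => d0 * t) := by
      intro x hx
      rw [Finset.mem_filter, hs, Finset.mem_filter] at hx
      obtain ⟨⟨-, hxH⟩, hfx⟩ := hx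
      rw [Finset.mem_image]
      refine ⟨d0⁻¹ * x, ?_, by group⟩
      rw [hz, Finset.mem_filter]
      refine ⟨Finset.mem_univ _, ?_⟩
      rw [Subgroup.mem_inf]
      refine ⟨H.mul_mem (H.inv_mem hd0.2) hxH, ?_⟩
      rw [Subgroup.mem_centralizer_iff]
      intro t ht
      rw [Set.mem_singleton_iff] at ht
      subst ht
      -- x e x⁻¹ e⁻¹ = d0 e d0⁻¹ e⁻¹
      have h1 : x * t * x⁻¹ = d0 * t * d0⁻¹ := by
        have := congrArg (· * t) hfx
        simpa [hf] using this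
      have h2 : t * (d0⁻¹ * x) = d0⁻¹ * (d0 * t * d0⁻¹) * x := by group
      rw [h2, ← h1]
      group
    exact (Finset.card_le_card hsub).trans Finset.card_image_le
  have h1 := Finset.card_le_mul_card_image s z.card hfib
  have hzpos : 0 < z.card := by
    refine Finset.card_pos.mpr ⟨1, ?_⟩
    rw [hz, Finset.mem_filter]
    exact ⟨Finset.mem_univ _, Subgroup.one_mem _⟩
  have hcpos : 0 < c := lt_of_lt_of_le hzpos (hzc ▸ hc)
  have h2 : c * k.card ≤ c * (s.image f).card := by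
    calc c * k.card = c * Nat.card ↥K := by rw [hkc]
      _ ≤ Nat.card ↥H := hcard
      _ = s.card := hsc.symm
      _ ≤ z.card * (s.image f).card := h1
      _ ≤ c * (s.image f).card := Nat.mul_le_mul_right _ (hzc ▸ hc)
  have h3 : k.card ≤ (s.image f).card := Nat.le_of_mul_le_mul_left h2 hcpos
  have h4 : s.image f = k := Finset.eq_of_subset_of_card_le himg h3
  intro y hy
  have hyk : y ∈ k := by
    rw [hk, Finset.mem_filter]
    exact ⟨Finset.mem_univ _, hy⟩
  rw [← h4, Finset.mem_image] at hyk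
  obtain ⟨d, hd, hdy⟩ := hyk
  rw [hs, Finset.mem_filter] at hd
  exact ⟨d, hd.2, hdy⟩

section

variable {G : Type*} [Group G] [Finite G] {n : ℕ} {e : G}

theorem P3.not_mem_L1 (h : P3 G n e) (hn : 3 ≤ n)
    (hcard : ∀ i, 1 ≤ i → i ≤ n - 1 → Nat.card ↥(L G i) = 3 ^ (n - 1 - i)) : e ∉ L G 1 := by
  have hC := h.hC
  have h0 : ∀ y ∈ L G 1, ∃ d ∈ (⊤ : Subgroup G), d * e * d⁻¹ * e⁻¹ = y := by
    refine comm_surj_of_card e ⊤ (L G 1) ?_ 9 ?_ ?_
    · intro d _
      exact Subgroup.commutator_mem_commutator (Subgroup.mem_top d) (Subgroup.mem_top e)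
    · rw [top_inf_eq]
      exact hC.le
    · rw [hcard 1 le_rfl (by omega), Subgroup.card_top, h.card]
      obtain ⟨m, rfl⟩ := Nat.exists_eq_add_of_le hn
      have : 3 + m - 1 - 1 = m + 1 := by omega
      rw [this]
      apply le_of_eq
      ring
  intro he1
  obtain ⟨d, -, hd⟩ := h0 e⁻¹ (inv_mem he1)
  have h1 : d * e * d⁻¹ = 1 := by
    have := congrArg (· * e) hd
    simpa using this
  have he : e = 1 := by simpa using h1
  subst he
  have htop : Subgroup.centralizer ({1} : Set G) = ⊤ := by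
    ext x
    simp [Subgroup.mem_centralizer_iff]
  rw [htop, Subgroup.card_top, h.card] at hC
  have : n = 2 := Nat.pow_right_injective (show 2 ≤ 3 by norm_num) (show 3 ^ n = 3 ^ 2 by rw [hC])
  omega

/-- **U1**. -/
theorem P3.exists_comm_eq (h : P3 G n e) (hn : 3 ≤ n)
    (hcard : ∀ i, 1 ≤ i → i ≤ n - 1 → Nat.card ↥(L G i) = 3 ^ (n - 1 - i))
    (i : ℕ) (hi1 : 1 ≤ i) (hi : i + 2 ≤ n) :
    ∀ y ∈ L G (i + 1), ∃ d ∈ L G i, d * e * d⁻¹ * e⁻¹ = y := by
  have he1 : e ∉ L G 1 := P3.not_mem_L1 h hn hcard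
  have hC := h.hC
  have heC : e ∈ Subgroup.centralizer ({e} : Set G) := by
    rw [Subgroup.mem_centralizer_iff]
    intro t ht
    rw [Set.mem_singleton_iff] at ht
    rw [ht]
  have hle : L G i ≤ L G 1 := Subgroup.lowerCentralSeries_antitone _ hi1
  have hz : Nat.card ↥(L G i ⊓ Subgroup.centralizer ({e} : Set G)) ≤ 3 := by
    have hdvd : Nat.card ↥(L G i ⊓ Subgroup.centralizer ({e} : Set G)) ∣ 9 := by
      rw [← hC]
      exact Subgroup.card_dvd_of_le inf_le_right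
    have hne : Nat.card ↥(L G i ⊓ Subgroup.centralizer ({e} : Set G)) ≠ 9 := by
      intro h9
      have heq : L G i ⊓ Subgroup.centralizer ({e} : Set G) = Subgroup.centralizer ({e} : Set G) :=
        Subgroup.eq_of_le_of_card_ge inf_le_right (by rw [h9, hC])
      have : e ∈ L G i ⊓ Subgroup.centralizer ({e} : Set G) := by rw [heq]; exact heC
      exact he1 (hle (Subgroup.mem_inf.mp this).1)
    have hle9 := Nat.le_of_dvd (by norm_num) hdvd
    generalize Nat.card ↥(L G i ⊓ Subgroup.centralizer ({e} : Set G)) = c at *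
    interval_cases c <;> first | omega | (exfalso; revert hdvd; decide)
  refine comm_surj_of_card e (L G i) (L G (i + 1)) ?_ 3 hz ?_
  · intro d hd
    exact Subgroup.commutator_mem_commutator hd (Subgroup.mem_top e)
  · rw [hcard i hi1 (by omega), hcard (i + 1) (by omega) (by omega)]
    have : n - 1 - i = (n - 1 - (i + 1)) + 1 := by omega
    rw [this, pow_succ, mul_comm]

/-- **U2**. -/
theorem P3.comm_not_mem (h : P3 G n e) (hn : 3 ≤ n)
    (hcard : ∀ i, 1 ≤ i → i ≤ n - 1 → Nat.card ↥(L G i) = 3 ^ (n - 1 - i))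
    (hU : ∀ i, 1 ≤ i → i + 2 ≤ n → ∀ y ∈ L G (i + 1), ∃ d ∈ L G i, d * e * d⁻¹ * e⁻¹ = y)
    (i : ℕ) (hi1 : 1 ≤ i) (hi : i + 3 ≤ n) :
    ∀ d ∈ L G i, d ∉ L G (i + 1) → d * e * d⁻¹ * e⁻¹ ∉ L G (i + 2) := by
  intro d hd hd1 hde
  -- `T = {g ∈ L i | [g,e] ∈ L (i+2)}`
  set T : Subgroup G := L G i ⊓ Cfsg.Agent.Lib.H25.R2.b5Cent (L G (i + 2)) e with hT
  have hmemT : ∀ g, g ∈ T ↔ g ∈ L G i ∧ g * e * g⁻¹ * e⁻¹ ∈ L G (i + 2) := by
    intro g
    rw [hT, Subgroup.mem_inf, Cfsg.Agent.Lib.H25.R2.b5_mem_cent]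
    constructor
    · rintro ⟨h1, h2⟩
      exact ⟨h1, Cfsg.Agent.Lib.H25.R2.b5_comm_mem_symm _ h2⟩
    · rintro ⟨h1, h2⟩
      exact ⟨h1, Cfsg.Agent.Lib.H25.R2.b5_comm_mem_symm _ h2⟩
  have hTle : T ≤ L G i := inf_le_left
  have hleT : L G (i + 1) ≤ T := by
    intro g hg
    rw [hmemT]
    refine ⟨Subgroup.lowerCentralSeries_antitone _ (Nat.le_succ i) hg, ?_⟩
    exact Subgroup.commutator_mem_commutator hg (Subgroup.mem_top e)
  have hdT : d ∈ T := (hmemT d).mpr ⟨hd, hde⟩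
  have hci : Nat.card ↥(L G i) = 3 ^ (n - 1 - i) := hcard i hi1 (by omega)
  have hci1 : Nat.card ↥(L G (i + 1)) = 3 ^ (n - 1 - (i + 1)) := hcard (i + 1) (by omega) (by omega)
  have hci2 : Nat.card ↥(L G (i + 2)) = 3 ^ (n - 1 - (i + 2)) := hcard (i + 2) (by omega) (by omega)
  have hexp : n - 1 - i = (n - 1 - (i + 1)) + 1 := by omega
  have hexp2 : n - 1 - (i + 1) = (n - 1 - (i + 2)) + 1 := by omega
  -- `|T| = |L i|`
  have hd1' : Nat.card ↥(L G (i + 1)) ∣ Nat.card ↥T := Subgroup.card_dvd_of_le hleT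
  have hd2' : Nat.card ↥T ∣ Nat.card ↥(L G i) := Subgroup.card_dvd_of_le hTle
  obtain ⟨k, hk⟩ := hd1'
  have hk3 : k ∣ 3 := by
    rw [hk, hci, hci1, hexp, pow_succ] at hd2'
    exact (Nat.mul_dvd_mul_iff_left (by positivity)).mp hd2'
  have hk13 : k = 1 ∨ k = 3 := (Nat.dvd_prime Nat.prime_three).mp hk3
  have hTeq : T = L G i := by
    rcases hk13 with rfl | rfl
    · exfalso
      rw [mul_one] at hk
      have : L G (i + 1) = T := Subgroup.eq_of_le_of_card_ge hleT hk.le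
      exact hd1 (this ▸ hdT)
    · refine Subgroup.eq_of_le_of_card_ge hTle ?_
      rw [hk, hci, hci1, hexp, pow_succ]
  -- hence `L (i+1) ≤ L (i+2)`
  have hle : L G (i + 1) ≤ L G (i + 2) := by
    intro y hy
    obtain ⟨d', hd', rfl⟩ := hU i hi1 (by omega) y hy
    exact ((hmemT d').mp (hTeq ▸ hd')).2
  have := Subgroup.card_le_of_le hle
  rw [hci1, hci2, hexp2, pow_succ] at this
  have hpos : 0 < 3 ^ (n - 1 - (i + 2)) := by positivity
  omega

end

end Cfsg.Agent.Lib.H27.Pearl
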