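import Mathlib
import Cfsg.Agent.Lib.H23.RVDefs

/-!
# S4959 piece GLUE (helper27): the conjugation module of `H = C_G(v)` on `U ≤ V` as an abstract
`ZMod p`-module with an invariant non-degenerate bilinear form.
-/

set_option autoImplicit false

universe u

namespace Cfsg.Agent.Lib.H27.RV

open Cfsg Cfsg.Agent.Lib.H23 Cfsg.Agent.Lib.H23.RV
open scoped ComplexConjugate

section crit

variable {X : Type u} [Group X] [Finite X] (p : ℕ) [Fact p.Prime]

theorem exists_module (V : Subgroup X) (hVexp : ∀ v ∈ V, v ^ p = 1)
    (hself : Subgroup.centralizer (V : Set X) = V) (G : Subgroup X) (v : X)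
    (U : Subgroup X) (hUV : U ≤ V)
    (hUinv : ∀ h ∈ G, h * v * h⁻¹ = v → ∀ u ∈ U, h * u * h⁻¹ ∈ U)
    (β : X → X → ZMod p)
    (hβl : ∀ u ∈ U, ∀ u' ∈ U, ∀ w ∈ U, β (u * u') w = β u w + β u' w)
    (hβr : ∀ u ∈ U, ∀ w ∈ U, ∀ w' ∈ U, β u (w * w') = β u w + β u w')
    (hβinv : ∀ h ∈ G, h * v * h⁻¹ = v → ∀ u ∈ U, ∀ w ∈ U,
      β (h * u * h⁻¹) (h * w * h⁻¹) = β u w)
    (hβnd : ∀ u ∈ U, (∀ w ∈ U, β u w = 0) → u = 1) :
    ∃ (W : Type u) (_ : AddCommGroup W) (_ : Module (ZMod p) W) (_ : Finite W)
      (ρ : Representation (ZMod p) ↥(G ⊓ Subgroup.centralizer ({v} : Set X)) W)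
      (B : LinearMap.BilinForm (ZMod p) W) (e : W ≃ ↥U),
      (∀ (h : ↥(G ⊓ Subgroup.centralizer ({v} : Set X))) (w : W),
        ((e (ρ h w) : ↥U) : X) = (h : X) * ((e w : ↥U) : X) * (h : X)⁻¹) ∧
      B.Nondegenerate ∧ (∀ g x y, B (ρ g x) (ρ g y) = B x y) := by
  classical
  -- `U` is commutative
  have hcomm : ∀ a b : ↥U, a * b = b * a := by
    intro a b
    apply Subtype.ext
    have ha : (a : X) ∈ Subgroup.centralizer (V : Set X) := by
      rw [hself]; exact hUV a.2
    have := ha (b : X) (hUV b.2)
    show (a : X) * (b : X) = (b : X) * (a : X)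
    exact this.symm
  letI instC : CommGroup ↥U := { (inferInstance : Group ↥U) with mul_comm := hcomm }
  -- the module structure
  have hexp : ∀ x : Additive ↥U, p • x = 0 := by
    intro x
    have h1 : (Additive.toMul x) ^ p = 1 := by
      apply Subtype.ext
      have := hVexp ((Additive.toMul x : ↥U) : X) (hUV (Additive.toMul x).2)
      simpa using this
    rw [← ofMul_toMul x, ← ofMul_pow, h1, ofMul_one]
  haveI instM : Module (ZMod p) (Additive ↥U) := AddCommGroup.zmodModule hexp
  -- elements of `H` normalise `U`
  have hH : ∀ h : ↥(G ⊓ Subgroup.centralizer ({v} : Set X)),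
      (h : X) ∈ G ∧ (h : X) * v * (h : X)⁻¹ = v := by
    intro h
    have h1 := h.2
    rw [Subgroup.mem_inf] at h1
    refine ⟨h1.1, ?_⟩
    have h2 := h1.2 v (Set.mem_singleton v)
    rw [← h2]
    group
  -- conjugation as an additive endomorphism
  let conjA : ↥(G ⊓ Subgroup.centralizer ({v} : Set X)) → (Additive ↥U →+ Additive ↥U) :=
    fun h =>
      { toFun := fun w => Additive.ofMul
          ⟨(h : X) * ((Additive.toMul w : ↥U) : X) * (h : X)⁻¹,
            hUinv (h : X) (hH h).1 (hH h).2 _ (Additive.toMul w).2⟩
        map_zero' := by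
          show Additive.ofMul _ = Additive.ofMul 1
          congr 1
          apply Subtype.ext
          simp
        map_add' := by
          intro a b
          show Additive.ofMul _ = Additive.ofMul (_ * _)
          congr 1
          apply Subtype.ext
          simp [mul_assoc] }
  have conjA_apply : ∀ h w, ((Additive.toMul (conjA h w) : ↥U) : X) =
      (h : X) * ((Additive.toMul w : ↥U) : X) * (h : X)⁻¹ := fun h w => rfl
  let ρ : ↥(G ⊓ Subgroup.centralizer ({v} : Set X)) →* Module.End (ZMod p) (Additive ↥U) :=
    { toFun := fun h => (conjA h).toZModLinearMap p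
      map_one' := by
        apply LinearMap.ext
        intro w
        change _ = w
        change conjA 1 w = w
        apply Additive.toMul.injective
        apply Subtype.ext
        rw [conjA_apply]
        simp
      map_mul' := by
        intro g h
        apply LinearMap.ext
        intro w
        change _ = conjA g (conjA h w)
        change conjA (g * h) w = conjA g (conjA h w)
        apply Additive.toMul.injective
        apply Subtype.ext
        rw [conjA_apply, conjA_apply, conjA_apply]
        simp [mul_assoc] }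
  have ρ_apply : ∀ h w, ((Additive.toMul (ρ h w) : ↥U) : X) =
      (h : X) * ((Additive.toMul w : ↥U) : X) * (h : X)⁻¹ := fun h w => rfl
  -- the bilinear form
  let Br : Additive ↥U → (Additive ↥U →ₗ[ZMod p] ZMod p) := fun x =>
    AddMonoidHom.toZModLinearMap p
      { toFun := fun y => β ((Additive.toMul x : ↥U) : X) ((Additive.toMul y : ↥U) : X)
        map_zero' := by
          have := hβr ((Additive.toMul x : ↥U) : X) (Additive.toMul x).2 1 U.one_mem 1 U.one_mem
          rw [one_mul] at this
          show β _ ((1 : ↥U) : X) = 0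
          rw [Subgroup.coe_one]
          exact left_eq_add.mp this
        map_add' := by
          intro a b
          exact hβr _ (Additive.toMul x).2 _ (Additive.toMul a).2 _ (Additive.toMul b).2 }
  have Br_apply : ∀ (x y : Additive ↥U), (Br x) y = β ((Additive.toMul x : ↥U) : X) ((Additive.toMul y : ↥U) : X) :=
    fun x y => rfl
  let B : LinearMap.BilinForm (ZMod p) (Additive ↥U) :=
    AddMonoidHom.toZModLinearMap p
      { toFun := Br
        map_zero' := by
          apply LinearMap.ext
          intro y
          rw [Br_apply]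
          have := hβl 1 U.one_mem 1 U.one_mem ((Additive.toMul y : ↥U) : X) (Additive.toMul y).2
          rw [one_mul] at this
          show β ((1 : ↥U) : X) _ = 0
          rw [Subgroup.coe_one]
          exact left_eq_add.mp this
        map_add' := by
          intro a b
          apply LinearMap.ext
          intro y
          rw [LinearMap.add_apply, Br_apply, Br_apply, Br_apply]
          exact hβl _ (Additive.toMul a).2 _ (Additive.toMul b).2 _ (Additive.toMul y).2 }
  have B_apply : ∀ x y, B x y = β ((Additive.toMul x : ↥U) : X) ((Additive.toMul y : ↥U) : X) :=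
    fun x y => rfl
  refine ⟨Additive ↥U, inferInstance, instM, inferInstance, ρ, B, Additive.toMul, ?_, ?_, ?_⟩
  · intro h w
    exact ρ_apply h w
  · haveI : Module.Finite (ZMod p) (Additive ↥U) := Module.Finite.of_finite
    apply LinearMap.BilinForm.Nondegenerate.ofSeparatingLeft
    intro x hx
    have h1 : Additive.toMul x = 1 := by
      apply Subtype.ext
      apply hβnd _ (Additive.toMul x).2
      intro w hw
      have := hx (Additive.ofMul ⟨w, hw⟩)
      rw [B_apply] at this
      exact this
    rw [← ofMul_toMul x, h1, ofMul_one]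
  · intro g x y
    rw [B_apply, B_apply, ρ_apply, ρ_apply]
    exact hβinv (g : X) (hH g).1 (hH g).2 _ (Additive.toMul x).2 _ (Additive.toMul y).2

end crit

end Cfsg.Agent.Lib.H27.RV
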