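import Mathlib
import Cfsg.Agent.Lib.H23.RVDefs
import Cfsg.Agent.Lib.H24.RVOINT

/-!
# S4959 piece PROD (helper27): k(GV)-data of two complementary invariant submodules multiply.
-/

set_option autoImplicit false

universe u

namespace Cfsg.Agent.Lib.H27.RV

open Cfsg Cfsg.Agent.Lib.H23 Cfsg.Agent.Lib.H23.RV
open scoped ComplexConjugate

section aux

variable {k : Type*} [CommRing k] {H : Type*} [Group H] {W : Type*} [AddCommGroup W] [Module k W]
  (ρ : Representation k H W) (P Q : Submodule k W) (hc : IsCompl P Q)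
  (hP : ∀ g : H, ∀ x ∈ P, ρ g x ∈ P) (hQ : ∀ g : H, ∀ x ∈ Q, ρ g x ∈ Q)

theorem prod_apply (g : H) (z : P × Q) :
    ρ g (Submodule.prodEquivOfIsCompl P Q hc z) =
      Submodule.prodEquivOfIsCompl P Q hc (subRep ρ P hP g z.1, subRep ρ Q hQ g z.2) := by
  simp [Submodule.coe_prodEquivOfIsCompl', map_add]

theorem prod_fix_iff (g : H) (z : P × Q) :
    ρ g (Submodule.prodEquivOfIsCompl P Q hc z) = Submodule.prodEquivOfIsCompl P Q hc z ↔
      (subRep ρ P hP g z.1 = z.1 ∧ subRep ρ Q hQ g z.2 = z.2) := by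
  rw [prod_apply ρ P Q hc hP hQ]
  constructor
  · intro h
    have := (Submodule.prodEquivOfIsCompl P Q hc).injective h
    exact ⟨congrArg Prod.fst this, congrArg Prod.snd this⟩
  · rintro ⟨h1, h2⟩
    rw [h1, h2]

include hc in
theorem card_compl : Nat.card W = Nat.card P * Nat.card Q := by
  rw [← Nat.card_prod]
  exact (Nat.card_congr (Submodule.prodEquivOfIsCompl P Q hc).toEquiv).symm

include hc in
theorem fixCard_compl (g : H) :
    fixCard ρ g = fixCard (subRep ρ P hP) g * fixCard (subRep ρ Q hQ) g := by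
  unfold fixCard
  rw [← Nat.card_prod]
  refine Nat.card_congr ?_
  refine (Equiv.subtypeEquiv (Submodule.prodEquivOfIsCompl P Q hc).symm.toEquiv
    (q := fun z : P × Q => subRep ρ P hP g z.1 = z.1 ∧ subRep ρ Q hQ g z.2 = z.2) ?_).trans
    (Equiv.subtypeProdEquivProd (p := fun x : P => subRep ρ P hP g x = x)
      (q := fun y : Q => subRep ρ Q hQ g y = y))
  intro w
  have := prod_fix_iff ρ P Q hc hP hQ g ((Submodule.prodEquivOfIsCompl P Q hc).symm w)
  rw [LinearEquiv.apply_symm_apply] at this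
  exact this

include hc in
theorem fixCardK_compl (K : Subgroup H) :
    fixCardK ρ K = fixCardK (subRep ρ P hP) K * fixCardK (subRep ρ Q hQ) K := by
  unfold fixCardK
  rw [← Nat.card_prod]
  refine Nat.card_congr ?_
  refine (Equiv.subtypeEquiv (Submodule.prodEquivOfIsCompl P Q hc).symm.toEquiv
    (q := fun z : P × Q => (∀ g ∈ K, subRep ρ P hP g z.1 = z.1) ∧
      (∀ g ∈ K, subRep ρ Q hQ g z.2 = z.2)) ?_).trans
    (Equiv.subtypeProdEquivProd (p := fun x : P => ∀ g ∈ K, subRep ρ P hP g x = x)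
      (q := fun y : Q => ∀ g ∈ K, subRep ρ Q hQ g y = y))
  intro w
  have key : ∀ g : H, ρ g w = w ↔
      (subRep ρ P hP g ((Submodule.prodEquivOfIsCompl P Q hc).symm w).1 =
          ((Submodule.prodEquivOfIsCompl P Q hc).symm w).1 ∧
        subRep ρ Q hQ g ((Submodule.prodEquivOfIsCompl P Q hc).symm w).2 =
          ((Submodule.prodEquivOfIsCompl P Q hc).symm w).2) := by
    intro g
    have := prod_fix_iff ρ P Q hc hP hQ g ((Submodule.prodEquivOfIsCompl P Q hc).symm w)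
    rw [LinearEquiv.apply_symm_apply] at this
    exact this
  constructor
  · intro h
    exact ⟨fun g hg => ((key g).1 (h g hg)).1, fun g hg => ((key g).1 (h g hg)).2⟩
  · rintro ⟨h1, h2⟩ g hg
    exact (key g).2 ⟨h1 g hg, h2 g hg⟩

theorem subRep_eq_one_of_eq_one (P : Submodule k W) (hP : ∀ g : H, ∀ x ∈ P, ρ g x ∈ P) (g : H)
    (h : ρ g = 1) : subRep ρ P hP g = 1 := by
  apply LinearMap.ext
  intro x
  apply Subtype.ext
  simp [h]

include hc in
theorem eq_one_of_subRep_eq_one (g : H) (h1 : subRep ρ P hP g = 1) (h2 : subRep ρ Q hQ g = 1) :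
    ρ g = 1 := by
  apply LinearMap.ext
  intro w
  obtain ⟨z, rfl⟩ := (Submodule.prodEquivOfIsCompl P Q hc).surjective w
  rw [prod_apply ρ P Q hc hP hQ, h1, h2]
  simp

theorem fixCard_of_eq_one (g : H) (h : ρ g = 1) : fixCard ρ g = Nat.card W := by
  unfold fixCard
  refine Nat.card_congr (Equiv.subtypeUnivEquiv ?_)
  intro w
  simp [h]

end aux

theorem isKData_mul {p : ℕ} [Fact p.Prime] (m : ℕ) [NeZero m] {H : Type u} [Group H] [Finite H]
    {W : Type*} [AddCommGroup W] [Module (ZMod p) W] [Finite W]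
    (ρ : Representation (ZMod p) H W) (P Q : Submodule (ZMod p) W) (hc : IsCompl P Q)
    (hP : ∀ g : H, ∀ x ∈ P, ρ g x ∈ P) (hQ : ∀ g : H, ∀ x ∈ Q, ρ g x ∈ Q)
    {Y₁ Y₂ : H → CyclotomicField m ℚ} (h₁ : IsKData p m (subRep ρ P hP) Y₁)
    (h₂ : IsKData p m (subRep ρ Q hQ) Y₂) :
    IsKData p m ρ (fun h => Y₁ h * Y₂ h) := by
  have hp0 : 0 < p := (Fact.out : p.Prime).pos
  have hpint : IsIntegral ℤ (p : ℂ) := by
    have : (p : ℂ) = algebraMap ℤ ℂ (p : ℤ) := by simp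
    rw [this]
    exact isIntegral_algebraMap
  refine ⟨?_, ?_, ?_, ?_, ?_⟩
  · intro h g
    show Y₁ (g * h * g⁻¹) * Y₂ (g * h * g⁻¹) = Y₁ h * Y₂ h
    rw [h₁.conj_inv, h₂.conj_inv]
  · intro σ h
    show ‖cycEmb m (σ (Y₁ h * Y₂ h))‖ ^ 2 = _
    rw [map_mul, map_mul, norm_mul, mul_pow, h₁.norm_sq σ h, h₂.norm_sq σ h,
      card_compl P Q hc, fixCard_compl ρ P Q hc hP hQ h]
    push_cast
    ring
  · intro h hh
    show cycEmb m (Y₁ h * Y₂ h) = _
    rw [map_mul, h₁.triv h (subRep_eq_one_of_eq_one ρ P hP h hh),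
      h₂.triv h (subRep_eq_one_of_eq_one ρ Q hQ h hh), card_compl P Q hc]
    push_cast
    ring
  · intro h hh
    show ∃ ζ a b : ℂ, ζ ^ p = 1 ∧ IsIntegral ℤ a ∧ IsIntegral ℤ b ∧
      cycEmb m (Y₁ h * Y₂ h) = (fixCard ρ h : ℂ) * ((1 - ζ) * a + (p : ℂ) * b)
    rw [map_mul, fixCard_compl ρ P Q hc hP hQ h]
    by_cases h1 : subRep ρ P hP h = 1
    · have h2 : subRep ρ Q hQ h ≠ 1 := fun h2 =>
        hh (eq_one_of_subRep_eq_one ρ P Q hc hP hQ h h1 h2)
      obtain ⟨ζ, a, b, hζ, ha, hb, hY⟩ := h₂.div h h2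
      refine ⟨ζ, a, b, hζ, ha, hb, ?_⟩
      rw [h₁.triv h h1, hY, fixCard_of_eq_one (subRep ρ P hP) h h1]
      push_cast
      ring
    · by_cases h2 : subRep ρ Q hQ h = 1
      · obtain ⟨ζ, a, b, hζ, ha, hb, hY⟩ := h₁.div h h1
        refine ⟨ζ, a, b, hζ, ha, hb, ?_⟩
        rw [h₂.triv h h2, hY, fixCard_of_eq_one (subRep ρ Q hQ) h h2]
        push_cast
        ring
      · obtain ⟨ζ₁, a₁, b₁, hζ₁, ha₁, hb₁, hY₁⟩ := h₁.div h h1
        obtain ⟨ζ₂, a₂, b₂, hζ₂, ha₂, hb₂, hY₂⟩ := h₂.div h h2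
        have hζ₂int : IsIntegral ℤ ζ₂ := by
          apply IsIntegral.of_pow hp0
          rw [hζ₂]
          exact isIntegral_one
        have hc2 : IsIntegral ℤ ((1 - ζ₂) * a₂ + (p : ℂ) * b₂) :=
          ((isIntegral_one.sub hζ₂int).mul ha₂).add (hpint.mul hb₂)
        refine ⟨ζ₁, a₁ * ((1 - ζ₂) * a₂ + (p : ℂ) * b₂), b₁ * ((1 - ζ₂) * a₂ + (p : ℂ) * b₂),
          hζ₁, ha₁.mul hc2, hb₁.mul hc2, ?_⟩
        rw [hY₁, hY₂]
        push_cast
        ring
  · intro K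
    have hfun : (fun g : K => cycEmb m (Y₁ (g : H) * Y₂ (g : H)) / (fixCardK ρ K : ℂ)) =
        (fun g : K => cycEmb m (Y₁ (g : H)) / (fixCardK (subRep ρ P hP) K : ℂ)) *
          (fun g : K => cycEmb m (Y₂ (g : H)) / (fixCardK (subRep ρ Q hQ) K : ℂ)) := by
      funext g
      rw [Pi.mul_apply, map_mul, fixCardK_compl ρ P Q hc hP hQ K]
      push_cast
      rw [mul_div_mul_comm]
    show OInt K (fun g : K => cycEmb m (Y₁ (g : H) * Y₂ (g : H)) / (fixCardK ρ K : ℂ))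
    rw [hfun]
    refine Cfsg.Agent.Lib.H24.RV.oInt_mul ?_ (h₁.oint K) (h₂.oint K)
    intro g h
    show cycEmb m (Y₁ ((h * g * h⁻¹ : K) : H)) / _ = cycEmb m (Y₁ (g : H)) / _
    have : ((h * g * h⁻¹ : K) : H) = (h : H) * (g : H) * (h : H)⁻¹ := by simp
    rw [this, h₁.conj_inv]

end Cfsg.Agent.Lib.H27.RV
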