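import Mathlib
import Cfsg.Agent.Lib.H15.HigBasic
import Cfsg.Agent.Lib.H15.Nat2
import Cfsg.Agent.Lib.H15.Nat5
import Cfsg.Agent.Lib.H29.HigACT
import Cfsg.Agent.Lib.H22.HigORD3
import Cfsg.Prelude.Def_BaumannBlocks

/-!
# S3050 piece HF (helper27): all elements of order 3 of `SL₂(K)` act fixed point freely on `A`.
-/

set_option autoImplicit false

namespace Cfsg.Agent.Lib.H27.Hig

open Matrix Cfsg.Agent.Lib.H2.SL2 Cfsg.Agent.Lib.H15.Nat Cfsg.Agent.Lib.H15.Hig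
open Cfsg.Agent.Lib.H29.Hig
open scoped IsMulCommutative


section groups
variable {K : Type*} [Field K] {G : Type*} [Group G]

variable (π : G →* SpecialLinearGroup (Fin 2) K) (hπ : Function.Surjective π)

theorem act_hF [CharP K 2] (hsq : ∀ c : K, ∃ a : K, a ^ 2 = c)
    (A : Subgroup G) [A.Normal] [IsMulCommutative ↥A]
    (hcen : ∀ q ∈ π.ker, ∀ a ∈ A, q * a = a * q)
    (x : G) (hx3 : x ^ 3 = 1) (hx1 : π x ≠ 1) (hfpf : ∀ a ∈ A, x * a * x⁻¹ = a → a = 1) :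
    ∀ g : SpecialLinearGroup (Fin 2) K, g ≠ 1 → g ^ 3 = 1 →
      ∀ m : Additive ↥A, m + act π hπ A hcen g m + act π hπ A hcen g (act π hπ A hcen g m) = 0 := by
  intro g hg1 hg3 m
  obtain ⟨h1, hh1⟩ := Cfsg.Agent.Lib.H22.Hig.conj_sigma_of_order_three hsq g hg1 hg3
  have hπx3 : (π x) ^ 3 = 1 := by rw [← map_pow, hx3, map_one]
  obtain ⟨h2, hh2⟩ := Cfsg.Agent.Lib.H22.Hig.conj_sigma_of_order_three hsq (π x) hx1 hπx3
  obtain ⟨y, hy⟩ := hπ (h1 * h2⁻¹)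
  have hπx' : π (y * x * y⁻¹) = g := by
    rw [map_mul, map_mul, map_inv, hy, hh2, hh1]
    group
  have hx'3 : (y * x * y⁻¹) ^ 3 = 1 := by
    rw [conj_pow, hx3]
    group
  have hnorm : ∀ (z : G) (u : G), u ∈ A → z * u * z⁻¹ ∈ A :=
    fun z u hu => (inferInstance : A.Normal).conj_mem u hu z
  have hfpf' : ∀ b ∈ A, (y * x * y⁻¹) * b * (y * x * y⁻¹)⁻¹ = b → b = 1 := by
    intro b hb hbx
    have hb' : y⁻¹ * b * y ∈ A := by
      have := hnorm y⁻¹ b hb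
      rwa [inv_inv] at this
    have h1' : x * (y⁻¹ * b * y) * x⁻¹ = y⁻¹ * b * y := by
      calc x * (y⁻¹ * b * y) * x⁻¹ = y⁻¹ * ((y * x * y⁻¹) * b * (y * x * y⁻¹)⁻¹) * y := by group
        _ = y⁻¹ * b * y := by rw [hbx]
    have h2' := hfpf _ hb' h1'
    calc b = y * (y⁻¹ * b * y) * y⁻¹ := by group
      _ = 1 := by rw [h2']; group
  obtain ⟨x', hx'⟩ : ∃ x', x' = y * x * y⁻¹ := ⟨_, rfl⟩
  rw [← hx'] at hπx' hx'3 hfpf'
  have hcommA : ∀ u ∈ A, ∀ w ∈ A, u * w = w * u := by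
    intro u hu w hw
    have := mul_comm (⟨u, hu⟩ : ↥A) ⟨w, hw⟩
    exact congrArg Subtype.val this
  have key : ∀ u : ↥A, act π hπ A hcen g (Additive.ofMul u) =
      Additive.ofMul (⟨x' * u * x'⁻¹, hnorm x' u u.2⟩ : ↥A) := by
    intro u
    apply Additive.toMul.injective
    apply Subtype.ext
    have := act_apply π hπ A hcen x' u
    rw [hπx'] at this
    exact this
  obtain ⟨a, rfl⟩ := Additive.ofMul.surjective m
  rw [key a, key]
  have hfix : (⟨(a : G) * (x' * a * x'⁻¹) * (x' * (x' * a * x'⁻¹) * x'⁻¹),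
      A.mul_mem (A.mul_mem a.2 (hnorm x' a a.2)) (hnorm x' _ (hnorm x' a a.2))⟩ : ↥A) = 1 := by
    apply Subtype.ext
    apply hfpf' _ (A.mul_mem (A.mul_mem a.2 (hnorm x' a a.2)) (hnorm x' _ (hnorm x' a a.2)))
    have e3 : x' * (x' * (x' * (a : G) * x'⁻¹) * x'⁻¹) * x'⁻¹ = a := by
      have h3 : x' * x' * x' = 1 := (pow_three' x').symm.trans hx'3
      have : x' * (x' * (x' * (a : G) * x'⁻¹) * x'⁻¹) * x'⁻¹ =
          (x' * x' * x') * a * (x' * x' * x')⁻¹ := by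
        simp only [_root_.mul_inv_rev, mul_assoc]
      rw [this, h3]
      simp
    have e4 : x' * ((a : G) * (x' * a * x'⁻¹) * (x' * (x' * a * x'⁻¹) * x'⁻¹)) * x'⁻¹ =
        (x' * a * x'⁻¹) * (x' * (x' * a * x'⁻¹) * x'⁻¹) *
          (x' * (x' * (x' * (a : G) * x'⁻¹) * x'⁻¹) * x'⁻¹) := by group
    rw [e4, e3]
    have := hcommA _ (A.mul_mem (hnorm x' a a.2) (hnorm x' _ (hnorm x' a a.2))) _ a.2
    rw [this]
    simp only [mul_assoc]
  rw [← ofMul_mul, ← ofMul_mul]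
  rw [← ofMul_one]
  congr 1
end groups

end Cfsg.Agent.Lib.H27.Hig
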