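/-
S5637 (architect helper25): small toolkit for the pieces T6a / T6b2 (helper27).
Transvections `1 + vecMulVec w Ψ` as matrices: inverse, conjugation, products, commutator rule;
dot products with pure tensors; a few existence lemmas for vectors in `Fin n → F`.
-/
import Cfsg.Agent.Lib.H25.TpDefs

set_option autoImplicit false

namespace Cfsg.Agent.Lib.H27.Tp

open Matrix Kronecker Module
open Cfsg.Geo
open Cfsg.Agent.Lib.H29.Tensor (pt kron_pt)
open Cfsg.Agent.Lib.H28 (tvGL tvGL_mulVec)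
open Cfsg.Agent.Lib.H25.Tp

section general

variable {ι : Type} [Fintype ι] [DecidableEq ι] {F : Type*} [Field F]

/-- every linear functional on `ι → F` is a dot product -/
theorem dual_dot (f : Dual F (ι → F)) : ∀ x, f x = (fun p => f (Pi.single p 1)) ⬝ᵥ x := by
  intro x
  have hx : x = ∑ p, x p • (Pi.single p (1 : F) : ι → F) := by
    ext q
    rw [Finset.sum_apply]
    simp [Pi.single_apply]
  conv_lhs => rw [hx]
  rw [map_sum]
  simp only [map_smul, smul_eq_mul, dotProduct]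
  exact Finset.sum_congr rfl fun p _ => mul_comm _ _

theorem one_add_vecMulVec_mulVec (w Ψ x : ι → F) :
    (1 + vecMulVec w Ψ) *ᵥ x = x + (Ψ ⬝ᵥ x) • w := by
  rw [Matrix.add_mulVec, Matrix.one_mulVec, vecMulVec_mulVec]
  congr 1
  ext i
  simp [mul_comm]

theorem tvGL_val (f : Dual F (ι → F)) (v : ι → F) (h : f v = 0) :
    ((tvGL f v h : GL ι F) : Matrix ι ι F) = 1 + vecMulVec v (fun p => f (Pi.single p 1)) := by
  apply Matrix.toLin'.injective
  apply LinearMap.ext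
  intro x
  rw [Matrix.toLin'_apply, Matrix.toLin'_apply, tvGL_mulVec, one_add_vecMulVec_mulVec, ← dual_dot]

theorem tv_mul_tv_sub (w Ψ w' Ψ' : ι → F) :
    (1 + vecMulVec w Ψ) * (1 - vecMulVec w' Ψ') =
      1 + vecMulVec w Ψ - vecMulVec w' Ψ' - (Ψ ⬝ᵥ w') • vecMulVec w Ψ' := by
  rw [mul_sub, mul_one, add_mul, one_mul, vecMulVec_mul_vecMulVec, vecMulVec_smul]
  abel

/-- inverse of a transvection matrix -/
theorem tv_inv_val (g : GL ι F) (w Ψ : ι → F) (hg : g.val = 1 + vecMulVec w Ψ) (h0 : Ψ ⬝ᵥ w = 0) :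
    (g⁻¹ : GL ι F).val = 1 - vecMulVec w Ψ := by
  have h1 : g.val * (1 - vecMulVec w Ψ) = 1 := by
    rw [hg, tv_mul_tv_sub, h0, zero_smul]; abel
  have h2 : (g⁻¹ : GL ι F).val * (g.val * (1 - vecMulVec w Ψ)) = (g⁻¹ : GL ι F).val := by
    rw [h1, mul_one]
  rw [← mul_assoc, ← Units.val_mul, inv_mul_cancel, Units.val_one, one_mul] at h2
  exact h2.symm

/-- conjugate of a transvection matrix -/
theorem tv_conj_val (h g : GL ι F) (w Ψ : ι → F) (hg : g.val = 1 + vecMulVec w Ψ) :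
    (h * g * h⁻¹ : GL ι F).val = 1 + vecMulVec (h.val *ᵥ w) (Ψ ᵥ* (h⁻¹ : GL ι F).val) := by
  rw [Units.val_mul, Units.val_mul, hg, mul_add, mul_one, add_mul, ← Units.val_mul, mul_inv_cancel,
    Units.val_one, mul_vecMulVec, vecMulVec_mul]

/-- **commutator rule (T3).**  `(w,Ψ), (w',Ψ') ∈ T`, `Ψ·w' = 0` ⇒ `(w', (Ψ'·w) Ψ) ∈ T`. -/
theorem tv_comm_val (g g' : GL ι F) (w Ψ w' Ψ' : ι → F) (hg : g.val = 1 + vecMulVec w Ψ)
    (hg' : g'.val = 1 + vecMulVec w' Ψ') (h0 : Ψ ⬝ᵥ w = 0) (h0' : Ψ' ⬝ᵥ w' = 0)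
    (h1 : Ψ ⬝ᵥ w' = 0) :
    (g' * g * g'⁻¹ * g⁻¹ : GL ι F).val = 1 + vecMulVec w' ((Ψ' ⬝ᵥ w) • Ψ) := by
  have hc := tv_conj_val g' g w Ψ hg
  have hinv' := tv_inv_val g' w' Ψ' hg' h0'
  have hw : g'.val *ᵥ w = w + (Ψ' ⬝ᵥ w) • w' := by rw [hg', one_add_vecMulVec_mulVec]
  have hΨ : Ψ ᵥ* (g'⁻¹ : GL ι F).val = Ψ := by
    rw [hinv', Matrix.vecMul_sub, Matrix.vecMul_one, vecMul_vecMulVec, h1, zero_smul, sub_zero]
  rw [hw, hΨ] at hc
  rw [Units.val_mul (g' * g * g'⁻¹), hc, tv_inv_val g w Ψ hg h0, tv_mul_tv_sub]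
  have : Ψ ⬝ᵥ w = 0 := h0
  rw [this, zero_smul, sub_zero, add_vecMulVec, smul_vecMulVec, vecMulVec_smul]
  abel

end general

section tensor

variable {F : Type*} [Field F] {a b : ℕ}

theorem pt_dot_pt (ψ u : Fin a → F) (φ z : Fin b → F) :
    pt ψ φ ⬝ᵥ pt u z = (ψ ⬝ᵥ u) * (φ ⬝ᵥ z) := by
  simp only [dotProduct, pt, Fintype.sum_prod_type, Finset.sum_mul_sum]
  refine Finset.sum_congr rfl fun i _ => Finset.sum_congr rfl fun j _ => ?_
  ring

theorem pt_dot (ψ : Fin a → F) (φ : Fin b → F) (m : Fin a × Fin b → F) :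
    pt ψ φ ⬝ᵥ m = ψ ⬝ᵥ con m φ := by
  simp only [dotProduct, pt, con, Fintype.sum_prod_type, Finset.mul_sum]
  refine Finset.sum_congr rfl fun i _ => Finset.sum_congr rfl fun j _ => ?_
  ring

theorem vecMul_NN (Ψ : Fin a × Fin b → F) (v φ : Fin b → F) :
    Ψ ᵥ* NN (a := a) v φ = pt (con Ψ v) φ := by
  funext ⟨k, l⟩
  simp only [NN, Matrix.vecMul, dotProduct, kroneckerMap_apply, Fintype.sum_prod_type, pt, con,
    Matrix.one_apply, vecMulVec_apply]
  rw [Finset.sum_eq_single k]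
  · simp only [if_true, one_mul]
    rw [Finset.sum_mul]
    refine Finset.sum_congr rfl fun j _ => ?_
    ring
  · intro i _ hi
    simp [hi]
  · intro h; exact absurd (Finset.mem_univ k) h

theorem pt_smul_smul (c : F) (hc : c ≠ 0) (ψ : Fin a → F) (φ : Fin b → F) :
    c • pt (c⁻¹ • ψ) φ = pt ψ φ := by
  rw [Cfsg.Agent.Lib.H29.Tensor.pt_smul_left, smul_smul, mul_inv_cancel₀ hc, one_smul]

theorem pt_ne_zero {u : Fin a → F} {z : Fin b → F} (hu : u ≠ 0) (hz : z ≠ 0) : pt u z ≠ 0 :=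
  fun h => hu (pt_eq_zero hz h)

end tensor

section exist

variable {F : Type*} [Field F] {n : ℕ}

theorem exists_coord_ne_zero {x : Fin n → F} (hx : x ≠ 0) : ∃ j, x j ≠ 0 := by
  by_contra hcon; push Not at hcon; exact hx (funext hcon)

/-- two linear conditions on `F^n`, `n ≥ 3`, have a common non-zero solution -/
theorem exists_ne_zero_dot_dot (hn : 3 ≤ n) (p q : Fin n → F) :
    ∃ x : Fin n → F, x ≠ 0 ∧ p ⬝ᵥ x = 0 ∧ q ⬝ᵥ x = 0 := by
  let f : (Fin n → F) →ₗ[F] (Fin 2 → F) :=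
    { toFun := fun x => ![p ⬝ᵥ x, q ⬝ᵥ x]
      map_add' := fun x y => by
        ext i; fin_cases i <;> simp [dotProduct_add]
      map_smul' := fun c x => by
        ext i; fin_cases i <;> simp [dotProduct_smul] }
  have hlt : finrank F (Fin 2 → F) < finrank F (Fin n → F) := by
    rw [Module.finrank_fin_fun, Module.finrank_fin_fun]; omega
  have hker := LinearMap.ker_ne_bot_of_finrank_lt (f := f) hlt
  obtain ⟨x, hx, hx0⟩ := (Submodule.ne_bot_iff _).mp hker
  refine ⟨x, hx0, ?_, ?_⟩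
  · have := congrFun (LinearMap.mem_ker.mp hx) 0
    simpa [f] using this
  · have := congrFun (LinearMap.mem_ker.mp hx) 1
    simpa [f] using this

/-- one linear condition on `F^n`, `n ≥ 2`, has a non-zero solution -/
theorem exists_ne_zero_dot (hn : 2 ≤ n) (p : Fin n → F) :
    ∃ x : Fin n → F, x ≠ 0 ∧ p ⬝ᵥ x = 0 := by
  let f : (Fin n → F) →ₗ[F] F :=
    { toFun := fun x => p ⬝ᵥ x
      map_add' := fun x y => dotProduct_add _ _ _
      map_smul' := fun c x => by simp [dotProduct_smul] }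
  have hlt : finrank F F < finrank F (Fin n → F) := by
    rw [Module.finrank_fin_fun, Module.finrank_self]; omega
  have hker := LinearMap.ker_ne_bot_of_finrank_lt (f := f) hlt
  obtain ⟨x, hx, hx0⟩ := (Submodule.ne_bot_iff _).mp hker
  exact ⟨x, hx0, LinearMap.mem_ker.mp hx⟩

/-- a functional killing `u'` but not `u`, when `u` is not a multiple of `u'` -/
theorem exists_dot_sep (u u' : Fin n → F) (h : ∀ c : F, u ≠ c • u') :
    ∃ ψ : Fin n → F, ψ ⬝ᵥ u' = 0 ∧ ψ ⬝ᵥ u ≠ 0 := by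
  by_cases hu' : u' = 0
  · have hu : u ≠ 0 := by
      intro h0; exact h 0 (by rw [h0, zero_smul])
    obtain ⟨j, hj⟩ := exists_coord_ne_zero hu
    refine ⟨Pi.single j 1, by simp [hu'], by simpa using hj⟩
  · obtain ⟨i, hi⟩ := exists_coord_ne_zero hu'
    have hy : u - (u i / u' i) • u' ≠ 0 := by
      intro h0; exact h (u i / u' i) (sub_eq_zero.mp h0)
    obtain ⟨j, hj⟩ := exists_coord_ne_zero hy
    refine ⟨Pi.single j 1 - (u' j / u' i) • Pi.single i 1, ?_, ?_⟩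
    · rw [sub_dotProduct, smul_dotProduct]
      simp only [single_dotProduct, one_mul, smul_eq_mul]
      field_simp
      ring
    · rw [sub_dotProduct, smul_dotProduct]
      simp only [single_dotProduct, one_mul, smul_eq_mul]
      simp only [Pi.sub_apply, Pi.smul_apply, smul_eq_mul] at hj
      intro h0
      apply hj
      have : u j = u' j / u' i * u i := sub_eq_zero.mp h0
      rw [this]
      field_simp
      ring

end exist

end Cfsg.Agent.Lib.H27.Tp
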