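/-
S5637 piece T6a (architect helper25; this piece helper27): from any transvection in an overgroup `X` of the
tensor product group `H0` get a (pure, pure) transvection `1 + (u ⊗ z)(ψ ⊗ φ)ᵀ` with `φ(z) = 0`.
-/
import Cfsg.Agent.Lib.H27.TpBase

set_option autoImplicit false

namespace Cfsg.Agent.Lib.H27.Tp

open Matrix Kronecker Module
open Cfsg.Geo
open Cfsg.Agent.Lib.H29.Tensor (pt kron_pt)
open Cfsg.Agent.Lib.H28 (tvGL tvGL_mulVec)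
open Cfsg.Agent.Lib.H25.Tp

variable {F : Type*} [Field F] {a b : ℕ}

/-- a `φ ≠ 0` contracting `w₀` to zero exists because `a < b` -/
theorem exists_con_eq_zero (hab : a < b) (w₀ : Fin a × Fin b → F) :
    ∃ φ : Fin b → F, φ ≠ 0 ∧ con w₀ φ = 0 := by
  let f : (Fin b → F) →ₗ[F] (Fin a → F) :=
    { toFun := fun φ => con w₀ φ
      map_add' := fun x y => con_add_right w₀ x y
      map_smul' := fun c x => con_smul_right c w₀ x }
  have hlt : finrank F (Fin a → F) < finrank F (Fin b → F) := by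
    rw [Module.finrank_fin_fun, Module.finrank_fin_fun]; exact hab
  have hker := LinearMap.ker_ne_bot_of_finrank_lt (f := f) hlt
  obtain ⟨x, hx, hx0⟩ := (Submodule.ne_bot_iff _).mp hker
  exact ⟨x, hx0, LinearMap.mem_ker.mp hx⟩

/-- if `con Ψ v = 0` for all `v ∈ ker φ` then `Ψ` is pure with second factor `φ` -/
theorem pure_of_con_ker (Ψ : Fin a × Fin b → F) (φ : Fin b → F) (hφ : φ ≠ 0)
    (h : ∀ v : Fin b → F, φ ⬝ᵥ v = 0 → con Ψ v = 0) :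
    ∃ ψ : Fin a → F, Ψ = pt ψ φ := by
  obtain ⟨j₀, hj₀⟩ := exists_coord_ne_zero hφ
  refine ⟨fun i => Ψ (i, j₀) / φ j₀, ?_⟩
  funext ⟨i, j⟩
  have hv : φ ⬝ᵥ (Pi.single j 1 - (φ j / φ j₀) • Pi.single j₀ 1) = 0 := by
    rw [dotProduct_sub, dotProduct_smul]
    simp only [dotProduct_single, mul_one, smul_eq_mul]
    field_simp
    ring
  have h1 := congrFun (h _ hv) i
  simp only [con, Pi.sub_apply, Pi.smul_apply, smul_eq_mul, mul_sub, Finset.sum_sub_distrib,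
    Pi.zero_apply] at h1
  have e1 : ∑ x, Ψ (i, x) * (Pi.single j (1 : F) : Fin b → F) x = Ψ (i, j) := by
    rw [Finset.sum_eq_single j]
    · simp
    · intro x _ hx; simp [hx]
    · intro hx; exact absurd (Finset.mem_univ j) hx
  have e2 : ∑ x, Ψ (i, x) * (φ j / φ j₀ * (Pi.single j₀ (1 : F) : Fin b → F) x)
      = Ψ (i, j₀) * (φ j / φ j₀) := by
    rw [Finset.sum_eq_single j₀]
    · simp
    · intro x _ hx; simp [hx]
    · intro hx; exact absurd (Finset.mem_univ j₀) hx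
  rw [e1, e2] at h1
  show Ψ (i, j) = Ψ (i, j₀) / φ j₀ * φ j
  rw [sub_eq_zero.mp h1]
  field_simp

/-- **T6a.** -/
theorem exists_pure_tv (ha : 2 ≤ a) (hb : 3 ≤ b) (hab : a < b)
    (X : Subgroup (GL (Fin a × Fin b) F)) (hX : H0 a b F ≤ X)
    (t : GL (Fin a × Fin b) F) (ht : t ∈ X) (htv : IsTv t) :
    ∃ (u ψ : Fin a → F) (z φ : Fin b → F) (k : GL (Fin a × Fin b) F),
      u ≠ 0 ∧ ψ ≠ 0 ∧ z ≠ 0 ∧ φ ≠ 0 ∧ φ ⬝ᵥ z = 0 ∧ k ∈ X ∧
      k.val = 1 + vecMulVec (pt u z) (pt ψ φ) := by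
  obtain ⟨f, w₀, hfw, hf, hw₀, rfl⟩ := htv
  set Ψ₀ : Fin a × Fin b → F := fun p => f (Pi.single p 1) with hΨ₀
  have htval : (tvGL f w₀ hfw).val = 1 + vecMulVec w₀ Ψ₀ := tvGL_val f w₀ hfw
  have hΨw : Ψ₀ ⬝ᵥ w₀ = 0 := by rw [← dual_dot]; exact hfw
  have hΨ0 : Ψ₀ ≠ 0 := by
    intro h0
    apply hf
    apply LinearMap.ext
    intro x
    rw [dual_dot f x, ← hΨ₀, h0, zero_dotProduct]; rfl
  -- Step 1: a transvection in `X` with centre `w₀` and pure functional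
  obtain ⟨φ₁, hφ₁, hcon⟩ := exists_con_eq_zero hab w₀
  have step1 : ∃ (ψ₁ : Fin a → F) (t₁ : GL (Fin a × Fin b) F), ψ₁ ≠ 0 ∧ t₁ ∈ X ∧
      t₁.val = 1 + vecMulVec w₀ (pt ψ₁ φ₁) := by
    by_cases hcase : ∃ v : Fin b → F, φ₁ ⬝ᵥ v = 0 ∧ con Ψ₀ v ≠ 0
    · obtain ⟨v, hv, hne⟩ := hcase
      set h : GL (Fin a × Fin b) F := rr v φ₁ hv with hh
      have hhX : h ∈ X := hX (rr_mem_H0 v φ₁ hv)
      set t := tvGL f w₀ hfw with htdef
      have hc := tv_conj_val h t w₀ Ψ₀ htval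
      have hw : h.val *ᵥ w₀ = w₀ := by
        rw [hh, rr_mulVec, hcon, pt_zero_left, add_zero]
      have hΨ : Ψ₀ ᵥ* (h⁻¹ : GL (Fin a × Fin b) F).val = Ψ₀ - pt (con Ψ₀ v) φ₁ := by
        rw [hh, rr_inv_val, Matrix.vecMul_sub, Matrix.vecMul_one, vecMul_NN]
      rw [hw, hΨ] at hc
      have h0' : (Ψ₀ - pt (con Ψ₀ v) φ₁) ⬝ᵥ w₀ = 0 := by
        rw [sub_dotProduct, hΨw, pt_dot, hcon, dotProduct_zero, sub_zero]
      refine ⟨con Ψ₀ v, t * (h * t * h⁻¹)⁻¹, hne,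
        X.mul_mem ht (X.inv_mem (X.mul_mem (X.mul_mem hhX ht) (X.inv_mem hhX))), ?_⟩
      rw [Units.val_mul, tv_inv_val _ _ _ hc h0', htval, tv_mul_tv_sub, hΨw, zero_smul, sub_zero,
        add_sub_assoc, ← vecMulVec_sub, sub_sub_cancel]
    · push Not at hcase
      obtain ⟨ψ₁, hψ₁⟩ := pure_of_con_ker Ψ₀ φ₁ hφ₁ hcase
      refine ⟨ψ₁, tvGL f w₀ hfw, ?_, ht, ?_⟩
      · intro h0
        apply hΨ0
        rw [hψ₁, h0, pt_zero_left]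
      · rw [htval, hψ₁]
  obtain ⟨ψ₁, t₁, hψ₁, ht₁X, ht₁⟩ := step1
  have hΨ₁w : pt ψ₁ φ₁ ⬝ᵥ w₀ = 0 := by
    by_cases hcase : ∃ v : Fin b → F, φ₁ ⬝ᵥ v = 0 ∧ con Ψ₀ v ≠ 0
    · rw [pt_dot, hcon, dotProduct_zero]
    · rw [pt_dot, hcon, dotProduct_zero]
  -- Step 2: make the centre pure
  obtain ⟨p₀, hp₀⟩ : ∃ p, w₀ p ≠ 0 := by
    by_contra hcon'; push Not at hcon'; exact hw₀ (funext hcon')
  obtain ⟨i₀, j₀⟩ := p₀
  set φ' : Fin b → F := Pi.single j₀ 1 with hφ'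
  have hu : con w₀ φ' ≠ 0 := by
    intro h0
    have := congrFun h0 i₀
    simp only [con, hφ', Pi.zero_apply] at this
    rw [Finset.sum_eq_single j₀] at this
    · simp at this; exact hp₀ this
    · intro x _ hx; simp [hx]
    · intro hx; exact absurd (Finset.mem_univ j₀) hx
  obtain ⟨v, hv0, hv1, hv2⟩ := exists_ne_zero_dot_dot hb φ₁ φ'
  set h : GL (Fin a × Fin b) F := rr v φ' hv2 with hh
  have hhX : h ∈ X := hX (rr_mem_H0 v φ' hv2)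
  have hc := tv_conj_val h t₁ w₀ (pt ψ₁ φ₁) ht₁
  have hw : h.val *ᵥ w₀ = w₀ + pt (con w₀ φ') v := by rw [hh, rr_mulVec]
  have hΨ : pt ψ₁ φ₁ ᵥ* (h⁻¹ : GL (Fin a × Fin b) F).val = pt ψ₁ φ₁ := by
    rw [hh, rr_inv_val, Matrix.vecMul_sub, Matrix.vecMul_one, vecMul_NN, con_pt, hv1, zero_smul,
      pt_zero_left, sub_zero]
  rw [hw, hΨ] at hc
  refine ⟨con w₀ φ', ψ₁, v, φ₁, (h * t₁ * h⁻¹) * t₁⁻¹, hu, hψ₁, hv0, hφ₁, hv1,
    X.mul_mem (X.mul_mem (X.mul_mem hhX ht₁X) (X.inv_mem hhX)) (X.inv_mem ht₁X), ?_⟩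
  rw [Units.val_mul, hc, tv_inv_val t₁ w₀ _ ht₁ hΨ₁w, tv_mul_tv_sub, hΨ₁w, zero_smul, sub_zero,
    add_sub_assoc, ← sub_vecMulVec, add_sub_cancel_left]

end Cfsg.Agent.Lib.H27.Tp
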