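import Mathlib
import Cfsg.Agent.Lib.H26.PPearlDefs
import Cfsg.Agent.Lib.H27.PearlU

/-!
# S5238 piece U (helper27): the element `e` of a `p`-group with `|C_G(e)| = p²` is uniform
(general-`p` version of `Lib/H27/PearlU.lean`).
-/

set_option autoImplicit false

namespace Cfsg.Agent.Lib.H27.PPearl

open Cfsg.Agent.Lib.H22.Pearl Cfsg.Agent.Lib.H26.PPearl

section

variable {p : ℕ} [Fact p.Prime] {G : Type*} [Group G] [Finite G] {n : ℕ} {e : G}

/-- **U0**. -/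
theorem PP.not_mem_L1 (h : PP p G n e) (hn : 3 ≤ n)
    (hcard : ∀ i, 1 ≤ i → i ≤ n - 1 → Nat.card ↥(L G i) = p ^ (n - 1 - i)) : e ∉ L G 1 := by
  have hp : p.Prime := Fact.out
  have hC := h.hC
  have h0 : ∀ y ∈ L G 1, ∃ d ∈ (⊤ : Subgroup G), d * e * d⁻¹ * e⁻¹ = y := by
    refine Cfsg.Agent.Lib.H27.Pearl.comm_surj_of_card e ⊤ (L G 1) ?_ (p ^ 2) ?_ ?_
    · intro d _
      exact Subgroup.commutator_mem_commutator (Subgroup.mem_top d) (Subgroup.mem_top e)
    · rw [top_inf_eq]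
      exact hC.le
    · rw [hcard 1 le_rfl (by omega), Subgroup.card_top, h.card, ← pow_add]
      apply le_of_eq
      congr 1
      omega
  intro he1
  obtain ⟨d, -, hd⟩ := h0 e⁻¹ (inv_mem he1)
  have h1 : d * e * d⁻¹ = 1 := by
    have := congrArg (· * e) hd
    simpa using this
  have he : e = 1 := by simpa using h1
  subst he
  have htop : Subgroup.centralizer ({1} : Set G) = ⊤ := by
    ext x
    simp [Subgroup.mem_centralizer_iff]
  rw [htop, Subgroup.card_top, h.card] at hC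
  have : n = 2 := Nat.pow_right_injective hp.two_le hC
  omega

/-- **U1**. -/
theorem PP.exists_comm_eq (h : PP p G n e) (hn : 3 ≤ n)
    (hcard : ∀ i, 1 ≤ i → i ≤ n - 1 → Nat.card ↥(L G i) = p ^ (n - 1 - i))
    (i : ℕ) (hi1 : 1 ≤ i) (hi : i + 2 ≤ n) :
    ∀ y ∈ L G (i + 1), ∃ d ∈ L G i, d * e * d⁻¹ * e⁻¹ = y := by
  have hp : p.Prime := Fact.out
  have he1 : e ∉ L G 1 := PP.not_mem_L1 h hn hcard
  have hC := h.hC
  have heC : e ∈ Subgroup.centralizer ({e} : Set G) := by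
    rw [Subgroup.mem_centralizer_iff]
    intro t ht
    rw [Set.mem_singleton_iff] at ht
    rw [ht]
  have hle : L G i ≤ L G 1 := Subgroup.lowerCentralSeries_antitone _ hi1
  have hz : Nat.card ↥(L G i ⊓ Subgroup.centralizer ({e} : Set G)) ≤ p := by
    have hdvd : Nat.card ↥(L G i ⊓ Subgroup.centralizer ({e} : Set G)) ∣ p ^ 2 := by
      rw [← hC]
      exact Subgroup.card_dvd_of_le inf_le_right
    have hne : Nat.card ↥(L G i ⊓ Subgroup.centralizer ({e} : Set G)) ≠ p ^ 2 := by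
      intro h9
      have heq : L G i ⊓ Subgroup.centralizer ({e} : Set G) = Subgroup.centralizer ({e} : Set G) :=
        Subgroup.eq_of_le_of_card_ge inf_le_right (by rw [h9, hC])
      have : e ∈ L G i ⊓ Subgroup.centralizer ({e} : Set G) := by rw [heq]; exact heC
      exact he1 (hle (Subgroup.mem_inf.mp this).1)
    obtain ⟨m, hm, hcm⟩ := (Nat.dvd_prime_pow hp).mp hdvd
    rw [hcm] at hne ⊢
    have hm2 : m ≠ 2 := fun h2 => hne (by rw [h2])
    have hm1 : m ≤ 1 := by omega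
    calc p ^ m ≤ p ^ 1 := Nat.pow_le_pow_right hp.pos hm1
      _ = p := pow_one p
  refine Cfsg.Agent.Lib.H27.Pearl.comm_surj_of_card e (L G i) (L G (i + 1)) ?_ p hz ?_
  · intro d hd
    exact Subgroup.commutator_mem_commutator hd (Subgroup.mem_top e)
  · rw [hcard i hi1 (by omega), hcard (i + 1) (by omega) (by omega)]
    have : n - 1 - i = (n - 1 - (i + 1)) + 1 := by omega
    rw [this, pow_succ, mul_comm]

/-- **U2**. -/
theorem PP.comm_not_mem (h : PP p G n e) (hn : 3 ≤ n)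
    (hcard : ∀ i, 1 ≤ i → i ≤ n - 1 → Nat.card ↥(L G i) = p ^ (n - 1 - i))
    (hU : ∀ i, 1 ≤ i → i + 2 ≤ n → ∀ y ∈ L G (i + 1), ∃ d ∈ L G i, d * e * d⁻¹ * e⁻¹ = y)
    (i : ℕ) (hi1 : 1 ≤ i) (hi : i + 3 ≤ n) :
    ∀ d ∈ L G i, d ∉ L G (i + 1) → d * e * d⁻¹ * e⁻¹ ∉ L G (i + 2) := by
  have hp : p.Prime := Fact.out
  intro d hd hd1 hde
  set T : Subgroup G := L G i ⊓ Cfsg.Agent.Lib.H25.R2.b5Cent (L G (i + 2)) e with hT
  have hmemT : ∀ g, g ∈ T ↔ g ∈ L G i ∧ g * e * g⁻¹ * e⁻¹ ∈ L G (i + 2) := by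
    intro g
    rw [hT, Subgroup.mem_inf, Cfsg.Agent.Lib.H25.R2.b5_mem_cent]
    constructor
    · rintro ⟨h1, h2⟩
      exact ⟨h1, Cfsg.Agent.Lib.H25.R2.b5_comm_mem_symm _ h2⟩
    · rintro ⟨h1, h2⟩
      exact ⟨h1, Cfsg.Agent.Lib.H25.R2.b5_comm_mem_symm _ h2⟩
  have hTle : T ≤ L G i := inf_le_left
  have hleT : L G (i + 1) ≤ T := by
    intro g hg
    rw [hmemT]
    refine ⟨Subgroup.lowerCentralSeries_antitone _ (Nat.le_succ i) hg, ?_⟩
    exact Subgroup.commutator_mem_commutator hg (Subgroup.mem_top e)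
  have hdT : d ∈ T := (hmemT d).mpr ⟨hd, hde⟩
  have hci : Nat.card ↥(L G i) = p ^ (n - 1 - i) := hcard i hi1 (by omega)
  have hci1 : Nat.card ↥(L G (i + 1)) = p ^ (n - 1 - (i + 1)) := hcard (i + 1) (by omega) (by omega)
  have hci2 : Nat.card ↥(L G (i + 2)) = p ^ (n - 1 - (i + 2)) := hcard (i + 2) (by omega) (by omega)
  have hexp : n - 1 - i = (n - 1 - (i + 1)) + 1 := by omega
  have hexp2 : n - 1 - (i + 1) = (n - 1 - (i + 2)) + 1 := by omega
  have hd1' : Nat.card ↥(L G (i + 1)) ∣ Nat.card ↥T := Subgroup.card_dvd_of_le hleT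
  have hd2' : Nat.card ↥T ∣ Nat.card ↥(L G i) := Subgroup.card_dvd_of_le hTle
  obtain ⟨k, hk⟩ := hd1'
  have hk3 : k ∣ p := by
    rw [hk, hci, hci1, hexp, pow_succ] at hd2'
    exact (Nat.mul_dvd_mul_iff_left (pow_pos hp.pos _)).mp hd2'
  have hk13 : k = 1 ∨ k = p := (Nat.dvd_prime hp).mp hk3
  have hTeq : T = L G i := by
    rcases hk13 with rfl | rfl
    · exfalso
      rw [mul_one] at hk
      have : L G (i + 1) = T := Subgroup.eq_of_le_of_card_ge hleT hk.le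
      exact hd1 (this ▸ hdT)
    · refine Subgroup.eq_of_le_of_card_ge hTle ?_
      rw [hk, hci, hci1, hexp, pow_succ]
  have hle : L G (i + 1) ≤ L G (i + 2) := by
    intro y hy
    obtain ⟨d', hd', rfl⟩ := hU i hi1 (by omega) y hy
    exact ((hmemT d').mp (hTeq ▸ hd')).2
  have := Subgroup.card_le_of_le hle
  rw [hci1, hci2, hexp2, pow_succ] at this
  have hpos : 0 < p ^ (n - 1 - (i + 2)) := pow_pos hp.pos _
  have h2 := hp.two_le
  nlinarith

end

end Cfsg.Agent.Lib.H27.PPearl
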