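import Cfsg.Agent.Lib.H27.A8Lat
import Cfsg.Agent.Lib.H27.A8DataC5
import Cfsg.Agent.Lib.H27.A8DataC7
set_option autoImplicit false
namespace Cfsg.Agent.Lib.H27.A8L
open Equiv

theorem sign_pc_of_even {n : Nat} (hv : vp n = true) (h : Nat.mod (parN n) 2 = 0) :
    Perm.sign (pc n) = 1 := by
  rw [sign_eq_pow, codeOf_pc hv]
  exact Even.neg_one_pow (Nat.even_iff.mpr h)

theorem c5_pows : (∀ j : Fin 8, j < 5 → ∃ b : Fin 5, ((pc latC5.c) ^ (b : ℕ)) 0 = j) ∧
    (∀ j : Fin 8, j < 5 → ∃ b : Fin 5, ((pc latC5.c) ^ (b : ℕ)) j = 0) := by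
  decide +kernel

theorem c7_pows : (∀ j : Fin 8, j < 7 → ∃ b : Fin 7, ((pc latC7.c) ^ (b : ℕ)) 0 = j) ∧
    (∀ j : Fin 8, j < 7 → ∃ b : Fin 7, ((pc latC7.c) ^ (b : ℕ)) j = 0) := by
  decide +kernel

theorem okC5 : latC5.OK where
  valid := validC5
  chunks := ⟨_, allChunksC5⟩
  joins := ⟨_, jtOKC5⟩
  norm := by
    intro y
    have hex : ∃ j : Fin 8, j < 5 ∧ y j < 5 := by
      by_contra hcon
      push Not at hcon
      have := Finset.card_le_card_of_injOn y (s := ({0, 1, 2, 3, 4} : Finset (Fin 8)))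
        (t := ({5, 6, 7} : Finset (Fin 8))) (by
          intro j hj
          have hj5 : j < 5 := by
            simp only [Finset.coe_insert, Finset.coe_singleton, Set.mem_insert_iff,
              Set.mem_singleton_iff] at hj
            rcases hj with rfl | rfl | rfl | rfl | rfl <;> decide
          have := hcon j hj5
          have key : ∀ v : Fin 8, 5 ≤ v → v ∈ ({5, 6, 7} : Finset (Fin 8)) := by decide
          exact key _ this) y.injective.injOn
      simp at this
    obtain ⟨j, hj, hyj⟩ := hex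
    obtain ⟨b, hb⟩ := c5_pows.1 j hj
    obtain ⟨a, ha⟩ := c5_pows.2 (y j) hyj
    refine ⟨a, b, ?_⟩
    rw [Perm.mul_apply, Perm.mul_apply, hb, ha]
  sign := sign_pc_of_even (by decide +kernel) (by decide +kernel)
  zero := by decide +kernel

theorem okC7 : latC7.OK where
  valid := validC7
  chunks := ⟨_, allChunksC7⟩
  joins := ⟨_, jtOKC7⟩
  norm := by
    intro y
    have hex : ∃ j : Fin 8, j < 7 ∧ y j < 7 := by
      by_contra hcon
      push Not at hcon
      have h0 := hcon 0 (by decide)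
      have h1 := hcon 1 (by decide)
      have key : ∀ v : Fin 8, 7 ≤ v → v = 7 := by decide
      have := (key _ h0).trans (key _ h1).symm
      exact absurd (y.injective this) (by decide)
    obtain ⟨j, hj, hyj⟩ := hex
    obtain ⟨b, hb⟩ := c7_pows.1 j hj
    obtain ⟨a, ha⟩ := c7_pows.2 (y j) hyj
    refine ⟨a, b, ?_⟩
    rw [Perm.mul_apply, Perm.mul_apply, hb, ha]
  sign := sign_pc_of_even (by decide +kernel) (by decide +kernel)
  zero := by decide +kernel

end Cfsg.Agent.Lib.H27.A8L
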