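import Cfsg.Agent.Lib.H27.A8Tools5
import Cfsg.Agent.Lib.H27.A8OK

/-!
# Subgroups of `A₈` containing a 5-cycle

A subgroup of `A₈` containing the 5-cycle `(0 1 2 3 4)`, without nontrivial normal 2-subgroups and
without nontrivial normal subgroups of odd order, is isomorphic to `A₅, …, A₈`, `S₅` or `S₆`.
The numerical data are generated by a script.
-/

set_option autoImplicit false
set_option maxRecDepth 100000

namespace Cfsg.Agent.Lib.H27.A8L

open Equiv

theorem lenC5 : latC5.gens.length = 30 := by decide +kernel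

theorem orderOf_dvd_card_of_mem {K : Subgroup (Perm (Fin 8))} {σ : Perm (Fin 8)} (h : σ ∈ K) :
    orderOf σ ∣ Nat.card K := by
  rw [← Nat.card_zpowers]
  exact Subgroup.card_dvd_of_le ((Subgroup.zpowers_le).mpr h)

/-- all the values of a homomorphism on a group of the lattice are even if those of the
generators are -/
theorem LatD.sign_hom_eq_one {L : LatD} (i : Nat) {m : ℕ} (ρ : L.K i →* Perm (Fin m))
    (hgen : ∀ g ∈ L.c :: L.gens.getD i [], ∀ hk : pc g ∈ L.K i, Perm.sign (ρ ⟨pc g, hk⟩) = 1) :
    ∀ k : L.K i, Perm.sign (ρ k) = 1 := by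
  have hle : L.K i ≤ ((Perm.sign.comp ρ).ker).map (L.K i).subtype := by
    apply L.K_le' i
    intro g hg
    have hk : pc g ∈ L.K i := by
      rcases List.mem_cons.mp hg with rfl | hg
      · exact L.c_mem_K i
      · exact L.gen_mem_K i hg
    exact ⟨⟨pc g, hk⟩, hgen g hg hk, rfl⟩
  intro k
  obtain ⟨k', hk', hkk⟩ := hle k.2
  have : k' = k := Subtype.ext hkk
  rw [← this]
  exact hk'

theorem card_alt5 : Nat.card (alternatingGroup (Fin 5)) = 60 := by
  have h := two_mul_card_alternatingGroup (α := Fin 5)
  rw [Fintype.card_perm, Fintype.card_fin] at h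
  rw [Nat.card_eq_fintype_card]
  have : (5 : ℕ).factorial = 120 := by decide
  omega

/-! ### the bad groups -/

theorem c5_order : orderOf (pc latC5.c) = 5 := by
  have : Fact (Nat.Prime 5) := ⟨by norm_num⟩
  exact orderOf_eq_prime (by decide +kernel) (by decide +kernel)

theorem c5_bad_norm : ∀ i ∈ [0, 1, 2, 3, 4, 5, 6, 7], ∀ g ∈ latC5.c :: latC5.gens.getD i [],
    cmpN (cmpN g latC5.c) (invN g) ∈ latC5.cpow ∧ cmpN (cmpN (invN g) latC5.c) g ∈ latC5.cpow := by
  decide +kernel

theorem c5_bad_lo (i : Nat) (hi : i ∈ [0, 1, 2, 3, 4, 5, 6, 7]) : ¬ CoreFree (latC5.K i) :=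
  latC5.bad_cyclic validC5 i (validL_spec validC5).1
    (inK_cpow validC5 (Subgroup.mem_zpowers _))
    (InK.of_pc (validL_spec validC5).1 (latC5.c_mem_K i))
    (by rw [c5_order]; decide) (by decide +kernel) (c5_bad_norm i hi)

/-- the code of `(5 6 7)` -/
def rho567 : Nat := 12535432

/-- the code of `(5 7 6)` -/
def rho567sq : Nat := 14141064

theorem rho_order : orderOf (pc rho567) = 3 := by
  have : Fact (Nat.Prime 3) := ⟨by norm_num⟩
  exact orderOf_eq_prime (by decide +kernel) (by decide +kernel)

theorem rho_pows : ∀ e ∈ [rho567, rho567sq], InK (Subgroup.zpowers (pc rho567)) e := by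
  have h1 : InK (Subgroup.zpowers (pc rho567)) rho567 :=
    InK.of_pc (by decide +kernel) (Subgroup.mem_zpowers _)
  intro e he
  simp only [List.mem_cons, List.not_mem_nil, or_false] at he
  rcases he with rfl | rfl
  · exact h1
  · have := h1.cmpN h1
    have e : cmpN rho567 rho567 = rho567sq := by decide +kernel
    rwa [e] at this

theorem c5_bad_norm' : ∀ i ∈ [18, 19], ∀ g ∈ latC5.c :: latC5.gens.getD i [],
    cmpN (cmpN g rho567) (invN g) ∈ [rho567, rho567sq] ∧
      cmpN (cmpN (invN g) rho567) g ∈ [rho567, rho567sq] := by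
  decide +kernel

theorem c5_bad18 : ¬ CoreFree (latC5.K 18) :=
  latC5.bad_cyclic validC5 18 (by decide +kernel) rho_pows
    (latC5.inK_of_word validC5 18 7804785 rho567 (by decide +kernel))
    (by rw [rho_order]; decide) (by decide +kernel) (c5_bad_norm' 18 (by simp))

theorem c5_bad19 : ¬ CoreFree (latC5.K 19) :=
  latC5.bad_cyclic validC5 19 (by decide +kernel) rho_pows
    (latC5.inK_of_word validC5 19 120 rho567 (by decide +kernel))
    (by rw [rho_order]; decide) (by decide +kernel) (c5_bad_norm' 19 (by simp))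

/-! ### the natural alternating groups -/

theorem c5_good8 : Nonempty (latC5.K 8 ≃* alternatingGroup (Fin 5)) :=
  okC5.natural_alt jtOKC5 8 5 (by decide) (by decide +kernel) (by decide +kernel) (by decide +kernel)

theorem c5_good20 : Nonempty (latC5.K 20 ≃* alternatingGroup (Fin 6)) :=
  okC5.natural_alt jtOKC5 20 6 (by decide) (by decide +kernel) (by decide +kernel) (by decide +kernel)

theorem c5_good26 : Nonempty (latC5.K 26 ≃* alternatingGroup (Fin 7)) :=
  okC5.natural_alt jtOKC5 26 7 (by decide) (by decide +kernel) (by decide +kernel) (by decide +kernel)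

theorem c5_good29 : Nonempty (latC5.K 29 ≃* alternatingGroup (Fin 8)) :=
  okC5.natural_alt jtOKC5 29 8 (by decide) (by decide +kernel) (by decide +kernel) (by decide +kernel)

/-! ### the symmetric groups -/

theorem c5_good12 : Nonempty (latC5.K 12 ≃* Perm (Fin 5)) :=
  latC5.twisted_sym validC5 12 4 (by norm_num) (by decide +kernel) (by decide +kernel)
    [(14599809, 7434609), (14599760, 468791), (14599368, 41120113), (14596232, 472871)] (by decide +kernel)

theorem c5_good23 : Nonempty (latC5.K 23 ≃* Perm (Fin 6)) :=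
  latC5.twisted_sym validC5 23 5 (by norm_num) (by decide +kernel) (by decide +kernel)
    [(14599809, 464711), (14599760, 476951), (14599368, 74740081), (14596232, 57962866), (14571144, 627)] (by decide +kernel)

/-! ### the groups `PSL₂(5)` and `PGL₂(5)` on six points -/

/-- the five synthemes -/
def synth5 : List Nat := [16362241, 16300074, 16404563, 16319324, 16258277]

theorem cent_synth : goE (chkC synth5) 0 6 0 (0 + c67) [0, 1, 2, 3, 4, 5] 0 = true := by
  decide +kernel

/-- elements of `PGL₂(5)` inducing the adjacent transpositions of the synthemes, with words -/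
def sw15 : List (Nat × Nat) := [(14487907, 3622770), (14426909, 29815), (14522914, 30535), (14459179, 4671345)]

theorem sw15_spec : ∀ j : Fin 4,
    evalL (latC5.cpow ++ latC5.gens.getD 15 []) 15 (sw15.getD j (0, 0)).2 idN =
      (sw15.getD j (0, 0)).1 ∧ vp (sw15.getD j (0, 0)).1 = true ∧
    ∀ y : Fin 5, cmpN (cmpN (sw15.getD j (0, 0)).1 (synth5.getD y 0))
      (invN (sw15.getD j (0, 0)).1) = synth5.getD (swap j.castSucc j.succ y) 0 := by
  decide +kernel

theorem c5_good15 : Nonempty (latC5.K 15 ≃* Perm (Fin 5)) := by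
  obtain ⟨ρ, hρ⟩ := latC5.conj_hom validC5 15 synth5 (m := 5) rfl (by decide +kernel)
    (by decide +kernel) (by decide +kernel)
  have hinj : Function.Injective ρ := conj_injective ρ synth5 rfl (by decide +kernel) hρ cent_synth
    (latC5.K_le_alternating validC5 15 (by decide +kernel))
    (latC5.K_le_stab67 validC5 15 (by decide +kernel)) (by decide +kernel)
  have hsurj : Function.Surjective ρ := by
    apply surjective_of_swaps (n := 4)
    intro j
    obtain ⟨h1, h2, h3⟩ := sw15_spec j
    have hk := (latC5.inK_of_word validC5 15 _ _ h1).pc_mem h2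
    exact ⟨⟨_, hk⟩, rho_eq ρ synth5 rfl (by decide +kernel) (by decide +kernel) hρ h2 hk _ h3⟩
  exact ⟨MulEquiv.ofBijective ρ ⟨hinj, hsurj⟩⟩

/-- a Klein four-group in `PSL₂(5)` -/
def klein9 : List Nat := [16434824, 16431114, 16303658, 16300200]

theorem klein9_mem : ∀ g ∈ klein9, InK (latC5.K 9) g := by
  intro g hg
  simp only [klein9, List.mem_cons, List.not_mem_nil, or_false] at hg
  rcases hg with rfl | rfl | rfl | rfl
  · exact latC5.inK_of_word validC5 9 0 _ (by decide +kernel)
  · exact latC5.inK_of_word validC5 9 7435377 _ (by decide +kernel)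
  · exact latC5.inK_of_word validC5 9 95345 _ (by decide +kernel)
  · exact latC5.inK_of_word validC5 9 7 _ (by decide +kernel)

theorem c5_card9 : 60 ∣ Nat.card (latC5.K 9) := by
  have h4 : 4 ∣ Nat.card (latC5.K 9) :=
    length_dvd_card (l := klein9) (by decide +kernel) (by decide +kernel) (by decide +kernel)
      (by decide +kernel) klein9_mem
  have h5 : 5 ∣ Nat.card (latC5.K 9) := by
    rw [← c5_order]; exact orderOf_dvd_card_of_mem (latC5.c_mem_K 9)
  have h3 : 3 ∣ Nat.card (latC5.K 9) := by
    have hu : pc 16385117 ∈ latC5.K 9 :=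
      (latC5.inK_of_word validC5 9 29042 _ (by decide +kernel)).pc_mem (by decide +kernel)
    have ho : orderOf (pc 16385117) = 3 := by
      have : Fact (Nat.Prime 3) := ⟨by norm_num⟩
      exact orderOf_eq_prime (by decide +kernel) (by decide +kernel)
    rw [← ho]; exact orderOf_dvd_card_of_mem hu
  have h12 : 12 ∣ Nat.card (latC5.K 9) :=
    Nat.Coprime.mul_dvd_of_dvd_of_dvd (by norm_num : Nat.Coprime 4 3) h4 h3
  exact Nat.Coprime.mul_dvd_of_dvd_of_dvd (by norm_num : Nat.Coprime 12 5) h12 h5

theorem c5_good9 : Nonempty (latC5.K 9 ≃* alternatingGroup (Fin 5)) := by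
  obtain ⟨ρ, hρ⟩ := latC5.conj_hom validC5 9 synth5 (m := 5) rfl (by decide +kernel)
    (by decide +kernel) (by decide +kernel)
  have hinj : Function.Injective ρ := conj_injective ρ synth5 rfl (by decide +kernel) hρ cent_synth
    (latC5.K_le_alternating validC5 9 (by decide +kernel))
    (latC5.K_le_stab67 validC5 9 (by decide +kernel)) (by decide +kernel)
  have hgen : ∀ g ∈ latC5.c :: latC5.gens.getD 9 [], ∀ hk : pc g ∈ latC5.K 9,
      Perm.sign (ρ ⟨pc g, hk⟩) = 1 := by
    intro g hg hk
    have hg' : g = latC5.c ∨ g = 16300200 := by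
      have : latC5.c :: latC5.gens.getD 9 [] = [latC5.c, 16300200] := by decide +kernel
      rw [this] at hg
      simpa using hg
    rcases hg' with rfl | rfl
    · rw [rho_eq ρ synth5 rfl (by decide +kernel) (by decide +kernel) hρ (by decide +kernel) hk
        (swap 0 2 * swap 2 4 * swap 4 1 * swap 1 3 : Perm (Fin 5)) (by decide +kernel)]
      decide
    · rw [rho_eq ρ synth5 rfl (by decide +kernel) (by decide +kernel) hρ (by decide +kernel) hk
        (swap 0 4 * swap 2 3 : Perm (Fin 5)) (by decide +kernel)]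
      decide
  have heven := latC5.sign_hom_eq_one 9 ρ hgen
  let ρ' : latC5.K 9 →* alternatingGroup (Fin 5) :=
    ρ.codRestrict (alternatingGroup (Fin 5)) (fun k => Perm.mem_alternatingGroup.mpr (heven k))
  have hinj' : Function.Injective ρ' := by
    intro a b hab
    apply hinj
    exact congrArg Subtype.val hab
  have hbij : Function.Bijective ρ' := by
    apply hinj'.bijective_of_nat_card_le
    rw [card_alt5]
    exact Nat.le_of_dvd Nat.card_pos c5_card9
  exact ⟨MulEquiv.ofBijective ρ' hbij⟩

/-! ### the good groups -/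

theorem c5_g8 : Good (latC5.K 8) := Or.inl ⟨5, by norm_num, by norm_num, c5_good8⟩
theorem c5_g9 : Good (latC5.K 9) := Or.inl ⟨5, by norm_num, by norm_num, c5_good9⟩
theorem c5_g12 : Good (latC5.K 12) := Or.inr (Or.inl c5_good12)
theorem c5_g15 : Good (latC5.K 15) := Or.inr (Or.inl c5_good15)
theorem c5_g20 : Good (latC5.K 20) := Or.inl ⟨6, by norm_num, by norm_num, c5_good20⟩
theorem c5_g23 : Good (latC5.K 23) := Or.inr (Or.inr (Or.inl c5_good23))
theorem c5_g26 : Good (latC5.K 26) := Or.inl ⟨7, by norm_num, by norm_num, c5_good26⟩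
theorem c5_g29 : Good (latC5.K 29) := Or.inl ⟨8, by norm_num, by norm_num, c5_good29⟩

theorem c5_g10 : Good (latC5.K 10) :=
  latC5.good_conj validC5 9 10 (g := 16205448) (by decide +kernel) (by decide +kernel)
    ⟨1, by decide +kernel⟩ (by decide +kernel) c5_g9

theorem c5_g11 : Good (latC5.K 11) :=
  latC5.good_conj validC5 9 11 (g := 12306056) (by decide +kernel) (by decide +kernel)
    ⟨1, by decide +kernel⟩ (by decide +kernel) c5_g9

theorem c5_g13 : Good (latC5.K 13) :=
  latC5.good_conj validC5 12 13 (g := 12306056) (by decide +kernel) (by decide +kernel)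
    ⟨1, by decide +kernel⟩ (by decide +kernel) c5_g12

theorem c5_g14 : Good (latC5.K 14) :=
  latC5.good_conj validC5 12 14 (g := 16205448) (by decide +kernel) (by decide +kernel)
    ⟨1, by decide +kernel⟩ (by decide +kernel) c5_g12

theorem c5_g16 : Good (latC5.K 16) :=
  latC5.good_conj validC5 15 16 (g := 16205448) (by decide +kernel) (by decide +kernel)
    ⟨1, by decide +kernel⟩ (by decide +kernel) c5_g15

theorem c5_g17 : Good (latC5.K 17) :=
  latC5.good_conj validC5 15 17 (g := 12306056) (by decide +kernel) (by decide +kernel)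
    ⟨1, by decide +kernel⟩ (by decide +kernel) c5_g15

theorem c5_g21 : Good (latC5.K 21) :=
  latC5.good_conj validC5 20 21 (g := 16205448) (by decide +kernel) (by decide +kernel)
    ⟨1, by decide +kernel⟩ (by decide +kernel) c5_g20

theorem c5_g22 : Good (latC5.K 22) :=
  latC5.good_conj validC5 20 22 (g := 12306056) (by decide +kernel) (by decide +kernel)
    ⟨1, by decide +kernel⟩ (by decide +kernel) c5_g20

theorem c5_g24 : Good (latC5.K 24) :=
  latC5.good_conj validC5 23 24 (g := 16205448) (by decide +kernel) (by decide +kernel)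
    ⟨1, by decide +kernel⟩ (by decide +kernel) c5_g23

theorem c5_g25 : Good (latC5.K 25) :=
  latC5.good_conj validC5 23 25 (g := 12306056) (by decide +kernel) (by decide +kernel)
    ⟨1, by decide +kernel⟩ (by decide +kernel) c5_g23

theorem c5_g27 : Good (latC5.K 27) :=
  latC5.good_conj validC5 26 27 (g := 14599816) (by decide +kernel) (by decide +kernel)
    ⟨1, by decide +kernel⟩ (by decide +kernel) c5_g26

theorem c5_g28 : Good (latC5.K 28) :=
  latC5.good_conj validC5 26 28 (g := 12306056) (by decide +kernel) (by decide +kernel)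
    ⟨1, by decide +kernel⟩ (by decide +kernel) c5_g26

/-- **the classification for the 5-cycle** -/
theorem c5_main {K : Subgroup (Perm (Fin 8))} (hK : K ≤ alternatingGroup (Fin 8))
    (hc : pc latC5.c ∈ K) (hcf : CoreFree K) : Good K := by
  obtain ⟨i, hi, rfl⟩ := okC5.main hK hc
  rw [lenC5] at hi
  interval_cases i
  · exact absurd hcf (c5_bad_lo 0 (by simp))
  · exact absurd hcf (c5_bad_lo 1 (by simp))
  · exact absurd hcf (c5_bad_lo 2 (by simp))
  · exact absurd hcf (c5_bad_lo 3 (by simp))
  · exact absurd hcf (c5_bad_lo 4 (by simp))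
  · exact absurd hcf (c5_bad_lo 5 (by simp))
  · exact absurd hcf (c5_bad_lo 6 (by simp))
  · exact absurd hcf (c5_bad_lo 7 (by simp))
  · exact c5_g8
  · exact c5_g9
  · exact c5_g10
  · exact c5_g11
  · exact c5_g12
  · exact c5_g13
  · exact c5_g14
  · exact c5_g15
  · exact c5_g16
  · exact c5_g17
  · exact absurd hcf c5_bad18
  · exact absurd hcf c5_bad19
  · exact c5_g20
  · exact c5_g21
  · exact c5_g22
  · exact c5_g23
  · exact c5_g24
  · exact c5_g25
  · exact c5_g26
  · exact c5_g27
  · exact c5_g28
  · exact c5_g29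

end Cfsg.Agent.Lib.H27.A8L
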