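import Cfsg.Agent.Lib.H27.A8Tools5
/-!
# The action of `GL₃(2)` on the eight vectors of `𝔽₂³`
-/

set_option autoImplicit false
namespace Cfsg.Agent.Lib.H27.A8L
open Equiv Matrix

/-- the vector of `𝔽₂³` with a given label -/
def vecOf : Fin 8 → (Fin 3 → ZMod 2) :=
  ![![1, 0, 0], ![0, 1, 0], ![0, 0, 1], ![1, 1, 0], ![0, 1, 1], ![1, 1, 1], ![1, 0, 1], ![0, 0, 0]]

/-- the label of a vector of `𝔽₂³` -/
def labOf (v : Fin 3 → ZMod 2) : Fin 8 :=
  (![7, 0, 1, 3, 2, 6, 4, 5] : Fin 8 → Fin 8)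
    ⟨(v 0).val + 2 * (v 1).val + 4 * (v 2).val, by
      have h0 := ZMod.val_lt (v 0)
      have h1 := ZMod.val_lt (v 1)
      have h2 := ZMod.val_lt (v 2)
      omega⟩

/-- the labelling of `𝔽₂³` -/
def vecEquiv : Fin 8 ≃ (Fin 3 → ZMod 2) where
  toFun := vecOf
  invFun := labOf
  left_inv := by decide
  right_inv := by decide

/-- the action of `GL₃(2)` on `𝔽₂³` -/
def glPerm : GL (Fin 3) (ZMod 2) →* Perm (Fin 3 → ZMod 2) where
  toFun M :=
    { toFun := fun v => (M : Matrix (Fin 3) (Fin 3) (ZMod 2)) *ᵥ v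
      invFun := fun v => ((M⁻¹ : GL (Fin 3) (ZMod 2)) : Matrix (Fin 3) (Fin 3) (ZMod 2)) *ᵥ v
      left_inv := by
        intro v
        show ((M⁻¹ : GL (Fin 3) (ZMod 2)) : Matrix (Fin 3) (Fin 3) (ZMod 2)) *ᵥ
          ((M : Matrix (Fin 3) (Fin 3) (ZMod 2)) *ᵥ v) = v
        rw [Matrix.mulVec_mulVec, ← Units.val_mul, inv_mul_cancel, Units.val_one, Matrix.one_mulVec]
      right_inv := by
        intro v
        show (M : Matrix (Fin 3) (Fin 3) (ZMod 2)) *ᵥ
          (((M⁻¹ : GL (Fin 3) (ZMod 2)) : Matrix (Fin 3) (Fin 3) (ZMod 2)) *ᵥ v) = v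
        rw [Matrix.mulVec_mulVec, ← Units.val_mul, mul_inv_cancel, Units.val_one,
          Matrix.one_mulVec] }
  map_one' := by
    apply Equiv.ext
    intro v
    show ((1 : GL (Fin 3) (ZMod 2)) : Matrix (Fin 3) (Fin 3) (ZMod 2)) *ᵥ v = v
    rw [Units.val_one, Matrix.one_mulVec]
  map_mul' := by
    intro M N
    apply Equiv.ext
    intro v
    show ((M * N : GL (Fin 3) (ZMod 2)) : Matrix (Fin 3) (Fin 3) (ZMod 2)) *ᵥ v =
      (M : Matrix (Fin 3) (Fin 3) (ZMod 2)) *ᵥ ((N : Matrix (Fin 3) (Fin 3) (ZMod 2)) *ᵥ v)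
    rw [Matrix.mulVec_mulVec, Units.val_mul]

theorem glPerm_injective : Function.Injective glPerm := by
  intro M N h
  apply Units.ext
  apply Matrix.ext_of_mulVec_single  
  intro j
  have := congrArg (fun p : Perm (Fin 3 → ZMod 2) => p (Pi.single j 1)) h
  exact this

/-- the action of `GL₃(2)` on the eight labels -/
def theta : GL (Fin 3) (ZMod 2) →* Perm (Fin 8) :=
  vecEquiv.symm.permCongrHom.toMonoidHom.comp glPerm

theorem theta_apply (M : GL (Fin 3) (ZMod 2)) (x : Fin 8) :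
    theta M x = labOf ((M : Matrix (Fin 3) (Fin 3) (ZMod 2)) *ᵥ vecOf x) := rfl

theorem theta_injective : Function.Injective theta :=
  vecEquiv.symm.permCongrHom.injective.comp glPerm_injective

theorem card_GL3 : Nat.card (GL (Fin 3) (ZMod 2)) = 168 := by
  rw [Matrix.card_GL_field, ZMod.card]
  decide

/-- an invertible matrix from a matrix and its inverse -/
def mkGL (M N : Matrix (Fin 3) (Fin 3) (ZMod 2)) (h1 : M * N = 1) (h2 : N * M = 1) :
    GL (Fin 3) (ZMod 2) := ⟨M, N, h1, h2⟩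

theorem theta_mkGL (M N : Matrix (Fin 3) (Fin 3) (ZMod 2)) (h1 : M * N = 1) (h2 : N * M = 1)
    (g : Nat) (hv : vp g = true) (h : ∀ x : Fin 8, (labOf (M *ᵥ vecOf x)).val = dg g x) :
    theta (mkGL M N h1 h2) = pc g := by
  apply Equiv.ext
  intro x
  apply Fin.ext
  rw [theta_apply, pc_apply hv]
  exact h x

end Cfsg.Agent.Lib.H27.A8L
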