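import Cfsg.Agent.Lib.H27.A8Tools5
import Cfsg.Agent.Lib.H27.A8GL3
import Cfsg.Agent.Lib.H27.A8OK

/-!
# Subgroups of `A₈` containing a 7-cycle

A subgroup of `A₈` containing the 7-cycle `(0 1 2 3 4 5 6)`, without nontrivial normal
2-subgroups and without nontrivial normal subgroups of odd order, is isomorphic to `GL₃(2)`, `A₇`
or `A₈`. The numerical data are generated by a script.
-/

set_option autoImplicit false
set_option maxRecDepth 100000

namespace Cfsg.Agent.Lib.H27.A8L

open Equiv Matrix

theorem lenC7 : latC7.gens.length = 13 := by decide +kernel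

theorem orderOf_dvd_card_of_mem' {K : Subgroup (Perm (Fin 8))} {σ : Perm (Fin 8)} (h : σ ∈ K) :
    orderOf σ ∣ Nat.card K := by
  rw [← Nat.card_zpowers]
  exact Subgroup.card_dvd_of_le ((Subgroup.zpowers_le).mpr h)

/-- all the values of a homomorphism on a group of the lattice lie in a subgroup if those of the
generators do -/
theorem LatD.hom_mem {L : LatD} (i : Nat) {H : Type*} [Group H] (ρ : L.K i →* H) (M : Subgroup H)
    (hgen : ∀ g ∈ L.c :: L.gens.getD i [], ∀ hk : pc g ∈ L.K i, ρ ⟨pc g, hk⟩ ∈ M) :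
    ∀ k : L.K i, ρ k ∈ M := by
  have hle : L.K i ≤ (M.comap ρ).map (L.K i).subtype := by
    apply L.K_le' i
    intro g hg
    have hk : pc g ∈ L.K i := by
      rcases List.mem_cons.mp hg with rfl | hg
      · exact L.c_mem_K i
      · exact L.gen_mem_K i hg
    exact ⟨⟨pc g, hk⟩, hgen g hg hk, rfl⟩
  intro k
  obtain ⟨k', hk', hkk⟩ := hle k.2
  have : k' = k := Subtype.ext hkk
  rw [← this]
  exact hk'

/-! ### the bad groups -/

theorem c7_order : orderOf (pc latC7.c) = 7 := by
  have : Fact (Nat.Prime 7) := ⟨by norm_num⟩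
  exact orderOf_eq_prime (by decide +kernel) (by decide +kernel)

theorem c7_bad_norm : ∀ i ∈ [0, 1], ∀ g ∈ latC7.c :: latC7.gens.getD i [],
    cmpN (cmpN g latC7.c) (invN g) ∈ latC7.cpow ∧ cmpN (cmpN (invN g) latC7.c) g ∈ latC7.cpow := by
  decide +kernel

theorem c7_bad_lo (i : Nat) (hi : i ∈ [0, 1]) : ¬ CoreFree (latC7.K i) :=
  latC7.bad_cyclic validC7 i (validL_spec validC7).1
    (inK_cpow validC7 (Subgroup.mem_zpowers _))
    (InK.of_pc (validL_spec validC7).1 (latC7.c_mem_K i))
    (by rw [c7_order]; decide) (by decide +kernel) (c7_bad_norm i hi)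

/-- the first elementary abelian group of order 8 normalized by the 7-cycle -/
def elA : List Nat := [1107183, 2636221, 4608499, 7806498, 8483678, 11513089, 14518868, 16434824]

/-- the second elementary abelian group of order 8 normalized by the 7-cycle: the translations
of `𝔽₂³`, the translation taking `7` to `v` at index `v` -/
def elB : List Nat := [676767, 3612987, 4299750, 7434049, 9206869, 10978548, 14465066, 16434824]

theorem elA_one : idN ∈ elA := by decide +kernel
theorem elA_mul : ∀ g ∈ elA, ∀ h ∈ elA, cmpN g h ∈ elA := by decide +kernel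
theorem elA_sq : ∀ g ∈ elA, cmpN g g = idN := by decide +kernel
theorem elA_ne : ∃ g ∈ elA, g ≠ idN ∧ vp g = true := by decide +kernel
theorem elB_one : idN ∈ elB := by decide +kernel
theorem elB_mul : ∀ g ∈ elB, ∀ h ∈ elB, cmpN g h ∈ elB := by decide +kernel
theorem elB_sq : ∀ g ∈ elB, cmpN g g = idN := by decide +kernel
theorem elB_ne : ∃ g ∈ elB, g ≠ idN ∧ vp g = true := by decide +kernel

theorem c7_bad2 : ¬ CoreFree (latC7.K 2) := by
  have hw : ∀ g ∈ elA, ∃ w ∈ [886, 39, 369, 114, 1651, 1396, 1908, 0],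
      evalL (latC7.cpow ++ latC7.gens.getD 2 []) 15 w idN = g := by decide +kernel
  exact latC7.bad_list validC7 2 elA_one elA_mul elA_sq
    (fun g hg => by
      obtain ⟨w, _, hw'⟩ := hw g hg
      exact latC7.inK_of_word validC7 2 w g hw')
    elA_ne (by decide +kernel)

theorem c7_bad7 : ¬ CoreFree (latC7.K 7) := by
  have hw : ∀ g ∈ elA, ∃ w ∈ [464755, 472946, 487797, 481137, 489074, 488566, 488305, 0],
      evalL (latC7.cpow ++ latC7.gens.getD 7 []) 15 w idN = g := by decide +kernel
  exact latC7.bad_list validC7 7 elA_one elA_mul elA_sq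
    (fun g hg => by
      obtain ⟨w, _, hw'⟩ := hw g hg
      exact latC7.inK_of_word validC7 7 w g hw')
    elA_ne (by decide +kernel)

theorem c7_bad10 : ¬ CoreFree (latC7.K 10) := by
  have hw : ∀ g ∈ elA, ∃ w ∈ [7500402, 74806641, 58029426, 41252211, 24474996, 7697781, 24277617, 0],
      evalL (latC7.cpow ++ latC7.gens.getD 10 []) 15 w idN = g := by decide +kernel
  exact latC7.bad_list validC7 10 elA_one elA_mul elA_sq
    (fun g hg => by
      obtain ⟨w, _, hw'⟩ := hw g hg
      exact latC7.inK_of_word validC7 10 w g hw')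
    elA_ne (by decide +kernel)

theorem c7_bad3 : ¬ CoreFree (latC7.K 3) := by
  have hw : ∀ g ∈ elB, ∃ w ∈ [1398, 71, 881, 1905, 371, 116, 1653, 0],
      evalL (latC7.cpow ++ latC7.gens.getD 3 []) 15 w idN = g := by decide +kernel
  exact latC7.bad_list validC7 3 elB_one elB_mul elB_sq
    (fun g hg => by
      obtain ⟨w, _, hw'⟩ := hw g hg
      exact latC7.inK_of_word validC7 3 w g hw')
    elB_ne (by decide +kernel)

theorem c7_bad5 : ¬ CoreFree (latC7.K 5) := by
  have hw : ∀ g ∈ elB, ∃ w ∈ [488306, 481140, 485234, 488054, 488817, 488565, 472945, 0],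
      evalL (latC7.cpow ++ latC7.gens.getD 5 []) 15 w idN = g := by decide +kernel
  exact latC7.bad_list validC7 5 elB_one elB_mul elB_sq
    (fun g hg => by
      obtain ⟨w, _, hw'⟩ := hw g hg
      exact latC7.inK_of_word validC7 5 w g hw')
    elB_ne (by decide +kernel)

theorem c7_bad9 : ¬ CoreFree (latC7.K 9) := by
  have hw : ∀ g ∈ elB, ∃ w ∈ [7631988, 41120625, 24343410, 7566195, 57963633, 41186418, 24409203, 0],
      evalL (latC7.cpow ++ latC7.gens.getD 9 []) 15 w idN = g := by decide +kernel
  exact latC7.bad_list validC7 9 elB_one elB_mul elB_sq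
    (fun g hg => by
      obtain ⟨w, _, hw'⟩ := hw g hg
      exact latC7.inK_of_word validC7 9 w g hw')
    elB_ne (by decide +kernel)

/-! ### the natural alternating groups -/

theorem c7_good11 : Nonempty (latC7.K 11 ≃* alternatingGroup (Fin 7)) :=
  okC7.natural_alt jtOKC7 11 7 (by decide) (by decide +kernel) (by decide +kernel) (by decide +kernel)

theorem c7_good12 : Nonempty (latC7.K 12 ≃* alternatingGroup (Fin 8)) :=
  okC7.natural_alt jtOKC7 12 8 (by decide) (by decide +kernel) (by decide +kernel) (by decide +kernel)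

/-! ### the stabilizer of a point in `AGL₃(2)` -/

/-- a dihedral group of order 8 in `GL₃(2)` -/
def dih6 : List Nat := [16434824, 15820616, 15918721, 16336705, 16303658, 15754858, 15787541, 16270933]

theorem dih6_mem : ∀ g ∈ dih6, InK (latC7.K 6) g := by
  have hw : ∀ g ∈ dih6, ∃ w ∈ [0, 29041, 629, 291697, 226931, 14103, 30324, 374],
      evalL (latC7.cpow ++ latC7.gens.getD 6 []) 15 w idN = g := by decide +kernel
  intro g hg
  obtain ⟨w, _, hw'⟩ := hw g hg
  exact latC7.inK_of_word validC7 6 w g hw'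

theorem c7_card6 : 168 ∣ Nat.card (latC7.K 6) := by
  have h8 : 8 ∣ Nat.card (latC7.K 6) :=
    length_dvd_card (l := dih6) (by decide +kernel) (by decide +kernel) (by decide +kernel)
      (by decide +kernel) dih6_mem
  have h7 : 7 ∣ Nat.card (latC7.K 6) := by
    rw [← c7_order]; exact orderOf_dvd_card_of_mem' (latC7.c_mem_K 6)
  have h3 : 3 ∣ Nat.card (latC7.K 6) := by
    have hu : pc 16385117 ∈ latC7.K 6 :=
      (latC7.inK_of_word validC7 6 29809 _ (by decide +kernel)).pc_mem (by decide +kernel)
    have ho : orderOf (pc 16385117) = 3 := by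
      have : Fact (Nat.Prime 3) := ⟨by norm_num⟩
      exact orderOf_eq_prime (by decide +kernel) (by decide +kernel)
    rw [← ho]; exact orderOf_dvd_card_of_mem' hu
  have h24 : 24 ∣ Nat.card (latC7.K 6) :=
    Nat.Coprime.mul_dvd_of_dvd_of_dvd (by norm_num : Nat.Coprime 8 3) h8 h3
  exact Nat.Coprime.mul_dvd_of_dvd_of_dvd (by norm_num : Nat.Coprime 24 7) h24 h7

theorem c7_K6_eq : latC7.K 6 = theta.range := by
  have hle : latC7.K 6 ≤ theta.range := by
    apply latC7.K_le' 6
    intro g hg
    have hl : latC7.c :: latC7.gens.getD 6 [] = [latC7.c, 15123696] := by decide +kernel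
    rw [hl] at hg
    simp only [List.mem_cons, List.not_mem_nil, or_false] at hg
    rcases hg with rfl | rfl
    · exact ⟨mkGL !![0, 0, 1; 1, 0, 1; 0, 1, 0] !![1, 1, 0; 0, 0, 1; 1, 0, 0] (by decide) (by decide),
        theta_mkGL _ _ _ _ _ (by decide +kernel) (by decide +kernel)⟩
    · exact ⟨mkGL !![1, 1, 1; 0, 0, 1; 0, 1, 0] !![1, 1, 1; 0, 0, 1; 0, 1, 0] (by decide) (by decide),
        theta_mkGL _ _ _ _ _ (by decide +kernel) (by decide +kernel)⟩
  apply Subgroup.eq_of_le_of_card_ge hle
  rw [Nat.card_congr (MonoidHom.ofInjective theta_injective).toEquiv.symm, card_GL3]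
  exact Nat.le_of_dvd Nat.card_pos c7_card6

theorem c7_good6 : Nonempty (latC7.K 6 ≃* GL (Fin 3) (ZMod 2)) :=
  ⟨(MulEquiv.subgroupCongr c7_K6_eq).trans (MonoidHom.ofInjective theta_injective).symm⟩

/-! ### the transitive `PSL₂(7)` -/

theorem elB_facts : (∀ v : Fin 8, dg (elB.getD v 0) 7 = v.val) ∧
    ∀ v w : Fin 8, dg (elB.getD v 0) w = dg (elB.getD w 0) v := by decide +kernel

theorem elB_vp : ∀ s ∈ elB, vp s = true := by decide +kernel

/-- a permutation commuting with all translations is a translation -/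
theorem sq_eq_one_of_comm {σ : Perm (Fin 8)}
    (h : ∀ v : Fin 8, σ * pc (elB.getD v 0) = pc (elB.getD v 0) * σ) : σ * σ = 1 := by
  have hmem : ∀ v : Fin 8, elB.getD v 0 ∈ elB := fun v => getD_mem_of_fin elB rfl v
  have hσ : σ = pc (elB.getD (σ 7) 0) := by
    apply Equiv.ext
    intro w
    have h1 : pc (elB.getD w 0) 7 = w := by
      apply Fin.ext
      rw [pc_apply (elB_vp _ (hmem w))]
      exact elB_facts.1 w
    have h2 := congrArg (fun p : Perm (Fin 8) => p 7) (h w)
    simp only [Perm.mul_apply] at h2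
    rw [h1] at h2
    rw [h2]
    apply Fin.ext
    rw [pc_apply (elB_vp _ (hmem w)), pc_apply (elB_vp _ (hmem (σ 7))), elB_facts.2 w (σ 7)]
  rw [hσ]
  apply codeOf_injective
  rw [codeOf_mul, codeOf_pc (elB_vp _ (hmem (σ 7))), codeOf_one]
  exact elB_sq _ (hmem (σ 7))

theorem c7_good8 (hcf : CoreFree (latC7.K 8)) : Nonempty (latC7.K 8 ≃* GL (Fin 3) (ZMod 2)) := by
  obtain ⟨ρ, hρ⟩ := latC7.conj_hom validC7 8 elB (m := 8) rfl elB_vp (by decide +kernel)
    (by decide +kernel)
  -- the kernel is a normal 2-subgroup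
  have hker : ρ.ker = ⊥ := by
    have hN := hcf (ρ.ker.map (latC7.K 8).subtype) (Subgroup.map_subtype_le _)
      (by
        have h1 := Subgroup.le_normalizer_map (H := ρ.ker) (latC7.K 8).subtype
        rw [Subgroup.normalizer_eq_top, ← MonoidHom.range_eq_map, Subgroup.range_subtype] at h1
        exact h1)
      (Or.inl (by
        rintro ⟨n, k, hk, rfl⟩
        refine ⟨1, ?_⟩
        apply Subtype.ext
        rw [pow_one, Subgroup.coe_pow, Subgroup.coe_one, pow_two]
        apply sq_eq_one_of_comm
        intro v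
        have := hρ k v
        rw [MonoidHom.mem_ker.mp hk, Perm.one_apply] at this
        calc (k : Perm (Fin 8)) * pc (elB.getD v 0)
            = ((k : Perm (Fin 8)) * pc (elB.getD v 0) * (k : Perm (Fin 8))⁻¹) * k := by group
          _ = pc (elB.getD v 0) * k := by rw [← this]))
    exact (Subgroup.map_eq_bot_iff_of_injective _ (Subgroup.subtype_injective _)).mp hN
  have hinj : Function.Injective ρ := (MonoidHom.ker_eq_bot_iff ρ).mp hker
  -- the image
  have hc8 : pc latC7.c ∈ latC7.K 8 := latC7.c_mem_K 8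
  have ha8 : pc 2838360 ∈ latC7.K 8 := latC7.gen_mem_K 8 (by decide +kernel)
  have hρc : ρ ⟨pc latC7.c, hc8⟩ = pc latC7.c :=
    rho_eq ρ elB rfl elB_vp (by decide +kernel) hρ (by decide +kernel) hc8 _ (by decide +kernel)
  have hρa : ρ ⟨pc 2838360, ha8⟩ = pc 15901571 :=
    rho_eq ρ elB rfl elB_vp (by decide +kernel) hρ (by decide +kernel) ha8 _ (by decide +kernel)
  have hrange : ρ.range = latC7.K 6 := by
    apply le_antisymm
    · rintro _ ⟨k, rfl⟩
      apply latC7.hom_mem 8 ρ (latC7.K 6)
      intro g hg hk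
      have hl : latC7.c :: latC7.gens.getD 8 [] = [latC7.c, 2838360] := by decide +kernel
      rw [hl] at hg
      simp only [List.mem_cons, List.not_mem_nil, or_false] at hg
      rcases hg with rfl | rfl
      · rw [hρc]; exact latC7.c_mem_K 6
      · rw [hρa]
        exact (latC7.inK_of_word validC7 6 372 _ (by decide +kernel)).pc_mem (by decide +kernel)
    · have hcr : pc latC7.c ∈ ρ.range := ⟨_, hρc⟩
      have hbr : pc 15901571 ∈ ρ.range := ⟨_, hρa⟩
      apply latC7.K_le' 6
      intro g hg
      have hl : latC7.c :: latC7.gens.getD 6 [] = [latC7.c, 15123696] := by decide +kernel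
      rw [hl] at hg
      simp only [List.mem_cons, List.not_mem_nil, or_false] at hg
      rcases hg with rfl | rfl
      · exact hcr
      · have hG : ∀ g ∈ latC7.cpow ++ [15901571], InK ρ.range g := by
          intro g hg
          rcases List.mem_append.mp hg with hg | hg
          · exact inK_cpow validC7 hcr g hg
          · rw [List.mem_singleton] at hg; subst hg; exact InK.of_pc (by decide +kernel) hbr
        have hin := InK.evalL hG 15 1651 idN (InK.idN _)
        have he : evalL (latC7.cpow ++ [15901571]) 15 1651 idN = 15123696 := by decide +kernel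
        rw [he] at hin
        exact hin.pc_mem (by decide +kernel)
  obtain ⟨e6⟩ := c7_good6
  exact ⟨(MonoidHom.ofInjective hinj).trans ((MulEquiv.subgroupCongr hrange).trans e6)⟩

/-! ### the good groups -/

theorem c7_g6 : Good (latC7.K 6) := Or.inr (Or.inr (Or.inr c7_good6))
theorem c7_g11 : Good (latC7.K 11) := Or.inl ⟨7, by norm_num, by norm_num, c7_good11⟩
theorem c7_g12 : Good (latC7.K 12) := Or.inl ⟨8, by norm_num, by norm_num, c7_good12⟩

theorem c7_g4 : Good (latC7.K 4) :=
  latC7.good_conj validC7 6 4 (g := 15022448) (by decide +kernel) (by decide +kernel)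
    ⟨6, by decide +kernel⟩ (by decide +kernel) c7_g6

/-- **the classification for the 7-cycle** -/
theorem c7_main {K : Subgroup (Perm (Fin 8))} (hK : K ≤ alternatingGroup (Fin 8))
    (hc : pc latC7.c ∈ K) (hcf : CoreFree K) : Good K := by
  obtain ⟨i, hi, rfl⟩ := okC7.main hK hc
  rw [lenC7] at hi
  interval_cases i
  · exact absurd hcf (c7_bad_lo 0 (by simp))
  · exact absurd hcf (c7_bad_lo 1 (by simp))
  · exact absurd hcf c7_bad2
  · exact absurd hcf c7_bad3
  · exact c7_g4
  · exact absurd hcf c7_bad5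
  · exact c7_g6
  · exact absurd hcf c7_bad7
  · exact Or.inr (Or.inr (Or.inr (c7_good8 hcf)))
  · exact absurd hcf c7_bad9
  · exact absurd hcf c7_bad10
  · exact c7_g11
  · exact c7_g12

end Cfsg.Agent.Lib.H27.A8L
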