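import Mathlib

/-!
# Subgroups of `A₈` containing a 5-cycle or a 7-cycle: computational definitions

Functions `Fin 8 → Fin 8` are coded as natural numbers with base-8 digits.
All functions are written with the kernel-accelerated `Nat` primitives and explicit `Nat.rec`.
-/

set_option autoImplicit false

namespace Cfsg.Agent.Lib.H27.A8L

/-- digit `i` of a coded function -/
def dg (p i : Nat) : Nat := Nat.mod (Nat.div p (Nat.pow 8 i)) 8

/-- code of `p ∘ q` -/
def cmpN (p q : Nat) : Nat :=
  Nat.add (dg p (dg q 0)) (Nat.mul 8 (Nat.add (dg p (dg q 1)) (Nat.mul 8 (Nat.add (dg p (dg q 2)) (Nat.mul 8 (Nat.add (dg p (dg q 3)) (Nat.mul 8 (Nat.add (dg p (dg q 4)) (Nat.mul 8 (Nat.add (dg p (dg q 5)) (Nat.mul 8 (Nat.add (dg p (dg q 6)) (Nat.mul 8 (dg p (dg q 7)))))))))))))))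

/-- code of the identity -/
def idN : Nat := 16434824

/-- candidate code of the inverse -/
def invN (p : Nat) : Nat :=
  Nat.add (Nat.mul 1 (Nat.pow 8 (dg p 1))) (Nat.add (Nat.mul 2 (Nat.pow 8 (dg p 2))) (Nat.add (Nat.mul 3 (Nat.pow 8 (dg p 3))) (Nat.add (Nat.mul 4 (Nat.pow 8 (dg p 4))) (Nat.add (Nat.mul 5 (Nat.pow 8 (dg p 5))) (Nat.add (Nat.mul 6 (Nat.pow 8 (dg p 6))) (Nat.mul 7 (Nat.pow 8 (dg p 7))))))))

/-- validity of a code: it is the code of a permutation -/
def vp (p : Nat) : Bool :=
  Nat.blt p 16777216 && (Nat.beq (cmpN p (invN p)) idN && (Nat.beq (cmpN (invN p) p) idN &&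
    Nat.blt (invN p) 16777216))

/-- word evaluation: the letters of `w` are its base-16 digits, `0` ends the word, the letter
`d + 1` stands for `G[d]`; the letters are multiplied on the right of `acc` -/
def evalL (G : List Nat) (fuel : Nat) : Nat → Nat → Nat :=
  Nat.rec (motive := fun _ => Nat → Nat → Nat) (fun _ acc => acc)
    (fun _ ih w acc => Nat.rec (motive := fun _ => Nat) acc
      (fun d _ => ih (Nat.div w 16) (cmpN acc (G.getD d idN))) (Nat.mod w 16)) fuel

/-- `1` if digit `j` is smaller than digit `i` -/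
def invB (p i j : Nat) : Nat := bif Nat.blt (dg p j) (dg p i) then 1 else 0

/-- number of inversions of a code -/
def parN (p : Nat) : Nat :=
  invB p 0 1 +
  (invB p 0 2 + invB p 1 2) +
  (invB p 0 3 + invB p 1 3 + invB p 2 3) +
  (invB p 0 4 + invB p 1 4 + invB p 2 4 + invB p 3 4) +
  (invB p 0 5 + invB p 1 5 + invB p 2 5 + invB p 3 5 + invB p 4 5) +
  (invB p 0 6 + invB p 1 6 + invB p 2 6 + invB p 3 6 + invB p 4 6 + invB p 5 6) +
  (invB p 0 7 + invB p 1 7 + invB p 2 7 + invB p 3 7 + invB p 4 7 + invB p 5 7 + invB p 6 7)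

/-- data of a lattice of overgroups of `⟨c⟩`: the code of `c`, the codes of `c, c², …, c⁶`,
and for every group of the lattice the codes of its generators other than `c` -/
structure LatD where
  c : Nat
  cpow : List Nat
  gens : List (List Nat)

/-- hinted check of a single code `z`: the hint contains the index `t` of a two-generator group
`⟨c, a⟩` of the lattice, a word for `a` in `c, z` and a word for `z` in `c, a` -/
def chkA (L : LatD) (z hint : Nat) : Bool :=
  bif Nat.beq (Nat.mod (parN z) 2) 1 then true else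
    (fun t w1 w2 =>
      List.rec (motive := fun _ => Bool) false
        (fun a tl _ => List.rec (motive := fun _ => Bool)
          (Nat.beq (evalL (L.cpow ++ [z]) 15 w1 idN) a && Nat.beq (evalL (L.cpow ++ [a]) 15 w2 idN) z)
          (fun _ _ _ => false) tl)
        (L.gens.getD t []))
      (Nat.mod hint 256) (Nat.mod (Nat.div hint 256) 1152921504606846976)
      (Nat.div hint 295147905179352825856)

def hintOf (tbl ix : Nat) : Nat := Nat.land (Nat.shiftRight tbl (Nat.mul 128 ix)) 340282366920938463463374607431768211455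

def allIdx (f : Nat → Nat → Bool) : List Nat → Nat → Bool
  | [], _ => true
  | x :: xs, k => f x k && allIdx f xs (Nat.succ k)

/-- enumeration of the arrangements of `rem` in positions `pos, pos+1, …` -/
def goE (chk : Nat → Nat → Bool) (tbl : Nat) : Nat → Nat → Nat → List Nat → Nat → Bool
  | 0, _, acc, _, ix => chk acc (hintOf tbl ix)
  | n+1, pos, acc, rem, ix =>
    allIdx (fun x k => goE chk tbl n (Nat.succ pos) (Nat.add acc (Nat.mul x (Nat.pow 8 pos)))
      (rem.erase x) (Nat.add (Nat.mul ix (Nat.succ n)) k)) rem 0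

/-- little-endian base-8 value -/
def lval : List Nat → Nat
  | [] => 0
  | d :: ds => d + 8 * lval ds

/-- the list of values `1, …, 7` -/
def r7 : List Nat := [1, 2, 3, 4, 5, 6, 7]

/-- check of one entry `(j, ws, w0)` of the join table at `(i, t)` -/
def chkJ (L : LatD) (i t : Nat) (e : Nat × List Nat × Nat) : Bool :=
  List.rec (motive := fun _ => Bool) true
    (fun a tl _ => List.rec (motive := fun _ => Bool)
      (Nat.ble i e.1 && Nat.blt e.1 L.gens.length &&
        (Nat.beq (e.2.1.length) ((L.gens.getD e.1 []).length) &&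
        (List.zipWith (fun w g => Nat.beq (evalL (L.cpow ++ L.gens.getD i [] ++ [a]) 15 w idN) g)
          e.2.1 (L.gens.getD e.1 [])).all id &&
        (bif Nat.beq e.1 i then Nat.beq (evalL (L.cpow ++ L.gens.getD i []) 15 e.2.2 idN) a
          else true)))
      (fun _ _ _ => true) tl)
    (L.gens.getD t [])

/-- check of the whole join table -/
def chkJT (L : LatD) (tab : List (Nat × List Nat × Nat)) : Bool :=
  (List.range L.gens.length).all fun i => (List.range L.gens.length).all fun t =>
    chkJ L i t (tab.getD (i * L.gens.length + t) (0, [], 0))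

/-- validity of the data -/
def validL (L : LatD) : Bool :=
  vp L.c && L.cpow.all vp && L.gens.all (fun l => l.all vp) &&
    Nat.beq L.cpow.length 6 &&
    Nat.beq (L.cpow.getD 0 0) L.c &&
    (List.range 5).all (fun k => Nat.beq (L.cpow.getD (k + 1) 0) (cmpN (L.cpow.getD k 0) L.c))

end Cfsg.Agent.Lib.H27.A8L
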