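import Cfsg.Agent.Lib.H27.A8Sound

/-!
# Subgroups of `A₈` containing a 5-cycle or a 7-cycle: parity, completeness of the enumeration,
soundness of the leaf check
-/

set_option autoImplicit false

namespace Cfsg.Agent.Lib.H27.A8L

open Equiv

/-! ### parity -/

/-- inversion indicator -/
def iv (σ : Perm (Fin 8)) (i j : Fin 8) : ℕ := if σ j < σ i then 1 else 0

theorem sign_eq_pow_sum (σ : Perm (Fin 8)) :
    Perm.sign σ = (-1 : ℤˣ) ^ (∑ j : Fin 8, ∑ i ∈ Finset.Iio j, iv σ i j) := by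
  rw [Equiv.Perm.sign_eq_prod_prod_Iio, ← Finset.prod_pow_eq_pow_sum]
  refine Finset.prod_congr rfl (fun j _ => ?_)
  rw [← Finset.prod_pow_eq_pow_sum]
  refine Finset.prod_congr rfl (fun i hi => ?_)
  have hij : i < j := Finset.mem_Iio.mp hi
  have hne : σ i ≠ σ j := fun h => (ne_of_lt hij) (σ.injective h)
  unfold iv
  by_cases h : σ i < σ j
  · rw [if_pos h, if_neg (not_lt.mpr h.le)]; simp
  · rw [if_neg h, if_pos (lt_of_le_of_ne (not_lt.mp h) (Ne.symm hne))]; simp

theorem invB_codeOf (σ : Perm (Fin 8)) (i j : Fin 8) : invB (codeOf σ) i j = iv σ i j := by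
  unfold invB iv
  rw [codes_codeOf σ i, codes_codeOf σ j]
  by_cases h : σ j < σ i
  · rw [if_pos h]
    have : Nat.blt ((σ j : Fin 8) : ℕ) ((σ i : Fin 8) : ℕ) = true := by
      rw [Nat.blt_eq]; exact h
    rw [this]; rfl
  · rw [if_neg h]
    have : Nat.blt ((σ j : Fin 8) : ℕ) ((σ i : Fin 8) : ℕ) = false := by
      rw [← Bool.not_eq_true, Nat.blt_eq]; exact h
    rw [this]; rfl

theorem sum_iv (σ : Perm (Fin 8)) :
    ∑ j : Fin 8, ∑ i ∈ Finset.Iio j, iv σ i j = parN (codeOf σ) := by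
  have e0 : Finset.Iio (0 : Fin 8) = ∅ := by decide
  have e1 : Finset.Iio (1 : Fin 8) = {0} := by decide
  have e2 : Finset.Iio (2 : Fin 8) = {0, 1} := by decide
  have e3 : Finset.Iio (3 : Fin 8) = {0, 1, 2} := by decide
  have e4 : Finset.Iio (4 : Fin 8) = {0, 1, 2, 3} := by decide
  have e5 : Finset.Iio (5 : Fin 8) = {0, 1, 2, 3, 4} := by decide
  have e6 : Finset.Iio (6 : Fin 8) = {0, 1, 2, 3, 4, 5} := by decide
  have e7 : Finset.Iio (7 : Fin 8) = {0, 1, 2, 3, 4, 5, 6} := by decide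
  rw [Fin.sum_univ_eight, e0, e1, e2, e3, e4, e5, e6, e7]
  unfold parN
  have h := invB_codeOf σ
  have h' : ∀ (i j : Fin 8) (a b : ℕ), (i : ℕ) = a → (j : ℕ) = b →
      invB (codeOf σ) a b = iv σ i j := by
    intro i j a b ha hb; subst ha; subst hb; exact h i j
  rw [h' 0 1 0 1 rfl rfl, h' 0 2 0 2 rfl rfl, h' 1 2 1 2 rfl rfl,
    h' 0 3 0 3 rfl rfl, h' 1 3 1 3 rfl rfl, h' 2 3 2 3 rfl rfl,
    h' 0 4 0 4 rfl rfl, h' 1 4 1 4 rfl rfl, h' 2 4 2 4 rfl rfl, h' 3 4 3 4 rfl rfl,
    h' 0 5 0 5 rfl rfl, h' 1 5 1 5 rfl rfl, h' 2 5 2 5 rfl rfl, h' 3 5 3 5 rfl rfl,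
    h' 4 5 4 5 rfl rfl,
    h' 0 6 0 6 rfl rfl, h' 1 6 1 6 rfl rfl, h' 2 6 2 6 rfl rfl, h' 3 6 3 6 rfl rfl,
    h' 4 6 4 6 rfl rfl, h' 5 6 5 6 rfl rfl,
    h' 0 7 0 7 rfl rfl, h' 1 7 1 7 rfl rfl, h' 2 7 2 7 rfl rfl, h' 3 7 3 7 rfl rfl,
    h' 4 7 4 7 rfl rfl, h' 5 7 5 7 rfl rfl, h' 6 7 6 7 rfl rfl]
  simp [Finset.sum_insert]
  ring

theorem sign_eq_pow (σ : Perm (Fin 8)) : Perm.sign σ = (-1 : ℤˣ) ^ (parN (codeOf σ)) := by
  rw [sign_eq_pow_sum, sum_iv]

theorem parN_even_of_sign {σ : Perm (Fin 8)} (h : Perm.sign σ = 1) :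
    Nat.beq (Nat.mod (parN (codeOf σ)) 2) 1 = false := by
  rw [sign_eq_pow] at h
  rcases Nat.even_or_odd (parN (codeOf σ)) with he | ho
  · have : parN (codeOf σ) % 2 = 0 := Nat.even_iff.mp he
    show Nat.beq (parN (codeOf σ) % 2) 1 = false
    rw [this]; rfl
  · rw [ho.neg_one_pow] at h
    exact absurd h (by decide)


/-! ### enumeration -/

theorem lval_append_singleton (l : List Nat) (x : Nat) :
    lval (l ++ [x]) = lval l + x * 8 ^ l.length := by
  induction l with
  | nil => simp [lval]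
  | cons d ds ih =>
    simp only [List.cons_append, lval, ih, List.length_cons, pow_succ]
    ring

theorem allIdx_spec (f : Nat → Nat → Bool) : ∀ (xs : List Nat) (k0 : Nat),
    allIdx f xs k0 = true → ∀ x ∈ xs, ∃ k, f x k = true := by
  intro xs
  induction xs with
  | nil => intro _ _ x hx; simp at hx
  | cons y ys ih =>
    intro k0 h x hx
    simp only [allIdx, Bool.and_eq_true] at h
    rcases List.mem_cons.mp hx with rfl | hx
    · exact ⟨k0, h.1⟩
    · exact ih _ h.2 x hx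

theorem goE_zero (chk : Nat → Nat → Bool) (tbl pos acc : Nat) (rem : List Nat) (ix : Nat) :
    goE chk tbl 0 pos acc rem ix = chk acc (hintOf tbl ix) := by
  simp [goE]

theorem goE_succ (chk : Nat → Nat → Bool) (tbl n pos acc : Nat) (rem : List Nat) (ix : Nat) :
    goE chk tbl (n + 1) pos acc rem ix =
      allIdx (fun x k => goE chk tbl n (Nat.succ pos) (Nat.add acc (Nat.mul x (Nat.pow 8 pos)))
        (rem.erase x) (Nat.add (Nat.mul ix (Nat.succ n)) k)) rem 0 := by
  simp [goE]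

theorem goE_complete (chk : Nat → Nat → Bool) (tbl : Nat) :
    ∀ (n : Nat) (l rem : List Nat) (ix : Nat), rem.length = n →
    goE chk tbl n l.length (lval l) rem ix = true →
    ∀ ℓ : List Nat, ℓ.Perm rem → ∃ hint, chk (lval (l ++ ℓ)) hint = true := by
  intro n
  induction n with
  | zero =>
    intro l rem ix hlen h ℓ hℓ
    have hrem : rem = [] := List.length_eq_zero_iff.mp hlen
    subst hrem
    have : ℓ = [] := hℓ.eq_nil
    subst this
    rw [goE_zero] at h
    exact ⟨_, by simpa using h⟩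
  | succ n ih =>
    intro l rem ix hlen h ℓ hℓ
    rw [goE_succ] at h
    have hℓlen : ℓ.length = n + 1 := by rw [hℓ.length_eq, hlen]
    obtain ⟨x, ℓ', rfl⟩ : ∃ x ℓ', ℓ = x :: ℓ' := by
      cases ℓ with
      | nil => simp at hℓlen
      | cons x ℓ' => exact ⟨x, ℓ', rfl⟩
    have hx : x ∈ rem := hℓ.subset (List.mem_cons_self)
    obtain ⟨k, hk⟩ := allIdx_spec _ _ _ h x hx
    have e1 : Nat.succ l.length = (l ++ [x]).length := by simp
    have e2 : Nat.add (lval l) (Nat.mul x (Nat.pow 8 l.length)) = lval (l ++ [x]) := by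
      rw [lval_append_singleton]; rfl
    rw [e1, e2] at hk
    have hperm : ℓ'.Perm (rem.erase x) := by
      have := hℓ.erase x
      rwa [List.erase_cons_head] at this
    have hlen' : (rem.erase x).length = n := by
      rw [List.length_erase_of_mem hx, hlen]; rfl
    obtain ⟨hint, hh⟩ := ih (l ++ [x]) (rem.erase x) _ hlen' hk ℓ' hperm
    refine ⟨hint, ?_⟩
    rwa [List.append_assoc, List.singleton_append] at hh

theorem perm_tail (σ : Perm (Fin 8)) (h0 : σ 0 = 0) :
    List.Perm [((σ 1 : Fin 8) : ℕ), σ 2, σ 3, σ 4, σ 5, σ 6, σ 7] r7 := by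
  have hR : ∀ x : Fin 8, x ∈ ([1, 2, 3, 4, 5, 6, 7] : List (Fin 8)) ↔ x ≠ 0 := by
    decide
  have hperm : List.Perm (([1, 2, 3, 4, 5, 6, 7] : List (Fin 8)).map σ)
      ([1, 2, 3, 4, 5, 6, 7] : List (Fin 8)) := by
    rw [List.perm_ext_iff_of_nodup ((by decide : ([1, 2, 3, 4, 5, 6, 7] :
      List (Fin 8)).Nodup).map σ.injective) (by decide)]
    intro x
    rw [List.mem_map, hR]
    constructor
    · rintro ⟨i, hi, rfl⟩
      rw [hR] at hi
      intro h; rw [← h0] at h; exact hi (σ.injective h)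
    · intro hx0
      refine ⟨σ.symm x, ?_, by simp⟩
      rw [hR]
      intro h
      apply hx0
      rw [← h0, ← h, Equiv.apply_symm_apply]
  have := hperm.map (fun x : Fin 8 => (x : ℕ))
  simpa [r7] using this

/-- the hypothesis that all 7 chunks have been checked -/
def AllChunks (chk : Nat → Nat → Bool) (tblOf : Nat → Nat) : Prop :=
  ∀ a ∈ r7, goE chk (tblOf a) 6 2 (lval [0, a]) (r7.erase a) 0 = true

theorem brute {chk : Nat → Nat → Bool} {tblOf : Nat → Nat} (hall : AllChunks chk tblOf)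
    (σ : Perm (Fin 8)) (h0 : σ 0 = 0) : ∃ hint, chk (codeOf σ) hint = true := by
  have hperm := perm_tail σ h0
  have ha : ((σ 1 : Fin 8) : ℕ) ∈ r7 := hperm.subset (by simp)
  have hperm1 := hperm.erase ((σ 1 : Fin 8) : ℕ)
  rw [List.erase_cons_head] at hperm1
  have hlen : (r7.erase ((σ 1 : Fin 8) : ℕ)).length = 6 := by
    rw [← hperm1.length_eq]; rfl
  have hgo := hall _ ha
  obtain ⟨hint, hh⟩ := goE_complete chk _ 6 [0, ((σ 1 : Fin 8) : ℕ)] _ 0 hlen hgo _ hperm1
  have hcode : lval ([0, ((σ 1 : Fin 8) : ℕ)] ++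
      [((σ 2 : Fin 8) : ℕ), σ 3, σ 4, σ 5, σ 6, σ 7]) = codeOf σ := by
    unfold codeOf hv
    rw [h0]
    simp [lval]
  rw [hcode] at hh
  exact ⟨hint, hh⟩

/-! ### validity of the data -/

theorem validL_spec {L : LatD} (h : validL L = true) :
    vp L.c = true ∧ (∀ g ∈ L.cpow, vp g = true) ∧ (∀ l ∈ L.gens, ∀ g ∈ l, vp g = true) ∧
      L.cpow.length = 6 ∧ L.cpow.getD 0 0 = L.c ∧
      ∀ k < 5, L.cpow.getD (k + 1) 0 = cmpN (L.cpow.getD k 0) L.c := by
  unfold validL at h
  simp only [Bool.and_eq_true, List.all_eq_true, List.mem_range] at h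
  obtain ⟨⟨⟨⟨⟨h1, h2⟩, h3⟩, h4⟩, h5⟩, h6⟩ := h
  exact ⟨h1, h2, h3, Nat.eq_of_beq_eq_true h4, Nat.eq_of_beq_eq_true h5,
    fun k hk => Nat.eq_of_beq_eq_true (h6 k hk)⟩

theorem inK_cpow {L : LatD} (h : validL L = true) {K : Subgroup (Perm (Fin 8))}
    (hc : pc L.c ∈ K) : ∀ g ∈ L.cpow, InK K g := by
  obtain ⟨h1, _, _, h4, h5, h6⟩ := validL_spec h
  have hcK : InK K L.c := InK.of_pc h1 hc
  have key : ∀ k, k < 6 → InK K (L.cpow.getD k 0) := by
    intro k
    induction k with
    | zero => intro _; rw [h5]; exact hcK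
    | succ k ih =>
      intro hk
      rw [h6 k (by omega)]
      exact (ih (by omega)).cmpN hcK
  intro g hg
  obtain ⟨k, hk, rfl⟩ := List.getElem_of_mem hg
  have := key k (by omega)
  rwa [List.getD_eq_getElem _ _ hk] at this

/-! ### soundness of the leaf check -/

theorem chkA_sound {L : LatD} (hv : validL L = true) (σ : Perm (Fin 8)) (hint : Nat)
    (h : chkA L (codeOf σ) hint = true) (hs : Perm.sign σ = 1) :
    ∃ t a, L.gens.getD t [] = [a] ∧
      pc a ∈ Subgroup.closure ({pc L.c, σ} : Set (Perm (Fin 8))) ∧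
      σ ∈ Subgroup.closure ({pc L.c, pc a} : Set (Perm (Fin 8))) := by
  unfold chkA at h
  rw [parN_even_of_sign hs] at h
  simp only [cond_false] at h
  refine ⟨Nat.mod hint 256, ?_⟩
  rcases hg : L.gens.getD (Nat.mod hint 256) [] with _ | ⟨a, tl⟩
  · rw [hg] at h; exact absurd h (by simp)
  · rcases tl with _ | ⟨b, tl'⟩
    · rw [hg] at h
      simp only [Bool.and_eq_true] at h
      obtain ⟨h1, h2⟩ := h
      have h1 := Nat.eq_of_beq_eq_true h1
      have h2 := Nat.eq_of_beq_eq_true h2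
      obtain ⟨_, _, hvg, _⟩ := validL_spec hv
      have hva : vp a = true := by
        have hmem : [a] ∈ L.gens := by
          rw [← hg, List.getD_eq_getElem?_getD]
          rcases hh : L.gens[Nat.mod hint 256]? with _ | l
          · rw [List.getD_eq_getElem?_getD, hh] at hg; simp at hg
          · simp only [Option.getD_some]; exact List.mem_of_getElem? hh
        exact hvg _ hmem a (by simp)
      refine ⟨a, rfl, ?_, ?_⟩
      · have hcK : pc L.c ∈ Subgroup.closure ({pc L.c, σ} : Set (Perm (Fin 8))) :=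
          Subgroup.subset_closure (by simp)
        have hσK : σ ∈ Subgroup.closure ({pc L.c, σ} : Set (Perm (Fin 8))) :=
          Subgroup.subset_closure (by simp)
        have hG : ∀ g ∈ L.cpow ++ [codeOf σ],
            InK (Subgroup.closure ({pc L.c, σ} : Set (Perm (Fin 8)))) g := by
          intro g hg
          rcases List.mem_append.mp hg with hg | hg
          · exact inK_cpow hv hcK g hg
          · rw [List.mem_singleton] at hg; subst hg; exact InK.codeOf hσK
        have := InK.evalL hG 15 ((hint.div 256).mod 1152921504606846976) idN (InK.idN _)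
        rw [h1] at this
        exact this.pc_mem hva
      · have hcK : pc L.c ∈ Subgroup.closure ({pc L.c, pc a} : Set (Perm (Fin 8))) :=
          Subgroup.subset_closure (by simp)
        have haK : pc a ∈ Subgroup.closure ({pc L.c, pc a} : Set (Perm (Fin 8))) :=
          Subgroup.subset_closure (by simp)
        have hG : ∀ g ∈ L.cpow ++ [a],
            InK (Subgroup.closure ({pc L.c, pc a} : Set (Perm (Fin 8)))) g := by
          intro g hg
          rcases List.mem_append.mp hg with hg | hg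
          · exact inK_cpow hv hcK g hg
          · rw [List.mem_singleton] at hg; subst hg; exact InK.of_pc hva haK
        have := InK.evalL hG 15 (hint.div 295147905179352825856) idN (InK.idN _)
        rw [h2] at this
        exact this.mem
    · rw [hg] at h; exact absurd h (by simp)

end Cfsg.Agent.Lib.H27.A8L
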