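import Cfsg.Agent.Lib.H27.A8Enum

/-!
# Subgroups of `A₈`: enumeration of the permutations fixing `6` and `7`, centralizers
-/

set_option autoImplicit false

namespace Cfsg.Agent.Lib.H27.A8L

open Equiv

theorem goE_complete' (chk : Nat → Nat → Bool) (tbl C : Nat) :
    ∀ (n : Nat) (l rem : List Nat) (ix : Nat), rem.length = n →
    goE chk tbl n l.length (lval l + C) rem ix = true →
    ∀ ℓ : List Nat, ℓ.Perm rem → ∃ hint, chk (lval (l ++ ℓ) + C) hint = true := by
  intro n
  induction n with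
  | zero =>
    intro l rem ix hlen h ℓ hℓ
    have hrem : rem = [] := List.length_eq_zero_iff.mp hlen
    subst hrem
    have : ℓ = [] := hℓ.eq_nil
    subst this
    rw [goE_zero] at h
    exact ⟨_, by simpa using h⟩
  | succ n ih =>
    intro l rem ix hlen h ℓ hℓ
    rw [goE_succ] at h
    have hℓlen : ℓ.length = n + 1 := by rw [hℓ.length_eq, hlen]
    obtain ⟨x, ℓ', rfl⟩ : ∃ x ℓ', ℓ = x :: ℓ' := by
      cases ℓ with
      | nil => simp at hℓlen
      | cons x ℓ' => exact ⟨x, ℓ', rfl⟩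
    have hx : x ∈ rem := hℓ.subset (List.mem_cons_self)
    obtain ⟨k, hk⟩ := allIdx_spec _ _ _ h x hx
    have e1 : Nat.succ l.length = (l ++ [x]).length := by simp
    have e2 : Nat.add (lval l + C) (Nat.mul x (Nat.pow 8 l.length)) = lval (l ++ [x]) + C := by
      rw [lval_append_singleton]
      show lval l + C + x * 8 ^ l.length = lval l + x * 8 ^ l.length + C
      ring
    rw [e1, e2] at hk
    have hperm : ℓ'.Perm (rem.erase x) := by
      have := hℓ.erase x
      rwa [List.erase_cons_head] at this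
    have hlen' : (rem.erase x).length = n := by
      rw [List.length_erase_of_mem hx, hlen]; rfl
    obtain ⟨hint, hh⟩ := ih (l ++ [x]) (rem.erase x) _ hlen' hk ℓ' hperm
    refine ⟨hint, ?_⟩
    rwa [List.append_assoc, List.singleton_append] at hh

theorem perm_tail6 (σ : Perm (Fin 8)) (h6 : σ 6 = 6) (h7 : σ 7 = 7) :
    List.Perm [((σ 0 : Fin 8) : ℕ), σ 1, σ 2, σ 3, σ 4, σ 5] [0, 1, 2, 3, 4, 5] := by
  have hR : ∀ x : Fin 8, x ∈ ([0, 1, 2, 3, 4, 5] : List (Fin 8)) ↔ (x ≠ 6 ∧ x ≠ 7) := by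
    decide
  have hperm : List.Perm (([0, 1, 2, 3, 4, 5] : List (Fin 8)).map σ)
      ([0, 1, 2, 3, 4, 5] : List (Fin 8)) := by
    rw [List.perm_ext_iff_of_nodup ((by decide : ([0, 1, 2, 3, 4, 5] :
      List (Fin 8)).Nodup).map σ.injective) (by decide)]
    intro x
    rw [List.mem_map, hR]
    constructor
    · rintro ⟨i, hi, rfl⟩
      rw [hR] at hi
      constructor
      · intro h; rw [← h6] at h; exact hi.1 (σ.injective h)
      · intro h; rw [← h7] at h; exact hi.2 (σ.injective h)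
    · rintro ⟨hx6, hx7⟩
      refine ⟨σ.symm x, ?_, by simp⟩
      rw [hR]
      constructor
      · intro h
        apply hx6
        rw [← h6, ← h, Equiv.apply_symm_apply]
      · intro h
        apply hx7
        rw [← h7, ← h, Equiv.apply_symm_apply]
  have := hperm.map (fun x : Fin 8 => (x : ℕ))
  simpa using this

/-- the code of the part `6 ↦ 6, 7 ↦ 7` -/
def c67 : Nat := 16252928

theorem brute6 {chk : Nat → Nat → Bool} {tbl : Nat}
    (hall : goE chk tbl 6 0 (0 + c67) [0, 1, 2, 3, 4, 5] 0 = true)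
    (σ : Perm (Fin 8)) (h6 : σ 6 = 6) (h7 : σ 7 = 7) : ∃ hint, chk (codeOf σ) hint = true := by
  have hperm := perm_tail6 σ h6 h7
  obtain ⟨hint, hh⟩ := goE_complete' chk tbl c67 6 [] _ 0 rfl hall _ hperm
  have hcode : lval ([] ++ [((σ 0 : Fin 8) : ℕ), σ 1, σ 2, σ 3, σ 4, σ 5]) + c67 = codeOf σ := by
    unfold codeOf hv c67
    rw [h6, h7]
    simp [lval]
    ring
  rw [hcode] at hh
  exact ⟨hint, hh⟩

/-- check: a code commuting with all the codes of `S` is the code of the identity -/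
def chkC (S : List Nat) (z _hint : Nat) : Bool :=
  !(S.all fun s => Nat.beq (cmpN z s) (cmpN s z)) || Nat.beq z idN

/-- the centralizer of `S` in the stabilizer of `6` and `7` is trivial -/
theorem cent6 {S : List Nat} (hSv : ∀ s ∈ S, vp s = true)
    (hall : goE (chkC S) 0 6 0 (0 + c67) [0, 1, 2, 3, 4, 5] 0 = true)
    (σ : Perm (Fin 8)) (h6 : σ 6 = 6) (h7 : σ 7 = 7)
    (hcomm : ∀ s ∈ S, σ * pc s = pc s * σ) : σ = 1 := by
  obtain ⟨hint, hh⟩ := brute6 hall σ h6 h7
  unfold chkC at hh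
  rw [Bool.or_eq_true] at hh
  rcases hh with hh | hh
  · exfalso
    rw [Bool.not_eq_true', ← Bool.not_eq_true, List.all_eq_true] at hh
    apply hh
    intro s hs
    have := congrArg codeOf (hcomm s hs)
    rw [codeOf_mul, codeOf_mul, codeOf_pc (hSv s hs)] at this
    rw [this]
    exact Nat.beq_refl _
  · apply codeOf_injective
    rw [Nat.eq_of_beq_eq_true hh, codeOf_one]

end Cfsg.Agent.Lib.H27.A8L
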