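import Cfsg.Agent.Lib.H27.A8Enum

/-!
# Subgroups of `A₈` containing a 5-cycle or a 7-cycle: the lattice theorem

Given the kernel-checked certificates, every subgroup of `A₈` containing `c` is one of the
groups of the lattice.
-/

set_option autoImplicit false

namespace Cfsg.Agent.Lib.H27.A8L

open Equiv

/-- the `i`-th group of the lattice -/
def LatD.K (L : LatD) (i : Nat) : Subgroup (Perm (Fin 8)) :=
  Subgroup.closure (insert (pc L.c) {σ | ∃ g ∈ L.gens.getD i [], σ = pc g})

theorem LatD.c_mem_K (L : LatD) (i : Nat) : pc L.c ∈ L.K i :=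
  Subgroup.subset_closure (Set.mem_insert _ _)

theorem LatD.gen_mem_K (L : LatD) (i : Nat) {g : Nat} (hg : g ∈ L.gens.getD i []) :
    pc g ∈ L.K i :=
  Subgroup.subset_closure (Set.mem_insert_of_mem _ ⟨g, hg, rfl⟩)

theorem LatD.K_le (L : LatD) (i : Nat) {K : Subgroup (Perm (Fin 8))} (hc : pc L.c ∈ K)
    (hg : ∀ g ∈ L.gens.getD i [], pc g ∈ K) : L.K i ≤ K := by
  unfold LatD.K
  rw [Subgroup.closure_le]
  intro σ hσ
  rcases hσ with rfl | ⟨g, hg', rfl⟩
  · exact hc
  · exact hg g hg'

theorem mem_gens_of_getD {L : LatD} {i : Nat} {l : List Nat} (h : L.gens.getD i [] = l)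
    (hl : l ≠ []) : l ∈ L.gens ∧ i < L.gens.length := by
  rw [List.getD_eq_getElem?_getD] at h
  rcases hh : L.gens[i]? with _ | l'
  · rw [hh] at h; simp at h; exact absurd h hl
  · rw [hh] at h
    simp only [Option.getD_some] at h
    subst h
    exact ⟨List.mem_of_getElem? hh, (List.getElem?_eq_some_iff.mp hh).1⟩

theorem vp_of_getD {L : LatD} (hv : validL L = true) {i g : Nat} (hg : g ∈ L.gens.getD i []) :
    vp g = true := by
  obtain ⟨_, _, hvg, _⟩ := validL_spec hv
  have hne : L.gens.getD i [] ≠ [] := List.ne_nil_of_mem hg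
  exact hvg _ (mem_gens_of_getD rfl hne).1 g hg

/-- soundness of one entry of the join table -/
theorem chkJ_sound {L : LatD} (hv : validL L = true) {i t a : Nat} (ht : L.gens.getD t [] = [a])
    {e : Nat × List Nat × Nat} (h : chkJ L i t e = true) :
    i ≤ e.1 ∧ e.1 < L.gens.length ∧
      (∀ K : Subgroup (Perm (Fin 8)), pc L.c ∈ K → (∀ g ∈ L.gens.getD i [], pc g ∈ K) → pc a ∈ K →
        ∀ g ∈ L.gens.getD e.1 [], pc g ∈ K) ∧
      (e.1 = i → pc a ∈ L.K i) := by
  unfold chkJ at h
  rw [ht] at h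
  simp only [Bool.and_eq_true, List.all_eq_true] at h
  obtain ⟨⟨h1, h2⟩, ⟨h3, h4⟩, h5⟩ := h
  have h1 : i ≤ e.1 := Nat.le_of_ble_eq_true h1
  have h2 : e.1 < L.gens.length := Nat.le_of_ble_eq_true h2
  have h3 : e.2.1.length = (L.gens.getD e.1 []).length := Nat.eq_of_beq_eq_true h3
  have hva : vp a = true := vp_of_getD hv (i := t) (by rw [ht]; simp)
  refine ⟨h1, h2, ?_, ?_⟩
  · intro K hc hgi haK g hg
    obtain ⟨k, hk, rfl⟩ := List.getElem_of_mem hg
    have hk' : k < e.2.1.length := by rw [h3]; exact hk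
    have hz : k < (List.zipWith (fun w g => Nat.beq (evalL (L.cpow ++ L.gens.getD i [] ++ [a]) 15 w
        idN) g) e.2.1 (L.gens.getD e.1 [])).length := by
      rw [List.length_zipWith]; omega
    have := h4 _ (List.getElem_mem hz)
    rw [List.getElem_zipWith] at this
    have hw := Nat.eq_of_beq_eq_true this
    have hG : ∀ g ∈ L.cpow ++ L.gens.getD i [] ++ [a], InK K g := by
      intro g hg
      rcases List.mem_append.mp hg with hg | hg
      · rcases List.mem_append.mp hg with hg | hg
        · exact inK_cpow hv hc g hg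
        · exact InK.of_pc (vp_of_getD hv hg) (hgi g hg)
      · rw [List.mem_singleton] at hg; subst hg; exact InK.of_pc hva haK
    have hin := InK.evalL hG 15 (e.2.1[k]) idN (InK.idN _)
    rw [hw] at hin
    exact hin.pc_mem (vp_of_getD hv (List.getElem_mem hk))
  · intro hji
    have hb : Nat.beq e.1 i = true := by rw [hji]; exact Nat.beq_refl i
    rw [hb] at h5
    simp only [cond_true] at h5
    have hw := Nat.eq_of_beq_eq_true h5
    have hG : ∀ g ∈ L.cpow ++ L.gens.getD i [], InK (L.K i) g := by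
      intro g hg
      rcases List.mem_append.mp hg with hg | hg
      · exact inK_cpow hv (L.c_mem_K i) g hg
      · exact InK.of_pc (vp_of_getD hv hg) (L.gen_mem_K i hg)
    have hin := InK.evalL hG 15 e.2.2 idN (InK.idN _)
    rw [hw] at hin
    exact hin.pc_mem hva

theorem chkJT_spec {L : LatD} {tab : List (Nat × List Nat × Nat)} (h : chkJT L tab = true)
    {i t : Nat} (hi : i < L.gens.length) (ht : t < L.gens.length) :
    chkJ L i t (tab.getD (i * L.gens.length + t) (0, [], 0)) = true := by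
  unfold chkJT at h
  simp only [List.all_eq_true, List.mem_range] at h
  exact h i hi t ht

/-- the hypotheses on a lattice -/
structure LatD.OK (L : LatD) : Prop where
  valid : validL L = true
  chunks : ∃ tblOf, AllChunks (chkA L) tblOf
  joins : ∃ tab, chkJT L tab = true
  norm : ∀ y : Perm (Fin 8), ∃ a b : ℕ, ((pc L.c) ^ a * y * (pc L.c) ^ b) 0 = 0
  sign : Perm.sign (pc L.c) = 1
  zero : L.gens.getD 0 [] = [idN]

/-- every even `z` fixing `0`: `⟨c, z⟩` is a two-generator group of the lattice -/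
theorem LatD.OK.alpha {L : LatD} (h : L.OK) (σ : Perm (Fin 8)) (h0 : σ 0 = 0)
    (hs : Perm.sign σ = 1) :
    ∃ t a, L.gens.getD t [] = [a] ∧
      pc a ∈ Subgroup.closure ({pc L.c, σ} : Set (Perm (Fin 8))) ∧
      σ ∈ Subgroup.closure ({pc L.c, pc a} : Set (Perm (Fin 8))) := by
  obtain ⟨tblOf, hall⟩ := h.chunks
  obtain ⟨hint, hh⟩ := brute hall σ h0
  exact chkA_sound h.valid σ hint hh hs

/-- every even `y`: there is a two-generator group `⟨c, a⟩` of the lattice with
`a ∈ ⟨c, y⟩` and `y ∈ ⟨c, a⟩` -/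
theorem LatD.OK.alpha' {L : LatD} (h : L.OK) (y : Perm (Fin 8)) (hs : Perm.sign y = 1) :
    ∃ t a, L.gens.getD t [] = [a] ∧
      pc a ∈ Subgroup.closure ({pc L.c, y} : Set (Perm (Fin 8))) ∧
      y ∈ Subgroup.closure ({pc L.c, pc a} : Set (Perm (Fin 8))) := by
  obtain ⟨n1, n2, hz0⟩ := h.norm y
  have hzs : Perm.sign ((pc L.c) ^ n1 * y * (pc L.c) ^ n2) = 1 := by
    rw [map_mul, map_mul, map_pow, map_pow, h.sign, hs]; simp
  obtain ⟨t, a, hta, ha, hz⟩ := h.alpha _ hz0 hzs
  refine ⟨t, a, hta, ?_, ?_⟩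
  · have hle : Subgroup.closure ({pc L.c, (pc L.c) ^ n1 * y * (pc L.c) ^ n2} :
        Set (Perm (Fin 8))) ≤ Subgroup.closure ({pc L.c, y} : Set (Perm (Fin 8))) := by
      rw [Subgroup.closure_le]
      have hc : pc L.c ∈ Subgroup.closure ({pc L.c, y} : Set (Perm (Fin 8))) :=
        Subgroup.subset_closure (by simp)
      have hy : y ∈ Subgroup.closure ({pc L.c, y} : Set (Perm (Fin 8))) :=
        Subgroup.subset_closure (by simp)
      intro x hx
      rcases hx with rfl | rfl
      · exact hc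
      · exact Subgroup.mul_mem _ (Subgroup.mul_mem _ (Subgroup.pow_mem _ hc _) hy)
          (Subgroup.pow_mem _ hc _)
    exact hle ha
  · have hc : pc L.c ∈ Subgroup.closure ({pc L.c, pc a} : Set (Perm (Fin 8))) :=
      Subgroup.subset_closure (by simp)
    have : y = ((pc L.c) ^ n1)⁻¹ * ((pc L.c) ^ n1 * y * (pc L.c) ^ n2) * ((pc L.c) ^ n2)⁻¹ := by
      group
    rw [this]
    exact Subgroup.mul_mem _ (Subgroup.mul_mem _ (Subgroup.inv_mem _ (Subgroup.pow_mem _ hc _)) hz)
      (Subgroup.inv_mem _ (Subgroup.pow_mem _ hc _))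

theorem LatD.OK.step {L : LatD} (h : L.OK) {K : Subgroup (Perm (Fin 8))}
    (hK : K ≤ alternatingGroup (Fin 8)) (hc : pc L.c ∈ K) {i : Nat} (hi : i < L.gens.length)
    (hKi : L.K i ≤ K) {y : Perm (Fin 8)} (hy : y ∈ K) (hyi : y ∉ L.K i) :
    ∃ j, i < j ∧ j < L.gens.length ∧ L.K j ≤ K := by
  obtain ⟨t, a, hta, ha, hya⟩ := h.alpha' y (Perm.mem_alternatingGroup.mp (hK hy))
  have htlt : t < L.gens.length := (mem_gens_of_getD hta (by simp)).2
  obtain ⟨tab, htab⟩ := h.joins
  have hJ := chkJT_spec htab hi htlt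
  obtain ⟨h1, h2, h3, h4⟩ := chkJ_sound h.valid hta hJ
  have haK : pc a ∈ K := by
    have hle : Subgroup.closure ({pc L.c, y} : Set (Perm (Fin 8))) ≤ K := by
      rw [Subgroup.closure_le]
      intro x hx
      rcases hx with rfl | rfl
      · exact hc
      · exact hy
    exact hle ha
  refine ⟨_, ?_, h2, L.K_le _ hc (h3 K hc (fun g hg => hKi (L.gen_mem_K i hg)) haK)⟩
  rcases Nat.lt_or_ge i (tab.getD (i * L.gens.length + t) (0, [], 0)).1 with hlt | hge
  · exact hlt
  · exfalso
    apply hyi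
    have haKi := h4 (le_antisymm hge h1)
    have hle : Subgroup.closure ({pc L.c, pc a} : Set (Perm (Fin 8))) ≤ L.K i := by
      rw [Subgroup.closure_le]
      intro x hx
      rcases hx with rfl | rfl
      · exact L.c_mem_K i
      · exact haKi
    exact hle hya

/-- **the lattice theorem** -/
theorem LatD.OK.main {L : LatD} (h : L.OK) {K : Subgroup (Perm (Fin 8))}
    (hK : K ≤ alternatingGroup (Fin 8)) (hc : pc L.c ∈ K) :
    ∃ i < L.gens.length, K = L.K i := by
  have key : ∀ d i, L.gens.length - i = d → i < L.gens.length → L.K i ≤ K →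
      ∃ i' < L.gens.length, K = L.K i' := by
    intro d
    induction d using Nat.strong_induction_on with
    | _ d ih =>
      intro i hd hi hKi
      by_cases hle : K ≤ L.K i
      · exact ⟨i, hi, le_antisymm hle hKi⟩
      · obtain ⟨y, hy, hyi⟩ := SetLike.not_le_iff_exists.mp hle
        obtain ⟨j, hij, hj, hKj⟩ := h.step hK hc hi hKi hy hyi
        exact ih (L.gens.length - j) (by omega) j rfl hj hKj
  have h0 : 0 < L.gens.length := (mem_gens_of_getD h.zero (by simp)).2
  refine key _ 0 rfl h0 (L.K_le 0 hc ?_)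
  intro g hg
  rw [h.zero, List.mem_singleton] at hg
  subst hg
  rw [pc_idN]
  exact K.one_mem

/-- identification of a subgroup of `A₈` containing `c` with a group of the lattice -/
theorem LatD.OK.identify {L : LatD} (h : L.OK) {N : Subgroup (Perm (Fin 8))}
    (hN : N ≤ alternatingGroup (Fin 8)) (hc : pc L.c ∈ N) (i : Nat)
    (hgi : ∀ g ∈ L.gens.getD i [], pc g ∈ N)
    (hall : ∀ t a, L.gens.getD t [] = [a] → pc a ∈ N → pc a ∈ L.K i) : N = L.K i := by
  apply le_antisymm
  · intro y hy
    obtain ⟨t, a, hta, ha, hya⟩ := h.alpha' y (Perm.mem_alternatingGroup.mp (hN hy))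
    have haN : pc a ∈ N := by
      have hle : Subgroup.closure ({pc L.c, y} : Set (Perm (Fin 8))) ≤ N := by
        rw [Subgroup.closure_le]
        intro x hx
        rcases hx with rfl | rfl
        · exact hc
        · exact hy
      exact hle ha
    have hle : Subgroup.closure ({pc L.c, pc a} : Set (Perm (Fin 8))) ≤ L.K i := by
      rw [Subgroup.closure_le]
      intro x hx
      rcases hx with rfl | rfl
      · exact L.c_mem_K i
      · exact hall t a hta haN
    exact hle hya
  · exact L.K_le i hc hgi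

end Cfsg.Agent.Lib.H27.A8L
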