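import Cfsg.Agent.Lib.H27.A8C5
import Cfsg.Agent.Lib.H27.A8C7
import Cfsg.Agent.Lib.H23.BurnsidePQ
import Cfsg.Agent.Lib.H15.A8Embed

/-!
# Subgroups of `GL₄(2) ≅ A₈` with trivial `O₂` and trivial `O`

A nontrivial subgroup of `A₈` (or of `GL₄(2)`) without nontrivial normal 2-subgroups and without
nontrivial normal subgroups of odd order is isomorphic to `A₅, …, A₈`, `S₅`, `S₆` or `GL₃(2)`.
-/

set_option autoImplicit false

namespace Cfsg.Agent.Lib.H27.A8L

open Equiv

/-! ### solvable groups have nontrivial normal `p`-subgroups -/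

theorem exists_normal_pgroup (G : Type*) [Group G] [Finite G] [Nontrivial G]
    (hs : Group.IsSolvable G) :
    ∃ p : ℕ, p.Prime ∧ ∃ N : Subgroup G, N.Normal ∧ IsPGroup p N ∧ N ≠ ⊥ := by
  classical
  obtain ⟨n, hn⟩ := hs.solvable
  have hex : ∃ n, derivedSeries G n = ⊥ := ⟨n, hn⟩
  have hn0 : derivedSeries G (Nat.find hex) = ⊥ := Nat.find_spec hex
  have hpos : Nat.find hex ≠ 0 := by
    intro h0
    rw [h0, derivedSeries_zero] at hn0
    exact top_ne_bot hn0
  obtain ⟨k, hk⟩ := Nat.exists_eq_succ_of_ne_zero hpos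
  have hA : derivedSeries G k ≠ ⊥ := Nat.find_min hex (by omega : k < Nat.find hex)
  have hAn : (derivedSeries G k).Normal := derivedSeries_normal G k
  have hcomm : ∀ a ∈ derivedSeries G k, ∀ b ∈ derivedSeries G k, a * b = b * a := by
    have h1 : ⁅derivedSeries G k, derivedSeries G k⁆ = ⊥ := by
      rw [← derivedSeries_succ, ← Nat.succ_eq_add_one, ← hk]; exact hn0
    rw [Subgroup.commutator_eq_bot_iff_le_centralizer] at h1
    intro a ha b hb
    exact ((Subgroup.mem_centralizer_iff.mp (h1 ha)) b hb).symm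
  have hcard : Nat.card (derivedSeries G k) ≠ 1 := by
    rw [Ne, Subgroup.card_eq_one]; exact hA
  obtain ⟨p, hp, hdvd⟩ := Nat.exists_prime_and_dvd hcard
  have : Fact p.Prime := ⟨hp⟩
  obtain ⟨x, hx⟩ := exists_prime_orderOf_dvd_card' p hdvd
  let T : Subgroup G :=
    { carrier := {y | y ∈ derivedSeries G k ∧ y ^ p = 1}
      mul_mem' := by
        rintro a b ⟨ha, ha'⟩ ⟨hb, hb'⟩
        refine ⟨Subgroup.mul_mem _ ha hb, ?_⟩
        have hc : Commute a b := hcomm a ha b hb
        rw [hc.mul_pow, ha', hb', one_mul]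
      one_mem' := ⟨Subgroup.one_mem _, one_pow _⟩
      inv_mem' := by
        rintro a ⟨ha, ha'⟩
        exact ⟨Subgroup.inv_mem _ ha, by rw [inv_pow, ha', inv_one]⟩ }
  refine ⟨p, hp, T, ⟨?_⟩, ?_, ?_⟩
  · rintro a ⟨ha, ha'⟩ g
    exact ⟨hAn.conj_mem a ha g, by rw [conj_pow, ha', mul_one, mul_inv_cancel]⟩
  · rintro ⟨a, ha, ha'⟩
    refine ⟨1, ?_⟩
    apply Subtype.ext
    rw [pow_one, Subgroup.coe_pow, Subgroup.coe_one]
    exact ha'
  · intro hbot
    have hxT : (x : G) ∈ T := by
      refine ⟨x.2, ?_⟩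
      have := pow_orderOf_eq_one x
      rw [hx] at this
      have := congrArg Subtype.val this
      simpa using this
    rw [hbot, Subgroup.mem_bot] at hxT
    have : x = 1 := Subtype.ext hxT
    rw [this, orderOf_one] at hx
    exact hp.one_lt.ne hx

theorem not_coreFree_of_solvable {G : Type*} [Group G] [Finite G] (K : Subgroup G) (hne : K ≠ ⊥)
    (hs : Group.IsSolvable K) : ¬ CoreFree K := by
  intro hcf
  have : Nontrivial K := (Subgroup.nontrivial_iff_ne_bot K).mpr hne
  obtain ⟨p, hp, N, hNn, hNp, hNne⟩ := exists_normal_pgroup K hs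
  have hbot := hcf (N.map K.subtype) (Subgroup.map_subtype_le _)
    (by
      have h1 := Subgroup.le_normalizer_map (H := N) K.subtype
      rw [Subgroup.normalizer_eq_top, ← MonoidHom.range_eq_map, Subgroup.range_subtype] at h1
      exact h1)
    (by
      have hNp' : IsPGroup p (N.map K.subtype) := hNp.map _
      rcases hp.eq_two_or_odd' with rfl | hodd
      · exact Or.inl hNp'
      · right
        have : Fact p.Prime := ⟨hp⟩
        obtain ⟨n, hn⟩ := hNp'.exists_card_eq
        rw [hn]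
        exact Nat.Coprime.pow_left _ (Nat.coprime_two_right.mpr hodd))
  exact hNne ((Subgroup.map_eq_bot_iff_of_injective _ (Subgroup.subtype_injective _)).mp hbot)

/-! ### transport of the hypotheses along an embedding -/

theorem coreFree_range {H G : Type*} [Group H] [Group G] (ψ : H →* G)
    (hψ : Function.Injective ψ) (h2 : Cfsg.pCore 2 H = ⊥) (ho : Cfsg.pPrimeCore 2 H = ⊥) :
    CoreFree ψ.range := by
  intro N hN hnorm hcase
  have hNn : (N.comap ψ).Normal := by
    refine ⟨fun n hn g => ?_⟩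
    rw [Subgroup.mem_comap] at hn ⊢
    rw [map_mul, map_mul, map_inv]
    have hg : ψ g ∈ Subgroup.normalizer (N : Set G) := hnorm ⟨g, rfl⟩
    exact (Subgroup.mem_normalizer_iff.mp hg (ψ n)).mp hn
  have hcomap : N.comap ψ = ⊥ := by
    rcases hcase with hp | hodd
    · have : N.comap ψ ≤ Cfsg.pCore 2 H :=
        le_sSup ⟨hNn, hp.comap_of_injective ψ hψ⟩
      rwa [h2, le_bot_iff] at this
    · have hcard : Nat.card (N.comap ψ) = Nat.card N := by
        have e : ↥(N.comap ψ) ≃ ↥N :=
          { toFun := fun x => ⟨ψ x.1, x.2⟩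
            invFun := fun n => ⟨Classical.choose (hN n.2), by
              rw [Subgroup.mem_comap, Classical.choose_spec (hN n.2)]; exact n.2⟩
            left_inv := by
              intro x
              apply Subtype.ext
              apply hψ
              exact Classical.choose_spec (hN (show ψ x.1 ∈ N from x.2))
            right_inv := by
              intro n
              apply Subtype.ext
              exact Classical.choose_spec (hN n.2) }
        exact Nat.card_congr e
      have : N.comap ψ ≤ Cfsg.pPrimeCore 2 H := le_sSup ⟨hNn, by rw [hcard]; exact hodd⟩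
      rwa [ho, le_bot_iff] at this
  rw [eq_bot_iff]
  intro n hn
  obtain ⟨h, rfl⟩ := hN hn
  have : h ∈ N.comap ψ := hn
  rw [hcomap, Subgroup.mem_bot] at this
  rw [this, map_one]
  exact Subgroup.mem_bot.mpr rfl

/-! ### elements of order 5 or 7 -/

theorem five_or_seven_dvd {K : Subgroup (Perm (Fin 8))} (hns : ¬ Group.IsSolvable K) :
    5 ∣ Nat.card K ∨ 7 ∣ Nat.card K := by
  by_contra hcon
  push Not at hcon
  apply hns
  have hdvd : Nat.card K ∣ 40320 := by
    have := Subgroup.card_subgroup_dvd_card K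
    rwa [Nat.card_eq_fintype_card (α := Perm (Fin 8)), Fintype.card_perm, Fintype.card_fin] at this
  have h5 : Nat.Coprime (Nat.card K) 5 :=
    (Nat.Coprime.symm ((Nat.Prime.coprime_iff_not_dvd (by norm_num)).mpr hcon.1))
  have h7 : Nat.Coprime (Nat.card K) 7 :=
    (Nat.Coprime.symm ((Nat.Prime.coprime_iff_not_dvd (by norm_num)).mpr hcon.2))
  have h35 : Nat.Coprime (Nat.card K) 35 := Nat.Coprime.mul_right h5 h7
  have hd : Nat.card K ∣ 2 ^ 7 * 3 ^ 2 := by
    have : (40320 : ℕ) = 2 ^ 7 * 3 ^ 2 * 35 := by norm_num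
    rw [this] at hdvd
    exact h35.dvd_of_dvd_mul_right hdvd
  obtain ⟨a, b, hab⟩ := Cfsg.Agent.Lib.H23.exists_eq_pow_mul_pow_of_dvd Nat.prime_two
    Nat.prime_three hd
  exact Cfsg.Agent.Lib.H23.isSolvable_of_card_eq_prime_pow_mul_prime_pow 2 3 a b Nat.prime_two
    Nat.prime_three hab

theorem cycleType_of_prime_order {σ : Perm (Fin 8)} {p : ℕ} (hp : p.Prime) (h5 : 5 ≤ p)
    (ho : orderOf σ = p) : σ.cycleType = {p} := by
  obtain ⟨n, hn⟩ := Perm.cycleType_prime_order (σ := σ) (by rw [ho]; exact hp)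
  rw [ho] at hn
  have hsum := σ.sum_cycleType_le
  rw [hn, Multiset.sum_replicate, Fintype.card_fin, smul_eq_mul] at hsum
  have hn0 : n = 0 := by
    by_contra hne
    have : 2 ≤ n + 1 := by omega
    nlinarith
  rw [hn, hn0]
  rfl

theorem exists_conj_eq {K : Subgroup (Perm (Fin 8))} {p : ℕ} (hp : p.Prime) (h5 : 5 ≤ p)
    (hdvd : p ∣ Nat.card K) {c : Perm (Fin 8)} (hc : orderOf c = p) :
    ∃ s : Perm (Fin 8), ∃ g ∈ K, s * g * s⁻¹ = c := by
  have : Fact p.Prime := ⟨hp⟩
  obtain ⟨x, hx⟩ := exists_prime_orderOf_dvd_card' p hdvd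
  have hx' : orderOf (x : Perm (Fin 8)) = p := by rw [Subgroup.orderOf_coe, hx]
  have hconj : IsConj (x : Perm (Fin 8)) c := by
    rw [Perm.isConj_iff_cycleType_eq, cycleType_of_prime_order hp h5 hx',
      cycleType_of_prime_order hp h5 hc]
  obtain ⟨s, hs⟩ := isConj_iff.mp hconj
  exact ⟨s, x, x.2, hs⟩

/-! ### the main theorems -/

/-- the classification, for an embedding into `A₈` -/
theorem good_of_embedding {H : Type*} [Group H] [Nontrivial H] (ψ : H →* Perm (Fin 8))
    (hψ : Function.Injective ψ) (hA : ψ.range ≤ alternatingGroup (Fin 8))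
    (h2 : Cfsg.pCore 2 H = ⊥) (ho : Cfsg.pPrimeCore 2 H = ⊥) : Good H := by
  have hcf := coreFree_range ψ hψ h2 ho
  have hne : ψ.range ≠ ⊥ := by
    intro hbot
    obtain ⟨x, hx⟩ := exists_ne (1 : H)
    have : ψ x ∈ ψ.range := ⟨x, rfl⟩
    rw [hbot, Subgroup.mem_bot] at this
    exact hx (hψ (this.trans (map_one ψ).symm))
  have hns : ¬ Group.IsSolvable ψ.range := fun hs => not_coreFree_of_solvable _ hne hs hcf
  -- conjugate so that the range contains the standard cycle
  have key : ∀ (p : ℕ) (cc : Nat), p.Prime → 5 ≤ p → orderOf (pc cc) = p → p ∣ Nat.card ψ.range →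
      (∀ K : Subgroup (Perm (Fin 8)), K ≤ alternatingGroup (Fin 8) → pc cc ∈ K → CoreFree K →
        Good K) → Good H := by
    intro p cc hp h5 hcc hdvd hmain
    obtain ⟨s, g, hg, hs⟩ := exists_conj_eq hp h5 hdvd hcc
    let ψ' : H →* Perm (Fin 8) := (MulAut.conj s).toMonoidHom.comp ψ
    have hψ' : Function.Injective ψ' := (MulAut.conj s).injective.comp hψ
    have hA' : ψ'.range ≤ alternatingGroup (Fin 8) := by
      rintro _ ⟨h, rfl⟩
      have h1 : ψ h ∈ alternatingGroup (Fin 8) := hA ⟨h, rfl⟩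
      show s * ψ h * s⁻¹ ∈ alternatingGroup (Fin 8)
      exact (inferInstance : (alternatingGroup (Fin 8)).Normal).conj_mem _ h1 s
    have hc' : pc cc ∈ ψ'.range := by
      obtain ⟨h, rfl⟩ := hg
      exact ⟨h, hs⟩
    have hgood := hmain ψ'.range hA' hc' (coreFree_range ψ' hψ' h2 ho)
    exact Good.of_equiv (MonoidHom.ofInjective hψ') hgood
  rcases five_or_seven_dvd hns with h5 | h7
  · exact key 5 latC5.c (by norm_num) le_rfl c5_order h5 (fun K hK hc hcf => c5_main hK hc hcf)
  · exact key 7 latC7.c (by norm_num) (by norm_num) c7_order h7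
      (fun K hK hc hcf => c7_main hK hc hcf)

/-- **subgroups of `GL₄(2)` with trivial `O₂` and `O`** -/
theorem good_of_subgroup_GL4 (H : Subgroup (GL (Fin 4) (ZMod 2))) (hH : H ≠ ⊥)
    (hO : Cfsg.pPrimeCore 2 ↥H = ⊥) (hO2 : Cfsg.pCore 2 ↥H = ⊥) : Good ↥H := by
  obtain ⟨f, hf⟩ := Cfsg.Agent.Lib.H15.A8E.exists_GL4_embed
  have : Nontrivial H := (Subgroup.nontrivial_iff_ne_bot H).mpr hH
  refine good_of_embedding ((alternatingGroup (Fin 8)).subtype.comp (f.comp H.subtype))
    ((Subgroup.subtype_injective _).comp (hf.comp (Subgroup.subtype_injective _))) ?_ hO2 hO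
  rintro _ ⟨h, rfl⟩
  exact (f (H.subtype h)).2

end Cfsg.Agent.Lib.H27.A8L
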