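import Cfsg.Agent.Lib.H27.A8Defs

/-!
# Subgroups of `A₈` containing a 5-cycle or a 7-cycle: soundness of the coded computations
-/

set_option autoImplicit false

namespace Cfsg.Agent.Lib.H27.A8L

open Equiv

theorem dg_eq (p i : Nat) : dg p i = p / 8 ^ i % 8 := rfl

theorem dg_lt (p i : Nat) : dg p i < 8 := Nat.mod_lt _ (by norm_num)

/-- `p` codes the permutation `σ` -/
def Codes (p : Nat) (σ : Perm (Fin 8)) : Prop := ∀ i : Fin 8, dg p i = (σ i : ℕ)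

/-- Horner value of eight digits -/
def hv (d0 d1 d2 d3 d4 d5 d6 d7 : Nat) : Nat :=
  d0 + 8 * (d1 + 8 * (d2 + 8 * (d3 + 8 * (d4 + 8 * (d5 + 8 * (d6 + 8 * d7))))))

theorem dg_hv (d0 d1 d2 d3 d4 d5 d6 d7 : Nat)
    (h0 : d0 < 8) (h1 : d1 < 8) (h2 : d2 < 8) (h3 : d3 < 8) (h4 : d4 < 8) (h5 : d5 < 8)
    (h6 : d6 < 8) (h7 : d7 < 8) :
    dg (hv d0 d1 d2 d3 d4 d5 d6 d7) 0 = d0 ∧
    dg (hv d0 d1 d2 d3 d4 d5 d6 d7) 1 = d1 ∧
    dg (hv d0 d1 d2 d3 d4 d5 d6 d7) 2 = d2 ∧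
    dg (hv d0 d1 d2 d3 d4 d5 d6 d7) 3 = d3 ∧
    dg (hv d0 d1 d2 d3 d4 d5 d6 d7) 4 = d4 ∧
    dg (hv d0 d1 d2 d3 d4 d5 d6 d7) 5 = d5 ∧
    dg (hv d0 d1 d2 d3 d4 d5 d6 d7) 6 = d6 ∧
    dg (hv d0 d1 d2 d3 d4 d5 d6 d7) 7 = d7 := by
  simp only [dg_eq, hv]
  norm_num
  refine ⟨?_, ?_, ?_, ?_, ?_, ?_, ?_, ?_⟩ <;> omega

theorem hv_lt (d0 d1 d2 d3 d4 d5 d6 d7 : Nat)
    (h0 : d0 < 8) (h1 : d1 < 8) (h2 : d2 < 8) (h3 : d3 < 8) (h4 : d4 < 8) (h5 : d5 < 8)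
    (h6 : d6 < 8) (h7 : d7 < 8) : hv d0 d1 d2 d3 d4 d5 d6 d7 < 16777216 := by
  unfold hv; omega

theorem hv_dg (p : Nat) (hp : p < 16777216) :
    hv (dg p 0) (dg p 1) (dg p 2) (dg p 3) (dg p 4) (dg p 5) (dg p 6) (dg p 7) = p := by
  simp only [dg_eq, hv]
  norm_num
  omega

theorem cmpN_eq (p q : Nat) : cmpN p q =
    hv (dg p (dg q 0)) (dg p (dg q 1)) (dg p (dg q 2)) (dg p (dg q 3)) (dg p (dg q 4))
      (dg p (dg q 5)) (dg p (dg q 6)) (dg p (dg q 7)) := rfl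

theorem dg_cmpN (p q : Nat) (x : Fin 8) : dg (cmpN p q) x = dg p (dg q x) := by
  have h := dg_hv (dg p (dg q 0)) (dg p (dg q 1)) (dg p (dg q 2)) (dg p (dg q 3)) (dg p (dg q 4))
      (dg p (dg q 5)) (dg p (dg q 6)) (dg p (dg q 7)) (dg_lt _ _) (dg_lt _ _) (dg_lt _ _)
      (dg_lt _ _) (dg_lt _ _) (dg_lt _ _) (dg_lt _ _) (dg_lt _ _)
  rw [cmpN_eq]
  obtain ⟨h0, h1, h2, h3, h4, h5, h6, h7⟩ := h
  fin_cases x
  · exact h0
  · exact h1
  · exact h2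
  · exact h3
  · exact h4
  · exact h5
  · exact h6
  · exact h7

theorem dg_idN (x : Fin 8) : dg idN x = x := by
  fin_cases x <;> rfl

/-- the code of a permutation -/
def codeOf (σ : Perm (Fin 8)) : Nat :=
  hv (σ 0) (σ 1) (σ 2) (σ 3) (σ 4) (σ 5) (σ 6) (σ 7)

theorem codes_codeOf (σ : Perm (Fin 8)) : Codes (codeOf σ) σ := by
  have hlt : ∀ i : Fin 8, ((σ i : Fin 8) : ℕ) < 8 := fun i => (σ i).2
  obtain ⟨h0, h1, h2, h3, h4, h5, h6, h7⟩ :=
    dg_hv (σ 0) (σ 1) (σ 2) (σ 3) (σ 4) (σ 5) (σ 6) (σ 7)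
      (hlt _) (hlt _) (hlt _) (hlt _) (hlt _) (hlt _) (hlt _) (hlt _)
  intro x
  unfold codeOf
  fin_cases x
  · exact h0
  · exact h1
  · exact h2
  · exact h3
  · exact h4
  · exact h5
  · exact h6
  · exact h7

theorem codeOf_lt (σ : Perm (Fin 8)) : codeOf σ < 16777216 :=
  hv_lt _ _ _ _ _ _ _ _ (σ 0).2 (σ 1).2 (σ 2).2 (σ 3).2 (σ 4).2 (σ 5).2 (σ 6).2 (σ 7).2

theorem codeOf_injective : Function.Injective codeOf := by
  intro σ τ h
  ext x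
  have h1 := codes_codeOf σ x
  have h2 := codes_codeOf τ x
  rw [h] at h1
  rw [← h1, ← h2]

theorem Codes.eq_codeOf {p : Nat} {σ : Perm (Fin 8)} (h : Codes p σ) (hp : p < 16777216) :
    p = codeOf σ := by
  rw [← hv_dg p hp]
  unfold codeOf
  have e : ∀ (i : Fin 8) (n : ℕ), (i : ℕ) = n → dg p n = ((σ i : Fin 8) : ℕ) := by
    intro i n hn
    subst hn
    exact h i
  rw [e 0 0 rfl, e 1 1 rfl, e 2 2 rfl, e 3 3 rfl, e 4 4 rfl, e 5 5 rfl, e 6 6 rfl, e 7 7 rfl]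

theorem Codes.cmpN {p q : Nat} {π ρ : Perm (Fin 8)} (hp : Codes p π) (hq : Codes q ρ) :
    Codes (cmpN p q) (π * ρ) := by
  intro x
  rw [dg_cmpN, hq x, hp (ρ x)]
  rfl

theorem cmpN_lt (p q : Nat) : cmpN p q < 16777216 := by
  rw [cmpN_eq]
  exact hv_lt _ _ _ _ _ _ _ _ (dg_lt _ _) (dg_lt _ _) (dg_lt _ _) (dg_lt _ _) (dg_lt _ _)
    (dg_lt _ _) (dg_lt _ _) (dg_lt _ _)

theorem codeOf_mul (σ τ : Perm (Fin 8)) : codeOf (σ * τ) = cmpN (codeOf σ) (codeOf τ) :=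
  (((codes_codeOf σ).cmpN (codes_codeOf τ)).eq_codeOf (cmpN_lt _ _)).symm

theorem codeOf_one : codeOf 1 = idN := by
  have h : Codes idN 1 := fun x => dg_idN x
  exact (h.eq_codeOf (by decide)).symm

/-! ### the permutation of a valid code -/

/-- the digit function -/
def dgF (n : Nat) (i : Fin 8) : Fin 8 := ⟨dg n i, dg_lt _ _⟩

theorem vp_spec {n : Nat} (h : vp n = true) :
    n < 16777216 ∧ cmpN n (invN n) = idN ∧ cmpN (invN n) n = idN ∧ invN n < 16777216 := by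
  unfold vp at h
  rw [Bool.and_eq_true, Bool.and_eq_true, Bool.and_eq_true] at h
  exact ⟨Nat.le_of_ble_eq_true h.1, Nat.eq_of_beq_eq_true h.2.1, Nat.eq_of_beq_eq_true h.2.2.1,
    Nat.le_of_ble_eq_true h.2.2.2⟩

theorem dgF_dgF_of_cmpN {p q : Nat} (h : cmpN p q = idN) (x : Fin 8) : dgF p (dgF q x) = x := by
  apply Fin.ext
  have := dg_cmpN p q x
  rw [h, dg_idN] at this
  exact this.symm

/-- the permutation with code `n` (the identity if `n` is not valid) -/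
def pc (n : Nat) : Perm (Fin 8) :=
  if h : vp n = true then
    ⟨dgF n, dgF (invN n), dgF_dgF_of_cmpN (vp_spec h).2.2.1, dgF_dgF_of_cmpN (vp_spec h).2.1⟩
  else 1

theorem pc_apply {n : Nat} (h : vp n = true) (x : Fin 8) : ((pc n x : Fin 8) : ℕ) = dg n x := by
  unfold pc
  rw [dif_pos h]
  rfl

theorem codes_pc {n : Nat} (h : vp n = true) : Codes n (pc n) := fun x => (pc_apply h x).symm

theorem codeOf_pc {n : Nat} (h : vp n = true) : codeOf (pc n) = n :=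
  ((codes_pc h).eq_codeOf (vp_spec h).1).symm

theorem pc_inv_apply {n : Nat} (h : vp n = true) (x : Fin 8) :
    (((pc n)⁻¹ x : Fin 8) : ℕ) = dg (invN n) x := by
  unfold pc
  rw [dif_pos h]
  rfl

theorem codeOf_pc_inv {n : Nat} (h : vp n = true) : codeOf (pc n)⁻¹ = invN n := by
  have hc : Codes (invN n) (pc n)⁻¹ := fun x => (pc_inv_apply h x).symm
  exact (hc.eq_codeOf (vp_spec h).2.2.2).symm

theorem pc_idN : pc idN = 1 := by
  apply codeOf_injective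
  rw [codeOf_pc (by decide), codeOf_one]

theorem eq_pc_of_codeOf_eq {n : Nat} (h : vp n = true) {σ : Perm (Fin 8)} (hσ : codeOf σ = n) :
    σ = pc n := by
  apply codeOf_injective
  rw [hσ, codeOf_pc h]

theorem pc_mul {m n : Nat} (hm : vp m = true) (hn : vp n = true) (hmn : vp (cmpN m n) = true) :
    pc m * pc n = pc (cmpN m n) := by
  apply eq_pc_of_codeOf_eq hmn
  rw [codeOf_mul, codeOf_pc hm, codeOf_pc hn]

/-! ### words -/

/-- `g` is the code of an element of `K` -/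
def InK (K : Subgroup (Perm (Fin 8))) (g : Nat) : Prop := ∃ τ ∈ K, codeOf τ = g

theorem InK.idN (K : Subgroup (Perm (Fin 8))) : InK K idN := ⟨1, K.one_mem, codeOf_one⟩

theorem InK.cmpN {K : Subgroup (Perm (Fin 8))} {g h : Nat} (hg : InK K g) (hh : InK K h) :
    InK K (cmpN g h) := by
  obtain ⟨σ, hσ, rfl⟩ := hg
  obtain ⟨τ, hτ, rfl⟩ := hh
  exact ⟨σ * τ, K.mul_mem hσ hτ, codeOf_mul σ τ⟩

theorem InK.codeOf {K : Subgroup (Perm (Fin 8))} {σ : Perm (Fin 8)} (h : σ ∈ K) :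
    InK K (codeOf σ) := ⟨σ, h, rfl⟩

theorem InK.of_pc {K : Subgroup (Perm (Fin 8))} {n : Nat} (hv : vp n = true) (h : pc n ∈ K) :
    InK K n := ⟨pc n, h, codeOf_pc hv⟩

theorem InK.mem {K : Subgroup (Perm (Fin 8))} {σ : Perm (Fin 8)} (h : InK K (A8L.codeOf σ)) :
    σ ∈ K := by
  obtain ⟨τ, hτ, hc⟩ := h
  rwa [← codeOf_injective hc]

theorem InK.pc_mem {K : Subgroup (Perm (Fin 8))} {n : Nat} (hv : vp n = true) (h : InK K n) :
    pc n ∈ K := by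
  obtain ⟨τ, hτ, hc⟩ := h
  rwa [← eq_pc_of_codeOf_eq hv hc]

theorem evalL_zero (G : List Nat) (w acc : Nat) : evalL G 0 w acc = acc := rfl

theorem evalL_succ (G : List Nat) (f w acc : Nat) : evalL G (f + 1) w acc =
    Nat.rec (motive := fun _ => Nat) acc
      (fun d _ => evalL G f (Nat.div w 16) (A8L.cmpN acc (G.getD d A8L.idN))) (Nat.mod w 16) := rfl

theorem InK.getD {K : Subgroup (Perm (Fin 8))} {G : List Nat} (hG : ∀ g ∈ G, InK K g) (d : Nat) :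
    InK K (G.getD d A8L.idN) := by
  rw [List.getD_eq_getElem?_getD]
  rcases h : G[d]? with _ | g
  · exact InK.idN K
  · exact hG g (List.mem_of_getElem? h)

theorem InK.evalL {K : Subgroup (Perm (Fin 8))} {G : List Nat} (hG : ∀ g ∈ G, InK K g) :
    ∀ (f w acc : Nat), InK K acc → InK K (A8L.evalL G f w acc) := by
  intro f
  induction f with
  | zero => intro w acc h; exact h
  | succ f ih =>
    intro w acc h
    rw [evalL_succ]
    rcases Nat.mod w 16 with _ | d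
    · exact h
    · exact ih _ _ (h.cmpN (InK.getD hG d))

end Cfsg.Agent.Lib.H27.A8L
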