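import Cfsg.Agent.Lib.H27.A8Lat

/-!
# Subgroups of `A₈` containing a 5-cycle or a 7-cycle: group-theoretic tools
-/

set_option autoImplicit false

namespace Cfsg.Agent.Lib.H27.A8L

open Equiv

/-- `K` has no nontrivial normal 2-subgroup and no nontrivial normal subgroup of odd order -/
def CoreFree {G : Type*} [Group G] (K : Subgroup G) : Prop :=
  ∀ N : Subgroup G, N ≤ K → K ≤ Subgroup.normalizer (N : Set G) → (IsPGroup 2 N ∨ (Nat.card N).Coprime 2) → N = ⊥

/-- the conclusion -/
def Good (G : Type*) [Group G] : Prop :=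
  (∃ n : ℕ, 5 ≤ n ∧ n ≤ 8 ∧ Nonempty (G ≃* alternatingGroup (Fin n))) ∨
    Nonempty (G ≃* Equiv.Perm (Fin 5)) ∨ Nonempty (G ≃* Equiv.Perm (Fin 6)) ∨
    Nonempty (G ≃* GL (Fin 3) (ZMod 2))

theorem Good.of_equiv {G H : Type*} [Group G] [Group H] (e : G ≃* H) (h : Good H) : Good G := by
  rcases h with ⟨n, h1, h2, ⟨f⟩⟩ | ⟨⟨f⟩⟩ | ⟨⟨f⟩⟩ | ⟨⟨f⟩⟩
  · exact Or.inl ⟨n, h1, h2, ⟨e.trans f⟩⟩
  · exact Or.inr (Or.inl ⟨e.trans f⟩)
  · exact Or.inr (Or.inr (Or.inl ⟨e.trans f⟩))
  · exact Or.inr (Or.inr (Or.inr ⟨e.trans f⟩))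

/-- normalizing a cyclic group, elementwise -/
theorem mem_normalizer_zpowers {G : Type*} [Group G] {g r : G}
    (h1 : g * r * g⁻¹ ∈ Subgroup.zpowers r) (h2 : g⁻¹ * r * g ∈ Subgroup.zpowers r) :
    g ∈ Subgroup.normalizer (Subgroup.zpowers r : Set G) := by
  rw [Subgroup.mem_normalizer_iff]
  intro x
  constructor
  · intro hx
    obtain ⟨n, rfl⟩ := Subgroup.mem_zpowers_iff.mp hx
    have : g * r ^ n * g⁻¹ = (g * r * g⁻¹) ^ n := by
      rw [conj_zpow]
    rw [this]
    exact Subgroup.zpow_mem _ h1 n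
  · intro hx
    obtain ⟨n, hn⟩ := Subgroup.mem_zpowers_iff.mp hx
    have : x = (g⁻¹ * r * g) ^ n := by
      have h3 : (g⁻¹ * r * g) ^ n = g⁻¹ * r ^ n * g := by
        have := conj_zpow (a := g⁻¹) (b := r) (i := n)
        rw [inv_inv] at this
        exact this
      rw [h3, hn]; group
    rw [this]
    exact Subgroup.zpow_mem _ h2 n

/-- a normal cyclic subgroup of odd order contradicts `CoreFree` -/
theorem not_coreFree_of_cyclic {G : Type*} [Group G] [Finite G] {K : Subgroup G} {r : G}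
    (hr : r ∈ K) (hr1 : r ≠ 1) (hodd : Odd (orderOf r))
    (hn : K ≤ Subgroup.normalizer (Subgroup.zpowers r : Set G)) : ¬ CoreFree K := by
  intro hcf
  have := hcf (Subgroup.zpowers r) (by rwa [Subgroup.zpowers_le]) hn
    (Or.inr (by rw [Nat.card_zpowers]; exact Nat.coprime_two_right.mpr hodd))
  exact hr1 (Subgroup.zpowers_eq_bot.mp this)


/-! ### the subgroup of a list of codes closed under multiplication -/

/-- the subgroup of the permutations with code in a list closed under multiplication -/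
def listSubgroup (l : List Nat) (h1 : idN ∈ l) (hmul : ∀ g ∈ l, ∀ h ∈ l, cmpN g h ∈ l) :
    Subgroup (Perm (Fin 8)) where
  carrier := {σ | codeOf σ ∈ l}
  mul_mem' := by
    intro a b ha hb
    rw [Set.mem_ofPred_eq, codeOf_mul]
    exact hmul _ ha _ hb
  one_mem' := by
    rw [Set.mem_ofPred_eq, codeOf_one]
    exact h1
  inv_mem' := by
    intro σ hσ
    have hpow : ∀ n : ℕ, codeOf (σ ^ n) ∈ l := by
      intro n
      induction n with
      | zero => rw [pow_zero, codeOf_one]; exact h1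
      | succ n ih => rw [pow_succ, codeOf_mul]; exact hmul _ ih _ hσ
    have hinv : σ⁻¹ = σ ^ (orderOf σ - 1) := by
      have h := pow_orderOf_eq_one σ
      have hpos : 0 < orderOf σ := orderOf_pos σ
      have : σ ^ (orderOf σ - 1) * σ = 1 := by
        rw [← pow_succ, Nat.sub_add_cancel hpos, h]
      exact (eq_inv_of_mul_eq_one_left this).symm
    rw [Set.mem_ofPred_eq, hinv]
    exact hpow _

theorem mem_listSubgroup {l : List Nat} {h1 : idN ∈ l} {hmul : ∀ g ∈ l, ∀ h ∈ l, cmpN g h ∈ l}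
    {σ : Perm (Fin 8)} : σ ∈ listSubgroup l h1 hmul ↔ codeOf σ ∈ l := Iff.rfl

theorem card_listSubgroup {l : List Nat} (h1 : idN ∈ l) (hmul : ∀ g ∈ l, ∀ h ∈ l, cmpN g h ∈ l)
    (hnd : l.Nodup) (hv : ∀ g ∈ l, vp g = true) :
    Nat.card (listSubgroup l h1 hmul) = l.length := by
  let f : ↥(listSubgroup l h1 hmul) → {g // g ∈ l} :=
    fun σ => ⟨codeOf σ.1, mem_listSubgroup.mp σ.2⟩
  have hf : Function.Bijective f := by
    constructor
    · intro σ τ h
      have : codeOf σ.1 = codeOf τ.1 := congrArg Subtype.val h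
      exact Subtype.ext (codeOf_injective this)
    · intro g
      have hg : codeOf (pc g.1) = g.1 := codeOf_pc (hv g.1 g.2)
      refine ⟨⟨pc g.1, ?_⟩, ?_⟩
      · rw [mem_listSubgroup, hg]; exact g.2
      · exact Subtype.ext hg
  rw [Nat.card_congr (Equiv.ofBijective f hf), Nat.card_eq_fintype_card,
    Fintype.card_of_subtype l.toFinset (fun x => List.mem_toFinset),
    List.toFinset_card_of_nodup hnd]

/-- Lagrange: the length of a list of codes of elements of `K` closed under multiplication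
divides the order of `K` -/
theorem length_dvd_card {K : Subgroup (Perm (Fin 8))} {l : List Nat} (h1 : idN ∈ l)
    (hmul : ∀ g ∈ l, ∀ h ∈ l, cmpN g h ∈ l) (hnd : l.Nodup) (hv : ∀ g ∈ l, vp g = true)
    (hK : ∀ g ∈ l, InK K g) : l.length ∣ Nat.card K := by
  rw [← card_listSubgroup h1 hmul hnd hv]
  apply Subgroup.card_dvd_of_le
  intro σ hσ
  exact (hK _ (mem_listSubgroup.mp hσ)).mem

theorem codeOf_conj {g : Nat} (hv : vp g = true) (x : Perm (Fin 8)) :
    codeOf (pc g * x * (pc g)⁻¹) = cmpN (cmpN g (codeOf x)) (invN g) := by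
  rw [codeOf_mul, codeOf_mul, codeOf_pc hv, codeOf_pc_inv hv]

theorem codeOf_conj' {g : Nat} (hv : vp g = true) (x : Perm (Fin 8)) :
    codeOf ((pc g)⁻¹ * x * pc g) = cmpN (cmpN (invN g) (codeOf x)) g := by
  rw [codeOf_mul, codeOf_mul, codeOf_pc hv, codeOf_pc_inv hv]

/-- normalizing a list subgroup, on codes -/
theorem mem_normalizer_list {l : List Nat} {h1 : idN ∈ l}
    {hmul : ∀ g ∈ l, ∀ h ∈ l, cmpN g h ∈ l} {g : Nat} (hv : vp g = true)
    (hc1 : ∀ e ∈ l, cmpN (cmpN g e) (invN g) ∈ l) (hc2 : ∀ e ∈ l, cmpN (cmpN (invN g) e) g ∈ l) :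
    pc g ∈ Subgroup.normalizer (listSubgroup l h1 hmul : Set (Perm (Fin 8))) := by
  rw [Subgroup.mem_normalizer_iff]
  intro x
  constructor
  · intro hx
    rw [mem_listSubgroup, codeOf_conj hv]
    exact hc1 _ (mem_listSubgroup.mp hx)
  · intro hx
    have : x = (pc g)⁻¹ * (pc g * x * (pc g)⁻¹) * pc g := by group
    rw [this, mem_listSubgroup, codeOf_conj' hv]
    exact hc2 _ (mem_listSubgroup.mp hx)

/-- a nontrivial normal `2`-subgroup given by a list contradicts `CoreFree` -/
theorem not_coreFree_of_list {K : Subgroup (Perm (Fin 8))} {l : List Nat} (h1 : idN ∈ l)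
    (hmul : ∀ g ∈ l, ∀ h ∈ l, cmpN g h ∈ l) (hsq : ∀ g ∈ l, cmpN g g = idN)
    (hK : ∀ g ∈ l, InK K g) (hne : ∃ g ∈ l, g ≠ idN ∧ vp g = true)
    (hn : K ≤ Subgroup.normalizer (listSubgroup l h1 hmul : Set (Perm (Fin 8)))) :
    ¬ CoreFree K := by
  intro hcf
  have hle : listSubgroup l h1 hmul ≤ K := fun σ hσ => (hK _ (mem_listSubgroup.mp hσ)).mem
  have hp : IsPGroup 2 (listSubgroup l h1 hmul) := by
    intro σ
    refine ⟨1, ?_⟩
    apply Subtype.ext
    apply codeOf_injective
    rw [pow_one, Subgroup.coe_pow, Subgroup.coe_one, pow_two, codeOf_mul, codeOf_one]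
    exact hsq _ (mem_listSubgroup.mp σ.2)
  have hbot := hcf _ hle hn (Or.inl hp)
  obtain ⟨g, hg, hg1, hvg⟩ := hne
  have hmem : pc g ∈ listSubgroup l h1 hmul := by
    rw [mem_listSubgroup, codeOf_pc hvg]; exact hg
  rw [hbot, Subgroup.mem_bot] at hmem
  apply hg1
  rw [← codeOf_pc hvg, hmem, codeOf_one]

/-- normalizing a cyclic group, on codes -/
theorem mem_normalizer_zpowers_pc {g r : Nat} (hv : vp g = true) (hr : vp r = true)
    {rp : List Nat} (hrp : ∀ e ∈ rp, InK (Subgroup.zpowers (pc r)) e)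
    (hc1 : cmpN (cmpN g r) (invN g) ∈ rp) (hc2 : cmpN (cmpN (invN g) r) g ∈ rp) :
    pc g ∈ Subgroup.normalizer (Subgroup.zpowers (pc r) : Set (Perm (Fin 8))) := by
  apply mem_normalizer_zpowers
  · have e : cmpN (cmpN g r) (invN g) = codeOf (pc g * pc r * (pc g)⁻¹) := by
      rw [codeOf_conj hv, codeOf_pc hr]
    have := hrp _ hc1
    rw [e] at this
    exact this.mem
  · have e : cmpN (cmpN (invN g) r) g = codeOf ((pc g)⁻¹ * pc r * pc g) := by
      rw [codeOf_conj' hv, codeOf_pc hr]
    have := hrp _ hc2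
    rw [e] at this
    exact this.mem

/-! ### homomorphisms from actions on invariant families -/

/-- a subgroup permuting an injective family of points of a set with an action acts on the index
type -/
theorem exists_action_hom {G Y ι : Type*} [Group G] (K : Subgroup G) (act : G → Y → Y)
    (act_one : ∀ y, act 1 y = y) (act_mul : ∀ g h y, act (g * h) y = act g (act h y))
    (x : ι → Y) (hx : Function.Injective x) (hinv : ∀ k ∈ K, ∀ i, ∃ j, x j = act k (x i)) :
    ∃ ρ : K →* Perm ι, ∀ (k : K) (i : ι), x (ρ k i) = act (k : G) (x i) := by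
  classical
  let f : K → ι → ι := fun k i => Classical.choose (hinv k k.2 i)
  have hf : ∀ (k : K) (i : ι), x (f k i) = act (k : G) (x i) :=
    fun k i => Classical.choose_spec (hinv k k.2 i)
  have hf1 : ∀ i, f 1 i = i := by
    intro i
    apply hx
    rw [hf, Subgroup.coe_one, act_one]
  have hfm : ∀ (k k' : K) (i : ι), f (k * k') i = f k (f k' i) := by
    intro k k' i
    apply hx
    rw [hf, hf, hf, Subgroup.coe_mul, act_mul]
  refine ⟨{ toFun := fun k => ⟨f k, f k⁻¹, fun i => by rw [← hfm, inv_mul_cancel, hf1],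
              fun i => by rw [← hfm, mul_inv_cancel, hf1]⟩
            map_one' := by
              apply Equiv.ext
              intro i
              exact hf1 i
            map_mul' := fun k k' => by
              apply Equiv.ext
              intro i
              exact hfm k k' i }, ?_⟩
  intro k i
  exact hf k i

/-- invariance of a family under a closure, from the generators and their inverses -/
theorem invariant_of_closure {G Y ι : Type*} [Group G] (S : Set G) (act : G → Y → Y)
    (act_one : ∀ y, act 1 y = y) (act_mul : ∀ g h y, act (g * h) y = act g (act h y))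
    (x : ι → Y) (h1 : ∀ g ∈ S, ∀ i, ∃ j, x j = act g (x i))
    (h2 : ∀ g ∈ S, ∀ i, ∃ j, x j = act g⁻¹ (x i)) :
    ∀ k ∈ Subgroup.closure S, ∀ i, ∃ j, x j = act k (x i) := by
  have key : ∀ k ∈ Subgroup.closure S,
      (∀ i, ∃ j, x j = act k (x i)) ∧ (∀ i, ∃ j, x j = act k⁻¹ (x i)) := by
    intro k hk
    induction hk using Subgroup.closure_induction with
    | mem g hg => exact ⟨h1 g hg, h2 g hg⟩
    | one => exact ⟨fun i => ⟨i, (act_one _).symm⟩, fun i => ⟨i, by rw [inv_one, act_one]⟩⟩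
    | mul a b _ _ ha hb =>
      constructor
      · intro i
        obtain ⟨j, hj⟩ := hb.1 i
        obtain ⟨j', hj'⟩ := ha.1 j
        exact ⟨j', by rw [act_mul, ← hj, hj']⟩
      · intro i
        obtain ⟨j, hj⟩ := ha.2 i
        obtain ⟨j', hj'⟩ := hb.2 j
        exact ⟨j', by rw [mul_inv_rev, act_mul, ← hj, hj']⟩
    | inv a _ ha => exact ⟨ha.2, by rw [inv_inv]; exact ha.1⟩
  exact fun k hk => (key k hk).1

/-- a homomorphism to `Perm (Fin (n+1))` whose range contains the adjacent transpositions is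
surjective -/
theorem surjective_of_swaps {G : Type*} [Group G] {n : ℕ} (ρ : G →* Perm (Fin (n + 1)))
    (h : ∀ i : Fin n, swap i.castSucc i.succ ∈ ρ.range) : Function.Surjective ρ := by
  rw [← MonoidHom.range_eq_top, eq_top_iff]
  intro σ _
  have hσ : σ ∈ Submonoid.closure (Set.range fun i : Fin n => swap i.castSucc i.succ) := by
    rw [Equiv.Perm.mclosure_swap_castSucc_succ]; exact Submonoid.mem_top σ
  have hle : Submonoid.closure (Set.range fun i : Fin n => swap i.castSucc i.succ) ≤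
      ρ.range.toSubmonoid := by
    rw [Submonoid.closure_le]
    rintro _ ⟨i, rfl⟩
    exact h i
  exact hle hσ

/-! ### membership in the groups of the lattice via words -/

theorem LatD.inK_of_word {L : LatD} (hv : validL L = true) (i w r : Nat)
    (h : evalL (L.cpow ++ L.gens.getD i []) 15 w idN = r) : InK (L.K i) r := by
  have hG : ∀ g ∈ L.cpow ++ L.gens.getD i [], InK (L.K i) g := by
    intro g hg
    rcases List.mem_append.mp hg with hg | hg
    · exact inK_cpow hv (L.c_mem_K i) g hg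
    · exact InK.of_pc (vp_of_getD hv hg) (L.gen_mem_K i hg)
  have hin := InK.evalL hG 15 w idN (InK.idN _)
  rwa [h] at hin

/-- the groups of the lattice are generated by the permutations of the list `c :: gens i` -/
theorem LatD.K_le' (L : LatD) (i : Nat) {K : Subgroup (Perm (Fin 8))}
    (h : ∀ g ∈ L.c :: L.gens.getD i [], pc g ∈ K) : L.K i ≤ K :=
  L.K_le i (h _ List.mem_cons_self) (fun g hg => h g (List.mem_cons_of_mem _ hg))

theorem LatD.K_le_alternating {L : LatD} (hv : validL L = true) (i : Nat)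
    (h : ∀ g ∈ L.c :: L.gens.getD i [], Nat.mod (parN g) 2 = 0) :
    L.K i ≤ alternatingGroup (Fin 8) := by
  apply L.K_le' i
  intro g hg
  rw [Perm.mem_alternatingGroup]
  have hvg : vp g = true := by
    rcases List.mem_cons.mp hg with rfl | hg
    · exact (validL_spec hv).1
    · exact vp_of_getD hv hg
  rw [sign_eq_pow, codeOf_pc hvg]
  exact Even.neg_one_pow (Nat.even_iff.mpr (h g hg))

end Cfsg.Agent.Lib.H27.A8L
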