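import Cfsg.Agent.Lib.H27.A8Tools
set_option autoImplicit false
namespace Cfsg.Agent.Lib.H27.A8L
open Equiv

theorem LatD.vp_of_mem_cons {L : LatD} (hv : validL L = true) {i g : Nat}
    (hg : g ∈ L.c :: L.gens.getD i []) : vp g = true := by
  rcases List.mem_cons.mp hg with rfl | hg
  · exact (validL_spec hv).1
  · exact vp_of_getD hv hg

/-- a group of the lattice normalizing a cyclic group of odd order which it contains is bad -/
theorem LatD.bad_cyclic {L : LatD} (hv : validL L = true) (i : Nat) {r : Nat} (hr : vp r = true)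
    {rp : List Nat} (hrp : ∀ e ∈ rp, InK (Subgroup.zpowers (pc r)) e) (hrK : InK (L.K i) r)
    (hodd : Odd (orderOf (pc r))) (hr1 : pc r ≠ 1)
    (hn : ∀ g ∈ L.c :: L.gens.getD i [],
      cmpN (cmpN g r) (invN g) ∈ rp ∧ cmpN (cmpN (invN g) r) g ∈ rp) : ¬ CoreFree (L.K i) :=
  not_coreFree_of_cyclic (hrK.pc_mem hr) hr1 hodd
    (L.K_le' i fun g hg =>
      mem_normalizer_zpowers_pc (L.vp_of_mem_cons hv hg) hr hrp (hn g hg).1 (hn g hg).2)

/-- a group of the lattice normalizing a nontrivial `2`-group which it contains is bad -/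
theorem LatD.bad_list {L : LatD} (hv : validL L = true) (i : Nat) {l : List Nat} (h1 : idN ∈ l)
    (hmul : ∀ g ∈ l, ∀ h ∈ l, cmpN g h ∈ l) (hsq : ∀ g ∈ l, cmpN g g = idN)
    (hK : ∀ g ∈ l, InK (L.K i) g) (hne : ∃ g ∈ l, g ≠ idN ∧ vp g = true)
    (hn : ∀ g ∈ L.c :: L.gens.getD i [], (∀ e ∈ l, cmpN (cmpN g e) (invN g) ∈ l) ∧
      ∀ e ∈ l, cmpN (cmpN (invN g) e) g ∈ l) : ¬ CoreFree (L.K i) :=
  not_coreFree_of_list h1 hmul hsq hK hne
    (L.K_le' i fun g hg => mem_normalizer_list (L.vp_of_mem_cons hv hg) (hn g hg).1 (hn g hg).2)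

/-- the natural alternating groups of the lattice -/
theorem LatD.OK.natural_alt {L : LatD} (h : L.OK) {tab : List (Nat × List Nat × Nat)}
    (htab : chkJT L tab = true) (i n : Nat)
    (hs : (Finset.univ.filter (fun x : Fin 8 => x.val < n)).card = n)
    (hgens : ∀ g ∈ L.c :: L.gens.getD i [],
      Nat.mod (parN g) 2 = 0 ∧ ∀ x : Fin 8, n ≤ x.val → dg g x = x.val)
    (hall : ∀ t ∈ List.range L.gens.length, ∀ a ∈ (L.gens.getD t []).head?,
      (L.gens.getD t []).length = 1 → (∀ x : Fin 8, n ≤ x.val → dg a x = x.val) →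
      (tab.getD (i * L.gens.length + t) (0, [], 0)).1 = i)
    (hi : i < L.gens.length) : Nonempty (L.K i ≃* alternatingGroup (Fin n)) := by
  classical
  set s : Finset (Fin 8) := Finset.univ.filter (fun x : Fin 8 => x.val < n) with hsdef
  let N : Subgroup (Perm (Fin 8)) :=
    (alternatingGroup ↥s).map (Perm.ofSubtype : Perm ↥s →* Perm (Fin 8))
  have hmem : ∀ σ : Perm (Fin 8), σ ∈ N ↔
      Perm.sign σ = 1 ∧ ∀ x : Fin 8, n ≤ x.val → σ x = x := by
    intro σ
    show σ ∈ (alternatingGroup ↥s).map (Perm.ofSubtype : Perm ↥s →* Perm (Fin 8)) ↔ _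
    rw [alternatingGroup.map_ofSubtype, Subgroup.mem_inf, Perm.mem_range_ofSubtype_iff,
      Perm.mem_alternatingGroup, and_comm]
    refine and_congr_right (fun _ => ?_)
    constructor
    · intro hsub x hx
      by_contra hne
      have : x ∈ s := hsub (by simpa using hne)
      rw [hsdef, Finset.mem_filter] at this
      omega
    · intro hfix x hx
      have hx' : σ x ≠ x := by simpa using hx
      show x ∈ s
      rw [hsdef, Finset.mem_filter]
      refine ⟨Finset.mem_univ _, ?_⟩
      by_contra hlt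
      exact hx' (hfix x (by omega))
  have hpc : ∀ g, vp g = true → (pc g ∈ N ↔
      Perm.sign (pc g) = 1 ∧ ∀ x : Fin 8, n ≤ x.val → dg g x = x.val) := by
    intro g hvg
    rw [hmem]
    refine and_congr_right (fun _ => ?_)
    constructor
    · intro hf x hx
      rw [← pc_apply hvg, hf x hx]
    · intro hf x hx
      apply Fin.ext
      rw [pc_apply hvg, hf x hx]
  have hgN : ∀ g ∈ L.c :: L.gens.getD i [], pc g ∈ N := by
    intro g hg
    have hvg := L.vp_of_mem_cons h.valid hg
    rw [hpc g hvg]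
    refine ⟨?_, (hgens g hg).2⟩
    rw [sign_eq_pow, codeOf_pc hvg]
    exact Even.neg_one_pow (Nat.even_iff.mpr (hgens g hg).1)
  have hNA : N ≤ alternatingGroup (Fin 8) := by
    intro σ hσ
    rw [Perm.mem_alternatingGroup]
    exact ((hmem σ).mp hσ).1
  have hNK : N = L.K i := by
    apply h.identify hNA (hgN _ List.mem_cons_self) i
      (fun g hg => hgN g (List.mem_cons_of_mem _ hg))
    intro t a hta haN
    have hva : vp a = true := vp_of_getD h.valid (i := t) (by rw [hta]; simp)
    have htlt : t < L.gens.length := (mem_gens_of_getD hta (by simp)).2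
    have hfix := ((hpc a hva).mp haN).2
    have hj := hall t (List.mem_range.mpr htlt) a (by rw [hta]; simp) (by rw [hta]; simp) hfix
    exact (chkJ_sound h.valid hta (chkJT_spec htab hi htlt)).2.2.2 hj
  have hcard : Fintype.card ↥s = n := by rw [Fintype.card_coe, hs]
  have e1 : ↥N ≃* alternatingGroup ↥s :=
    ((alternatingGroup ↥s).equivMapOfInjective _ Perm.ofSubtype_injective).symm
  have e2 : alternatingGroup ↥s ≃* alternatingGroup (Fin n) :=
    Equiv.altCongrHom (Fintype.equivFinOfCardEq hcard)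
  exact ⟨(MulEquiv.subgroupCongr hNK.symm).trans (e1.trans e2)⟩

end Cfsg.Agent.Lib.H27.A8L
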