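import Cfsg.Agent.Lib.H27.A8Tools2
set_option autoImplicit false
namespace Cfsg.Agent.Lib.H27.A8L
open Equiv

/-! ### conjugate groups of the lattice -/

theorem pc_conj_eq {g a : Nat} (hg : vp g = true) (ha : vp a = true)
    (hv : vp (cmpN (cmpN g a) (invN g)) = true) :
    pc g * pc a * (pc g)⁻¹ = pc (cmpN (cmpN g a) (invN g)) := by
  apply eq_pc_of_codeOf_eq hv
  rw [codeOf_conj hg, codeOf_pc ha]

theorem LatD.K_conj {L : LatD} (hv : validL L = true) (i i' : Nat) {g : Nat} (hg : vp g = true)
    (hc1 : cmpN (cmpN g L.c) (invN g) ∈ L.cpow)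
    (hc2 : ∃ k : ℕ, (pc g * pc L.c * (pc g)⁻¹) ^ k = pc L.c)
    (hgens : L.gens.getD i' [] = (L.gens.getD i []).map (fun a => cmpN (cmpN g a) (invN g))) :
    L.K i' = (L.K i).map (MulAut.conj (pc g)).toMonoidHom := by
  have hvc := (validL_spec hv).1
  apply le_antisymm
  · apply L.K_le i'
    · obtain ⟨k, hk⟩ := hc2
      rw [← hk]
      refine ⟨(pc L.c) ^ k, Subgroup.pow_mem _ (L.c_mem_K i) k, ?_⟩
      simp [conj_pow]
    · intro a' ha'
      rw [hgens, List.mem_map] at ha'
      obtain ⟨a, ha, rfl⟩ := ha'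
      have hva' : vp (cmpN (cmpN g a) (invN g)) = true := by
        apply vp_of_getD hv (i := i')
        rw [hgens, List.mem_map]
        exact ⟨a, ha, rfl⟩
      refine ⟨pc a, L.gen_mem_K i ha, ?_⟩
      rw [← pc_conj_eq hg (vp_of_getD hv ha) hva']
      rfl
  · rw [Subgroup.map_le_iff_le_comap]
    apply L.K_le i
    · rw [Subgroup.mem_comap]
      have : InK (L.K i') (codeOf (pc g * pc L.c * (pc g)⁻¹)) := by
        rw [codeOf_conj hg, codeOf_pc hvc]
        exact inK_cpow hv (L.c_mem_K i') _ hc1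
      exact this.mem
    · intro a ha
      rw [Subgroup.mem_comap]
      have hmem : cmpN (cmpN g a) (invN g) ∈ L.gens.getD i' [] := by
        rw [hgens, List.mem_map]
        exact ⟨a, ha, rfl⟩
      have := L.gen_mem_K i' hmem
      rw [← pc_conj_eq hg (vp_of_getD hv ha) (vp_of_getD hv hmem)] at this
      exact this

theorem LatD.good_conj {L : LatD} (hv : validL L = true) (i i' : Nat) {g : Nat} (hg : vp g = true)
    (hc1 : cmpN (cmpN g L.c) (invN g) ∈ L.cpow)
    (hc2 : ∃ k : ℕ, (pc g * pc L.c * (pc g)⁻¹) ^ k = pc L.c)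
    (hgens : L.gens.getD i' [] = (L.gens.getD i []).map (fun a => cmpN (cmpN g a) (invN g)))
    (h : Good (L.K i)) : Good (L.K i') := by
  rw [L.K_conj hv i i' hg hc1 hc2 hgens]
  exact Good.of_equiv ((L.K i).equivMapOfInjective _ (MulAut.conj (pc g)).injective).symm h

/-! ### pointwise stabilizers -/

/-- the pointwise stabilizer of a set of points -/
def fixSub (P : Fin 8 → Prop) : Subgroup (Perm (Fin 8)) where
  carrier := {σ | ∀ x, P x → σ x = x}
  mul_mem' := by
    intro a b ha hb x hx
    rw [Perm.mul_apply, hb x hx, ha x hx]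
  one_mem' := fun x _ => rfl
  inv_mem' := by
    intro a ha x hx
    rw [Perm.inv_eq_iff_eq, ha x hx]

theorem mem_fixSub {P : Fin 8 → Prop} {σ : Perm (Fin 8)} : σ ∈ fixSub P ↔ ∀ x, P x → σ x = x :=
  Iff.rfl

theorem eq_one_of_fix_six {k : Perm (Fin 8)} (hs : Perm.sign k = 1)
    (h : ∀ x : Fin 8, x.val < 6 → k x = x) : k = 1 := by
  have hne : ∀ z : Fin 8, 6 ≤ z.val → ∀ y : Fin 8, y.val < 6 → k z ≠ y := by
    intro z hz y hy he
    rw [← h y hy] at he
    have := k.injective he
    rw [this] at hz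
    omega
  have key : ∀ v : Fin 8, (∀ y : Fin 8, y.val < 6 → v ≠ y) → v = 6 ∨ v = 7 := by decide
  have h6 := key (k 6) (hne 6 (by decide))
  have h7 := key (k 7) (hne 7 (by decide))
  have h67 : k 6 ≠ k 7 := fun he => absurd (k.injective he) (by decide)
  rcases h6 with h6 | h6
  · have h7' : k 7 = 7 := by
      rcases h7 with h7 | h7
      · exact absurd (h6.trans h7.symm) h67
      · exact h7
    ext x
    have hx : x.val < 6 ∨ x = 6 ∨ x = 7 := by
      revert x; decide
    rcases hx with hx | rfl | rfl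
    · rw [h x hx]; rfl
    · rw [h6]; rfl
    · rw [h7']; rfl
  · have h7' : k 7 = 6 := by
      rcases h7 with h7 | h7
      · exact h7
      · exact absurd (h6.trans h7.symm) h67
    have hk : k = swap 6 7 := by
      ext x
      have hx : x.val < 6 ∨ x = 6 ∨ x = 7 := by
        revert x; decide
      rcases hx with hx | rfl | rfl
      · rw [h x hx, swap_apply_of_ne_of_ne]
        · intro he; rw [he] at hx; revert hx; decide
        · intro he; rw [he] at hx; revert hx; decide
      · rw [h6, swap_apply_left]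
      · rw [h7', swap_apply_right]
    rw [hk, Perm.sign_swap (by decide)] at hs
    exact absurd hs (by decide)

end Cfsg.Agent.Lib.H27.A8L
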