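import Cfsg.Agent.Lib.H27.A8Tools2
import Cfsg.Agent.Lib.H27.A8Tools3
set_option autoImplicit false
namespace Cfsg.Agent.Lib.H27.A8L
open Equiv

/-- the generating set of a group of the lattice, as a set of `pc`'s of a list -/
theorem LatD.K_eq_closure (L : LatD) (i : Nat) :
    L.K i = Subgroup.closure {σ | ∃ g ∈ L.c :: L.gens.getD i [], σ = pc g} := by
  unfold LatD.K
  congr 1
  ext σ
  simp only [Set.mem_insert_iff, Set.mem_ofPred_eq, List.mem_cons, exists_eq_or_imp]

/-- the symmetric groups of the lattice (twisted by a transposition of `6, 7`) -/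
theorem LatD.twisted_sym {L : LatD} (hv : validL L = true) (i n : Nat) (hn : n + 1 ≤ 8)
    (heven : ∀ g ∈ L.c :: L.gens.getD i [], Nat.mod (parN g) 2 = 0)
    (hpres : ∀ g ∈ L.c :: L.gens.getD i [],
      (∀ j : Fin 8, j.val ≤ n → dg g j ≤ n ∧ dg (invN g) j ≤ n) ∧
      ∀ x : Fin 8, n + 1 ≤ x.val → x.val < 6 → dg g x = x.val)
    (sw : List (Nat × Nat))
    (hsw : ∀ j : Fin n, evalL (L.cpow ++ L.gens.getD i []) 15 (sw.getD j (0, 0)).2 idN =
        (sw.getD j (0, 0)).1 ∧ vp (sw.getD j (0, 0)).1 = true ∧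
        ∀ y : Fin (n + 1), dg (sw.getD j (0, 0)).1 y.val = (swap j.castSucc j.succ y).val) :
    Nonempty (L.K i ≃* Perm (Fin (n + 1))) := by
  have hvg : ∀ g ∈ L.c :: L.gens.getD i [], vp g = true := fun g hg => L.vp_of_mem_cons hv hg
  -- the restriction homomorphism
  have hinv : ∀ k ∈ L.K i, ∀ j : Fin (n + 1), ∃ j' : Fin (n + 1),
      Fin.castLE hn j' = k (Fin.castLE hn j) := by
    rw [L.K_eq_closure]
    apply invariant_of_closure _ (fun (σ : Perm (Fin 8)) y => σ y) (fun _ => rfl)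
      (fun _ _ _ => rfl)
    · rintro _ ⟨g, hg, rfl⟩ j
      have h1 := ((hpres g hg).1 (Fin.castLE hn j) (by simp; omega)).1
      refine ⟨⟨dg g (Fin.castLE hn j), by simp at h1 ⊢; omega⟩, ?_⟩
      apply Fin.ext
      rw [pc_apply (hvg g hg)]
      rfl
    · rintro _ ⟨g, hg, rfl⟩ j
      have h1 := ((hpres g hg).1 (Fin.castLE hn j) (by simp; omega)).2
      refine ⟨⟨dg (invN g) (Fin.castLE hn j), by simp at h1 ⊢; omega⟩, ?_⟩
      apply Fin.ext
      rw [pc_inv_apply (hvg g hg)]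
      rfl
  obtain ⟨ρ, hρ⟩ := exists_action_hom (L.K i) (fun (σ : Perm (Fin 8)) y => σ y) (fun _ => rfl)
    (fun _ _ _ => rfl) (Fin.castLE hn) (Fin.castLE_injective hn) hinv
  have hKA : L.K i ≤ alternatingGroup (Fin 8) := L.K_le_alternating hv i heven
  have hKF : L.K i ≤ fixSub (fun x => n + 1 ≤ x.val ∧ x.val < 6) := by
    apply L.K_le' i
    intro g hg x hx
    apply Fin.ext
    rw [pc_apply (hvg g hg), (hpres g hg).2 x hx.1 hx.2]
  have hinj : Function.Injective ρ := by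
    rw [injective_iff_map_eq_one]
    intro k hk
    apply Subtype.ext
    apply eq_one_of_fix_six (Perm.mem_alternatingGroup.mp (hKA k.2))
    intro x hx
    by_cases hxn : x.val ≤ n
    · have := hρ k ⟨x.val, by omega⟩
      rw [hk] at this
      have e : Fin.castLE hn ⟨x.val, by omega⟩ = x := Fin.ext rfl
      rw [Perm.one_apply, e] at this
      exact this.symm
    · exact hKF k.2 x ⟨by omega, hx⟩
  have hsurj : Function.Surjective ρ := by
    apply surjective_of_swaps
    intro j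
    obtain ⟨h1, h2, h3⟩ := hsw j
    have hk : pc (sw.getD j (0, 0)).1 ∈ L.K i := (L.inK_of_word hv i _ _ h1).pc_mem h2
    refine ⟨⟨_, hk⟩, ?_⟩
    apply Equiv.ext
    intro y
    apply Fin.castLE_injective hn
    rw [hρ]
    apply Fin.ext
    show ((pc (sw.getD j (0, 0)).1 (Fin.castLE hn y) : Fin 8) : ℕ) = _
    rw [pc_apply h2]
    exact h3 y
  exact ⟨MulEquiv.ofBijective ρ ⟨hinj, hsurj⟩⟩

/-- the conjugation action on an invariant list of permutations -/
theorem LatD.conj_hom {L : LatD} (hv : validL L = true) (i : Nat) {m : ℕ} (S : List Nat)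
    (hSlen : S.length = m) (hSv : ∀ s ∈ S, vp s = true) (hSnd : S.Nodup)
    (hinv : ∀ g ∈ L.c :: L.gens.getD i [], (∀ s ∈ S, cmpN (cmpN g s) (invN g) ∈ S) ∧
      ∀ s ∈ S, cmpN (cmpN (invN g) s) g ∈ S) :
    ∃ ρ : L.K i →* Perm (Fin m), ∀ (k : L.K i) (j : Fin m),
      pc (S.getD (ρ k j) 0) = (k : Perm (Fin 8)) * pc (S.getD j 0) * (k : Perm (Fin 8))⁻¹ := by
  have hget : ∀ j : Fin m, S.getD j 0 ∈ S := by
    intro j
    rw [List.getD_eq_getElem _ _ (by rw [hSlen]; exact j.2)]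
    exact List.getElem_mem _
  have hidx : ∀ s ∈ S, ∃ j : Fin m, S.getD j 0 = s := by
    intro s hs
    obtain ⟨k, hk, rfl⟩ := List.getElem_of_mem hs
    exact ⟨⟨k, by rw [← hSlen]; exact hk⟩, List.getD_eq_getElem _ _ hk⟩
  have hxinj : Function.Injective (fun j : Fin m => pc (S.getD j 0)) := by
    intro j j' h
    have h' : S.getD j 0 = S.getD j' 0 := by
      have := congrArg codeOf h
      simp only at this
      rwa [codeOf_pc (hSv _ (hget j)), codeOf_pc (hSv _ (hget j'))] at this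
    rw [List.getD_eq_getElem _ _ (by rw [hSlen]; exact j.2),
      List.getD_eq_getElem _ _ (by rw [hSlen]; exact j'.2)] at h'
    exact Fin.ext ((List.Nodup.getElem_inj_iff hSnd).mp h')
  have hvg : ∀ g ∈ L.c :: L.gens.getD i [], vp g = true := fun g hg => L.vp_of_mem_cons hv hg
  have hinv' : ∀ k ∈ L.K i, ∀ j : Fin m, ∃ j' : Fin m,
      pc (S.getD j' 0) = k * pc (S.getD j 0) * k⁻¹ := by
    rw [L.K_eq_closure]
    apply invariant_of_closure _ (fun (σ y : Perm (Fin 8)) => σ * y * σ⁻¹)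
      (fun y => by simp) (fun a b y => by simp [mul_assoc])
    · rintro _ ⟨g, hg, rfl⟩ j
      have hmem := (hinv g hg).1 _ (hget j)
      obtain ⟨j', hj'⟩ := hidx _ hmem
      refine ⟨j', ?_⟩
      rw [hj']
      exact (pc_conj_eq (hvg g hg) (hSv _ (hget j)) (hSv _ hmem)).symm
    · rintro _ ⟨g, hg, rfl⟩ j
      have hmem := (hinv g hg).2 _ (hget j)
      obtain ⟨j', hj'⟩ := hidx _ hmem
      refine ⟨j', ?_⟩
      rw [hj', inv_inv]
      apply (eq_pc_of_codeOf_eq (hSv _ hmem) _).symm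
      rw [codeOf_conj' (hvg g hg), codeOf_pc (hSv _ (hget j))]
  exact exists_action_hom (L.K i) (fun (σ y : Perm (Fin 8)) => σ * y * σ⁻¹)
    (fun y => by simp) (fun a b y => by simp [mul_assoc]) (fun j : Fin m => pc (S.getD j 0))
    hxinj hinv'

end Cfsg.Agent.Lib.H27.A8L
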