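import Cfsg.Agent.Lib.H27.A8Tools4
import Cfsg.Agent.Lib.H27.A8Enum6
set_option autoImplicit false
namespace Cfsg.Agent.Lib.H27.A8L
open Equiv

/-- the setwise stabilizer of `{6, 7}` -/
def stab67 : Subgroup (Perm (Fin 8)) where
  carrier := {σ | (σ 6 = 6 ∧ σ 7 = 7) ∨ (σ 6 = 7 ∧ σ 7 = 6)}
  mul_mem' := by
    rintro a b (⟨ha6, ha7⟩ | ⟨ha6, ha7⟩) (⟨hb6, hb7⟩ | ⟨hb6, hb7⟩)
    · exact Or.inl ⟨by rw [Perm.mul_apply, hb6, ha6], by rw [Perm.mul_apply, hb7, ha7]⟩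
    · exact Or.inr ⟨by rw [Perm.mul_apply, hb6, ha7], by rw [Perm.mul_apply, hb7, ha6]⟩
    · exact Or.inr ⟨by rw [Perm.mul_apply, hb6, ha6], by rw [Perm.mul_apply, hb7, ha7]⟩
    · exact Or.inl ⟨by rw [Perm.mul_apply, hb6, ha7], by rw [Perm.mul_apply, hb7, ha6]⟩
  one_mem' := Or.inl ⟨rfl, rfl⟩
  inv_mem' := by
    rintro a (⟨ha6, ha7⟩ | ⟨ha6, ha7⟩)
    · exact Or.inl ⟨by rw [Perm.inv_eq_iff_eq, ha6], by rw [Perm.inv_eq_iff_eq, ha7]⟩
    · exact Or.inr ⟨by rw [Perm.inv_eq_iff_eq, ha7], by rw [Perm.inv_eq_iff_eq, ha6]⟩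

theorem mem_stab67 {σ : Perm (Fin 8)} :
    σ ∈ stab67 ↔ (σ 6 = 6 ∧ σ 7 = 7) ∨ (σ 6 = 7 ∧ σ 7 = 6) := Iff.rfl

theorem LatD.K_le_stab67 {L : LatD} (hv : validL L = true) (i : Nat)
    (h : ∀ g ∈ L.c :: L.gens.getD i [],
      (dg g 6 = 6 ∧ dg g 7 = 7) ∨ (dg g 6 = 7 ∧ dg g 7 = 6)) : L.K i ≤ stab67 := by
  apply L.K_le' i
  intro g hg
  have hvg := L.vp_of_mem_cons hv hg
  rw [mem_stab67]
  have e6 : ((pc g 6 : Fin 8) : ℕ) = dg g 6 := pc_apply hvg 6
  have e7 : ((pc g 7 : Fin 8) : ℕ) = dg g 7 := pc_apply hvg 7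
  rcases h g hg with ⟨h6, h7⟩ | ⟨h6, h7⟩
  · exact Or.inl ⟨Fin.ext (by rw [e6, h6]; rfl), Fin.ext (by rw [e7, h7]; rfl)⟩
  · exact Or.inr ⟨Fin.ext (by rw [e6, h6]; rfl), Fin.ext (by rw [e7, h7]; rfl)⟩

/-- the code of the transposition `(6 7)` -/
def sw67 : Nat := 14599816

theorem pc_sw67 : pc sw67 = swap 6 7 := by
  apply Equiv.ext
  intro x
  apply Fin.ext
  rw [pc_apply (by decide +kernel)]
  revert x
  decide +kernel

section ConjHom

variable {K : Subgroup (Perm (Fin 8))} {m : ℕ} (ρ : K →* Perm (Fin m)) (S : List Nat)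
  (hSlen : S.length = m) (hSv : ∀ s ∈ S, vp s = true) (hSnd : S.Nodup)
  (hρ : ∀ (k : K) (j : Fin m),
    pc (S.getD (ρ k j) 0) = (k : Perm (Fin 8)) * pc (S.getD j 0) * (k : Perm (Fin 8))⁻¹)

include hSlen in
theorem getD_mem_of_fin (j : Fin m) : S.getD j 0 ∈ S := by
  rw [List.getD_eq_getElem _ _ (by rw [hSlen]; exact j.2)]
  exact List.getElem_mem _

include hSlen hSnd in
theorem getD_injective : Function.Injective (fun j : Fin m => S.getD j 0) := by
  intro j j' h'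
  simp only at h'
  rw [List.getD_eq_getElem _ _ (by rw [hSlen]; exact j.2),
    List.getD_eq_getElem _ _ (by rw [hSlen]; exact j'.2)] at h'
  exact Fin.ext ((List.Nodup.getElem_inj_iff hSnd).mp h')

include hSlen hSv hSnd hρ in
/-- computing `ρ` on an element given by its code -/
theorem rho_eq {kc : Nat} (hkv : vp kc = true) (hk : pc kc ∈ K) (π : Perm (Fin m))
    (h : ∀ y : Fin m, cmpN (cmpN kc (S.getD y 0)) (invN kc) = S.getD (π y) 0) :
    ρ ⟨pc kc, hk⟩ = π := by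
  apply Equiv.ext
  intro y
  apply getD_injective S hSlen hSnd
  simp only
  have h1 := hρ ⟨pc kc, hk⟩ y
  simp only at h1
  have h2 := congrArg codeOf h1
  rw [codeOf_pc (hSv _ (getD_mem_of_fin S hSlen _)), codeOf_conj hkv,
    codeOf_pc (hSv _ (getD_mem_of_fin S hSlen _)), h y] at h2
  exact h2

include hSlen hSv hρ in
/-- injectivity of the conjugation action -/
theorem conj_injective
    (hcent : goE (chkC S) 0 6 0 (0 + c67) [0, 1, 2, 3, 4, 5] 0 = true)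
    (hKA : K ≤ alternatingGroup (Fin 8)) (hK67 : K ≤ stab67)
    (hS67 : ∀ s ∈ S, cmpN s sw67 = cmpN sw67 s) : Function.Injective ρ := by
  rw [injective_iff_map_eq_one]
  intro k hk
  apply Subtype.ext
  have hcomm : ∀ s ∈ S, (k : Perm (Fin 8)) * pc s = pc s * (k : Perm (Fin 8)) := by
    intro s hs
    obtain ⟨n, hn, rfl⟩ := List.getElem_of_mem hs
    have hn' : n < m := by rw [← hSlen]; exact hn
    have := hρ k ⟨n, hn'⟩
    rw [hk, Perm.one_apply] at this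
    simp only at this
    rw [List.getD_eq_getElem _ _ hn] at this
    calc (k : Perm (Fin 8)) * pc S[n] = ((k : Perm (Fin 8)) * pc S[n] * (k : Perm (Fin 8))⁻¹) * k := by
          group
      _ = pc S[n] * k := by rw [← this]
  rcases mem_stab67.mp (hK67 k.2) with ⟨h6, h7⟩ | ⟨h6, h7⟩
  · exact cent6 hSv hcent _ h6 h7 hcomm
  · exfalso
    have hsw : ∀ s ∈ S, pc s * swap 6 7 = swap 6 7 * pc s := by
      intro s hs
      rw [← pc_sw67]
      apply codeOf_injective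
      rw [codeOf_mul, codeOf_mul, codeOf_pc (hSv s hs), codeOf_pc (by decide +kernel)]
      exact hS67 s hs
    have h1 : (k : Perm (Fin 8)) * swap 6 7 = 1 := by
      apply cent6 hSv hcent
      · rw [Perm.mul_apply, swap_apply_left, h7]
      · rw [Perm.mul_apply, swap_apply_right, h6]
      · intro s hs
        rw [mul_assoc, ← hsw s hs, ← mul_assoc, hcomm s hs, mul_assoc]
    have h2 : (k : Perm (Fin 8)) = swap 6 7 := by
      have := eq_inv_of_mul_eq_one_left h1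
      rwa [swap_inv] at this
    have h3 := Perm.mem_alternatingGroup.mp (hKA k.2)
    rw [h2, Perm.sign_swap (by decide)] at h3
    exact absurd h3 (by decide)

end ConjHom

end Cfsg.Agent.Lib.H27.A8L
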