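import Mathlib
import Cfsg.Prelude.Def_Characters
import Cfsg.Agent.Lib.H23.Ito
import Cfsg.Agent.Lib.H23.CliffordCorr
import Cfsg.Agent.Lib.H8.Clifford

/-!
helper27 library (S4551, piece 2 (CLIFF) of `tools/blueprints/S4551_sigs.lean`): `H ⊴ X` with `X/H` abelian,
`χ ∈ Irr(X)` over `ϑ ∈ Irr(H)` and `χ x ≠ 0` ⟹ `x` fixes `ϑ`.
Proof: the inertia group `T` of `ϑ` contains `H`, hence is normal in `X` (as `X/H` is abelian); by the
Clifford correspondence `χ` is induced from `T`, so it vanishes off `T`.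
-/

set_option autoImplicit false

namespace Cfsg.Agent.Lib.H27.AP

open Cfsg.Agent.Lib.H23 Cfsg.Agent.Lib.L0

theorem inv_of_apply_ne_zero {X : Type*} [Group X] [Fintype X] (H : Subgroup X) [hH : H.Normal] [Fintype H]
    (hab : ∀ a b : X, a * b * a⁻¹ * b⁻¹ ∈ H) (ϑ : H → ℂ) (hϑ : Cfsg.IsIrrCharacter H ϑ) (χ : X → ℂ)
    (hχ : Cfsg.IsIrrCharacter X χ) (hcon : Cfsg.classInner (fun n : H => χ n) ϑ ≠ 0) (x : X) (hx : χ x ≠ 0) :
    ∀ n : H, ϑ ⟨x * n * x⁻¹, hH.conj_mem n n.2 x⟩ = ϑ n := by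
  classical
  have hHT : H ≤ inertia H ϑ :=
    le_inertia H (isClassFunction_of_isCharacter (isCharacter_of_irr hϑ))
  have hTn : (inertia H ϑ).Normal := by
    refine ⟨fun t ht g => ?_⟩
    have h1 : g * t * g⁻¹ = (g * t * g⁻¹ * t⁻¹) * t := by group
    rw [h1]
    exact (inertia H ϑ).mul_mem (hHT (hab g t)) ht
  have : Fintype (inertia H ϑ) := Fintype.ofFinite _
  obtain ⟨ψ, -, hind, -⟩ := clifford_correspondence H (inertia H ϑ) hHT ϑ hϑ
    (fun g => mem_inertia H ϑ g) χ hχ hcon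
  have hxT : x ∈ inertia H ϑ := by
    by_contra hnot
    apply hx
    rw [← hind]
    exact Cfsg.Agent.Lib.H8.indFun_of_not_mem_normal (inertia H ϑ) ψ hnot
  exact (mem_inertia H ϑ x).1 hxT

end Cfsg.Agent.Lib.H27.AP
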