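import Mathlib

/-!
helper27 library: the counting argument for crosses in an abstract even positive definite
lattice of rank 24 without roots and with the vector counts of the Leech lattice: a class of
`ℤ^24` modulo 2 containing a vector of norm 8 contains exactly 48 of them.
-/

set_option autoImplicit false

namespace Cfsg.Agent.Lib.H27.AbstractCross

open Matrix Finset

variable (B : Matrix (Fin 24) (Fin 24) ℤ)

/-- The quadratic form. -/
def q (x : Fin 24 → ℤ) : ℤ := x ⬝ᵥ (B *ᵥ x)

/-- The bilinear form. -/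
def b (x y : Fin 24 → ℤ) : ℤ := x ⬝ᵥ (B *ᵥ y)

theorem bsymm (hsymm : B.IsSymm) (u v : Fin 24 → ℤ) : b B u v = b B v u := by
  unfold b
  rw [Matrix.dotProduct_mulVec, ← Matrix.mulVec_transpose, hsymm.eq, dotProduct_comm]

theorem qsub (hsymm : B.IsSymm) (u v : Fin 24 → ℤ) :
    q B (u - v) = q B u + q B v - 2 * b B u v := by
  have := bsymm B hsymm v u
  unfold q b at *
  rw [Matrix.mulVec_sub, dotProduct_sub, sub_dotProduct, sub_dotProduct, this]
  ring

theorem qadd (hsymm : B.IsSymm) (u v : Fin 24 → ℤ) :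
    q B (u + v) = q B u + q B v + 2 * b B u v := by
  have := bsymm B hsymm v u
  unfold q b at *
  rw [Matrix.mulVec_add, dotProduct_add, add_dotProduct, add_dotProduct, this]
  ring

theorem qtwo (z : Fin 24 → ℤ) : q B ((2 : ℤ) • z) = 4 * q B z := by
  unfold q
  rw [Matrix.mulVec_smul, dotProduct_smul, smul_dotProduct]
  simp only [smul_eq_mul]
  ring

theorem qneg (z : Fin 24 → ℤ) : q B (-z) = q B z := by
  unfold q
  rw [Matrix.mulVec_neg, dotProduct_neg, neg_dotProduct, neg_neg]

theorem qzero : q B 0 = 0 := by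
  unfold q
  simp

section

variable (hsymm : B.IsSymm) (hpos : ∀ x : Fin 24 → ℤ, x ≠ 0 → 0 < x ⬝ᵥ (B *ᵥ x))
  (heven : ∀ x : Fin 24 → ℤ, (2 : ℤ) ∣ x ⬝ᵥ (B *ᵥ x)) (h2 : ∀ x : Fin 24 → ℤ, x ⬝ᵥ (B *ᵥ x) ≠ 2)

include hpos heven h2 in
theorem qge (z : Fin 24 → ℤ) (hz : z ≠ 0) : 4 ≤ q B z := by
  have h1 := hpos z hz
  have h3 := heven z
  have h4 := h2 z
  unfold q
  omega

include hpos heven h2 in
theorem q_cases (x : Fin 24 → ℤ) (hx : q B x ≤ 8) :
    x = 0 ∨ q B x = 4 ∨ q B x = 6 ∨ q B x = 8 := by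
  by_cases h0 : x = 0
  · exact Or.inl h0
  · right
    have h1 := qge B hpos heven h2 x h0
    have h3 := heven x
    unfold q at *
    omega

include hsymm hpos heven h2 in
/-- Distinct short vectors congruent modulo 2 are opposite, or orthogonal of norm 8. -/
theorem short_congr (x y : Fin 24 → ℤ) (hx : q B x ≤ 8) (hy : q B y ≤ 8) (hne : x ≠ y)
    (hc : ∀ i, (2 : ℤ) ∣ (x - y) i) :
    x = -y ∨ (q B x = 8 ∧ q B y = 8 ∧ b B x y = 0) := by
  choose z hz using hc
  have hxy : x - y = (2 : ℤ) • z := by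
    funext i
    rw [hz i]
    simp
  have hz0 : z ≠ 0 := by
    rintro rfl
    rw [smul_zero] at hxy
    exact hne (sub_eq_zero.mp hxy)
  have hxy' : x + y = (2 : ℤ) • (z + y) := by
    have : x = (2 : ℤ) • z + y := by rw [← hxy]; abel
    rw [this, smul_add, two_smul, two_smul]; abel
  by_cases hw0 : z + y = 0
  · left
    rw [hw0, smul_zero] at hxy'
    exact eq_neg_of_add_eq_zero_left hxy'
  · right
    have e1 := qsub B hsymm x y
    have e2 := qadd B hsymm x y
    rw [hxy, qtwo] at e1
    rw [hxy', qtwo] at e2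
    have g1 := qge B hpos heven h2 z hz0
    have g2 := qge B hpos heven h2 (z + y) hw0
    refine ⟨?_, ?_, ?_⟩ <;> omega

end

/-! ### Orthogonal families -/

/-- The form over the rationals. -/
def bQ (x y : Fin 24 → ℚ) : ℚ := x ⬝ᵥ ((B.map (Int.cast : ℤ → ℚ)) *ᵥ y)

theorem bQ_cast (x y : Fin 24 → ℤ) :
    bQ B (fun i => (x i : ℚ)) (fun i => (y i : ℚ)) = ((b B x y : ℤ) : ℚ) := by
  unfold bQ b dotProduct mulVec dotProduct
  push_cast
  rfl

theorem bQ_sum_left {ι : Type*} (s : Finset ι) (f : ι → Fin 24 → ℚ) (y : Fin 24 → ℚ) :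
    bQ B (∑ a ∈ s, f a) y = ∑ a ∈ s, bQ B (f a) y := by
  unfold bQ
  rw [sum_dotProduct]

theorem bQ_smul_left (c : ℚ) (x y : Fin 24 → ℚ) : bQ B (c • x) y = c * bQ B x y := by
  unfold bQ
  rw [smul_dotProduct, smul_eq_mul]

theorem card_le_of_orth (F : Finset (Fin 24 → ℤ)) (h0 : ∀ x ∈ F, q B x ≠ 0)
    (h : ∀ x ∈ F, ∀ y ∈ F, x ≠ y → x = -y ∨ b B x y = 0) : F.card ≤ 48 := by
  classical
  set f : (Fin 24 → ℤ) → Finset (Fin 24 → ℤ) := fun x => {x, -x} with hf
  have hfeq : ∀ x y, f x = f y → y = x ∨ y = -x := by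
    intro x y hxy
    have : y ∈ f x := by rw [hxy, hf]; simp
    rw [hf] at this
    simpa using this
  have h1 : F.card ≤ 2 * (F.image f).card := by
    apply Finset.card_le_mul_card_image
    intro a ha
    rw [Finset.mem_image] at ha
    obtain ⟨x, _, rfl⟩ := ha
    have hsub : F.filter (fun y => f y = f x) ⊆ {x, -x} := by
      intro y hy
      rw [Finset.mem_filter] at hy
      rcases hfeq x y hy.2.symm with h | h <;> simp [h]
    exact (Finset.card_le_card hsub).trans Finset.card_le_two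
  have h2 : (F.image f).card ≤ 24 := by
    have hrep : ∀ a : {a // a ∈ F.image f}, ∃ x ∈ F, f x = a.1 := by
      intro a
      have := a.2
      rw [Finset.mem_image] at this
      exact this
    choose rep hrepF hrepf using hrep
    let v : {a // a ∈ F.image f} → (Fin 24 → ℚ) := fun a => fun i => ((rep a i : ℤ) : ℚ)
    have hli : LinearIndependent ℚ v := by
      rw [Fintype.linearIndependent_iff]
      intro g hg c
      have h3 : bQ B (∑ a, g a • v a) (v c) = 0 := by
        rw [hg]
        unfold bQ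
        simp
      rw [bQ_sum_left] at h3
      have h4 : ∀ a ∈ (Finset.univ : Finset {a // a ∈ F.image f}),
          bQ B (g a • v a) (v c) = if a = c then g c * ((q B (rep c) : ℤ) : ℚ) else 0 := by
        intro a _
        rw [bQ_smul_left]
        show g a * bQ B (fun i => ((rep a i : ℤ) : ℚ)) (fun i => ((rep c i : ℤ) : ℚ)) = _
        rw [bQ_cast]
        by_cases hac : a = c
        · rw [if_pos hac, hac]
          rfl
        · rw [if_neg hac]
          have hne : rep a ≠ rep c := by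
            intro heq
            apply hac
            apply Subtype.ext
            rw [← hrepf a, ← hrepf c, heq]
          rcases h (rep a) (hrepF a) (rep c) (hrepF c) hne with hneg | horth
          · exfalso
            apply hac
            apply Subtype.ext
            rw [← hrepf a, ← hrepf c, hneg, hf]
            simp only [neg_neg]
            exact Finset.pair_comm _ _
          · rw [horth]; simp
      rw [Finset.sum_congr rfl h4, Finset.sum_ite_eq' Finset.univ c] at h3
      simp only [Finset.mem_univ, if_true] at h3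
      have h5 : ((q B (rep c) : ℤ) : ℚ) ≠ 0 := by
        exact_mod_cast h0 (rep c) (hrepF c)
      rcases mul_eq_zero.1 h3 with h6 | h6
      · exact h6
      · exact absurd h6 h5
    have := hli.fintype_card_le_finrank
    rw [Module.finrank_fintype_fun_eq_card, Fintype.card_coe, Fintype.card_fin] at this
    exact this
  omega


/-! ### The counting argument -/

section count

variable (hsymm : B.IsSymm) (hpos : ∀ x : Fin 24 → ℤ, x ≠ 0 → 0 < x ⬝ᵥ (B *ᵥ x))
  (heven : ∀ x : Fin 24 → ℤ, (2 : ℤ) ∣ x ⬝ᵥ (B *ᵥ x)) (h2 : ∀ x : Fin 24 → ℤ, x ⬝ᵥ (B *ᵥ x) ≠ 2)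
  (h4 : {x : Fin 24 → ℤ | x ⬝ᵥ (B *ᵥ x) = 4}.ncard = 196560)
  (h6 : {x : Fin 24 → ℤ | x ⬝ᵥ (B *ᵥ x) = 6}.ncard = 16773120)
  (h8 : {x : Fin 24 → ℤ | x ⬝ᵥ (B *ᵥ x) = 8}.ncard = 398034000)

/-- Vectors of norm `N`. -/
def SN (N : ℤ) : Set (Fin 24 → ℤ) := {x | q B x = N}

include hpos in
theorem SN_zero : SN B 0 = {0} := by
  ext x
  simp only [SN, Set.mem_ofPred_eq, Set.mem_singleton_iff]
  constructor
  · intro h
    by_contra hx
    have := hpos x hx
    unfold q at h
    omega
  · rintro rfl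
    exact qzero B

include hpos h4 h6 h8 in
theorem SN_finite (N : ℤ) (hN : N = 0 ∨ N = 4 ∨ N = 6 ∨ N = 8) : (SN B N).Finite := by
  rcases hN with rfl | rfl | rfl | rfl
  · rw [SN_zero B hpos]; exact Set.finite_singleton _
  · apply Set.finite_of_ncard_ne_zero
    show {x : Fin 24 → ℤ | x ⬝ᵥ (B *ᵥ x) = 4}.ncard ≠ 0
    rw [h4]; norm_num
  · apply Set.finite_of_ncard_ne_zero
    show {x : Fin 24 → ℤ | x ⬝ᵥ (B *ᵥ x) = 6}.ncard ≠ 0
    rw [h6]; norm_num
  · apply Set.finite_of_ncard_ne_zero
    show {x : Fin 24 → ℤ | x ⬝ᵥ (B *ᵥ x) = 8}.ncard ≠ 0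
    rw [h8]; norm_num

/-- Vectors of norm at most 8. -/
def Short : Set (Fin 24 → ℤ) := {x | q B x ≤ 8}

include hpos heven h2 in
theorem Short_eq : Short B = SN B 0 ∪ SN B 4 ∪ SN B 6 ∪ SN B 8 := by
  ext x
  simp only [Short, SN, Set.mem_ofPred_eq, Set.mem_union]
  constructor
  · intro hx
    rcases q_cases B hpos heven h2 x hx with rfl | h | h | h
    · exact Or.inl (Or.inl (Or.inl (qzero B)))
    · exact Or.inl (Or.inl (Or.inr h))
    · exact Or.inl (Or.inr h)
    · exact Or.inr h
  · rintro (((h | h) | h) | h) <;> omega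

include hpos heven h2 h4 h6 h8 in
theorem Short_finite : (Short B).Finite := by
  rw [Short_eq B hpos heven h2]
  exact (((SN_finite B hpos h4 h6 h8 0 (by simp)).union (SN_finite B hpos h4 h6 h8 4 (by simp))).union
    (SN_finite B hpos h4 h6 h8 6 (by simp))).union (SN_finite B hpos h4 h6 h8 8 (by simp))

/-- The weight of a short vector in the counting argument. -/
def wt (x : Fin 24 → ℤ) : ℕ :=
  48 * (if q B x = 0 then 1 else 0) + 24 * (if q B x = 4 then 1 else 0)
    + 24 * (if q B x = 6 then 1 else 0) + (if q B x = 8 then 1 else 0)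

theorem wt_of_norm_8 {x : Fin 24 → ℤ} (h : q B x = 8) : wt B x = 1 := by
  unfold wt; rw [h]; norm_num

/-- The class of a vector modulo 2. -/
def cls (x : Fin 24 → ℤ) : Fin 24 → ZMod 2 := fun i => (x i : ZMod 2)

theorem cls_eq_iff (x y : Fin 24 → ℤ) : cls x = cls y ↔ ∀ i, (2 : ℤ) ∣ (x - y) i := by
  unfold cls
  constructor
  · intro h i
    have : ((x i : ℤ) : ZMod 2) = ((y i : ℤ) : ZMod 2) := congrFun h i
    rw [Pi.sub_apply]
    have h' : ((x i - y i : ℤ) : ZMod 2) = 0 := by
      push_cast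
      rw [this, sub_self]
    exact (ZMod.intCast_zmod_eq_zero_iff_dvd _ 2).1 h'
  · intro h
    funext i
    have := (ZMod.intCast_zmod_eq_zero_iff_dvd _ 2).2 (h i)
    rw [Pi.sub_apply] at this
    push_cast at this
    exact sub_eq_zero.1 this

variable (F : Finset (Fin 24 → ℤ)) (hF : ∀ x, x ∈ F ↔ q B x ≤ 8)

include hpos h4 h6 h8 hF in
theorem sum_wt : ∑ x ∈ F, wt B x = 48 * 2 ^ 24 := by
  have hcard : ∀ N : ℤ, N ≤ 8 → (F.filter (fun x => q B x = N)).card = (SN B N).ncard := by
    intro N hN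
    rw [← Set.ncard_coe_finset]
    congr 1
    ext x
    simp only [Finset.coe_filter, Set.mem_ofPred_eq, SN, hF]
    constructor
    · rintro ⟨_, h⟩; exact h
    · intro h; exact ⟨by omega, h⟩
  unfold wt
  rw [Finset.sum_add_distrib, Finset.sum_add_distrib, Finset.sum_add_distrib,
    ← Finset.mul_sum, ← Finset.mul_sum, ← Finset.mul_sum,
    Finset.sum_boole, Finset.sum_boole, Finset.sum_boole, Finset.sum_boole]
  simp only [Nat.cast_id]
  rw [hcard 0 (by norm_num), hcard 4 (by norm_num), hcard 6 (by norm_num), hcard 8 (by norm_num)]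
  have e0 : (SN B 0).ncard = 1 := by rw [SN_zero B hpos]; exact Set.ncard_singleton _
  have e4 : (SN B 4).ncard = 196560 := h4
  have e6 : (SN B 6).ncard = 16773120 := h6
  have e8 : (SN B 8).ncard = 398034000 := h8
  rw [e0, e4, e6, e8]
  norm_num

/-- The short vectors in a class. -/
def fib (c : Fin 24 → ZMod 2) : Finset (Fin 24 → ℤ) := F.filter (fun x => cls x = c)

include hF in
theorem mem_fib {c : Fin 24 → ZMod 2} {x : Fin 24 → ℤ} :
    x ∈ fib F c ↔ q B x ≤ 8 ∧ cls x = c := by
  unfold fib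
  rw [Finset.mem_filter, hF]

include hsymm hpos heven h2 hF in
theorem fib_pair {c : Fin 24 → ZMod 2} {x y : Fin 24 → ℤ} (hx : x ∈ fib F c) (hy : y ∈ fib F c)
    (hne : x ≠ y) : x = -y ∨ (q B x = 8 ∧ q B y = 8 ∧ b B x y = 0) := by
  rw [mem_fib B F hF] at hx hy
  apply short_congr B hsymm hpos heven h2 x y hx.1 hy.1 hne
  rw [← cls_eq_iff, hx.2, hy.2]

include hsymm hpos heven h2 hF in
theorem sum_fib_le (c : Fin 24 → ZMod 2) : ∑ x ∈ fib F c, wt B x ≤ 48 := by
  classical
  by_cases hA : ∃ y ∈ fib F c, q B y ≠ 8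
  · obtain ⟨y, hy, hy8⟩ := hA
    have hsub : fib F c ⊆ {y, -y} := by
      intro x hx
      by_cases hxy : x = y
      · simp [hxy]
      · rcases fib_pair B hsymm hpos heven h2 F hF hx hy hxy with h | ⟨_, h, _⟩
        · simp [h]
        · exact absurd h hy8
    have hyL := (mem_fib B F hF).1 hy
    calc ∑ x ∈ fib F c, wt B x ≤ ∑ x ∈ ({y, -y} : Finset (Fin 24 → ℤ)), wt B x :=
          Finset.sum_le_sum_of_subset hsub
      _ ≤ 48 := by
        rcases q_cases B hpos heven h2 y hyL.1 with rfl | h | h | h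
        · simp [wt, qzero]
        · have hne : y ≠ -y := by
            intro he
            have h0 : y = 0 := by
              funext i
              have := congrFun he i
              simp only [Pi.neg_apply, Pi.zero_apply] at this ⊢
              omega
            rw [h0, qzero] at h
            omega
          rw [Finset.sum_pair hne]
          simp [wt, qneg, h]
        · have hne : y ≠ -y := by
            intro he
            have h0 : y = 0 := by
              funext i
              have := congrFun he i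
              simp only [Pi.neg_apply, Pi.zero_apply] at this ⊢
              omega
            rw [h0, qzero] at h
            omega
          rw [Finset.sum_pair hne]
          simp [wt, qneg, h]
        · exact absurd h hy8
  · push Not at hA
    rw [Finset.sum_congr rfl (fun x hx => wt_of_norm_8 B (hA x hx))]
    rw [Finset.sum_const, smul_eq_mul, mul_one]
    apply card_le_of_orth B (fib F c)
    · intro x hx
      rw [hA x hx]; norm_num
    · intro x hx y hy hne
      rcases fib_pair B hsymm hpos heven h2 F hF hx hy hne with h | ⟨_, _, h⟩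
      · exact Or.inl h
      · exact Or.inr h

include hsymm hpos heven h2 h4 h6 h8 hF in
theorem sum_fib_eq (c : Fin 24 → ZMod 2) : ∑ x ∈ fib F c, wt B x = 48 := by
  have hcard : Fintype.card (Fin 24 → ZMod 2) = 2 ^ 24 := by
    rw [Fintype.card_fun, ZMod.card, Fintype.card_fin]
  have h1 : ∑ c : Fin 24 → ZMod 2, ∑ x ∈ fib F c, wt B x = ∑ _c : Fin 24 → ZMod 2, 48 := by
    unfold fib
    rw [Finset.sum_fiberwise, sum_wt B hpos h4 h6 h8 F hF, Finset.sum_const,
      Finset.card_univ, hcard, smul_eq_mul]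
    ring
  exact (Finset.sum_eq_sum_iff_of_le
    (fun c _ => sum_fib_le B hsymm hpos heven h2 F hF c)).1 h1 c (Finset.mem_univ c)

include hsymm hpos heven h2 h4 h6 h8 in
/-- The class modulo 2 of a vector of norm 8 contains exactly 48 vectors of norm 8. -/
theorem ncard_cross (x : Fin 24 → ℤ) (hx : x ⬝ᵥ (B *ᵥ x) = 8) :
    {y : Fin 24 → ℤ | y ⬝ᵥ (B *ᵥ y) = 8 ∧ ∀ i, (2 : ℤ) ∣ (x - y) i}.ncard = 48 := by
  classical
  set F : Finset (Fin 24 → ℤ) := (Short_finite B hpos heven h2 h4 h6 h8).toFinset with hFdef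
  have hF : ∀ x, x ∈ F ↔ q B x ≤ 8 := by
    intro x
    rw [hFdef, Set.Finite.mem_toFinset]
    rfl
  have hxq : q B x = 8 := hx
  have hxf : x ∈ fib F (cls x) := (mem_fib B F hF).2 ⟨by omega, rfl⟩
  have hall : ∀ y ∈ fib F (cls x), q B y = 8 := by
    intro y hy
    by_cases hxy : x = y
    · rw [← hxy]; exact hxq
    · rcases fib_pair B hsymm hpos heven h2 F hF hxf hy hxy with h | ⟨_, h, _⟩
      · have : y = -x := by rw [h, neg_neg]
        rw [this, qneg]; exact hxq
      · exact h
  have h := sum_fib_eq B hsymm hpos heven h2 h4 h6 h8 F hF (cls x)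
  rw [Finset.sum_congr rfl (fun y hy => wt_of_norm_8 B (hall y hy)), Finset.sum_const, smul_eq_mul,
    mul_one] at h
  rw [← h, ← Set.ncard_coe_finset]
  congr 1
  ext y
  simp only [Set.mem_ofPred_eq, Finset.mem_coe]
  rw [mem_fib B F hF, ← cls_eq_iff]
  constructor
  · rintro ⟨hy, hc⟩
    exact ⟨by unfold q; omega, hc.symm⟩
  · rintro ⟨hy, hc⟩
    exact ⟨hall y ((mem_fib B F hF).2 ⟨hy, hc⟩), hc.symm⟩

end count

end Cfsg.Agent.Lib.H27.AbstractCross
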