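/-
helper27: SP2-E1 of the symplectic phase-2 farm-out (helper9, tools/blueprints/SP2_sigs.lean):
over `F₂` the stabiliser of a non-degenerate decomposition into 2-dimensional blocks preserves a quadratic form
whose polar form is the symplectic form.
-/
import Cfsg.Agent.Lib.H11.AschSDefs
import Cfsg.Agent.Lib.H11.SimMax5
import Cfsg.Agent.Lib.H2.AschP2E5

set_option autoImplicit false

namespace Cfsg.Agent.Lib.H27.AschSP2

open Cfsg Cfsg.Geo Cfsg.Agent.Lib.Lead.Asch Cfsg.Agent.Lib.H11.AschS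
open Cfsg.Agent.Lib.H2.AschP2 (eq_zero_or_one_of_card_two two_eq_zero_of_card_two)
open scoped MatrixGroups Matrix Kronecker

variable {F : Type*} [Field F]

section bil

variable {ι : Type} {κ : Type*}

theorem bil_zero_left {f : (ι → F) → (ι → F) → F} (hf : IsBilinearForm f) (w : ι → F) : f 0 w = 0 := by
  have := hf.smul_left 0 0 w
  rwa [zero_smul, zero_mul] at this

theorem bil_zero_right {f : (ι → F) → (ι → F) → F} (hf : IsBilinearForm f) (w : ι → F) : f w 0 = 0 := by
  have := hf.smul_right 0 w 0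
  rwa [zero_smul, zero_mul] at this

theorem bil_sum_left {f : (ι → F) → (ι → F) → F} (hf : IsBilinearForm f) (s : Finset κ) (c : κ → F)
    (x : κ → ι → F) (w : ι → F) : f (∑ a ∈ s, c a • x a) w = ∑ a ∈ s, c a * f (x a) w := by
  classical
  induction s using Finset.induction_on with
  | empty => simp [bil_zero_left hf]
  | insert a s ha ih =>
    rw [Finset.sum_insert ha, Finset.sum_insert ha, hf.add_left, hf.smul_left, ih]

theorem bil_sum_right {f : (ι → F) → (ι → F) → F} (hf : IsBilinearForm f) (s : Finset κ) (c : κ → F)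
    (x : κ → ι → F) (w : ι → F) : f w (∑ a ∈ s, c a • x a) = ∑ a ∈ s, c a * f w (x a) := by
  classical
  induction s using Finset.induction_on with
  | empty => simp [bil_zero_right hf]
  | insert a s ha ih =>
    rw [Finset.sum_insert ha, Finset.sum_insert ha, hf.add_right, hf.smul_right, ih]

end bil

variable [Fintype F] {m : ℕ}

/-- **SP2-E1**. -/
theorem c2a_two_q2 {t : ℕ} (D : Fin t → Submodule F (Fin m ⊕ Fin m → F))
    (hD : IsNondegenerateMDecomposition (sympForm m F) 2 D) (hq : Fintype.card F = 2) :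
    ∃ Q : (Fin m ⊕ Fin m → F) → F, IsNondegenerateQuadraticForm Q ∧
      (∀ u v, QuadraticMap.polar Q u v = sympForm m F u v) ∧
      decompositionStabilizer D ≤ quadSimilarityGroup Q := by
  classical
  have h2 : (2 : F) = 0 := two_eq_zero_of_card_two hq
  have h01 := eq_zero_or_one_of_card_two hq
  have hneg : ∀ a : F, -a = a := by
    intro a
    linear_combination (-a) * h2
  have hS := Cfsg.Agent.Lib.H11.SimMax.sympForm_isSymplectic F m
  have hSb := hS.bilinear
  have hint := DirectSum.isInternal_submodule_of_iSupIndep_of_iSup_eq_top hD.decomp.indep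
    hD.decomp.iSup_eq_top
  let b : ∀ i, Module.Basis (Fin 2) F (D i) := fun i =>
    Module.finBasisOfFinrankEq F (D i) (hD.decomp.finrank_eq i)
  let B := hint.collectedBasis b
  have hBmem : ∀ (i : Fin t) (k : Fin 2), B ⟨i, k⟩ ∈ D i := fun i k =>
    hint.collectedBasis_mem b ⟨i, k⟩
  have n01 : ∀ i : Fin t, ¬ ((⟨i, 0⟩ : (_ : Fin t) × Fin 2) = ⟨i, 1⟩) := by
    intro i h
    have := eq_of_heq (Sigma.mk.inj h).2
    exact absurd this (by decide)
  have n10 : ∀ i : Fin t, ¬ ((⟨i, 1⟩ : (_ : Fin t) × Fin 2) = ⟨i, 0⟩) := fun i h => n01 i h.symm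
  have hk01 : ∀ k : Fin 2, k = 0 ∨ k = 1 := by
    intro k
    rcases k with ⟨k, hk⟩
    interval_cases k
    · left; rfl
    · right; rfl
  -- Gram values
  have g_ne : ∀ (i j : Fin t) (k l : Fin 2), i ≠ j → sympForm m F (B ⟨i, k⟩) (B ⟨j, l⟩) = 0 :=
    fun i j k l hij => hD.orthogonal i j hij _ (hBmem i k) _ (hBmem j l)
  have g_self : ∀ a, sympForm m F (B a) (B a) = 0 := fun a => hS.alternating _
  have g10 : ∀ i : Fin t, sympForm m F (B ⟨i, 1⟩) (B ⟨i, 0⟩) = 1 := by
    intro i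
    have hne : B ⟨i, 0⟩ ≠ 0 := B.ne_zero _
    obtain ⟨⟨x, hx, hxw⟩, -⟩ := hD.nondegenerate i (B ⟨i, 0⟩) (hBmem i 0) hne
    have hxsum : x = ∑ a, B.repr x a • B a := (B.sum_repr x).symm
    rw [hxsum, bil_sum_left hSb, Finset.sum_eq_single (⟨i, 1⟩ : (_ : Fin t) × Fin 2)] at hxw
    · rcases h01 (sympForm m F (B ⟨i, 1⟩) (B ⟨i, 0⟩)) with h | h
      · rw [h, mul_zero] at hxw; exact absurd rfl hxw
      · exact h
    · rintro ⟨j, l⟩ _ hjl
      by_cases hji : j = i
      · subst hji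
        rcases hk01 l with rfl | rfl
        · rw [g_self, mul_zero]
        · exact absurd rfl hjl
      · rw [g_ne j i l 0 hji, mul_zero]
    · intro h; exact absurd (Finset.mem_univ _) h
  have g01 : ∀ i : Fin t, sympForm m F (B ⟨i, 0⟩) (B ⟨i, 1⟩) = 1 := by
    intro i
    rw [hS.skew, g10, hneg]
  -- coordinates through the form
  have hco0 : ∀ (v : Fin m ⊕ Fin m → F) (i : Fin t), sympForm m F v (B ⟨i, 1⟩) = B.repr v ⟨i, 0⟩ := by
    intro v i
    have hv : v = ∑ a, B.repr v a • B a := (B.sum_repr v).symm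
    conv_lhs => rw [hv]
    rw [bil_sum_left hSb, Finset.sum_eq_single (⟨i, 0⟩ : (_ : Fin t) × Fin 2)]
    · rw [g01, mul_one]
    · rintro ⟨j, l⟩ _ hjl
      by_cases hji : j = i
      · subst hji
        rcases hk01 l with rfl | rfl
        · exact absurd rfl hjl
        · rw [g_self, mul_zero]
      · rw [g_ne j i l 1 hji, mul_zero]
    · intro h; exact absurd (Finset.mem_univ _) h
  have hco1 : ∀ (v : Fin m ⊕ Fin m → F) (i : Fin t), sympForm m F v (B ⟨i, 0⟩) = B.repr v ⟨i, 1⟩ := by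
    intro v i
    have hv : v = ∑ a, B.repr v a • B a := (B.sum_repr v).symm
    conv_lhs => rw [hv]
    rw [bil_sum_left hSb, Finset.sum_eq_single (⟨i, 1⟩ : (_ : Fin t) × Fin 2)]
    · rw [g10, mul_one]
    · rintro ⟨j, l⟩ _ hjl
      by_cases hji : j = i
      · subst hji
        rcases hk01 l with rfl | rfl
        · rw [g_self, mul_zero]
        · exact absurd rfl hjl
      · rw [g_ne j i l 0 hji, mul_zero]
    · intro h; exact absurd (Finset.mem_univ _) h
  have hexp : ∀ u v : Fin m ⊕ Fin m → F, sympForm m F u v =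
      ∑ i : Fin t, (B.repr u ⟨i, 0⟩ * B.repr v ⟨i, 1⟩ + B.repr u ⟨i, 1⟩ * B.repr v ⟨i, 0⟩) := by
    intro u v
    have hv : v = ∑ a, B.repr v a • B a := (B.sum_repr v).symm
    conv_lhs => rw [hv]
    rw [bil_sum_right hSb, Fintype.sum_sigma]
    refine Finset.sum_congr rfl fun i _ => ?_
    rw [Fin.sum_univ_two, hco0, hco1]
    ring
  let Q : (Fin m ⊕ Fin m → F) → F := fun v =>
    ∑ i : Fin t, (B.repr v ⟨i, 0⟩ ^ 2 + B.repr v ⟨i, 0⟩ * B.repr v ⟨i, 1⟩ + B.repr v ⟨i, 1⟩ ^ 2)
  have hQdef : ∀ v, Q v =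
    ∑ i : Fin t, (B.repr v ⟨i, 0⟩ ^ 2 + B.repr v ⟨i, 0⟩ * B.repr v ⟨i, 1⟩ + B.repr v ⟨i, 1⟩ ^ 2) :=
    fun _ => rfl
  have hpol : ∀ u v, QuadraticMap.polar Q u v = sympForm m F u v := by
    intro u v
    unfold QuadraticMap.polar
    rw [hexp, hQdef, hQdef, hQdef, ← Finset.sum_sub_distrib, ← Finset.sum_sub_distrib]
    refine Finset.sum_congr rfl fun i _ => ?_
    rw [map_add, Finsupp.add_apply, Finsupp.add_apply]
    linear_combination (B.repr u ⟨i, 0⟩ * B.repr v ⟨i, 0⟩ + B.repr u ⟨i, 1⟩ * B.repr v ⟨i, 1⟩) * h2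
  have hpolfun : QuadraticMap.polar Q = sympForm m F := by
    funext u v
    exact hpol u v
  refine ⟨Q, ⟨?_, ?_, ?_⟩, hpol, ?_⟩
  · intro c v
    rw [hQdef, hQdef, Finset.mul_sum]
    refine Finset.sum_congr rfl fun i _ => ?_
    rw [map_smul, Finsupp.smul_apply, Finsupp.smul_apply, smul_eq_mul, smul_eq_mul]
    ring
  · rw [hpolfun]; exact hSb
  · rw [hpolfun]; exact hS.nondegenerate
  · -- invariance
    intro g hg
    obtain ⟨σ, hσ⟩ := hg
    refine ⟨1, fun u => ?_⟩
    rw [Units.val_one, one_mul]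
    set L : (Fin m ⊕ Fin m → F) →ₗ[F] (Fin m ⊕ Fin m → F) :=
      Matrix.toLin' (g : Matrix (Fin m ⊕ Fin m) (Fin m ⊕ Fin m) F) with hL
    have hLapp : ∀ w, (g : Matrix (Fin m ⊕ Fin m) (Fin m ⊕ Fin m) F) *ᵥ w = L w := fun w => by
      rw [hL, Matrix.toLin'_apply]
    have hLmem : ∀ (i : Fin t) (w : Fin m ⊕ Fin m → F), w ∈ D i → L w ∈ D (σ i) := by
      intro i w hw
      rw [← hσ i]
      exact ⟨w, hw, rfl⟩
    let C : Fin t → Fin 2 → Fin 2 → F := fun i l k => B.repr (L (B ⟨i, k⟩)) ⟨σ i, l⟩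
    have key : ∀ (u : Fin m ⊕ Fin m → F) (i : Fin t) (l : Fin 2),
        B.repr (L u) ⟨σ i, l⟩ = C i l 0 * B.repr u ⟨i, 0⟩ + C i l 1 * B.repr u ⟨i, 1⟩ := by
      intro u i l
      have hu : u = ∑ a, B.repr u a • B a := (B.sum_repr u).symm
      conv_lhs => rw [hu]
      rw [map_sum, map_sum, Finsupp.finsetSum_apply, Fintype.sum_sigma]
      rw [Finset.sum_eq_single i]
      · rw [Fin.sum_univ_two]
        simp only [map_smul, Finsupp.smul_apply, smul_eq_mul]
        show _ = B.repr (L (B ⟨i, 0⟩)) ⟨σ i, l⟩ * _ + B.repr (L (B ⟨i, 1⟩)) ⟨σ i, l⟩ * _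
        ring
      · intro j _ hji
        refine Finset.sum_eq_zero fun k _ => ?_
        simp only [map_smul, Finsupp.smul_apply, smul_eq_mul]
        have hne : σ j ≠ σ i := fun h => hji (σ.injective h)
        have := hint.collectedBasis_repr_of_mem_ne b (x := L (B ⟨j, k⟩)) (i := σ j) (j := σ i) (a := l)
          hne (hLmem j _ (hBmem j k))
        show _ * B.repr (L (B ⟨j, k⟩)) ⟨σ i, l⟩ = 0
        rw [this, mul_zero]
      · intro h; exact absurd (Finset.mem_univ i) h
    have hinj : ∀ w, L w = 0 → w = 0 := by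
      intro w hw
      have h1 : ((g⁻¹ : GL (Fin m ⊕ Fin m) F) : Matrix (Fin m ⊕ Fin m) (Fin m ⊕ Fin m) F) *ᵥ
          ((g : Matrix (Fin m ⊕ Fin m) (Fin m ⊕ Fin m) F) *ᵥ w) = w := by
        rw [Matrix.mulVec_mulVec, ← Units.val_mul, inv_mul_cancel, Units.val_one, Matrix.one_mulVec]
      rw [hLapp, hw, Matrix.mulVec_zero] at h1
      exact h1.symm
    have hker : ∀ (i : Fin t) (α β : F), C i 0 0 * α + C i 0 1 * β = 0 → C i 1 0 * α + C i 1 1 * β = 0 →
        α = 0 ∧ β = 0 := by
      intro i α β e0 e1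
      set w : Fin m ⊕ Fin m → F := α • B ⟨i, 0⟩ + β • B ⟨i, 1⟩ with hw
      have hwrepr : ∀ a, B.repr w a = α * (Finsupp.single (⟨i, 0⟩ : (_ : Fin t) × Fin 2) (1 : F)) a
          + β * (Finsupp.single (⟨i, 1⟩ : (_ : Fin t) × Fin 2) (1 : F)) a := by
        intro a
        rw [hw, map_add, map_smul, map_smul, Module.Basis.repr_self, Module.Basis.repr_self,
          Finsupp.add_apply, Finsupp.smul_apply, Finsupp.smul_apply, smul_eq_mul, smul_eq_mul]
      have hw0 : L w = 0 := by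
        apply B.repr.injective
        rw [map_zero]
        ext a
        obtain ⟨j, l⟩ := a
        obtain ⟨i', rfl⟩ : ∃ i', σ i' = j := ⟨σ.symm j, by simp⟩
        rw [key, hwrepr, hwrepr, Finsupp.zero_apply]
        by_cases hii : i' = i
        · subst hii
          rw [Finsupp.single_apply, Finsupp.single_apply, Finsupp.single_apply, Finsupp.single_apply,
            if_pos rfl, if_neg (n10 i'), if_neg (n01 i'), if_pos rfl]
          rcases hk01 l with rfl | rfl
          · linear_combination e0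
          · linear_combination e1
        · have m0 : ∀ k k' : Fin 2, ¬ ((⟨i, k⟩ : (_ : Fin t) × Fin 2) = ⟨i', k'⟩) := by
            intro k k' h
            exact hii (congrArg Sigma.fst h).symm
          rw [Finsupp.single_apply, Finsupp.single_apply, Finsupp.single_apply, Finsupp.single_apply,
            if_neg (m0 0 0), if_neg (m0 1 0), if_neg (m0 0 1), if_neg (m0 1 1)]
          ring
      have hwz := hinj w hw0
      have ha := hwrepr ⟨i, 0⟩
      have hb := hwrepr ⟨i, 1⟩
      rw [hwz, map_zero, Finsupp.zero_apply, Finsupp.single_apply, Finsupp.single_apply,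
        if_pos rfl, if_neg (n10 i)] at ha
      rw [hwz, map_zero, Finsupp.zero_apply, Finsupp.single_apply, Finsupp.single_apply,
        if_neg (n01 i), if_pos rfl] at hb
      constructor
      · linear_combination -ha
      · linear_combination -hb
    have hdet : ∀ i, C i 0 0 * C i 1 1 + C i 0 1 * C i 1 0 = 1 := by
      intro i
      rcases h01 (C i 0 0 * C i 1 1 + C i 0 1 * C i 1 0) with hd | hd
      swap
      · exact hd
      exfalso
      have k1 := hker i (C i 1 1) (C i 1 0) (by linear_combination hd)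
        (by linear_combination (C i 1 0 * C i 1 1) * h2)
      have k2 := hker i (C i 0 1) (C i 0 0) (by linear_combination (C i 0 0 * C i 0 1) * h2)
        (by linear_combination hd)
      have k3 := hker i 1 0 (by rw [k2.2]; ring) (by rw [k1.2]; ring)
      exact one_ne_zero k3.1
    -- the value of `x² + x y + y²` at a non-zero pair
    have hq1 : ∀ x y : F, ¬ (x = 0 ∧ y = 0) → x ^ 2 + x * y + y ^ 2 = 1 := by
      intro x y hxy
      rcases h01 x with rfl | rfl <;> rcases h01 y with rfl | rfl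
      · exact absurd ⟨rfl, rfl⟩ hxy
      · ring
      · ring
      · linear_combination h2
    have hc0 : ∀ i, C i 0 0 ^ 2 + C i 0 0 * C i 1 0 + C i 1 0 ^ 2 = 1 := by
      intro i
      apply hq1
      rintro ⟨e0, e1⟩
      have := hker i 1 0 (by rw [e0]; ring) (by rw [e1]; ring)
      exact one_ne_zero this.1
    have hc1 : ∀ i, C i 0 1 ^ 2 + C i 0 1 * C i 1 1 + C i 1 1 ^ 2 = 1 := by
      intro i
      apply hq1
      rintro ⟨e0, e1⟩
      have := hker i 0 1 (by rw [e0]; ring) (by rw [e1]; ring)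
      exact one_ne_zero this.2
    rw [hQdef, hQdef, ← Equiv.sum_comp σ]
    refine Finset.sum_congr rfl fun i _ => ?_
    rw [hLapp, key u i 0, key u i 1]
    linear_combination (B.repr u ⟨i, 0⟩ ^ 2) * hc0 i + (B.repr u ⟨i, 1⟩ ^ 2) * hc1 i
      + (B.repr u ⟨i, 0⟩ * B.repr u ⟨i, 1⟩) * hdet i
      + (C i 0 0 * C i 0 1 * B.repr u ⟨i, 0⟩ * B.repr u ⟨i, 1⟩
        + C i 1 0 * C i 1 1 * B.repr u ⟨i, 0⟩ * B.repr u ⟨i, 1⟩) * h2

end Cfsg.Agent.Lib.H27.AschSP2
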