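/-
helper27 library: abstract rigidity arguments for automorphism groups, third part.  The variant of
`inner_of_pin` in which some element centralizing `d` inverts `s` (so that the images `s` and `s⁻¹` of `s` need
not be distinguished), and automorphisms of a subgroup given as a closure.
-/
import Mathlib
import Cfsg.Agent.Lib.H27.AutRigid2

set_option autoImplicit false

namespace Cfsg.Agent.Lib.H27

namespace AutRigid

variable {G : Type*} [Group G]

/-- The normal form of an automorphism up to inner automorphisms: generators `s, d, u`, where `h` inverts `s`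
and centralizes `d`. -/
theorem pin_all_inv (s d u y h : G) (n a c0 b : ℕ)
    (hA1 : ∀ x : G, orderOf x = orderOf s → ∃ k : G, k * x * k⁻¹ = s ∨ k * x * k⁻¹ = s⁻¹)
    (hA2 : ∀ c : G, c * s = s * c → ∃ m : ℤ, c = s ^ m)
    (hA3 : ∀ c : G, c * d = d * c → ∃ j < n, c = y ^ j)
    (hds : d * s * d⁻¹ = s ^ a) (hc0 : s ^ (c0 + a) = s ^ (a * c0)) (hud : u * d * u⁻¹ = d ^ b)
    (hhs : h * s * h⁻¹ = s⁻¹) (hhd : h * d * h⁻¹ = d)
    (rels : List (List ℕ × ℕ))
    (hrel0 : ∀ r ∈ rels, (evalPat (fun i => [s, d, u].getD i 1) r.1) ^ r.2 = 1)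
    (φ : MulAut G) :
    ∃ k : G, ∃ j < n,
      (MulAut.conj k * φ) s = s ∧ (MulAut.conj k * φ) d = d ∧ (MulAut.conj k * φ) u = u * y ^ j ∧
      ∀ r ∈ rels, (evalPat (fun i => [s, d, u * y ^ j].getD i 1) r.1) ^ r.2 = 1 := by
  obtain ⟨k0, hks0, hkd0⟩ := pin_sd' s d a c0 hA1 hA2 hds hc0 φ
  obtain ⟨k, hks, hkd⟩ : ∃ k : G, k * φ s * k⁻¹ = s ∧ k * φ d * k⁻¹ = d := by
    rcases hks0 with h0 | h0
    · exact ⟨k0, h0, hkd0⟩
    · refine ⟨h * k0, ?_, ?_⟩
      · have e : h * k0 * φ s * (h * k0)⁻¹ = h * (k0 * φ s * k0⁻¹) * h⁻¹ := by group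
        rw [e, h0]
        have e2 : h * s⁻¹ * h⁻¹ = (h * s * h⁻¹)⁻¹ := by group
        rw [e2, hhs, inv_inv]
      · have e : h * k0 * φ d * (h * k0)⁻¹ = h * (k0 * φ d * k0⁻¹) * h⁻¹ := by group
        rw [e, hkd0, hhd]
  obtain ⟨ψ, hψ⟩ : ∃ ψ : MulAut G, ψ = MulAut.conj k * φ := ⟨_, rfl⟩
  have hψa : ∀ x, ψ x = k * φ x * k⁻¹ := by
    intro x
    rw [hψ, MulAut.mul_apply, MulAut.conj_apply]
  have hψs : ψ s = s := by rw [hψa]; exact hks
  have hψd : ψ d = d := by rw [hψa]; exact hkd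
  obtain ⟨j, hj, hψu⟩ := pin_x' d y u b n hud hA3 ψ hψd
  refine ⟨k, j, hj, ?_, ?_, ?_, ?_⟩
  · rw [← hψ]; exact hψs
  · rw [← hψ]; exact hψd
  · rw [← hψ]; exact hψu
  · intro r hr
    have h0 := congrArg ψ (hrel0 r hr)
    rw [map_pow, map_one] at h0
    have h1 := map_evalPat ψ.toMonoidHom (fun i => [s, d, u].getD i 1) r.1
    have h2 : (fun i => ψ.toMonoidHom ([s, d, u].getD i 1)) =
        (fun i => [s, d, u * y ^ j].getD i 1) := by
      funext i
      match i with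
      | 0 => exact hψs
      | 1 => exact hψd
      | 2 => exact hψu
      | (i + 3) => exact map_one ψ
    rw [h2] at h1
    rw [← h1]
    exact h0

/-- Rigidity: every automorphism is inner (`h` inverts `s` and centralizes `d`). -/
theorem inner_of_pin_inv (s d u y h : G) (n a c0 b : ℕ)
    (hgen : ∀ ψ : MulAut G, ψ s = s → ψ d = d → ψ u = u → ψ = 1)
    (hA1 : ∀ x : G, orderOf x = orderOf s → ∃ k : G, k * x * k⁻¹ = s ∨ k * x * k⁻¹ = s⁻¹)
    (hA2 : ∀ c : G, c * s = s * c → ∃ m : ℤ, c = s ^ m)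
    (hA3 : ∀ c : G, c * d = d * c → ∃ j < n, c = y ^ j)
    (hds : d * s * d⁻¹ = s ^ a) (hc0 : s ^ (c0 + a) = s ^ (a * c0)) (hud : u * d * u⁻¹ = d ^ b)
    (hhs : h * s * h⁻¹ = s⁻¹) (hhd : h * d * h⁻¹ = d)
    (rels : List (List ℕ × ℕ))
    (hrel0 : ∀ r ∈ rels, (evalPat (fun i => [s, d, u].getD i 1) r.1) ^ r.2 = 1)
    (hrel : ∀ j : ℕ, j < n →
      (∀ r ∈ rels, (evalPat (fun i => [s, d, u * y ^ j].getD i 1) r.1) ^ r.2 = 1) → u * y ^ j = u)
    (φ : MulAut G) : ∃ g : G, φ = MulAut.conj g := by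
  obtain ⟨k, j, hj, h1, h2, h3, h4⟩ :=
    pin_all_inv s d u y h n a c0 b hA1 hA2 hA3 hds hc0 hud hhs hhd rels hrel0 φ
  have e2 := hrel j hj h4
  rw [e2] at h3
  have hone := hgen _ h1 h2 h3
  refine ⟨k⁻¹, ?_⟩
  rw [map_inv]
  exact eq_inv_of_mul_eq_one_right hone

/-- An automorphism of a subgroup generated by a set `T` which fixes the elements of `T` is trivial. -/
theorem mulAut_closure_eq_one (T : Set G) (ψ : MulAut ↥(Subgroup.closure T))
    (h : ∀ t ∈ T, ∀ ht : t ∈ Subgroup.closure T, ψ ⟨t, ht⟩ = ⟨t, ht⟩) : ψ = 1 := by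
  have key : ∀ y : G, ∀ hy : y ∈ Subgroup.closure T, ψ ⟨y, hy⟩ = ⟨y, hy⟩ := by
    intro y hy
    induction hy using Subgroup.closure_induction with
    | mem x hx => exact h x hx _
    | one => exact map_one ψ
    | mul a b ha hb iha ihb =>
      have : (⟨a * b, Subgroup.mul_mem _ ha hb⟩ : ↥(Subgroup.closure T)) = ⟨a, ha⟩ * ⟨b, hb⟩ := rfl
      rw [this, map_mul, iha, ihb]
    | inv a ha iha =>
      have : (⟨a⁻¹, Subgroup.inv_mem _ ha⟩ : ↥(Subgroup.closure T)) = (⟨a, ha⟩ : ↥(Subgroup.closure T))⁻¹ := rfl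
      rw [this, map_inv, iha]
  ext x : 1
  rw [MulAut.one_apply]
  exact key x.1 x.2

/-- A centralizer of at most `orderOf s` elements consists of the powers of `s`. -/
theorem mem_zpowers_of_card_centralizer_le [Finite G] (s : G)
    (hc : Nat.card (Subgroup.centralizer ({s} : Set G)) ≤ orderOf s) (c : G) (hcs : c * s = s * c) :
    c ∈ Subgroup.zpowers s := by
  have hle : Subgroup.zpowers s ≤ Subgroup.centralizer ({s} : Set G) := by
    rw [Subgroup.zpowers_le, Subgroup.mem_centralizer_iff]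
    intro y hy
    rw [Set.mem_singleton_iff] at hy
    rw [hy]
  have heq : Subgroup.zpowers s = Subgroup.centralizer ({s} : Set G) :=
    Subgroup.eq_of_le_of_card_ge hle (by rw [Nat.card_zpowers]; exact hc)
  rw [heq, Subgroup.mem_centralizer_iff]
  intro y hy
  rw [Set.mem_singleton_iff] at hy
  rw [hy]
  exact hcs.symm

/-- The same with a natural exponent below the order. -/
theorem exists_pow_of_card_centralizer_le [Finite G] (s : G) (n : ℕ) (hn : orderOf s = n)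
    (hc : Nat.card (Subgroup.centralizer ({s} : Set G)) ≤ n) (c : G) (hcs : c * s = s * c) :
    ∃ j < n, c = s ^ j := by
  classical
  have hmem := mem_zpowers_of_card_centralizer_le s (by rw [hn]; exact hc) c hcs
  have hfo : IsOfFinOrder s := isOfFinOrder_of_finite s
  rw [hfo.mem_zpowers_iff_mem_range_orderOf, hn, Finset.mem_image] at hmem
  obtain ⟨j, hj, rfl⟩ := hmem
  exact ⟨j, Finset.mem_range.1 hj, rfl⟩

end AutRigid

end Cfsg.Agent.Lib.H27
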