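/-
helper27 library: abstract rigidity arguments for automorphism groups, fifth part.  A Frobenius subgroup
`⟨s⟩ ⋊ ⟨d⟩`, three more generators `x1, x2, x3` normalizing `⟨d⟩`, and the centralizer of `d` contained in a
finite list `L`.  If relators (and the fact that nontrivial elements have nontrivial images) pin down the images `(s', d, x1 c1, x2 c2, x3 c3)` with `s' = s ^ ± 1` and `c1`, `c2`,
`c3 ∈ L`, every automorphism is inner.
-/
import Mathlib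
import Cfsg.Agent.Lib.H27.AutRigid4

set_option autoImplicit false

namespace Cfsg.Agent.Lib.H27

namespace AutRigid

variable {G : Type*} [Group G]

/-- Rigidity with generators `s, d, x1, x2, x3` and the centralizer of `d` inside a list. -/
theorem inner_of_dataL (s d x1 x2 x3 : G) (a1 a2 a3 : ℕ) (L : List G)
    (hgen : ∀ ψ : MulAut G, ψ s = s → ψ d = d → ψ x1 = x1 → ψ x2 = x2 → ψ x3 = x3 → ψ = 1)
    (hA1 : ∀ x : G, orderOf x = orderOf s → ∃ k : G, k * x * k⁻¹ = s ∨ k * x * k⁻¹ = s⁻¹)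
    (hA2 : ∀ c : G, c * s = s * c → ∃ m : ℤ, c = s ^ m)
    (hA3 : ∀ c : G, c * d = d * c → c ∈ L)
    (hds : d * s * d⁻¹ = s ^ 2)
    (h1 : x1 * d * x1⁻¹ = d ^ a1) (h2 : x2 * d * x2⁻¹ = d ^ a2) (h3 : x3 * d * x3⁻¹ = d ^ a3)
    (rels : List (List ℕ × ℕ))
    (hrel0 : ∀ r ∈ rels, (evalPat (fun i => [s, d, x1, x2, x3].getD i 1) r.1) ^ r.2 = 1)
    (hrel : ∀ s' : G, (s' = s ∨ s' = s⁻¹) → ∀ c1 ∈ L, ∀ c2 ∈ L, ∀ c3 ∈ L,
      (x1 = 1 ↔ x1 * c1 = 1) → (x2 = 1 ↔ x2 * c2 = 1) → (x3 = 1 ↔ x3 * c3 = 1) →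
      (∀ r ∈ rels, (evalPat (fun i => [s', d, x1 * c1, x2 * c2, x3 * c3].getD i 1) r.1) ^ r.2 = 1) →
      s' = s ∧ x1 * c1 = x1 ∧ x2 * c2 = x2 ∧ x3 * c3 = x3)
    (φ : MulAut G) : ∃ g : G, φ = MulAut.conj g := by
  obtain ⟨k, hks, hkd⟩ := pin_sd s d hA1 hA2 hds φ
  obtain ⟨ψ, hψ⟩ : ∃ ψ : MulAut G, ψ = MulAut.conj k * φ := ⟨_, rfl⟩
  have hψa : ∀ x, ψ x = k * φ x * k⁻¹ := by
    intro x
    rw [hψ, MulAut.mul_apply, MulAut.conj_apply]
  have hψs : ψ s = s ∨ ψ s = s⁻¹ := by rw [hψa]; exact hks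
  have hψd : ψ d = d := by rw [hψa]; exact hkd
  obtain ⟨c1, hc1, hψ1⟩ := pin_xL d x1 a1 L h1 hA3 ψ hψd
  obtain ⟨c2, hc2, hψ2⟩ := pin_xL d x2 a2 L h2 hA3 ψ hψd
  obtain ⟨c3, hc3, hψ3⟩ := pin_xL d x3 a3 L h3 hA3 ψ hψd
  have hr : ∀ r ∈ rels,
      (evalPat (fun i => [ψ s, d, x1 * c1, x2 * c2, x3 * c3].getD i 1) r.1) ^ r.2 = 1 := by
    intro r hr
    have h0 := congrArg ψ (hrel0 r hr)
    rw [map_pow, map_one] at h0
    have e1 := map_evalPat ψ.toMonoidHom (fun i => [s, d, x1, x2, x3].getD i 1) r.1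
    have e2 : (fun i => ψ.toMonoidHom ([s, d, x1, x2, x3].getD i 1)) =
        (fun i => [ψ s, d, x1 * c1, x2 * c2, x3 * c3].getD i 1) := by
      funext i
      match i with
      | 0 => rfl
      | 1 => exact hψd
      | 2 => exact hψ1
      | 3 => exact hψ2
      | 4 => exact hψ3
      | (i + 5) => exact map_one ψ
    rw [e2] at e1
    rw [← e1]
    exact h0
  have hone : ∀ x : G, x = 1 ↔ ψ x = 1 := fun x => (map_eq_one_iff ψ ψ.injective).symm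
  obtain ⟨g1, g2, g3, g4⟩ := hrel (ψ s) hψs c1 hc1 c2 hc2 c3 hc3 (by rw [← hψ1]; exact hone x1)
    (by rw [← hψ2]; exact hone x2) (by rw [← hψ3]; exact hone x3) hr
  rw [g2] at hψ1
  rw [g3] at hψ2
  rw [g4] at hψ3
  have hone := hgen ψ g1 hψd hψ1 hψ2 hψ3
  refine ⟨k⁻¹, ?_⟩
  rw [map_inv]
  exact eq_inv_of_mul_eq_one_right (by rw [← hψ]; exact hone)

end AutRigid

end Cfsg.Agent.Lib.H27
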