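import Mathlib
import Cfsg.Agent.Lib.H27.B60Core
import Cfsg.Agent.Lib.H21.B60Atoms
import Cfsg.Agent.Lib.H22.B60KI

/-!
helper27 library (for S4484, part X1): the complete Theorem (X1) of Blichfeldt's 60-degree theorem
(lead's route, `tools/blueprints/S4484_blichfeldt60.md`): an irreducible isometric representation `R` of a
finite group `G` in which some `R y` has an eigenvalue `ε` with `ker (R y - ε) ≠ ⊥, ⊤` and all
eigenvalues of `R y` within 60 degrees of `ε` admits a system of imprimitivity: at least two nonzero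
pairwise orthogonal subspaces with sum `⊤` permuted by `G`.

Assembly of `B60Core` (MAX, POS, ZERO), helper21's `Lib/H21/B60Atoms` (ATOMS) and helper22's
`Lib/H22/B60KI` (KI).
-/

set_option autoImplicit false

namespace Cfsg.Agent.Lib.H27.B60

open scoped InnerProductSpace ComplexConjugate
open Cfsg.Agent.Lib.H21.B60

variable {E : Type*} [NormedAddCommGroup E] [InnerProductSpace ℂ E]
variable {G : Type*} [Group G]

/-- the conjugates `R (g y g⁻¹)` -/
noncomputable def conjT (R : G →* (E ≃ₗᵢ[ℂ] E)) (y : G) (g : G) : E ≃ₗᵢ[ℂ] E :=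
  R (g * y * g⁻¹)

theorem rep_inv_apply (R : G →* (E ≃ₗᵢ[ℂ] E)) (g : G) (v : E) : R g⁻¹ (R g v) = v := by
  have h : (R g⁻¹ * R g) v = v := by
    rw [← map_mul, inv_mul_cancel, map_one]
    rfl
  exact h

theorem rep_apply_inv (R : G →* (E ≃ₗᵢ[ℂ] E)) (g : G) (v : E) : R g (R g⁻¹ v) = v := by
  have h : (R g * R g⁻¹) v = v := by
    rw [← map_mul, mul_inv_cancel, map_one]
    rfl
  exact h

theorem conjT_apply (R : G →* (E ≃ₗᵢ[ℂ] E)) (y g : G) (v : E) :
    conjT R y g v = R g (R y (R g⁻¹ v)) := by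
  unfold conjT
  rw [map_mul, map_mul]
  rfl

/-- the linear equivalences underlying `R` -/
def rho (R : G →* (E ≃ₗᵢ[ℂ] E)) (g : G) : E ≃ₗ[ℂ] E := (R g).toLinearEquiv

theorem rho_mul (R : G →* (E ≃ₗᵢ[ℂ] E)) (h g : G) (x : E) :
    rho R (h * g) x = rho R h (rho R g x) := by
  unfold rho
  rw [map_mul]
  rfl

theorem eig_conjT (R : G →* (E ≃ₗᵢ[ℂ] E)) (y g : G) (ε : ℂ) :
    eig (conjT R y g) ε = translates (rho R) (eig (R y) ε) g := by
  ext v
  unfold translates
  rw [mem_eig, Submodule.mem_map, conjT_apply]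
  constructor
  · intro h
    refine ⟨R g⁻¹ v, ?_, rep_apply_inv R g v⟩
    rw [mem_eig]
    have h2 := congrArg (R g⁻¹) h
    rw [rep_inv_apply, map_smul] at h2
    exact h2
  · rintro ⟨u, hu, rfl⟩
    rw [mem_eig] at hu
    change R g (R y (R g⁻¹ (R g u))) = ε • R g u
    rw [rep_inv_apply, hu, map_smul]

/-- **Theorem (X1)**. -/
theorem x1 [FiniteDimensional ℂ E] [Finite G] (R : G →* (E ≃ₗᵢ[ℂ] E))
    (hirr : ∀ W : Submodule ℂ E, (∀ g, W.map (lin (R g)) ≤ W) → W = ⊥ ∨ W = ⊤)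
    (y : G) (ε : ℂ) (hε : ‖ε‖ = 1)
    (hbot : Module.End.eigenspace (lin (R y)) ε ≠ ⊥)
    (htop : Module.End.eigenspace (lin (R y)) ε ≠ ⊤)
    (hspec : ∀ μ : ℂ, Module.End.HasEigenvalue (lin (R y)) μ → 1 / 2 ≤ (conj ε * μ).re) :
    ∃ 𝓦 : Finset (Submodule ℂ E), 2 ≤ 𝓦.card ∧ ⊥ ∉ 𝓦 ∧
      (∀ W ∈ 𝓦, ∀ W' ∈ 𝓦, W ≠ W' → W ⟂ W') ∧
      sSup (↑𝓦 : Set (Submodule ℂ E)) = ⊤ ∧
      ∀ g : G, ∀ W ∈ 𝓦, W.map (lin (R g)) ∈ 𝓦 := by
  classical
  have hm : 0 < Nat.card G := Nat.card_pos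
  have hT : ∀ g, conjT R y g ^ Nat.card G = 1 := by
    intro g
    unfold conjT
    rw [← map_pow, pow_card_eq_one', map_one]
  have hεm : ε ^ Nat.card G = 1 := by
    obtain ⟨v, hv, hv0⟩ := Submodule.exists_mem_ne_zero_of_ne_bot hbot
    have h1 : (R y ^ Nat.card G) v = ε ^ Nat.card G • v := pow_apply_of_mem_eig hv _
    have h2 : R y ^ Nat.card G = 1 := by rw [← map_pow, pow_card_eq_one', map_one]
    rw [h2] at h1
    have h1' : v = ε ^ Nat.card G • v := h1
    have h3 : (1 - ε ^ Nat.card G) • v = 0 := by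
      rw [sub_smul, one_smul, ← h1', sub_self]
    rcases smul_eq_zero.1 h3 with h | h
    · exact (sub_eq_zero.1 h).symm
    · exact absurd h hv0
  -- the family and its atoms
  have hfam : ∀ g, eig (conjT R y g) ε = translates (rho R) (eig (R y) ε) g :=
    fun g => eig_conjT R y g ε
  set atoms : Set (Submodule ℂ E) := {W | IsAtomOf (translates (rho R) (eig (R y) ε)) W}
    with hatoms
  have hfin : atoms.Finite := finite_atoms _
  have hne : ∀ W ∈ atoms, W ≠ ⊥ := fun W hW => hW.1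
  have hi : ∀ W ∈ atoms, ∀ g, W ≤ eig (conjT R y g) ε ∨ W ⊓ eig (conjT R y g) ε = ⊥ := by
    intro W hW g
    rw [hfam]
    exact atom_le_or_inf_eq_bot hW g
  have hii : ∀ W ∈ atoms, ∀ V : Submodule ℂ E,
      (∀ g, W ≤ eig (conjT R y g) ε → V ≤ eig (conjT R y g) ε) → V ≤ W := by
    intro W hW V h
    refine le_atom_of_forall hW fun g hg => ?_
    rw [← hfam] at hg ⊢
    exact h g hg
  have hiii : ∀ W ∈ atoms, ∀ W' ∈ atoms, W ≤ W' → W = W' :=
    fun W hW W' hW' h => atom_eq_of_le hW hW' h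
  have hperm : ∀ g : G, ∀ W ∈ atoms, W.map (lin (R g)) ∈ atoms := by
    intro g W hW
    exact atom_map_translates (rho R) (rho_mul R) _ hW g
  have hiv : ∀ W ∈ atoms, ∀ g, W.map (lin (conjT R y g)) ∈ atoms := by
    intro W hW g
    exact hperm (g * y * g⁻¹) W hW
  have hKI : ∀ g (w : E), ‖w‖ = 1 → ‖(eig (conjT R y g) ε).starProjection w‖ < 1 →
      ‖(eig (conjT R y g) ε).starProjection w‖ < ‖⟪w, conjT R y g w⟫_ℂ‖ := by
    intro g w hw hlt
    refine Cfsg.Agent.Lib.H22.B60.key_ineq_unit (conjT R y g) ε hε ?_ _ (fun v => mem_eig) w hw hlt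
    intro δ v hv0 hv
    apply hspec
    rw [conjT_apply] at hv
    have h2 := congrArg (R g⁻¹) hv
    rw [rep_inv_apply, map_smul] at h2
    have hu0 : R g⁻¹ v ≠ 0 := by
      intro h0
      apply hv0
      have := rep_apply_inv R g v
      rw [h0, map_zero] at this
      exact this.symm
    exact Module.End.hasEigenvalue_of_hasEigenvector
      ⟨Module.End.mem_eigenspace_iff.2 h2, hu0⟩
  have horth := atoms_pairwise_orth atoms hfin hne (conjT R y) (Nat.card G) hm hT ε hεm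
    hi hii hiii hiv hKI
  -- there is an atom
  have hF1 : translates (rho R) (eig (R y) ε) 1 ≠ ⊥ := by
    rw [← hfam]
    have : conjT R y 1 = R y := by unfold conjT; simp
    rw [this]
    exact hbot
  obtain ⟨W₀, hW₀, -⟩ := exists_atom_le_of_ne_bot hF1
  -- the sum of the atoms is everything
  have hsup : sSup atoms = ⊤ := by
    have hinv : ∀ g, (sSup atoms).map (lin (R g)) ≤ sSup atoms := by
      intro g
      rw [Submodule.map_le_iff_le_comap]
      refine sSup_le fun W hW => ?_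
      rw [← Submodule.map_le_iff_le_comap]
      exact le_sSup (hperm g W hW)
    rcases hirr _ hinv with h | h
    · exfalso
      apply hW₀.1
      exact le_bot_iff.1 (h ▸ le_sSup hW₀)
    · exact h
  refine ⟨hfin.toFinset, ?_, ?_, ?_, ?_, ?_⟩
  · by_contra hlt
    have hle : hfin.toFinset.card ≤ 1 := by omega
    rw [Finset.card_le_one] at hle
    have hall : ∀ W ∈ atoms, W = W₀ := fun W hW =>
      hle W (hfin.mem_toFinset.2 hW) W₀ (hfin.mem_toFinset.2 hW₀)
    have hW₀top : W₀ = ⊤ := by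
      apply top_le_iff.1
      rw [← hsup]
      exact sSup_le fun W hW => (hall W hW).le
    obtain ⟨g, hg⟩ := atom_exists_le hW₀
    apply htop
    apply top_le_iff.1
    intro v _
    have hv : R g v ∈ translates (rho R) (eig (R y) ε) g := hg (hW₀top ▸ Submodule.mem_top)
    obtain ⟨u, hu, huv⟩ := Submodule.mem_map.1 hv
    have : u = v := (R g).injective huv
    exact this ▸ hu
  · intro h
    exact hne ⊥ (hfin.mem_toFinset.1 h) rfl
  · intro W hW W' hW' hWW
    exact horth W (hfin.mem_toFinset.1 hW) W' (hfin.mem_toFinset.1 hW') hWW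
  · rw [hfin.coe_toFinset]
    exact hsup
  · intro g W hW
    exact hfin.mem_toFinset.2 (hperm g W (hfin.mem_toFinset.1 hW))

/-- (X1) without the `sSup` clause, in the shape consumed by the (X) assembly. -/
theorem x1' [FiniteDimensional ℂ E] [Finite G] (R : G →* (E ≃ₗᵢ[ℂ] E))
    (hirr : ∀ W : Submodule ℂ E, (∀ g, W.map (lin (R g)) ≤ W) → W = ⊥ ∨ W = ⊤)
    (y : G) (ε : ℂ) (hε : ‖ε‖ = 1)
    (hbot : Module.End.eigenspace (lin (R y)) ε ≠ ⊥)
    (htop : Module.End.eigenspace (lin (R y)) ε ≠ ⊤)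
    (hspec : ∀ μ : ℂ, Module.End.HasEigenvalue (lin (R y)) μ → 1 / 2 ≤ (conj ε * μ).re) :
    ∃ 𝓦 : Finset (Submodule ℂ E), 2 ≤ 𝓦.card ∧ ⊥ ∉ 𝓦 ∧
      (∀ W ∈ 𝓦, ∀ W' ∈ 𝓦, W ≠ W' → W ⟂ W') ∧
      ∀ g : G, ∀ W ∈ 𝓦, W.map (lin (R g)) ∈ 𝓦 := by
  obtain ⟨𝓦, h1, h2, h3, -, h5⟩ := x1 R hirr y ε hε hbot htop hspec
  exact ⟨𝓦, h1, h2, h3, h5⟩

end Cfsg.Agent.Lib.H27.B60
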