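import Mathlib

/-!
# S4719 Part I, piece B4a (QSYL): Sylow 2-subgroup and elementary abelian subgroup of `C ⧸ N`,
`|N| = 2`  (helper27; exact sig of `tools/blueprints/S4719_I_sigs.lean`)
-/

set_option autoImplicit false

namespace Cfsg.Agent.Lib.H27.BI

/-- The image of `E ≥ N` in `C ⧸ N` has order `|E| / |N|`. -/
theorem bib4a_card_map_mk {C : Type*} [Group C] [Finite C] (N : Subgroup C) [N.Normal]
    (E : Subgroup C) (hNE : N ≤ E) :
    Nat.card (E.map (QuotientGroup.mk' N)) * Nat.card N = Nat.card E := by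
  set g : E →* C ⧸ N := (QuotientGroup.mk' N).comp E.subtype with hg
  have hrange : g.range = E.map (QuotientGroup.mk' N) := by
    rw [hg, MonoidHom.range_comp, Subgroup.range_subtype]
  have hker : g.ker = N.subgroupOf E := by
    rw [hg, ← MonoidHom.comap_ker, QuotientGroup.ker_mk']
    rfl
  have h1 := Subgroup.card_eq_card_quotient_mul_card_subgroup g.ker
  have h2 : Nat.card (E ⧸ g.ker) = Nat.card g.range :=
    Nat.card_congr (QuotientGroup.quotientKerEquivRange g).toEquiv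
  have h3 : Nat.card g.ker = Nat.card N := by
    rw [hker]
    exact Nat.card_congr (Subgroup.subgroupOfEquivOfLe hNE).toEquiv
  rw [h2, h3, hrange] at h1
  exact h1.symm

/-- (B4a QSYL) PURE GROUP THEORY: Sylow 2-subgroup and elementary abelian subgroup of `C ⧸ N`, `|N| = 2`. -/
theorem quotient_sylow_data {C : Type*} [Group C] [Finite C] (N : Subgroup C) [N.Normal]
    (hN2 : Nat.card N = 2) (a k : ℕ)
    (ha : (Nat.card C).factorization 2 ≤ a) (E : Subgroup C) (hNE : N ≤ E)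
    (hEc : ∀ x ∈ E, ∀ y ∈ E, x * y = y * x) (hE2 : ∀ x ∈ E, x * x = 1)
    (hEcard : Nat.card E = 2 ^ (k + 1)) :
    ∃ a'' : ℕ, a'' ≤ a - 1 ∧ ∃ Q : Sylow 2 (C ⧸ N), Nat.card Q = 2 ^ a'' ∧
      ∃ E' : Subgroup (C ⧸ N), E' ≤ (Q : Subgroup (C ⧸ N)) ∧ IsMulCommutative E' ∧
        (∀ x ∈ E', x * x = 1) ∧ Nat.card E' = 2 ^ k := by
  have : Fact (Nat.Prime 2) := ⟨Nat.prime_two⟩
  set E' : Subgroup (C ⧸ N) := E.map (QuotientGroup.mk' N) with hE'
  have hE'2 : ∀ x ∈ E', x * x = 1 := by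
    rintro _ ⟨x, hx, rfl⟩
    rw [← map_mul, hE2 x hx, map_one]
  have hE'p : IsPGroup 2 E' := by
    intro x
    refine ⟨1, ?_⟩
    apply Subtype.ext
    have := hE'2 x.1 x.2
    simpa [pow_two] using this
  obtain ⟨Q, hQ⟩ := hE'p.exists_le_sylow
  -- the order of `C ⧸ N`
  have hCN : Nat.card (C ⧸ N) * 2 = Nat.card C := by
    rw [← hN2]
    exact (Subgroup.card_eq_card_quotient_mul_card_subgroup N).symm
  have hpos : Nat.card (C ⧸ N) ≠ 0 := Nat.card_pos.ne'
  have hfac : (Nat.card C).factorization 2 = (Nat.card (C ⧸ N)).factorization 2 + 1 := by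
    rw [← hCN, Nat.factorization_mul hpos (by norm_num)]
    simp [Nat.Prime.factorization_self Nat.prime_two]
  refine ⟨(Nat.card (C ⧸ N)).factorization 2, by omega, Q, Sylow.card_eq_multiplicity Q, E', hQ,
    ?_, hE'2, ?_⟩
  · refine ⟨⟨fun x y => ?_⟩⟩
    obtain ⟨x, hx⟩ := x
    obtain ⟨y, hy⟩ := y
    apply Subtype.ext
    obtain ⟨x0, hx0, rfl⟩ := hx
    obtain ⟨y0, hy0, rfl⟩ := hy
    show (QuotientGroup.mk' N) x0 * (QuotientGroup.mk' N) y0 =
      (QuotientGroup.mk' N) y0 * (QuotientGroup.mk' N) x0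
    rw [← map_mul, ← map_mul, hEc x0 hx0 y0 hy0]
  · have h := bib4a_card_map_mk N E hNE
    rw [hN2, hEcard, pow_succ] at h
    exact Nat.eq_of_mul_eq_mul_right (by norm_num) h

end Cfsg.Agent.Lib.H27.BI
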