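import Mathlib

/-!
# S4719 FINAL helper, piece F1: a four-group inside an elementary abelian 2-group of order `≥ 4`
(helper27; exact sig of `tools/blueprints/S4719_I_sigs.lean`)
-/

set_option autoImplicit false

namespace Cfsg.Agent.Lib.H27.BI

/-- (F1) a four-group inside an elementary abelian 2-group of order at least 4. -/
theorem exists_four_subgroup {G : Type*} [Group G] [Finite G] (E : Subgroup G)
    (hE2 : ∀ x ∈ E, x * x = 1) (k : ℕ) (hEcard : Nat.card E = 2 ^ (k + 2)) :
    ∃ V : Subgroup G, V ≤ E ∧ Nat.card V = 4 ∧ ∀ v ∈ V, v * v = 1 := by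
  have : Fact (Nat.Prime 2) := ⟨Nat.prime_two⟩
  obtain ⟨K, hK⟩ := Sylow.exists_subgroup_card_pow_prime (G := E) 2 (n := 2)
    (by rw [hEcard]; exact pow_dvd_pow 2 (by omega))
  refine ⟨K.map E.subtype, Subgroup.map_subtype_le K, ?_, ?_⟩
  · rw [Subgroup.card_map_of_injective E.subtype_injective, hK]; norm_num
  · intro v hv
    exact hE2 v (Subgroup.map_subtype_le K hv)

end Cfsg.Agent.Lib.H27.BI
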