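import Mathlib

/-!
# Matrices over a ring of characteristic two given by bit masks

A bit matrix is a list of columns, each column a natural number whose bits are the entries of the column. Products are
computed with `Nat.xor`, which the kernel evaluates quickly; `dens` turns a bit matrix into a dense matrix over any
commutative ring of characteristic two, through an injective coding of the index type into `ℕ`.
-/

set_option autoImplicit false
set_option linter.unusedSectionVars false

namespace Cfsg.Agent.Lib.H27.BM

/-- the ring element of a bit -/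
def bitK (K : Type*) [CommRing K] (x : Bool) : K := bif x then 1 else 0

section bitK

variable {K : Type*} [CommRing K]

@[simp] theorem bitK_true : bitK K true = 1 := rfl
@[simp] theorem bitK_false : bitK K false = 0 := rfl

theorem bitK_and (x y : Bool) : bitK K (x && y) = bitK K x * bitK K y := by
  cases x <;> cases y <;> simp

theorem bitK_xor [CharP K 2] (x y : Bool) : bitK K (x ^^ y) = bitK K x + bitK K y := by
  cases x <;> cases y <;> simp [CharTwo.add_self_eq_zero]

theorem bitK_decide_eq {ι : Type*} [DecidableEq ι] (i j : ι) :
    bitK K (decide (i = j)) = (1 : Matrix ι ι K) i j := by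
  by_cases h : i = j
  · subst h; simp
  · simp [h]

theorem intCast_eq_bitK [CharP K 2] (z : ℤ) : ((z : ℤ) : K) = bitK K (decide (z % 2 ≠ 0)) := by
  have h2 : (2 : K) = 0 := CharTwo.two_eq_zero
  have hz : z = 2 * (z / 2) + z % 2 := (Int.mul_ediv_add_emod z 2).symm
  rcases Int.emod_two_eq_zero_or_one z with h | h
  · rw [h, add_zero] at hz
    rw [h]
    conv_lhs => rw [hz]
    push_cast
    rw [h2, zero_mul]
    simp
  · rw [h] at hz
    rw [h]
    conv_lhs => rw [hz]
    push_cast
    rw [h2, zero_mul]
    simp

end bitK

/-- the product of a bit matrix with a bit column -/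
def mulCol : List ℕ → ℕ → ℕ
  | [], _ => 0
  | a :: A, b => (bif b.testBit 0 then a else 0) ^^^ mulCol A (b >>> 1)

/-- the product of two bit matrices -/
def mul (A B : List ℕ) : List ℕ := B.map (mulCol A)

/-- the sum of two bit matrices -/
def add (A B : List ℕ) : List ℕ := List.zipWith (· ^^^ ·) A B

/-- the identity bit matrix -/
def one (N : ℕ) : List ℕ := (List.range N).map fun c => 1 <<< c

/-- the diagonal idempotent of rank `k` -/
def ek (N k : ℕ) : List ℕ := (List.range N).map fun c => bif Nat.blt c k then 1 <<< c else 0

theorem mulCol_zero (A : List ℕ) : mulCol A 0 = 0 := by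
  induction A with
  | nil => rfl
  | cons a A ih => simp [mulCol, ih]

theorem mulCol_testBit {K : Type*} [CommRing K] [CharP K 2] (A : List ℕ) (b i : ℕ) :
    bitK K ((mulCol A b).testBit i) =
      ∑ k ∈ Finset.range A.length, bitK K ((A.getD k 0).testBit i) * bitK K (b.testBit k) := by
  induction A generalizing b with
  | nil => simp [mulCol]
  | cons a A ih =>
    rw [mulCol, Nat.testBit_xor, bitK_xor, ih, List.length_cons, Finset.sum_range_succ', add_comm]
    congr 1
    · apply Finset.sum_congr rfl
      intro k _
      rw [List.getD_cons_succ, Nat.testBit_shiftRight, add_comm 1 k]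
    · rw [List.getD_cons_zero]
      cases h : b.testBit 0 <;> simp

section Dense

variable {ι : Type*} [Fintype ι] [DecidableEq ι] (code : ι → ℕ) (hcode : Function.Injective code)
  (K : Type*) [CommRing K]

/-- the dense matrix of a bit matrix -/
def dens (A : List ℕ) : Matrix ι ι K := fun i j => bitK K ((A.getD (code j) 0).testBit (code i))

theorem dens_apply (A : List ℕ) (i j : ι) :
    dens code K A i j = bitK K ((A.getD (code j) 0).testBit (code i)) := rfl

variable {K}

include hcode in
theorem sum_code (N : ℕ) (hlt : ∀ i, code i < N) (hN : ∀ k < N, ∃ i, code i = k) (f : ℕ → K) :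
    ∑ m : ι, f (code m) = ∑ k ∈ Finset.range N, f k := by
  apply Finset.sum_bij (fun m _ => code m)
  · intro m _; exact Finset.mem_range.mpr (hlt m)
  · intro a _ b _ h; exact hcode h
  · intro k hk
    obtain ⟨i, hi⟩ := hN k (Finset.mem_range.mp hk)
    exact ⟨i, Finset.mem_univ _, hi⟩
  · intro m _; rfl

variable (K)

include hcode in
theorem dens_mul [CharP K 2] (N : ℕ) (hlt : ∀ i, code i < N) (hN : ∀ k < N, ∃ i, code i = k)
    (A B : List ℕ) (hA : A.length = N) :
    dens code K A * dens code K B = dens code K (mul A B) := by
  ext i j
  rw [Matrix.mul_apply]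
  simp only [dens_apply, mul]
  have e : (B.map (mulCol A)).getD (code j) 0 = mulCol A (B.getD (code j) 0) := by
    have := List.getD_map (l := B) (n := code j) (0 : ℕ) (mulCol A)
    rwa [mulCol_zero] at this
  rw [e, mulCol_testBit (K := K), hA]
  exact sum_code code hcode N hlt hN
    (fun k => bitK K ((A.getD k 0).testBit (code i)) * bitK K ((B.getD (code j) 0).testBit k))

include hcode in
theorem dens_one (N : ℕ) (hlt : ∀ i, code i < N) : dens code K (one N) = 1 := by
  ext i j
  rw [dens_apply, ← bitK_decide_eq]
  congr 1
  have e : (one N).getD (code j) 0 = 1 <<< code j := by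
    unfold one
    rw [List.getD_eq_getElem _ _ (by simpa using hlt j)]
    simp
  rw [e, Nat.one_shiftLeft, Nat.testBit_two_pow]
  by_cases h : i = j
  · subst h; simp
  · have : code j ≠ code i := fun h' => h (hcode h').symm
    simp [h, this]

theorem dens_add [CharP K 2] (A B : List ℕ) (hAB : A.length = B.length) :
    dens code K A + dens code K B = dens code K (add A B) := by
  ext i j
  rw [Matrix.add_apply]
  simp only [dens_apply, add]
  by_cases hj : code j < A.length
  · have hj' : code j < B.length := hAB ▸ hj
    have hz : code j < (List.zipWith (· ^^^ ·) A B).length := by simp [hj, hj']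
    rw [List.getD_eq_getElem _ _ hj, List.getD_eq_getElem _ _ hj', List.getD_eq_getElem _ _ hz,
      List.getElem_zipWith, Nat.testBit_xor, bitK_xor]
  · have hj' : ¬ code j < B.length := hAB ▸ hj
    have hz : ¬ code j < (List.zipWith (· ^^^ ·) A B).length := by simp [hj, hj']
    rw [List.getD_eq_default _ _ (by omega), List.getD_eq_default _ _ (by omega),
      List.getD_eq_default _ _ (by omega)]
    simp

include hcode in
theorem dens_sub_one [CharP K 2] (N : ℕ) (hlt : ∀ i, code i < N) (A : List ℕ) (hA : A.length = N) :
    dens code K A - 1 = dens code K (add A (one N)) := by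
  rw [← dens_add code K A (one N) (by simp [one, hA]), dens_one code hcode K N hlt]
  ext i j
  rw [Matrix.sub_apply, Matrix.add_apply, CharTwo.sub_eq_add]

include hcode in
theorem dens_ek (N k : ℕ) (hlt : ∀ i, code i < N) :
    dens code K (ek N k) = Matrix.diagonal fun i => bitK K (decide (code i < k)) := by
  ext i j
  rw [dens_apply]
  have e : (ek N k).getD (code j) 0 = bif Nat.blt (code j) k then 1 <<< code j else 0 := by
    unfold ek
    rw [List.getD_eq_getElem _ _ (by simpa using hlt j)]
    simp
  rw [e]
  by_cases h : i = j
  · subst h
    rw [Matrix.diagonal_apply_eq]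
    by_cases hk : code i < k
    · have : Nat.blt (code i) k = true := by simpa [Nat.blt_eq] using hk
      rw [this, cond_true, Nat.one_shiftLeft, Nat.testBit_two_pow]
      simp [hk]
    · have : Nat.blt (code i) k = false := by
        rw [← Bool.not_eq_true]; simpa [Nat.blt_eq] using hk
      rw [this, cond_false]
      simp [hk]
  · rw [Matrix.diagonal_apply_ne _ h]
    have hne : code j ≠ code i := fun h' => h (hcode h').symm
    cases hb : Nat.blt (code j) k
    · simp
    · rw [cond_true, Nat.one_shiftLeft, Nat.testBit_two_pow]
      simp [hne]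

end Dense

section Rank

variable {ι : Type*} [Fintype ι] [DecidableEq ι] (code : ι → ℕ) (hcode : Function.Injective code)
  (K : Type*) [Field K] [CharP K 2]

include hcode in
theorem rank_ek (N k : ℕ) (hk : k ≤ N) (hlt : ∀ i, code i < N) (hN : ∀ m < N, ∃ i, code i = m) :
    (dens code K (ek N k)).rank = k := by
  classical
  rw [dens_ek code hcode K N k hlt, Matrix.rank_diagonal]
  have e : Fintype.card {i : ι // bitK K (decide (code i < k)) ≠ 0} = Fintype.card (Fin k) := by
    apply Fintype.card_of_bijective (f := fun i => (⟨code i.1, by
      have := i.2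
      by_contra h
      simp [h] at this⟩ : Fin k))
    constructor
    · intro a b h
      have : code a.1 = code b.1 := congrArg Fin.val h
      exact Subtype.ext (hcode this)
    · intro m
      obtain ⟨i, hi⟩ := hN m.1 (by have := m.2; omega)
      exact ⟨⟨i, by simp [hi]⟩, Fin.ext hi⟩
  rw [e, Fintype.card_fin]

include hcode in
/-- rank certificate: `P * M * Q = E_k` and `M = P' * E_k * Q'` -/
theorem rank_eq_of_cert (N k : ℕ) (hk : k ≤ N) (hlt : ∀ i, code i < N) (hN : ∀ m < N, ∃ i, code i = m)
    (M P Q P' Q' : List ℕ) (hM : M.length = N) (hP : P.length = N) (hP' : P'.length = N)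
    (h1 : mul (mul P M) Q = ek N k) (h2 : mul (mul P' (ek N k)) Q' = M) :
    (dens code K M).rank = k := by
  have hek : (ek N k).length = N := by simp [ek]
  have hPM : (mul P M).length = N := by simp [mul, hM]
  have hPE : (mul P' (ek N k)).length = N := by simp [mul, hek]
  have e1 : dens code K (ek N k) = dens code K P * dens code K M * dens code K Q := by
    rw [dens_mul code hcode K N hlt hN P M hP, dens_mul code hcode K N hlt hN _ Q hPM, h1]
  have e2 : dens code K M = dens code K P' * dens code K (ek N k) * dens code K Q' := by
    rw [dens_mul code hcode K N hlt hN P' _ hP', dens_mul code hcode K N hlt hN _ Q' hPE, h2]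
  have r := rank_ek code hcode K N k hk hlt hN
  apply le_antisymm
  · rw [e2]
    calc (dens code K P' * dens code K (ek N k) * dens code K Q').rank
        ≤ (dens code K P' * dens code K (ek N k)).rank := Matrix.rank_mul_le_left _ _
      _ ≤ (dens code K (ek N k)).rank := Matrix.rank_mul_le_right _ _
      _ = k := r
  · rw [← r, e1]
    calc (dens code K P * dens code K M * dens code K Q).rank
        ≤ (dens code K P * dens code K M).rank := Matrix.rank_mul_le_left _ _
      _ ≤ (dens code K M).rank := Matrix.rank_mul_le_right _ _

end Rank

end Cfsg.Agent.Lib.H27.BM
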