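import Mathlib
import Cfsg.Prelude.Def_ChevStructure
import Cfsg.Agent.Lib.H29.ChevGen16
import Cfsg.Agent.Lib.H27.BitMat

/-!
# Root elements `x_r(1)` of a Chevalley datum over a field of characteristic two as bit matrices

On top of helper29's tower: `xA r 1` is the dense matrix of the bit matrix `xbits fd r`, computed from the packed
tables; products of root elements with parameter one are then computed by `BM.mul`.
-/

set_option autoImplicit false
set_option linter.unusedSectionVars false
set_option linter.unusedSimpArgs false
set_option linter.unusedVariables false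

namespace Cfsg.Agent.Lib.H27.BM

open Cfsg.Lie Matrix Cfsg.Agent.Lib.H29.Chev

/-- the bit mask of the odd entries of a sparse integer vector -/
def colBits : SV → ℕ
  | [] => 0
  | p :: v => (bif intBeq (p.2 % 2) 0 then 0 else 1 <<< p.1) ^^^ colBits v

theorem colBits_testBit {K : Type*} [CommRing K] [CharP K 2] (v : SV) (i : ℕ) :
    bitK K ((colBits v).testBit i) = ((SV.get v i : ℤ) : K) := by
  induction v with
  | nil => simp [colBits]
  | cons p v ih =>
    rw [colBits, Nat.testBit_xor, bitK_xor, ih, SV.get_cons, Int.cast_add]
    congr 1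
    by_cases hp : p.2 % 2 = 0
    · have hb : intBeq (p.2 % 2) 0 = true := (intBeq_iff _ _).mpr hp
      rw [hb, cond_true]
      have : ((p.2 : ℤ) : K) = 0 := by rw [intCast_eq_bitK]; simp [hp]
      split_ifs <;> simp [this]
    · have hb : intBeq (p.2 % 2) 0 = false := by rw [← Bool.not_eq_true, intBeq_iff]; exact hp
      rw [hb, cond_false, Nat.one_shiftLeft, Nat.testBit_two_pow]
      have : ((p.2 : ℤ) : K) = 1 := by rw [intCast_eq_bitK]; simp [hp]
      split_ifs with h <;> simp [this, h]

variable {D : ChevalleyDatum} {fd : FD} {fx : FX} {F : Type*} [Field F]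

/-- the bit matrix of `x_r(1)` -/
def xbits (fd : FD) (r : ℕ) : List ℕ := (List.range (fd.l + fd.n)).map fun c => colBits (fd.colX r 1 c)

theorem xbits_length (r : ℕ) : (xbits fd r).length = fd.l + fd.n := by simp [xbits]

/-- the product of the bit matrices of a list of roots -/
def wbits (fd : FD) : List ℕ → List ℕ
  | [] => one (fd.l + fd.n)
  | r :: w => mul (xbits fd r) (wbits fd w)

theorem wbits_length (w : List ℕ) : (wbits fd w).length = fd.l + fd.n := by
  cases w with
  | nil => simp [wbits, one]
  | cons r w =>
    rw [wbits]
    induction w with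
    | nil => simp [mul, wbits, one]
    | cons s w ih => simp [mul, wbits] at ih ⊢; exact ih

section Cert

variable (C : Cert2 D fd fx) [CharP F 2]
include C

theorem code_lt' (a : D.Idx) : code D a < fd.l + fd.n := by
  rw [← C.agrees.hl, ← C.agrees.hn]; exact code_lt D a

theorem code_surj' (k : ℕ) (hk : k < fd.l + fd.n) : ∃ a : D.Idx, code D a = k := by
  rw [← C.agrees.hl, ← C.agrees.hn] at hk; exact code_surj D k hk

/-- `x_r(1)` is the dense matrix of `xbits fd r` -/
theorem xA_bits (r : ℕ) (hr : r < fd.n) :
    ((C.xA r (1 : F) : GL D.Idx F) : Matrix D.Idx D.Idx F) = dens (code D) F (xbits fd r) := by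
  rw [C.xA_val, x_eq_XR C.agrees r hr]
  have h1 : XR D F r (1 : F) = (XR D ℤ r 1).map (Int.castRingHom F) := by
    rw [XR_map]; simp
  rw [h1, XZ_eq_dens C.agrees C.chk.pref r hr]
  ext a b
  rw [Matrix.map_apply, SM.dens_apply, dens_apply]
  have e : (xbits fd r).getD (code D b) 0 = colBits (fd.colX r 1 (code D b)) := by
    unfold xbits
    rw [List.getD_eq_getElem _ _ (by simpa using code_lt' C b)]
    simp
  rw [e, colBits_testBit]
  rfl

/-- the product of root elements with parameter one of a list of roots, as a bit matrix -/
theorem word_bits (w : List ℕ) (hw : ∀ r ∈ w, r < fd.n) :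
    (((w.map fun r => C.xA r (1 : F)).prod : GL D.Idx F) : Matrix D.Idx D.Idx F) =
      dens (code D) F (wbits fd w) := by
  induction w with
  | nil =>
    simp only [List.map_nil, List.prod_nil, Units.val_one, wbits]
    exact (dens_one (code D) (code_injective D) F _ (code_lt' C)).symm
  | cons r w ih =>
    rw [List.map_cons, List.prod_cons, Units.val_mul, ih (fun s hs => hw s (List.mem_cons_of_mem _ hs)),
      xA_bits C r (hw r List.mem_cons_self), wbits,
      dens_mul (code D) (code_injective D) F _ (code_lt' C) (code_surj' C) _ _ (xbits_length r)]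

end Cert

end Cfsg.Agent.Lib.H27.BM
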