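import Mathlib

/-!
helper27 library (for S4484, piece X2): six sectors of 60 degrees on the unit circle and the
pigeonhole argument producing a power `d` such that all `λ ^ d` lie within 60 degrees of `λ₁ ^ d`.
-/

set_option autoImplicit false

namespace Cfsg.Agent.Lib.H27.Box6

/-- the sector of a complex number: one of 6 half-open arcs of 60 degrees -/
noncomputable def box6 (z : ℂ) : ℤ := ⌈(Complex.arg z + Real.pi) * 3 / Real.pi⌉

theorem box6_mem (z : ℂ) : box6 z ∈ Finset.Icc (1 : ℤ) 6 := by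
  have h1 := Complex.neg_pi_lt_arg z
  have h2 := Complex.arg_le_pi z
  have hpi := Real.pi_pos
  rw [Finset.mem_Icc]
  constructor
  · have h3 : 0 < (Complex.arg z + Real.pi) * 3 / Real.pi := by
      apply div_pos _ hpi
      nlinarith
    have : 0 < box6 z := Int.ceil_pos.mpr h3
    omega
  · apply Int.ceil_le.mpr
    rw [div_le_iff₀ hpi]
    push_cast
    nlinarith

theorem re_exp_of_abs_lt {θ θ' : ℝ} (h : |θ' - θ| < Real.pi / 3) :
    1 / 2 < ((Complex.exp (θ * Complex.I))⁻¹ * Complex.exp (θ' * Complex.I)).re := by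
  have e : (Complex.exp (θ * Complex.I))⁻¹ * Complex.exp (θ' * Complex.I)
      = Complex.exp (((θ' - θ : ℝ) : ℂ) * Complex.I) := by
    rw [← Complex.exp_neg, ← Complex.exp_add]
    congr 1
    push_cast
    ring
  rw [e, Complex.exp_ofReal_mul_I_re, ← Real.cos_abs]
  have hpi := Real.pi_pos
  have := Real.strictAntiOn_cos (a := |θ' - θ|) (b := Real.pi / 3)
    ⟨abs_nonneg _, by linarith⟩ ⟨by positivity, by linarith⟩ h
  rw [Real.cos_pi_div_three] at this
  exact this

/-- two unit complex numbers in the same sector have a quotient with real part `> 1/2` -/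
theorem re_of_box6_eq {z z' : ℂ} (hz : ‖z‖ = 1) (hz' : ‖z'‖ = 1) (h : box6 z = box6 z') :
    1 / 2 < (z⁻¹ * z').re := by
  have e1 : Complex.exp (Complex.arg z * Complex.I) = z := by
    have := Complex.norm_mul_exp_arg_mul_I z
    rwa [hz, Complex.ofReal_one, one_mul] at this
  have e2 : Complex.exp (Complex.arg z' * Complex.I) = z' := by
    have := Complex.norm_mul_exp_arg_mul_I z'
    rwa [hz', Complex.ofReal_one, one_mul] at this
  have hpi := Real.pi_pos
  have habs : |Complex.arg z' - Complex.arg z| < Real.pi / 3 := by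
    unfold box6 at h
    obtain ⟨l1, u1⟩ := Int.ceil_eq_iff.mp h
    obtain ⟨l2, u2⟩ := Int.ceil_eq_iff.mp (rfl : ⌈(Complex.arg z' + Real.pi) * 3 / Real.pi⌉ = _)
    have hd : |(Complex.arg z' + Real.pi) * 3 / Real.pi - (Complex.arg z + Real.pi) * 3 / Real.pi|
        < 1 := by
      rw [abs_lt]; constructor <;> linarith
    have he : (Complex.arg z' + Real.pi) * 3 / Real.pi - (Complex.arg z + Real.pi) * 3 / Real.pi
        = (Complex.arg z' - Complex.arg z) * (3 / Real.pi) := by
      field_simp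
      ring
    rw [he, abs_mul, abs_of_pos (by positivity : (0 : ℝ) < 3 / Real.pi)] at hd
    have : |Complex.arg z' - Complex.arg z| * (3 / Real.pi) * (Real.pi / 3) < 1 * (Real.pi / 3) :=
      mul_lt_mul_of_pos_right hd (by positivity)
    have h6 : (3 / Real.pi) * (Real.pi / 3) = 1 := by field_simp
    rw [mul_assoc, h6, mul_one, one_mul] at this
    exact this
  have := re_exp_of_abs_lt habs
  rwa [e1, e2] at this

/-- **Pigeonhole on six sectors.** For a finite set `Λ` of unit complex numbers containing `λ₁`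
and `p > 6 ^ (|Λ| - 1)` there is `1 ≤ d < p` such that every `λ ^ d` (`λ ∈ Λ`) lies within 60
degrees of `λ₁ ^ d`. -/
theorem exists_pow_near (Λ : Finset ℂ) (hΛ : ∀ z ∈ Λ, ‖z‖ = 1) (z₁ : ℂ) (h1 : z₁ ∈ Λ) (p : ℕ)
    (hp : 6 ^ (Λ.card - 1) < p) :
    ∃ d : ℕ, 1 ≤ d ∧ d < p ∧ ∀ z ∈ Λ, 1 / 2 < ((starRingEnd ℂ) (z₁ ^ d) * z ^ d).re := by
  classical
  have hz1 : ‖z₁‖ = 1 := hΛ z₁ h1
  have hz1ne : z₁ ≠ 0 := by
    intro h0
    rw [h0, norm_zero] at hz1
    exact zero_ne_one hz1
  -- the colouring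
  let T : Finset (↥(Λ.erase z₁) → ↥(Finset.Icc (1 : ℤ) 6)) := Finset.univ
  let f : ℕ → (↥(Λ.erase z₁) → ↥(Finset.Icc (1 : ℤ) 6)) :=
    fun j z => ⟨box6 ((z.1 / z₁) ^ j), box6_mem _⟩
  have hcardT : T.card = 6 ^ (Λ.card - 1) := by
    show (Finset.univ : Finset (↥(Λ.erase z₁) → ↥(Finset.Icc (1 : ℤ) 6))).card = _
    rw [Finset.card_univ, Fintype.card_fun, Fintype.card_coe, Fintype.card_coe,
      Finset.card_erase_of_mem h1]
    simp
  have hlt : T.card < (Finset.range p).card := by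
    rw [hcardT, Finset.card_range]
    exact hp
  obtain ⟨j, hj, j', hj', hne, hff⟩ := Finset.exists_ne_map_eq_of_card_lt_of_maps_to hlt
    (f := f) (fun j _ => Finset.mem_univ _)
  rw [Finset.mem_range] at hj hj'
  -- wlog j < j'
  have key : ∀ a b : ℕ, a < b → b < p → f a = f b →
      ∃ d : ℕ, 1 ≤ d ∧ d < p ∧ ∀ z ∈ Λ, 1 / 2 < ((starRingEnd ℂ) (z₁ ^ d) * z ^ d).re := by
    intro a b hab hb hfab
    refine ⟨b - a, by omega, by omega, fun z hz => ?_⟩
    have hzn : ‖z‖ = 1 := hΛ z hz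
    have hconj : (starRingEnd ℂ) (z₁ ^ (b - a)) = (z₁ ^ (b - a))⁻¹ := by
      rw [Complex.inv_def, Complex.normSq_eq_norm_sq, norm_pow, hz1]
      simp
    rw [hconj]
    by_cases hzz : z = z₁
    · rw [hzz, inv_mul_cancel₀ (pow_ne_zero _ hz1ne)]
      norm_num
    · have hmem : z ∈ Λ.erase z₁ := Finset.mem_erase.2 ⟨hzz, hz⟩
      have hbox : box6 ((z / z₁) ^ a) = box6 ((z / z₁) ^ b) := by
        have := congrFun hfab ⟨z, hmem⟩
        exact congrArg Subtype.val this
      have hq : ‖z / z₁‖ = 1 := by rw [norm_div, hzn, hz1, div_one]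
      have hqne : z / z₁ ≠ 0 := by
        intro h0
        rw [h0, norm_zero] at hq
        exact zero_ne_one hq
      have := re_of_box6_eq (z := (z / z₁) ^ a) (z' := (z / z₁) ^ b)
        (by rw [norm_pow, hq, one_pow]) (by rw [norm_pow, hq, one_pow]) hbox
      have e : ((z / z₁) ^ a)⁻¹ * (z / z₁) ^ b = (z₁ ^ (b - a))⁻¹ * z ^ (b - a) := by
        have hb' : b = a + (b - a) := by omega
        conv_lhs => rw [hb', pow_add, ← mul_assoc, inv_mul_cancel₀ (pow_ne_zero _ hqne), one_mul]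
        rw [div_pow, div_eq_mul_inv, mul_comm]
      rwa [e] at this
  rcases lt_or_gt_of_ne hne with h | h
  · exact key j j' h hj' hff
  · exact key j' j h hj hff.symm

end Cfsg.Agent.Lib.H27.Box6
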