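import Mathlib
import Cfsg.Prelude.Def_ChevStructure
import Cfsg.Agent.Lib.H29.ChevAut1
import Cfsg.Agent.Lib.H29.BtDefs2

/-!
# S2154 (Borel–Tits), stage 2, piece DOM (architect helper29)

Every real functional is carried to a dominant one by an element of `N`.  Core statement `exists_dominant_of`
with the REL fact `nG_TrG` as an explicit hypothesis; the LIN facts that are needed are proved locally
(`dom_omrR_nw`, `dom_omrR_sR`, `dom_omrR_simple`, `dom_QR_sR`).
-/

set_option autoImplicit false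

namespace Cfsg.Agent.Lib.H27.BT2

open Cfsg.Lie Matrix Cfsg.Agent.Lib.H29.BT Cfsg.Agent.Lib.H29.Chev

variable {D : ChevalleyDatum} {fd : FD} {fx : FX} {fc : FC} {fz : FZ} {F : Type*} [Field F]

/-- the integral functional `omr` as a finite sum over `Fin fd.l` -/
theorem dom_omr_eq (a : ℕ → ℤ) (r : ℕ) :
    ((fd.omr fx a r : ℤ) : ℝ) = ∑ j : Fin fd.l, ((a j.val : ℤ) : ℝ) * ((fd.rcZ fx r j.val : ℤ) : ℝ) := by
  unfold FD.omr
  rw [listsum_eq, Int.cast_sum, ← Fin.sum_univ_eq_sum_range (fun j => ((a j * fd.rcZ fx r j : ℤ) : ℝ))]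
  apply Finset.sum_congr rfl
  intro j _
  rw [Int.cast_mul]

theorem dom_omrR_nw (C : Cert12 D fd fx fc fz) (a : Fin fd.l → ℝ) (r s : ℕ) (hr : r < fd.n) (hs : s < fd.n) :
    fd.omrR fx a (fd.nw fx r s) = fd.omrR fx a s - ((fd.pr s r : ℤ) : ℝ) * fd.omrR fx a r := by
  have h := (fd.nw_spec C.c6.c2.chk.nn r s hr hs).2
  unfold FD.omrR
  rw [Finset.mul_sum, ← Finset.sum_sub_distrib]
  apply Finset.sum_congr rfl
  intro j _
  rw [h j.val j.isLt]
  push_cast
  ring

theorem dom_omrR_sR (C : Cert12 D fd fx fc fz) (a : Fin fd.l → ℝ) (p s : ℕ) (hp : p < fd.n) (hs : s < fd.n) :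
    fd.omrR fx (fd.sR fx p a) s = fd.omrR fx a (fd.nw fx p s) := by
  rw [dom_omrR_nw C a p s hp hs, fd.pr_lin C.c6.c2.chk.lin s p hs, dom_omr_eq]
  obtain ⟨A, hA⟩ : ∃ A : ℝ, A = fd.omrR fx a p := ⟨_, rfl⟩
  unfold FD.sR
  rw [← hA]
  unfold FD.omrR
  rw [Finset.sum_mul, ← Finset.sum_sub_distrib]
  apply Finset.sum_congr rfl
  intro j _
  ring

theorem dom_omrR_simple (C : Cert12 D fd fx fc fz) (a : Fin fd.l → ℝ) (j : Fin fd.l) :
    fd.omrR fx a (fd.simples.getD j.val 0) = a j := by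
  have h := (fd.simple_spec C.c6.c2.simple j.val j.isLt).2.1
  unfold FD.omrR
  rw [Finset.sum_eq_single j]
  · rw [h j.val j.isLt, if_pos rfl, Int.cast_one, mul_one]
  · intro k _ hkj
    rw [h k.val k.isLt, if_neg (fun e => hkj (Fin.ext e.symm)), Int.cast_zero, mul_zero]
  · intro h'
    exact absurd (Finset.mem_univ j) h'

theorem dom_QR_sR (C : Cert12 D fd fx fc fz) (i : ℕ) (hi : i < fd.l) (a : Fin fd.l → ℝ) :
    fd.QR fx (fd.sR fx (fd.simples.getD i 0) a) = fd.QR fx a := by
  have hp : fd.simples.getD i 0 < fd.n := C.c6.c2.simple_lt i hi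
  unfold FD.QR
  have e : ∀ s ∈ Finset.range fd.n, (fd.omrR fx (fd.sR fx (fd.simples.getD i 0) a) s) ^ 2 =
      (fd.omrR fx a (fd.nw fx (fd.simples.getD i 0) s)) ^ 2 := by
    intro s hs
    rw [dom_omrR_sR C a _ s hp (Finset.mem_range.mp hs)]
  rw [Finset.sum_congr rfl e]
  refine Finset.sum_nbij' (fun s => fd.nw fx (fd.simples.getD i 0) s)
    (fun s => fd.nw fx (fd.simples.getD i 0) s) ?_ ?_ ?_ ?_ ?_
  · intro s hs
    exact Finset.mem_range.mpr (fd.nw_spec C.c6.c2.chk.nn _ s hp (Finset.mem_range.mp hs)).1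
  · intro s hs
    exact Finset.mem_range.mpr (fd.nw_spec C.c6.c2.chk.nn _ s hp (Finset.mem_range.mp hs)).1
  · intro s hs
    exact (fd.up_spec C.c6.up i hi s (Finset.mem_range.mp hs)).2.1
  · intro s hs
    exact (fd.up_spec C.c6.up i hi s (Finset.mem_range.mp hs)).2.1
  · intro s _
    rfl

/-- composition of transports -/
theorem dom_TrG_mul (n m : GL D.Idx F) (a a' a'' : Fin fd.l → ℝ) (h1 : TrG D fd fx n a a')
    (h2 : TrG D fd fx m a' a'') : TrG D fd fx (m * n) a a'' := by
  refine ⟨?_, ?_⟩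
  · rw [Units.val_mul]
    exact TrW_mul _ _ _ _ _ h1.1 h2.1
  · rw [_root_.mul_inv_rev, Units.val_mul]
    exact TrW_mul _ _ _ _ _ h2.2 h1.2

theorem dom_TrG_one (a : Fin fd.l → ℝ) : TrG D fd fx (1 : GL D.Idx F) a a := by
  refine ⟨?_, ?_⟩
  · rw [Units.val_one]
    exact TrW_one _
  · rw [inv_one, Units.val_one]
    exact TrW_one _

open Classical in
/-- the number of the positive roots on which the functional is negative -/
noncomputable def domCount (fd : FD) (fx : FX) (a : Fin fd.l → ℝ) : ℕ :=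
  ((Finset.range fd.n).filter fun s => fd.n / 2 ≤ s ∧ fd.omrR fx a s < 0).card

/-- reflecting in a fundamental root on which the functional is negative lowers the count -/
theorem domCount_lt (C : Cert12 D fd fx fc fz) (a : Fin fd.l → ℝ) (j : Fin fd.l) (hj : a j < 0) :
    domCount fd fx (fd.sR fx (fd.simples.getD j.val 0) a) < domCount fd fx a := by
  classical
  have hp : fd.simples.getD j.val 0 < fd.n := C.c6.c2.simple_lt j.val j.isLt
  have hpp : fd.n / 2 ≤ fd.simples.getD j.val 0 := C.c6.simple_pos j.val j.isLt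
  have hap : fd.omrR fx a (fd.simples.getD j.val 0) = a j := dom_omrR_simple C a j
  unfold domCount
  have hinj : Set.InjOn (fun s => fd.nw fx (fd.simples.getD j.val 0) s)
      ((Finset.range fd.n).filter fun s => fd.n / 2 ≤ s ∧
        fd.omrR fx (fd.sR fx (fd.simples.getD j.val 0) a) s < 0 : Finset ℕ) := by
    intro s hs t ht hst
    rw [Finset.mem_coe, Finset.mem_filter, Finset.mem_range] at hs ht
    have e1 := (fd.up_spec C.c6.up j.val j.isLt s hs.1).2.1
    have e2 := (fd.up_spec C.c6.up j.val j.isLt t ht.1).2.1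
    simp only at hst
    rw [← e1, hst, e2]
  rw [← Finset.card_image_of_injOn hinj]
  apply Finset.card_lt_card
  rw [Finset.ssubset_iff_of_subset]
  · -- the fundamental root itself is missed
    refine ⟨fd.simples.getD j.val 0, ?_, ?_⟩
    · rw [Finset.mem_filter, Finset.mem_range]
      exact ⟨hp, hpp, by rw [hap]; exact hj⟩
    · intro hmem
      obtain ⟨s, hs, hst⟩ := Finset.mem_image.mp hmem
      rw [Finset.mem_filter, Finset.mem_range] at hs
      obtain ⟨hsn, hspos, hneg⟩ := hs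
      rw [dom_omrR_sR C a _ s hp hsn] at hneg
      by_cases hsp : s = fd.simples.getD j.val 0
      · rw [hsp, dom_omrR_nw C a _ _ hp hp, (fd.lin_spec C.c6.c2.chk.lin _ hp).2.2, hap] at hneg
        push_cast at hneg
        linarith
      · have h3 := ((fd.up_spec C.c6.up j.val j.isLt s hsn).2.2 hspos hsp).1
        exact h3.2.2 hst
  · -- maps into
    intro t ht
    obtain ⟨s, hs, rfl⟩ := Finset.mem_image.mp ht
    rw [Finset.mem_filter, Finset.mem_range] at hs
    obtain ⟨hsn, hspos, hneg⟩ := hs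
    rw [dom_omrR_sR C a _ s hp hsn] at hneg
    rw [Finset.mem_filter, Finset.mem_range]
    have hsp : s ≠ fd.simples.getD j.val 0 := by
      intro e
      rw [e, dom_omrR_nw C a _ _ hp hp, (fd.lin_spec C.c6.c2.chk.lin _ hp).2.2, hap] at hneg
      push_cast at hneg
      linarith
    have h3 := ((fd.up_spec C.c6.up j.val j.isLt s hsn).2.2 hspos hsp).1
    exact ⟨h3.1, h3.2.1, hneg⟩

section fin
variable [Finite F]

/-- **DOM core**: with the REL fact `nG_TrG` as a hypothesis. -/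
theorem exists_dominant_of (C : Cert12 D fd fx fc fz)
    (h_nG : ∀ (i : ℕ) (hi : i < fd.l) (a : Fin fd.l → ℝ),
      TrG D fd fx (C.c6.c2.nG (F := F) (fd.simples.getD i 0) (C.c6.c2.simple_lt i hi)) a
        (fd.sR fx (fd.simples.getD i 0) a))
    (a : Fin fd.l → ℝ) :
    ∃ n : GL D.Idx F, n ∈ D.monomialSubgroup F ∧ ∃ a' : Fin fd.l → ℝ, fd.Dom a' ∧ TrG D fd fx n a a' ∧
      fd.QR fx a' = fd.QR fx a := by
  induction hk : domCount fd fx a using Nat.strong_induction_on generalizing a with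
  | _ k ih =>
    by_cases hdom : fd.Dom a
    · exact ⟨1, one_mem _, a, hdom, dom_TrG_one a, rfl⟩
    · unfold FD.Dom at hdom
      push Not at hdom
      obtain ⟨j, hj⟩ := hdom
      have hlt := domCount_lt C a j hj
      rw [hk] at hlt
      obtain ⟨n, hn, a', ha', htr, hQ⟩ := ih _ hlt (fd.sR fx (fd.simples.getD j.val 0) a) rfl
      refine ⟨n * C.c6.c2.nG (F := F) (fd.simples.getD j.val 0) (C.c6.c2.simple_lt j.val j.isLt),
        mul_mem hn (C.c6.c2.nG_mem_monomial _ _), a', ha', ?_, ?_⟩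
      · exact dom_TrG_mul _ _ _ _ _ (h_nG j.val j.isLt a) htr
      · rw [hQ, dom_QR_sR C j.val j.isLt a]

end fin

end Cfsg.Agent.Lib.H27.BT2
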