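import Mathlib
import Cfsg.Prelude.Def_ChevStructure
import Cfsg.Agent.Lib.H29.ChevAut1
import Cfsg.Agent.Lib.H29.BtDefs2

/-!
# S2154 (Borel–Tits), stage 2, piece SYL (architect helper29)

A `p`-subgroup of a Chevalley group in characteristic `p` lies in a conjugate of `U`; `U` is unipotent of step
`≥ 1` for the height functional.
-/

set_option autoImplicit false

namespace Cfsg.Agent.Lib.H27.BT2

open Cfsg.Lie Matrix Cfsg.Agent.Lib.H29.BT Cfsg.Agent.Lib.H29.Chev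

variable {D : ChevalleyDatum} {fd : FD} {fx : FX} {fc : FC} {fz : FZ} {F : Type*} [Field F]

/-- (local copy of the LIN fact) the real functional of an integral one, on coded indices -/
theorem syl_omR_castF (a : ℕ → ℤ) (c : ℕ) : fd.omR fx (fd.castF a) c = ((fd.om fx a c : ℤ) : ℝ) := by
  unfold FD.omR FD.om FD.castF
  rw [listsum_eq, Int.cast_sum, ← Fin.sum_univ_eq_sum_range (fun j => ((a j * fd.coordZ fx c j : ℤ) : ℝ))]
  apply Finset.sum_congr rfl
  intro j _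
  rw [Int.cast_mul]

section fin
variable [Finite F]

theorem exists_conj_le_pos (C : Cert12 D fd fx fc fz) (p : ℕ) [Fact p.Prime] [CharP F p]
    (V : Subgroup (GL D.Idx F)) (hVG : V ≤ D.group F) (hV : IsPGroup p ↥V) :
    ∃ g ∈ D.group F, ∀ v ∈ V, g⁻¹ * v * g ∈ D.posUnipotent F := by
  classical
  have hU := C.isPGroup_U1 (F := F) p
  have hUi := C.not_dvd_index_U1 (F := F) p
  let P : Sylow p ↥(D.group F) := hU.toSylow hUi
  have hV1 : IsPGroup p ↥(V.subgroupOf (D.group F)) :=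
    hV.of_equiv (Subgroup.subgroupOfEquivOfLe hVG).symm
  obtain ⟨Q, hQ⟩ := hV1.exists_le_sylow
  obtain ⟨x, hx⟩ := MulAction.exists_smul_eq ↥(D.group F) Q P
  refine ⟨((x⁻¹ : ↥(D.group F)) : GL D.Idx F), (x⁻¹ : ↥(D.group F)).2, ?_⟩
  intro v hv
  have hvG : v ∈ D.group F := hVG hv
  have h1 : (⟨v, hvG⟩ : ↥(D.group F)) ∈ (Q : Subgroup ↥(D.group F)) :=
    hQ (Subgroup.mem_subgroupOf.mpr hv)
  have h2 : x * ⟨v, hvG⟩ * x⁻¹ ∈ (P : Subgroup ↥(D.group F)) := by
    rw [← hx, Sylow.coe_subgroup_smul, Subgroup.mem_pointwise_smul_iff_inv_smul_mem]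
    simp only [MulAut.smul_def, MulAut.conj_inv_apply]
    have e : x⁻¹ * (x * ⟨v, hvG⟩ * x⁻¹) * x = ⟨v, hvG⟩ := by group
    rw [e]
    exact h1
  have h3 : x * ⟨v, hvG⟩ * x⁻¹ ∈ Cert12.U1 D F := h2
  have h4 := Subgroup.mem_subgroupOf.mp h3
  simpa using h4

theorem pos_le_UWG (C : Cert12 D fd fx fc fz) : D.posUnipotent F ≤ UWG (wR D fd fx (fd.castF (aJ ∅))) := by
  intro g hg
  rw [← C.radical_empty] at hg
  have h1 := C.radical_le_GwF ∅ g hg
  rw [mem_UWG]
  refine ⟨h1.1, ?_⟩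
  intro i j hij h
  have h2 := h1.2 i j hij h
  unfold wR
  rw [syl_omR_castF, syl_omR_castF]
  exact_mod_cast h2

end fin

end Cfsg.Agent.Lib.H27.BT2
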