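import Mathlib

/-!
# S2154 (Borel–Tits), piece GRD1 (architect helper29): monoid facts for the graded matrix sets

The four definitions `UW`, `U0W`, `PW`, `TrW` are restated verbatim from `tools/blueprints/S2154_sigs.lean`.
-/

set_option autoImplicit false

namespace Cfsg.Agent.Lib.H27.BT

variable {ι : Type*} [Fintype ι] [DecidableEq ι] {F : Type*} [Field F]

/-- unipotent of step `≥ 1` for the grading `ω` -/
def UW (ω : ι → ℝ) : Set (Matrix ι ι F) :=
  {M | (∀ a, M a a = 1) ∧ ∀ a b, a ≠ b → M a b ≠ 0 → ω b + 1 ≤ ω a}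
/-- unipotent of step `> 0` for the grading `ω` -/
def U0W (ω : ι → ℝ) : Set (Matrix ι ι F) :=
  {M | (∀ a, M a a = 1) ∧ ∀ a b, a ≠ b → M a b ≠ 0 → ω b < ω a}
/-- preserving the filtration of `ω` -/
def PW (ω : ι → ℝ) : Set (Matrix ι ι F) := {M | ∀ a b, M a b ≠ 0 → ω b ≤ ω a}
/-- carrying the grading `ω` to the grading `ω'` -/
def TrW (ω ω' : ι → ℝ) : Set (Matrix ι ι F) := {M | ∀ a b, M a b ≠ 0 → ω' a = ω b}

/-- a nonzero entry of a product comes from a nonzero pair of entries -/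
theorem grd1_exists_of_mul_ne_zero (M N : Matrix ι ι F) (a b : ι) (h : (M * N) a b ≠ 0) :
    ∃ c, M a c ≠ 0 ∧ N c b ≠ 0 := by
  rw [Matrix.mul_apply] at h
  obtain ⟨c, -, hc⟩ := Finset.exists_ne_zero_of_sum_ne_zero h
  exact ⟨c, left_ne_zero_of_mul hc, right_ne_zero_of_mul hc⟩

/-- the diagonal entry of a product of two matrices with unit diagonal and no "return paths" -/
theorem grd1_mul_diag (M N : Matrix ι ι F) (a : ι) (hM : M a a = 1) (hN : N a a = 1)
    (h : ∀ c, c ≠ a → M a c ≠ 0 → N c a ≠ 0 → False) : (M * N) a a = 1 := by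
  rw [Matrix.mul_apply, Finset.sum_eq_single a]
  · rw [hM, hN, one_mul]
  · intro c _ hca
    by_contra hne
    exact h c hca (left_ne_zero_of_mul hne) (right_ne_zero_of_mul hne)
  · intro h'
    exact absurd (Finset.mem_univ a) h'

theorem UW_one (ω : ι → ℝ) : (1 : Matrix ι ι F) ∈ UW ω := by
  refine ⟨fun a => Matrix.one_apply_eq a, ?_⟩
  intro a b hab h
  exact absurd (Matrix.one_apply_ne hab) h

theorem UW_mul (ω : ι → ℝ) (M N : Matrix ι ι F) (hM : M ∈ UW ω) (hN : N ∈ UW ω) : M * N ∈ UW ω := by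
  refine ⟨?_, ?_⟩
  · intro a
    refine grd1_mul_diag M N a (hM.1 a) (hN.1 a) ?_
    intro c hca h1 h2
    have e1 := hM.2 a c hca.symm h1
    have e2 := hN.2 c a hca h2
    linarith
  · intro a b hab h
    obtain ⟨c, h1, h2⟩ := grd1_exists_of_mul_ne_zero M N a b h
    by_cases hac : a = c
    · subst hac
      exact hN.2 a b hab h2
    by_cases hcb : c = b
    · subst hcb
      exact hM.2 a c hab h1
    have e1 := hM.2 a c hac h1
    have e2 := hN.2 c b hcb h2
    linarith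

theorem U0W_one (ω : ι → ℝ) : (1 : Matrix ι ι F) ∈ U0W ω := by
  refine ⟨fun a => Matrix.one_apply_eq a, ?_⟩
  intro a b hab h
  exact absurd (Matrix.one_apply_ne hab) h

theorem U0W_mul (ω : ι → ℝ) (M N : Matrix ι ι F) (hM : M ∈ U0W ω) (hN : N ∈ U0W ω) :
    M * N ∈ U0W ω := by
  refine ⟨?_, ?_⟩
  · intro a
    refine grd1_mul_diag M N a (hM.1 a) (hN.1 a) ?_
    intro c hca h1 h2
    have e1 := hM.2 a c hca.symm h1
    have e2 := hN.2 c a hca h2
    linarith
  · intro a b hab h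
    obtain ⟨c, h1, h2⟩ := grd1_exists_of_mul_ne_zero M N a b h
    by_cases hac : a = c
    · subst hac
      exact hN.2 a b hab h2
    by_cases hcb : c = b
    · subst hcb
      exact hM.2 a c hab h1
    have e1 := hM.2 a c hac h1
    have e2 := hN.2 c b hcb h2
    linarith

theorem PW_one (ω : ι → ℝ) : (1 : Matrix ι ι F) ∈ PW ω := by
  intro a b h
  by_cases hab : a = b
  · subst hab
    exact le_refl _
  · exact absurd (Matrix.one_apply_ne hab) h

theorem PW_mul (ω : ι → ℝ) (M N : Matrix ι ι F) (hM : M ∈ PW ω) (hN : N ∈ PW ω) : M * N ∈ PW ω := by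
  intro a b h
  obtain ⟨c, h1, h2⟩ := grd1_exists_of_mul_ne_zero M N a b h
  exact le_trans (hN c b h2) (hM a c h1)

theorem TrW_one (ω : ι → ℝ) : (1 : Matrix ι ι F) ∈ TrW ω ω := by
  intro a b h
  by_cases hab : a = b
  · subst hab
    rfl
  · exact absurd (Matrix.one_apply_ne hab) h

/-- `M` carries `ω` to `ω'`, `N` carries `ω'` to `ω''`: `N * M` carries `ω` to `ω''` -/
theorem TrW_mul (ω ω' ω'' : ι → ℝ) (M N : Matrix ι ι F) (hM : M ∈ TrW ω ω') (hN : N ∈ TrW ω' ω'') :
    N * M ∈ TrW ω ω'' := by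
  intro a b h
  obtain ⟨c, h1, h2⟩ := grd1_exists_of_mul_ne_zero N M a b h
  exact (hN a c h1).trans (hM c b h2)

theorem UW_sub_U0W (ω : ι → ℝ) : (UW ω : Set (Matrix ι ι F)) ⊆ U0W ω := by
  intro M hM
  refine ⟨hM.1, ?_⟩
  intro a b hab h
  have := hM.2 a b hab h
  linarith

theorem U0W_sub_PW (ω : ι → ℝ) : (U0W ω : Set (Matrix ι ι F)) ⊆ PW ω := by
  intro M hM a b h
  by_cases hab : a = b
  · subst hab
    exact le_refl _
  · exact (hM.2 a b hab h).le

theorem TrW_sub_PW (ω : ι → ℝ) : (TrW ω ω : Set (Matrix ι ι F)) ⊆ PW ω := by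
  intro M hM a b h
  exact (hM a b h).ge

end Cfsg.Agent.Lib.H27.BT
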