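import Mathlib
import Cfsg.Agent.Lib.H29.BtDefs
import Cfsg.Agent.Lib.H27.BtGRD1

/-!
# S2154 (Borel–Tits), piece GRD1, stated about helper29's definitions `Cfsg.Agent.Lib.H29.BT.{UW,U0W,PW,TrW}`

Same eleven statements as `Cfsg.Agent.Lib.H27.BtGRD1`, in the namespace `Cfsg.Agent.Lib.H27.BTb`, about the
definitions of `Cfsg.Agent.Lib.H29.BtDefs` (definitionally the same sets).
-/

set_option autoImplicit false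

namespace Cfsg.Agent.Lib.H27.BTb
open Cfsg.Agent.Lib.H29.BT

variable {ι : Type*} [Fintype ι] [DecidableEq ι] {F : Type*} [Field F]

/-! ## piece GRD1 : monoid facts -/
theorem UW_one (ω : ι → ℝ) : (1 : Matrix ι ι F) ∈ UW ω :=
  Cfsg.Agent.Lib.H27.BT.UW_one ω
theorem UW_mul (ω : ι → ℝ) (M N : Matrix ι ι F) (hM : M ∈ UW ω) (hN : N ∈ UW ω) : M * N ∈ UW ω :=
  Cfsg.Agent.Lib.H27.BT.UW_mul ω M N hM hN
theorem U0W_one (ω : ι → ℝ) : (1 : Matrix ι ι F) ∈ U0W ω :=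
  Cfsg.Agent.Lib.H27.BT.U0W_one ω
theorem U0W_mul (ω : ι → ℝ) (M N : Matrix ι ι F) (hM : M ∈ U0W ω) (hN : N ∈ U0W ω) : M * N ∈ U0W ω :=
  Cfsg.Agent.Lib.H27.BT.U0W_mul ω M N hM hN
theorem PW_one (ω : ι → ℝ) : (1 : Matrix ι ι F) ∈ PW ω :=
  Cfsg.Agent.Lib.H27.BT.PW_one ω
theorem PW_mul (ω : ι → ℝ) (M N : Matrix ι ι F) (hM : M ∈ PW ω) (hN : N ∈ PW ω) : M * N ∈ PW ω :=
  Cfsg.Agent.Lib.H27.BT.PW_mul ω M N hM hN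
theorem TrW_one (ω : ι → ℝ) : (1 : Matrix ι ι F) ∈ TrW ω ω :=
  Cfsg.Agent.Lib.H27.BT.TrW_one ω
/-- `M` carries `ω` to `ω'`, `N` carries `ω'` to `ω''`: `N * M` carries `ω` to `ω''` -/
theorem TrW_mul (ω ω' ω'' : ι → ℝ) (M N : Matrix ι ι F) (hM : M ∈ TrW ω ω') (hN : N ∈ TrW ω' ω'') :
    N * M ∈ TrW ω ω'' :=
  Cfsg.Agent.Lib.H27.BT.TrW_mul ω ω' ω'' M N hM hN
theorem UW_sub_U0W (ω : ι → ℝ) : (UW ω : Set (Matrix ι ι F)) ⊆ U0W ω :=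
  Cfsg.Agent.Lib.H27.BT.UW_sub_U0W ω
theorem U0W_sub_PW (ω : ι → ℝ) : (U0W ω : Set (Matrix ι ι F)) ⊆ PW ω :=
  Cfsg.Agent.Lib.H27.BT.U0W_sub_PW ω
theorem TrW_sub_PW (ω : ι → ℝ) : (TrW ω ω : Set (Matrix ι ι F)) ⊆ PW ω :=
  Cfsg.Agent.Lib.H27.BT.TrW_sub_PW ω


end Cfsg.Agent.Lib.H27.BTb
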