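/-
helper27 library: the centralizer in `M24` of a fixed-point-free involution (order 7680, transitive, fixing a
unique sextet tetrad by tetrad).
-/
import Mathlib
import Cfsg.Prelude.Def_Sporadic_a
import Cfsg.Prelude.Def_SporadicCombinatorics
import Cfsg.Agent.Lib.H27.M24Cnt
import Cfsg.Agent.Lib.H27.InvClasses
import Cfsg.Agent.Lib.H28.SextetKeys

set_option autoImplicit false

namespace Cfsg.Agent.Lib.H27

open Cfsg Cfsg.Agent.Lib.H28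
open scoped Pointwise

namespace C2B

open M24Cnt InvNF

/-- The packed table of the fixed-point-free involution `rBw`. -/
def R2B : ℕ := 22905550945827948657697045989164119

theorem R2B_ok : pkOK R2B rBw = true := by decide +kernel

/-- The pruning points. -/
def pp2B : List (List ℕ) := [[], [], [23], [], [1], [], [3], []]

theorem pp2B_ok : ppOK R2B pp2B = true := by decide +kernel

set_option maxRecDepth 100000 in
theorem cnt2B : cnt R2B R2B pp2B 6 1 idP = 320 := by decide +kernel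

/-! ### Transitivity -/

/-- Words of elements of the centralizer mapping `∞` to each point. -/
def trW : List (List ℕ) := [
  [2, 0, 3, 1, 3, 3, 1, 3, 0, 0, 1, 1, 1, 1, 4, 1, 3, 0, 4, 4, 0, 4, 1, 4, 1, 1, 3, 3, 1, 3, 0, 4, 1, 4, 1, 4],
  [0, 2, 1, 0, 3, 0, 3, 0, 3, 1, 3, 1, 1, 1, 4, 0, 4, 1, 1, 1, 1, 4, 4, 1, 4, 1, 1, 3, 3, 1, 3, 0, 4, 1, 4, 1, 4],
  [0, 0, 2, 0, 4, 1, 1, 4, 1, 4, 4, 1, 1, 0, 3, 0, 3, 0, 3, 1, 3, 2, 0, 3, 0, 2, 3, 1, 1, 4, 1, 4, 1, 2, 4, 1, 4, 1, 1, 3, 3, 1, 3, 0, 4, 1, 4, 1, 4],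
  [0, 0, 0, 2, 1, 3, 1, 3, 1, 4, 4, 1, 1, 1, 3, 1, 1, 1, 4, 0, 4, 1, 1, 1, 1, 4],
  [3, 3, 0, 2, 4, 4, 1, 1, 1, 4, 0, 0, 3, 3, 0, 4, 1, 4, 1, 1, 3, 3, 1, 3, 0, 4, 1, 4, 1, 4],
  [1, 4, 0, 2, 1, 4, 4, 1, 4, 4, 1, 1, 4, 0, 0, 3, 3, 0, 3, 3, 1, 4, 1, 1, 1, 3, 0, 3, 3, 0, 4, 1, 4, 1, 1, 3, 3, 1, 3, 0, 4, 1, 4, 1, 4],
  [4, 0, 2, 4, 1, 0, 0, 4, 1, 4, 0, 4, 1, 3, 1, 4, 4, 1, 4, 0, 0, 3, 1, 1, 1, 3, 1, 4],
  [0, 4, 0, 2, 1, 4, 4, 1, 4, 1, 1, 4, 4, 0, 4, 1, 1, 1, 1, 4, 1, 3, 0, 4, 4, 0, 4, 1, 4, 1, 1, 3, 3, 1, 3, 0, 4, 1, 4, 1, 4],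
  [0, 0, 4, 0, 2, 0, 0, 3, 3, 1, 3, 3, 0, 0, 1, 4, 0, 0, 0, 0, 3, 1, 3, 0, 0, 4, 1, 1, 1, 3, 0, 3, 0, 3, 1, 4, 0, 4, 4, 0, 0, 3, 0, 3],
  [2, 1, 4, 0, 2, 1, 3, 0, 3, 0, 4, 4, 0, 4, 1, 3, 1, 1, 4, 0, 3, 3, 1, 4, 1, 1, 3, 0, 0, 0, 0, 3, 0, 3, 0, 3, 1, 4, 0, 4, 4, 0, 0, 3, 0, 3],
  [1, 2, 0, 0, 2, 0, 0, 0, 3, 1, 1, 1, 1, 3, 3, 4, 1, 4, 1, 1, 3, 3, 1, 3, 0, 4, 1, 4, 1, 4],
  [2, 0, 0, 2, 3, 1, 4, 0, 3, 1, 1, 1, 1, 3, 1, 4, 0, 3, 3, 1, 4, 1, 1, 3, 0, 0, 0, 0, 3, 0, 3, 0, 3, 1, 4, 0, 4, 4, 0, 0, 3, 0, 3],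
  [2, 1, 1, 2, 1, 4, 4, 1, 4, 1, 1, 4, 1, 4, 4, 1, 1, 4, 1, 4, 1, 1, 3, 3, 1, 3, 0, 4, 1, 4, 1, 4],
  [1, 3, 1, 2, 0, 3, 1, 1, 3, 0, 4, 0, 3, 1, 1, 4, 1, 1, 1, 1, 4, 1, 3, 0, 4, 4, 0, 3, 0, 3, 0, 3, 1, 4, 0, 4, 4, 0, 0, 3, 0, 3],
  [3, 1, 2, 1, 4, 0, 4, 4, 4, 4, 0, 4, 0, 4, 0, 0, 0, 4, 0, 4, 4, 4, 1, 4, 1, 1, 3, 3, 1, 3, 0, 4, 1, 4, 1, 4],
  [0, 3, 1, 2, 0, 3, 1, 1, 4, 4, 1, 1, 3, 0, 0, 1, 4, 4, 1, 4, 1, 1, 1, 4, 1, 1, 3, 1, 1, 3, 0, 3, 0, 3, 1, 4, 0, 4, 4, 0, 0, 3, 0, 3],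
  [0, 0, 3, 1, 2, 0, 0, 3, 1, 0, 3, 1, 4, 4, 0, 3, 0, 0, 4, 1, 1, 1, 3, 1, 3, 1, 4, 1, 3, 3, 4, 1, 4, 1, 1, 3, 3, 1, 3, 0, 4, 1, 4, 1, 4],
  [1, 3, 0, 2, 0, 4, 1, 1, 4, 4, 0, 4, 1, 3, 2, 0, 3, 0, 2, 3, 1, 1, 4, 1, 4, 1, 2, 3, 0, 3, 0, 3, 1, 4, 0, 4, 4, 0, 0, 3, 0, 3],
  [3, 0, 2, 0, 4, 1, 4, 4, 1, 1, 4, 0, 0, 3, 3, 0, 3, 0, 3, 0, 3, 1, 4, 0, 4, 4, 0, 0, 3, 0, 3],
  [4, 1, 2, 0, 4, 0, 1, 1, 4, 4, 0, 4, 4, 0, 3, 0, 0, 4, 0, 4, 1, 3, 0, 4, 4, 1, 3, 4, 1, 4, 1, 1, 3, 3, 1, 3, 0, 4, 1, 4, 1, 4],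
  [0, 4, 1, 2, 0, 0, 4, 4, 0, 0, 0, 0, 4, 1, 1, 3, 1, 1, 1, 4, 0, 4, 1, 1, 1, 1, 4],
  [1, 1, 2, 0, 4, 4, 0, 0, 3, 0, 3, 0, 3, 3, 1, 1, 3, 2, 0, 3, 0, 2, 3, 1, 1, 4, 1, 4, 1, 2, 3, 0, 3, 0, 3, 1, 4, 0, 4, 4, 0, 0, 3, 0, 3],
  [1, 2, 3, 1, 3, 3, 1, 3, 3, 0, 0, 1, 4, 0, 0, 0, 0, 3, 1, 3, 0, 0, 4, 1, 1, 1],
  []]

theorem trW_ok : (List.range 24).all (fun z => evalPt (trW.getD z []) 23 == z &&
    M24NF.eqW (trW.getD z [] ++ rBw) (rBw ++ trW.getD z [])) = true := by decide +kernel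

theorem exists_centralizer_map (p : GolayPt) :
    ∃ c ∈ M24, c * wordPerm rBw = wordPerm rBw * c ∧ c (gPt 23) = p := by
  have h := List.all_eq_true.1 trW_ok (gIdx p) (List.mem_range.2 (gIdx_lt p))
  rw [Bool.and_eq_true, beq_iff_eq] at h
  refine ⟨wordPerm (trW.getD (gIdx p) []), wordPerm_mem_M24 _, ?_, ?_⟩
  · rw [← wordPerm_append, ← wordPerm_append]
    exact M24NF.wordPerm_eq_of_eqW h.2
  · rw [wordPerm_gPt (by norm_num) h.1, gPt_gIdx]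

theorem trans_rB (p q : GolayPt) : ∃ c ∈ M24, c * wordPerm rBw = wordPerm rBw * c ∧ c p = q := by
  obtain ⟨cp, hcp, hcpr, hp⟩ := exists_centralizer_map p
  obtain ⟨cq, hcq, hcqr, hq⟩ := exists_centralizer_map q
  refine ⟨cq * cp⁻¹, M24.mul_mem hcq (M24.inv_mem hcp), ?_, ?_⟩
  · have h1 : cp⁻¹ * wordPerm rBw = wordPerm rBw * cp⁻¹ := by
      rw [eq_mul_inv_iff_mul_eq, mul_assoc, ← hcpr, ← mul_assoc, inv_mul_cancel, one_mul]
    rw [mul_assoc, h1, ← mul_assoc, hcqr, mul_assoc]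
  · rw [Equiv.Perm.mul_apply, ← hp, Equiv.Perm.inv_def, Equiv.symm_apply_apply, hq]

/-! ### The order of the centralizer -/

/-- The centralizer as a subgroup. -/
def cB : Subgroup (Equiv.Perm GolayPt) := M24 ⊓ Subgroup.centralizer {wordPerm rBw}

theorem mem_cB {c : Equiv.Perm GolayPt} : c ∈ cB ↔ c ∈ M24 ∧ c * wordPerm rBw = wordPerm rBw * c := by
  unfold cB
  rw [Subgroup.mem_inf, Subgroup.mem_centralizer_iff]
  constructor
  · rintro ⟨h1, h2⟩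
    exact ⟨h1, (h2 _ (Set.mem_singleton _)).symm⟩
  · rintro ⟨h1, h2⟩
    refine ⟨h1, ?_⟩
    intro x hx
    rw [Set.mem_singleton_iff] at hx
    rw [hx, h2]

theorem card_cB : Nat.card cB = 7680 := by
  have h1 := card_fixSub_eq cB [] 23
  have horb : {y | ∃ h ∈ fixSub cB [], h (gPt 23) = y} = Set.univ := by
    ext p
    simp only [Set.mem_ofPred_eq, Set.mem_univ, iff_true, fixSub_nil]
    obtain ⟨c, hc, hcr, hcp⟩ := exists_centralizer_map p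
    exact ⟨c, mem_cB.2 ⟨hc, hcr⟩, hcp⟩
  have hstab : Nat.card (fixSub cB [23]) = 320 := by
    rw [← cnt2B, ← cnt_sound R2B_ok R2B_ok pp2B_ok 6 1 rfl 1 idP (Subgroup.one_mem _) rep_idP,
      ← Nat.card_coe_set_eq]
    apply Nat.card_congr
    apply Equiv.subtypeEquivRight
    intro c
    rw [mem_fixSub, mem_cB]
    unfold cset
    rw [Set.mem_ofPred_eq, one_mul, show levelFix 1 = [23] from rfl, mem_fixSub]
    tauto
  have hc24 : Nat.card GolayPt = 24 := by rw [Nat.card_eq_fintype_card, M24NF.card_golayPt]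
  rw [horb, Set.ncard_univ, hc24, hstab, fixSub_nil] at h1
  rw [h1]

theorem card_centralizer_rB :
    Nat.card {c : Equiv.Perm GolayPt // c ∈ M24 ∧ c * wordPerm rBw = wordPerm rBw * c} = 7680 := by
  rw [← card_cB]
  apply Nat.card_congr
  apply Equiv.subtypeEquivRight
  intro c
  exact mem_cB.symm

/-! ### The sextet -/

/-- The key of the sextet. -/
def s0key : List ℕ := [2310, 8248, 33984, 3670528, 4407296, 8654849]

/-- The table of `rBw` (an involution). -/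
def tiB : List ℕ := [23, 2, 1, 4, 3, 13, 10, 15, 11, 19, 6, 8, 18, 5, 16, 7, 14, 22, 12, 9, 21, 20, 17, 0]

theorem tiB_eq : wordTab (invWord rBw) = tiB := by decide +kernel

theorem rB_smul_ptsMask (m : ℕ) : wordPerm rBw • ptsMask m = ptsMask (pullMask tiB m) := by
  apply smul_ptsMask
  intro p
  rw [← tiB_eq, ← wordTab_spec, wordPerm_invWord, Equiv.Perm.inv_def]

theorem s0key_mem : s0key ∈ flatK sextKs 1771 :=
  mem_flatK.2 ⟨388, by norm_num, by decide +kernel⟩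

theorem s0_mem : decL s0key ∈ sextets := decL_mem_sextets (sextKey_ok s0key_mem)

set_option maxRecDepth 100000 in
theorem uniq_bool : (flatK sextKs 1771).all (fun k =>
    !(k.all (fun m => pullMask tiB m == m)) || k == s0key) = true := by decide +kernel

theorem s0_fix_bool : s0key.all (fun m => pullMask tiB m == m) = true := by decide +kernel

theorem s0_fix : ∀ T ∈ decL s0key, wordPerm rBw • T = T := by
  intro T hT
  obtain ⟨m, hm, rfl⟩ := mem_decL.1 hT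
  have := List.all_eq_true.1 s0_fix_bool m hm
  rw [beq_iff_eq] at this
  rw [rB_smul_ptsMask, this]

theorem rB_smul_s0 : wordPerm rBw • decL s0key = decL s0key := by
  ext T
  rw [Finset.mem_smul_finset]
  constructor
  · rintro ⟨T', hT', rfl⟩
    rw [s0_fix T' hT']
    exact hT'
  · intro hT
    exact ⟨T, hT, s0_fix T hT⟩

/-- The sextet is the only one whose tetrads are all fixed by the involution. -/
theorem sextet_unique {S : Finset (Finset GolayPt)} (hS : S ∈ sextets)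
    (hfix : ∀ T ∈ S, wordPerm rBw • T = T) : S = decL s0key := by
  obtain ⟨k, hk, rfl⟩ := exists_sextKey hS
  have h := List.all_eq_true.1 uniq_bool k hk
  rw [Bool.or_eq_true] at h
  rcases h with h | h
  · exfalso
    have hall : k.all (fun m => pullMask tiB m == m) = true := by
      rw [List.all_eq_true]
      intro m hm
      have h1 := hfix (ptsMask m) (mem_decL.2 ⟨m, hm, rfl⟩)
      rw [rB_smul_ptsMask] at h1
      rw [beq_iff_eq]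
      have hok := sextKey_keyOK hk
      unfold keyOK at hok
      rw [Bool.and_eq_true, List.all_eq_true] at hok
      have hm24 := hok.1 m hm
      rw [decide_eq_true_eq] at hm24
      exact ptsMask_inj (Nat.ofBits_lt_two_pow _) hm24 h1
    rw [hall] at h
    exact absurd h (by decide)
  · rw [beq_iff_eq] at h
    rw [h]

theorem smul_sextets {g : Equiv.Perm GolayPt} (hg : g ∈ M24) {S : Finset (Finset GolayPt)}
    (hS : S ∈ sextets) : g • S ∈ sextets := by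
  obtain ⟨h6, h4, hu⟩ := hS
  refine ⟨?_, ?_, ?_⟩
  · rw [Finset.card_smul_finset]; exact h6
  · intro t ht
    obtain ⟨t', ht', rfl⟩ := Finset.mem_smul_finset.1 ht
    rw [Finset.card_smul_finset]; exact h4 t' ht'
  · intro t ht u hu' hne
    obtain ⟨t', ht', rfl⟩ := Finset.mem_smul_finset.1 ht
    obtain ⟨u', hu'', rfl⟩ := Finset.mem_smul_finset.1 hu'
    rw [← Finset.smul_finset_union]
    exact smul_mem_octads hg (hu t' ht' u' hu'' (fun h => hne (by rw [h])))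

theorem centralizer_fix_s0 {c : Equiv.Perm GolayPt} (hc : c ∈ M24)
    (hcr : c * wordPerm rBw = wordPerm rBw * c) : c • decL s0key = decL s0key := by
  apply sextet_unique (smul_sextets hc s0_mem)
  intro T hT
  obtain ⟨T', hT', rfl⟩ := Finset.mem_smul_finset.1 hT
  rw [← mul_smul, ← hcr, mul_smul, s0_fix T' hT']

/-- The main statement. -/
theorem main (t : Equiv.Perm GolayPt) (ht : t ∈ M24) (h₂ : orderOf t = 2) (h₀ : ∀ p, t p ≠ p) :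
    Nat.card {c : Equiv.Perm GolayPt // c ∈ M24 ∧ c * t = t * c} = 7680 ∧
    (∀ p q : GolayPt, ∃ c ∈ M24, c * t = t * c ∧ c p = q) ∧
    ∃ S ∈ sextets, t • S = S ∧ ∀ c ∈ M24, c * t = t * c → c • S = S := by
  obtain ⟨k, hk, h | h⟩ := exists_conj_rep ht h₂
  · exact absurd h₀ (not_fpf_of_conj_rA h)
  have ht' : t = k⁻¹ * wordPerm rBw * k := by rw [← h]; group
  have hconj : ∀ c, c * t = t * c ↔
      (k * c * k⁻¹) * wordPerm rBw = wordPerm rBw * (k * c * k⁻¹) := by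
    intro c
    rw [← h]
    constructor
    · intro hc
      calc k * c * k⁻¹ * (k * t * k⁻¹) = k * (c * t) * k⁻¹ := by group
        _ = k * (t * c) * k⁻¹ := by rw [hc]
        _ = (k * t * k⁻¹) * (k * c * k⁻¹) := by group
    · intro hc
      calc c * t = k⁻¹ * (k * c * k⁻¹ * (k * t * k⁻¹)) * k := by group
        _ = k⁻¹ * ((k * t * k⁻¹) * (k * c * k⁻¹)) * k := by rw [hc]
        _ = t * c := by group
  have hkM : ∀ c ∈ M24, k * c * k⁻¹ ∈ M24 := fun c hc => M24.mul_mem (M24.mul_mem hk hc) (M24.inv_mem hk)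
  have hkM' : ∀ c ∈ M24, k⁻¹ * c * k ∈ M24 := fun c hc => M24.mul_mem (M24.mul_mem (M24.inv_mem hk) hc) hk
  have hkk : ∀ c, k * (k⁻¹ * c * k) * k⁻¹ = c := fun c => by group
  have hkk' : ∀ c, k⁻¹ * (k * c * k⁻¹) * k = c := fun c => by group
  refine ⟨?_, ?_, ?_⟩
  · rw [← card_centralizer_rB]
    apply Nat.card_congr
    exact
      { toFun := fun c => ⟨k * c.1 * k⁻¹, hkM c.1 c.2.1, (hconj c.1).1 c.2.2⟩
        invFun := fun c => ⟨k⁻¹ * c.1 * k, hkM' c.1 c.2.1, (hconj _).2 (by rw [hkk]; exact c.2.2)⟩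
        left_inv := fun c => Subtype.ext (hkk' c.1)
        right_inv := fun c => Subtype.ext (hkk c.1) }
  · intro p q
    obtain ⟨c, hc, hcr, hcp⟩ := trans_rB (k p) (k q)
    refine ⟨k⁻¹ * c * k, hkM' c hc, ?_, ?_⟩
    · rw [hconj, hkk]
      exact hcr
    · rw [Equiv.Perm.mul_apply, Equiv.Perm.mul_apply, hcp, Equiv.Perm.inv_def, Equiv.symm_apply_apply]
  · refine ⟨k⁻¹ • decL s0key, smul_sextets (M24.inv_mem hk) s0_mem, ?_, ?_⟩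
    · rw [ht', ← mul_smul]
      have e : k⁻¹ * wordPerm rBw * k * k⁻¹ = k⁻¹ * wordPerm rBw := by group
      rw [e, mul_smul, rB_smul_s0]
    · intro c hc hct
      have h1 := centralizer_fix_s0 (hkM c hc) ((hconj c).1 hct)
      have e : c * k⁻¹ = k⁻¹ * (k * c * k⁻¹) := by group
      rw [← mul_smul, e, mul_smul, h1]

end C2B

end Cfsg.Agent.Lib.H27
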