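import Mathlib
import Cfsg.Agent.Lib.H28.CSL2Defs

/-!
# S3211 piece ISO1 (helper27): the coset `L₁L₂n` contains no involution
-/

set_option autoImplicit false

namespace Cfsg.Agent.Lib.H27.CSL2

open Cfsg.Agent.Lib.H28.CSL2

section cfg

variable {G : Type*} [Group G] {L₁ L₂ : Subgroup G} {j n : G}

/-- `(a b n)² = (a · n b n⁻¹)(b · n a n⁻¹) j` -/
theorem cfg_sq_coset (h : Cfg L₁ L₂ j n) {a b : G} (ha : a ∈ L₁) (hb : b ∈ L₂) :
    (a * b * n) * (a * b * n) = (a * (n * b * n⁻¹)) * (b * (n * a * n⁻¹)) * j := by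
  have ha₂ : n * a * n⁻¹ ∈ L₂ := h.n12 a ha
  have hb₁ : n * b * n⁻¹ ∈ L₁ := h.n21 b hb
  have c1 : (n * b * n⁻¹) * b = b * (n * b * n⁻¹) := h.comm _ hb₁ b hb
  have c2 : (n * b * n⁻¹) * (n * a * n⁻¹) = (n * a * n⁻¹) * (n * b * n⁻¹) := h.comm _ hb₁ _ ha₂
  calc (a * b * n) * (a * b * n)
      = a * b * ((n * a * n⁻¹) * (n * b * n⁻¹)) * (n * n) := by group
    _ = a * b * ((n * b * n⁻¹) * (n * a * n⁻¹)) * (n * n) := by rw [c2]
    _ = a * (b * (n * b * n⁻¹)) * (n * a * n⁻¹) * (n * n) := by group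
    _ = a * ((n * b * n⁻¹) * b) * (n * a * n⁻¹) * (n * n) := by rw [c1]
    _ = (a * (n * b * n⁻¹)) * (b * (n * a * n⁻¹)) * (n * n) := by group
    _ = (a * (n * b * n⁻¹)) * (b * (n * a * n⁻¹)) * j := by rw [h.nn]

/-- **ISO1**. -/
theorem cfg_no_inv (h : Cfg L₁ L₂ j n) {a b : G} (ha : a ∈ L₁) (hb : b ∈ L₂) :
    (a * b * n) * (a * b * n) ≠ 1 := by
  intro hsq
  rw [cfg_sq_coset h ha hb] at hsq
  have ha₂ : n * a * n⁻¹ ∈ L₂ := h.n12 a ha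
  have hb₁ : n * b * n⁻¹ ∈ L₁ := h.n21 b hb
  have ha' : a * (n * b * n⁻¹) ∈ L₁ := L₁.mul_mem ha hb₁
  have hb' : b * (n * a * n⁻¹) ∈ L₂ := L₂.mul_mem hb ha₂
  -- `a' ∈ L₂`
  have ha'2 : a * (n * b * n⁻¹) ∈ L₂ := by
    have : a * (n * b * n⁻¹) = (b * (n * a * n⁻¹) * j)⁻¹ := by
      rw [eq_inv_iff_mul_eq_one, ← mul_assoc]
      exact hsq
    rw [this]
    exact L₂.inv_mem (L₂.mul_mem hb' h.s2.jL)
  -- `b' = b (n a' n⁻¹) b⁻¹`
  have hjb : j * b * j⁻¹ = b := by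
    rw [← h.s2.cen b hb]
    group
  have hb'eq : b * (n * a * n⁻¹) = b * (n * (a * (n * b * n⁻¹)) * n⁻¹) * b⁻¹ := by
    have h1 : n * (a * (n * b * n⁻¹)) * n⁻¹ = (n * a * n⁻¹) * ((n * n) * b * (n * n)⁻¹) := by group
    rw [h1, h.nn, hjb]
    group
  have hnj : n * j * n⁻¹ = j := by
    rw [h.nj]
    group
  rcases h.meet _ ha' ha'2 with h1 | h1
  · rw [hb'eq, h1] at hsq
    apply h.s1.jne
    rw [← hsq]
    group
  · rw [hb'eq, h1, hnj] at hsq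
    have hbj : b * j * b⁻¹ = j := by
      rw [h.s2.cen b hb]
      group
    rw [hbj, h.s1.jj, one_mul] at hsq
    exact h.s1.jne hsq

end cfg

end Cfsg.Agent.Lib.H27.CSL2
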