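import Mathlib
import Cfsg.Agent.Lib.H28.CSL2Defs

/-!
# S3211 piece ISO2 (helper27): the involutions of `L₁L₂` and their conjugacy
-/

set_option autoImplicit false

namespace Cfsg.Agent.Lib.H27.CSL2

open Cfsg.Agent.Lib.H28.CSL2

section cfg

variable {G : Type*} [Group G] {L₁ L₂ : Subgroup G} {j n : G}

/-- **ISO2** (a). The involutions of `L₁L₂`. -/
theorem cfg_inv_cases (h : Cfg L₁ L₂ j n) {a b : G} (ha : a ∈ L₁) (hb : b ∈ L₂)
    (hw : (a * b) * (a * b) = 1) : a * b = 1 ∨ a * b = j ∨ (a * a = j ∧ b * b = j) := by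
  have hab : a * b = b * a := h.comm a ha b hb
  have h1 : (a * a) * (b * b) = 1 := by
    rw [← hw]
    calc (a * a) * (b * b) = a * (a * b) * b := by group
      _ = a * (b * a) * b := by rw [hab]
      _ = (a * b) * (a * b) := by group
  have haa1 : a * a ∈ L₁ := L₁.mul_mem ha ha
  have haa2 : a * a ∈ L₂ := by
    have : a * a = (b * b)⁻¹ := eq_inv_of_mul_eq_one_left h1
    rw [this]
    exact L₂.inv_mem (L₂.mul_mem hb hb)
  rcases h.meet _ haa1 haa2 with h2 | h2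
  · have hbb : b * b = 1 := by
      rw [h2, one_mul] at h1
      exact h1
    rcases h.s1.inv a ha h2 with ha1 | ha1 <;> rcases h.s2.inv b hb hbb with hb1 | hb1
    · left; rw [ha1, hb1, one_mul]
    · right; left; rw [ha1, hb1, one_mul]
    · right; left; rw [ha1, hb1, mul_one]
    · left; rw [ha1, hb1]; exact h.s1.jj
  · right; right
    refine ⟨h2, ?_⟩
    rw [h2] at h1
    have hjinv : j⁻¹ = j := inv_eq_of_mul_eq_one_right h.s1.jj
    have : b * b = j⁻¹ := eq_inv_of_mul_eq_one_right h1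
    rw [this, hjinv]

/-- **ISO2** (b). The involutions `a b`, `a² = b² = j`, are conjugate under `L₁L₂ ≤ C(j)`. -/
theorem cfg_conj_inv (h : Cfg L₁ L₂ j n) {a b a' b' : G} (ha : a ∈ L₁) (hb : b ∈ L₂)
    (ha' : a' ∈ L₁) (hb' : b' ∈ L₂) (haa : a * a = j) (hbb : b * b = j) (haa' : a' * a' = j)
    (hbb' : b' * b' = j) : ∃ c : G, c * j = j * c ∧ c * (a * b) * c⁻¹ = a' * b' := by
  obtain ⟨k₁, hk₁, hk₁a⟩ := h.s1.conj a ha a' ha' haa haa'
  obtain ⟨k₂, hk₂, hk₂b⟩ := h.s2.conj b hb b' hb' hbb hbb'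
  refine ⟨k₁ * k₂, ?_, ?_⟩
  · rw [mul_assoc, h.s2.cen k₂ hk₂, ← mul_assoc, h.s1.cen k₁ hk₁, mul_assoc]
  · have c1 : k₂ * a = a * k₂ := (h.comm a ha k₂ hk₂).symm
    have c2 : k₁⁻¹ * b' = b' * k₁⁻¹ := h.comm _ (L₁.inv_mem hk₁) b' hb'
    calc k₁ * k₂ * (a * b) * (k₁ * k₂)⁻¹ = k₁ * (k₂ * a) * b * k₂⁻¹ * k₁⁻¹ := by group
      _ = k₁ * (a * k₂) * b * k₂⁻¹ * k₁⁻¹ := by rw [c1]
      _ = k₁ * a * (k₂ * b * k₂⁻¹) * k₁⁻¹ := by group
      _ = k₁ * a * (b' * k₁⁻¹) := by rw [hk₂b]; group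
      _ = k₁ * a * (k₁⁻¹ * b') := by rw [c2]
      _ = (k₁ * a * k₁⁻¹) * b' := by group
      _ = a' * b' := by rw [hk₁a]

end cfg

end Cfsg.Agent.Lib.H27.CSL2
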