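import Mathlib
import Cfsg.Agent.Lib.H28.CSL2Defs
import Cfsg.Agent.Lib.H27.CSL2ISO1
import Cfsg.Agent.Lib.H27.CSL2ISO2

/-!
# S3211 piece ISO3 (helper27): if `j` commutes with a conjugate `≠ j`, some element swaps `j` and `x₁x₂`
-/

set_option autoImplicit false

namespace Cfsg.Agent.Lib.H27.CSL2

open Cfsg.Agent.Lib.H28.CSL2

section cfg

variable {G : Type*} [Group G] {L₁ L₂ : Subgroup G} {j n : G}

/-- an involution of `C(j)` other than `j` is `a b` with `a² = b² = j` -/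
theorem cfg_inv_form (h : Cfg L₁ L₂ j n) {w : G} (hwj : w * j = j * w) (hww : w * w = 1)
    (hw1 : w ≠ 1) (hwne : w ≠ j) :
    ∃ a ∈ L₁, ∃ b ∈ L₂, w = a * b ∧ a * a = j ∧ b * b = j := by
  obtain ⟨a, ha, b, hb, hw | hw⟩ := h.cover w hwj
  · rw [hw] at hww
    rcases cfg_inv_cases h ha hb hww with h1 | h1 | h1
    · exact absurd (hw.trans h1) hw1
    · exact absurd (hw.trans h1) hwne
    · exact ⟨a, ha, b, hb, hw, h1.1, h1.2⟩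
  · exfalso
    rw [hw] at hww
    exact cfg_no_inv h ha hb hww

/-- every involution of `C(j)` other than `j` is conjugate under `C(j)` to `x₁ x₂` -/
theorem cfg_conj_to (h : Cfg L₁ L₂ j n) {x₁ x₂ : G} (hx₁ : x₁ ∈ L₁) (hx₂ : x₂ ∈ L₂)
    (h1 : x₁ * x₁ = j) (h2 : x₂ * x₂ = j) {w : G} (hwj : w * j = j * w) (hww : w * w = 1)
    (hw1 : w ≠ 1) (hwne : w ≠ j) :
    ∃ c : G, c * j = j * c ∧ c * w * c⁻¹ = x₁ * x₂ := by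
  obtain ⟨a, ha, b, hb, rfl, haa, hbb⟩ := cfg_inv_form h hwj hww hw1 hwne
  exact cfg_conj_inv h ha hb hx₁ hx₂ haa hbb h1 h2

/-- **ISO3**. -/
theorem cfg_exists_swap (h : Cfg L₁ L₂ j n) {x₁ x₂ : G} (hx₁ : x₁ ∈ L₁) (hx₂ : x₂ ∈ L₂)
    (h1 : x₁ * x₁ = j) (h2 : x₂ * x₂ = j) {g : G} (hg : Commute j (g * j * g⁻¹))
    (hne : g * j * g⁻¹ ≠ j) :
    ∃ h' : G, h' * j * h'⁻¹ = x₁ * x₂ ∧ h' * (x₁ * x₂) * h'⁻¹ = j := by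
  have hjj := h.s1.jj
  have hj1 := h.s1.jne
  -- `t = g j g⁻¹`
  have ht_j : (g * j * g⁻¹) * j = j * (g * j * g⁻¹) := hg.eq.symm
  have ht_sq : (g * j * g⁻¹) * (g * j * g⁻¹) = 1 := by
    calc (g * j * g⁻¹) * (g * j * g⁻¹) = g * (j * j) * g⁻¹ := by group
      _ = 1 := by rw [hjj]; group
  have ht_1 : g * j * g⁻¹ ≠ 1 := by
    intro h0
    exact hj1 (conj_eq_one_iff.mp h0)
  -- `t'' = g⁻¹ j g`
  have ht'_j : (g⁻¹ * j * g) * j = j * (g⁻¹ * j * g) := by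
    have e1 : (g⁻¹ * j * g) * j = g⁻¹ * (j * (g * j * g⁻¹)) * g := by group
    have e2 : j * (g⁻¹ * j * g) = g⁻¹ * ((g * j * g⁻¹) * j) * g := by group
    rw [e1, e2, ht_j]
  have ht'_sq : (g⁻¹ * j * g) * (g⁻¹ * j * g) = 1 := by
    calc (g⁻¹ * j * g) * (g⁻¹ * j * g) = g⁻¹ * (j * j) * g := by group
      _ = 1 := by rw [hjj]; group
  have ht'_1 : g⁻¹ * j * g ≠ 1 := by
    intro h0
    apply hj1
    have : g⁻¹ * j * g⁻¹⁻¹ = 1 := by rw [inv_inv]; exact h0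
    exact conj_eq_one_iff.mp this
  have ht'_ne : g⁻¹ * j * g ≠ j := by
    intro h0
    apply hne
    calc g * j * g⁻¹ = g * (g⁻¹ * j * g) * g⁻¹ := by rw [h0]
      _ = j := by group
  obtain ⟨c₁, hc₁j, hc₁⟩ := cfg_conj_to h hx₁ hx₂ h1 h2 ht_j ht_sq ht_1 hne
  obtain ⟨c₂, hc₂j, hc₂⟩ := cfg_conj_to h hx₁ hx₂ h1 h2 ht'_j ht'_sq ht'_1 ht'_ne
  refine ⟨c₂ * g⁻¹ * c₁⁻¹, ?_, ?_⟩
  · have e1 : c₁⁻¹ * j * c₁ = j := by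
      rw [mul_assoc, ← hc₁j]
      group
    calc c₂ * g⁻¹ * c₁⁻¹ * j * (c₂ * g⁻¹ * c₁⁻¹)⁻¹
        = c₂ * (g⁻¹ * (c₁⁻¹ * j * c₁) * g) * c₂⁻¹ := by group
      _ = c₂ * (g⁻¹ * j * g) * c₂⁻¹ := by rw [e1]
      _ = x₁ * x₂ := hc₂
  · have e1 : c₂ * j * c₂⁻¹ = j := by
      rw [hc₂j]
      group
    calc c₂ * g⁻¹ * c₁⁻¹ * (x₁ * x₂) * (c₂ * g⁻¹ * c₁⁻¹)⁻¹
        = c₂ * g⁻¹ * c₁⁻¹ * (c₁ * (g * j * g⁻¹) * c₁⁻¹) * (c₂ * g⁻¹ * c₁⁻¹)⁻¹ := by rw [hc₁]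
      _ = c₂ * j * c₂⁻¹ := by group
      _ = j := e1

end cfg

end Cfsg.Agent.Lib.H27.CSL2
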