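/-
helper27 library: the sign change on a dodecad fixes exactly 264 minimal vectors of the
Leech lattice (those of shape `(±4, ±4, 0^22)` supported off the dodecad).
-/
import Mathlib
import Cfsg.Prelude.Def_Sporadic_a
import Cfsg.Agent.Lib.H27.Leech32Shapes
import Cfsg.Agent.Lib.H27.Co0Center
import Cfsg.Agent.Lib.H27.Engine2
import Cfsg.Agent.Lib.H27.Engine4
import Cfsg.Agent.Lib.H27.LeechDec

set_option autoImplicit false

namespace Cfsg.Agent.Lib.H27

open Cfsg Finset Cfsg.Agent.Lib.H28 Cfsg.Agent.Lib.H27.Eng

namespace SignFix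

/-- The mask of a dodecad. -/
def dMask : ℕ := 340831

/-- The dodecad as a code word. -/
def dW : GolayPt → ZMod 2 := W dMask

theorem dW_mem : dW ∈ golayCode := W_genMasks_mem_golayCode _ (by decide)

/-- The sign change on the dodecad. -/
def epsD : Co0 := signCo0 dW dW_mem

theorem mem_supp_dW (k : GolayPt) : k ∈ support₂ dW ↔ dMask.testBit (gIdx k) = true := by
  rw [mem_support₂_iff]
  exact W_apply_ne_zero dMask k

theorem epsD_fix_iff (x : leechLattice) :
    epsD • x = x ↔ ∀ k, dMask.testBit (gIdx k) = true → (x : GolayPt → ℤ) k = 0 := by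
  constructor
  · intro h k hk
    have h1 := congrFun (congrArg Subtype.val h) k
    unfold epsD at h1
    rw [signCo0_smul, if_pos ((mem_supp_dW k).2 hk)] at h1
    omega
  · intro h
    apply Subtype.ext
    funext k
    unfold epsD
    rw [signCo0_smul]
    by_cases hk : k ∈ support₂ dW
    · rw [if_pos hk, h k ((mem_supp_dW k).1 hk)]; rfl
    · rw [if_neg hk]

/-- The indices off the dodecad. -/
def Dc : List ℕ := (List.range 24).filter (fun k => !dMask.testBit k)

/-- The indices of the dodecad. -/
def Din : List ℕ := (List.range 24).filter (fun k => dMask.testBit k)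

/-- A vector with two nonzero coordinates. -/
def mk4 (a b : ℕ) (s t : ℤ) : V :=
  (List.range 24).map (fun k => if k = a then s else if k = b then t else 0)

theorem toFn_mk4 (a b : ℕ) (s t : ℤ) (p : GolayPt) :
    toFn (mk4 a b s t) p = if gIdx p = a then s else if gIdx p = b then t else 0 := by
  unfold toFn mk4
  rw [nth_map_range 24 _ (gIdx_lt p)]

/-- The 264 fixed vectors. -/
def L264 : List V :=
  Dc.flatMap (fun a => Dc.flatMap (fun b =>
    if a < b then [mk4 a b 4 4, mk4 a b 4 (-4), mk4 a b (-4) 4, mk4 a b (-4) (-4)] else []))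

theorem L264_len : L264.length = 264 := by decide +kernel

theorem L264_keys : strictSortedN (msort Nat.ble (L264.map packV)) = true := by decide +kernel

theorem L264_nodup : L264.Nodup := by
  have h1 : (msort Nat.ble (L264.map packV)).Nodup := nodup_of_strictSortedN L264_keys
  have h2 : (L264.map packV).Nodup := (msort_perm _ _).nodup_iff.1 h1
  exact List.Nodup.of_map packV h2

theorem L264_ok : L264.all (fun y => (y.length == 24) && inLeech (toFn y) &&
    decide (dotL y y = 32) && Din.all (fun k => decide (nth y k = 0))) = true := by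
  decide +kernel

theorem mk4_mem {a b : ℕ} (ha : a ∈ Dc) (hb : b ∈ Dc) (hab : a < b) {s t : ℤ}
    (hs : s = 4 ∨ s = -4) (ht : t = 4 ∨ t = -4) : mk4 a b s t ∈ L264 := by
  unfold L264
  rw [List.mem_flatMap]
  refine ⟨a, ha, ?_⟩
  rw [List.mem_flatMap]
  refine ⟨b, hb, ?_⟩
  rw [if_pos hab]
  rcases hs with rfl | rfl <;> rcases ht with rfl | rfl <;> simp

/-- The fixed minimal vectors. -/
def fixSet : Set leechLattice :=
  {x : leechLattice | sqNorm (x : GolayPt → ℤ) = 32 ∧ epsD • x = x}

theorem mem_Dc_of {k : GolayPt} (h : dMask.testBit (gIdx k) = false) : gIdx k ∈ Dc := by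
  unfold Dc
  rw [List.mem_filter]
  exact ⟨List.mem_range.2 (gIdx_lt k), by rw [h]; rfl⟩

theorem hammingNorm_dW : hammingNorm dW = 12 := by
  unfold dW
  rw [hammingNorm_W]
  decide +kernel

theorem fixSet_subset : fixSet ⊆ mkL '' {y | y ∈ L264} := by
  intro x hx
  obtain ⟨hn, hfix⟩ := hx
  rw [epsD_fix_iff] at hfix
  have hzero : ∀ k, (x : GolayPt → ℤ) k ≠ 0 → dMask.testBit (gIdx k) = false := by
    intro k hk
    by_contra hb
    rw [Bool.not_eq_false] at hb
    exact hk (hfix k hb)
  have hDne : dMask.testBit (gIdx (gPt 0)) = true := by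
    rw [gIdx_gPt (by norm_num)]; decide
  rcases shape32 x.2 hn with hA | hB | hC
  · -- shape A
    obtain ⟨i, j, hij, habs⟩ := hA
    -- wlog gIdx i < gIdx j
    have key : ∀ i j : GolayPt, gIdx i < gIdx j →
        (∀ k, |(x : GolayPt → ℤ) k| = if k = i ∨ k = j then 4 else 0) →
        x ∈ mkL '' {y | y ∈ L264} := by
      intro i j hlt habs
      have hi : |(x : GolayPt → ℤ) i| = 4 := by rw [habs i, if_pos (Or.inl rfl)]
      have hj : |(x : GolayPt → ℤ) j| = 4 := by rw [habs j, if_pos (Or.inr rfl)]
      have hi' : (x : GolayPt → ℤ) i = 4 ∨ (x : GolayPt → ℤ) i = -4 := by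
        rcases abs_cases ((x : GolayPt → ℤ) i) with h | h <;> omega
      have hj' : (x : GolayPt → ℤ) j = 4 ∨ (x : GolayPt → ℤ) j = -4 := by
        rcases abs_cases ((x : GolayPt → ℤ) j) with h | h <;> omega
      have hiD : gIdx i ∈ Dc := mem_Dc_of (hzero i (by rcases hi' with h | h <;> omega))
      have hjD : gIdx j ∈ Dc := mem_Dc_of (hzero j (by rcases hj' with h | h <;> omega))
      have hmem := mk4_mem hiD hjD hlt hi' hj'
      refine ⟨_, hmem, ?_⟩
      have hval : toFn (mk4 (gIdx i) (gIdx j) ((x : GolayPt → ℤ) i) ((x : GolayPt → ℤ) j))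
          = (x : GolayPt → ℤ) := by
        funext p
        rw [toFn_mk4]
        by_cases hpi : p = i
        · rw [hpi, if_pos rfl]
        · have h1 : gIdx p ≠ gIdx i := fun h => hpi (gIdx_injective h)
          rw [if_neg h1]
          by_cases hpj : p = j
          · rw [hpj, if_pos rfl]
          · have h2 : gIdx p ≠ gIdx j := fun h => hpj (gIdx_injective h)
            rw [if_neg h2]
            have := habs p
            rw [if_neg (by tauto)] at this
            exact (abs_eq_zero.1 this).symm
      apply Subtype.ext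
      rw [mkL_val (by rw [hval]; exact x.2), hval]
    rcases Nat.lt_or_ge (gIdx i) (gIdx j) with hlt | hge
    · exact key i j hlt habs
    · have hne : gIdx i ≠ gIdx j := fun h => hij (gIdx_injective h)
      apply key j i (by omega)
      intro k
      rw [habs k]
      congr 1
      exact propext or_comm
  · -- shape B: an octad disjoint from the dodecad
    exfalso
    obtain ⟨c, hc, hc8, habs⟩ := hB
    have hdisj : ∀ k, c k ≠ 0 → dW k = 0 := by
      intro k hk
      have h2 : |(x : GolayPt → ℤ) k| = 2 := by rw [habs k, if_pos hk]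
      have hx0 : (x : GolayPt → ℤ) k ≠ 0 := by
        intro h0; rw [h0] at h2; norm_num at h2
      have hb := hzero k hx0
      unfold dW
      rw [W_apply, hb]
      rfl
    have hsum : hammingNorm (c + dW) = 20 := by
      have e : (Finset.univ.filter (fun k => (c + dW) k ≠ 0))
          = support₂ c ∪ support₂ dW := by
        ext k
        rw [Finset.mem_filter, Finset.mem_union, mem_support₂_iff, mem_support₂_iff]
        simp only [Finset.mem_univ, true_and, Pi.add_apply]
        constructor
        · intro h
          by_cases hck : c k = 0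
          · right; rwa [hck, zero_add] at h
          · left; exact hck
        · rintro (h | h)
          · rw [hdisj k h, add_zero]; exact h
          · have hck : c k = 0 := by
              by_contra hne
              exact h (hdisj k hne)
            rw [hck, zero_add]; exact h
      have hd : Disjoint (support₂ c) (support₂ dW) := by
        rw [Finset.disjoint_left]
        intro k h1 h2
        rw [mem_support₂_iff] at h1 h2
        exact h2 (hdisj k h1)
      unfold hammingNorm
      rw [e, Finset.card_union_of_disjoint hd, hc8]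
      have : (support₂ dW).card = hammingNorm dW := rfl
      rw [this, hammingNorm_dW]
    have := golayCode_weight (golayCode.add_mem hc dW_mem)
    omega
  · -- shape C: no zero coordinates
    exfalso
    obtain ⟨i, habs⟩ := hC
    have h0 := hfix (gPt 0) hDne
    have := habs (gPt 0)
    rw [h0] at this
    split_ifs at this <;> norm_num at this

theorem subset_fixSet : mkL '' {y | y ∈ L264} ⊆ fixSet := by
  rintro x ⟨y, hy, rfl⟩
  have h := List.all_eq_true.1 L264_ok y hy
  simp only [Bool.and_eq_true, beq_iff_eq, decide_eq_true_eq, List.all_eq_true] at h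
  obtain ⟨⟨⟨_, hL⟩, hn⟩, hz⟩ := h
  have hyL := mem_of_inLeech hL
  refine ⟨?_, ?_⟩
  · rw [mkL_val hyL, ← sqNorm_spec]; exact hn
  · rw [epsD_fix_iff]
    intro k hk
    rw [mkL_val hyL]
    unfold toFn
    apply hz
    unfold Din
    rw [List.mem_filter]
    exact ⟨List.mem_range.2 (gIdx_lt k), hk⟩

/-- The sign change on the dodecad fixes exactly 264 minimal vectors. -/
theorem ncard_fixSet : fixSet.ncard = 264 := by
  have e : fixSet = mkL '' {y | y ∈ L264} :=
    Set.Subset.antisymm fixSet_subset subset_fixSet
  rw [e]
  have hinj : Set.InjOn mkL {y | y ∈ L264} := by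
    intro y hy y' hy' heq
    have h := List.all_eq_true.1 L264_ok y hy
    have h' := List.all_eq_true.1 L264_ok y' hy'
    simp only [Bool.and_eq_true, beq_iff_eq, decide_eq_true_eq, List.all_eq_true] at h h'
    have e1 := mkL_val (mem_of_inLeech h.1.1.2)
    have e2 := mkL_val (mem_of_inLeech h'.1.1.2)
    rw [heq] at e1
    exact eq_of_toFn_eq h.1.1.1 h'.1.1.1 (e1.symm.trans e2)
  classical
  rw [Set.ncard_image_of_injOn hinj]
  have : {y | y ∈ L264} = (↑L264.toFinset : Set V) := by
    ext y; simp
  rw [this, Set.ncard_coe_finset, List.toFinset_card_of_nodup L264_nodup, L264_len]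

end SignFix

end Cfsg.Agent.Lib.H27
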