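/-
helper27 library: the roots of the `E7` lattice inside the Leech lattice: the minimal vectors fixed by
the sign change off the base octad (i.e. supported on the octad) and orthogonal to `(4, 4, 0^22)`.
-/
import Mathlib
import Cfsg.Prelude.Def_Spor_Conway
import Cfsg.Agent.Lib.H27.SignFix
import Cfsg.Agent.Lib.H28.M24Octad

set_option autoImplicit false

namespace Cfsg.Agent.Lib.H27

open Cfsg Finset Cfsg.Agent.Lib.H28 Cfsg.Agent.Lib.H27.Eng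

namespace CentSp

open SignFix (mk4 toFn_mk4)

/-- The complement of the base octad, as a mask. -/
def cMask : ℕ := 8241104

/-- The complement of the base octad, as a code word. -/
def tW : GolayPt → ZMod 2 := W cMask

theorem tW_mem : tW ∈ golayCode := W_mem_of_inC (by decide +kernel)

/-- The sign change off the base octad. -/
def tCo0 : Co0 := signCo0 tW tW_mem

theorem mem_supp_tW (k : GolayPt) : k ∈ support₂ tW ↔ cMask.testBit (gIdx k) = true := by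
  rw [mem_support₂_iff]
  exact W_apply_ne_zero cMask k

theorem t_fix_iff (x : leechLattice) :
    tCo0 • x = x ↔ ∀ k, cMask.testBit (gIdx k) = true → (x : GolayPt → ℤ) k = 0 := by
  constructor
  · intro h k hk
    have h1 := congrFun (congrArg Subtype.val h) k
    unfold tCo0 at h1
    rw [signCo0_smul, if_pos ((mem_supp_tW k).2 hk)] at h1
    omega
  · intro h
    apply Subtype.ext
    funext k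
    unfold tCo0
    rw [signCo0_smul]
    by_cases hk : k ∈ support₂ tW
    · rw [if_pos hk, h k ((mem_supp_tW k).1 hk)]; rfl
    · rw [if_neg hk]

/-- The vector `(4, 4, 0^22)`. -/
def uL : V := [4, 0, 0, 0, 0, 0, 0, 0, 0, 0, 0, 0, 0, 0, 0, 0, 0, 0, 0, 0, 0, 0, 0, 4]

/-- The 126 roots. -/
def PhiL : List V := [
  [4, 0, 0, 0, 0, 0, 0, 0, 0, 0, 0, 0, 0, 0, 0, 0, 0, 0, 0, 0, 0, 0, 0, -4],
  [-4, 0, 0, 0, 0, 0, 0, 0, 0, 0, 0, 0, 0, 0, 0, 0, 0, 0, 0, 0, 0, 0, 0, 4],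
  [0, 4, 4, 0, 0, 0, 0, 0, 0, 0, 0, 0, 0, 0, 0, 0, 0, 0, 0, 0, 0, 0, 0, 0],
  [0, 4, -4, 0, 0, 0, 0, 0, 0, 0, 0, 0, 0, 0, 0, 0, 0, 0, 0, 0, 0, 0, 0, 0],
  [0, -4, 4, 0, 0, 0, 0, 0, 0, 0, 0, 0, 0, 0, 0, 0, 0, 0, 0, 0, 0, 0, 0, 0],
  [0, -4, -4, 0, 0, 0, 0, 0, 0, 0, 0, 0, 0, 0, 0, 0, 0, 0, 0, 0, 0, 0, 0, 0],
  [0, 4, 0, 4, 0, 0, 0, 0, 0, 0, 0, 0, 0, 0, 0, 0, 0, 0, 0, 0, 0, 0, 0, 0],
  [0, 4, 0, -4, 0, 0, 0, 0, 0, 0, 0, 0, 0, 0, 0, 0, 0, 0, 0, 0, 0, 0, 0, 0],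
  [0, -4, 0, 4, 0, 0, 0, 0, 0, 0, 0, 0, 0, 0, 0, 0, 0, 0, 0, 0, 0, 0, 0, 0],
  [0, -4, 0, -4, 0, 0, 0, 0, 0, 0, 0, 0, 0, 0, 0, 0, 0, 0, 0, 0, 0, 0, 0, 0],
  [0, 4, 0, 0, 0, 4, 0, 0, 0, 0, 0, 0, 0, 0, 0, 0, 0, 0, 0, 0, 0, 0, 0, 0],
  [0, 4, 0, 0, 0, -4, 0, 0, 0, 0, 0, 0, 0, 0, 0, 0, 0, 0, 0, 0, 0, 0, 0, 0],
  [0, -4, 0, 0, 0, 4, 0, 0, 0, 0, 0, 0, 0, 0, 0, 0, 0, 0, 0, 0, 0, 0, 0, 0],
  [0, -4, 0, 0, 0, -4, 0, 0, 0, 0, 0, 0, 0, 0, 0, 0, 0, 0, 0, 0, 0, 0, 0, 0],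
  [0, 4, 0, 0, 0, 0, 0, 0, 0, 0, 0, 0, 0, 0, 4, 0, 0, 0, 0, 0, 0, 0, 0, 0],
  [0, 4, 0, 0, 0, 0, 0, 0, 0, 0, 0, 0, 0, 0, -4, 0, 0, 0, 0, 0, 0, 0, 0, 0],
  [0, -4, 0, 0, 0, 0, 0, 0, 0, 0, 0, 0, 0, 0, 4, 0, 0, 0, 0, 0, 0, 0, 0, 0],
  [0, -4, 0, 0, 0, 0, 0, 0, 0, 0, 0, 0, 0, 0, -4, 0, 0, 0, 0, 0, 0, 0, 0, 0],
  [0, 4, 0, 0, 0, 0, 0, 0, 0, 0, 0, 0, 0, 0, 0, 0, 0, 4, 0, 0, 0, 0, 0, 0],
  [0, 4, 0, 0, 0, 0, 0, 0, 0, 0, 0, 0, 0, 0, 0, 0, 0, -4, 0, 0, 0, 0, 0, 0],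
  [0, -4, 0, 0, 0, 0, 0, 0, 0, 0, 0, 0, 0, 0, 0, 0, 0, 4, 0, 0, 0, 0, 0, 0],
  [0, -4, 0, 0, 0, 0, 0, 0, 0, 0, 0, 0, 0, 0, 0, 0, 0, -4, 0, 0, 0, 0, 0, 0],
  [0, 0, 4, 4, 0, 0, 0, 0, 0, 0, 0, 0, 0, 0, 0, 0, 0, 0, 0, 0, 0, 0, 0, 0],
  [0, 0, 4, -4, 0, 0, 0, 0, 0, 0, 0, 0, 0, 0, 0, 0, 0, 0, 0, 0, 0, 0, 0, 0],
  [0, 0, -4, 4, 0, 0, 0, 0, 0, 0, 0, 0, 0, 0, 0, 0, 0, 0, 0, 0, 0, 0, 0, 0],
  [0, 0, -4, -4, 0, 0, 0, 0, 0, 0, 0, 0, 0, 0, 0, 0, 0, 0, 0, 0, 0, 0, 0, 0],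
  [0, 0, 4, 0, 0, 4, 0, 0, 0, 0, 0, 0, 0, 0, 0, 0, 0, 0, 0, 0, 0, 0, 0, 0],
  [0, 0, 4, 0, 0, -4, 0, 0, 0, 0, 0, 0, 0, 0, 0, 0, 0, 0, 0, 0, 0, 0, 0, 0],
  [0, 0, -4, 0, 0, 4, 0, 0, 0, 0, 0, 0, 0, 0, 0, 0, 0, 0, 0, 0, 0, 0, 0, 0],
  [0, 0, -4, 0, 0, -4, 0, 0, 0, 0, 0, 0, 0, 0, 0, 0, 0, 0, 0, 0, 0, 0, 0, 0],
  [0, 0, 4, 0, 0, 0, 0, 0, 0, 0, 0, 0, 0, 0, 4, 0, 0, 0, 0, 0, 0, 0, 0, 0],
  [0, 0, 4, 0, 0, 0, 0, 0, 0, 0, 0, 0, 0, 0, -4, 0, 0, 0, 0, 0, 0, 0, 0, 0],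
  [0, 0, -4, 0, 0, 0, 0, 0, 0, 0, 0, 0, 0, 0, 4, 0, 0, 0, 0, 0, 0, 0, 0, 0],
  [0, 0, -4, 0, 0, 0, 0, 0, 0, 0, 0, 0, 0, 0, -4, 0, 0, 0, 0, 0, 0, 0, 0, 0],
  [0, 0, 4, 0, 0, 0, 0, 0, 0, 0, 0, 0, 0, 0, 0, 0, 0, 4, 0, 0, 0, 0, 0, 0],
  [0, 0, 4, 0, 0, 0, 0, 0, 0, 0, 0, 0, 0, 0, 0, 0, 0, -4, 0, 0, 0, 0, 0, 0],
  [0, 0, -4, 0, 0, 0, 0, 0, 0, 0, 0, 0, 0, 0, 0, 0, 0, 4, 0, 0, 0, 0, 0, 0],
  [0, 0, -4, 0, 0, 0, 0, 0, 0, 0, 0, 0, 0, 0, 0, 0, 0, -4, 0, 0, 0, 0, 0, 0],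
  [0, 0, 0, 4, 0, 4, 0, 0, 0, 0, 0, 0, 0, 0, 0, 0, 0, 0, 0, 0, 0, 0, 0, 0],
  [0, 0, 0, 4, 0, -4, 0, 0, 0, 0, 0, 0, 0, 0, 0, 0, 0, 0, 0, 0, 0, 0, 0, 0],
  [0, 0, 0, -4, 0, 4, 0, 0, 0, 0, 0, 0, 0, 0, 0, 0, 0, 0, 0, 0, 0, 0, 0, 0],
  [0, 0, 0, -4, 0, -4, 0, 0, 0, 0, 0, 0, 0, 0, 0, 0, 0, 0, 0, 0, 0, 0, 0, 0],
  [0, 0, 0, 4, 0, 0, 0, 0, 0, 0, 0, 0, 0, 0, 4, 0, 0, 0, 0, 0, 0, 0, 0, 0],
  [0, 0, 0, 4, 0, 0, 0, 0, 0, 0, 0, 0, 0, 0, -4, 0, 0, 0, 0, 0, 0, 0, 0, 0],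
  [0, 0, 0, -4, 0, 0, 0, 0, 0, 0, 0, 0, 0, 0, 4, 0, 0, 0, 0, 0, 0, 0, 0, 0],
  [0, 0, 0, -4, 0, 0, 0, 0, 0, 0, 0, 0, 0, 0, -4, 0, 0, 0, 0, 0, 0, 0, 0, 0],
  [0, 0, 0, 4, 0, 0, 0, 0, 0, 0, 0, 0, 0, 0, 0, 0, 0, 4, 0, 0, 0, 0, 0, 0],
  [0, 0, 0, 4, 0, 0, 0, 0, 0, 0, 0, 0, 0, 0, 0, 0, 0, -4, 0, 0, 0, 0, 0, 0],
  [0, 0, 0, -4, 0, 0, 0, 0, 0, 0, 0, 0, 0, 0, 0, 0, 0, 4, 0, 0, 0, 0, 0, 0],
  [0, 0, 0, -4, 0, 0, 0, 0, 0, 0, 0, 0, 0, 0, 0, 0, 0, -4, 0, 0, 0, 0, 0, 0],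
  [0, 0, 0, 0, 0, 4, 0, 0, 0, 0, 0, 0, 0, 0, 4, 0, 0, 0, 0, 0, 0, 0, 0, 0],
  [0, 0, 0, 0, 0, 4, 0, 0, 0, 0, 0, 0, 0, 0, -4, 0, 0, 0, 0, 0, 0, 0, 0, 0],
  [0, 0, 0, 0, 0, -4, 0, 0, 0, 0, 0, 0, 0, 0, 4, 0, 0, 0, 0, 0, 0, 0, 0, 0],
  [0, 0, 0, 0, 0, -4, 0, 0, 0, 0, 0, 0, 0, 0, -4, 0, 0, 0, 0, 0, 0, 0, 0, 0],
  [0, 0, 0, 0, 0, 4, 0, 0, 0, 0, 0, 0, 0, 0, 0, 0, 0, 4, 0, 0, 0, 0, 0, 0],
  [0, 0, 0, 0, 0, 4, 0, 0, 0, 0, 0, 0, 0, 0, 0, 0, 0, -4, 0, 0, 0, 0, 0, 0],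
  [0, 0, 0, 0, 0, -4, 0, 0, 0, 0, 0, 0, 0, 0, 0, 0, 0, 4, 0, 0, 0, 0, 0, 0],
  [0, 0, 0, 0, 0, -4, 0, 0, 0, 0, 0, 0, 0, 0, 0, 0, 0, -4, 0, 0, 0, 0, 0, 0],
  [0, 0, 0, 0, 0, 0, 0, 0, 0, 0, 0, 0, 0, 0, 4, 0, 0, 4, 0, 0, 0, 0, 0, 0],
  [0, 0, 0, 0, 0, 0, 0, 0, 0, 0, 0, 0, 0, 0, 4, 0, 0, -4, 0, 0, 0, 0, 0, 0],
  [0, 0, 0, 0, 0, 0, 0, 0, 0, 0, 0, 0, 0, 0, -4, 0, 0, 4, 0, 0, 0, 0, 0, 0],
  [0, 0, 0, 0, 0, 0, 0, 0, 0, 0, 0, 0, 0, 0, -4, 0, 0, -4, 0, 0, 0, 0, 0, 0],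
  [2, 2, 2, 2, 0, 2, 0, 0, 0, 0, 0, 0, 0, 0, 2, 0, 0, -2, 0, 0, 0, 0, 0, -2],
  [2, 2, 2, 2, 0, 2, 0, 0, 0, 0, 0, 0, 0, 0, -2, 0, 0, 2, 0, 0, 0, 0, 0, -2],
  [2, 2, 2, 2, 0, -2, 0, 0, 0, 0, 0, 0, 0, 0, 2, 0, 0, 2, 0, 0, 0, 0, 0, -2],
  [2, 2, 2, 2, 0, -2, 0, 0, 0, 0, 0, 0, 0, 0, -2, 0, 0, -2, 0, 0, 0, 0, 0, -2],
  [2, 2, 2, -2, 0, 2, 0, 0, 0, 0, 0, 0, 0, 0, 2, 0, 0, 2, 0, 0, 0, 0, 0, -2],
  [2, 2, 2, -2, 0, 2, 0, 0, 0, 0, 0, 0, 0, 0, -2, 0, 0, -2, 0, 0, 0, 0, 0, -2],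
  [2, 2, 2, -2, 0, -2, 0, 0, 0, 0, 0, 0, 0, 0, 2, 0, 0, -2, 0, 0, 0, 0, 0, -2],
  [2, 2, 2, -2, 0, -2, 0, 0, 0, 0, 0, 0, 0, 0, -2, 0, 0, 2, 0, 0, 0, 0, 0, -2],
  [2, 2, -2, 2, 0, 2, 0, 0, 0, 0, 0, 0, 0, 0, 2, 0, 0, 2, 0, 0, 0, 0, 0, -2],
  [2, 2, -2, 2, 0, 2, 0, 0, 0, 0, 0, 0, 0, 0, -2, 0, 0, -2, 0, 0, 0, 0, 0, -2],
  [2, 2, -2, 2, 0, -2, 0, 0, 0, 0, 0, 0, 0, 0, 2, 0, 0, -2, 0, 0, 0, 0, 0, -2],
  [2, 2, -2, 2, 0, -2, 0, 0, 0, 0, 0, 0, 0, 0, -2, 0, 0, 2, 0, 0, 0, 0, 0, -2],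
  [2, 2, -2, -2, 0, 2, 0, 0, 0, 0, 0, 0, 0, 0, 2, 0, 0, -2, 0, 0, 0, 0, 0, -2],
  [2, 2, -2, -2, 0, 2, 0, 0, 0, 0, 0, 0, 0, 0, -2, 0, 0, 2, 0, 0, 0, 0, 0, -2],
  [2, 2, -2, -2, 0, -2, 0, 0, 0, 0, 0, 0, 0, 0, 2, 0, 0, 2, 0, 0, 0, 0, 0, -2],
  [2, 2, -2, -2, 0, -2, 0, 0, 0, 0, 0, 0, 0, 0, -2, 0, 0, -2, 0, 0, 0, 0, 0, -2],
  [2, -2, 2, 2, 0, 2, 0, 0, 0, 0, 0, 0, 0, 0, 2, 0, 0, 2, 0, 0, 0, 0, 0, -2],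
  [2, -2, 2, 2, 0, 2, 0, 0, 0, 0, 0, 0, 0, 0, -2, 0, 0, -2, 0, 0, 0, 0, 0, -2],
  [2, -2, 2, 2, 0, -2, 0, 0, 0, 0, 0, 0, 0, 0, 2, 0, 0, -2, 0, 0, 0, 0, 0, -2],
  [2, -2, 2, 2, 0, -2, 0, 0, 0, 0, 0, 0, 0, 0, -2, 0, 0, 2, 0, 0, 0, 0, 0, -2],
  [2, -2, 2, -2, 0, 2, 0, 0, 0, 0, 0, 0, 0, 0, 2, 0, 0, -2, 0, 0, 0, 0, 0, -2],
  [2, -2, 2, -2, 0, 2, 0, 0, 0, 0, 0, 0, 0, 0, -2, 0, 0, 2, 0, 0, 0, 0, 0, -2],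
  [2, -2, 2, -2, 0, -2, 0, 0, 0, 0, 0, 0, 0, 0, 2, 0, 0, 2, 0, 0, 0, 0, 0, -2],
  [2, -2, 2, -2, 0, -2, 0, 0, 0, 0, 0, 0, 0, 0, -2, 0, 0, -2, 0, 0, 0, 0, 0, -2],
  [2, -2, -2, 2, 0, 2, 0, 0, 0, 0, 0, 0, 0, 0, 2, 0, 0, -2, 0, 0, 0, 0, 0, -2],
  [2, -2, -2, 2, 0, 2, 0, 0, 0, 0, 0, 0, 0, 0, -2, 0, 0, 2, 0, 0, 0, 0, 0, -2],
  [2, -2, -2, 2, 0, -2, 0, 0, 0, 0, 0, 0, 0, 0, 2, 0, 0, 2, 0, 0, 0, 0, 0, -2],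
  [2, -2, -2, 2, 0, -2, 0, 0, 0, 0, 0, 0, 0, 0, -2, 0, 0, -2, 0, 0, 0, 0, 0, -2],
  [2, -2, -2, -2, 0, 2, 0, 0, 0, 0, 0, 0, 0, 0, 2, 0, 0, 2, 0, 0, 0, 0, 0, -2],
  [2, -2, -2, -2, 0, 2, 0, 0, 0, 0, 0, 0, 0, 0, -2, 0, 0, -2, 0, 0, 0, 0, 0, -2],
  [2, -2, -2, -2, 0, -2, 0, 0, 0, 0, 0, 0, 0, 0, 2, 0, 0, -2, 0, 0, 0, 0, 0, -2],
  [2, -2, -2, -2, 0, -2, 0, 0, 0, 0, 0, 0, 0, 0, -2, 0, 0, 2, 0, 0, 0, 0, 0, -2],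
  [-2, 2, 2, 2, 0, 2, 0, 0, 0, 0, 0, 0, 0, 0, 2, 0, 0, -2, 0, 0, 0, 0, 0, 2],
  [-2, 2, 2, 2, 0, 2, 0, 0, 0, 0, 0, 0, 0, 0, -2, 0, 0, 2, 0, 0, 0, 0, 0, 2],
  [-2, 2, 2, 2, 0, -2, 0, 0, 0, 0, 0, 0, 0, 0, 2, 0, 0, 2, 0, 0, 0, 0, 0, 2],
  [-2, 2, 2, 2, 0, -2, 0, 0, 0, 0, 0, 0, 0, 0, -2, 0, 0, -2, 0, 0, 0, 0, 0, 2],
  [-2, 2, 2, -2, 0, 2, 0, 0, 0, 0, 0, 0, 0, 0, 2, 0, 0, 2, 0, 0, 0, 0, 0, 2],
  [-2, 2, 2, -2, 0, 2, 0, 0, 0, 0, 0, 0, 0, 0, -2, 0, 0, -2, 0, 0, 0, 0, 0, 2],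
  [-2, 2, 2, -2, 0, -2, 0, 0, 0, 0, 0, 0, 0, 0, 2, 0, 0, -2, 0, 0, 0, 0, 0, 2],
  [-2, 2, 2, -2, 0, -2, 0, 0, 0, 0, 0, 0, 0, 0, -2, 0, 0, 2, 0, 0, 0, 0, 0, 2],
  [-2, 2, -2, 2, 0, 2, 0, 0, 0, 0, 0, 0, 0, 0, 2, 0, 0, 2, 0, 0, 0, 0, 0, 2],
  [-2, 2, -2, 2, 0, 2, 0, 0, 0, 0, 0, 0, 0, 0, -2, 0, 0, -2, 0, 0, 0, 0, 0, 2],
  [-2, 2, -2, 2, 0, -2, 0, 0, 0, 0, 0, 0, 0, 0, 2, 0, 0, -2, 0, 0, 0, 0, 0, 2],
  [-2, 2, -2, 2, 0, -2, 0, 0, 0, 0, 0, 0, 0, 0, -2, 0, 0, 2, 0, 0, 0, 0, 0, 2],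
  [-2, 2, -2, -2, 0, 2, 0, 0, 0, 0, 0, 0, 0, 0, 2, 0, 0, -2, 0, 0, 0, 0, 0, 2],
  [-2, 2, -2, -2, 0, 2, 0, 0, 0, 0, 0, 0, 0, 0, -2, 0, 0, 2, 0, 0, 0, 0, 0, 2],
  [-2, 2, -2, -2, 0, -2, 0, 0, 0, 0, 0, 0, 0, 0, 2, 0, 0, 2, 0, 0, 0, 0, 0, 2],
  [-2, 2, -2, -2, 0, -2, 0, 0, 0, 0, 0, 0, 0, 0, -2, 0, 0, -2, 0, 0, 0, 0, 0, 2],
  [-2, -2, 2, 2, 0, 2, 0, 0, 0, 0, 0, 0, 0, 0, 2, 0, 0, 2, 0, 0, 0, 0, 0, 2],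
  [-2, -2, 2, 2, 0, 2, 0, 0, 0, 0, 0, 0, 0, 0, -2, 0, 0, -2, 0, 0, 0, 0, 0, 2],
  [-2, -2, 2, 2, 0, -2, 0, 0, 0, 0, 0, 0, 0, 0, 2, 0, 0, -2, 0, 0, 0, 0, 0, 2],
  [-2, -2, 2, 2, 0, -2, 0, 0, 0, 0, 0, 0, 0, 0, -2, 0, 0, 2, 0, 0, 0, 0, 0, 2],
  [-2, -2, 2, -2, 0, 2, 0, 0, 0, 0, 0, 0, 0, 0, 2, 0, 0, -2, 0, 0, 0, 0, 0, 2],
  [-2, -2, 2, -2, 0, 2, 0, 0, 0, 0, 0, 0, 0, 0, -2, 0, 0, 2, 0, 0, 0, 0, 0, 2],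
  [-2, -2, 2, -2, 0, -2, 0, 0, 0, 0, 0, 0, 0, 0, 2, 0, 0, 2, 0, 0, 0, 0, 0, 2],
  [-2, -2, 2, -2, 0, -2, 0, 0, 0, 0, 0, 0, 0, 0, -2, 0, 0, -2, 0, 0, 0, 0, 0, 2],
  [-2, -2, -2, 2, 0, 2, 0, 0, 0, 0, 0, 0, 0, 0, 2, 0, 0, -2, 0, 0, 0, 0, 0, 2],
  [-2, -2, -2, 2, 0, 2, 0, 0, 0, 0, 0, 0, 0, 0, -2, 0, 0, 2, 0, 0, 0, 0, 0, 2],
  [-2, -2, -2, 2, 0, -2, 0, 0, 0, 0, 0, 0, 0, 0, 2, 0, 0, 2, 0, 0, 0, 0, 0, 2],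
  [-2, -2, -2, 2, 0, -2, 0, 0, 0, 0, 0, 0, 0, 0, -2, 0, 0, -2, 0, 0, 0, 0, 0, 2],
  [-2, -2, -2, -2, 0, 2, 0, 0, 0, 0, 0, 0, 0, 0, 2, 0, 0, 2, 0, 0, 0, 0, 0, 2],
  [-2, -2, -2, -2, 0, 2, 0, 0, 0, 0, 0, 0, 0, 0, -2, 0, 0, -2, 0, 0, 0, 0, 0, 2],
  [-2, -2, -2, -2, 0, -2, 0, 0, 0, 0, 0, 0, 0, 0, 2, 0, 0, -2, 0, 0, 0, 0, 0, 2],
  [-2, -2, -2, -2, 0, -2, 0, 0, 0, 0, 0, 0, 0, 0, -2, 0, 0, 2, 0, 0, 0, 0, 0, 2]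
]

def b0 : V := [4, 0, 0, 0, 0, 0, 0, 0, 0, 0, 0, 0, 0, 0, 0, 0, 0, 0, 0, 0, 0, 0, 0, -4]
def b1 : V := [0, 4, -4, 0, 0, 0, 0, 0, 0, 0, 0, 0, 0, 0, 0, 0, 0, 0, 0, 0, 0, 0, 0, 0]
def b2 : V := [0, 0, 0, 0, 0, 4, 0, 0, 0, 0, 0, 0, 0, 0, -4, 0, 0, 0, 0, 0, 0, 0, 0, 0]
def b3 : V := [2, 2, 2, 2, 0, 2, 0, 0, 0, 0, 0, 0, 0, 0, 2, 0, 0, -2, 0, 0, 0, 0, 0, -2]
def b4 : V := [0, 4, 0, -4, 0, 0, 0, 0, 0, 0, 0, 0, 0, 0, 0, 0, 0, 0, 0, 0, 0, 0, 0, 0]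
def b5 : V := [0, 0, 0, 0, 0, 4, 0, 0, 0, 0, 0, 0, 0, 0, 0, 0, 0, 4, 0, 0, 0, 0, 0, 0]
def d0 : V := [2, 2, 2, 2, 0, 2, 0, 0, 0, 0, 0, 0, 0, 0, 2, 0, 0, -2, 0, 0, 0, 0, 0, -2]
def d1 : V := [0, 4, 0, -4, 0, 0, 0, 0, 0, 0, 0, 0, 0, 0, 0, 0, 0, 0, 0, 0, 0, 0, 0, 0]
def d2 : V := [0, 0, 0, 0, 0, 4, 0, 0, 0, 0, 0, 0, 0, 0, 0, 0, 0, 4, 0, 0, 0, 0, 0, 0]
def d3 : V := [4, 0, 0, 0, 0, 0, 0, 0, 0, 0, 0, 0, 0, 0, 0, 0, 0, 0, 0, 0, 0, 0, 0, -4]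
def d4 : V := [0, 4, -4, 0, 0, 0, 0, 0, 0, 0, 0, 0, 0, 0, 0, 0, 0, 0, 0, 0, 0, 0, 0, 0]
def d5 : V := [0, 0, 0, 0, 0, 4, 0, 0, 0, 0, 0, 0, 0, 0, -4, 0, 0, 0, 0, 0, 0, 0, 0, 0]

theorem toFn_uL : toFn uL = Spor.vecU := by
  funext p
  revert p
  decide +kernel

theorem uL_L : toFn uL ∈ leechLattice := by
  rw [toFn_uL]
  exact Spor.leechU.2

theorem mkL_uL : mkL uL = Spor.leechU := by
  rw [mkL_of_mem uL_L]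
  exact Subtype.ext toFn_uL

/-- The indices of the base octad. -/
def octI : List ℕ := [0, 1, 2, 3, 5, 14, 17, 23]

/-- The indices off the base octad. -/
def cI : List ℕ := (List.range 24).filter (fun k => cMask.testBit k)

theorem PhiL_len : PhiL.length = 126 := by decide +kernel

theorem PhiL_ok : PhiL.all (fun y => (y.length == 24) && inLeech (toFn y) &&
    decide (dotL y y = 32) && cI.all (fun k => decide (nth y k = 0)) &&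
    decide (dotL y uL = 0)) = true := by
  decide +kernel

/-- The roots: minimal vectors supported on the base octad and orthogonal to `(4, 4, 0^22)`. -/
def PhiSet : Set leechLattice :=
  {x : leechLattice | sqNorm (x : GolayPt → ℤ) = 32 ∧ tCo0 • x = x ∧
    dotInt (x : GolayPt → ℤ) (Spor.leechU : GolayPt → ℤ) = 0}

theorem PhiL_spec {y : V} (hy : y ∈ PhiL) :
    y.length = 24 ∧ toFn y ∈ leechLattice ∧ dotL y y = 32 ∧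
      (∀ k ∈ cI, nth y k = 0) ∧ dotL y uL = 0 := by
  have h := List.all_eq_true.1 PhiL_ok y hy
  simp only [Bool.and_eq_true, beq_iff_eq, decide_eq_true_eq, List.all_eq_true] at h
  obtain ⟨⟨⟨⟨h1, h2⟩, h3⟩, h4⟩, h5⟩ := h
  exact ⟨h1, mem_of_inLeech h2, h3, h4, h5⟩

theorem mem_cI_of {k : GolayPt} (h : cMask.testBit (gIdx k) = true) : gIdx k ∈ cI := by
  unfold cI
  rw [List.mem_filter]
  exact ⟨List.mem_range.2 (gIdx_lt k), h⟩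

theorem subset_PhiSet : mkL '' {y | y ∈ PhiL} ⊆ PhiSet := by
  rintro x ⟨y, hy, rfl⟩
  obtain ⟨_, hL, hn, hz, hu⟩ := PhiL_spec hy
  refine ⟨?_, ?_, ?_⟩
  · rw [mkL_val hL, ← sqNorm_spec]; exact hn
  · rw [t_fix_iff]
    intro k hk
    rw [mkL_val hL]
    exact hz _ (mem_cI_of hk)
  · rw [mkL_val hL, ← mkL_uL, mkL_val uL_L, ← dotL_spec]
    exact hu


/-! ### Classification of the roots -/

theorem chkA : octI.all (fun a => octI.all (fun b => !(decide (a < b)) ||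
    [(4 : ℤ), -4].all (fun s => [(4 : ℤ), -4].all (fun t =>
      !(decide (dotL (mk4 a b s t) uL = 0)) || PhiL.contains (mk4 a b s t))))) = true := by
  decide +kernel

theorem mk4_mem {a b : ℕ} (ha : a ∈ octI) (hb : b ∈ octI) (hab : a < b) {s t : ℤ}
    (hs : s = 4 ∨ s = -4) (ht : t = 4 ∨ t = -4) (hu : dotL (mk4 a b s t) uL = 0) :
    mk4 a b s t ∈ PhiL := by
  have h1 := List.all_eq_true.1 (List.all_eq_true.1 chkA a ha) b hb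
  rw [Bool.or_eq_true] at h1
  rcases h1 with h1 | h1
  · simp [hab] at h1
  have hs' : s ∈ [(4 : ℤ), -4] := by rcases hs with rfl | rfl <;> simp
  have ht' : t ∈ [(4 : ℤ), -4] := by rcases ht with rfl | rfl <;> simp
  have h2 := List.all_eq_true.1 (List.all_eq_true.1 h1 s hs') t ht'
  rw [Bool.or_eq_true] at h2
  rcases h2 with h2 | h2
  · simp [hu] at h2
  · exact List.contains_iff_mem.1 h2

/-- Position of an index inside the octad. -/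
def pos : ℕ → ℕ
  | 0 => 0 | 1 => 1 | 2 => 2 | 3 => 3 | 5 => 4 | 14 => 5 | 17 => 6 | 23 => 7 | _ => 8

/-- The index at a position. -/
def octAt : Fin 8 → ℕ := ![0, 1, 2, 3, 5, 14, 17, 23]

/-- The vector `(±2^8)` on the base octad with signs from the bits of `i`. -/
def mkB (i : ℕ) : V :=
  (List.range 24).map (fun k => if baseOctad.testBit k then (if i.testBit (pos k) then -2 else 2) else 0)

theorem toFn_mkB (i : ℕ) (p : GolayPt) :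
    toFn (mkB i) p = if baseOctad.testBit (gIdx p) then (if i.testBit (pos (gIdx p)) then -2 else 2) else 0 := by
  unfold toFn mkB
  rw [nth_map_range 24 _ (gIdx_lt p)]

theorem chkB : (List.range 256).all (fun i => !(decide ((mkB i).sum % 8 = 0)) ||
    !(decide (dotL (mkB i) uL = 0)) || PhiL.contains (mkB i)) = true := by
  decide +kernel

theorem mkB_mem {i : ℕ} (hi : i < 256) (hs : (mkB i).sum % 8 = 0) (hu : dotL (mkB i) uL = 0) :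
    mkB i ∈ PhiL := by
  have h1 := List.all_eq_true.1 chkB i (List.mem_range.2 hi)
  rw [Bool.or_eq_true, Bool.or_eq_true] at h1
  rcases h1 with (h1 | h1) | h1
  · simp [hs] at h1
  · simp [hu] at h1
  · exact List.contains_iff_mem.1 h1

theorem pos_spec : ∀ k < 24, baseOctad.testBit k = true →
    ∃ h : pos k < 8, octAt ⟨pos k, h⟩ = k := by
  decide +kernel

theorem cMask_compl : ∀ k < 24, cMask.testBit k = !baseOctad.testBit k := by decide +kernel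

theorem octI_spec : ∀ k < 24, baseOctad.testBit k = true → k ∈ octI := by decide +kernel

theorem sum_mkB (i : ℕ) : (mkB i).sum = ∑ p : GolayPt, toFn (mkB i) p := by
  rw [Cfsg.Agent.Lib.H27.Eng.sum_golayPt]
  unfold mkB
  rw [list_sum_range]
  apply Finset.sum_congr rfl
  intro k hk
  have hk' : k < 24 := Finset.mem_range.1 hk
  unfold toFn
  rw [gIdx_gPt hk', nth_map_range 24 _ hk']

theorem card_oct : (Finset.univ.filter (fun k : GolayPt => baseOctad.testBit (gIdx k) = true)).card = 8 := by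
  decide +kernel

theorem PhiSet_subset : PhiSet ⊆ mkL '' {y | y ∈ PhiL} := by
  intro x hx
  obtain ⟨hn, hfix, hu⟩ := hx
  rw [t_fix_iff] at hfix
  have hzero : ∀ k, (x : GolayPt → ℤ) k ≠ 0 → baseOctad.testBit (gIdx k) = true := by
    intro k hk
    by_contra hb
    rw [Bool.not_eq_true] at hb
    apply hk
    apply hfix k
    rw [cMask_compl _ (gIdx_lt k), hb]
    rfl
  have hudot : ∀ y : V, toFn y = (x : GolayPt → ℤ) → dotL y uL = 0 := by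
    intro y hy
    rw [dotL_spec, hy, toFn_uL]
    exact hu
  rcases shape32 x.2 hn with hA | hB | hC
  · -- shape A
    obtain ⟨i, j, hij, habs⟩ := hA
    have key : ∀ i j : GolayPt, gIdx i < gIdx j →
        (∀ k, |(x : GolayPt → ℤ) k| = if k = i ∨ k = j then 4 else 0) →
        x ∈ mkL '' {y | y ∈ PhiL} := by
      intro i j hlt habs
      have hi : |(x : GolayPt → ℤ) i| = 4 := by rw [habs i, if_pos (Or.inl rfl)]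
      have hj : |(x : GolayPt → ℤ) j| = 4 := by rw [habs j, if_pos (Or.inr rfl)]
      have hi' : (x : GolayPt → ℤ) i = 4 ∨ (x : GolayPt → ℤ) i = -4 := by
        rcases abs_cases ((x : GolayPt → ℤ) i) with h | h <;> omega
      have hj' : (x : GolayPt → ℤ) j = 4 ∨ (x : GolayPt → ℤ) j = -4 := by
        rcases abs_cases ((x : GolayPt → ℤ) j) with h | h <;> omega
      have hiD : gIdx i ∈ octI :=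
        octI_spec _ (gIdx_lt i) (hzero i (by rcases hi' with h | h <;> omega))
      have hjD : gIdx j ∈ octI :=
        octI_spec _ (gIdx_lt j) (hzero j (by rcases hj' with h | h <;> omega))
      have hval : toFn (mk4 (gIdx i) (gIdx j) ((x : GolayPt → ℤ) i) ((x : GolayPt → ℤ) j))
          = (x : GolayPt → ℤ) := by
        funext p
        rw [toFn_mk4]
        by_cases hpi : p = i
        · rw [hpi, if_pos rfl]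
        · have h1 : gIdx p ≠ gIdx i := fun h => hpi (gIdx_injective h)
          rw [if_neg h1]
          by_cases hpj : p = j
          · rw [hpj, if_pos rfl]
          · have h2 : gIdx p ≠ gIdx j := fun h => hpj (gIdx_injective h)
            rw [if_neg h2]
            have := habs p
            rw [if_neg (by tauto)] at this
            exact (abs_eq_zero.1 this).symm
      have hmem := mk4_mem hiD hjD hlt hi' hj' (hudot _ hval)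
      refine ⟨_, hmem, ?_⟩
      apply Subtype.ext
      rw [mkL_val (by rw [hval]; exact x.2), hval]
    rcases Nat.lt_or_ge (gIdx i) (gIdx j) with hlt | hge
    · exact key i j hlt habs
    · have hne : gIdx i ≠ gIdx j := fun h => hij (gIdx_injective h)
      apply key j i (by omega)
      intro k
      rw [habs k]
      congr 1
      exact propext or_comm
  · -- shape B: the octad is the base octad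
    obtain ⟨c, hc, hc8, habs⟩ := hB
    have hsub : support₂ c ⊆ Finset.univ.filter (fun k : GolayPt => baseOctad.testBit (gIdx k) = true) := by
      intro k hk
      rw [mem_support₂_iff] at hk
      rw [Finset.mem_filter]
      refine ⟨Finset.mem_univ _, hzero k ?_⟩
      intro h0
      have := habs k
      rw [if_pos hk, h0] at this
      norm_num at this
    have heq : support₂ c = Finset.univ.filter (fun k : GolayPt => baseOctad.testBit (gIdx k) = true) :=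
      Finset.eq_of_subset_of_card_le hsub (by rw [card_oct, hc8])
    have h2 : ∀ k, baseOctad.testBit (gIdx k) = true → |(x : GolayPt → ℤ) k| = 2 := by
      intro k hk
      have hk' : k ∈ support₂ c := by
        rw [heq, Finset.mem_filter]; exact ⟨Finset.mem_univ _, hk⟩
      rw [mem_support₂_iff] at hk'
      rw [habs k, if_pos hk']
    let i : ℕ := Nat.ofBits (fun j : Fin 8 => decide ((x : GolayPt → ℤ) (gPt (octAt j)) < 0))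
    have hi : i < 256 := Nat.ofBits_lt_two_pow _
    have hval : toFn (mkB i) = (x : GolayPt → ℤ) := by
      funext p
      rw [toFn_mkB]
      by_cases hb : baseOctad.testBit (gIdx p) = true
      · rw [if_pos hb]
        obtain ⟨hp8, hat⟩ := pos_spec _ (gIdx_lt p) hb
        have hbit : i.testBit (pos (gIdx p)) = decide ((x : GolayPt → ℤ) p < 0) := by
          show (Nat.ofBits _).testBit _ = _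
          rw [Nat.testBit_ofBits_lt _ _ hp8, hat, gPt_gIdx]
        rw [hbit]
        have := h2 p hb
        by_cases hneg : (x : GolayPt → ℤ) p < 0
        · rw [decide_eq_true hneg, if_pos rfl]
          rcases abs_cases ((x : GolayPt → ℤ) p) with h | h <;> omega
        · rw [decide_eq_false hneg]
          simp only [Bool.false_eq_true, if_false]
          rcases abs_cases ((x : GolayPt → ℤ) p) with h | h <;> omega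
      · rw [if_neg hb]
        by_contra hne
        exact hb (hzero p (fun h => hne h.symm))
    have hsum : (mkB i).sum % 8 = 0 := by
      rw [sum_mkB, hval]
      obtain ⟨m, c', hm, hd⟩ := exists_leechDesc_normal x.2
      have hb0 : baseOctad.testBit (gIdx (gPt 0)) = true := by
        rw [gIdx_gPt (by norm_num)]; decide
      have h20 := h2 (gPt 0) hb0
      have hm0 : m = 0 := by
        rcases hm with rfl | rfl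
        · rfl
        · exfalso
          have := hd.2.1 (gPt 0)
          unfold Int.ModEq at this
          have hv : ((c' (gPt 0)).val : ℤ) = 0 ∨ ((c' (gPt 0)).val : ℤ) = 1 := by
            have := ZMod.val_lt (c' (gPt 0))
            omega
          rcases abs_cases ((x : GolayPt → ℤ) (gPt 0)) with h | h <;> rcases hv with hv | hv <;> omega
      have := hd.2.2
      rw [hm0] at this
      unfold Int.ModEq at this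
      omega
    have hmem := mkB_mem hi hsum (hudot _ hval)
    refine ⟨_, hmem, ?_⟩
    apply Subtype.ext
    rw [mkL_val (by rw [hval]; exact x.2), hval]
  · -- shape C: no zero coordinates
    exfalso
    obtain ⟨i, habs⟩ := hC
    have hc4 : cMask.testBit (gIdx (gPt 4)) = true := by
      rw [gIdx_gPt (by norm_num)]; decide
    have h0 := hfix (gPt 4) hc4
    have := habs (gPt 4)
    rw [h0] at this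
    split_ifs at this <;> norm_num at this

theorem PhiSet_eq : PhiSet = mkL '' {y | y ∈ PhiL} :=
  Set.Subset.antisymm PhiSet_subset subset_PhiSet

end CentSp

end Cfsg.Agent.Lib.H27
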