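/-
helper27 library: the symplectic form modulo 2 on the roots of the `E7` lattice of `CentSpRoots`,
a symplectic basis, and the data for the finite identities (Parseval etc.) on the 126 roots.
-/
import Mathlib
import Cfsg.Agent.Lib.H27.CentSpRoots

set_option autoImplicit false

namespace Cfsg.Agent.Lib.H27

open Cfsg Finset Cfsg.Agent.Lib.H28 Cfsg.Agent.Lib.H27.Eng

namespace CentSp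

/-- The form modulo 2, on lists. -/
def bN (r s : V) : ℕ := ((dotL r s / 16) % 2).toNat

/-- The form modulo 2: `(x, y) / 16` modulo 2. -/
noncomputable def bZ (x y : leechLattice) : ZMod 2 :=
  ((dotInt (x : GolayPt → ℤ) (y : GolayPt → ℤ) / 16 : ℤ) : ZMod 2)

theorem int_cast_zmod2 (a : ℤ) : (a : ZMod 2) = (((a % 2).toNat : ℕ) : ZMod 2) := by
  have h1 : 0 ≤ a % 2 := Int.emod_nonneg a (by norm_num)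
  have h2 : (((a % 2).toNat : ℕ) : ℤ) = a % 2 := Int.toNat_of_nonneg h1
  have h3 : ((((a % 2).toNat : ℕ) : ℤ) : ZMod 2) = (((a % 2).toNat : ℕ) : ZMod 2) := Int.cast_natCast _
  rw [← h3, h2]
  exact (ZMod.intCast_mod a 2).symm

theorem bZ_mkL {r s : V} (hr : toFn r ∈ leechLattice) (hs : toFn s ∈ leechLattice) :
    bZ (mkL r) (mkL s) = (bN r s : ZMod 2) := by
  unfold bZ bN
  rw [mkL_val hr, mkL_val hs, ← dotL_spec, int_cast_zmod2]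

theorem dotInt_comm' (x y : GolayPt → ℤ) : dotInt x y = dotInt y x := by
  unfold dotInt
  exact Finset.sum_congr rfl (fun i _ => mul_comm _ _)

theorem bZ_comm (x y : leechLattice) : bZ x y = bZ y x := by
  unfold bZ
  rw [dotInt_comm']

/-! ### Compressed coordinates -/

/-- A vector supported on the base octad, from its eight coordinates. -/
def expand : List ℤ → V
  | [a0, a1, a2, a3, a4, a5, a6, a7] =>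
    [a0, a1, a2, a3, 0, a4, 0, 0, 0, 0, 0, 0, 0, 0, a5, 0, 0, a6, 0, 0, 0, 0, 0, a7]
  | _ => []

/-- The dot product in compressed coordinates. -/
def dot8 : List ℤ → List ℤ → ℤ
  | [a0, a1, a2, a3, a4, a5, a6, a7], [c0, c1, c2, c3, c4, c5, c6, c7] =>
    a0 * c0 + a1 * c1 + a2 * c2 + a3 * c3 + a4 * c4 + a5 * c5 + a6 * c6 + a7 * c7
  | _, _ => 0

theorem len8 {a : List ℤ} (h : a.length = 8) :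
    ∃ a0 a1 a2 a3 a4 a5 a6 a7, a = [a0, a1, a2, a3, a4, a5, a6, a7] := by
  match a, h with
  | [a0, a1, a2, a3, a4, a5, a6, a7], _ => exact ⟨a0, a1, a2, a3, a4, a5, a6, a7, rfl⟩

theorem dotL_expand {a c : List ℤ} (ha : a.length = 8) (hc : c.length = 8) :
    dotL (expand a) (expand c) = dot8 a c := by
  obtain ⟨a0, a1, a2, a3, a4, a5, a6, a7, rfl⟩ := len8 ha
  obtain ⟨c0, c1, c2, c3, c4, c5, c6, c7, rfl⟩ := len8 hc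
  simp [dotL, expand, dot8, nth, List.range, List.range.loop]
  ring

theorem expand_neg {a : List ℤ} (ha : a.length = 8) :
    expand (a.map (fun x => -x)) = (expand a).map (fun x => -x) := by
  obtain ⟨a0, a1, a2, a3, a4, a5, a6, a7, rfl⟩ := len8 ha
  simp [expand]

/-- The 126 roots, by their coordinates on the octad. -/
def Phi8 : List (List ℤ) := [[4, 0, 0, 0, 0, 0, 0, -4], [-4, 0, 0, 0, 0, 0, 0, 4], [0, 4, 4, 0, 0, 0, 0, 0], [0, 4, -4, 0, 0, 0, 0, 0], [0, -4, 4, 0, 0, 0, 0, 0], [0, -4, -4, 0, 0, 0, 0, 0], [0, 4, 0, 4, 0, 0, 0, 0], [0, 4, 0, -4, 0, 0, 0, 0], [0, -4, 0, 4, 0, 0, 0, 0], [0, -4, 0, -4, 0, 0, 0, 0], [0, 4, 0, 0, 4, 0, 0, 0], [0, 4, 0, 0, -4, 0, 0, 0], [0, -4, 0, 0, 4, 0, 0, 0], [0, -4, 0, 0, -4, 0, 0, 0], [0, 4, 0, 0, 0, 4, 0, 0], [0, 4, 0, 0,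 0, -4, 0, 0], [0, -4, 0, 0, 0, 4, 0, 0], [0, -4, 0, 0, 0, -4, 0, 0], [0, 4, 0, 0, 0, 0, 4, 0], [0, 4, 0, 0, 0, 0, -4, 0], [0, -4, 0, 0, 0, 0, 4, 0], [0, -4, 0, 0, 0, 0, -4, 0], [0, 0, 4, 4, 0, 0, 0, 0], [0, 0, 4, -4, 0, 0, 0, 0], [0, 0, -4, 4, 0, 0, 0, 0], [0, 0, -4, -4, 0, 0, 0, 0], [0, 0, 4, 0, 4, 0, 0, 0], [0, 0, 4, 0, -4, 0, 0, 0], [0, 0, -4, 0, 4, 0, 0, 0], [0, 0, -4, 0, -4, 0, 0, 0], [0, 0, 4, 0, 0, 4, 0, 0], [0, 0, 4, 0, 0, -4, 0, 0], [0, 0, -4, 0, 0, 4, 0, 0], [0, 0, -4, 0, 0, -4, 0, 0], [0, 0, 4, 0, 0, 0, 4, 0], [0, 0, 4, 0, 0, 0, -4, 0], [0, 0, -4, 0, 0, 0, 4, 0], [0, 0, -4, 0, 0, 0, -4, 0], [0, 0, 0, 4, 4, 0, 0, 0], [0, 0, 0, 4, -4, 0, 0, 0], [0, 0, 0, -4, 4, 0, 0, 0], [0, 0, 0, -4, -4, 0, 0, 0], [0, 0, 0, 4, 0, 4, 0, 0], [0, 0, 0, 4, 0, -4, 0, 0],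 [0, 0, 0, -4, 0, 4, 0, 0], [0, 0, 0, -4, 0, -4, 0, 0], [0, 0, 0, 4, 0, 0, 4, 0], [0, 0, 0, 4, 0, 0, -4, 0], [0, 0, 0, -4, 0, 0, 4, 0], [0, 0, 0, -4, 0, 0, -4, 0], [0, 0, 0, 0, 4, 4, 0, 0], [0, 0, 0, 0, 4, -4, 0, 0], [0, 0, 0, 0, -4, 4, 0, 0], [0, 0, 0, 0, -4, -4, 0, 0], [0, 0, 0, 0, 4, 0, 4, 0], [0, 0, 0, 0, 4, 0, -4, 0], [0, 0, 0, 0, -4, 0, 4, 0], [0, 0, 0, 0, -4, 0, -4, 0], [0, 0, 0, 0, 0, 4, 4, 0], [0, 0, 0, 0, 0, 4, -4, 0], [0, 0, 0, 0, 0, -4, 4, 0], [0, 0, 0, 0, 0, -4, -4, 0], [2, 2, 2, 2, 2, 2, -2, -2], [2, 2, 2, 2, 2, -2, 2, -2], [2, 2, 2, 2, -2, 2, 2, -2], [2, 2, 2, 2, -2, -2, -2, -2], [2, 2, 2, -2, 2, 2, 2, -2], [2, 2, 2, -2, 2, -2, -2, -2], [2, 2, 2, -2, -2, 2, -2, -2], [2, 2, 2, -2, -2, -2, 2, -2], [2, 2, -2, 2, 2, 2, 2, -2], [2, 2, -2, 2, 2, -2, -2,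 -2], [2, 2, -2, 2, -2, 2, -2, -2], [2, 2, -2, 2, -2, -2, 2, -2], [2, 2, -2, -2, 2, 2, -2, -2], [2, 2, -2, -2, 2, -2, 2, -2], [2, 2, -2, -2, -2, 2, 2, -2], [2, 2, -2, -2, -2, -2, -2, -2], [2, -2, 2, 2, 2, 2, 2, -2], [2, -2, 2, 2, 2, -2, -2, -2], [2, -2, 2, 2, -2, 2, -2, -2], [2, -2, 2, 2, -2, -2, 2, -2], [2, -2, 2, -2, 2, 2, -2, -2], [2, -2, 2, -2, 2, -2, 2, -2], [2, -2, 2, -2, -2, 2, 2, -2], [2, -2, 2, -2, -2, -2, -2, -2], [2, -2, -2, 2, 2, 2, -2, -2], [2, -2, -2, 2, 2, -2, 2, -2], [2, -2, -2, 2, -2, 2, 2, -2], [2, -2, -2, 2, -2, -2, -2, -2], [2, -2, -2, -2, 2, 2, 2, -2], [2, -2, -2, -2, 2, -2, -2, -2], [2, -2, -2, -2, -2, 2, -2, -2], [2, -2, -2, -2, -2, -2, 2, -2], [-2, 2, 2, 2, 2, 2, -2, 2], [-2, 2, 2, 2, 2, -2, 2, 2], [-2, 2, 2, 2, -2, 2, 2, 2], [-2, 2, 2,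 2, -2, -2, -2, 2], [-2, 2, 2, -2, 2, 2, 2, 2], [-2, 2, 2, -2, 2, -2, -2, 2], [-2, 2, 2, -2, -2, 2, -2, 2], [-2, 2, 2, -2, -2, -2, 2, 2], [-2, 2, -2, 2, 2, 2, 2, 2], [-2, 2, -2, 2, 2, -2, -2, 2], [-2, 2, -2, 2, -2, 2, -2, 2], [-2, 2, -2, 2, -2, -2, 2, 2], [-2, 2, -2, -2, 2, 2, -2, 2], [-2, 2, -2, -2, 2, -2, 2, 2], [-2, 2, -2, -2, -2, 2, 2, 2], [-2, 2, -2, -2, -2, -2, -2, 2], [-2, -2, 2, 2, 2, 2, 2, 2], [-2, -2, 2, 2, 2, -2, -2, 2], [-2, -2, 2, 2, -2, 2, -2, 2], [-2, -2, 2, 2, -2, -2, 2, 2], [-2, -2, 2, -2, 2, 2, -2, 2], [-2, -2, 2, -2, 2, -2, 2, 2], [-2, -2, 2, -2, -2, 2, 2, 2], [-2, -2, 2, -2, -2, -2, -2, 2], [-2, -2, -2, 2, 2, 2, -2, 2], [-2, -2, -2, 2, 2, -2, 2, 2], [-2, -2, -2, 2, -2, 2, 2, 2], [-2, -2, -2, 2, -2, -2, -2, 2], [-2, -2, -2, -2, 2, 2, 2, 2], [-2,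 -2, -2, -2, 2, -2, -2, 2], [-2, -2, -2, -2, -2, 2, -2, 2], [-2, -2, -2, -2, -2, -2, 2, 2]]

def bb0 : List ℤ := [4, 0, 0, 0, 0, 0, 0, -4]
def bb1 : List ℤ := [0, 4, -4, 0, 0, 0, 0, 0]
def bb2 : List ℤ := [0, 0, 0, 0, 4, -4, 0, 0]
def bb3 : List ℤ := [2, 2, 2, 2, 2, 2, -2, -2]
def bb4 : List ℤ := [0, 4, 0, -4, 0, 0, 0, 0]
def bb5 : List ℤ := [0, 0, 0, 0, 4, 0, 4, 0]
def dd0 : List ℤ := [2, 2, 2, 2, 2, 2, -2, -2]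
def dd1 : List ℤ := [0, 4, 0, -4, 0, 0, 0, 0]
def dd2 : List ℤ := [0, 0, 0, 0, 4, 0, 4, 0]
def dd3 : List ℤ := [4, 0, 0, 0, 0, 0, 0, -4]
def dd4 : List ℤ := [0, 4, -4, 0, 0, 0, 0, 0]
def dd5 : List ℤ := [0, 0, 0, 0, 4, -4, 0, 0]

/-- The table of coordinates `(x, d_j)`. -/
def cT : List (List ℕ) := [[1, 0, 0, 0, 0, 0], [1, 0, 0, 0, 0, 0], [1, 1, 0, 0, 0, 0], [0, 1, 0, 0, 0, 0], [0, 1, 0, 0, 0, 0], [1, 1, 0, 0, 0, 0], [1, 0, 0, 0, 1, 0], [0, 0, 0, 0, 1, 0], [0, 0, 0, 0, 1, 0], [1, 0, 0, 0, 1, 0], [1, 1, 1, 0, 1, 1], [0, 1, 1, 0, 1, 1], [0, 1, 1, 0, 1, 1], [1, 1, 1, 0, 1, 1], [1, 1, 0, 0, 1, 1], [0, 1, 0, 0, 1, 1], [0, 1, 0, 0, 1, 1], [1, 1, 0, 0, 1, 1], [0, 1, 1, 0, 1, 0], [1, 1, 1, 0, 1, 0], [1, 1, 1, 0, 1, 0], [0, 1, 1, 0, 1, 0], [1, 1, 0, 0, 1, 0], [0, 1, 0,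 0, 1, 0], [0, 1, 0, 0, 1, 0], [1, 1, 0, 0, 1, 0], [1, 0, 1, 0, 1, 1], [0, 0, 1, 0, 1, 1], [0, 0, 1, 0, 1, 1], [1, 0, 1, 0, 1, 1], [1, 0, 0, 0, 1, 1], [0, 0, 0, 0, 1, 1], [0, 0, 0, 0, 1, 1], [1, 0, 0, 0, 1, 1], [0, 0, 1, 0, 1, 0], [1, 0, 1, 0, 1, 0], [1, 0, 1, 0, 1, 0], [0, 0, 1, 0, 1, 0], [1, 1, 1, 0, 0, 1], [0, 1, 1, 0, 0, 1], [0, 1, 1, 0, 0, 1], [1, 1, 1, 0, 0, 1], [1, 1, 0, 0, 0, 1], [0, 1, 0, 0, 0, 1], [0, 1, 0, 0, 0, 1], [1, 1, 0, 0, 0, 1], [0, 1, 1, 0, 0, 0], [1, 1, 1, 0, 0, 0], [1, 1, 1, 0, 0, 0], [0, 1, 1, 0, 0, 0], [1, 0, 1, 0, 0, 0], [0, 0, 1, 0, 0, 0], [0, 0, 1, 0, 0, 0], [1, 0, 1, 0, 0, 0], [0, 0, 0, 0, 0, 1], [1, 0, 0, 0, 0, 1], [1, 0, 0, 0, 0, 1], [0, 0, 0, 0, 0, 1], [0, 0, 1, 0, 0, 1], [1, 0, 1, 0, 0, 1], [1, 0, 1, 0, 0, 1], [0, 0, 1, 0, 0, 1],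 [0, 0, 0, 1, 0, 0], [1, 0, 1, 1, 0, 1], [1, 0, 0, 1, 0, 1], [1, 0, 1, 1, 0, 0], [1, 1, 1, 1, 0, 0], [1, 1, 0, 1, 0, 1], [1, 1, 1, 1, 0, 1], [0, 1, 0, 1, 0, 0], [1, 0, 1, 1, 1, 0], [1, 0, 0, 1, 1, 1], [1, 0, 1, 1, 1, 1], [0, 0, 0, 1, 1, 0], [1, 1, 0, 1, 1, 0], [0, 1, 1, 1, 1, 1], [0, 1, 0, 1, 1, 1], [0, 1, 1, 1, 1, 0], [1, 1, 1, 1, 1, 0], [1, 1, 0, 1, 1, 1], [1, 1, 1, 1, 1, 1], [0, 1, 0, 1, 1, 0], [1, 0, 0, 1, 1, 0], [0, 0, 1, 1, 1, 1], [0, 0, 0, 1, 1, 1], [0, 0, 1, 1, 1, 0], [1, 1, 0, 1, 0, 0], [0, 1, 1, 1, 0, 1], [0, 1, 0, 1, 0, 1], [0, 1, 1, 1, 0, 0], [0, 0, 1, 1, 0, 0], [0, 0, 0, 1, 0, 1], [0, 0, 1, 1, 0, 1], [1, 0, 0, 1, 0, 0], [1, 0, 0, 1, 0, 0], [0, 0, 1, 1, 0, 1], [0, 0, 0, 1, 0, 1], [0, 0, 1, 1, 0, 0], [0, 1, 1, 1, 0, 0], [0, 1, 0, 1, 0, 1], [0, 1, 1,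 1, 0, 1], [1, 1, 0, 1, 0, 0], [0, 0, 1, 1, 1, 0], [0, 0, 0, 1, 1, 1], [0, 0, 1, 1, 1, 1], [1, 0, 0, 1, 1, 0], [0, 1, 0, 1, 1, 0], [1, 1, 1, 1, 1, 1], [1, 1, 0, 1, 1, 1], [1, 1, 1, 1, 1, 0], [0, 1, 1, 1, 1, 0], [0, 1, 0, 1, 1, 1], [0, 1, 1, 1, 1, 1], [1, 1, 0, 1, 1, 0], [0, 0, 0, 1, 1, 0], [1, 0, 1, 1, 1, 1], [1, 0, 0, 1, 1, 1], [1, 0, 1, 1, 1, 0], [0, 1, 0, 1, 0, 0], [1, 1, 1, 1, 0, 1], [1, 1, 0, 1, 0, 1], [1, 1, 1, 1, 0, 0], [1, 0, 1, 1, 0, 0], [1, 0, 0, 1, 0, 1], [1, 0, 1, 1, 0, 1], [0, 0, 0, 1, 0, 0]]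

/-- The table of coordinates `(b_j, x)`. -/
def bT : List (List ℕ) := [[0, 0, 0, 1, 0, 0], [0, 0, 0, 1, 0, 0], [0, 0, 0, 1, 1, 0], [0, 0, 0, 0, 1, 0], [0, 0, 0, 0, 1, 0], [0, 0, 0, 1, 1, 0], [0, 1, 0, 1, 0, 0], [0, 1, 0, 0, 0, 0], [0, 1, 0, 0, 0, 0], [0, 1, 0, 1, 0, 0], [0, 1, 1, 1, 1, 1], [0, 1, 1, 0, 1, 1], [0, 1, 1, 0, 1, 1], [0, 1, 1, 1, 1, 1], [0, 1, 1, 1, 1, 0], [0, 1, 1, 0, 1, 0], [0, 1, 1, 0, 1, 0], [0, 1, 1, 1, 1, 0], [0, 1, 0, 0, 1, 1], [0, 1, 0, 1, 1, 1], [0, 1, 0, 1, 1, 1], [0, 1, 0, 0, 1, 1], [0, 1, 0, 1, 1, 0], [0, 1, 0, 0, 1, 0], [0, 1, 0, 0, 1, 0], [0, 1, 0, 1, 1, 0], [0, 1, 1, 1, 0, 1], [0, 1, 1, 0, 0, 1], [0, 1, 1, 0, 0, 1], [0, 1, 1, 1, 0, 1], [0, 1, 1, 1, 0, 0], [0, 1, 1, 0, 0, 0], [0, 1, 1, 0, 0, 0], [0, 1, 1, 1, 0, 0], [0, 1, 0, 0, 0, 1],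 [0, 1, 0, 1, 0, 1], [0, 1, 0, 1, 0, 1], [0, 1, 0, 0, 0, 1], [0, 0, 1, 1, 1, 1], [0, 0, 1, 0, 1, 1], [0, 0, 1, 0, 1, 1], [0, 0, 1, 1, 1, 1], [0, 0, 1, 1, 1, 0], [0, 0, 1, 0, 1, 0], [0, 0, 1, 0, 1, 0], [0, 0, 1, 1, 1, 0], [0, 0, 0, 0, 1, 1], [0, 0, 0, 1, 1, 1], [0, 0, 0, 1, 1, 1], [0, 0, 0, 0, 1, 1], [0, 0, 0, 1, 0, 1], [0, 0, 0, 0, 0, 1], [0, 0, 0, 0, 0, 1], [0, 0, 0, 1, 0, 1], [0, 0, 1, 0, 0, 0], [0, 0, 1, 1, 0, 0], [0, 0, 1, 1, 0, 0], [0, 0, 1, 0, 0, 0], [0, 0, 1, 0, 0, 1], [0, 0, 1, 1, 0, 1], [0, 0, 1, 1, 0, 1], [0, 0, 1, 0, 0, 1], [1, 0, 0, 0, 0, 0], [1, 0, 1, 1, 0, 1], [1, 0, 1, 1, 0, 0], [1, 0, 0, 1, 0, 1], [1, 0, 0, 1, 1, 1], [1, 0, 1, 1, 1, 0], [1, 0, 1, 1, 1, 1], [1, 0, 0, 0, 1, 0], [1, 1, 0, 1, 0, 1], [1, 1, 1, 1, 0, 0], [1, 1, 1, 1, 0, 1], [1, 1, 0,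 0, 0, 0], [1, 1, 0, 1, 1, 0], [1, 1, 1, 0, 1, 1], [1, 1, 1, 0, 1, 0], [1, 1, 0, 0, 1, 1], [1, 1, 0, 1, 1, 1], [1, 1, 1, 1, 1, 0], [1, 1, 1, 1, 1, 1], [1, 1, 0, 0, 1, 0], [1, 1, 0, 1, 0, 0], [1, 1, 1, 0, 0, 1], [1, 1, 1, 0, 0, 0], [1, 1, 0, 0, 0, 1], [1, 0, 0, 1, 1, 0], [1, 0, 1, 0, 1, 1], [1, 0, 1, 0, 1, 0], [1, 0, 0, 0, 1, 1], [1, 0, 0, 0, 0, 1], [1, 0, 1, 0, 0, 0], [1, 0, 1, 0, 0, 1], [1, 0, 0, 1, 0, 0], [1, 0, 0, 1, 0, 0], [1, 0, 1, 0, 0, 1], [1, 0, 1, 0, 0, 0], [1, 0, 0, 0, 0, 1], [1, 0, 0, 0, 1, 1], [1, 0, 1, 0, 1, 0], [1, 0, 1, 0, 1, 1], [1, 0, 0, 1, 1, 0], [1, 1, 0, 0, 0, 1], [1, 1, 1, 0, 0, 0], [1, 1, 1, 0, 0, 1], [1, 1, 0, 1, 0, 0], [1, 1, 0, 0, 1, 0], [1, 1, 1, 1, 1, 1], [1, 1, 1, 1, 1, 0], [1, 1, 0, 1, 1, 1], [1, 1, 0, 0, 1, 1], [1, 1, 1, 0, 1, 0],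 [1, 1, 1, 0, 1, 1], [1, 1, 0, 1, 1, 0], [1, 1, 0, 0, 0, 0], [1, 1, 1, 1, 0, 1], [1, 1, 1, 1, 0, 0], [1, 1, 0, 1, 0, 1], [1, 0, 0, 0, 1, 0], [1, 0, 1, 1, 1, 1], [1, 0, 1, 1, 1, 0], [1, 0, 0, 1, 1, 1], [1, 0, 0, 1, 0, 1], [1, 0, 1, 1, 0, 0], [1, 0, 1, 1, 0, 1], [1, 0, 0, 0, 0, 0]]

theorem PhiL_eq : PhiL = Phi8.map expand := by decide +kernel

theorem Phi8_len : Phi8.all (fun a => a.length == 8) = true := by decide +kernel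

theorem basis_eq : [b0, b1, b2, b3, b4, b5, d0, d1, d2, d3, d4, d5]
    = [bb0, bb1, bb2, bb3, bb4, bb5, dd0, dd1, dd2, dd3, dd4, dd5].map expand := by decide +kernel

theorem basis_mem8 : [bb0, bb1, bb2, bb3, bb4, bb5, dd0, dd1, dd2, dd3, dd4, dd5].all
    (fun y => Phi8.contains y) = true := by decide +kernel

/-- The form modulo 2, in compressed coordinates. -/
def bN8 (a c : List ℤ) : ℕ := ((dot8 a c / 16) % 2).toNat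

theorem bN_expand {a c : List ℤ} (ha : a.length = 8) (hc : c.length = 8) :
    bN (expand a) (expand c) = bN8 a c := by
  unfold bN bN8
  rw [dotL_expand ha hc]

/-- The coordinates `(x, d_j)`. -/
def cvec8 (r : List ℤ) : List ℕ := [bN8 r dd0, bN8 r dd1, bN8 r dd2, bN8 r dd3, bN8 r dd4, bN8 r dd5]

/-- The coordinates `(b_j, x)`. -/
def bvec8 (s : List ℤ) : List ℕ := [bN8 bb0 s, bN8 bb1 s, bN8 bb2 s, bN8 bb3 s, bN8 bb4 s, bN8 bb5 s]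

theorem cT_eq : Phi8.map cvec8 = cT := by decide +kernel

theorem bT_eq : Phi8.map bvec8 = bT := by decide +kernel

/-- Dot product of coordinate vectors. -/
def dot6 : List ℕ → List ℕ → ℕ
  | [a0, a1, a2, a3, a4, a5], [c0, c1, c2, c3, c4, c5] =>
    a0 * c0 + a1 * c1 + a2 * c2 + a3 * c3 + a4 * c4 + a5 * c5
  | _, _ => 0

/-- The standard symplectic form of coordinate vectors. -/
def form6 : List ℕ → List ℕ → ℕ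
  | [a0, a1, a2, a3, a4, a5], [c0, c1, c2, c3, c4, c5] =>
    a0 * c3 + a1 * c4 + a2 * c5 + a3 * c0 + a4 * c1 + a5 * c2
  | _, _ => 0

/-- Comparison forcing the first argument. -/
def chk2 (g a b : ℕ) : Bool :=
  match g with
  | 0 => (a == 0) && (b == 0)
  | _ => (a == 1) && (b == 1)

theorem chk2_spec {g a b : ℕ} (h : chk2 g a b = true) (hg : g < 2) : g = a ∧ g = b := by
  unfold chk2 at h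
  interval_cases g
  · simp only [Bool.and_eq_true, beq_iff_eq] at h
    exact ⟨h.1.symm, h.2.symm⟩
  · simp only [Bool.and_eq_true, beq_iff_eq] at h
    exact ⟨h.1.symm, h.2.symm⟩

/-- The roots with their coordinate vectors. -/
def ZL : List (List ℤ × List ℕ × List ℕ) := Phi8.zip (cT.zip bT)

/-- The check of the Parseval and form identities for one root against all roots. -/
def pfRow (p : List ℤ × List ℕ × List ℕ) : Bool :=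
  (Phi8.zip bT).all (fun q => chk2 (bN8 p.1 q.1) (dot6 p.2.1 q.2 % 2) (form6 p.2.2 q.2 % 2))

end CentSp

end Cfsg.Agent.Lib.H27
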