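/-
helper27 library: the 240 roots of the `E8` lattice inside the Leech lattice: the minimal vectors fixed
by the sign change off the base octad (i.e. supported on the octad).
-/
import Mathlib
import Cfsg.Agent.Lib.H27.CentSpForm0

set_option autoImplicit false

namespace Cfsg.Agent.Lib.H27

open Cfsg Finset Cfsg.Agent.Lib.H28 Cfsg.Agent.Lib.H27.Eng

namespace CentO

open SignFix (mk4 toFn_mk4)
open CentSp

/-- The 240 roots, by their coordinates on the octad (in breadth-first order from `(4, 4)`). -/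
def R8 : List (List ℤ) := [[4, 0, 0, 0, 0, 0, 0, 4], [0, 0, 0, 0, 4, 0, 0, 4], [0, 4, 0, 0, 0, 0, 0, 4], [4, 0, 0, 0, 0, 0, 0, -4], [4, 0, 4, 0, 0, 0, 0, 0], [0, 0, 0, 0, 0, 0, 4, 4], [0, 0, 0, 4, 0, 0, 0, 4], [2, 2, 2, 2, -2, -2, 2, 2], [0, 0, 0, 0, -4, 0, 0, 4], [0, 0, 0, 0, 4, 0, 0, -4], [4, 0, 0, 0, 0, 4, 0, 0], [4, 0, 0, 0, 0, 0, 4, 0], [2, -2, 2, 2, 2, -2, 2, 2], [0, -4, 0, 0, 0, 0, 0, 4], [0, 0, 0, 0, 0, 4, 0, 4], [0, -4, 0, 0, 0, 0, 0, -4], [-4, 0, 0, 0, 0, 0, 0, 4], [0, 0, -4, 0, 0, 0, -4, 0], [0, 4, 0, 0, 0, 0, 0, -4], [0, 0, 0, 0, 0, 0, -4, 4], [4, 0, -4, 0, 0, 0, 0, 0], [0, 0, 0, 0, 4, 4, 0, 0], [0, 4, 0, 4, 0, 0, 0, 0], [4, 4, 0, 0, 0, 0, 0, 0], [0, 0, 0, 0, 0, 0, 4, -4], [4, 0, 0, 4, 0, 0, 0, 0], [2, 2, 2, -2, 2, -2, 2, 2], [0, 0, 0, -4, 0, 0, 0, 4], [0, 0, 4, 0, 0, 0, 0, 4], [0, 0, 0, 4, 0, 0, 0, -4], [2, 2, -2, 2, 2, 2, -2, 2], [2, -2, -2,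 2, 2, 2, 2, 2], [2, 2, -2, -2, 2, 2, 2, 2], [2, -2, -2, -2, 2, 2, -2, 2], [2, -2, 2, 2, 2, 2, -2, 2], [-2, 2, -2, 2, 2, 2, 2, 2], [2, -2, -2, 2, -2, 2, 2, -2], [2, -2, 2, -2, 2, 2, 2, 2], [0, 0, 0, 0, -4, 0, 0, -4], [-4, 0, 4, 0, 0, 0, 0, 0], [-2, 2, -2, 2, -2, -2, -2, -2], [2, -2, -2, -2, -2, -2, -2, 2], [4, 0, 0, 0, 0, -4, 0, 0], [0, 4, 0, 0, 4, 0, 0, 0], [0, 4, 4, 0, 0, 0, 0, 0], [4, 0, 0, 0, 4, 0, 0, 0], [0, 0, -4, 0, 0, 0, 0, 4], [4, 0, 0, 0, 0, 0, -4, 0], [0, 0, 0, 4, 4, 0, 0, 0], [2, 2, 2, 2, 2, -2, -2, 2], [2, 2, -2, -2, -2, 2, -2, 2], [-2, -2, 2, 2, 2, 2, 2, 2], [2, 2, -2, 2, 2, -2, 2, 2], [2, 2, -2, 2, 2, 2, 2, -2], [2, 2, 2, -2, -2, 2, 2, 2], [0, 0, 0, 0, 0, -4, 0, 4], [2, -2, 2, -2, -2, -2, 2, 2], [0, 0, 0, 0, 0, -4, 0, -4], [-4, 0, 0, 0, 0, -4, 0, 0], [-4, 0, 0, 0, 0, 0, -4, 0], [0, 0, 0, -4, 0, 0, 0, -4], [0, 0, 0, 0, 0, 0, -4, -4], [-2, 2,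 -2, -2, -2, 2, -2, -2], [-4, 0, 0, 0, 0, 0, 0, -4], [0, 0, 4, 0, 0, 0, 4, 0], [0, -4, 0, 0, -4, 0, 0, 0], [0, 0, 0, 0, -4, -4, 0, 0], [0, -4, 0, 0, 0, -4, 0, 0], [0, 0, 0, -4, 0, -4, 0, 0], [0, 0, 0, -4, -4, 0, 0, 0], [0, 0, 4, 0, 0, 0, -4, 0], [-4, 0, 0, 0, 0, 4, 0, 0], [-4, 0, 0, 0, 0, 0, 4, 0], [-2, -2, -2, 2, 2, -2, -2, -2], [0, 0, 0, 0, 0, 4, 0, -4], [4, -4, 0, 0, 0, 0, 0, 0], [0, 0, 0, 0, 4, -4, 0, 0], [0, 4, 0, -4, 0, 0, 0, 0], [0, 0, 4, 4, 0, 0, 0, 0], [0, 4, 0, 0, 0, 0, 4, 0], [0, 0, 0, 4, 0, 4, 0, 0], [0, 0, 0, 4, 0, 0, 4, 0], [0, -4, 0, -4, 0, 0, 0, 0], [0, 0, 0, 0, 0, 4, 4, 0], [0, -4, 0, 4, 0, 0, 0, 0], [2, -2, -2, 2, 2, -2, -2, 2], [0, 4, 0, 0, 0, 4, 0, 0], [-4, 4, 0, 0, 0, 0, 0, 0], [-4, 0, -4, 0, 0, 0, 0, 0], [2, 2, -2, -2, 2, -2, -2, 2], [4, 0, 0, -4, 0, 0, 0, 0], [0, 0, 4, 0, 4, 0, 0, 0], [2, 2, 2, -2, 2, 2, -2, 2], [2, 2, -2, 2, -2, 2,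 2, 2], [2, -2, -2, 2, -2, 2, -2, 2], [2, -2, -2, -2, 2, 2, 2, -2], [2, -2, 2, 2, -2, 2, 2, 2], [0, 0, -4, 0, 0, 0, 0, -4], [-4, 0, 0, 4, 0, 0, 0, 0], [-2, 2, -2, -2, 2, -2, -2, -2], [0, 0, 4, 0, 0, 0, 0, -4], [2, -2, 2, 2, 2, -2, -2, -2], [2, 2, 2, 2, -2, 2, -2, 2], [2, 2, -2, -2, -2, -2, 2, 2], [2, 2, 2, -2, -2, -2, -2, 2], [-2, 2, 2, 2, 2, -2, 2, 2], [2, 2, 2, 2, 2, -2, 2, -2], [2, -2, -2, 2, -2, -2, 2, 2], [2, -2, 2, 2, -2, -2, -2, 2], [2, -2, 2, -2, 2, -2, 2, -2], [4, 0, 0, 0, -4, 0, 0, 0], [-2, 2, -2, -2, 2, -2, 2, 2], [2, 2, 2, -2, 2, -2, -2, -2], [-2, 2, 2, -2, 2, 2, 2, 2], [2, 2, -2, 2, 2, -2, -2, -2], [2, 2, 2, 2, -2, 2, 2, -2], [0, 0, 0, 0, 0, -4, 4, 0], [-2, -2, 2, -2, -2, -2, -2, 2], [-2, -2, 2, 2, 2, -2, 2, -2], [-2, 2, -2, 2, -2, -2, 2, 2], [-2, 2, -2, 2, -2, 2, -2, 2], [0, 0, -4, -4, 0, 0, 0, 0], [-2, 2, 2, 2, 2, -2, -2, -2], [-2, 2, 2, -2,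 2, -2, 2, -2], [2, 2, -2, 2, -2, -2, -2, 2], [2, 2, -2, -2, 2, -2, 2, -2], [-2, -2, -2, -2, 2, 2, -2, -2], [0, 0, 0, 0, -4, 4, 0, 0], [-2, -2, -2, 2, -2, 2, -2, -2], [-2, -2, -2, 2, -2, -2, 2, -2], [-2, 2, -2, -2, -2, -2, 2, -2], [-2, -2, 2, -2, 2, 2, 2, -2], [2, -2, 2, -2, -2, -2, -2, -2], [-2, -2, -2, -2, -2, 2, 2, -2], [-2, -2, 2, 2, -2, 2, -2, 2], [2, 2, 2, 2, 2, 2, 2, 2], [-2, -2, -2, -2, 2, -2, -2, 2], [-2, 2, -2, -2, -2, -2, -2, 2], [2, 2, 2, -2, -2, 2, -2, -2], [0, -4, 0, 0, 4, 0, 0, 0], [0, 4, -4, 0, 0, 0, 0, 0], [0, 0, 4, 0, 0, 4, 0, 0], [0, 0, 0, 4, 0, -4, 0, 0], [0, 0, 0, 0, 4, 0, 4, 0], [-2, -2, 2, 2, 2, -2, -2, 2], [0, -4, -4, 0, 0, 0, 0, 0], [0, 0, 0, -4, 4, 0, 0, 0], [0, 4, 0, 0, -4, 0, 0, 0], [0, 4, 0, 0, 0, -4, 0, 0], [2, -2, -2, -2, -2, 2, 2, 2], [2, -2, -2, 2, 2, 2, -2, -2], [-2, 2, 2, -2, -2, 2, -2, 2], [2, 2, 2, 2, 2, 2, -2, -2], [-2,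 2, 2, 2, 2, 2, -2, 2], [-2, 2, 2, -2, -2, -2, 2, 2], [-2, 2, 2, 2, -2, 2, 2, 2], [-2, 2, -2, 2, 2, -2, 2, -2], [2, -2, 2, -2, -2, 2, -2, 2], [2, -2, 2, 2, 2, 2, 2, -2], [0, 0, -4, 0, 0, -4, 0, 0], [2, 2, 2, -2, 2, 2, 2, -2], [2, -2, -2, -2, -2, -2, 2, -2], [-2, -2, -2, 2, 2, 2, -2, 2], [-2, 2, -2, 2, 2, -2, -2, 2], [2, 2, -2, -2, -2, 2, 2, -2], [-4, -4, 0, 0, 0, 0, 0, 0], [-2, 2, -2, 2, 2, 2, -2, -2], [-2, 2, 2, 2, 2, 2, 2, -2], [-4, 0, 0, 0, -4, 0, 0, 0], [-4, 0, 0, -4, 0, 0, 0, 0], [-2, -2, 2, 2, -2, -2, -2, -2], [-2, -2, 2, -2, -2, -2, 2, -2], [2, 2, -2, -2, -2, -2, -2, -2], [-2, -2, 2, -2, -2, 2, -2, -2], [0, 0, -4, 0, 0, 0, 4, 0], [0, 0, 0, -4, 0, 0, -4, 0], [0, 0, 0, -4, 0, 4, 0, 0], [0, -4, 0, 0, 0, 0, -4, 0], [0, 0, 0, 0, 0, -4, -4, 0], [0, 0, -4, 0, -4, 0, 0, 0], [0, 0, 0, 0, -4, 0, -4, 0], [0, -4, 0, 0, 0, 4, 0, 0], [0, 0, 0, 4, -4, 0, 0, 0],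 [0, -4, 4, 0, 0, 0, 0, 0], [-4, 0, 0, 0, 4, 0, 0, 0], [-2, -2, -2, -2, 2, -2, 2, -2], [-2, 2, 2, -2, -2, 2, 2, -2], [-2, -2, -2, -2, -2, -2, -2, -2], [0, 0, -4, 4, 0, 0, 0, 0], [0, -4, 0, 0, 0, 0, 4, 0], [0, 0, 0, -4, 0, 0, 4, 0], [0, 0, 0, 0, 0, 4, -4, 0], [-2, 2, 2, -2, 2, -2, -2, 2], [-2, -2, -2, 2, 2, -2, 2, 2], [-2, -2, -2, -2, -2, -2, 2, 2], [0, 0, 0, 4, 0, 0, -4, 0], [0, 4, 0, 0, 0, 0, -4, 0], [2, -2, -2, -2, 2, -2, 2, 2], [-2, -2, 2, -2, 2, -2, 2, 2], [2, -2, 2, -2, 2, 2, -2, -2], [0, 0, -4, 0, 4, 0, 0, 0], [-2, 2, 2, 2, -2, -2, -2, 2], [2, -2, -2, -2, 2, -2, -2, -2], [2, -2, 2, -2, 2, -2, -2, 2], [2, -2, 2, 2, -2, -2, 2, -2], [2, 2, 2, 2, -2, -2, -2, -2], [2, 2, 2, -2, -2, -2, 2, -2], [2, 2, -2, 2, -2, -2, 2, -2], [0, 0, 4, 0, -4, 0, 0, 0], [-2, -2, 2, 2, -2, 2, 2, -2], [2, -2, -2, -2, -2, 2, -2, -2], [-2, -2, 2, -2, 2, 2, -2, 2], [2, 2, -2, 2,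 -2, 2, -2, -2], [2, -2, -2, 2, -2, -2, -2, -2], [-2, 2, -2, -2, 2, 2, -2, 2], [2, -2, 2, -2, -2, 2, 2, -2], [-2, -2, -2, -2, -2, 2, -2, 2], [-2, -2, -2, 2, 2, 2, 2, -2], [0, 0, 0, 0, 4, 0, -4, 0], [-2, -2, 2, 2, -2, -2, 2, 2], [-2, -2, -2, 2, -2, -2, -2, 2], [2, -2, -2, 2, 2, -2, 2, -2], [-2, -2, 2, 2, 2, 2, -2, -2], [-2, 2, -2, -2, 2, 2, 2, -2], [-2, -2, -2, -2, 2, 2, 2, 2], [-2, -2, 2, -2, -2, 2, 2, 2], [0, 0, 4, -4, 0, 0, 0, 0], [-2, 2, -2, 2, -2, 2, 2, -2], [-2, 2, 2, -2, 2, 2, -2, -2], [-2, 2, -2, -2, -2, 2, 2, 2], [2, -2, 2, 2, -2, 2, -2, -2], [2, 2, -2, -2, 2, 2, -2, -2], [-2, 2, 2, -2, -2, -2, -2, -2], [-2, 2, 2, 2, -2, -2, 2, -2], [-2, -2, 2, -2, 2, -2, -2, -2], [-2, 2, 2, 2, -2, 2, -2, -2], [0, 0, 4, 0, 0, -4, 0, 0], [0, 0, 0, 0, -4, 0, 4, 0], [0, 0, -4, 0, 0, 4, 0, 0], [-2, -2, -2, 2, -2, 2, 2, 2]]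

/-- The 240 roots. -/
def RL : List V := R8.map expand

theorem R8_length : R8.length = 240 := by decide +kernel

theorem R8_len : R8.all (fun a => a.length == 8) = true := by decide +kernel

theorem RL_ok : RL.all (fun y => (y.length == 24) && inLeech (toFn y) &&
    decide (dotL y y = 32) && cI.all (fun k => decide (nth y k = 0))) = true := by
  decide +kernel

/-- The roots: minimal vectors supported on the base octad. -/
def RSet : Set leechLattice :=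
  {x : leechLattice | sqNorm (x : GolayPt → ℤ) = 32 ∧ tCo0 • x = x}

theorem RL_spec {y : V} (hy : y ∈ RL) :
    y.length = 24 ∧ toFn y ∈ leechLattice ∧ dotL y y = 32 ∧ (∀ k ∈ cI, nth y k = 0) := by
  have h := List.all_eq_true.1 RL_ok y hy
  simp only [Bool.and_eq_true, beq_iff_eq, decide_eq_true_eq, List.all_eq_true] at h
  obtain ⟨⟨⟨h1, h2⟩, h3⟩, h4⟩ := h
  exact ⟨h1, mem_of_inLeech h2, h3, h4⟩

theorem subset_RSet : mkL '' {y | y ∈ RL} ⊆ RSet := by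
  rintro x ⟨y, hy, rfl⟩
  obtain ⟨_, hL, hn, hz⟩ := RL_spec hy
  refine ⟨?_, ?_⟩
  · rw [mkL_val hL, ← sqNorm_spec]; exact hn
  · rw [t_fix_iff]
    intro k hk
    rw [mkL_val hL]
    exact hz _ (mem_cI_of hk)

/-! ### Classification of the roots -/

theorem chkA : octI.all (fun a => octI.all (fun b => !(decide (a < b)) ||
    [(4 : ℤ), -4].all (fun s => [(4 : ℤ), -4].all (fun t => RL.contains (mk4 a b s t))))) = true := by
  decide +kernel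

theorem mk4_mem {a b : ℕ} (ha : a ∈ octI) (hb : b ∈ octI) (hab : a < b) {s t : ℤ}
    (hs : s = 4 ∨ s = -4) (ht : t = 4 ∨ t = -4) : mk4 a b s t ∈ RL := by
  have h1 := List.all_eq_true.1 (List.all_eq_true.1 chkA a ha) b hb
  rw [Bool.or_eq_true] at h1
  rcases h1 with h1 | h1
  · simp [hab] at h1
  have hs' : s ∈ [(4 : ℤ), -4] := by rcases hs with rfl | rfl <;> simp
  have ht' : t ∈ [(4 : ℤ), -4] := by rcases ht with rfl | rfl <;> simp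
  have h2 := List.all_eq_true.1 (List.all_eq_true.1 h1 s hs') t ht'
  exact List.contains_iff_mem.1 h2

theorem chkB : (List.range 256).all (fun i => !(decide ((mkB i).sum % 8 = 0)) ||
    RL.contains (mkB i)) = true := by
  decide +kernel

theorem mkB_mem {i : ℕ} (hi : i < 256) (hs : (mkB i).sum % 8 = 0) : mkB i ∈ RL := by
  have h1 := List.all_eq_true.1 chkB i (List.mem_range.2 hi)
  rw [Bool.or_eq_true] at h1
  rcases h1 with h1 | h1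
  · simp [hs] at h1
  · exact List.contains_iff_mem.1 h1

theorem RSet_subset : RSet ⊆ mkL '' {y | y ∈ RL} := by
  intro x hx
  obtain ⟨hn, hfix⟩ := hx
  rw [t_fix_iff] at hfix
  have hzero : ∀ k, (x : GolayPt → ℤ) k ≠ 0 → baseOctad.testBit (gIdx k) = true := by
    intro k hk
    by_contra hb
    rw [Bool.not_eq_true] at hb
    apply hk
    apply hfix k
    rw [cMask_compl _ (gIdx_lt k), hb]
    rfl
  rcases shape32 x.2 hn with hA | hB | hC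
  · -- shape A
    obtain ⟨i, j, hij, habs⟩ := hA
    have key : ∀ i j : GolayPt, gIdx i < gIdx j →
        (∀ k, |(x : GolayPt → ℤ) k| = if k = i ∨ k = j then 4 else 0) →
        x ∈ mkL '' {y | y ∈ RL} := by
      intro i j hlt habs
      have hi : |(x : GolayPt → ℤ) i| = 4 := by rw [habs i, if_pos (Or.inl rfl)]
      have hj : |(x : GolayPt → ℤ) j| = 4 := by rw [habs j, if_pos (Or.inr rfl)]
      have hi' : (x : GolayPt → ℤ) i = 4 ∨ (x : GolayPt → ℤ) i = -4 := by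
        rcases abs_cases ((x : GolayPt → ℤ) i) with h | h <;> omega
      have hj' : (x : GolayPt → ℤ) j = 4 ∨ (x : GolayPt → ℤ) j = -4 := by
        rcases abs_cases ((x : GolayPt → ℤ) j) with h | h <;> omega
      have hiD : gIdx i ∈ octI :=
        octI_spec _ (gIdx_lt i) (hzero i (by rcases hi' with h | h <;> omega))
      have hjD : gIdx j ∈ octI :=
        octI_spec _ (gIdx_lt j) (hzero j (by rcases hj' with h | h <;> omega))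
      have hval : toFn (mk4 (gIdx i) (gIdx j) ((x : GolayPt → ℤ) i) ((x : GolayPt → ℤ) j))
          = (x : GolayPt → ℤ) := by
        funext p
        rw [toFn_mk4]
        by_cases hpi : p = i
        · rw [hpi, if_pos rfl]
        · have h1 : gIdx p ≠ gIdx i := fun h => hpi (gIdx_injective h)
          rw [if_neg h1]
          by_cases hpj : p = j
          · rw [hpj, if_pos rfl]
          · have h2 : gIdx p ≠ gIdx j := fun h => hpj (gIdx_injective h)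
            rw [if_neg h2]
            have := habs p
            rw [if_neg (by tauto)] at this
            exact (abs_eq_zero.1 this).symm
      have hmem := mk4_mem hiD hjD hlt hi' hj'
      refine ⟨_, hmem, ?_⟩
      apply Subtype.ext
      rw [mkL_val (by rw [hval]; exact x.2), hval]
    rcases Nat.lt_or_ge (gIdx i) (gIdx j) with hlt | hge
    · exact key i j hlt habs
    · have hne : gIdx i ≠ gIdx j := fun h => hij (gIdx_injective h)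
      apply key j i (by omega)
      intro k
      rw [habs k]
      congr 1
      exact propext or_comm
  · -- shape B: the octad is the base octad
    obtain ⟨c, hc, hc8, habs⟩ := hB
    have hsub : support₂ c ⊆ Finset.univ.filter (fun k : GolayPt => baseOctad.testBit (gIdx k) = true) := by
      intro k hk
      rw [mem_support₂_iff] at hk
      rw [Finset.mem_filter]
      refine ⟨Finset.mem_univ _, hzero k ?_⟩
      intro h0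
      have := habs k
      rw [if_pos hk, h0] at this
      norm_num at this
    have heq : support₂ c = Finset.univ.filter (fun k : GolayPt => baseOctad.testBit (gIdx k) = true) :=
      Finset.eq_of_subset_of_card_le hsub (by rw [card_oct, hc8])
    have h2 : ∀ k, baseOctad.testBit (gIdx k) = true → |(x : GolayPt → ℤ) k| = 2 := by
      intro k hk
      have hk' : k ∈ support₂ c := by
        rw [heq, Finset.mem_filter]; exact ⟨Finset.mem_univ _, hk⟩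
      rw [mem_support₂_iff] at hk'
      rw [habs k, if_pos hk']
    let i : ℕ := Nat.ofBits (fun j : Fin 8 => decide ((x : GolayPt → ℤ) (gPt (octAt j)) < 0))
    have hi : i < 256 := Nat.ofBits_lt_two_pow _
    have hval : toFn (mkB i) = (x : GolayPt → ℤ) := by
      funext p
      rw [toFn_mkB]
      by_cases hb : baseOctad.testBit (gIdx p) = true
      · rw [if_pos hb]
        obtain ⟨hp8, hat⟩ := pos_spec _ (gIdx_lt p) hb
        have hbit : i.testBit (pos (gIdx p)) = decide ((x : GolayPt → ℤ) p < 0) := by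
          show (Nat.ofBits _).testBit _ = _
          rw [Nat.testBit_ofBits_lt _ _ hp8, hat, gPt_gIdx]
        rw [hbit]
        have := h2 p hb
        by_cases hneg : (x : GolayPt → ℤ) p < 0
        · rw [decide_eq_true hneg, if_pos rfl]
          rcases abs_cases ((x : GolayPt → ℤ) p) with h | h <;> omega
        · rw [decide_eq_false hneg]
          simp only [Bool.false_eq_true, if_false]
          rcases abs_cases ((x : GolayPt → ℤ) p) with h | h <;> omega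
      · rw [if_neg hb]
        by_contra hne
        exact hb (hzero p (fun h => hne h.symm))
    have hsum : (mkB i).sum % 8 = 0 := by
      rw [sum_mkB, hval]
      obtain ⟨m, c', hm, hd⟩ := exists_leechDesc_normal x.2
      have hb0 : baseOctad.testBit (gIdx (gPt 0)) = true := by
        rw [gIdx_gPt (by norm_num)]; decide
      have h20 := h2 (gPt 0) hb0
      have hm0 : m = 0 := by
        rcases hm with rfl | rfl
        · rfl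
        · exfalso
          have := hd.2.1 (gPt 0)
          unfold Int.ModEq at this
          have hv : ((c' (gPt 0)).val : ℤ) = 0 ∨ ((c' (gPt 0)).val : ℤ) = 1 := by
            have := ZMod.val_lt (c' (gPt 0))
            omega
          rcases abs_cases ((x : GolayPt → ℤ) (gPt 0)) with h | h <;> rcases hv with hv | hv <;> omega
      have := hd.2.2
      rw [hm0] at this
      unfold Int.ModEq at this
      omega
    have hmem := mkB_mem hi hsum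
    refine ⟨_, hmem, ?_⟩
    apply Subtype.ext
    rw [mkL_val (by rw [hval]; exact x.2), hval]
  · -- shape C: no zero coordinates
    exfalso
    obtain ⟨i, habs⟩ := hC
    have hc4 : cMask.testBit (gIdx (gPt 4)) = true := by
      rw [gIdx_gPt (by norm_num)]; decide
    have h0 := hfix (gPt 4) hc4
    have := habs (gPt 4)
    rw [h0] at this
    split_ifs at this <;> norm_num at this

theorem RSet_eq : RSet = mkL '' {y | y ∈ RL} :=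
  Set.Subset.antisymm RSet_subset subset_RSet

theorem RL_nodup : RL.Nodup := by decide +kernel

end CentO

end Cfsg.Agent.Lib.H27
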