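/-
helper27 library: the form modulo 2 on the 240 roots of the `E8` lattice of `CentORoots`, a symplectic
basis of roots, and the data for the finite identities (Parseval etc.) on the roots.
-/
import Mathlib
import Cfsg.Agent.Lib.H27.CentORoots

set_option autoImplicit false

namespace Cfsg.Agent.Lib.H27

open Cfsg Finset Cfsg.Agent.Lib.H28 Cfsg.Agent.Lib.H27.Eng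

namespace CentO

open CentSp

def ob0 : List ℤ := [4, 0, 0, 0, 0, 0, 0, -4]
def ob1 : List ℤ := [0, 4, -4, 0, 0, 0, 0, 0]
def ob2 : List ℤ := [0, 0, 0, 0, 4, -4, 0, 0]
def ob3 : List ℤ := [4, 0, 0, 0, 0, 0, 0, 4]
def ob4 : List ℤ := [2, 2, 2, 2, 2, 2, -2, -2]
def ob5 : List ℤ := [0, 4, 0, -4, 0, 0, 0, 0]
def ob6 : List ℤ := [0, 0, 0, 0, 4, 0, 4, 0]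
def ob7 : List ℤ := [-2, -2, -2, -2, 2, 2, -2, -2]
def od0 : List ℤ := [2, 2, 2, 2, 2, 2, -2, -2]
def od1 : List ℤ := [0, 4, 0, -4, 0, 0, 0, 0]
def od2 : List ℤ := [0, 0, 0, 0, 4, 0, 4, 0]
def od3 : List ℤ := [-2, -2, -2, -2, 2, 2, -2, -2]
def od4 : List ℤ := [4, 0, 0, 0, 0, 0, 0, -4]
def od5 : List ℤ := [0, 4, -4, 0, 0, 0, 0, 0]
def od6 : List ℤ := [0, 0, 0, 0, 4, -4, 0, 0]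
def od7 : List ℤ := [4, 0, 0, 0, 0, 0, 0, 4]

/-- The table of coordinates `(x, d_j)`. -/
def cTO : List (List ℕ) := [[0, 0, 0, 1, 0, 0, 0, 0], [0, 0, 1, 0, 1, 0, 1, 1], [0, 1, 0, 1, 1, 1, 0, 1], [1, 0, 0, 0, 0, 0, 0, 0], [1, 0, 0, 1, 1, 1, 0, 1], [1, 0, 1, 1, 1, 0, 0, 1], [0, 1, 0, 1, 1, 0, 0, 1], [0, 0, 0, 0, 0, 0, 0, 1], [1, 0, 1, 1, 1, 0, 1, 1], [1, 0, 1, 1, 1, 0, 1, 1], [1, 0, 0, 0, 1, 0, 1, 1], [0, 0, 1, 1, 1, 0, 0, 1], [0, 1, 1, 1, 0, 1, 1, 1], [1, 1, 0, 0, 1, 1, 0, 1], [0, 0, 0, 0, 1, 0, 1, 1], [0, 1, 0, 1, 1, 1, 0, 1], [1, 0, 0, 0, 0, 0, 0, 0], [0, 0, 1, 1, 0, 1, 0, 0], [1, 1, 0, 0, 1, 1, 0, 1], [0, 0, 1, 0, 1, 0, 0, 1], [0, 0, 0, 0, 1, 1, 0, 1], [1, 0, 1, 1, 0, 0, 0, 0], [1,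 0, 0, 1, 0, 1, 0, 0], [1, 1, 0, 1, 1, 1, 0, 1], [0, 0, 1, 0, 1, 0, 0, 1], [1, 1, 0, 1, 1, 0, 0, 1], [0, 1, 1, 1, 0, 0, 1, 1], [1, 1, 0, 0, 1, 0, 0, 1], [0, 0, 0, 1, 1, 1, 0, 1], [1, 1, 0, 0, 1, 0, 0, 1], [1, 0, 0, 0, 0, 1, 0, 1], [0, 1, 1, 0, 0, 0, 0, 1], [0, 1, 1, 0, 0, 1, 0, 1], [0, 0, 0, 1, 0, 0, 0, 1], [1, 1, 0, 0, 0, 1, 0, 1], [0, 0, 1, 0, 1, 1, 0, 0], [0, 1, 0, 0, 1, 0, 1, 0], [0, 0, 1, 0, 0, 1, 0, 1], [0, 0, 1, 0, 1, 0, 1, 1], [0, 0, 0, 0, 1, 1, 0, 1], [0, 0, 1, 0, 0, 1, 0, 1], [1, 0, 1, 0, 0, 0, 0, 1], [0, 0, 0, 1, 1, 0, 1, 1], [1, 1, 1, 0, 0, 1, 1, 0], [1, 1, 0, 1, 0, 0, 0, 0], [1, 0, 1, 0, 1, 0, 1, 1], [1, 0, 0, 0, 1, 1, 0, 1], [1, 0, 1, 0, 1, 0, 0, 1], [1, 1, 1, 0, 0, 0,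 1, 0], [1, 0, 0, 1, 0, 0, 1, 1], [0, 1, 1, 0, 0, 1, 1, 1], [0, 1, 1, 0, 1, 1, 0, 0], [0, 0, 1, 1, 0, 1, 1, 1], [1, 0, 1, 0, 1, 1, 0, 0], [0, 1, 0, 1, 0, 0, 1, 1], [1, 0, 0, 1, 1, 0, 1, 1], [1, 0, 0, 1, 0, 1, 0, 1], [0, 0, 0, 0, 1, 0, 1, 1], [1, 0, 0, 0, 1, 0, 1, 1], [0, 0, 1, 1, 1, 0, 0, 1], [0, 1, 0, 1, 1, 0, 0, 1], [1, 0, 1, 1, 1, 0, 0, 1], [0, 1, 1, 1, 0, 1, 1, 1], [0, 0, 0, 1, 0, 0, 0, 0], [0, 0, 1, 1, 0, 1, 0, 0], [1, 1, 1, 0, 0, 1, 1, 0], [1, 0, 1, 1, 0, 0, 0, 0], [1, 1, 0, 0, 0, 1, 1, 0], [1, 1, 0, 0, 0, 0, 1, 0], [1, 1, 1, 0, 0, 0, 1, 0], [1, 0, 1, 0, 0, 1, 0, 0], [0, 0, 0, 1, 1, 0, 1, 1], [1, 0, 1, 0, 1, 0, 0, 1], [0, 1, 0, 1, 0, 0, 1, 1], [1, 0, 0, 1, 1, 0, 1, 1], [0, 1, 0,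 0, 1, 1, 0, 1], [0, 0, 1, 0, 0, 0, 0, 0], [0, 0, 0, 0, 0, 1, 0, 0], [1, 1, 0, 1, 0, 1, 0, 0], [0, 1, 1, 1, 0, 1, 0, 0], [1, 1, 0, 0, 0, 0, 1, 0], [0, 1, 1, 1, 0, 0, 0, 0], [1, 0, 0, 1, 0, 1, 0, 0], [0, 0, 1, 0, 0, 0, 1, 0], [0, 0, 0, 0, 0, 1, 0, 0], [0, 1, 0, 0, 0, 0, 1, 1], [1, 1, 0, 0, 0, 1, 1, 0], [0, 1, 0, 0, 1, 1, 0, 1], [1, 0, 0, 1, 1, 1, 0, 1], [0, 1, 0, 0, 0, 1, 1, 1], [0, 1, 0, 0, 1, 0, 0, 1], [1, 0, 1, 0, 0, 1, 1, 0], [1, 1, 0, 0, 0, 0, 0, 1], [0, 0, 0, 1, 0, 1, 1, 1], [0, 1, 1, 0, 0, 0, 1, 1], [0, 0, 1, 1, 1, 0, 0, 0], [0, 1, 0, 1, 0, 1, 1, 1], [0, 0, 0, 1, 1, 1, 0, 1], [0, 1, 0, 0, 1, 0, 0, 1], [0, 1, 0, 1, 0, 1, 1, 1], [1, 0, 0, 0, 1, 1, 0, 1], [1, 1, 0, 0, 1, 1, 1, 0],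 [1, 0, 1, 1, 0, 0, 1, 1], [1, 1, 0, 1, 0, 1, 0, 1], [0, 1, 1, 1, 0, 0, 0, 1], [0, 0, 1, 1, 1, 0, 1, 0], [1, 0, 1, 1, 1, 0, 1, 0], [1, 1, 0, 1, 0, 0, 0, 1], [0, 1, 1, 1, 0, 1, 0, 1], [0, 0, 1, 0, 1, 1, 1, 0], [0, 0, 1, 1, 1, 0, 1, 1], [1, 1, 1, 0, 1, 1, 1, 0], [1, 1, 0, 0, 1, 0, 1, 0], [0, 1, 1, 0, 1, 0, 0, 0], [1, 0, 0, 0, 1, 1, 1, 0], [1, 0, 0, 1, 1, 0, 1, 0], [1, 0, 1, 1, 0, 0, 1, 0], [1, 0, 1, 0, 1, 1, 0, 0], [0, 1, 1, 0, 0, 1, 1, 1], [1, 0, 0, 1, 1, 1, 0, 0], [0, 0, 1, 0, 1, 1, 1, 0], [1, 1, 0, 1, 0, 1, 0, 0], [1, 0, 0, 0, 0, 0, 1, 1], [0, 1, 1, 0, 0, 0, 1, 1], [0, 0, 1, 1, 0, 1, 0, 1], [0, 1, 1, 0, 1, 1, 1, 0], [0, 0, 0, 0, 0, 0, 0, 1], [0, 0, 1, 0, 0, 0, 0, 0], [0, 1, 1, 1, 0,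 0, 1, 1], [1, 1, 0, 0, 0, 0, 0, 1], [1, 1, 0, 0, 0, 1, 0, 1], [0, 0, 1, 1, 0, 1, 0, 1], [0, 0, 1, 0, 1, 1, 0, 0], [1, 0, 0, 1, 0, 0, 1, 1], [0, 1, 1, 0, 1, 1, 1, 0], [1, 0, 1, 1, 0, 0, 0, 1], [1, 0, 0, 1, 1, 0, 1, 0], [1, 1, 1, 0, 1, 1, 0, 0], [1, 1, 1, 0, 1, 0, 1, 0], [0, 1, 1, 1, 0, 1, 1, 0], [0, 1, 0, 0, 0, 0, 0, 0], [1, 0, 0, 0, 0, 1, 1, 0], [0, 1, 0, 1, 0, 0, 1, 0], [0, 0, 0, 0, 0, 0, 1, 0], [0, 1, 0, 0, 1, 1, 1, 0], [1, 1, 0, 1, 0, 0, 0, 0], [0, 1, 1, 1, 0, 0, 1, 0], [0, 1, 1, 1, 0, 1, 1, 0], [0, 1, 0, 1, 0, 1, 1, 0], [1, 0, 0, 0, 0, 0, 1, 1], [1, 1, 0, 1, 1, 0, 0, 0], [0, 1, 1, 0, 1, 0, 1, 0], [0, 0, 0, 0, 1, 0, 0, 0], [1, 0, 0, 0, 1, 0, 0, 0], [1, 1, 0, 1, 1, 0, 0, 0], [0, 0,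 0, 1, 1, 0, 1, 0], [0, 0, 1, 0, 0, 1, 1, 1], [0, 0, 1, 0, 0, 1, 1, 1], [1, 1, 1, 0, 1, 1, 0, 0], [1, 0, 0, 0, 0, 1, 1, 0], [1, 1, 1, 0, 1, 0, 0, 0], [1, 0, 0, 0, 1, 0, 0, 0], [0, 1, 0, 1, 1, 0, 0, 0], [0, 0, 0, 0, 1, 1, 1, 0], [0, 1, 0, 0, 1, 1, 1, 0], [1, 1, 0, 1, 1, 1, 0, 1], [1, 0, 0, 1, 0, 1, 0, 1], [1, 0, 1, 0, 0, 0, 0, 1], [1, 0, 1, 0, 1, 0, 1, 1], [1, 1, 0, 1, 1, 0, 0, 1], [0, 1, 1, 0, 0, 1, 0, 1], [1, 0, 0, 0, 0, 1, 0, 1], [0, 1, 1, 0, 1, 1, 0, 0], [0, 0, 1, 1, 0, 1, 1, 1], [1, 0, 1, 0, 0, 1, 0, 0], [0, 1, 1, 1, 0, 0, 0, 0], [0, 1, 0, 1, 0, 0, 1, 0], [0, 1, 1, 1, 0, 1, 0, 0], [0, 0, 1, 0, 0, 0, 1, 0], [1, 0, 1, 0, 0, 1, 1, 0], [0, 0, 0, 0, 0, 0, 1, 0], [0, 1, 0, 1, 0, 1, 1,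 0], [0, 1, 1, 1, 0, 0, 1, 0], [0, 1, 0, 0, 0, 0, 0, 0], [0, 0, 1, 1, 1, 0, 1, 1], [1, 0, 1, 1, 0, 0, 1, 1], [0, 1, 0, 0, 0, 0, 1, 1], [1, 0, 1, 1, 0, 0, 0, 1], [0, 1, 0, 0, 0, 1, 0, 0], [1, 1, 1, 0, 0, 1, 0, 0], [1, 1, 1, 0, 0, 0, 0, 0], [1, 0, 1, 1, 0, 0, 1, 0], [0, 1, 0, 0, 1, 0, 1, 0], [1, 1, 1, 0, 1, 0, 1, 0], [0, 0, 0, 0, 1, 0, 0, 0], [1, 1, 1, 0, 0, 0, 0, 0], [1, 1, 1, 0, 0, 1, 0, 0], [1, 0, 1, 0, 0, 0, 1, 1], [1, 0, 1, 0, 1, 1, 1, 0], [1, 0, 0, 1, 1, 1, 0, 0], [0, 0, 1, 1, 0, 1, 1, 0], [0, 0, 1, 1, 1, 0, 0, 0], [0, 0, 0, 1, 1, 0, 1, 0], [0, 0, 0, 0, 0, 1, 1, 1], [0, 1, 0, 1, 1, 1, 0, 0], [1, 0, 1, 1, 1, 0, 0, 0], [0, 1, 0, 1, 1, 0, 0, 0], [0, 0, 0, 1, 1, 1, 0, 0], [0, 0, 1, 1,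 0, 1, 1, 0], [0, 1, 0, 0, 0, 1, 1, 1], [0, 0, 1, 1, 1, 0, 1, 0], [0, 0, 0, 1, 1, 1, 0, 0], [1, 0, 1, 0, 1, 1, 1, 0], [0, 1, 1, 0, 1, 0, 0, 0], [0, 1, 0, 1, 1, 1, 0, 0], [0, 0, 0, 0, 1, 1, 1, 0], [1, 0, 1, 1, 1, 0, 1, 0], [0, 1, 1, 1, 0, 0, 0, 1], [1, 0, 0, 1, 0, 0, 1, 0], [1, 1, 0, 1, 1, 1, 0, 0], [1, 1, 1, 0, 1, 0, 0, 0], [0, 1, 1, 0, 1, 0, 1, 0], [1, 1, 0, 1, 0, 1, 0, 1], [0, 1, 1, 1, 0, 1, 0, 1], [1, 0, 1, 1, 1, 0, 0, 0], [1, 0, 0, 0, 1, 1, 1, 0], [0, 1, 0, 0, 0, 1, 0, 0], [0, 0, 0, 0, 0, 1, 1, 1], [1, 1, 0, 1, 0, 0, 0, 1], [1, 1, 0, 0, 1, 1, 1, 0], [1, 1, 1, 0, 1, 1, 1, 0], [1, 1, 0, 1, 1, 1, 0, 0], [0, 1, 1, 0, 0, 0, 0, 1], [0, 0, 0, 1, 0, 0, 0, 1], [0, 0, 0, 1, 0, 1, 1, 1], [1,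 0, 1, 0, 0, 0, 1, 1], [0, 0, 0, 1, 0, 1, 1, 0], [1, 0, 0, 1, 0, 0, 1, 0], [0, 0, 0, 1, 0, 1, 1, 0], [1, 1, 0, 0, 1, 0, 1, 0]]

/-- The table of coordinates `(b_j, x)`. -/
def bTO : List (List ℕ) := [[0, 0, 0, 0, 0, 0, 0, 1], [1, 0, 1, 1, 0, 0, 1, 0], [1, 1, 0, 1, 0, 1, 0, 1], [0, 0, 0, 0, 1, 0, 0, 0], [1, 1, 0, 1, 1, 0, 0, 1], [1, 0, 0, 1, 1, 0, 1, 1], [1, 0, 0, 1, 0, 1, 0, 1], [0, 0, 0, 1, 0, 0, 0, 0], [1, 0, 1, 1, 1, 0, 1, 1], [1, 0, 1, 1, 1, 0, 1, 1], [1, 0, 1, 1, 1, 0, 0, 0], [1, 0, 0, 1, 0, 0, 1, 1], [0, 1, 1, 1, 0, 1, 1, 1], [1, 1, 0, 1, 1, 1, 0, 0], [1, 0, 1, 1, 0, 0, 0, 0], [1, 1, 0, 1, 0, 1, 0, 1], [0, 0, 0, 0, 1, 0, 0, 0], [0, 1, 0, 0, 0, 0, 1, 1], [1, 1, 0, 1, 1, 1, 0, 0],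 [1, 0, 0, 1, 0, 0, 1, 0], [1, 1, 0, 1, 0, 0, 0, 0], [0, 0, 0, 0, 1, 0, 1, 1], [0, 1, 0, 0, 1, 0, 0, 1], [1, 1, 0, 1, 1, 1, 0, 1], [1, 0, 0, 1, 0, 0, 1, 0], [1, 0, 0, 1, 1, 1, 0, 1], [0, 0, 1, 1, 0, 1, 1, 1], [1, 0, 0, 1, 1, 1, 0, 0], [1, 1, 0, 1, 0, 0, 0, 1], [1, 0, 0, 1, 1, 1, 0, 0], [0, 1, 0, 1, 1, 0, 0, 0], [0, 0, 0, 1, 0, 1, 1, 0], [0, 1, 0, 1, 0, 1, 1, 0], [0, 0, 0, 1, 0, 0, 0, 1], [0, 1, 0, 1, 1, 1, 0, 0], [1, 1, 0, 0, 0, 0, 1, 0], [1, 0, 1, 0, 0, 1, 0, 0], [0, 1, 0, 1, 0, 0, 1, 0], [1, 0, 1, 1, 0, 0, 1, 0], [1, 1, 0, 1, 0, 0, 0, 0], [0, 1, 0, 1, 0, 0, 1, 0], [0, 0, 0, 1, 1, 0, 1, 0], [1, 0, 1, 1, 0, 0, 0, 1], [0, 1, 1, 0, 1, 1, 1, 0], [0, 0, 0, 0, 1, 1, 0, 1], [1, 0, 1, 1, 1,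 0, 1, 0], [1, 1, 0, 1, 1, 0, 0, 0], [1, 0, 0, 1, 1, 0, 1, 0], [0, 0, 1, 0, 1, 1, 1, 0], [0, 0, 1, 1, 1, 0, 0, 1], [0, 1, 1, 1, 0, 1, 1, 0], [1, 1, 0, 0, 0, 1, 1, 0], [0, 1, 1, 1, 0, 0, 1, 1], [1, 1, 0, 0, 1, 0, 1, 0], [0, 0, 1, 1, 0, 1, 0, 1], [1, 0, 1, 1, 1, 0, 0, 1], [0, 1, 0, 1, 1, 0, 0, 1], [1, 0, 1, 1, 0, 0, 0, 0], [1, 0, 1, 1, 1, 0, 0, 0], [1, 0, 0, 1, 0, 0, 1, 1], [1, 0, 0, 1, 0, 1, 0, 1], [1, 0, 0, 1, 1, 0, 1, 1], [0, 1, 1, 1, 0, 1, 1, 1], [0, 0, 0, 0, 0, 0, 0, 1], [0, 1, 0, 0, 0, 0, 1, 1], [0, 1, 1, 0, 1, 1, 1, 0], [0, 0, 0, 0, 1, 0, 1, 1], [0, 1, 1, 0, 1, 1, 0, 0], [0, 0, 1, 0, 1, 1, 0, 0], [0, 0, 1, 0, 1, 1, 1, 0], [0, 1, 0, 0, 1, 0, 1, 0], [1, 0, 1, 1, 0, 0, 0, 1], [1, 0,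 0, 1, 1, 0, 1, 0], [0, 0, 1, 1, 0, 1, 0, 1], [1, 0, 1, 1, 1, 0, 0, 1], [1, 1, 0, 1, 0, 1, 0, 0], [0, 0, 0, 0, 0, 0, 1, 0], [0, 1, 0, 0, 0, 0, 0, 0], [0, 1, 0, 0, 1, 1, 0, 1], [0, 1, 0, 0, 0, 1, 1, 1], [0, 0, 1, 0, 1, 1, 0, 0], [0, 0, 0, 0, 0, 1, 1, 1], [0, 1, 0, 0, 1, 0, 0, 1], [0, 0, 1, 0, 0, 0, 1, 0], [0, 1, 0, 0, 0, 0, 0, 0], [0, 0, 1, 1, 0, 1, 0, 0], [0, 1, 1, 0, 1, 1, 0, 0], [1, 1, 0, 1, 0, 1, 0, 0], [1, 1, 0, 1, 1, 0, 0, 1], [0, 1, 1, 1, 0, 1, 0, 0], [1, 0, 0, 1, 0, 1, 0, 0], [0, 1, 1, 0, 1, 0, 1, 0], [0, 0, 0, 1, 1, 1, 0, 0], [0, 1, 1, 1, 0, 0, 0, 1], [0, 0, 1, 1, 0, 1, 1, 0], [1, 0, 0, 0, 0, 0, 1, 1], [0, 1, 1, 1, 0, 1, 0, 1], [1, 1, 0, 1, 0, 0, 0, 1], [1, 0, 0, 1, 0, 1, 0,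 0], [0, 1, 1, 1, 0, 1, 0, 1], [1, 1, 0, 1, 1, 0, 0, 0], [1, 1, 1, 0, 1, 1, 0, 0], [0, 0, 1, 1, 1, 0, 1, 1], [0, 1, 0, 1, 1, 1, 0, 1], [0, 0, 0, 1, 0, 1, 1, 1], [1, 0, 1, 0, 0, 0, 1, 1], [1, 0, 1, 0, 1, 0, 1, 1], [0, 0, 0, 1, 1, 1, 0, 1], [0, 1, 0, 1, 0, 1, 1, 1], [1, 1, 1, 0, 0, 0, 1, 0], [1, 0, 1, 1, 0, 0, 1, 1], [1, 1, 1, 0, 1, 1, 1, 0], [1, 0, 1, 0, 1, 1, 0, 0], [1, 0, 0, 0, 0, 1, 1, 0], [1, 1, 1, 0, 1, 0, 0, 0], [1, 0, 1, 0, 1, 0, 0, 1], [0, 0, 1, 0, 1, 0, 1, 1], [1, 1, 0, 0, 1, 0, 1, 0], [0, 1, 1, 1, 0, 1, 1, 0], [1, 1, 0, 0, 1, 0, 0, 1], [1, 1, 1, 0, 0, 0, 1, 0], [0, 1, 0, 0, 1, 1, 0, 1], [0, 0, 1, 1, 1, 0, 0, 0], [0, 0, 1, 1, 0, 1, 1, 0], [0, 1, 0, 1, 0, 0, 1, 1], [1, 1, 1, 0,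 0, 1, 1, 0], [0, 0, 0, 1, 0, 0, 0, 0], [0, 0, 0, 0, 0, 0, 1, 0], [0, 0, 1, 1, 0, 1, 1, 1], [0, 0, 0, 1, 1, 1, 0, 0], [0, 1, 0, 1, 1, 1, 0, 0], [0, 1, 0, 1, 0, 0, 1, 1], [1, 1, 0, 0, 0, 0, 1, 0], [0, 0, 1, 1, 1, 0, 0, 1], [1, 1, 1, 0, 0, 1, 1, 0], [0, 0, 0, 1, 1, 0, 1, 1], [1, 0, 1, 0, 1, 0, 0, 1], [1, 1, 0, 0, 1, 1, 1, 0], [1, 0, 1, 0, 1, 1, 1, 0], [0, 1, 1, 0, 0, 1, 1, 1], [0, 0, 0, 0, 0, 1, 0, 0], [0, 1, 1, 0, 1, 0, 0, 0], [0, 0, 1, 0, 0, 1, 0, 1], [0, 0, 1, 0, 0, 0, 0, 0], [1, 1, 1, 0, 0, 1, 0, 0], [0, 0, 0, 0, 1, 1, 0, 1], [0, 0, 1, 0, 0, 1, 1, 1], [0, 1, 1, 0, 0, 1, 1, 1], [0, 1, 1, 0, 0, 1, 0, 1], [0, 0, 1, 1, 1, 0, 0, 0], [1, 0, 0, 0, 1, 1, 0, 1], [1, 0, 1, 0, 0, 1, 1, 0], [1,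 0, 0, 0, 0, 0, 0, 0], [1, 0, 0, 0, 1, 0, 0, 0], [1, 0, 0, 0, 1, 1, 0, 1], [1, 0, 1, 0, 0, 0, 0, 1], [0, 1, 1, 1, 0, 0, 1, 0], [0, 1, 1, 1, 0, 0, 1, 0], [1, 1, 0, 0, 1, 1, 1, 0], [0, 1, 1, 0, 1, 0, 0, 0], [1, 0, 0, 0, 1, 1, 1, 0], [1, 0, 0, 0, 1, 0, 0, 0], [1, 0, 0, 0, 0, 1, 0, 1], [1, 1, 1, 0, 0, 0, 0, 0], [1, 1, 1, 0, 0, 1, 0, 0], [1, 1, 0, 1, 1, 1, 0, 1], [0, 1, 0, 1, 1, 0, 0, 1], [0, 0, 0, 1, 1, 0, 1, 0], [1, 0, 1, 1, 1, 0, 1, 0], [1, 0, 0, 1, 1, 1, 0, 1], [0, 1, 0, 1, 0, 1, 1, 0], [0, 1, 0, 1, 1, 0, 0, 0], [1, 1, 0, 0, 0, 1, 1, 0], [0, 1, 1, 1, 0, 0, 1, 1], [0, 1, 0, 0, 1, 0, 1, 0], [0, 0, 0, 0, 0, 1, 1, 1], [0, 0, 1, 0, 0, 1, 0, 1], [0, 1, 0, 0, 0, 1, 1, 1], [0, 0, 1, 0, 0, 0,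 1, 0], [0, 1, 1, 0, 1, 0, 1, 0], [0, 0, 1, 0, 0, 0, 0, 0], [0, 1, 1, 0, 0, 1, 0, 1], [0, 0, 1, 0, 0, 1, 1, 1], [0, 0, 0, 0, 0, 1, 0, 0], [1, 0, 1, 1, 0, 0, 1, 1], [0, 0, 1, 1, 1, 0, 1, 1], [0, 0, 1, 1, 0, 1, 0, 0], [0, 0, 0, 1, 1, 0, 1, 1], [0, 1, 0, 0, 0, 1, 0, 0], [0, 1, 0, 0, 1, 1, 1, 0], [0, 0, 0, 0, 1, 1, 1, 0], [0, 0, 1, 0, 1, 0, 1, 1], [1, 0, 1, 0, 0, 1, 0, 0], [1, 0, 1, 0, 1, 1, 1, 0], [1, 0, 0, 0, 0, 0, 0, 0], [0, 0, 0, 0, 1, 1, 1, 0], [0, 1, 0, 0, 1, 1, 1, 0], [0, 0, 1, 1, 1, 0, 1, 0], [1, 1, 1, 0, 1, 0, 1, 0], [1, 1, 0, 0, 1, 0, 0, 1], [0, 1, 1, 0, 0, 0, 1, 1], [1, 0, 0, 0, 0, 0, 1, 1], [1, 0, 1, 0, 0, 0, 0, 1], [0, 1, 1, 1, 0, 0, 0, 0], [1, 1, 0, 0, 0, 1, 0, 1], [1, 0, 0,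 0, 1, 0, 1, 1], [1, 0, 0, 0, 0, 1, 0, 1], [1, 1, 0, 0, 0, 0, 0, 1], [0, 1, 1, 0, 0, 0, 1, 1], [0, 1, 1, 1, 0, 1, 0, 0], [1, 0, 1, 0, 0, 0, 1, 1], [1, 1, 0, 0, 0, 0, 0, 1], [1, 1, 1, 0, 1, 0, 1, 0], [1, 0, 0, 0, 0, 1, 1, 0], [1, 1, 0, 0, 0, 1, 0, 1], [1, 1, 1, 0, 0, 0, 0, 0], [1, 0, 1, 0, 1, 0, 1, 1], [0, 0, 0, 1, 0, 1, 1, 1], [0, 0, 1, 0, 1, 0, 0, 1], [1, 1, 0, 0, 1, 1, 0, 1], [1, 0, 0, 0, 1, 1, 1, 0], [1, 0, 1, 0, 0, 1, 1, 0], [0, 1, 0, 1, 1, 1, 0, 1], [0, 1, 0, 1, 0, 1, 1, 1], [1, 0, 0, 0, 1, 0, 1, 1], [1, 1, 1, 0, 1, 0, 0, 0], [0, 1, 0, 0, 0, 1, 0, 0], [0, 1, 1, 1, 0, 0, 0, 0], [0, 0, 0, 1, 1, 1, 0, 1], [1, 1, 1, 0, 1, 1, 0, 0], [1, 1, 1, 0, 1, 1, 1, 0], [1, 1, 0, 0, 1, 1, 0, 1],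 [0, 0, 0, 1, 0, 1, 1, 0], [0, 0, 0, 1, 0, 0, 0, 1], [0, 1, 1, 1, 0, 0, 0, 1], [0, 0, 1, 1, 1, 0, 1, 0], [0, 1, 1, 0, 0, 0, 0, 1], [0, 0, 1, 0, 1, 0, 0, 1], [0, 1, 1, 0, 0, 0, 0, 1], [1, 0, 1, 0, 1, 1, 0, 0]]

theorem obasis_mem8 : [ob0, ob1, ob2, ob3, ob4, ob5, ob6, ob7, od0, od1, od2, od3, od4, od5, od6, od7].all
    (fun y => R8.contains y) = true := by decide +kernel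

/-- The coordinates `(x, d_j)`. -/
def cvecO (r : List ℤ) : List ℕ :=
  [bN8 r od0, bN8 r od1, bN8 r od2, bN8 r od3, bN8 r od4, bN8 r od5, bN8 r od6, bN8 r od7]

/-- The coordinates `(b_j, x)`. -/
def bvecO (s : List ℤ) : List ℕ :=
  [bN8 ob0 s, bN8 ob1 s, bN8 ob2 s, bN8 ob3 s, bN8 ob4 s, bN8 ob5 s, bN8 ob6 s, bN8 ob7 s]

theorem cTO_eq : R8.map cvecO = cTO := by decide +kernel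

theorem bTO_eq : R8.map bvecO = bTO := by decide +kernel

/-- Dot product of coordinate vectors. -/
def dot8N : List ℕ → List ℕ → ℕ
  | [a0, a1, a2, a3, a4, a5, a6, a7], [c0, c1, c2, c3, c4, c5, c6, c7] =>
    a0 * c0 + a1 * c1 + a2 * c2 + a3 * c3 + a4 * c4 + a5 * c5 + a6 * c6 + a7 * c7
  | _, _ => 0

/-- The quadratic form in the root coordinates. -/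
def qp8 : List ℕ → ℕ
  | [a0, a1, a2, a3, a4, a5, a6, a7] =>
    (a0 + a4 + a0 * a4 + (a1 + a5 + a1 * a5) + (a2 + a6 + a2 * a6) + (a3 + a7 + a3 * a7)) % 2
  | _ => 0

/-- Comparison forcing the first argument. -/
def chk1 (g a : ℕ) : Bool :=
  match g with
  | 0 => a == 0
  | _ => a == 1

theorem chk1_spec {g a : ℕ} (h : chk1 g a = true) (hg : g < 2) : g = a := by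
  unfold chk1 at h
  interval_cases g
  · simp only [beq_iff_eq] at h
    exact h.symm
  · simp only [beq_iff_eq] at h
    exact h.symm

/-- The roots with their coordinate vectors. -/
def ZLO : List (List ℤ × List ℕ × List ℕ) := R8.zip (cTO.zip bTO)

/-- The check of the Parseval identity for one root against all roots. -/
def pfRowO (p : List ℤ × List ℕ × List ℕ) : Bool :=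
  (R8.zip bTO).all (fun q => chk1 (bN8 p.1 q.1) (dot8N p.2.1 q.2 % 2))

end CentO

end Cfsg.Agent.Lib.H27
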