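/-
helper27 library: chunk 2 of the Parseval check of `CentOForm`.
-/
import Mathlib
import Cfsg.Agent.Lib.H27.CentOForm0

set_option autoImplicit false

namespace Cfsg.Agent.Lib.H27

open Cfsg Finset Cfsg.Agent.Lib.H28 Cfsg.Agent.Lib.H27.Eng

namespace CentO

theorem chkPFO_C : ((ZLO.drop 80).take 40).all pfRowO = true := by
  decide +kernel

end CentO

end Cfsg.Agent.Lib.H27
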