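/-
helper27 library: chunk 2 of the Parseval check of `CentSpForm`.
-/
import Mathlib
import Cfsg.Agent.Lib.H27.CentSpForm0

set_option autoImplicit false

namespace Cfsg.Agent.Lib.H27

open Cfsg Finset Cfsg.Agent.Lib.H28 Cfsg.Agent.Lib.H27.Eng

namespace CentSp

theorem chkPF_C : ((ZL.drop 64).take 32).all pfRow = true := by
  decide +kernel

end CentSp

end Cfsg.Agent.Lib.H27
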