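/-
helper27 library: the symplectic form modulo 2 on the roots of the `E7` lattice of `CentSpRoots`:
the finite identities (Parseval etc.) checked on the 126 roots.
-/
import Mathlib
import Cfsg.Agent.Lib.H27.CentSpForm0
import Cfsg.Agent.Lib.H27.CentSpFormA
import Cfsg.Agent.Lib.H27.CentSpFormB
import Cfsg.Agent.Lib.H27.CentSpFormC
import Cfsg.Agent.Lib.H27.CentSpFormD

set_option autoImplicit false

namespace Cfsg.Agent.Lib.H27

open Cfsg Finset Cfsg.Agent.Lib.H28 Cfsg.Agent.Lib.H27.Eng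

namespace CentSp

theorem ZL_len : ZL.length = 126 := by decide +kernel

theorem chkPF : ZL.all pfRow = true := by
  have e : ZL = (ZL.drop 0).take 32 ++ ((ZL.drop 32).take 32 ++ ((ZL.drop 64).take 32 ++ (ZL.drop 96).take 32)) := by
    have h4 : (ZL.drop 96).take 32 = ZL.drop 96 := by
      apply List.take_of_length_le
      rw [List.length_drop, ZL_len]
      norm_num
    rw [h4]
    have h3 : (ZL.drop 64).take 32 ++ ZL.drop 96 = ZL.drop 64 := by
      have := List.take_append_drop 32 (ZL.drop 64)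
      rw [List.drop_drop] at this
      exact this
    rw [h3]
    have h2 : (ZL.drop 32).take 32 ++ ZL.drop 64 = ZL.drop 32 := by
      have := List.take_append_drop 32 (ZL.drop 32)
      rw [List.drop_drop] at this
      exact this
    rw [h2, List.drop_zero]
    exact (List.take_append_drop 32 ZL).symm
  rw [e, List.all_append, List.all_append, List.all_append, chkPF_A, chkPF_B, chkPF_C, chkPF_D]
  rfl

theorem chkP3 : (Phi8.zip cT).all (fun p => (Phi8.zip cT).all (fun q =>
    !(p.2 == q.2) || q.1 == p.1 || q.1 == p.1.map (fun a => -a))) = true := by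
  decide +kernel

theorem chkGram : [cvec8 bb0, cvec8 bb1, cvec8 bb2, cvec8 bb3, cvec8 bb4, cvec8 bb5]
    = [[1,0,0,0,0,0], [0,1,0,0,0,0], [0,0,1,0,0,0], [0,0,0,1,0,0], [0,0,0,0,1,0], [0,0,0,0,0,1]] := by
  decide +kernel

theorem chkGramD : [cvec8 dd0, cvec8 dd1, cvec8 dd2, cvec8 dd3, cvec8 dd4, cvec8 dd5]
    = [[0,0,0,1,0,0], [0,0,0,0,1,0], [0,0,0,0,0,1], [1,0,0,0,0,0], [0,1,0,0,0,0], [0,0,1,0,0,0]] := by
  decide +kernel

theorem bN8_lt (r s : List ℤ) : bN8 r s < 2 := by
  unfold bN8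
  have h1 : 0 ≤ (dot8 r s / 16) % 2 := Int.emod_nonneg _ (by norm_num)
  have h2 : (dot8 r s / 16) % 2 < 2 := Int.emod_lt_of_pos _ (by norm_num)
  omega

theorem mem_zip_map {α β : Type*} (f : α → β) : ∀ {l : List α} {a : α}, a ∈ l →
    (a, f a) ∈ l.zip (l.map f) := by
  intro l
  induction l with
  | nil => intro a ha; cases ha
  | cons b l ih =>
    intro a ha
    rw [List.map_cons, List.zip_cons_cons]
    rcases List.mem_cons.1 ha with rfl | ha
    · exact List.mem_cons_self
    · exact List.mem_cons_of_mem _ (ih ha)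

theorem mem_zip_c {r : List ℤ} (hr : r ∈ Phi8) : (r, cvec8 r) ∈ Phi8.zip cT := by
  rw [← cT_eq]; exact mem_zip_map cvec8 hr

theorem mem_zip_b {r : List ℤ} (hr : r ∈ Phi8) : (r, bvec8 r) ∈ Phi8.zip bT := by
  rw [← bT_eq]; exact mem_zip_map bvec8 hr

theorem mem_zip_cb {r : List ℤ} (hr : r ∈ Phi8) : (r, cvec8 r, bvec8 r) ∈ ZL := by
  unfold ZL
  rw [← cT_eq, ← bT_eq, List.zip_map']
  exact mem_zip_map (fun a => (cvec8 a, bvec8 a)) hr

/-- Parseval identity and form identity, in compressed coordinates. -/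
theorem pf_list {r s : List ℤ} (hr : r ∈ Phi8) (hs : s ∈ Phi8) :
    bN8 r s = dot6 (cvec8 r) (bvec8 s) % 2 ∧ bN8 r s = form6 (bvec8 r) (bvec8 s) % 2 := by
  have h0 := List.all_eq_true.1 chkPF _ (mem_zip_cb hr)
  unfold pfRow at h0
  have h := List.all_eq_true.1 h0 _ (mem_zip_b hs)
  exact chk2_spec h (bN8_lt _ _)

theorem p3_list {r s : List ℤ} (hr : r ∈ Phi8) (hs : s ∈ Phi8) (h : cvec8 r = cvec8 s) :
    s = r ∨ s = r.map (fun a => -a) := by
  have h1 := List.all_eq_true.1 (List.all_eq_true.1 chkP3 _ (mem_zip_c hr)) _ (mem_zip_c hs)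
  simp only [Bool.or_eq_true, Bool.not_eq_true', beq_eq_false_iff_ne, ne_eq, beq_iff_eq] at h1
  rcases h1 with (h1 | h1) | h1
  · exact absurd h h1
  · exact Or.inl h1
  · exact Or.inr h1

end CentSp

end Cfsg.Agent.Lib.H27
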