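/-
helper27 library: the form modulo 2 on the 240 roots of the `E8` lattice of `CentORoots`: the finite
identities (Parseval etc.) checked on the roots.
-/
import Mathlib
import Cfsg.Agent.Lib.H27.CentOForm0
import Cfsg.Agent.Lib.H27.CentOFormA
import Cfsg.Agent.Lib.H27.CentOFormB
import Cfsg.Agent.Lib.H27.CentOFormC
import Cfsg.Agent.Lib.H27.CentOFormD
import Cfsg.Agent.Lib.H27.CentOFormE
import Cfsg.Agent.Lib.H27.CentOFormF
import Cfsg.Agent.Lib.H27.CentSpForm

set_option autoImplicit false

namespace Cfsg.Agent.Lib.H27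

open Cfsg Finset Cfsg.Agent.Lib.H28 Cfsg.Agent.Lib.H27.Eng

namespace CentO

open CentSp

theorem ZLO_len : ZLO.length = 240 := by decide +kernel

theorem split6 {α : Type*} (l : List α) (hl : l.length = 240) :
    l = (l.drop 0).take 40 ++ ((l.drop 40).take 40 ++ ((l.drop 80).take 40 ++
      ((l.drop 120).take 40 ++ ((l.drop 160).take 40 ++ (l.drop 200).take 40)))) := by
  have h6 : (l.drop 200).take 40 = l.drop 200 := by
    apply List.take_of_length_le
    rw [List.length_drop, hl]
  rw [h6]
  have step : ∀ k : ℕ, (l.drop k).take 40 ++ l.drop (k + 40) = l.drop k := by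
    intro k
    have := List.take_append_drop 40 (l.drop k)
    rw [List.drop_drop] at this
    exact this
  rw [step 160, step 120, step 80, step 40, List.drop_zero]
  exact (List.take_append_drop 40 l).symm

theorem chkPFO : ZLO.all pfRowO = true := by
  rw [split6 ZLO ZLO_len, List.all_append, List.all_append, List.all_append, List.all_append,
    List.all_append, chkPFO_A, chkPFO_B, chkPFO_C, chkPFO_D, chkPFO_E, chkPFO_F]
  rfl

theorem chkP3O : (R8.zip cTO).all (fun p => (R8.zip cTO).all (fun q =>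
    !(p.2 == q.2) || q.1 == p.1 || q.1 == p.1.map (fun a => -a))) = true := by
  decide +kernel

/-- Every root has `Q = 1`. -/
theorem chkQ1 : cTO.all (fun c => qp8 c == 1) = true := by decide +kernel

/-- The list of bits of a number. -/
def bits8 (n : ℕ) : List ℕ := (List.range 8).map (fun k => (n.testBit k).toNat)

/-- Every vector with `Q = 1` comes from a root. -/
theorem chkQ2 : (List.range 256).all (fun n => !(qp8 (bits8 n) == 1) || cTO.contains (bits8 n)) = true := by
  decide +kernel

theorem mem_zip_cO {r : List ℤ} (hr : r ∈ R8) : (r, cvecO r) ∈ R8.zip cTO := by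
  rw [← cTO_eq]; exact mem_zip_map cvecO hr

theorem mem_zip_bO {r : List ℤ} (hr : r ∈ R8) : (r, bvecO r) ∈ R8.zip bTO := by
  rw [← bTO_eq]; exact mem_zip_map bvecO hr

theorem mem_zip_cbO {r : List ℤ} (hr : r ∈ R8) : (r, cvecO r, bvecO r) ∈ ZLO := by
  unfold ZLO
  rw [← cTO_eq, ← bTO_eq, List.zip_map']
  exact mem_zip_map (fun a => (cvecO a, bvecO a)) hr

/-- Parseval identity, in compressed coordinates. -/
theorem pf_listO {r s : List ℤ} (hr : r ∈ R8) (hs : s ∈ R8) :
    bN8 r s = dot8N (cvecO r) (bvecO s) % 2 := by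
  have h0 := List.all_eq_true.1 chkPFO _ (mem_zip_cbO hr)
  unfold pfRowO at h0
  have h := List.all_eq_true.1 h0 _ (mem_zip_bO hs)
  exact chk1_spec h (bN8_lt _ _)

theorem p3_listO {r s : List ℤ} (hr : r ∈ R8) (hs : s ∈ R8) (h : cvecO r = cvecO s) :
    s = r ∨ s = r.map (fun a => -a) := by
  have h1 := List.all_eq_true.1 (List.all_eq_true.1 chkP3O _ (mem_zip_cO hr)) _ (mem_zip_cO hs)
  simp only [Bool.or_eq_true, Bool.not_eq_true', beq_eq_false_iff_ne, ne_eq, beq_iff_eq] at h1
  rcases h1 with (h1 | h1) | h1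
  · exact absurd h h1
  · exact Or.inl h1
  · exact Or.inr h1

theorem qp_listO {r : List ℤ} (hr : r ∈ R8) : qp8 (cvecO r) = 1 := by
  have hm : cvecO r ∈ cTO := by
    rw [← cTO_eq]; exact List.mem_map_of_mem hr
  have := List.all_eq_true.1 chkQ1 _ hm
  simpa using this

theorem exists_root_of_qp {n : ℕ} (hn : n < 256) (h : qp8 (bits8 n) = 1) :
    ∃ r ∈ R8, cvecO r = bits8 n := by
  have h1 := List.all_eq_true.1 chkQ2 n (List.mem_range.2 hn)
  rw [Bool.or_eq_true] at h1
  rcases h1 with h1 | h1
  · simp [h] at h1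
  · have h2 := List.contains_iff_mem.1 h1
    rw [← cTO_eq, List.mem_map] at h2
    obtain ⟨r, hr, e⟩ := h2
    exact ⟨r, hr, e⟩

end CentO

end Cfsg.Agent.Lib.H27
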