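/-
helper27 library: the homomorphism from the centralizer in `Stab(4,4,0^22)` of the sign change off the
base octad to `Sp_6(2)`, through the action on the roots of `E7` modulo 2.
-/
import Mathlib
import Cfsg.Agent.Lib.H27.CentSpForm
import Cfsg.Agent.Lib.H27.Co0Mod2

set_option autoImplicit false

namespace Cfsg.Agent.Lib.H27

open Cfsg Finset MulAction Cfsg.Agent.Lib.H28 Cfsg.Agent.Lib.H27.Eng

namespace CentSp

/-! ### From lists to lattice vectors -/

theorem len8_of_mem {a : List ℤ} (ha : a ∈ Phi8) : a.length = 8 := by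
  have := List.all_eq_true.1 Phi8_len a ha
  simpa using this

theorem expand_mem {a : List ℤ} (ha : a ∈ Phi8) : expand a ∈ PhiL := by
  rw [PhiL_eq]
  exact List.mem_map_of_mem ha

theorem expand_L {a : List ℤ} (ha : a ∈ Phi8) : toFn (expand a) ∈ leechLattice :=
  (PhiL_spec (expand_mem ha)).2.1

theorem exists_list8 {x : leechLattice} (hx : x ∈ PhiSet) :
    ∃ a ∈ Phi8, x = mkL (expand a) := by
  obtain ⟨r, hr, rfl⟩ := PhiSet_subset hx
  have hr' : r ∈ PhiL := hr
  rw [PhiL_eq, List.mem_map] at hr'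
  obtain ⟨a, ha, rfl⟩ := hr'
  exact ⟨a, ha, rfl⟩

theorem mkL_expand_mem {a : List ℤ} (ha : a ∈ Phi8) : mkL (expand a) ∈ PhiSet :=
  subset_PhiSet ⟨_, expand_mem ha, rfl⟩

theorem bZ_8 {a c : List ℤ} (ha : a ∈ Phi8) (hc : c ∈ Phi8) :
    bZ (mkL (expand a)) (mkL (expand c)) = (bN8 a c : ZMod 2) := by
  rw [bZ_mkL (expand_L ha) (expand_L hc), bN_expand (len8_of_mem ha) (len8_of_mem hc)]

theorem basis_mem8' {y : List ℤ}
    (hy : y ∈ [bb0, bb1, bb2, bb3, bb4, bb5, dd0, dd1, dd2, dd3, dd4, dd5]) : y ∈ Phi8 :=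
  List.contains_iff_mem.1 (List.all_eq_true.1 basis_mem8 y hy)

/-- The basis vectors. -/
noncomputable def Bv : Fin 3 ⊕ Fin 3 → leechLattice :=
  Sum.elim ![mkL (expand bb0), mkL (expand bb1), mkL (expand bb2)]
    ![mkL (expand bb3), mkL (expand bb4), mkL (expand bb5)]

/-- The dual basis vectors. -/
noncomputable def Dv : Fin 3 ⊕ Fin 3 → leechLattice :=
  Sum.elim ![mkL (expand dd0), mkL (expand dd1), mkL (expand dd2)]
    ![mkL (expand dd3), mkL (expand dd4), mkL (expand dd5)]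

theorem Bv_mem (j : Fin 3 ⊕ Fin 3) : Bv j ∈ PhiSet := by
  rcases j with j | j <;> fin_cases j <;> exact mkL_expand_mem (basis_mem8' (by simp))

theorem Dv_mem (j : Fin 3 ⊕ Fin 3) : Dv j ∈ PhiSet := by
  rcases j with j | j <;> fin_cases j <;> exact mkL_expand_mem (basis_mem8' (by simp))

/-- The coordinates `(x, d_j)`. -/
noncomputable def cvec (x : leechLattice) : Fin 3 ⊕ Fin 3 → ZMod 2 := fun k => bZ x (Dv k)

/-- The coordinates `(b_j, x)`. -/
noncomputable def bvec (x : leechLattice) : Fin 3 ⊕ Fin 3 → ZMod 2 := fun k => bZ (Bv k) x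

theorem cvec_8 {a : List ℤ} (ha : a ∈ Phi8) :
    cvec (mkL (expand a)) = Sum.elim ![(bN8 a dd0 : ZMod 2), (bN8 a dd1 : ZMod 2), (bN8 a dd2 : ZMod 2)]
      ![(bN8 a dd3 : ZMod 2), (bN8 a dd4 : ZMod 2), (bN8 a dd5 : ZMod 2)] := by
  funext k
  rcases k with k | k <;> fin_cases k <;>
    simp only [cvec, Dv, Sum.elim_inl, Sum.elim_inr, Fin.zero_eta, Fin.mk_one, Fin.reduceFinMk,
      Matrix.cons_val_zero, Matrix.cons_val_one, Matrix.cons_val_two, Matrix.cons_val] <;>
    exact bZ_8 ha (basis_mem8' (by simp))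

theorem bvec_8 {a : List ℤ} (ha : a ∈ Phi8) :
    bvec (mkL (expand a)) = Sum.elim ![(bN8 bb0 a : ZMod 2), (bN8 bb1 a : ZMod 2), (bN8 bb2 a : ZMod 2)]
      ![(bN8 bb3 a : ZMod 2), (bN8 bb4 a : ZMod 2), (bN8 bb5 a : ZMod 2)] := by
  funext k
  rcases k with k | k <;> fin_cases k <;>
    simp only [bvec, Bv, Sum.elim_inl, Sum.elim_inr, Fin.zero_eta, Fin.mk_one, Fin.reduceFinMk,
      Matrix.cons_val_zero, Matrix.cons_val_one, Matrix.cons_val_two, Matrix.cons_val] <;>
    exact bZ_8 (basis_mem8' (by simp)) ha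

theorem sum6 (f : Fin 3 ⊕ Fin 3 → ZMod 2) :
    ∑ j, f j = f (Sum.inl 0) + f (Sum.inl 1) + f (Sum.inl 2) + f (Sum.inr 0) + f (Sum.inr 1) + f (Sum.inr 2) := by
  rw [Fintype.sum_sum_type, Fin.sum_univ_three, Fin.sum_univ_three]
  ring

/-- Parseval identity on the roots. -/
theorem parseval {x s : leechLattice} (hx : x ∈ PhiSet) (hs : s ∈ PhiSet) :
    bZ x s = ∑ j, cvec x j * bvec s j := by
  obtain ⟨a, ha, rfl⟩ := exists_list8 hx
  obtain ⟨c, hc, rfl⟩ := exists_list8 hs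
  rw [sum6, cvec_8 ha, bvec_8 hc, bZ_8 ha hc, (pf_list ha hc).1]
  simp only [Sum.elim_inl, Sum.elim_inr, Matrix.cons_val_zero, Matrix.cons_val_one,
    Matrix.cons_val_two, Matrix.head_cons, Matrix.tail_cons, cvec8, bvec8, dot6]
  rw [ZMod.natCast_mod]
  push_cast
  ring

/-- The form in terms of the coordinates `(b_j, x)`. -/
theorem form_eq {s s' : leechLattice} (hs : s ∈ PhiSet) (hs' : s' ∈ PhiSet) :
    bZ s s' = ∑ i : Fin 3, (bvec s (Sum.inl i) * bvec s' (Sum.inr i)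
      + bvec s (Sum.inr i) * bvec s' (Sum.inl i)) := by
  obtain ⟨a, ha, rfl⟩ := exists_list8 hs
  obtain ⟨c, hc, rfl⟩ := exists_list8 hs'
  rw [Fin.sum_univ_three, bvec_8 ha, bvec_8 hc, bZ_8 ha hc, (pf_list ha hc).2]
  simp only [Sum.elim_inl, Sum.elim_inr, Matrix.cons_val_zero, Matrix.cons_val_one,
    Matrix.cons_val_two, Matrix.head_cons, Matrix.tail_cons, bvec8, form6]
  rw [ZMod.natCast_mod]
  push_cast
  ring

theorem toFn_map_neg (l : V) : toFn (l.map (fun a => -a)) = -toFn l := by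
  funext p
  unfold toFn
  rw [Pi.neg_apply, nth_eq_getD, nth_eq_getD]
  have := List.getD_map (fun a : ℤ => -a) (l := l) (n := gIdx p) (d := 0)
  rw [neg_zero] at this
  exact this

theorem mkL_map_neg {l : V} (hl : toFn l ∈ leechLattice) :
    mkL (l.map (fun a => -a)) = -mkL l := by
  have h2 : toFn (l.map (fun a => -a)) ∈ leechLattice := by
    rw [toFn_map_neg]; exact leechLattice.neg_mem hl
  apply Subtype.ext
  rw [mkL_val h2, AddSubgroup.coe_neg, mkL_val hl, toFn_map_neg]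

theorem natCast_zmod2_inj {m n : ℕ} (hm : m < 2) (hn : n < 2) (h : (m : ZMod 2) = (n : ZMod 2)) :
    m = n := by
  rw [ZMod.natCast_eq_natCast_iff'] at h
  omega

/-- Roots with the same coordinates are equal or opposite. -/
theorem pm_of_cvec {x s : leechLattice} (hx : x ∈ PhiSet) (hs : s ∈ PhiSet) (h : cvec x = cvec s) :
    s = x ∨ s = -x := by
  obtain ⟨a, ha, rfl⟩ := exists_list8 hx
  obtain ⟨c, hc, rfl⟩ := exists_list8 hs
  rw [cvec_8 ha, cvec_8 hc] at h
  have h0 := congrFun h (Sum.inl 0)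
  have h1 := congrFun h (Sum.inl 1)
  have h2 := congrFun h (Sum.inl 2)
  have h3 := congrFun h (Sum.inr 0)
  have h4 := congrFun h (Sum.inr 1)
  have h5 := congrFun h (Sum.inr 2)
  simp only [Sum.elim_inl, Sum.elim_inr, Matrix.cons_val_zero, Matrix.cons_val_one,
    Matrix.cons_val_two, Matrix.head_cons, Matrix.tail_cons] at h0 h1 h2 h3 h4 h5
  have e : cvec8 a = cvec8 c := by
    unfold cvec8
    rw [natCast_zmod2_inj (bN8_lt _ _) (bN8_lt _ _) h0, natCast_zmod2_inj (bN8_lt _ _) (bN8_lt _ _) h1,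
      natCast_zmod2_inj (bN8_lt _ _) (bN8_lt _ _) h2, natCast_zmod2_inj (bN8_lt _ _) (bN8_lt _ _) h3,
      natCast_zmod2_inj (bN8_lt _ _) (bN8_lt _ _) h4, natCast_zmod2_inj (bN8_lt _ _) (bN8_lt _ _) h5]
  rcases p3_list ha hc e with rfl | rfl
  · exact Or.inl rfl
  · right
    rw [expand_neg (len8_of_mem ha), mkL_map_neg (expand_L ha)]

theorem cvec_Bv (j k : Fin 3 ⊕ Fin 3) : cvec (Bv j) k = if j = k then 1 else 0 := by
  rcases j with j | j <;> rcases k with k | k <;> fin_cases j <;> fin_cases k <;>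
  · simp only [cvec, Bv, Dv, Sum.elim_inl, Sum.elim_inr, Fin.zero_eta, Fin.mk_one, Fin.reduceFinMk,
      Matrix.cons_val_zero, Matrix.cons_val_one, Matrix.cons_val_two, Matrix.head_cons,
      Matrix.tail_cons]
    rw [bZ_8 (basis_mem8' (by simp)) (basis_mem8' (by simp))]
    decide +kernel

/-- The standard alternating matrix, by entries. -/
def Jtab : Fin 3 ⊕ Fin 3 → Fin 3 ⊕ Fin 3 → ZMod 2
  | Sum.inl i, Sum.inr j => if i = j then 1 else 0
  | Sum.inr i, Sum.inl j => if i = j then 1 else 0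
  | _, _ => 0

theorem J_eq (k l : Fin 3 ⊕ Fin 3) : Matrix.J (Fin 3) (ZMod 2) k l = Jtab k l := by
  have hneg : (-1 : ZMod 2) = 1 := by decide
  rcases k with k | k <;> rcases l with l | l <;>
    simp [Matrix.J, Jtab, Matrix.fromBlocks, Matrix.one_apply, Matrix.neg_apply, hneg]

theorem bZ_Dv (k l : Fin 3 ⊕ Fin 3) : bZ (Dv k) (Dv l) = Jtab k l := by
  rcases k with k | k <;> rcases l with l | l <;> fin_cases k <;> fin_cases l <;>
  · simp only [Dv, Sum.elim_inl, Sum.elim_inr, Fin.zero_eta, Fin.mk_one, Fin.reduceFinMk,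
      Matrix.cons_val_zero, Matrix.cons_val_one, Matrix.cons_val_two, Matrix.head_cons,
      Matrix.tail_cons]
    rw [bZ_8 (basis_mem8' (by simp)) (basis_mem8' (by simp))]
    decide +kernel

/-! ### The group -/

/-- Membership in the centralizer of `tCo0` inside the stabilizer of `(4, 4, 0^22)`. -/
def InCC (g : Co0) : Prop := g • Spor.leechU = Spor.leechU ∧ g * tCo0 = tCo0 * g

theorem InCC.one : InCC 1 := ⟨one_smul _ _, by rw [one_mul, mul_one]⟩

theorem InCC.mul {g h : Co0} (hg : InCC g) (hh : InCC h) : InCC (g * h) := by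
  refine ⟨by rw [mul_smul, hh.1, hg.1], ?_⟩
  rw [mul_assoc, hh.2, ← mul_assoc, hg.2, mul_assoc]

theorem InCC.inv {g : Co0} (hg : InCC g) : InCC g⁻¹ := by
  refine ⟨?_, ?_⟩
  · conv_lhs => rw [← hg.1]
    rw [inv_smul_smul]
  · have := hg.2
    calc g⁻¹ * tCo0 = g⁻¹ * (tCo0 * g) * g⁻¹ := by group
      _ = g⁻¹ * (g * tCo0) * g⁻¹ := by rw [this]
      _ = tCo0 * g⁻¹ := by group

theorem bZ_smul (g : Co0) (x y : leechLattice) : bZ (g • x) (g • y) = bZ x y := by
  unfold bZ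
  rw [Co0_dot]

theorem bZ_smul_left (g : Co0) (x y : leechLattice) : bZ (g • x) y = bZ x (g⁻¹ • y) := by
  conv_lhs => rw [← smul_inv_smul g y]
  rw [bZ_smul]

theorem smul_mem_PhiSet {g : Co0} (hg : InCC g) {x : leechLattice} (hx : x ∈ PhiSet) :
    g • x ∈ PhiSet := by
  obtain ⟨h1, h2, h3⟩ := hx
  refine ⟨?_, ?_, ?_⟩
  · rw [Co0_sqNorm]; exact h1
  · rw [← mul_smul, ← hg.2, mul_smul, h2]
  · have := Co0_dot g x Spor.leechU
    rw [hg.1] at this
    rw [this]; exact h3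

/-- The matrix of an element on the coordinates modulo 2. -/
noncomputable def Mat (g : Co0) : Matrix (Fin 3 ⊕ Fin 3) (Fin 3 ⊕ Fin 3) (ZMod 2) :=
  fun k j => cvec (g • Bv j) k

theorem bvec_inv_smul (g : Co0) (k j : Fin 3 ⊕ Fin 3) : bvec (g⁻¹ • Dv k) j = Mat g k j := by
  unfold bvec Mat cvec
  rw [bZ_smul_left]

/-- The coordinates of the image of a root. -/
theorem cvec_smul {g : Co0} (hg : InCC g) {x : leechLattice} (hx : x ∈ PhiSet) :
    cvec (g • x) = (Mat g).mulVec (cvec x) := by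
  funext k
  have h1 : cvec (g • x) k = bZ x (g⁻¹ • Dv k) := bZ_smul_left g x (Dv k)
  rw [h1, parseval hx (smul_mem_PhiSet hg.inv (Dv_mem k))]
  unfold Matrix.mulVec dotProduct
  apply Finset.sum_congr rfl
  intro j _
  rw [bvec_inv_smul, mul_comm]

theorem Mat_mul {g h : Co0} (hg : InCC g) (hh : InCC h) : Mat (g * h) = Mat g * Mat h := by
  ext k j
  have h1 : Mat (g * h) k j = cvec (g • (h • Bv j)) k := by
    unfold Mat; rw [mul_smul]
  rw [h1, cvec_smul hg (smul_mem_PhiSet hh (Bv_mem j)), Matrix.mul_apply]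
  rfl

theorem Mat_one : Mat 1 = 1 := by
  ext k j
  unfold Mat
  rw [one_smul, cvec_Bv, Matrix.one_apply]
  by_cases h : j = k
  · rw [if_pos h, if_pos h.symm]
  · rw [if_neg h, if_neg (fun e => h e.symm)]

theorem sumJ (f g : Fin 3 ⊕ Fin 3 → ZMod 2) :
    ∑ j, (∑ i, f i * Jtab i j) * g j
      = ∑ i : Fin 3, (f (Sum.inl i) * g (Sum.inr i) + f (Sum.inr i) * g (Sum.inl i)) := by
  simp only [sum6, Fin.sum_univ_three, Jtab]
  simp
  ring

theorem Mat_symp {g : Co0} (hg : InCC g) :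
    Mat g * Matrix.J (Fin 3) (ZMod 2) * (Mat g).transpose = Matrix.J (Fin 3) (ZMod 2) := by
  ext k l
  rw [Matrix.mul_apply, J_eq]
  have h1 : ∀ j, (Mat g * Matrix.J (Fin 3) (ZMod 2)) k j * (Mat g).transpose j l
      = (∑ i, bvec (g⁻¹ • Dv k) i * Jtab i j) * bvec (g⁻¹ • Dv l) j := by
    intro j
    rw [Matrix.mul_apply, Matrix.transpose_apply, bvec_inv_smul]
    congr 1
    apply Finset.sum_congr rfl
    intro i _
    rw [J_eq, bvec_inv_smul]
  rw [Finset.sum_congr rfl (fun j _ => h1 j), sumJ,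
    ← form_eq (smul_mem_PhiSet hg.inv (Dv_mem k)) (smul_mem_PhiSet hg.inv (Dv_mem l)),
    bZ_smul, bZ_Dv]

/-- The stabilizer of `(4, 4, 0^22)`. -/
abbrev S2 : Subgroup Co0 := stabilizer Co0 Spor.leechU

theorem tCo0_smul_U : tCo0 • Spor.leechU = Spor.leechU := by
  rw [t_fix_iff]
  intro k hk
  show Spor.vecU k = 0
  revert k
  decide +kernel

/-- The sign change as an element of the stabilizer. -/
def t0 : ↥S2 := ⟨tCo0, mem_stabilizer_iff.2 tCo0_smul_U⟩

/-- The centralizer of the sign change in the stabilizer. -/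
abbrev CC : Subgroup ↥S2 := Subgroup.centralizer {t0}

theorem inCC_of_mem (a : ↥CC) : InCC (a.1.1) := by
  refine ⟨mem_stabilizer_iff.1 a.1.2, ?_⟩
  have h := Subgroup.mem_centralizer_singleton_iff.1 a.2
  have := congrArg (fun x : ↥S2 => (x : Co0)) h
  exact this

/-- The homomorphism to the symplectic group. -/
noncomputable def spHom : ↥CC →* Matrix.symplecticGroup (Fin 3) (ZMod 2) where
  toFun a := ⟨Mat a.1.1, SymplecticGroup.mem_iff.2 (Mat_symp (inCC_of_mem a))⟩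
  map_one' := Subtype.ext Mat_one
  map_mul' a b := Subtype.ext (Mat_mul (inCC_of_mem a) (inCC_of_mem b))

theorem spHom_val (a : ↥CC) : (spHom a).1 = Mat a.1.1 := rfl

end CentSp

end Cfsg.Agent.Lib.H27
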