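/-
helper27 library: the action of the centralizer in `Co0` of the sign change off the base octad on the
roots of `E8` modulo 2: the matrices `oMat g` and the quadratic form they preserve.
-/
import Mathlib
import Cfsg.Agent.Lib.H27.CentOForm
import Cfsg.Agent.Lib.H27.CentSpHom

set_option autoImplicit false

namespace Cfsg.Agent.Lib.H27

open Cfsg Finset MulAction Cfsg.Agent.Lib.H28 Cfsg.Agent.Lib.H27.Eng

namespace CentO

open CentSp

/-! ### From lists to lattice vectors -/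

theorem len8_of_memO {a : List ℤ} (ha : a ∈ R8) : a.length = 8 := by
  have := List.all_eq_true.1 R8_len a ha
  simpa using this

theorem expand_memO {a : List ℤ} (ha : a ∈ R8) : expand a ∈ RL :=
  List.mem_map_of_mem ha

theorem expand_LO {a : List ℤ} (ha : a ∈ R8) : toFn (expand a) ∈ leechLattice :=
  (RL_spec (expand_memO ha)).2.1

theorem exists_list8O {x : leechLattice} (hx : x ∈ RSet) :
    ∃ a ∈ R8, x = mkL (expand a) := by
  obtain ⟨r, hr, rfl⟩ := RSet_subset hx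
  have hr' : r ∈ RL := hr
  unfold RL at hr'
  rw [List.mem_map] at hr'
  obtain ⟨a, ha, rfl⟩ := hr'
  exact ⟨a, ha, rfl⟩

theorem mkL_expand_memO {a : List ℤ} (ha : a ∈ R8) : mkL (expand a) ∈ RSet :=
  subset_RSet ⟨_, expand_memO ha, rfl⟩

theorem bZ_8O {a c : List ℤ} (ha : a ∈ R8) (hc : c ∈ R8) :
    bZ (mkL (expand a)) (mkL (expand c)) = (bN8 a c : ZMod 2) := by
  rw [bZ_mkL (expand_LO ha) (expand_LO hc), bN_expand (len8_of_memO ha) (len8_of_memO hc)]

theorem obasis_mem8' {y : List ℤ}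
    (hy : y ∈ [ob0, ob1, ob2, ob3, ob4, ob5, ob6, ob7, od0, od1, od2, od3, od4, od5, od6, od7]) :
    y ∈ R8 :=
  List.contains_iff_mem.1 (List.all_eq_true.1 obasis_mem8 y hy)

theorem forall_eight {P : Fin 4 ⊕ Fin 4 → Prop} (h0 : P (Sum.inl 0)) (h1 : P (Sum.inl 1))
    (h2 : P (Sum.inl 2)) (h3 : P (Sum.inl 3)) (h4 : P (Sum.inr 0)) (h5 : P (Sum.inr 1))
    (h6 : P (Sum.inr 2)) (h7 : P (Sum.inr 3)) : ∀ j, P j := by
  intro j
  rcases j with j | j <;> fin_cases j
  · exact h0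
  · exact h1
  · exact h2
  · exact h3
  · exact h4
  · exact h5
  · exact h6
  · exact h7

/-- The basis vectors. -/
noncomputable def OBv : Fin 4 ⊕ Fin 4 → leechLattice :=
  Sum.elim ![mkL (expand ob0), mkL (expand ob1), mkL (expand ob2), mkL (expand ob3)]
    ![mkL (expand ob4), mkL (expand ob5), mkL (expand ob6), mkL (expand ob7)]

/-- The dual basis vectors. -/
noncomputable def ODv : Fin 4 ⊕ Fin 4 → leechLattice :=
  Sum.elim ![mkL (expand od0), mkL (expand od1), mkL (expand od2), mkL (expand od3)]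
    ![mkL (expand od4), mkL (expand od5), mkL (expand od6), mkL (expand od7)]

theorem OBv_mem (j : Fin 4 ⊕ Fin 4) : OBv j ∈ RSet := by
  revert j
  apply forall_eight <;> exact mkL_expand_memO (obasis_mem8' (by simp))

theorem ODv_mem (j : Fin 4 ⊕ Fin 4) : ODv j ∈ RSet := by
  revert j
  apply forall_eight <;> exact mkL_expand_memO (obasis_mem8' (by simp))

/-- The coordinates `(x, d_j)`. -/
noncomputable def ocvec (x : leechLattice) : Fin 4 ⊕ Fin 4 → ZMod 2 := fun k => bZ x (ODv k)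

/-- The coordinates `(b_j, x)`. -/
noncomputable def obvec (x : leechLattice) : Fin 4 ⊕ Fin 4 → ZMod 2 := fun k => bZ (OBv k) x

theorem ocvec_8 {a : List ℤ} (ha : a ∈ R8) :
    ocvec (mkL (expand a)) = Sum.elim
      ![(bN8 a od0 : ZMod 2), (bN8 a od1 : ZMod 2), (bN8 a od2 : ZMod 2), (bN8 a od3 : ZMod 2)]
      ![(bN8 a od4 : ZMod 2), (bN8 a od5 : ZMod 2), (bN8 a od6 : ZMod 2), (bN8 a od7 : ZMod 2)] := by
  funext k
  revert k
  apply forall_eight
  · exact bZ_8O ha (obasis_mem8' (by simp))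
  · exact bZ_8O ha (obasis_mem8' (by simp))
  · exact bZ_8O ha (obasis_mem8' (by simp))
  · exact bZ_8O ha (obasis_mem8' (by simp))
  · exact bZ_8O ha (obasis_mem8' (by simp))
  · exact bZ_8O ha (obasis_mem8' (by simp))
  · exact bZ_8O ha (obasis_mem8' (by simp))
  · exact bZ_8O ha (obasis_mem8' (by simp))

theorem obvec_8 {a : List ℤ} (ha : a ∈ R8) :
    obvec (mkL (expand a)) = Sum.elim
      ![(bN8 ob0 a : ZMod 2), (bN8 ob1 a : ZMod 2), (bN8 ob2 a : ZMod 2), (bN8 ob3 a : ZMod 2)]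
      ![(bN8 ob4 a : ZMod 2), (bN8 ob5 a : ZMod 2), (bN8 ob6 a : ZMod 2), (bN8 ob7 a : ZMod 2)] := by
  funext k
  revert k
  apply forall_eight
  · exact bZ_8O (obasis_mem8' (by simp)) ha
  · exact bZ_8O (obasis_mem8' (by simp)) ha
  · exact bZ_8O (obasis_mem8' (by simp)) ha
  · exact bZ_8O (obasis_mem8' (by simp)) ha
  · exact bZ_8O (obasis_mem8' (by simp)) ha
  · exact bZ_8O (obasis_mem8' (by simp)) ha
  · exact bZ_8O (obasis_mem8' (by simp)) ha
  · exact bZ_8O (obasis_mem8' (by simp)) ha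

theorem sum8 (f : Fin 4 ⊕ Fin 4 → ZMod 2) :
    ∑ j, f j = f (Sum.inl 0) + f (Sum.inl 1) + f (Sum.inl 2) + f (Sum.inl 3) + f (Sum.inr 0)
      + f (Sum.inr 1) + f (Sum.inr 2) + f (Sum.inr 3) := by
  rw [Fintype.sum_sum_type, Fin.sum_univ_four, Fin.sum_univ_four]
  ring

/-- Parseval identity on the roots. -/
theorem parsevalO {x s : leechLattice} (hx : x ∈ RSet) (hs : s ∈ RSet) :
    bZ x s = ∑ j, ocvec x j * obvec s j := by
  obtain ⟨a, ha, rfl⟩ := exists_list8O hx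
  obtain ⟨c, hc, rfl⟩ := exists_list8O hs
  rw [sum8, ocvec_8 ha, obvec_8 hc, bZ_8O ha hc, pf_listO ha hc]
  simp only [Sum.elim_inl, Sum.elim_inr, Matrix.cons_val_zero, Matrix.cons_val_one,
    Matrix.cons_val_two, Matrix.cons_val_three, Matrix.head_cons, Matrix.tail_cons, cvecO, bvecO,
    dot8N]
  rw [ZMod.natCast_mod]
  push_cast
  ring

/-- Roots with the same coordinates are equal or opposite. -/
theorem pm_of_ocvec {x s : leechLattice} (hx : x ∈ RSet) (hs : s ∈ RSet) (h : ocvec x = ocvec s) :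
    s = x ∨ s = -x := by
  obtain ⟨a, ha, rfl⟩ := exists_list8O hx
  obtain ⟨c, hc, rfl⟩ := exists_list8O hs
  rw [ocvec_8 ha, ocvec_8 hc] at h
  have h0 := congrFun h (Sum.inl 0)
  have h1 := congrFun h (Sum.inl 1)
  have h2 := congrFun h (Sum.inl 2)
  have h3 := congrFun h (Sum.inl 3)
  have h4 := congrFun h (Sum.inr 0)
  have h5 := congrFun h (Sum.inr 1)
  have h6 := congrFun h (Sum.inr 2)
  have h7 := congrFun h (Sum.inr 3)
  simp only [Sum.elim_inl, Sum.elim_inr, Matrix.cons_val_zero, Matrix.cons_val_one,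
    Matrix.cons_val_two, Matrix.cons_val_three, Matrix.head_cons, Matrix.tail_cons]
    at h0 h1 h2 h3 h4 h5 h6 h7
  have e : cvecO a = cvecO c := by
    unfold cvecO
    rw [natCast_zmod2_inj (bN8_lt _ _) (bN8_lt _ _) h0, natCast_zmod2_inj (bN8_lt _ _) (bN8_lt _ _) h1,
      natCast_zmod2_inj (bN8_lt _ _) (bN8_lt _ _) h2, natCast_zmod2_inj (bN8_lt _ _) (bN8_lt _ _) h3,
      natCast_zmod2_inj (bN8_lt _ _) (bN8_lt _ _) h4, natCast_zmod2_inj (bN8_lt _ _) (bN8_lt _ _) h5,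
      natCast_zmod2_inj (bN8_lt _ _) (bN8_lt _ _) h6, natCast_zmod2_inj (bN8_lt _ _) (bN8_lt _ _) h7]
  rcases p3_listO ha hc e with rfl | rfl
  · exact Or.inl rfl
  · right
    rw [expand_neg (len8_of_memO ha), mkL_map_neg (expand_LO ha)]

theorem ocvec_OBv (j k : Fin 4 ⊕ Fin 4) : ocvec (OBv j) k = if j = k then 1 else 0 := by
  revert k
  revert j
  apply forall_eight <;> apply forall_eight <;>
  · show bZ (mkL (expand _)) (mkL (expand _)) = _
    rw [bZ_8O (obasis_mem8' (by simp)) (obasis_mem8' (by simp))]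
    decide +kernel

/-! ### The group -/

/-- Membership in the centralizer of `tCo0`. -/
def InC0 (g : Co0) : Prop := g * tCo0 = tCo0 * g

theorem InC0.one : InC0 1 := by unfold InC0; rw [one_mul, mul_one]

theorem InC0.mul {g h : Co0} (hg : InC0 g) (hh : InC0 h) : InC0 (g * h) := by
  unfold InC0 at *
  rw [mul_assoc, hh, ← mul_assoc, hg, mul_assoc]

theorem InC0.inv {g : Co0} (hg : InC0 g) : InC0 g⁻¹ := by
  unfold InC0 at *
  calc g⁻¹ * tCo0 = g⁻¹ * (tCo0 * g) * g⁻¹ := by group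
    _ = g⁻¹ * (g * tCo0) * g⁻¹ := by rw [hg]
    _ = tCo0 * g⁻¹ := by group

theorem smul_mem_RSet {g : Co0} (hg : InC0 g) {x : leechLattice} (hx : x ∈ RSet) :
    g • x ∈ RSet := by
  obtain ⟨h1, h2⟩ := hx
  refine ⟨?_, ?_⟩
  · rw [Co0_sqNorm]; exact h1
  · rw [← mul_smul, ← hg, mul_smul, h2]

/-- The matrix of an element on the coordinates modulo 2. -/
noncomputable def oMat (g : Co0) : Matrix (Fin 4 ⊕ Fin 4) (Fin 4 ⊕ Fin 4) (ZMod 2) :=
  fun k j => ocvec (g • OBv j) k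

theorem obvec_inv_smul (g : Co0) (k j : Fin 4 ⊕ Fin 4) : obvec (g⁻¹ • ODv k) j = oMat g k j := by
  unfold obvec oMat ocvec
  rw [bZ_smul_left]

/-- The coordinates of the image of a root. -/
theorem ocvec_smul {g : Co0} (hg : InC0 g) {x : leechLattice} (hx : x ∈ RSet) :
    ocvec (g • x) = (oMat g).mulVec (ocvec x) := by
  funext k
  have h1 : ocvec (g • x) k = bZ x (g⁻¹ • ODv k) := bZ_smul_left g x (ODv k)
  rw [h1, parsevalO hx (smul_mem_RSet hg.inv (ODv_mem k))]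
  unfold Matrix.mulVec dotProduct
  apply Finset.sum_congr rfl
  intro j _
  rw [obvec_inv_smul, mul_comm]

theorem oMat_mul {g h : Co0} (hg : InC0 g) (hh : InC0 h) : oMat (g * h) = oMat g * oMat h := by
  ext k j
  have h1 : oMat (g * h) k j = ocvec (g • (h • OBv j)) k := by
    unfold oMat; rw [mul_smul]
  rw [h1, ocvec_smul hg (smul_mem_RSet hh (OBv_mem j)), Matrix.mul_apply]
  rfl

theorem oMat_one : oMat 1 = 1 := by
  ext k j
  unfold oMat
  rw [one_smul, ocvec_OBv, Matrix.one_apply]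
  by_cases h : j = k
  · rw [if_pos h, if_pos h.symm]
  · rw [if_neg h, if_neg (fun e => h e.symm)]

theorem oMat_inv_mul {g : Co0} (hg : InC0 g) : oMat g⁻¹ * oMat g = 1 := by
  rw [← oMat_mul hg.inv hg, inv_mul_cancel, oMat_one]

theorem oMat_mul_inv {g : Co0} (hg : InC0 g) : oMat g * oMat g⁻¹ = 1 := by
  rw [← oMat_mul hg hg.inv, mul_inv_cancel, oMat_one]

/-! ### The quadratic form -/

/-- The quadratic form in the root coordinates: a sum of four anisotropic planes. -/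
def Qp (v : Fin 4 ⊕ Fin 4 → ZMod 2) : ZMod 2 :=
  ∑ i : Fin 4, (v (Sum.inl i) + v (Sum.inr i) + v (Sum.inl i) * v (Sum.inr i))

theorem Qp_elim (c0 c1 c2 c3 c4 c5 c6 c7 : ℕ) :
    Qp (Sum.elim ![(c0 : ZMod 2), (c1 : ZMod 2), (c2 : ZMod 2), (c3 : ZMod 2)]
      ![(c4 : ZMod 2), (c5 : ZMod 2), (c6 : ZMod 2), (c7 : ZMod 2)])
      = ((qp8 [c0, c1, c2, c3, c4, c5, c6, c7] : ℕ) : ZMod 2) := by
  unfold Qp qp8
  rw [Fin.sum_univ_four]
  simp only [Sum.elim_inl, Sum.elim_inr, Matrix.cons_val_zero, Matrix.cons_val_one,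
    Matrix.cons_val_two, Matrix.cons_val_three, Matrix.head_cons, Matrix.tail_cons]
  rw [ZMod.natCast_mod]
  push_cast
  ring

theorem Qp_ocvec {x : leechLattice} (hx : x ∈ RSet) : Qp (ocvec x) = 1 := by
  obtain ⟨a, ha, rfl⟩ := exists_list8O hx
  rw [ocvec_8 ha, Qp_elim]
  have := qp_listO ha
  unfold cvecO at this
  rw [this]
  rfl

/-- Encoding of the index type. -/
def enc8 : Fin 4 ⊕ Fin 4 → ℕ
  | Sum.inl i => i.val
  | Sum.inr i => i.val + 4

/-- The vector with a given bit pattern. -/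
def vecOf8 (n : ℕ) : Fin 4 ⊕ Fin 4 → ZMod 2 := fun k => if n.testBit (enc8 k) then 1 else 0

theorem exists_vecOf8 (w : Fin 4 ⊕ Fin 4 → ZMod 2) : ∃ n < 256, w = vecOf8 n := by
  have key : ∀ a0 a1 a2 a3 a4 a5 a6 a7 : ZMod 2,
      a0.val + 2 * a1.val + 4 * a2.val + 8 * a3.val + 16 * a4.val + 32 * a5.val + 64 * a6.val
        + 128 * a7.val < 256 ∧
      (∀ k, ![a0, a1, a2, a3, a4, a5, a6, a7] k =
        (if (a0.val + 2 * a1.val + 4 * a2.val + 8 * a3.val + 16 * a4.val + 32 * a5.val + 64 * a6.val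
          + 128 * a7.val).testBit k.val then 1 else 0)) := by
    decide +kernel
  obtain ⟨hn, h⟩ := key (w (Sum.inl 0)) (w (Sum.inl 1)) (w (Sum.inl 2)) (w (Sum.inl 3))
    (w (Sum.inr 0)) (w (Sum.inr 1)) (w (Sum.inr 2)) (w (Sum.inr 3))
  refine ⟨_, hn, ?_⟩
  funext k
  revert k
  apply forall_eight
  · exact h 0
  · exact h 1
  · exact h 2
  · exact h 3
  · exact h 4
  · exact h 5
  · exact h 6
  · exact h 7

theorem Qp_vecOf8 : ∀ n < 256, Qp (vecOf8 n) = ((qp8 (bits8 n) : ℕ) : ZMod 2) := by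
  decide +kernel

theorem toNat_cast' (b : Bool) : ((b.toNat : ℕ) : ZMod 2) = if b then 1 else 0 := by
  cases b <;> rfl

theorem qp8_lt (l : List ℕ) : qp8 l < 2 := by
  unfold qp8
  split
  · exact Nat.mod_lt _ (by norm_num)
  · norm_num

/-- Every vector with `Q = 1` is the coordinate vector of a root. -/
theorem exists_root {v : Fin 4 ⊕ Fin 4 → ZMod 2} (hv : Qp v = 1) :
    ∃ x ∈ RSet, ocvec x = v := by
  obtain ⟨n, hn, rfl⟩ := exists_vecOf8 v
  rw [Qp_vecOf8 n hn] at hv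
  have hq : qp8 (bits8 n) = 1 := by
    have h2 := qp8_lt (bits8 n)
    interval_cases h : qp8 (bits8 n)
    · simp at hv
    · rfl
  obtain ⟨r, hr, e⟩ := exists_root_of_qp hn hq
  refine ⟨mkL (expand r), mkL_expand_memO hr, ?_⟩
  rw [ocvec_8 hr]
  have hb : bits8 n = [(n.testBit 0).toNat, (n.testBit 1).toNat, (n.testBit 2).toNat,
      (n.testBit 3).toNat, (n.testBit 4).toNat, (n.testBit 5).toNat, (n.testBit 6).toNat,
      (n.testBit 7).toNat] := rfl
  rw [hb] at e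
  unfold cvecO at e
  simp only [List.cons.injEq, and_true] at e
  obtain ⟨e0, e1, e2, e3, e4, e5, e6, e7⟩ := e
  funext k
  revert k
  apply forall_eight
  · show ((bN8 r od0 : ℕ) : ZMod 2) = _
    rw [e0, toNat_cast']; rfl
  · show ((bN8 r od1 : ℕ) : ZMod 2) = _
    rw [e1, toNat_cast']; rfl
  · show ((bN8 r od2 : ℕ) : ZMod 2) = _
    rw [e2, toNat_cast']; rfl
  · show ((bN8 r od3 : ℕ) : ZMod 2) = _
    rw [e3, toNat_cast']; rfl
  · show ((bN8 r od4 : ℕ) : ZMod 2) = _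
    rw [e4, toNat_cast']; rfl
  · show ((bN8 r od5 : ℕ) : ZMod 2) = _
    rw [e5, toNat_cast']; rfl
  · show ((bN8 r od6 : ℕ) : ZMod 2) = _
    rw [e6, toNat_cast']; rfl
  · show ((bN8 r od7 : ℕ) : ZMod 2) = _
    rw [e7, toNat_cast']; rfl

theorem zmod2_cases' (c : ZMod 2) : c = 0 ∨ c = 1 := by
  revert c; decide

theorem Qp_oMat_one {h : Co0} (hh : InC0 h) {v : Fin 4 ⊕ Fin 4 → ZMod 2} (hv : Qp v = 1) :
    Qp ((oMat h).mulVec v) = 1 := by
  obtain ⟨x, hx, rfl⟩ := exists_root hv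
  rw [← ocvec_smul hh hx]
  exact Qp_ocvec (smul_mem_RSet hh hx)

/-- The matrices preserve the quadratic form. -/
theorem Qp_oMat {g : Co0} (hg : InC0 g) (v : Fin 4 ⊕ Fin 4 → ZMod 2) :
    Qp ((oMat g).mulVec v) = Qp v := by
  rcases zmod2_cases' (Qp v) with h0 | h1
  · rcases zmod2_cases' (Qp ((oMat g).mulVec v)) with h0' | h1'
    · rw [h0, h0']
    · exfalso
      have := Qp_oMat_one hg.inv h1'
      rw [Matrix.mulVec_mulVec, oMat_inv_mul hg, Matrix.one_mulVec, h0] at this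
      exact zero_ne_one this
  · rw [h1]
    exact Qp_oMat_one hg h1

end CentO

end Cfsg.Agent.Lib.H27
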