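/-
helper27 library: the homomorphism from the centralizer in `Co0` of the sign change off the base octad
to the isometry group of the hyperbolic quadratic form in dimension 8 over the field with two elements.
-/
import Mathlib
import Cfsg.Prelude.Def_Classical
import Cfsg.Agent.Lib.H27.CentOHom

set_option autoImplicit false

namespace Cfsg.Agent.Lib.H27

open Cfsg Finset MulAction Cfsg.Agent.Lib.H28 Cfsg.Agent.Lib.H27.Eng

namespace CentO

open CentSp

/-- The change of coordinates from the root basis to a hyperbolic basis. -/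
def ppTab : List (List ℕ) := [[1, 0, 0, 0, 0, 1, 0, 0], [1, 1, 0, 0, 1, 1, 0, 0], [0, 0, 1, 0, 0, 0, 0, 1], [0, 0, 1, 1, 0, 0, 1, 1], [0, 0, 0, 0, 1, 1, 0, 0], [1, 1, 0, 0, 1, 0, 0, 0], [0, 0, 0, 0, 0, 0, 1, 1], [0, 0, 1, 1, 0, 0, 1, 0]]

/-- Its inverse. -/
def ppiTab : List (List ℕ) := [[1, 1, 0, 0, 0, 1, 0, 0], [1, 0, 0, 0, 1, 1, 0, 0], [0, 0, 1, 1, 0, 0, 0, 1], [0, 0, 1, 0, 0, 0, 1, 1], [0, 1, 0, 0, 1, 1, 0, 0], [0, 1, 0, 0, 0, 1, 0, 0], [0, 0, 0, 1, 0, 0, 1, 1], [0, 0, 0, 1, 0, 0, 0, 1]]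

/-- The change of coordinates, as a matrix. -/
def PP : Matrix (Fin 4 ⊕ Fin 4) (Fin 4 ⊕ Fin 4) (ZMod 2) :=
  fun k j => (((ppTab.getD (enc8 k) []).getD (enc8 j) 0 : ℕ) : ZMod 2)

/-- Its inverse, as a matrix. -/
def PPi : Matrix (Fin 4 ⊕ Fin 4) (Fin 4 ⊕ Fin 4) (ZMod 2) :=
  fun k j => (((ppiTab.getD (enc8 k) []).getD (enc8 j) 0 : ℕ) : ZMod 2)

theorem PP_mul_PPi : PP * PPi = 1 := by
  ext k j
  revert j
  revert k
  apply forall_eight <;> apply forall_eight <;> decide +kernel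

theorem PPi_mul_PP : PPi * PP = 1 := by
  ext k j
  revert j
  revert k
  apply forall_eight <;> apply forall_eight <;> decide +kernel

theorem plus_PP_n : ∀ n < 256,
    quadFormPlus 4 (ZMod 2) (PP.mulVec (vecOf8 n)) = Qp (vecOf8 n) := by
  decide +kernel

/-- The hyperbolic form in the new coordinates is the form `Qp`. -/
theorem plus_PP (c : Fin 4 ⊕ Fin 4 → ZMod 2) : quadFormPlus 4 (ZMod 2) (PP.mulVec c) = Qp c := by
  obtain ⟨n, hn, rfl⟩ := exists_vecOf8 c
  exact plus_PP_n n hn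

theorem plus_eq (u : Fin 4 ⊕ Fin 4 → ZMod 2) : quadFormPlus 4 (ZMod 2) u = Qp (PPi.mulVec u) := by
  rw [← plus_PP, Matrix.mulVec_mulVec, PP_mul_PPi, Matrix.one_mulVec]

/-- The isometry group. -/
abbrev OG : Subgroup (Matrix.GeneralLinearGroup (Fin 4 ⊕ Fin 4) (ZMod 2)) :=
  isometryGroup (ZMod 2) (quadFormPlus 4 (ZMod 2))

/-- The centralizer of the sign change. -/
abbrev C0 : Subgroup Co0 := Subgroup.centralizer {tCo0}

theorem inC0_of_mem (a : ↥C0) : InC0 a.1 :=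
  Subgroup.mem_centralizer_singleton_iff.1 a.2

theorem mem_C0_of {g : Co0} (hg : InC0 g) : g ∈ C0 :=
  Subgroup.mem_centralizer_singleton_iff.2 hg

/-- The matrix in hyperbolic coordinates. -/
noncomputable def tMat (g : Co0) : Matrix (Fin 4 ⊕ Fin 4) (Fin 4 ⊕ Fin 4) (ZMod 2) :=
  PP * oMat g * PPi

theorem tMat_mul {g h : Co0} (hg : InC0 g) (hh : InC0 h) : tMat (g * h) = tMat g * tMat h := by
  unfold tMat
  rw [oMat_mul hg hh]
  calc PP * (oMat g * oMat h) * PPi = PP * oMat g * (1 : Matrix _ _ (ZMod 2)) * oMat h * PPi := by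
        rw [Matrix.mul_one]; simp only [Matrix.mul_assoc]
    _ = PP * oMat g * PPi * (PP * oMat h * PPi) := by
        rw [← PPi_mul_PP]; simp only [Matrix.mul_assoc]

theorem tMat_one : tMat 1 = 1 := by
  unfold tMat
  rw [oMat_one, Matrix.mul_one, PP_mul_PPi]

theorem tMat_plus {g : Co0} (hg : InC0 g) (u : Fin 4 ⊕ Fin 4 → ZMod 2) :
    quadFormPlus 4 (ZMod 2) ((tMat g).mulVec u) = quadFormPlus 4 (ZMod 2) u := by
  unfold tMat
  rw [← Matrix.mulVec_mulVec, ← Matrix.mulVec_mulVec, plus_PP, Qp_oMat hg, ← plus_eq]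

/-- The element of the general linear group. -/
noncomputable def tGL (g : Co0) (hg : InC0 g) : Matrix.GeneralLinearGroup (Fin 4 ⊕ Fin 4) (ZMod 2) where
  val := tMat g
  inv := tMat g⁻¹
  val_inv := by rw [← tMat_mul hg hg.inv, mul_inv_cancel, tMat_one]
  inv_val := by rw [← tMat_mul hg.inv hg, inv_mul_cancel, tMat_one]

theorem tGL_mem (g : Co0) (hg : InC0 g) : tGL g hg ∈ OG := by
  intro u _
  exact tMat_plus hg u

/-- The homomorphism to the isometry group. -/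
noncomputable def oHom : ↥C0 →* ↥OG where
  toFun a := ⟨tGL a.1 (inC0_of_mem a), tGL_mem _ _⟩
  map_one' := by
    apply Subtype.ext
    apply Units.ext
    exact tMat_one
  map_mul' a b := by
    apply Subtype.ext
    apply Units.ext
    exact tMat_mul (inC0_of_mem a) (inC0_of_mem b)

theorem oHom_val (a : ↥C0) :
    ((oHom a : Matrix.GeneralLinearGroup (Fin 4 ⊕ Fin 4) (ZMod 2)) :
      Matrix (Fin 4 ⊕ Fin 4) (Fin 4 ⊕ Fin 4) (ZMod 2)) = tMat a.1 := rfl

theorem oMat_of_tMat {g : Co0} (h : tMat g = 1) : oMat g = 1 := by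
  unfold tMat at h
  have : PPi * (PP * oMat g * PPi) * PP = PPi * 1 * PP := by rw [h]
  rw [Matrix.mul_one, PPi_mul_PP] at this
  rw [← this]
  calc oMat g = 1 * oMat g * 1 := by rw [Matrix.one_mul, Matrix.mul_one]
    _ = PPi * PP * oMat g * (PPi * PP) := by rw [PPi_mul_PP]
    _ = PPi * (PP * oMat g * PPi) * PP := by simp only [Matrix.mul_assoc]

theorem mem_ker_iff (a : ↥C0) : a ∈ oHom.ker ↔ oMat a.1 = 1 := by
  rw [MonoidHom.mem_ker]
  constructor
  · intro h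
    apply oMat_of_tMat
    have := congrArg (fun x : ↥OG => ((x : Matrix.GeneralLinearGroup (Fin 4 ⊕ Fin 4) (ZMod 2)) :
      Matrix (Fin 4 ⊕ Fin 4) (Fin 4 ⊕ Fin 4) (ZMod 2))) h
    exact this
  · intro h
    apply Subtype.ext
    apply Units.ext
    show tMat a.1 = 1
    unfold tMat
    rw [h, Matrix.mul_one, PP_mul_PPi]

end CentO

end Cfsg.Agent.Lib.H27
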