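/-
helper27 library: the group `Q0` of the signed permutations `(σ, w)` with `σ` in the pointwise stabilizer
`K0` of the base octad in `M24` and `w` a code word off the octad; it is extraspecial of order `2^9`.
-/
import Mathlib
import Cfsg.Agent.Lib.H27.CentSpRoots
import Cfsg.Agent.Lib.H27.Co0Cross
import Cfsg.Agent.Lib.H27.Extraspecial
import Cfsg.Agent.Lib.H27.M22Embed
import Cfsg.Agent.Lib.H28.M24OctadA8

set_option autoImplicit false

namespace Cfsg.Agent.Lib.H27

open Cfsg Finset Cfsg.Agent.Lib.H28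

namespace CentSp

open scoped commutatorElement

/-! ### Multiplication of signed permutations -/

theorem monoCo0_mul {σ σ' : Equiv.Perm GolayPt} (hσ : σ ∈ M24) (hσ' : σ' ∈ M24)
    {w w' : GolayPt → ZMod 2} (hw : w ∈ golayCode) (hw' : w' ∈ golayCode)
    (h1 : σ * σ' ∈ M24) (h2 : w + w' ∘ σ.symm ∈ golayCode) :
    monoCo0 σ hσ w hw * monoCo0 σ' hσ' w' hw' = monoCo0 (σ * σ') h1 (w + w' ∘ σ.symm) h2 := by
  apply Co0_ext
  intro v
  rw [mul_smul, monoCo0_smul, monoCo0_smul, monoCo0_smul]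
  funext k
  unfold signedPerm
  have hk : (σ * σ').symm k = σ'.symm (σ.symm k) := rfl
  rw [hk]
  simp only [mem_support₂_iff, Pi.add_apply, Function.comp_apply]
  by_cases ha : w k = 0 <;> by_cases hb : w' (σ.symm k) = 0
  · simp [ha, hb]
  · have : w k + w' (σ.symm k) ≠ 0 := by rw [ha, zero_add]; exact hb
    simp [ha, hb]
  · have : w k + w' (σ.symm k) ≠ 0 := by rw [hb, add_zero]; exact ha
    simp [ha, hb]
  · have : w k + w' (σ.symm k) = 0 := by
      have key : ∀ a b : ZMod 2, a ≠ 0 → b ≠ 0 → a + b = 0 := by decide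
      exact key _ _ ha hb
    simp [ha, hb, this]

theorem monoCo0_one (h1 : (1 : Equiv.Perm GolayPt) ∈ M24) (h0 : (0 : GolayPt → ZMod 2) ∈ golayCode) :
    monoCo0 1 h1 0 h0 = 1 := by
  apply Co0_ext
  intro v
  rw [monoCo0_smul, one_smul]
  funext k
  unfold signedPerm
  simp only [mem_support₂_iff, Pi.zero_apply, ne_eq, not_true_eq_false, if_false]
  rfl

theorem monoCo0_inj {σ σ' : Equiv.Perm GolayPt} (hσ : σ ∈ M24) (hσ' : σ' ∈ M24)
    {w w' : GolayPt → ZMod 2} (hw : w ∈ golayCode) (hw' : w' ∈ golayCode)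
    (h : monoCo0 σ hσ w hw = monoCo0 σ' hσ' w' hw') : σ = σ' ∧ w = w' := by
  have h0 : stabMap (⟨σ, hσ⟩, ⟨w, hw⟩) = stabMap (⟨σ', hσ'⟩, ⟨w', hw'⟩) := Subtype.ext h
  have := stabMap_injective h0
  have h1 := congrArg (fun p : M24 × golayCode => (p.1 : Equiv.Perm GolayPt)) this
  have h2 := congrArg (fun p : M24 × golayCode => (p.2 : GolayPt → ZMod 2)) this
  exact ⟨h1, h2⟩

theorem monoCo0_congr' {σ σ' : Equiv.Perm GolayPt} (hσ : σ ∈ M24) (hσ' : σ' ∈ M24)
    {w w' : GolayPt → ZMod 2} (hw : w ∈ golayCode) (hw' : w' ∈ golayCode) (e1 : σ = σ')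
    (e2 : w = w') : monoCo0 σ hσ w hw = monoCo0 σ' hσ' w' hw' := by
  subst e1
  subst e2
  rfl

/-! ### The pointwise stabilizer of the base octad -/

theorem K0_le_M24 {σ : Equiv.Perm GolayPt} (h : σ ∈ K0) : σ ∈ M24 := (mem_fixSub.1 h).1

theorem K0_fix_oct {σ : Equiv.Perm GolayPt} (h : σ ∈ K0) {k : GolayPt} (hk : k ∈ oct0) : σ k = k := by
  have := K0_fix h (gIdx k) (mem_oct0_iff.1 hk)
  rwa [gPt_gIdx] at this

theorem K0_symm {σ : Equiv.Perm GolayPt} (h : σ ∈ K0) (p : GolayPt) : σ.symm p = σ p := by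
  rw [Equiv.symm_apply_eq]
  have := congrArg (fun f : Equiv.Perm GolayPt => f p) (K0_sq h)
  simpa using this.symm

theorem K0_symm_fix_oct {σ : Equiv.Perm GolayPt} (h : σ ∈ K0) {k : GolayPt} (hk : k ∈ oct0) :
    σ.symm k = k := by
  rw [K0_symm h, K0_fix_oct h hk]

theorem K0_comm' {a b : Equiv.Perm GolayPt} (ha : a ∈ K0) (hb : b ∈ K0) : a * b = b * a := by
  have h1 := K0_sq ha
  have h2 := K0_sq hb
  have h3 := K0_sq (K0.mul_mem ha hb)
  have e1 : a * b = (a * b)⁻¹ := eq_inv_of_mul_eq_one_left h3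
  have e2 : a⁻¹ = a := (eq_inv_of_mul_eq_one_left h1).symm
  have e3 : b⁻¹ = b := (eq_inv_of_mul_eq_one_left h2).symm
  rw [e1, mul_inv_rev, e2, e3]

/-! ### The group -/

/-- Words vanishing on the base octad. -/
def OffOct (w : GolayPt → ZMod 2) : Prop := ∀ k ∈ oct0, w k = 0

/-- The element `(σ, w)`. -/
def mkQ (σ : Equiv.Perm GolayPt) (hσ : σ ∈ K0) (w : GolayPt → ZMod 2) (hw : w ∈ golayCode) : Co0 :=
  monoCo0 σ (K0_le_M24 hσ) w hw

theorem mkQ_congr {σ σ' : Equiv.Perm GolayPt} (hσ : σ ∈ K0) (hσ' : σ' ∈ K0)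
    {w w' : GolayPt → ZMod 2} (hw : w ∈ golayCode) (hw' : w' ∈ golayCode) (e1 : σ = σ')
    (e2 : w = w') : mkQ σ hσ w hw = mkQ σ' hσ' w' hw' :=
  monoCo0_congr' _ _ _ _ e1 e2

theorem mkQ_inj {σ σ' : Equiv.Perm GolayPt} (hσ : σ ∈ K0) (hσ' : σ' ∈ K0)
    {w w' : GolayPt → ZMod 2} (hw : w ∈ golayCode) (hw' : w' ∈ golayCode)
    (h : mkQ σ hσ w hw = mkQ σ' hσ' w' hw') : σ = σ' ∧ w = w' :=
  monoCo0_inj _ _ _ _ h

theorem comp_mem {σ : Equiv.Perm GolayPt} (hσ : σ ∈ K0) {w : GolayPt → ZMod 2}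
    (hw : w ∈ golayCode) : w ∘ σ.symm ∈ golayCode :=
  comp_symm_mem_of_mem_M24 (K0_le_M24 hσ) hw

theorem mkQ_mul {σ σ' : Equiv.Perm GolayPt} (hσ : σ ∈ K0) (hσ' : σ' ∈ K0)
    {w w' : GolayPt → ZMod 2} (hw : w ∈ golayCode) (hw' : w' ∈ golayCode) :
    mkQ σ hσ w hw * mkQ σ' hσ' w' hw'
      = mkQ (σ * σ') (K0.mul_mem hσ hσ') (w + w' ∘ σ.symm)
          (golayCode.add_mem hw (comp_mem hσ hw')) :=
  monoCo0_mul _ _ _ _ _ _

theorem mkQ_one : mkQ 1 K0.one_mem 0 golayCode.zero_mem = 1 := monoCo0_one _ _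

theorem offOct_add {w w' : GolayPt → ZMod 2} (h : OffOct w) (h' : OffOct w') : OffOct (w + w') := by
  intro k hk
  rw [Pi.add_apply, h k hk, h' k hk, add_zero]

theorem offOct_comp {σ : Equiv.Perm GolayPt} (hσ : σ ∈ K0) {w : GolayPt → ZMod 2} (h : OffOct w) :
    OffOct (w ∘ σ.symm) := by
  intro k hk
  rw [Function.comp_apply, K0_symm_fix_oct hσ hk]
  exact h k hk

theorem offOct_zero : OffOct 0 := fun _ _ => rfl

theorem comp_comp_self {σ : Equiv.Perm GolayPt} (hσ : σ ∈ K0) (w : GolayPt → ZMod 2) :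
    (w ∘ σ.symm) ∘ σ.symm = w := by
  funext k
  rw [Function.comp_apply, Function.comp_apply, K0_symm hσ, K0_symm hσ]
  have := congrArg (fun f : Equiv.Perm GolayPt => f k) (K0_sq hσ)
  simp only [Equiv.Perm.mul_apply, Equiv.Perm.one_apply] at this
  rw [this]

theorem add_self_zmod2 (w : GolayPt → ZMod 2) : w + w = 0 := by
  funext k
  rw [Pi.add_apply]
  have : ∀ a : ZMod 2, a + a = 0 := by decide
  exact this _

/-- The group of the elements `(σ, w)`. -/
def Q0 : Subgroup Co0 where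
  carrier := {g | ∃ (σ : Equiv.Perm GolayPt) (hσ : σ ∈ K0) (w : GolayPt → ZMod 2)
    (hw : w ∈ golayCode), OffOct w ∧ g = mkQ σ hσ w hw}
  mul_mem' := by
    rintro a b ⟨σ, hσ, w, hw, ho, rfl⟩ ⟨σ', hσ', w', hw', ho', rfl⟩
    exact ⟨_, _, _, _, offOct_add ho (offOct_comp hσ ho'), mkQ_mul hσ hσ' hw hw'⟩
  one_mem' := ⟨1, K0.one_mem, 0, golayCode.zero_mem, offOct_zero, mkQ_one.symm⟩
  inv_mem' := by
    rintro a ⟨σ, hσ, w, hw, ho, rfl⟩
    refine ⟨σ, hσ, w ∘ σ.symm, comp_mem hσ hw, offOct_comp hσ ho, ?_⟩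
    rw [inv_eq_iff_mul_eq_one, mkQ_mul, ← mkQ_one]
    apply mkQ_congr
    · exact K0_sq hσ
    · rw [comp_comp_self hσ, add_self_zmod2]

theorem mem_Q0_iff {g : Co0} : g ∈ Q0 ↔ ∃ (σ : Equiv.Perm GolayPt) (hσ : σ ∈ K0)
    (w : GolayPt → ZMod 2) (hw : w ∈ golayCode), OffOct w ∧ g = mkQ σ hσ w hw := Iff.rfl

theorem mkQ_mem {σ : Equiv.Perm GolayPt} (hσ : σ ∈ K0) {w : GolayPt → ZMod 2} (hw : w ∈ golayCode)
    (ho : OffOct w) : mkQ σ hσ w hw ∈ Q0 := ⟨σ, hσ, w, hw, ho, rfl⟩

theorem tCo0_eq : tCo0 = mkQ 1 K0.one_mem tW tW_mem := rfl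

/-! ### Masks -/

/-- The masks of the code words off the octad. -/
def wList : List ℕ := (combos basisMasks).filter (fun m => m &&& baseOctad == 0)

theorem wList_len : wList.length = 32 := by decide +kernel

theorem wList_nodup : wList.Nodup := by decide +kernel

theorem baseOctad_bit {i : ℕ} (h : baseOctad.testBit i = true) : i < 24 ∧ i ∈ octPts := by
  have h24 : i < 24 := by
    by_contra hi
    have : baseOctad < 2 ^ i := lt_of_lt_of_le (by decide : baseOctad < 2 ^ 24)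
      (Nat.pow_le_pow_right (by norm_num) (by omega))
    rw [Nat.testBit_lt_two_pow this] at h
    exact absurd h (by decide)
  refine ⟨h24, ?_⟩
  have : ∀ z < 24, baseOctad.testBit z = true → z ∈ octPts := by decide +kernel
  exact this i h24 h

theorem offOct_W_iff (m : ℕ) : OffOct (W m) ↔ m &&& baseOctad = 0 := by
  constructor
  · intro h
    apply Nat.eq_of_testBit_eq
    intro i
    rw [Nat.testBit_and, Nat.zero_testBit]
    by_cases hb : baseOctad.testBit i = true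
    · obtain ⟨h24, hi⟩ := baseOctad_bit hb
      have hk : gPt i ∈ oct0 := by rw [mem_oct0_iff, gIdx_gPt h24]; exact hi
      have := h _ hk
      rw [W_apply, gIdx_gPt h24] at this
      by_cases hm : m.testBit i = true
      · rw [if_pos hm] at this
        exact absurd this (by decide)
      · simp [hm]
    · simp [hb]
  · intro h k hk
    rw [W_apply]
    have hb : baseOctad.testBit (gIdx k) = true := by
      unfold oct0 at hk
      exact mem_ptsMask.1 hk
    have := congrArg (fun n => n.testBit (gIdx k)) h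
    simp only [Nat.testBit_and, Nat.zero_testBit, hb, Bool.and_true] at this
    rw [this]
    rfl

theorem exists_wList {w : GolayPt → ZMod 2} (hw : w ∈ golayCode) (ho : OffOct w) :
    ∃ m ∈ wList, w = W m := by
  obtain ⟨m, hm, rfl⟩ := exists_mask_of_mem_golayCode hw
  refine ⟨m, ?_, rfl⟩
  unfold wList
  rw [List.mem_filter, beq_iff_eq]
  exact ⟨hm, (offOct_W_iff m).1 ho⟩

theorem wList_spec {m : ℕ} (hm : m ∈ wList) : W m ∈ golayCode ∧ OffOct (W m) := by
  unfold wList at hm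
  rw [List.mem_filter, beq_iff_eq] at hm
  exact ⟨W_mem_golayCode_of_mem_combos hm.1, (offOct_W_iff m).2 hm.2⟩

/-- Agreement of two masks on the 24 points. -/
def eq24 (a b : ℕ) : Bool := (List.range 24).all (fun k => a.testBit k == b.testBit k)

theorem eq24_of_W_eq {a b : ℕ} (h : W a = W b) : eq24 a b = true := by
  unfold eq24
  rw [List.all_eq_true]
  intro k hk
  rw [List.mem_range] at hk
  have := congrFun h (gPt k)
  rw [W_apply, W_apply, gIdx_gPt hk] at this
  rw [beq_iff_eq]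
  cases ha : a.testBit k <;> cases hb : b.testBit k <;> simp_all

theorem wList_inj : ∀ a ∈ wList, ∀ b ∈ wList, eq24 a b = true → a = b := by decide +kernel

/-! ### The action of `K0` on the masks -/

/-- The index table of the element of `K0` with label `z`. -/
def kTab (z : ℕ) : List ℕ := wordTab (k0Tab.getD z [])

/-- The labels: the points off the octad. -/
def outPts : List ℕ := (List.range 24).filter (fun z => !baseOctad.testBit z)

theorem K0_tab {σ : Equiv.Perm GolayPt} (hσ : σ ∈ K0) :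
    ∃ z ∈ outPts, (z = 4 → σ = 1) ∧ ∀ m, W m ∘ σ.symm = W (pullMask (kTab z) m) := by
  have hout := K0_outside hσ
  have e := K0_eq_word hσ
  set z := gIdx (σ (gPt 4)) with hz
  refine ⟨z, ?_, ?_, ?_⟩
  · unfold outPts
    rw [List.mem_filter, List.mem_range, hout]
    exact ⟨gIdx_lt _, rfl⟩
  · intro h4
    rw [h4] at e
    rw [e]
    rfl
  · intro m
    apply W_comp_symm
    intro p
    rw [K0_symm hσ]
    conv_lhs => rw [e]
    exact wordTab_spec _ p

theorem tab_K0 {z : ℕ} (hz : z ∈ outPts) :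
    ∃ σ ∈ K0, ∀ m, W m ∘ σ.symm = W (pullMask (kTab z) m) := by
  unfold outPts at hz
  rw [List.mem_filter, List.mem_range] at hz
  have hb : baseOctad.testBit z = false := by simpa using hz.2
  obtain ⟨h1, -⟩ := word_mem_K0 hz.1 hb
  refine ⟨_, h1, fun m => ?_⟩
  apply W_comp_symm
  intro p
  rw [K0_symm h1]
  exact wordTab_spec _ p

theorem chkF3 : outPts.all (fun z => wList.all (fun m =>
    (m ^^^ pullMask (kTab z) m == 0) || (m ^^^ pullMask (kTab z) m == cMask))) = true := by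
  decide +kernel

theorem chkF4a : outPts.all (fun z => (z == 4) ||
    wList.any (fun m => !eq24 (pullMask (kTab z) m) m)) = true := by
  decide +kernel

theorem chkF4b : wList.all (fun m => (m == 0) || (m == cMask) ||
    outPts.any (fun z => !eq24 (pullMask (kTab z) m) m)) = true := by
  decide +kernel

theorem chkFt : outPts.all (fun z => pullMask (kTab z) cMask == cMask) = true := by
  decide +kernel

theorem cMask_mem : cMask ∈ wList := by decide +kernel

/-- `F3`: `K0` acts trivially modulo the complement of the octad. -/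
theorem F3 {σ : Equiv.Perm GolayPt} (hσ : σ ∈ K0) {w : GolayPt → ZMod 2} (hw : w ∈ golayCode)
    (ho : OffOct w) : w + w ∘ σ.symm = 0 ∨ w + w ∘ σ.symm = tW := by
  obtain ⟨z, hz, -, hact⟩ := K0_tab hσ
  obtain ⟨m, hm, rfl⟩ := exists_wList hw ho
  rw [hact, ← W_xor]
  have := List.all_eq_true.1 (List.all_eq_true.1 chkF3 z hz) m hm
  rw [Bool.or_eq_true, beq_iff_eq, beq_iff_eq] at this
  rcases this with h | h
  · left; rw [h, W_zero]
  · right; rw [h]; rfl

theorem Ft {σ : Equiv.Perm GolayPt} (hσ : σ ∈ K0) : tW ∘ σ.symm = tW := by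
  obtain ⟨z, hz, -, hact⟩ := K0_tab hσ
  have := List.all_eq_true.1 chkFt z hz
  rw [beq_iff_eq] at this
  show W cMask ∘ σ.symm = W cMask
  rw [hact, this]

theorem F4a {σ : Equiv.Perm GolayPt} (hσ : σ ∈ K0)
    (h : ∀ w ∈ golayCode, OffOct w → w ∘ σ.symm = w) : σ = 1 := by
  obtain ⟨z, hz, h4, hact⟩ := K0_tab hσ
  have := List.all_eq_true.1 chkF4a z hz
  rw [Bool.or_eq_true, beq_iff_eq] at this
  rcases this with h' | h'
  · exact h4 h'
  · exfalso
    rw [List.any_eq_true] at h'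
    obtain ⟨m, hm, hne⟩ := h'
    obtain ⟨h1, h2⟩ := wList_spec hm
    have := h _ h1 h2
    rw [hact] at this
    rw [eq24_of_W_eq this] at hne
    exact absurd hne (by decide)

theorem F4b {w : GolayPt → ZMod 2} (hw : w ∈ golayCode) (ho : OffOct w)
    (h : ∀ σ ∈ K0, w ∘ σ.symm = w) : w = 0 ∨ w = tW := by
  obtain ⟨m, hm, rfl⟩ := exists_wList hw ho
  have := List.all_eq_true.1 chkF4b m hm
  rw [Bool.or_eq_true, Bool.or_eq_true, beq_iff_eq, beq_iff_eq] at this
  rcases this with (h' | h') | h'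
  · left; rw [h', W_zero]
  · right; rw [h']; rfl
  · exfalso
    rw [List.any_eq_true] at h'
    obtain ⟨z, hz, hne⟩ := h'
    obtain ⟨σ, hσ, hact⟩ := tab_K0 hz
    have := h σ hσ
    rw [hact] at this
    rw [eq24_of_W_eq this] at hne
    exact absurd hne (by decide)

end CentSp

end Cfsg.Agent.Lib.H27
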