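/-
helper27 library: the group `CentSp.Q0` has order `2^9` and is extraspecial, with centre generated by the
sign change off the base octad.
-/
import Mathlib
import Cfsg.Agent.Lib.H27.CentSpQ

set_option autoImplicit false

namespace Cfsg.Agent.Lib.H27

open Cfsg Finset Cfsg.Agent.Lib.H28

namespace CentSp

open scoped commutatorElement

/-! ### The order -/

/-- The parametrisation of the group. -/
def qMap (p : ↥K0 × {m // m ∈ wList}) : ↥Q0 :=
  ⟨mkQ p.1.1 p.1.2 (W p.2.1) (wList_spec p.2.2).1, mkQ_mem _ _ (wList_spec p.2.2).2⟩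

theorem qMap_bijective : Function.Bijective qMap := by
  constructor
  · rintro ⟨⟨σ, hσ⟩, ⟨m, hm⟩⟩ ⟨⟨σ', hσ'⟩, ⟨m', hm'⟩⟩ h
    have h0 : mkQ σ hσ (W m) (wList_spec hm).1 = mkQ σ' hσ' (W m') (wList_spec hm').1 :=
      congrArg Subtype.val h
    obtain ⟨e1, e2⟩ := mkQ_inj _ _ _ _ h0
    have e3 : m = m' := wList_inj m hm m' hm' (eq24_of_W_eq e2)
    subst e1
    subst e3
    rfl
  · rintro ⟨g, σ, hσ, w, hw, ho, rfl⟩
    obtain ⟨m, hm, rfl⟩ := exists_wList hw ho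
    exact ⟨⟨⟨σ, hσ⟩, ⟨m, hm⟩⟩, rfl⟩

theorem card_wList : Nat.card {m // m ∈ wList} = 32 := by
  classical
  rw [Nat.card_eq_fintype_card, Fintype.card_of_subtype wList.toFinset (fun x => List.mem_toFinset),
    List.toFinset_card_of_nodup wList_nodup, wList_len]

theorem card_Q0 : Nat.card ↥Q0 = 2 ^ 9 := by
  rw [← Nat.card_eq_of_bijective qMap qMap_bijective, Nat.card_prod, card_K0, card_wList]
  norm_num

/-! ### The centre -/

theorem tW_ne_zero : tW ≠ 0 := by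
  intro h
  have := congrFun h (gPt 4)
  revert this
  decide +kernel

theorem tCo0_ne_one : tCo0 ≠ 1 := by
  intro h
  rw [tCo0_eq, ← mkQ_one] at h
  exact tW_ne_zero (mkQ_inj _ _ _ _ h).2

theorem comp_one (f : GolayPt → ZMod 2) : f ∘ (1 : Equiv.Perm GolayPt).symm = f := rfl

theorem tCo0_sq : tCo0 * tCo0 = 1 := by
  rw [tCo0_eq, mkQ_mul, ← mkQ_one]
  apply mkQ_congr
  · rw [mul_one]
  · rw [comp_one, add_self_zmod2]

theorem orderOf_tCo0 : orderOf tCo0 = 2 :=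
  orderOf_eq_prime (by rw [pow_two]; exact tCo0_sq) tCo0_ne_one

/-- The centre. -/
def ZQ : Subgroup Co0 := Subgroup.zpowers tCo0

theorem card_ZQ : Nat.card ZQ = 2 := by
  unfold ZQ
  rw [Nat.card_zpowers, orderOf_tCo0]

theorem mem_ZQ_iff {x : Co0} : x ∈ ZQ ↔ x = 1 ∨ x = tCo0 := by
  constructor
  · intro h
    obtain ⟨k, rfl⟩ := Subgroup.mem_zpowers_iff.1 h
    rw [← zpow_mod_orderOf, orderOf_tCo0]
    have : k % ((2 : ℕ) : ℤ) = 0 ∨ k % ((2 : ℕ) : ℤ) = 1 := by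
      push_cast
      omega
    rcases this with h | h <;> rw [h]
    · left; exact zpow_zero _
    · right; exact zpow_one _
  · rintro (rfl | rfl)
    · exact Subgroup.one_mem _
    · exact Subgroup.mem_zpowers _

theorem mkQ_one_mem_ZQ {n : GolayPt → ZMod 2} (hn : n ∈ golayCode) (h : n = 0 ∨ n = tW) :
    mkQ 1 K0.one_mem n hn ∈ ZQ := by
  rw [mem_ZQ_iff]
  rcases h with rfl | rfl
  · left; exact mkQ_one
  · right; rfl

theorem ZQ_le : ZQ ≤ Q0 := by
  intro x hx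
  rcases mem_ZQ_iff.1 hx with rfl | rfl
  · exact Q0.one_mem
  · exact mkQ_mem K0.one_mem tW_mem (by
      intro k hk
      have := (offOct_W_iff cMask).2 (by decide +kernel)
      exact this k hk)

/-! ### Squares and commutators -/

theorem sq_mem {x : Co0} (hx : x ∈ Q0) : x ^ 2 ∈ ZQ := by
  obtain ⟨σ, hσ, w, hw, ho, rfl⟩ := hx
  rw [pow_two, mkQ_mul]
  have e : mkQ (σ * σ) (K0.mul_mem hσ hσ) (w + w ∘ σ.symm) (golayCode.add_mem hw (comp_mem hσ hw))
      = mkQ 1 K0.one_mem (w + w ∘ σ.symm) (golayCode.add_mem hw (comp_mem hσ hw)) :=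
    mkQ_congr _ _ _ _ (K0_sq hσ) rfl
  rw [e]
  exact mkQ_one_mem_ZQ _ (F3 hσ hw ho)

theorem comm_formula {σ σ' : Equiv.Perm GolayPt} (hσ : σ ∈ K0) (hσ' : σ' ∈ K0)
    {w w' : GolayPt → ZMod 2} (hw : w ∈ golayCode) (hw' : w' ∈ golayCode) :
    mkQ σ hσ w hw * mkQ σ' hσ' w' hw'
      = mkQ 1 K0.one_mem ((w + w ∘ σ'.symm) + (w' + w' ∘ σ.symm))
          (golayCode.add_mem (golayCode.add_mem hw (comp_mem hσ' hw))
            (golayCode.add_mem hw' (comp_mem hσ hw')))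
        * (mkQ σ' hσ' w' hw' * mkQ σ hσ w hw) := by
  rw [mkQ_mul, mkQ_mul, mkQ_mul]
  apply mkQ_congr
  · rw [one_mul, K0_comm' hσ hσ']
  · rw [comp_one]
    funext k
    simp only [Pi.add_apply, Function.comp_apply]
    have key : ∀ a b c d : ZMod 2, a + b = ((a + c) + (d + b)) + (d + c) := by decide
    exact key _ _ _ _

theorem comm_eq {σ σ' : Equiv.Perm GolayPt} (hσ : σ ∈ K0) (hσ' : σ' ∈ K0)
    {w w' : GolayPt → ZMod 2} (hw : w ∈ golayCode) (hw' : w' ∈ golayCode) :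
    ⁅mkQ σ hσ w hw, mkQ σ' hσ' w' hw'⁆
      = mkQ 1 K0.one_mem ((w + w ∘ σ'.symm) + (w' + w' ∘ σ.symm))
          (golayCode.add_mem (golayCode.add_mem hw (comp_mem hσ' hw))
            (golayCode.add_mem hw' (comp_mem hσ hw'))) := by
  have h := comm_formula hσ hσ' hw hw'
  have e : ⁅mkQ σ hσ w hw, mkQ σ' hσ' w' hw'⁆
      = (mkQ σ hσ w hw * mkQ σ' hσ' w' hw') * (mkQ σ' hσ' w' hw' * mkQ σ hσ w hw)⁻¹ := by
    rw [commutatorElement_def]
    group
  rw [e, h, mul_assoc, mul_inv_cancel, mul_one]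

theorem comm_mem {a b : Co0} (ha : a ∈ Q0) (hb : b ∈ Q0) : ⁅a, b⁆ ∈ ZQ := by
  obtain ⟨σ, hσ, w, hw, ho, rfl⟩ := ha
  obtain ⟨σ', hσ', w', hw', ho', rfl⟩ := hb
  rw [comm_eq]
  apply mkQ_one_mem_ZQ
  rcases F3 hσ' hw ho with h1 | h1 <;> rcases F3 hσ hw' ho' with h2 | h2 <;> rw [h1, h2]
  · left; rw [add_zero]
  · right; rw [zero_add]
  · right; rw [add_zero]
  · left; exact add_self_zmod2 _

theorem eq_of_add_eq_zero {a b : GolayPt → ZMod 2} (h : a + b = 0) : b = a := by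
  funext k
  have := congrFun h k
  rw [Pi.add_apply, Pi.zero_apply] at this
  have key : ∀ x y : ZMod 2, x + y = 0 → y = x := by decide
  exact key _ _ this

theorem exists_nontrivial_K0 : ∃ σ ∈ K0, σ ≠ 1 := by
  obtain ⟨h1, h2⟩ := word_mem_K0 (z := 6) (by norm_num) (by decide +kernel)
  refine ⟨_, h1, ?_⟩
  intro h
  rw [h, Equiv.Perm.one_apply] at h2
  have := congrArg gIdx h2
  rw [gIdx_gPt (by norm_num), gIdx_gPt (by norm_num)] at this
  exact absurd this (by norm_num)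

theorem tCo0_mem_commutator : tCo0 ∈ ⁅Q0, Q0⁆ := by
  obtain ⟨σ, hσ, hne⟩ := exists_nontrivial_K0
  have h1 : ¬ ∀ w ∈ golayCode, OffOct w → w ∘ σ.symm = w := fun h => hne (F4a hσ h)
  push Not at h1
  obtain ⟨w, hw, ho, hw2⟩ := h1
  have h3 : w + w ∘ σ.symm = tW := by
    rcases F3 hσ hw ho with h | h
    · exact absurd (eq_of_add_eq_zero h) hw2
    · exact h
  have ha : mkQ σ hσ 0 golayCode.zero_mem ∈ Q0 := mkQ_mem _ _ offOct_zero
  have hb : mkQ 1 K0.one_mem w hw ∈ Q0 := mkQ_mem _ _ ho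
  have := Subgroup.commutator_mem_commutator ha hb
  rw [comm_eq] at this
  have e : mkQ 1 K0.one_mem ((0 + (0 : GolayPt → ZMod 2) ∘ (1 : Equiv.Perm GolayPt).symm) + (w + w ∘ σ.symm))
      (golayCode.add_mem (golayCode.add_mem golayCode.zero_mem (comp_mem K0.one_mem golayCode.zero_mem))
        (golayCode.add_mem hw (comp_mem hσ hw))) = tCo0 := by
    rw [tCo0_eq]
    apply mkQ_congr _ _ _ _ rfl
    rw [comp_one, add_zero, zero_add, h3]
  rw [e] at this
  exact this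

theorem commutator_Q0 : ⁅Q0, Q0⁆ = ZQ := by
  apply le_antisymm
  · rw [Subgroup.commutator_le]
    intro a ha b hb
    exact comm_mem ha hb
  · unfold ZQ
    rw [Subgroup.zpowers_le]
    exact tCo0_mem_commutator

theorem tCo0_central {g : Co0} (hg : g ∈ Q0) : g * tCo0 = tCo0 * g := by
  obtain ⟨σ, hσ, w, hw, ho, rfl⟩ := hg
  rw [tCo0_eq, mkQ_mul, mkQ_mul]
  apply mkQ_congr
  · rw [mul_one, one_mul]
  · rw [Ft hσ, comp_one, add_comm]

theorem center_Q0 : Q0 ⊓ Subgroup.centralizer (Q0 : Set Co0) = ZQ := by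
  apply le_antisymm
  · intro x hx
    obtain ⟨hxQ, hxC⟩ := Subgroup.mem_inf.1 hx
    rw [Subgroup.mem_centralizer_iff] at hxC
    obtain ⟨σ, hσ, w, hw, ho, rfl⟩ := hxQ
    have hσ1 : σ = 1 := by
      apply F4a hσ
      intro w' hw' ho'
      have := hxC (mkQ 1 K0.one_mem w' hw') (mkQ_mem _ _ ho')
      rw [mkQ_mul, mkQ_mul] at this
      have h2 := (mkQ_inj _ _ _ _ this).2
      rw [comp_one, add_comm] at h2
      exact (add_left_cancel h2).symm
    subst hσ1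
    apply mkQ_one_mem_ZQ
    apply F4b hw ho
    intro σ' hσ'
    have := hxC (mkQ σ' hσ' 0 golayCode.zero_mem) (mkQ_mem _ _ offOct_zero)
    rw [mkQ_mul, mkQ_mul] at this
    have h2 := (mkQ_inj _ _ _ _ this).2
    rw [comp_one, zero_add, add_zero] at h2
    exact h2
  · intro x hx
    refine Subgroup.mem_inf.2 ⟨ZQ_le hx, ?_⟩
    rw [Subgroup.mem_centralizer_iff]
    intro g hg
    rcases mem_ZQ_iff.1 hx with rfl | rfl
    · rw [mul_one, one_mul]
    · exact tCo0_central hg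

/-- The group is extraspecial. -/
theorem Q0_extraspecial : IsExtraspecial 2 ↥Q0 := by
  have : Fact (Nat.Prime 2) := ⟨Nat.prime_two⟩
  exact isExtraspecial_subgroup 2 Q0 ZQ (IsPGroup.of_card card_Q0) ZQ_le card_ZQ center_Q0
    commutator_Q0 (fun x hx => sq_mem hx)

end CentSp

end Cfsg.Agent.Lib.H27
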