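/-
helper27 library: the homomorphism `CentSp.spHom` onto `Sp_6(2)` is surjective: the image contains a
transvection and is transitive on the 63 nonzero vectors, hence contains all transvections.
-/
import Mathlib
import Cfsg.Agent.Lib.H27.CentSpHom
import Cfsg.Agent.Lib.H27.Co0Word
import Cfsg.Agent.S0765

set_option autoImplicit false

namespace Cfsg.Agent.Lib.H27

open Cfsg Finset MulAction Cfsg.Agent.Lib.H28 Cfsg.Agent.Lib.H27.Eng

namespace CentSp

/-! ### Conjugates of transvections -/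

theorem conj_transvection {A : Matrix (Fin 3 ⊕ Fin 3) (Fin 3 ⊕ Fin 3) (ZMod 2)}
    (hA : A ∈ Matrix.symplecticGroup (Fin 3) (ZMod 2)) (w : Fin 3 ⊕ Fin 3 → ZMod 2) :
    A * sympTransvection 3 w 1 = sympTransvection 3 (A.mulVec w) 1 * A := by
  unfold sympTransvection
  rw [one_smul, one_smul, Matrix.mul_add, Matrix.add_mul, Matrix.mul_one, Matrix.one_mul,
    Matrix.mul_vecMulVec, Matrix.vecMulVec_mul]
  congr 2
  rw [SymplecticGroup.mem_iff'] at hA
  rw [← Matrix.mulVec_transpose, Matrix.mulVec_mulVec, Matrix.mulVec_mulVec, hA]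

/-! ### Words and equality of group elements -/

theorem wordCo0_eq_of_agree {w1 w2 : List Gen} (h1 : w1.all Gen.ok = true)
    (h2 : w2.all Gen.ok = true)
    (h : genLists.all (fun b => decide (actWord w1 b = actWord w2 b)) = true) :
    wordCo0 w1 = wordCo0 w2 := by
  have key : (wordCo0 w1)⁻¹ * wordCo0 w2 = 1 := by
    apply eq_one_of_fixes
    intro b hb hbL
    rw [List.all_eq_true] at h
    have hb' := h b hb
    rw [decide_eq_true_eq] at hb'
    rw [mul_smul, inv_smul_eq_iff]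
    apply Subtype.ext
    rw [← actWord_spec w2 h2 b hbL, ← actWord_spec w1 h1 b hbL, hb']
  exact (inv_mul_eq_one.1 key)

/-- The identity table. -/
def idT : List ℕ := List.range 24

/-- The sign change off the base octad, as an elementary element. -/
def tGen : Gen := Gen.mono idT idT cMask

theorem tGen_ok : tGen.ok = true := by decide +kernel

theorem monoCo0_congr {σ σ' : Equiv.Perm GolayPt} (hσ : σ ∈ M24) (hσ' : σ' ∈ M24)
    {w w' : GolayPt → ZMod 2} (hw : w ∈ golayCode) (hw' : w' ∈ golayCode) (e1 : σ = σ')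
    (e2 : w = w') : monoCo0 σ hσ w hw = monoCo0 σ' hσ' w' hw' := by
  subst e1
  subst e2
  rfl

theorem idT_getD : ∀ k < 24, idT.getD k 0 = k := by decide

theorem tGen_toCo0 : tGen.toCo0 = tCo0 := by
  have h : monoOK idT idT cMask = true := tGen_ok
  unfold tGen
  rw [Gen.toCo0_mono idT idT cMask h]
  unfold tCo0 signCo0
  apply monoCo0_congr
  · apply Equiv.ext
    intro p
    show gPt (idT.getD (gIdx p) 0) = p
    rw [idT_getD _ (gIdx_lt p), gPt_gIdx]
  · rfl

theorem wordCo0_tGen : wordCo0 [tGen] = tCo0 := by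
  rw [wordCo0_cons, wordCo0_nil, one_mul, tGen_toCo0]

/-- Membership test for the centralizer. -/
def inCCb (γ : List Gen) : Bool :=
  γ.all Gen.ok && decide (actWord γ uL = uL) &&
    genLists.all (fun b => decide (actWord (γ ++ [tGen]) b = actWord (tGen :: γ) b))

theorem inCC_of_inCCb {γ : List Gen} (h : inCCb γ = true) :
    γ.all Gen.ok = true ∧ InCC (wordCo0 γ) := by
  unfold inCCb at h
  rw [Bool.and_eq_true, Bool.and_eq_true, decide_eq_true_eq] at h
  obtain ⟨⟨h1, h2⟩, h3⟩ := h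
  refine ⟨h1, ?_, ?_⟩
  · rw [← mkL_uL, mkL_of_mem uL_L]
    apply Subtype.ext
    rw [← actWord_spec γ h1 uL uL_L, h2]
  · have hok1 : (γ ++ [tGen]).all Gen.ok = true := by
      rw [List.all_append, h1, Bool.true_and, List.all_cons, List.all_nil, Bool.and_true]
      exact tGen_ok
    have hok2 : (tGen :: γ).all Gen.ok = true := by
      rw [List.all_cons, h1, Bool.and_true]
      exact tGen_ok
    have := wordCo0_eq_of_agree hok1 hok2 h3
    rw [wordCo0_append, wordCo0_tGen, wordCo0_cons, tGen_toCo0] at this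
    exact this.symm

/-! ### The generators -/

def gA : List Gen := [Gen.mono [23, 14, 5, 3, 18, 2, 21, 6, 13, 4, 16, 15, 10, 19, 17, 9, 7, 1, 22, 8, 20, 12, 11, 0] [23, 17, 5, 3, 9, 2, 7, 16, 19, 15, 12, 22, 21, 8, 1, 11, 10, 14, 4, 13, 20, 6, 18, 0] 0]

def gAi : List Gen := [Gen.mono [23, 17, 5, 3, 9, 2, 7, 16, 19, 15, 12, 22, 21, 8, 1, 11, 10, 14, 4, 13, 20, 6, 18, 0] [23, 14, 5, 3, 18, 2, 21, 6, 13, 4, 16, 15, 10, 19, 17, 9, 7, 1, 22, 8, 20, 12, 11, 0] 0]

def gB : List Gen := [Gen.mono [0, 3, 14, 5, 13, 17, 8, 20, 22, 10, 11, 4, 6, 16, 2, 9, 21, 1, 7, 18, 12, 15, 19, 23] [0, 17, 14, 1, 11, 3, 12, 18, 6, 15, 9, 10, 20, 4, 2, 21, 13, 5, 19, 22, 7, 16, 8, 23] 0]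

def gBi : List Gen := [Gen.mono [0, 17, 14, 1, 11, 3, 12, 18, 6, 15, 9, 10, 20, 4, 2, 21, 13, 5, 19, 22, 7, 16, 8, 23] [0, 3, 14, 5, 13, 17, 8, 20, 22, 10, 11, 4, 6, 16, 2, 9, 21, 1, 7, 18, 12, 15, 19, 23] 0]

def gG : List Gen := [Gen.mono [1, 17, 2, 5, 4, 14, 8, 7, 19, 18, 6, 20, 22, 11, 23, 16, 21, 3, 12, 13, 10, 9, 15, 0] [23, 0, 2, 17, 4, 3, 10, 7, 6, 21, 20, 13, 18, 19, 5, 22, 15, 1, 9, 8, 11, 16, 12, 14] 10554382, Gen.xi, Gen.mono [23, 0, 2, 17, 4, 3, 10, 7, 6, 21, 20, 13, 18, 19, 5, 22, 15, 1, 9, 8, 11, 16, 12, 14] [1, 17, 2, 5, 4, 14, 8, 7, 19, 18, 6, 20, 22, 11, 23, 16, 21, 3, 12, 13, 10, 9, 15, 0] 1302533]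

def gE : List Gen := [Gen.mono [0, 1, 2, 3, 4, 5, 6, 7, 8, 9, 10, 11, 12, 13, 14, 15, 16, 17, 18, 19, 20, 21, 22, 23] [0, 1, 2, 3, 4, 5, 6, 7, 8, 9, 10, 11, 12, 13, 14, 15, 16, 17, 18, 19, 20, 21, 22, 23] 3334270]

def progTab : List (List ℕ) := [
  [],
  [],
  [4, 0, 4, 3],
  [4, 1, 1],
  [4, 0, 2, 0, 4],
  [4, 1],
  [4, 0, 2],
  [4, 0, 4, 0],
  [4, 2, 0, 4],
  [4, 0, 0, 4, 0, 2],
  [4, 1, 1, 4, 2, 0],
  [4, 1, 1, 4, 2, 2],
  [4, 2, 0, 3, 4],
  [4, 1, 1, 4, 2],
  [4, 0, 0, 4, 0, 3],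
  [4, 2, 0, 4, 2, 2],
  [4, 0, 4, 1],
  [4, 0, 2, 0],
  [4, 0, 2, 0, 4, 3],
  [4, 1, 3],
  [4],
  [4, 0, 2, 0, 4, 0],
  [4, 2, 1],
  [4, 0, 4, 1, 3],
  [4, 0, 4, 2, 4],
  [4, 0, 0, 0, 4],
  [4, 0, 2, 4, 1, 1],
  [4, 0, 0, 4, 0, 3, 4],
  [4, 0, 4, 2, 2, 4],
  [4, 0, 0, 4],
  [4, 2, 0, 4, 0],
  [4, 2, 0, 4, 2],
  [4, 0, 0, 0],
  [4, 0, 4, 3, 1],
  [4, 0, 4],
  [4, 0, 2, 1],
  [4, 2, 0],
  [4, 0, 4, 2, 2],
  [4, 0, 4, 1, 2],
  [4, 1, 3, 0],
  [4, 0, 0, 4, 0],
  [4, 2, 0, 4, 3],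
  [4, 1, 3, 4],
  [4, 0, 4, 0, 4],
  [4, 2, 0, 4, 1],
  [4, 0, 0, 4, 2],
  [4, 0, 4, 3, 4],
  [4, 2, 1, 4],
  [4, 0, 4, 0, 2, 0],
  [4, 0, 0],
  [4, 1, 3, 0, 4],
  [4, 2],
  [4, 0, 4, 2],
  [4, 2, 0, 3],
  [4, 0, 4, 0, 2],
  [4, 0],
  [4, 0, 2, 4, 1],
  [4, 0, 4, 2, 4, 2],
  [4, 1, 1, 4],
  [4, 1, 1, 4, 0],
  [4, 1, 1, 4, 3],
  [4, 0, 0, 0, 4, 0],
  [4, 0, 4, 2, 4, 3],
  [4, 0, 2, 4]]


/-- The generators: two coordinate permutations with their inverses, an involution which is not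
monomial, and a sign change. -/
def gensC : List (List Gen) := [gA, gAi, gB, gBi, gG, gE]

theorem gensC_ok : gensC.all inCCb = true := by decide +kernel

/-- The word of a list of indices of generators. -/
def flat (p : List ℕ) : List Gen := p.flatMap (fun i => gensC.getD i [])

theorem flat_nil : flat [] = [] := rfl

theorem flat_cons (i : ℕ) (p : List ℕ) : flat (i :: p) = gensC.getD i [] ++ flat p := rfl

theorem getD_ok (i : ℕ) : (gensC.getD i []).all Gen.ok = true ∧ InCC (wordCo0 (gensC.getD i [])) := by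
  by_cases hi : i < gensC.length
  · rw [List.getD_eq_getElem _ _ hi]
    exact inCC_of_inCCb (List.all_eq_true.1 gensC_ok _ (List.getElem_mem hi))
  · rw [List.getD_eq_default _ _ (by omega)]
    exact ⟨rfl, InCC.one⟩

theorem flat_ok (p : List ℕ) : (flat p).all Gen.ok = true ∧ InCC (wordCo0 (flat p)) := by
  induction p with
  | nil => exact ⟨rfl, InCC.one⟩
  | cons i p ih =>
    rw [flat_cons]
    refine ⟨?_, ?_⟩
    · rw [List.all_append, (getD_ok i).1, ih.1]; rfl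
    · rw [wordCo0_append]
      exact ih.2.mul (getD_ok i).2

/-! ### Coordinates of images -/

theorem forall_six {P : Fin 3 ⊕ Fin 3 → Prop} (h0 : P (Sum.inl 0)) (h1 : P (Sum.inl 1))
    (h2 : P (Sum.inl 2)) (h3 : P (Sum.inr 0)) (h4 : P (Sum.inr 1)) (h5 : P (Sum.inr 2)) :
    ∀ j, P j := by
  intro j
  rcases j with j | j <;> fin_cases j
  · exact h0
  · exact h1
  · exact h2
  · exact h3
  · exact h4
  · exact h5

/-- Encoding of the index type. -/
def enc6 : Fin 3 ⊕ Fin 3 → ℕ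
  | Sum.inl i => i.val
  | Sum.inr i => i.val + 3

/-- The vector with a given bit pattern. -/
def vecOf (n : ℕ) : Fin 3 ⊕ Fin 3 → ZMod 2 := fun k => if n.testBit (enc6 k) then 1 else 0

theorem exists_vecOf (w : Fin 3 ⊕ Fin 3 → ZMod 2) : ∃ n < 64, w = vecOf n := by
  have key : ∀ a0 a1 a2 a3 a4 a5 : ZMod 2,
      a0.val + 2 * a1.val + 4 * a2.val + 8 * a3.val + 16 * a4.val + 32 * a5.val < 64 ∧
      a0 = (if (a0.val + 2 * a1.val + 4 * a2.val + 8 * a3.val + 16 * a4.val + 32 * a5.val).testBit 0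
        then 1 else 0) ∧
      a1 = (if (a0.val + 2 * a1.val + 4 * a2.val + 8 * a3.val + 16 * a4.val + 32 * a5.val).testBit 1
        then 1 else 0) ∧
      a2 = (if (a0.val + 2 * a1.val + 4 * a2.val + 8 * a3.val + 16 * a4.val + 32 * a5.val).testBit 2
        then 1 else 0) ∧
      a3 = (if (a0.val + 2 * a1.val + 4 * a2.val + 8 * a3.val + 16 * a4.val + 32 * a5.val).testBit 3
        then 1 else 0) ∧
      a4 = (if (a0.val + 2 * a1.val + 4 * a2.val + 8 * a3.val + 16 * a4.val + 32 * a5.val).testBit 4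
        then 1 else 0) ∧
      a5 = (if (a0.val + 2 * a1.val + 4 * a2.val + 8 * a3.val + 16 * a4.val + 32 * a5.val).testBit 5
        then 1 else 0) := by
    decide
  obtain ⟨hn, h0, h1, h2, h3, h4, h5⟩ := key (w (Sum.inl 0)) (w (Sum.inl 1)) (w (Sum.inl 2))
    (w (Sum.inr 0)) (w (Sum.inr 1)) (w (Sum.inr 2))
  refine ⟨_, hn, ?_⟩
  revert w
  intro w hn h0 h1 h2 h3 h4 h5
  funext k
  revert k
  apply forall_six
  · exact h0
  · exact h1
  · exact h2
  · exact h3
  · exact h4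
  · exact h5

/-- The coordinates of a list vector form the bit pattern `n`. -/
def chk (y : V) (n : ℕ) : Bool :=
  (bN y (expand dd0) == (n.testBit 0).toNat) && (bN y (expand dd1) == (n.testBit 1).toNat) &&
  (bN y (expand dd2) == (n.testBit 2).toNat) && (bN y (expand dd3) == (n.testBit 3).toNat) &&
  (bN y (expand dd4) == (n.testBit 4).toNat) && (bN y (expand dd5) == (n.testBit 5).toNat)

theorem toNat_cast (b : Bool) : ((b.toNat : ℕ) : ZMod 2) = if b then 1 else 0 := by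
  cases b <;> rfl

theorem cvec_of_chk {y : V} (hy : toFn y ∈ leechLattice) {n : ℕ} (h : chk y n = true) :
    cvec (mkL y) = vecOf n := by
  unfold chk at h
  simp only [Bool.and_eq_true, beq_iff_eq] at h
  obtain ⟨⟨⟨⟨⟨h0, h1⟩, h2⟩, h3⟩, h4⟩, h5⟩ := h
  funext k
  revert k
  apply forall_six
  · show bZ (mkL y) (mkL (expand dd0)) = if n.testBit 0 then 1 else 0
    rw [bZ_mkL hy (expand_L (basis_mem8' (by simp))), h0, toNat_cast]
  · show bZ (mkL y) (mkL (expand dd1)) = if n.testBit 1 then 1 else 0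
    rw [bZ_mkL hy (expand_L (basis_mem8' (by simp))), h1, toNat_cast]
  · show bZ (mkL y) (mkL (expand dd2)) = if n.testBit 2 then 1 else 0
    rw [bZ_mkL hy (expand_L (basis_mem8' (by simp))), h2, toNat_cast]
  · show bZ (mkL y) (mkL (expand dd3)) = if n.testBit 3 then 1 else 0
    rw [bZ_mkL hy (expand_L (basis_mem8' (by simp))), h3, toNat_cast]
  · show bZ (mkL y) (mkL (expand dd4)) = if n.testBit 4 then 1 else 0
    rw [bZ_mkL hy (expand_L (basis_mem8' (by simp))), h4, toNat_cast]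
  · show bZ (mkL y) (mkL (expand dd5)) = if n.testBit 5 then 1 else 0
    rw [bZ_mkL hy (expand_L (basis_mem8' (by simp))), h5, toNat_cast]

theorem smul_mkL (τ : List Gen) (hok : τ.all Gen.ok = true) {l : V} (hl : toFn l ∈ leechLattice) :
    toFn (actWord τ l) ∈ leechLattice ∧ wordCo0 τ • mkL l = mkL (actWord τ l) := by
  have h1 := actWord_spec τ hok l hl
  have h2 : toFn (actWord τ l) ∈ leechLattice := by
    rw [h1]; exact (wordCo0 τ • (⟨toFn l, hl⟩ : leechLattice)).2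
  refine ⟨h2, ?_⟩
  rw [mkL_of_mem h2, mkL_of_mem hl]
  exact Subtype.ext h1.symm

theorem progs_ok : (List.range 64).all
    (fun n => (n == 0) || chk (actWord (flat (progTab.getD n [])) (expand bb0)) n) = true := by
  decide +kernel

theorem vecOf_one : cvec (Bv (Sum.inl 0)) = vecOf 1 := by
  funext k
  rw [cvec_Bv]
  revert k
  apply forall_six <;> decide

theorem image_vec {n : ℕ} (hn : n < 64) (hn0 : n ≠ 0) :
    cvec (wordCo0 (flat (progTab.getD n [])) • Bv (Sum.inl 0)) = vecOf n := by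
  have h := List.all_eq_true.1 progs_ok n (List.mem_range.2 hn)
  rw [Bool.or_eq_true, beq_iff_eq] at h
  rcases h with h | h
  · exact absurd h hn0
  · have hb : toFn (expand bb0) ∈ leechLattice := expand_L (basis_mem8' (by simp))
    obtain ⟨h2, h3⟩ := smul_mkL _ (flat_ok _).1 hb
    have hB : Bv (Sum.inl 0) = mkL (expand bb0) := rfl
    rw [hB, h3]
    exact cvec_of_chk h2 h

/-! ### The transvection -/

theorem Mat_word (τ : List Gen) (hok : τ.all Gen.ok = true) (j : Fin 3 ⊕ Fin 3) {b : List ℤ}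
    (hb : b ∈ Phi8) (hj : Bv j = mkL (expand b)) {n : ℕ}
    (h : chk (actWord τ (expand b)) n = true) (k : Fin 3 ⊕ Fin 3) :
    Mat (wordCo0 τ) k j = vecOf n k := by
  obtain ⟨h2, h3⟩ := smul_mkL τ hok (expand_L hb)
  unfold Mat
  rw [hj, h3, cvec_of_chk h2 h]

/-- The transvection matrix, by entries. -/
theorem transvection_apply (w : Fin 3 ⊕ Fin 3 → ZMod 2) (k j : Fin 3 ⊕ Fin 3) :
    sympTransvection 3 w 1 k j = (if k = j then 1 else 0) + w k * ∑ l, Jtab j l * w l := by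
  unfold sympTransvection
  rw [one_smul, Matrix.add_apply, Matrix.one_apply, Matrix.vecMulVec_apply]
  simp only [Matrix.mulVec, dotProduct, J_eq]

theorem gE_chk : chk (actWord gE (expand bb0)) 1 = true ∧ chk (actWord gE (expand bb1)) 2 = true ∧
    chk (actWord gE (expand bb2)) 4 = true ∧ chk (actWord gE (expand bb3)) 9 = true ∧
    chk (actWord gE (expand bb4)) 16 = true ∧ chk (actWord gE (expand bb5)) 32 = true := by
  decide +kernel

theorem gE_ok : gE.all Gen.ok = true ∧ InCC (wordCo0 gE) := getD_ok 5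

theorem Mat_gE : Mat (wordCo0 gE) = sympTransvection 3 (vecOf 1) 1 := by
  obtain ⟨h0, h1, h2, h3, h4, h5⟩ := gE_chk
  ext k j
  revert k
  revert j
  apply forall_six
  · intro k
    rw [Mat_word gE gE_ok.1 (Sum.inl 0) (basis_mem8' (by simp)) rfl h0, transvection_apply, sum6]
    revert k
    apply forall_six <;> decide
  · intro k
    rw [Mat_word gE gE_ok.1 (Sum.inl 1) (basis_mem8' (by simp)) rfl h1, transvection_apply, sum6]
    revert k
    apply forall_six <;> decide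
  · intro k
    rw [Mat_word gE gE_ok.1 (Sum.inl 2) (basis_mem8' (by simp)) rfl h2, transvection_apply, sum6]
    revert k
    apply forall_six <;> decide
  · intro k
    rw [Mat_word gE gE_ok.1 (Sum.inr 0) (basis_mem8' (by simp)) rfl h3, transvection_apply, sum6]
    revert k
    apply forall_six <;> decide
  · intro k
    rw [Mat_word gE gE_ok.1 (Sum.inr 1) (basis_mem8' (by simp)) rfl h4, transvection_apply, sum6]
    revert k
    apply forall_six <;> decide
  · intro k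
    rw [Mat_word gE gE_ok.1 (Sum.inr 2) (basis_mem8' (by simp)) rfl h5, transvection_apply, sum6]
    revert k
    apply forall_six <;> decide

/-! ### Surjectivity -/

/-- An element of the centralizer from an element of `Co0`. -/
def mkCC (g : Co0) (hg : InCC g) : ↥CC :=
  ⟨⟨g, mem_stabilizer_iff.2 hg.1⟩, Subgroup.mem_centralizer_singleton_iff.2 (Subtype.ext hg.2)⟩

theorem spHom_mkCC (g : Co0) (hg : InCC g) : (spHom (mkCC g hg)).1 = Mat g := rfl

theorem transvection_zero : sympTransvection 3 (0 : Fin 3 ⊕ Fin 3 → ZMod 2) 1 = 1 := by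
  ext k j
  rw [transvection_apply, Matrix.one_apply]
  simp

theorem vecOf_zero : vecOf 0 = 0 := by
  funext k
  simp [vecOf]

theorem good (n : ℕ) (hn : n < 64) :
    ∃ X ∈ spHom.range, (X : Matrix (Fin 3 ⊕ Fin 3) (Fin 3 ⊕ Fin 3) (ZMod 2))
      = sympTransvection 3 (vecOf n) 1 := by
  by_cases hn0 : n = 0
  · refine ⟨1, Subgroup.one_mem _, ?_⟩
    rw [hn0, vecOf_zero, transvection_zero]
    rfl
  · set h := wordCo0 (flat (progTab.getD n [])) with hh
    have hC : InCC h := (flat_ok _).2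
    set a := spHom (mkCC h hC) with ha
    set e := spHom (mkCC (wordCo0 gE) gE_ok.2) with he
    refine ⟨a * e * a⁻¹, ?_, ?_⟩
    · exact Subgroup.mul_mem _ (Subgroup.mul_mem _ ⟨_, rfl⟩ ⟨_, rfl⟩) (Subgroup.inv_mem _ ⟨_, rfl⟩)
    · have h1 : (a * e * a⁻¹ : Matrix.symplecticGroup (Fin 3) (ZMod 2)).1 = a.1 * e.1 * (a⁻¹).1 := rfl
      have h2 : e.1 = sympTransvection 3 (vecOf 1) 1 := by
        rw [he, spHom_mkCC, Mat_gE]
      have h3 : a.1.mulVec (vecOf 1) = vecOf n := by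
        rw [ha, spHom_mkCC, ← vecOf_one, ← cvec_smul hC (Bv_mem _)]
        exact image_vec hn hn0
      have h4 : a.1 * (a⁻¹).1 = 1 := by
        have : (a * a⁻¹ : Matrix.symplecticGroup (Fin 3) (ZMod 2)).1 = a.1 * (a⁻¹).1 := rfl
        rw [← this, mul_inv_cancel]
        rfl
      rw [h1, h2, conj_transvection a.2, h3, Matrix.mul_assoc, h4, Matrix.mul_one]

theorem zmod2_cases (c : ZMod 2) : c = 0 ∨ c = 1 := by
  revert c; decide

theorem spHom_surjective : Function.Surjective spHom := by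
  rw [← MonoidHom.range_eq_top, eq_top_iff, ← Cfsg.Agent.S0765.result 3, Subgroup.closure_le]
  rintro A ⟨w, c, hA⟩
  rcases zmod2_cases c with rfl | rfl
  · have : A = 1 := by
      apply Subtype.ext
      rw [hA]
      unfold sympTransvection
      rw [zero_smul, add_zero]
      rfl
    rw [this]
    exact Subgroup.one_mem _
  · obtain ⟨n, hn, rfl⟩ := exists_vecOf w
    obtain ⟨X, hX, hXm⟩ := good n hn
    have : A = X := Subtype.ext (by rw [hA, hXm])
    rw [this]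
    exact hX

end CentSp

end Cfsg.Agent.Lib.H27
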