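/-
helper27 library: the kernel of `CentSp.spHom` is the extraspecial group `CentSp.Q0`.
-/
import Mathlib
import Cfsg.Agent.Lib.H27.CentSpSurj
import Cfsg.Agent.Lib.H27.CentSpQ2
import Cfsg.Agent.Lib.H27.Co0Order
import Cfsg.Agent.Lib.H14.LargeTransport

set_option autoImplicit false

namespace Cfsg.Agent.Lib.H27

open Cfsg Finset MulAction Cfsg.Agent.Lib.H28 Cfsg.Agent.Lib.H27.Eng

namespace CentSp

open scoped Pointwise

/-! ### Elements of `Q0` lie in the kernel -/

theorem notMem_oct0_cMask {k : GolayPt} (hk : k ∉ oct0) : cMask.testBit (gIdx k) = true := by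
  rw [notMem_oct0_iff] at hk
  have : ∀ z < 24, baseOctad.testBit z = false → cMask.testBit z = true := by decide +kernel
  exact this _ (gIdx_lt k) hk

theorem cMask_notMem_oct0 {k : GolayPt} (hk : cMask.testBit (gIdx k) = true) : k ∉ oct0 := by
  rw [notMem_oct0_iff]
  have : ∀ z < 24, cMask.testBit z = true → baseOctad.testBit z = false := by decide +kernel
  exact this _ (gIdx_lt k) hk

/-- Elements of `Q0` fix the vectors supported on the octad. -/
theorem fix_of_supp {σ : Equiv.Perm GolayPt} (hσ : σ ∈ K0) {w : GolayPt → ZMod 2} (ho : OffOct w)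
    {x : GolayPt → ℤ} (hx : ∀ k, k ∉ oct0 → x k = 0) : signedPerm σ (support₂ w) x = x := by
  funext k
  unfold signedPerm
  by_cases hk : k ∈ oct0
  · have h1 : k ∉ support₂ w := by
      rw [mem_support₂_iff, not_not]
      exact ho k hk
    rw [if_neg h1, K0_symm_fix_oct hσ hk]
  · have h2 : σ.symm k ∉ oct0 := by
      intro h
      apply hk
      have := K0_fix_oct hσ h
      rw [Equiv.apply_symm_apply] at this
      rw [this]
      exact h
    rw [hx k hk, hx _ h2]
    simp

theorem vecU_supp : ∀ k : GolayPt, k ∉ oct0 → Spor.vecU k = 0 := by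
  intro k hk
  have h1 := notMem_oct0_cMask hk
  revert k
  decide +kernel

theorem root_supp {x : leechLattice} (hx : x ∈ PhiSet) :
    ∀ k, k ∉ oct0 → (x : GolayPt → ℤ) k = 0 := by
  intro k hk
  exact (t_fix_iff x).1 hx.2.1 k (notMem_oct0_cMask hk)

theorem Q0_inCC {g : Co0} (hg : g ∈ Q0) : InCC g := by
  refine ⟨?_, tCo0_central hg⟩
  obtain ⟨σ, hσ, w, hw, ho, rfl⟩ := hg
  apply Subtype.ext
  unfold mkQ
  rw [monoCo0_smul]
  exact fix_of_supp hσ ho vecU_supp

theorem Q0_fix_root {g : Co0} (hg : g ∈ Q0) {x : leechLattice} (hx : x ∈ PhiSet) : g • x = x := by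
  obtain ⟨σ, hσ, w, hw, ho, rfl⟩ := hg
  apply Subtype.ext
  unfold mkQ
  rw [monoCo0_smul]
  exact fix_of_supp hσ ho (root_supp hx)

theorem Q0_Mat {g : Co0} (hg : g ∈ Q0) : Mat g = 1 := by
  ext k j
  unfold Mat
  rw [Q0_fix_root hg (Bv_mem j), cvec_Bv, Matrix.one_apply]
  by_cases h : j = k
  · rw [if_pos h, if_pos h.symm]
  · rw [if_neg h, if_neg (fun e => h e.symm)]

/-! ### Elements of the kernel lie in `Q0` -/

theorem pm_of_ker {g : Co0} (hg : InCC g) (hM : Mat g = 1) {x : leechLattice} (hx : x ∈ PhiSet) :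
    g • x = x ∨ g • x = -x := by
  have h1 : cvec (g • x) = cvec x := by rw [cvec_smul hg hx, hM, Matrix.one_mulVec]
  exact pm_of_cvec hx (smul_mem_PhiSet hg hx) h1.symm

/-- An automorphism mapping a vector of the standard cross into the standard cross stabilises it. -/
theorem stabCross_of_mem {g : Co0} {i0 : GolayPt}
    (h : ((g • u8 i0 : leechLattice) : GolayPt → ℤ) ∈ stdCross) : StabCross g := by
  intro v hv
  obtain ⟨z, hz, e⟩ := stdCross_congr (u8_mem_stdCross i0) hv
  apply mem_stdCross_of_congr (g • v).2 _ h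
  · refine ⟨((g • (⟨z, hz⟩ : leechLattice) : leechLattice) : GolayPt → ℤ),
      (g • (⟨z, hz⟩ : leechLattice) : leechLattice).2, ?_⟩
    have e' : u8 i0 - v = (⟨z, hz⟩ : leechLattice) + ⟨z, hz⟩ := by
      apply Subtype.ext
      rw [AddSubgroup.coe_sub, AddSubgroup.coe_add, e, two_nsmul]
    have := congrArg (fun u : leechLattice => (g • u : leechLattice)) e'
    simp only [Co0_smul_sub, Co0_smul_add] at this
    have := congrArg (fun u : leechLattice => (u : GolayPt → ℤ)) this
    simp only [AddSubgroup.coe_sub, AddSubgroup.coe_add] at this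
    rw [this, two_nsmul]
  · rw [Co0_sqNorm]
    exact sqNorm_stdCross hv

/-- Two roots with sum `8 e_1`. -/
def r12p : List ℤ := [0, 4, 4, 0, 0, 0, 0, 0]
def r12m : List ℤ := [0, 4, -4, 0, 0, 0, 0, 0]

theorem r12p_mem : r12p ∈ Phi8 := by decide +kernel
theorem r12m_mem : r12m ∈ Phi8 := by decide +kernel

theorem val_pp : ∀ p : GolayPt, toFn (expand r12p) p + toFn (expand r12m) p
    = (Pi.single (gPt 1) 8 : GolayPt → ℤ) p := by decide +kernel
theorem val_pm : ∀ p : GolayPt, toFn (expand r12p) p + -toFn (expand r12m) p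
    = (Pi.single (gPt 2) 8 : GolayPt → ℤ) p := by decide +kernel
theorem val_mp : ∀ p : GolayPt, -toFn (expand r12p) p + toFn (expand r12m) p
    = (Pi.single (gPt 2) (-8) : GolayPt → ℤ) p := by decide +kernel
theorem val_mm : ∀ p : GolayPt, -toFn (expand r12p) p + -toFn (expand r12m) p
    = (Pi.single (gPt 1) (-8) : GolayPt → ℤ) p := by decide +kernel

theorem u8_one_eq : u8 (gPt 1) = mkL (expand r12p) + mkL (expand r12m) := by
  apply Subtype.ext
  rw [AddSubgroup.coe_add, mkL_val (expand_L r12p_mem), mkL_val (expand_L r12m_mem)]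
  funext p
  exact (val_pp p).symm

theorem ker_stabCross {g : Co0} (hg : InCC g) (hM : Mat g = 1) : StabCross g := by
  apply stabCross_of_mem (i0 := gPt 1)
  rw [u8_one_eq, Co0_smul_add, AddSubgroup.coe_add]
  have hp := mkL_val (expand_L r12p_mem)
  have hm := mkL_val (expand_L r12m_mem)
  rcases pm_of_ker hg hM (mkL_expand_mem r12p_mem) with h1 | h1 <;>
    rcases pm_of_ker hg hM (mkL_expand_mem r12m_mem) with h2 | h2 <;> rw [h1, h2]
  · refine ⟨gPt 1, 8, Or.inl rfl, ?_⟩
    rw [hp, hm]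
    funext p
    exact val_pp p
  · refine ⟨gPt 2, 8, Or.inl rfl, ?_⟩
    rw [AddSubgroup.coe_neg, hp, hm]
    funext p
    exact val_pm p
  · refine ⟨gPt 2, -8, Or.inr rfl, ?_⟩
    rw [AddSubgroup.coe_neg, hp, hm]
    funext p
    exact val_mp p
  · refine ⟨gPt 1, -8, Or.inr rfl, ?_⟩
    rw [AddSubgroup.coe_neg, AddSubgroup.coe_neg, hp, hm]
    funext p
    exact val_mm p

theorem signedPerm_apply_image (σ : Equiv.Perm GolayPt) (c : Finset GolayPt) (x : GolayPt → ℤ)
    (p : GolayPt) : signedPerm σ c x (σ p) = if σ p ∈ c then -x p else x p := by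
  unfold signedPerm
  rw [Equiv.symm_apply_apply]

section Mono

variable {g : Co0} {σ : Equiv.Perm GolayPt} {c : Finset GolayPt}
  (hgv : ∀ v : leechLattice, ((g • v : leechLattice) : GolayPt → ℤ) = signedPerm σ c (v : GolayPt → ℤ))
include hgv

theorem supp_image {x : leechLattice} (hx : g • x = x ∨ g • x = -x) {p : GolayPt}
    (hp : (x : GolayPt → ℤ) p ≠ 0) : (x : GolayPt → ℤ) (σ p) ≠ 0 := by
  have h1 := congrFun (hgv x) (σ p)
  rw [signedPerm_apply_image] at h1
  rcases hx with h | h <;> rw [h] at h1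
  · split_ifs at h1 <;> omega
  · rw [AddSubgroup.coe_neg, Pi.neg_apply] at h1
    split_ifs at h1 <;> omega

theorem fix_pt (hpm : ∀ x ∈ PhiSet, g • x = x ∨ g • x = -x) (i : ℕ) (a1 a2 : List ℤ)
    (h1 : a1 ∈ Phi8) (h2 : a2 ∈ Phi8)
    (hsupp : ∀ k : GolayPt, toFn (expand a1) k ≠ 0 → toFn (expand a2) k ≠ 0 → k = gPt i)
    (hp1 : toFn (expand a1) (gPt i) ≠ 0) (hp2 : toFn (expand a2) (gPt i) ≠ 0) :
    σ (gPt i) = gPt i := by
  apply hsupp
  · have := supp_image hgv (hpm _ (mkL_expand_mem h1)) (p := gPt i)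
      (by rw [mkL_val (expand_L h1)]; exact hp1)
    rwa [mkL_val (expand_L h1)] at this
  · have := supp_image hgv (hpm _ (mkL_expand_mem h2)) (p := gPt i)
      (by rw [mkL_val (expand_L h2)]; exact hp2)
    rwa [mkL_val (expand_L h2)] at this

end Mono

/-- The pairs of roots meeting in a single point of the octad. -/
def pairTab : List (ℕ × List ℤ × List ℤ) := [
  (1, [0, 4, 4, 0, 0, 0, 0, 0], [0, 4, 0, 4, 0, 0, 0, 0]),
  (2, [0, 4, 4, 0, 0, 0, 0, 0], [0, 0, 4, 4, 0, 0, 0, 0]),
  (3, [0, 4, 0, 4, 0, 0, 0, 0], [0, 0, 4, 4, 0, 0, 0, 0]),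
  (5, [0, 4, 0, 0, 4, 0, 0, 0], [0, 0, 4, 0, 4, 0, 0, 0]),
  (14, [0, 4, 0, 0, 0, 4, 0, 0], [0, 0, 4, 0, 0, 4, 0, 0]),
  (17, [0, 4, 0, 0, 0, 0, 4, 0], [0, 0, 4, 0, 0, 0, 4, 0])]

theorem pairTab_ok : ∀ e ∈ pairTab, e.2.1 ∈ Phi8 ∧ e.2.2 ∈ Phi8 ∧
    (∀ k : GolayPt, toFn (expand e.2.1) k ≠ 0 → toFn (expand e.2.2) k ≠ 0 → k = gPt e.1) ∧
    toFn (expand e.2.1) (gPt e.1) ≠ 0 ∧ toFn (expand e.2.2) (gPt e.1) ≠ 0 := by
  decide +kernel

theorem pairTab_fst : ∀ i ∈ [1, 2, 3, 5, 14, 17], ∃ e ∈ pairTab, e.1 = i := by decide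

/-- No element of `M24` induces a transposition on the base octad. -/
theorem no_swap {σ : Equiv.Perm GolayPt} (hσ : σ ∈ M24)
    (h6 : ∀ i ∈ [1, 2, 3, 5, 14, 17], σ (gPt i) = gPt i) (h23 : σ (gPt 23) = gPt 0)
    (h0 : σ (gPt 0) = gPt 23) : False := by
  classical
  have hmem : ∀ j ∈ octPts, gPt j ∈ oct0 := by
    intro j hj
    have hj24 : j < 24 := by
      have : ∀ j ∈ octPts, j < 24 := by decide
      exact this j hj
    rw [mem_oct0_iff, gIdx_gPt hj24]
    exact hj
  have himg : ∀ i ∈ octPts, σ (gPt i) ∈ oct0 := by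
    intro i hi
    simp only [octPts, List.mem_cons, List.not_mem_nil, or_false] at hi
    rcases hi with rfl | rfl | rfl | rfl | rfl | rfl | rfl | rfl
    · rw [h0]; exact hmem 23 (by decide)
    · rw [h6 1 (by decide)]; exact hmem 1 (by decide)
    · rw [h6 2 (by decide)]; exact hmem 2 (by decide)
    · rw [h6 3 (by decide)]; exact hmem 3 (by decide)
    · rw [h6 5 (by decide)]; exact hmem 5 (by decide)
    · rw [h6 14 (by decide)]; exact hmem 14 (by decide)
    · rw [h6 17 (by decide)]; exact hmem 17 (by decide)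
    · rw [h23]; exact hmem 0 (by decide)
  have hsm : σ • oct0 = oct0 := by
    apply Finset.eq_of_subset_of_card_le
    · intro p hp
      rw [Finset.mem_smul_finset] at hp
      obtain ⟨q, hq, rfl⟩ := hp
      rw [Equiv.Perm.smul_def]
      have := himg (gIdx q) (mem_oct0_iff.1 hq)
      rwa [gPt_gIdx] at this
    · rw [Finset.card_smul_finset]
  have hiff := mem_iff_of_smul_finset_eq hsm
  have halt : σ.subtypePerm hiff ∈ alternatingGroup ↥oct0 := by
    have := octad_stabilizer_induces_alternating oct0_mem_octads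
    rw [Set.ext_iff] at this
    exact (this (σ.subtypePerm hiff)).1 ⟨σ, hσ, hiff, rfl⟩
  rw [Equiv.Perm.mem_alternatingGroup] at halt
  have hswap : σ.subtypePerm hiff = Equiv.swap (⟨gPt 23, hmem 23 (by decide)⟩ : ↥oct0)
      ⟨gPt 0, hmem 0 (by decide)⟩ := by
    apply Equiv.ext
    rintro ⟨x, hx⟩
    apply Subtype.ext
    rw [Equiv.Perm.subtypePerm_apply]
    have hx' := mem_oct0_iff.1 hx
    have hxe : x = gPt (gIdx x) := (gPt_gIdx x).symm
    simp only [octPts, List.mem_cons, List.not_mem_nil, or_false] at hx'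
    have hne : ∀ i j : ℕ, i < 24 → j < 24 → i ≠ j → gPt i ≠ gPt j := by
      intro i j hi hj hij h
      apply hij
      have := congrArg gIdx h
      rwa [gIdx_gPt hi, gIdx_gPt hj] at this
    have key : ∀ i : ℕ, i < 24 → i ≠ 23 → i ≠ 0 → x = gPt i → σ (gPt i) = gPt i →
        σ x = ((Equiv.swap (⟨gPt 23, hmem 23 (by decide)⟩ : ↥oct0) ⟨gPt 0, hmem 0 (by decide)⟩)
          ⟨x, hx⟩ : ↥oct0).1 := by
      intro i hi h23' h0' hxi hfix
      rw [Equiv.swap_apply_of_ne_of_ne]
      · show σ x = x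
        rw [hxi, hfix]
      · intro h
        have := congrArg Subtype.val h
        simp only at this
        rw [hxi] at this
        exact hne i 23 hi (by norm_num) h23' this
      · intro h
        have := congrArg Subtype.val h
        simp only at this
        rw [hxi] at this
        exact hne i 0 hi (by norm_num) h0' this
    rcases hx' with h | h | h | h | h | h | h | h
    · have hx0 : (⟨x, hx⟩ : ↥oct0) = ⟨gPt 0, hmem 0 (by decide)⟩ :=
        Subtype.ext (by show x = gPt 0; rw [hxe, h])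
      rw [hx0, Equiv.swap_apply_right]
      exact h0
    · exact key 1 (by norm_num) (by norm_num) (by norm_num) (by rw [hxe, h]) (h6 1 (by decide))
    · exact key 2 (by norm_num) (by norm_num) (by norm_num) (by rw [hxe, h]) (h6 2 (by decide))
    · exact key 3 (by norm_num) (by norm_num) (by norm_num) (by rw [hxe, h]) (h6 3 (by decide))
    · exact key 5 (by norm_num) (by norm_num) (by norm_num) (by rw [hxe, h]) (h6 5 (by decide))
    · exact key 14 (by norm_num) (by norm_num) (by norm_num) (by rw [hxe, h]) (h6 14 (by decide))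
    · exact key 17 (by norm_num) (by norm_num) (by norm_num) (by rw [hxe, h]) (h6 17 (by decide))
    · have hx0 : (⟨x, hx⟩ : ↥oct0) = ⟨gPt 23, hmem 23 (by decide)⟩ :=
        Subtype.ext (by show x = gPt 23; rw [hxe, h])
      rw [hx0, Equiv.swap_apply_left]
      exact h23
  rw [hswap, Equiv.Perm.sign_swap] at halt
  · exact absurd halt (by decide)
  · intro h
    have := congrArg Subtype.val h
    simp only at this
    have := congrArg gIdx this
    rw [gIdx_gPt (by norm_num), gIdx_gPt (by norm_num)] at this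
    exact absurd this (by norm_num)

theorem gPt_23 : gPt 23 = none := by decide
theorem gPt_0 : gPt 0 = some 0 := by decide

theorem vecU_ne {p : GolayPt} (h : Spor.vecU p ≠ 0) : p = gPt 23 ∨ p = gPt 0 := by
  unfold Spor.vecU at h
  by_cases hp : p = none ∨ p = some 0
  · rw [gPt_23, gPt_0]; exact hp
  · rw [if_neg hp] at h
    exact absurd rfl h

theorem vecU_23 : Spor.vecU (gPt 23) = 4 := by decide
theorem vecU_0 : Spor.vecU (gPt 0) = 4 := by decide

theorem bb3_vals : toFn (expand bb3) (gPt 23) = -2 ∧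
    ∀ i ∈ [1, 2, 3, 5, 14, 17], toFn (expand bb3) (gPt i) ≠ 0 := by decide +kernel

theorem bb3_mem : bb3 ∈ Phi8 := basis_mem8' (by simp)

/-- Elements of the kernel lie in `Q0`. -/
theorem ker_le_Q0 {g : Co0} (hg : InCC g) (hM : Mat g = 1) : g ∈ Q0 := by
  have hpm : ∀ x ∈ PhiSet, g • x = x ∨ g • x = -x := fun x hx => pm_of_ker hg hM hx
  obtain ⟨σ, hσ, w, hw, hgv⟩ := stab_monomial (ker_stabCross hg hM)
  -- the six points
  have h6 : ∀ i ∈ [1, 2, 3, 5, 14, 17], σ (gPt i) = gPt i := by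
    intro i hi
    obtain ⟨e, he, rfl⟩ := pairTab_fst i hi
    obtain ⟨h1, h2, h3, h4, h5⟩ := pairTab_ok e he
    exact fix_pt hgv hpm e.1 e.2.1 e.2.2 h1 h2 h3 h4 h5
  -- the two points
  have hU : ∀ p : GolayPt, Spor.vecU p ≠ 0 → Spor.vecU (σ p) ≠ 0 := by
    intro p hp
    exact supp_image hgv (x := Spor.leechU) (Or.inl hg.1) hp
  have h23 : σ (gPt 23) = gPt 23 ∨ σ (gPt 23) = gPt 0 :=
    vecU_ne (hU _ (by rw [vecU_23]; norm_num))
  have h0 : σ (gPt 0) = gPt 23 ∨ σ (gPt 0) = gPt 0 :=
    vecU_ne (hU _ (by rw [vecU_0]; norm_num))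
  have hne : gPt 23 ≠ gPt 0 := by decide
  have h23' : σ (gPt 23) = gPt 23 := by
    rcases h23 with h | h
    · exact h
    · exfalso
      rcases h0 with h' | h'
      · exact no_swap hσ h6 h h'
      · exact hne (σ.injective (h.trans h'.symm))
  have h0' : σ (gPt 0) = gPt 0 := by
    rcases h0 with h | h
    · exact absurd (σ.injective (h.trans h23'.symm)) (Ne.symm hne)
    · exact h
  have hσK : σ ∈ K0 := by
    unfold K0
    rw [mem_fixSub]
    refine ⟨hσ, ?_⟩
    intro k hk
    simp only [List.mem_cons, List.not_mem_nil, or_false] at hk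
    rcases hk with rfl | rfl | rfl | rfl | rfl | rfl
    · exact h6 5 (by decide)
    · exact h6 3 (by decide)
    · exact h6 2 (by decide)
    · exact h6 1 (by decide)
    · exact h0'
    · exact h23'
  -- the signs
  have hsign : ∀ (x : leechLattice) (p : GolayPt), g • x = x → σ p = p → (x : GolayPt → ℤ) p ≠ 0 →
      w p = 0 := by
    intro x p hx hp hne
    have h1 := congrFun (hgv x) (σ p)
    rw [signedPerm_apply_image, hx, hp] at h1
    by_contra hw0
    rw [if_pos ((mem_support₂_iff w p).2 hw0)] at h1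
    omega
  have hb3 := mkL_val (expand_L bb3_mem)
  have hfix3 : g • mkL (expand bb3) = mkL (expand bb3) := by
    rcases hpm _ (mkL_expand_mem bb3_mem) with h | h
    · exact h
    · exfalso
      have h1 := congrFun (hgv (mkL (expand bb3))) (σ (gPt 23))
      rw [signedPerm_apply_image, h, h23', AddSubgroup.coe_neg, Pi.neg_apply, hb3, bb3_vals.1] at h1
      have hw23 : w (gPt 23) = 0 := hsign Spor.leechU (gPt 23) hg.1 h23' (by
        show Spor.vecU (gPt 23) ≠ 0
        rw [vecU_23]; norm_num)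
      have : gPt 23 ∉ support₂ w := by
        rw [mem_support₂_iff, not_not]; exact hw23
      rw [if_neg this] at h1
      omega
  have hoff : OffOct w := by
    intro k hk
    have hk' := mem_oct0_iff.1 hk
    rw [← gPt_gIdx k]
    simp only [octPts, List.mem_cons, List.not_mem_nil, or_false] at hk'
    have h6' : ∀ i ∈ [1, 2, 3, 5, 14, 17], w (gPt i) = 0 := by
      intro i hi
      apply hsign _ _ hfix3 (h6 i hi)
      rw [hb3]
      exact bb3_vals.2 i hi
    rcases hk' with h | h | h | h | h | h | h | h <;> rw [h]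
    · exact hsign Spor.leechU (gPt 0) hg.1 h0' (by
        show Spor.vecU (gPt 0) ≠ 0
        rw [vecU_0]; norm_num)
    · exact h6' 1 (by decide)
    · exact h6' 2 (by decide)
    · exact h6' 3 (by decide)
    · exact h6' 5 (by decide)
    · exact h6' 14 (by decide)
    · exact h6' 17 (by decide)
    · exact hsign Spor.leechU (gPt 23) hg.1 h23' (by
        show Spor.vecU (gPt 23) ≠ 0
        rw [vecU_23]; norm_num)
  refine ⟨σ, hσK, w, hw, hoff, ?_⟩
  apply Co0_ext
  intro v
  rw [hgv v]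
  rfl

/-! ### The kernel -/

/-- The kernel is isomorphic to `Q0`. -/
noncomputable def kerHom : ↥spHom.ker →* ↥Q0 where
  toFun a := ⟨a.1.1.1, ker_le_Q0 (inCC_of_mem a.1) (by
    have := MonoidHom.mem_ker.1 a.2
    have h2 := congrArg Subtype.val this
    exact h2)⟩
  map_one' := rfl
  map_mul' _ _ := rfl

theorem kerHom_bijective : Function.Bijective kerHom := by
  constructor
  · intro a b h
    have h1 : (kerHom a).1 = (kerHom b).1 := congrArg Subtype.val h
    exact Subtype.ext (Subtype.ext (Subtype.ext h1))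
  · rintro ⟨g, hg⟩
    refine ⟨⟨mkCC g (Q0_inCC hg), ?_⟩, rfl⟩
    rw [MonoidHom.mem_ker]
    apply Subtype.ext
    rw [spHom_mkCC, Q0_Mat hg]
    rfl

theorem ker_extraspecial : IsExtraspecial 2 ↥spHom.ker := by
  have : Fact (Nat.Prime 2) := ⟨Nat.prime_two⟩
  exact Cfsg.Agent.Lib.H14.LargeTransport.isExtraspecial_of_mulEquiv 2
    (MulEquiv.ofBijective kerHom kerHom_bijective).symm Q0_extraspecial

theorem card_ker : Nat.card ↥spHom.ker = 2 ^ 9 := by
  rw [Nat.card_eq_of_bijective kerHom kerHom_bijective, card_Q0]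

end CentSp

end Cfsg.Agent.Lib.H27
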