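/-
helper27 library: the kernel of `CentO.oHom` consists of the elements `±q`, `q ∈ CentSp.Q0`.
-/
import Mathlib
import Cfsg.Agent.Lib.H27.CentOIso
import Cfsg.Agent.Lib.H27.CentSpKer

set_option autoImplicit false

namespace Cfsg.Agent.Lib.H27

open Cfsg Finset MulAction Cfsg.Agent.Lib.H28 Cfsg.Agent.Lib.H27.Eng

namespace CentO

open CentSp

/-! ### Negation -/

theorem chkNegO : R8.all (fun a => R8.contains (a.map (fun x => -x)) &&
    (cvecO (a.map (fun x => -x)) == cvecO a)) = true := by decide +kernel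

theorem chkNegS : Phi8.all (fun a => Phi8.contains (a.map (fun x => -x)) &&
    (cvec8 (a.map (fun x => -x)) == cvec8 a)) = true := by decide +kernel

theorem neg_mem_RSet {x : leechLattice} (hx : x ∈ RSet) : -x ∈ RSet := by
  obtain ⟨a, ha, rfl⟩ := exists_list8O hx
  have h := List.all_eq_true.1 chkNegO a ha
  rw [Bool.and_eq_true] at h
  rw [← mkL_map_neg (expand_LO ha), ← expand_neg (len8_of_memO ha)]
  exact mkL_expand_memO (List.contains_iff_mem.1 h.1)

theorem ocvec_neg {x : leechLattice} (hx : x ∈ RSet) : ocvec (-x) = ocvec x := by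
  obtain ⟨a, ha, rfl⟩ := exists_list8O hx
  have h := List.all_eq_true.1 chkNegO a ha
  rw [Bool.and_eq_true, beq_iff_eq] at h
  obtain ⟨h1, h2⟩ := h
  have hm := List.contains_iff_mem.1 h1
  rw [← mkL_map_neg (expand_LO ha), ← expand_neg (len8_of_memO ha), ocvec_8 hm, ocvec_8 ha]
  unfold cvecO at h2
  simp only [List.cons.injEq, and_true] at h2
  obtain ⟨e0, e1, e2, e3, e4, e5, e6, e7⟩ := h2
  rw [e0, e1, e2, e3, e4, e5, e6, e7]

theorem cvec_neg {x : leechLattice} (hx : x ∈ PhiSet) : cvec (-x) = cvec x := by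
  obtain ⟨a, ha, rfl⟩ := exists_list8 hx
  have h := List.all_eq_true.1 chkNegS a ha
  rw [Bool.and_eq_true, beq_iff_eq] at h
  obtain ⟨h1, h2⟩ := h
  have hm := List.contains_iff_mem.1 h1
  rw [← mkL_map_neg (expand_L ha), ← expand_neg (len8_of_mem ha), cvec_8 hm, cvec_8 ha]
  unfold cvec8 at h2
  simp only [List.cons.injEq, and_true] at h2
  obtain ⟨e0, e1, e2, e3, e4, e5⟩ := h2
  rw [e0, e1, e2, e3, e4, e5]

theorem negCo0_smul' (v : leechLattice) : negCo0 • v = -v :=
  Subtype.ext (negCo0_smul v)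

theorem InC0_neg : InC0 negCo0 := (negCo0_central tCo0).symm

theorem oMat_neg : oMat negCo0 = 1 := by
  ext k j
  unfold oMat
  rw [negCo0_smul', ocvec_neg (OBv_mem j), ocvec_OBv, Matrix.one_apply]
  by_cases h : j = k
  · rw [if_pos h, if_pos h.symm]
  · rw [if_neg h, if_neg (fun e => h e.symm)]

/-! ### Elements of `Q0` lie in the kernel -/

theorem root_suppO {x : leechLattice} (hx : x ∈ RSet) :
    ∀ k, k ∉ oct0 → (x : GolayPt → ℤ) k = 0 := by
  intro k hk
  exact (t_fix_iff x).1 hx.2 k (notMem_oct0_cMask hk)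

theorem Q0_inC0 {g : Co0} (hg : g ∈ Q0) : InC0 g := tCo0_central hg

theorem Q0_fix_rootO {g : Co0} (hg : g ∈ Q0) {x : leechLattice} (hx : x ∈ RSet) : g • x = x := by
  obtain ⟨σ, hσ, w, hw, ho, rfl⟩ := hg
  apply Subtype.ext
  unfold mkQ
  rw [monoCo0_smul]
  exact fix_of_supp hσ ho (root_suppO hx)

theorem Q0_oMat {g : Co0} (hg : g ∈ Q0) : oMat g = 1 := by
  ext k j
  unfold oMat
  rw [Q0_fix_rootO hg (OBv_mem j), ocvec_OBv, Matrix.one_apply]
  by_cases h : j = k
  · rw [if_pos h, if_pos h.symm]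
  · rw [if_neg h, if_neg (fun e => h e.symm)]

theorem negQ0_oMat {g : Co0} (hg : negCo0 * g ∈ Q0) (hc : InC0 g) : oMat g = 1 := by
  have h1 := Q0_oMat hg
  rw [oMat_mul InC0_neg hc, oMat_neg, Matrix.one_mul] at h1
  exact h1

/-! ### Elements of the kernel -/

theorem PhiSet_sub {x : leechLattice} (hx : x ∈ PhiSet) : x ∈ RSet := ⟨hx.1, hx.2.1⟩

theorem leechU_mem : Spor.leechU ∈ RSet := by
  refine ⟨?_, tCo0_smul_U⟩
  show sqNorm Spor.vecU = 32
  decide +kernel

theorem pm_of_kerO {g : Co0} (hg : InC0 g) (hM : oMat g = 1) {x : leechLattice} (hx : x ∈ RSet) :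
    g • x = x ∨ g • x = -x := by
  have h1 : ocvec (g • x) = ocvec x := by rw [ocvec_smul hg hx, hM, Matrix.one_mulVec]
  exact pm_of_ocvec hx (smul_mem_RSet hg hx) h1.symm

theorem ker_fix {g : Co0} (hg : InC0 g) (hM : oMat g = 1) (hU : g • Spor.leechU = Spor.leechU) :
    g ∈ Q0 := by
  have hCC : InCC g := ⟨hU, hg⟩
  apply ker_le_Q0 hCC
  ext k j
  unfold Mat
  rcases pm_of_kerO hg hM (PhiSet_sub (Bv_mem j)) with h | h
  · rw [h, cvec_Bv, Matrix.one_apply]
    by_cases e : j = k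
    · rw [if_pos e, if_pos e.symm]
    · rw [if_neg e, if_neg (fun e' => e e'.symm)]
  · rw [h, cvec_neg (Bv_mem j), cvec_Bv, Matrix.one_apply]
    by_cases e : j = k
    · rw [if_pos e, if_pos e.symm]
    · rw [if_neg e, if_neg (fun e' => e e'.symm)]

/-- The kernel consists of the elements `±q` with `q ∈ Q0`. -/
theorem ker_char {g : Co0} (hg : InC0 g) : oMat g = 1 ↔ (g ∈ Q0 ∨ negCo0 * g ∈ Q0) := by
  constructor
  · intro hM
    rcases pm_of_kerO hg hM leechU_mem with h | h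
    · exact Or.inl (ker_fix hg hM h)
    · right
      apply ker_fix (InC0_neg.mul hg)
      · rw [oMat_mul InC0_neg hg, oMat_neg, hM, Matrix.one_mul]
      · rw [mul_smul, h, negCo0_smul', neg_neg]
  · rintro (h | h)
    · exact Q0_oMat h
    · exact negQ0_oMat h hg

theorem negCo0_notMem_Q0 : negCo0 ∉ Q0 := by
  intro h
  have h1 := (Q0_inCC h).1
  rw [negCo0_smul'] at h1
  have h2 := congrFun (congrArg Subtype.val h1) (gPt 0)
  rw [AddSubgroup.coe_neg, Pi.neg_apply] at h2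
  have h3 : (Spor.leechU : GolayPt → ℤ) (gPt 0) = 4 := vecU_0
  rw [h3] at h2
  norm_num at h2

end CentO

end Cfsg.Agent.Lib.H27
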