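/-
helper27 library: the sign change `t` off the base octad is not conjugate in `Co0` to `-t`
(the fixed lattices have ranks 8 and 16), and the projection to `Co1 = Co0 / {±1}`.
-/
import Mathlib
import Cfsg.Prelude.Def_Spor_Conway
import Cfsg.Agent.Lib.H27.CentOKer
import Cfsg.Agent.Lib.H27.Co0Center
import Cfsg.Agent.Lib.H27.Co0Mod2

set_option autoImplicit false

namespace Cfsg.Agent.Lib.H27

open Cfsg Finset MulAction Cfsg.Agent.Lib.H28 Cfsg.Agent.Lib.H27.Eng

namespace CentO

open CentSp

/-! ### A rank argument -/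

theorem no_orth {m n : Type} [Fintype m] [Fintype n] [DecidableEq m] (A : Matrix m n ℚ) (c : ℚ)
    (hc : c ≠ 0) (h : A * A.transpose = c • (1 : Matrix m m ℚ))
    (hlt : Fintype.card n < Fintype.card m) : False := by
  have h1 : A * (c⁻¹ • A.transpose) = 1 := by
    rw [Matrix.mul_smul, h, smul_smul, inv_mul_cancel₀ hc, one_smul]
  have h2 := Matrix.rank_mul_le_left A (c⁻¹ • A.transpose)
  rw [h1, Matrix.rank_one] at h2
  have h3 := Matrix.rank_le_card_width A
  omega

/-- The points of the base octad. -/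
abbrev InPt := {k : GolayPt // cMask.testBit (gIdx k) = false}

/-- The points off the base octad. -/
abbrev OutPt := {k : GolayPt // cMask.testBit (gIdx k) = true}

theorem card_InPt : Fintype.card InPt = 8 := by decide +kernel

theorem card_OutPt : Fintype.card OutPt = 16 := by decide +kernel

theorem sum_inPt (F : GolayPt → ℚ) (hF : ∀ k, cMask.testBit (gIdx k) = true → F k = 0) :
    ∑ k, F k = ∑ k : InPt, F k.1 := by
  rw [← Finset.sum_subtype (Finset.univ.filter (fun k => cMask.testBit (gIdx k) = false))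
    (by intro x; simp) F]
  symm
  apply Finset.sum_subset (Finset.filter_subset _ _)
  intro k _ hk
  rw [Finset.mem_filter, not_and] at hk
  have := hk (Finset.mem_univ k)
  rw [Bool.not_eq_false] at this
  exact hF k this

/-! ### `t` and `-t` are not conjugate -/

theorem tCo0_smul_u8 {p : GolayPt} (hp : cMask.testBit (gIdx p) = true) :
    tCo0 • u8 p = -u8 p := by
  apply Subtype.ext
  funext k
  unfold tCo0
  rw [signCo0_smul]
  show (if k ∈ support₂ tW then -(Pi.single p (8 : ℤ) : GolayPt → ℤ) k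
    else (Pi.single p (8 : ℤ) : GolayPt → ℤ) k) = -(Pi.single p (8 : ℤ) : GolayPt → ℤ) k
  by_cases hk : k = p
  · subst hk
    rw [if_pos ((mem_supp_tW k).2 hp)]
  · rw [Pi.single_apply, if_neg hk]
    simp

theorem dot_u8 (p q : GolayPt) :
    dotInt ((u8 p : leechLattice) : GolayPt → ℤ) ((u8 q : leechLattice) : GolayPt → ℤ)
      = if p = q then 64 else 0 := by
  unfold dotInt
  show ∑ i, (Pi.single p (8 : ℤ) : GolayPt → ℤ) i * (Pi.single q (8 : ℤ) : GolayPt → ℤ) i = _
  rw [Finset.sum_eq_single p]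
  · rw [Pi.single_eq_same, Pi.single_apply]
    by_cases h : p = q
    · rw [if_pos h, if_pos h]; norm_num
    · rw [if_neg h, if_neg h]; norm_num
  · intro b _ hb
    rw [Pi.single_apply, if_neg hb, zero_mul]
  · intro h
    exact absurd (Finset.mem_univ p) h

/-- `t` is not conjugate to `-t`. -/
theorem no_conj_neg (g : Co0) (h : g * tCo0 = negCo0 * (tCo0 * g)) : False := by
  -- the images under `g⁻¹` of the vectors `8 e_p`, `p` off the octad
  have hfix : ∀ p : OutPt, tCo0 • (g⁻¹ • u8 p.1) = g⁻¹ • u8 p.1 := by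
    intro p
    have e : tCo0 * g⁻¹ = g⁻¹ * (negCo0 * tCo0) := by
      have h1 : g * tCo0 * g⁻¹ = negCo0 * tCo0 := by
        rw [h]; group
      rw [← h1]; group
    rw [← mul_smul, e, mul_smul, mul_smul, tCo0_smul_u8 p.2, negCo0_smul', neg_neg]
  have hzero : ∀ (p : OutPt) (k : GolayPt), cMask.testBit (gIdx k) = true →
      ((g⁻¹ • u8 p.1 : leechLattice) : GolayPt → ℤ) k = 0 :=
    fun p => (t_fix_iff _).1 (hfix p)
  let A : Matrix OutPt InPt ℚ := fun p k => (((g⁻¹ • u8 p.1 : leechLattice) : GolayPt → ℤ) k.1 : ℚ)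
  have hA : A * A.transpose = (64 : ℚ) • (1 : Matrix OutPt OutPt ℚ) := by
    ext p q
    rw [Matrix.mul_apply, Matrix.smul_apply, Matrix.one_apply]
    have h1 := Co0_dot g⁻¹ (u8 p.1) (u8 q.1)
    rw [dot_u8] at h1
    unfold dotInt at h1
    have h2 : (∑ i, (((g⁻¹ • u8 p.1 : leechLattice) : GolayPt → ℤ) i : ℚ) *
        (((g⁻¹ • u8 q.1 : leechLattice) : GolayPt → ℤ) i : ℚ)) = if p.1 = q.1 then 64 else 0 := by
      have := congrArg (fun x : ℤ => (x : ℚ)) h1
      simp only [Int.cast_sum, Int.cast_mul] at this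
      rw [this]
      split_ifs <;> norm_num
    rw [sum_inPt] at h2
    · show ∑ k : InPt, A p k * A q k = _
      rw [h2]
      by_cases hpq : p = q
      · rw [if_pos hpq, if_pos (congrArg Subtype.val hpq)]; simp
      · rw [if_neg hpq, if_neg (fun e => hpq (Subtype.ext e))]; simp
    · intro k hk
      rw [hzero p k hk]
      simp
  exact no_orth A 64 (by norm_num) hA (by rw [card_InPt, card_OutPt]; norm_num)

/-! ### The projection to `Co1` -/

/-- The projection of `Co0` onto `Co1`. -/
noncomputable def pr : Co0 →* Spor.Co1 := QuotientGroup.mk' (Subgroup.center Co0)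

theorem pr_surj : Function.Surjective pr := QuotientGroup.mk'_surjective _

theorem pr_eq_one {x : Co0} : pr x = 1 ↔ x = 1 ∨ x = negCo0 := by
  unfold pr
  rw [QuotientGroup.mk'_apply, QuotientGroup.eq_one_iff]
  constructor
  · intro h
    exact center_cases h
  · rintro (rfl | rfl)
    · exact Subgroup.one_mem _
    · exact negCo0_mem_center

theorem pr_neg : pr negCo0 = 1 := pr_eq_one.2 (Or.inr rfl)

theorem pr_eq {x y : Co0} : pr x = pr y ↔ x = y ∨ x = negCo0 * y := by
  have h : pr x = pr y ↔ pr (x * y⁻¹) = 1 := by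
    rw [map_mul, map_inv, mul_inv_eq_one]
  rw [h, pr_eq_one]
  constructor
  · rintro (h1 | h1)
    · left
      exact mul_inv_eq_one.1 h1
    · right
      rw [← h1]
      group
  · rintro (rfl | rfl)
    · left
      exact mul_inv_cancel _
    · right
      group

theorem finite_Co1 : Finite Spor.Co1 := Finite.of_surjective pr pr_surj

/-- The involution of `Co1`. -/
noncomputable def z1 : Spor.Co1 := pr tCo0

theorem tCo0_ne_neg : tCo0 ≠ negCo0 := by
  intro h
  have h1 := tCo0_smul_U
  rw [h, negCo0_smul'] at h1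
  have h2 := congrFun (congrArg Subtype.val h1) (gPt 0)
  rw [AddSubgroup.coe_neg, Pi.neg_apply] at h2
  have h3 : (Spor.leechU : GolayPt → ℤ) (gPt 0) = 4 := vecU_0
  rw [h3] at h2
  norm_num at h2

theorem z1_ne_one : z1 ≠ 1 := by
  intro h
  rcases pr_eq_one.1 h with h | h
  · exact tCo0_ne_one h
  · exact tCo0_ne_neg h

theorem orderOf_z1 : orderOf z1 = 2 := by
  apply orderOf_eq_prime
  · unfold z1
    rw [← map_pow, sq, tCo0_sq, map_one]
  · exact z1_ne_one

/-- The centralizer in `Co1`. -/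
abbrev C1 : Subgroup Spor.Co1 := Subgroup.centralizer {z1}

theorem pr_mem_C1 {g : Co0} (hg : InC0 g) : pr g ∈ C1 := by
  rw [Subgroup.mem_centralizer_singleton_iff]
  unfold z1
  rw [← map_mul, ← map_mul, hg]

theorem exists_of_mem_C1 {c : Spor.Co1} (hc : c ∈ C1) : ∃ g : Co0, InC0 g ∧ pr g = c := by
  obtain ⟨g, rfl⟩ := pr_surj c
  refine ⟨g, ?_, rfl⟩
  rw [Subgroup.mem_centralizer_singleton_iff] at hc
  unfold z1 at hc
  rw [← map_mul, ← map_mul, pr_eq] at hc
  rcases hc with h | h
  · exact h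
  · exact (no_conj_neg g h).elim

/-- The projection of the centralizers. -/
noncomputable def piHom : ↥C0 →* ↥C1 where
  toFun a := ⟨pr a.1, pr_mem_C1 (inC0_of_mem a)⟩
  map_one' := Subtype.ext (map_one pr)
  map_mul' a b := Subtype.ext (map_mul pr a.1 b.1)

theorem piHom_val (a : ↥C0) : (piHom a).1 = pr a.1 := rfl

theorem piHom_surjective : Function.Surjective piHom := by
  intro c
  obtain ⟨g, hg, hgc⟩ := exists_of_mem_C1 c.2
  exact ⟨⟨g, mem_C0_of hg⟩, Subtype.ext hgc⟩

theorem piHom_eq {a b : ↥C0} : piHom a = piHom b ↔ a.1 = b.1 ∨ a.1 = negCo0 * b.1 := by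
  rw [← pr_eq]
  constructor
  · intro h
    exact congrArg Subtype.val h
  · intro h
    exact Subtype.ext h

theorem card_piHom_ker : Nat.card ↥piHom.ker = 2 := by
  rw [Nat.card_eq_two_iff]
  refine ⟨⟨1, Subgroup.one_mem _⟩, ⟨⟨negCo0, mem_C0_of InC0_neg⟩, ?_⟩, ?_, ?_⟩
  · rw [MonoidHom.mem_ker]
    exact Subtype.ext pr_neg
  · intro h
    have h1 := congrArg (fun x : ↥piHom.ker => (x.1.1 : Co0)) h
    exact negCo0_ne_one h1.symm
  · ext ⟨⟨x, hx⟩, hk⟩
    simp only [Set.mem_insert_iff, Set.mem_singleton_iff, Set.mem_univ, iff_true, Subtype.mk.injEq]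
    rw [MonoidHom.mem_ker] at hk
    have := congrArg Subtype.val hk
    rcases pr_eq_one.1 this with h | h
    · left
      exact Subtype.ext h
    · right
      exact h

theorem card_C1_mul : 2 * Nat.card ↥C1 = Nat.card ↥C0 := by
  have h1 := Subgroup.card_eq_card_quotient_mul_card_subgroup piHom.ker
  rw [card_piHom_ker, Nat.card_congr
    (QuotientGroup.quotientKerEquivOfSurjective piHom piHom_surjective).toEquiv] at h1
  omega

end CentO

end Cfsg.Agent.Lib.H27
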