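/-
helper27 library: the orthogonal group `O_8^+(2)` of the prelude: order, index and simplicity of its
commutator subgroup (from the general results of helper11/helper13).
-/
import Mathlib
import Cfsg.Prelude.Def_Classical
import Cfsg.Agent.Lib.H11.OmegaAll
import Cfsg.Agent.S0287
import Cfsg.Agent.S0789
import Cfsg.Agent.S0296

set_option autoImplicit false

namespace Cfsg.Agent.Lib.H27

open Cfsg

namespace CentO

open Cfsg.Agent.Lib.H11.IsoReindex Cfsg.Agent.Lib.H11.OmegaOrder Cfsg.Agent.Lib.H11.OmegaAll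

/-- The commutator subgroup of the isometry group. -/
abbrev Om : Subgroup ↥(isometryGroup (ZMod 2) (quadFormPlus 4 (ZMod 2))) :=
  Cfsg.Omega (ZMod 2) (quadFormPlus 4 (ZMod 2))

theorem card_OG : Nat.card ↥(isometryGroup (ZMod 2) (quadFormPlus 4 (ZMod 2))) = 348364800 := by
  have h := Cfsg.Agent.S0287.result (F := ZMod 2) (q := 2) (by rw [ZMod.card]) 4 (by norm_num)
  rw [h]
  decide

theorem index_commutator_congr {G G' : Type*} [Group G] [Group G'] (Θ : G ≃* G') :
    (commutator G').index = (commutator G).index := by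
  have h1 : commutator G' = (commutator G).map Θ.toMonoidHom := by
    rw [commutator_def, commutator_def, Subgroup.map_commutator,
      Subgroup.map_top_of_surjective _ Θ.surjective]
  rw [h1]
  exact Subgroup.index_map_equiv (commutator G) Θ

theorem card8 : Fintype.card (Fin 4 ⊕ Fin 4) = 8 := by
  rw [Fintype.card_sum, Fintype.card_fin]

theorem index_tr : (Cfsg.Omega (ZMod 2)
    ⇑(trQF (Fintype.equivFin (Fin 4 ⊕ Fin 4)) (Cfsg.Agent.Lib.H13.plusQF (ZMod 2) 4))).index = 2 := by
  have hnd := Cfsg.Agent.S0287.nondeg (F := ZMod 2) 4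
  exact Cfsg.Agent.S0789.result (by rw [card8]; norm_num) _ (nondeg_trQF _ _ hnd)
    (Or.inr (by rw [card8]; norm_num))

theorem index_Om : Om.index = 2 := by
  have h := index_tr
  rw [coe_trQF] at h
  have h2 := index_commutator_congr
    (isoEquiv (Fintype.equivFin (Fin 4 ⊕ Fin 4)) ⇑(Cfsg.Agent.Lib.H13.plusQF (ZMod 2) 4))
  unfold Cfsg.Omega at h
  rw [h2, Cfsg.Agent.S0287.coe_plusQF] at h
  exact h

theorem card_Om : Nat.card ↥Om = 174182400 := by
  have h := Subgroup.card_mul_index Om
  rw [index_Om, card_OG] at h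
  omega

theorem simple_POm : IsSimpleGroup (Cfsg.POmega (ZMod 2) (quadFormPlus 4 (ZMod 2))) :=
  Cfsg.Agent.S0296.result 4 le_rfl

theorem card_POm : Nat.card (Cfsg.POmega (ZMod 2) (quadFormPlus 4 (ZMod 2))) = 174182400 := by
  have hnd := Cfsg.Agent.S0287.nondeg (F := ZMod 2) 4
  have h1 := card_char_two_any (Cfsg.Agent.Lib.H13.plusQF (ZMod 2) 4) hnd (by rw [card8]) index_tr
  rw [Cfsg.Agent.S0287.coe_plusQF, card_OG] at h1
  omega

theorem center_Om : Subgroup.center ↥Om = ⊥ := by
  have h3 : Nat.card (Cfsg.POmega (ZMod 2) (quadFormPlus 4 (ZMod 2))) *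
      Nat.card (Subgroup.center ↥Om) = Nat.card ↥Om := card_quot_center
  rw [card_POm, card_Om] at h3
  have h4 : Nat.card (Subgroup.center ↥Om) = 1 := by omega
  exact Subgroup.eq_bot_of_card_eq _ h4

/-- `Ω_8^+(2)` is isomorphic to its central quotient. -/
noncomputable def omEquiv : ↥Om ≃* Cfsg.POmega (ZMod 2) (quadFormPlus 4 (ZMod 2)) :=
  (QuotientGroup.quotientBot (G := ↥Om)).symm.trans
    (QuotientGroup.quotientMulEquivOfEq center_Om.symm)

theorem simple_Om : IsSimpleGroup ↥Om := by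
  have := simple_POm
  have hnt : Nontrivial ↥Om := by
    have h : 1 < Nat.card ↥Om := by rw [card_Om]; norm_num
    exact (Finite.one_lt_card_iff_nontrivial).1 h
  exact IsSimpleGroup.isSimpleGroup_of_surjective omEquiv.symm.toMonoidHom omEquiv.symm.surjective

/-- `Ω_8^+(2)` has no nontrivial normal `2`-subgroups. -/
theorem Om_no_normal_two (N : Subgroup ↥Om) (hN : N.Normal) (h2 : IsPGroup 2 N) : N = ⊥ := by
  have := simple_Om
  rcases hN.eq_bot_or_eq_top with h | h
  · exact h
  · exfalso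
    subst h
    obtain ⟨n, hn⟩ := (IsPGroup.iff_card (p := 2)).1 h2
    have h3 : Nat.card (⊤ : Subgroup ↥Om) = Nat.card ↥Om := Subgroup.card_top
    rw [h3, card_Om] at hn
    have h5 : (5 : ℕ) ∣ 2 ^ n := by rw [← hn]; norm_num
    have := (Nat.Prime.dvd_of_dvd_pow (by norm_num : Nat.Prime 5) h5)
    omega

end CentO

end Cfsg.Agent.Lib.H27
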