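/-
helper27 library: the centralizer in `Co0` of the sign change off the base octad is transitive on the
240 roots of `E8`; its order in terms of the stabilizer of `(4, 4, 0^22)`.
-/
import Mathlib
import Cfsg.Agent.Lib.H27.CentOKer
import Cfsg.Agent.Lib.H27.StabTools

set_option autoImplicit false

namespace Cfsg.Agent.Lib.H27

open Cfsg Finset MulAction Cfsg.Agent.Lib.H28 Cfsg.Agent.Lib.H27.Eng

namespace CentO

open CentSp

def gH1 : List Gen := [Gen.mono [5, 0, 14, 2, 11, 17, 22, 15, 12, 16, 9, 6, 8, 7, 1, 20, 18, 3, 21, 10, 4, 13, 19, 23] [1, 14, 3, 17, 20, 0, 11, 13, 12, 10, 19, 4, 8, 21, 2, 7, 9, 5, 16, 22, 15, 18, 6, 23] 0]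

def gH1i : List Gen := [Gen.mono [1, 14, 3, 17, 20, 0, 11, 13, 12, 10, 19, 4, 8, 21, 2, 7, 9, 5, 16, 22, 15, 18, 6, 23] [5, 0, 14, 2, 11, 17, 22, 15, 12, 16, 9, 6, 8, 7, 1, 20, 18, 3, 21, 10, 4, 13, 19, 23] 0]

def gH2 : List Gen := [Gen.mono [0, 1, 2, 3, 4, 5, 6, 7, 8, 9, 10, 11, 12, 13, 14, 15, 16, 17, 18, 19, 20, 21, 22, 23] [0, 1, 2, 3, 4, 5, 6, 7, 8, 9, 10, 11, 12, 13, 14, 15, 16, 17, 18, 19, 20, 21, 22, 23] 10305542]

def forest : List (ℕ × ℕ) := [(0, 0), (0, 6), (0, 7), (0, 8), (1, 0), (1, 2), (1, 3), (1, 4), (1, 5), (1, 8), (2, 0), (2, 1), (2, 4), (2, 5), (2, 7), (2, 8), (3, 0), (3, 4), (3, 7), (4, 4), (4, 5), (4, 6), (4, 7), (5, 0), (5, 8), (6, 0), (6, 4), (6, 5), (6, 6), (6, 8), (7, 0), (7, 1), (7, 3), (7, 5), (7, 6), (7, 7), (7, 8), (8, 4), (8, 8), (9, 0), (9, 4), (10, 4), (10, 5), (10, 6), (10, 7), (11, 3), (11, 4), (11, 5), (11, 6), (12, 0), (12, 5), (12, 6), (12, 7), (12, 8), (13, 4), (13, 7), (14, 4), (14, 8), (15, 0), (15, 1), (15,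 2), (15, 3), (15, 4), (15, 6), (16, 4), (17, 0), (17, 1), (17, 2), (17, 6), (17, 7), (17, 8), (18, 0), (18, 1), (18, 4), (18, 7), (19, 0), (20, 6), (20, 7), (21, 3), (21, 6), (22, 0), (22, 1), (22, 5), (22, 7), (22, 8), (23, 4), (23, 7), (24, 0), (24, 4), (25, 4), (25, 5), (25, 6), (26, 0), (26, 2), (26, 5), (26, 8), (27, 4), (28, 8), (29, 0), (29, 4), (29, 6), (30, 8), (31, 1), (31, 4), (31, 5), (31, 6), (31, 8), (32, 4), (32, 5), (32, 8), (33, 4), (33, 6), (33, 8), (34, 6), (34, 8), (35, 0), (35, 4), (35, 5), (35, 8), (36, 0), (36, 1), (36, 4), (36, 6), (36, 7), (37, 5), (37, 8), (38, 4), (39, 6), (40, 0), (40, 1), (40, 3), (40, 5), (40, 6), (40, 7), (40, 8), (41, 5), (41, 6), (41, 7), (41, 8), (42, 6), (42, 7), (43, 0), (43, 4), (44, 1), (44, 4), (44, 5), (47, 6), (47, 7), (48, 4), (49, 5), (49, 8), (50, 7), (51, 1), (51, 3), (51, 4), (51, 6), (51, 8), (52, 5), (52, 8), (53, 4), (53, 7), (54, 8), (56, 6), (56, 7), (56, 8), (57, 1), (57, 4), (58,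 4), (59, 3), (60, 0), (62, 2), (62, 3), (62, 6), (62, 7), (64, 8), (65, 2), (65, 4), (66, 6), (67, 0), (68, 2), (69, 2), (69, 4), (70, 7), (71, 7), (72, 3), (73, 2), (73, 5), (74, 4), (76, 3), (76, 6), (77, 1), (77, 7), (78, 4), (79, 4), (83, 4), (84, 1), (84, 3), (85, 2), (85, 6), (89, 8), (90, 6), (91, 4), (92, 8), (93, 5), (93, 8), (94, 8), (95, 2), (96, 8), (98, 6), (99, 5), (99, 7), (99, 8), (101, 3), (102, 8), (103, 7), (103, 8), (105, 5), (105, 8), (110, 6), (113, 4), (113, 5), (114, 2), (118, 1), (118, 2), (119, 7), (120, 7), (121, 8), (122, 3), (123, 0), (124, 7), (124, 8), (125, 7), (126, 1), (126, 5), (128, 2), (138, 7), (139, 0), (140, 1), (147, 0), (190, 4)]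

/-- The generators. -/
def gensO : List (List Gen) := gensC ++ [gH1, gH1i, gH2]

/-- Membership test for the centralizer. -/
def inC0b (γ : List Gen) : Bool :=
  γ.all Gen.ok &&
    genLists.all (fun b => decide (actWord (γ ++ [tGen]) b = actWord (tGen :: γ) b))

theorem inC0_of_inC0b {γ : List Gen} (h : inC0b γ = true) :
    γ.all Gen.ok = true ∧ InC0 (wordCo0 γ) := by
  unfold inC0b at h
  rw [Bool.and_eq_true] at h
  obtain ⟨h1, h3⟩ := h
  refine ⟨h1, ?_⟩
  have hok1 : (γ ++ [tGen]).all Gen.ok = true := by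
    rw [List.all_append, h1, Bool.true_and, List.all_cons, List.all_nil, Bool.and_true]
    exact tGen_ok
  have hok2 : (tGen :: γ).all Gen.ok = true := by
    rw [List.all_cons, h1, Bool.and_true]
    exact tGen_ok
  have := wordCo0_eq_of_agree hok1 hok2 h3
  rw [wordCo0_append, wordCo0_tGen, wordCo0_cons, tGen_toCo0] at this
  exact this.symm

theorem gensO_ok : gensO.all inC0b = true := by decide +kernel

theorem getD_okO (i : ℕ) : (gensO.getD i []).all Gen.ok = true ∧ InC0 (wordCo0 (gensO.getD i [])) := by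
  by_cases hi : i < gensO.length
  · have hm : gensO.getD i [] ∈ gensO := by
      rw [List.getD_eq_getElem _ _ hi]
      exact List.getElem_mem hi
    exact inC0_of_inC0b (List.all_eq_true.1 gensO_ok _ hm)
  · rw [List.getD_eq_default _ _ (by omega)]
    exact ⟨rfl, InC0.one⟩

/-- The check of the forest. -/
def forestOK : Bool :=
  (List.range 240).all (fun i => (i == 0) ||
    (decide ((forest.getD i (0, 0)).1 < i) &&
      decide (actWord (gensO.getD (forest.getD i (0, 0)).2 []) (RL.getD (forest.getD i (0, 0)).1 [])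
        = RL.getD i [])))

theorem forest_ok : forestOK = true := by decide +kernel

theorem RL_zero : RL.getD 0 [] = uL := by decide +kernel

theorem RL_length : RL.length = 240 := by
  unfold RL
  rw [List.length_map, R8_length]

/-- Reachability from `(4, 4, 0^22)` inside the centralizer. -/
def Reach (y : V) : Prop :=
  toFn y ∈ leechLattice ∧ ∃ g : Co0, InC0 g ∧ g • Spor.leechU = mkL y

theorem reach_all : ∀ i < 240, Reach (RL.getD i []) := by
  intro i
  induction i using Nat.strong_induction_on with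
  | _ i ih =>
    intro hi
    by_cases h0 : i = 0
    · subst h0
      rw [RL_zero]
      exact ⟨uL_L, 1, InC0.one, by rw [one_smul, mkL_uL]⟩
    · have h := List.all_eq_true.1 forest_ok i (List.mem_range.2 hi)
      rw [Bool.or_eq_true, beq_iff_eq, Bool.and_eq_true, decide_eq_true_eq, decide_eq_true_eq] at h
      rcases h with h | ⟨h1, h2⟩
      · exact absurd h h0
      · obtain ⟨hL, g, hg, hgu⟩ := ih _ h1 (by omega)
        obtain ⟨hok, hc⟩ := getD_okO (forest.getD i (0, 0)).2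
        obtain ⟨h3, h4⟩ := smul_mkL _ hok hL
        rw [h2] at h3 h4
        exact ⟨h3, wordCo0 (gensO.getD (forest.getD i (0, 0)).2 []) * g, hc.mul hg, by
          rw [mul_smul, hgu, h4]⟩

theorem transitive_RSet {y : leechLattice} (hy : y ∈ RSet) :
    ∃ g ∈ C0, g • Spor.leechU = y := by
  obtain ⟨r, hr, rfl⟩ := RSet_subset hy
  have hr' : r ∈ RL := hr
  obtain ⟨i, hi, rfl⟩ := List.getElem_of_mem hr'
  have h := reach_all i (by rw [← RL_length]; exact hi)
  rw [List.getD_eq_getElem _ _ hi] at h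
  obtain ⟨_, g, hg, hgu⟩ := h
  exact ⟨g, mem_C0_of hg, hgu⟩

theorem ncard_RSet : RSet.ncard = 240 := by
  rw [RSet_eq]
  have hinj : Set.InjOn mkL {y | y ∈ RL} := by
    intro y hy y' hy' heq
    have h1 := RL_spec hy
    have h2 := RL_spec hy'
    have e1 := mkL_val h1.2.1
    have e2 := mkL_val h2.2.1
    rw [heq] at e1
    exact eq_of_toFn_eq h1.1 h2.1 (e1.symm.trans e2)
  rw [Set.ncard_image_of_injOn hinj]
  have : {y | y ∈ RL} = (↑RL.toFinset : Set V) := by
    ext y
    rw [Finset.mem_coe, List.mem_toFinset]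
    rfl
  rw [this, Set.ncard_coe_finset, List.toFinset_card_of_nodup RL_nodup, RL_length]

/-- Orbit-stabilizer for the centralizer. -/
theorem card_C0 : Nat.card ↥(C0 ⊓ stabilizer Co0 Spor.leechU) * 240 = Nat.card ↥C0 := by
  have h := card_sub_stab C0 Spor.leechU RSet leechU_mem
    (fun g hg y hy => smul_mem_RSet (Subgroup.mem_centralizer_singleton_iff.1 hg) hy)
    (fun y hy => transitive_RSet hy)
  rw [ncard_RSet] at h
  exact h

end CentO

end Cfsg.Agent.Lib.H27
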