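/-
helper27 library: the centralizer `C1` in `Co1` of the image of the sign change off the base octad:
its order, the homomorphism onto `Ω_8^+(2)` and its kernel `Q1 ≅ 2^{1+8}`.
-/
import Mathlib
import Cfsg.Prelude.Def_Spor_Conway
import Cfsg.Agent.Lib.H27.CentOConj
import Cfsg.Agent.Lib.H27.CentOTrans
import Cfsg.Agent.Lib.H27.CentOOrth
import Cfsg.Agent.Lib.H27.CentSpKer
import Cfsg.Agent.S0245
import Cfsg.Agent.Lib.H11.IndexTwo
import Cfsg.Agent.Lib.H14.LargeTransport

set_option autoImplicit false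

namespace Cfsg.Agent.Lib.H27

open Cfsg Finset MulAction Cfsg.Agent.Lib.H28 Cfsg.Agent.Lib.H27.Eng

namespace CentO

open CentSp

/-! ### Orders -/

theorem card_Sp6 : Nat.card (Matrix.symplecticGroup (Fin 3) (ZMod 2)) = 1451520 := by
  rw [Cfsg.Agent.S0245.result (F := ZMod 2) (q := 2) (ZMod.card 2) 3]
  decide

theorem card_CC : Nat.card ↥CC = 2 ^ 9 * 1451520 := by
  have h1 := Subgroup.card_eq_card_quotient_mul_card_subgroup spHom.ker
  rw [card_ker, Nat.card_congr
    (QuotientGroup.quotientKerEquivOfSurjective spHom spHom_surjective).toEquiv, card_Sp6] at h1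
  omega

theorem CC_eq : CC = (C0 ⊓ S2).subgroupOf S2 := by
  ext a
  rw [Subgroup.mem_subgroupOf, Subgroup.mem_inf, Subgroup.mem_centralizer_singleton_iff,
    Subgroup.mem_centralizer_singleton_iff]
  constructor
  · intro h
    exact ⟨congrArg Subtype.val h, a.2⟩
  · intro h
    exact Subtype.ext h.1

theorem card_C0_inf : Nat.card ↥(C0 ⊓ S2) = 2 ^ 9 * 1451520 := by
  rw [← card_CC, CC_eq]
  exact (Nat.card_congr (Subgroup.subgroupOfEquivOfLe (inf_le_right : C0 ⊓ S2 ≤ S2)).toEquiv).symm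

theorem card_C0_val : Nat.card ↥C0 = 178362777600 := by
  have h := card_C0
  rw [card_C0_inf] at h
  omega

theorem card_C1 : Nat.card ↥C1 = 89181388800 := by
  have h := card_C1_mul
  rw [card_C0_val] at h
  omega

instance finite_Co1' : Finite Spor.Co1 := finite_Co1

/-! ### The homomorphism on `C1` -/

theorem piHom_ker_le : piHom.ker ≤ oHom.ker := by
  intro a ha
  rw [mem_ker_iff]
  rw [MonoidHom.mem_ker] at ha
  rcases pr_eq_one.1 (congrArg Subtype.val ha) with h | h
  · rw [h]; exact oMat_one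
  · rw [h]; exact oMat_neg

/-- The homomorphism from the centralizer in `Co1` to the isometry group. -/
noncomputable def oHom1 : ↥C1 →* ↥OG :=
  piHom.liftOfSurjective piHom_surjective ⟨oHom, piHom_ker_le⟩

theorem oHom1_pi (a : ↥C0) : oHom1 (piHom a) = oHom a :=
  MonoidHom.liftOfRightInverse_comp_apply _ _ _ ⟨oHom, piHom_ker_le⟩ a

/-- The kernel. -/
noncomputable abbrev Q1 : Subgroup ↥C1 := oHom1.ker

theorem mem_Q1_iff (a : ↥C0) : piHom a ∈ Q1 ↔ (a.1 ∈ Q0 ∨ negCo0 * a.1 ∈ Q0) := by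
  rw [MonoidHom.mem_ker, oHom1_pi, ← MonoidHom.mem_ker, mem_ker_iff, ker_char (inC0_of_mem a)]

theorem Q0_le_C0 : Q0 ≤ C0 := fun _ hq => mem_C0_of (Q0_inC0 hq)

/-- The isomorphism of `Q0` with the kernel. -/
noncomputable def qHom : ↥Q0 →* ↥Q1 :=
  (piHom.comp (Subgroup.inclusion Q0_le_C0)).codRestrict Q1
    (fun q => (mem_Q1_iff _).2 (Or.inl q.2))

theorem qHom_val (q : ↥Q0) : ((qHom q).1.1 : Spor.Co1) = pr q.1 := rfl

theorem qHom_bijective : Function.Bijective qHom := by
  constructor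
  · rw [injective_iff_map_eq_one]
    intro q hq
    have h1 : pr q.1 = 1 := by
      rw [← qHom_val, hq]; rfl
    rcases pr_eq_one.1 h1 with h | h
    · exact Subtype.ext h
    · exfalso
      apply negCo0_notMem_Q0
      rw [← h]
      exact q.2
  · intro c
    obtain ⟨a, ha⟩ := piHom_surjective c.1
    have hc : piHom a ∈ Q1 := by rw [ha]; exact c.2
    rcases (mem_Q1_iff a).1 hc with h | h
    · refine ⟨⟨a.1, h⟩, ?_⟩
      apply Subtype.ext
      rw [← ha]
      apply Subtype.ext
      rfl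
    · refine ⟨⟨negCo0 * a.1, h⟩, ?_⟩
      apply Subtype.ext
      rw [← ha]
      apply Subtype.ext
      show pr (negCo0 * a.1) = pr a.1
      rw [map_mul, pr_neg, one_mul]

/-- The isomorphism of `Q0` with the kernel. -/
noncomputable def qEquiv : ↥Q0 ≃* ↥Q1 := MulEquiv.ofBijective qHom qHom_bijective

theorem card_Q1 : Nat.card ↥Q1 = 2 ^ 9 := by
  rw [← Nat.card_congr qEquiv.toEquiv, card_Q0]

theorem Q1_extraspecial : IsExtraspecial 2 ↥Q1 := by
  have : Fact (Nat.Prime 2) := ⟨Nat.prime_two⟩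
  exact Cfsg.Agent.Lib.H14.LargeTransport.isExtraspecial_of_mulEquiv 2 qEquiv Q0_extraspecial

/-! ### The image -/

theorem card_range1 : Nat.card ↥oHom1.range = 174182400 := by
  have h1 := Subgroup.card_eq_card_quotient_mul_card_subgroup oHom1.ker
  rw [card_Q1, Nat.card_congr (QuotientGroup.quotientKerEquivRange oHom1).toEquiv, card_C1] at h1
  omega

theorem index_range1 : oHom1.range.index = 2 := by
  have h := Subgroup.card_mul_index oHom1.range
  rw [card_range1, card_OG] at h
  omega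

theorem range1_eq : oHom1.range = Om := by
  symm
  have hfin : Finite ↥OG := Nat.finite_of_card_ne_zero (by rw [card_OG]; norm_num)
  apply Subgroup.eq_of_le_of_card_ge
    (Cfsg.Agent.Lib.H11.IndexTwo.commutator_le_of_index_two _ index_range1)
  rw [card_range1, card_Om]

/-- The homomorphism onto `Ω_8^+(2)`. -/
noncomputable def Θ1 : ↥C1 →* ↥Om :=
  oHom1.codRestrict Om (fun c => by rw [← range1_eq]; exact ⟨c, rfl⟩)

theorem Θ1_ker : Θ1.ker = Q1 := MonoidHom.ker_codRestrict _ _ _

theorem Θ1_surjective : Function.Surjective Θ1 := by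
  rintro ⟨y, hy⟩
  rw [← range1_eq] at hy
  obtain ⟨c, hc⟩ := hy
  exact ⟨c, Subtype.ext hc⟩

end CentO

end Cfsg.Agent.Lib.H27
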