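/-
helper27 library: explicit elements of `Co0` for the large extraspecial hypothesis in `Co1`:
a conjugate of the sign change `t` off the base octad of the form `-q` with `q ∈ Q0`, `q ≠ t`,
and an element of the centralizer of `t` acting nontrivially on `Q0` modulo its centre.
-/
import Mathlib
import Cfsg.Prelude.Def_Spor_Conway
import Cfsg.Agent.Lib.H27.CentOTrans

set_option autoImplicit false

namespace Cfsg.Agent.Lib.H27

open Cfsg Finset MulAction Cfsg.Agent.Lib.H28 Cfsg.Agent.Lib.H27.Eng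

namespace CentO

open CentSp

open scoped commutatorElement

/-! ### Sign changes as elementary elements -/

theorem sign_toCo0 (m : ℕ) (h : monoOK idT idT m = true) (hw : W m ∈ golayCode) :
    (Gen.mono idT idT m).toCo0 = signCo0 (W m) hw := by
  rw [Gen.toCo0_mono idT idT m h]
  unfold signCo0
  apply monoCo0_congr
  · apply Equiv.ext
    intro p
    show gPt (idT.getD (gIdx p) 0) = p
    rw [idT_getD _ (gIdx_lt p), gPt_gIdx]
  · rfl

/-- The sign change on an octad disjoint from the base octad. -/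
def yMask : ℕ := 4038912

def yGen : Gen := Gen.mono idT idT yMask

/-- The negation. -/
def nGen : Gen := Gen.mono idT idT 16777215

theorem yGen_ok : yGen.ok = true := by decide +kernel

theorem nGen_ok : nGen.ok = true := by decide +kernel

theorem yW_mem : W yMask ∈ golayCode := W_mem_of_inC (by decide +kernel)

theorem nW_mem : W 16777215 ∈ golayCode := W_mem_of_inC (by decide +kernel)

/-- The sign change on an octad disjoint from the base octad. -/
noncomputable def y0 : Co0 := mkQ 1 K0.one_mem (W yMask) yW_mem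

theorem y0_mem : y0 ∈ Q0 := mkQ_mem K0.one_mem yW_mem ((offOct_W_iff yMask).2 (by decide +kernel))

theorem yGen_toCo0 : yGen.toCo0 = y0 := sign_toCo0 yMask yGen_ok yW_mem

theorem full_bits : ∀ i < 24, (16777215 : ℕ).testBit i = true := by decide

theorem nGen_toCo0 : nGen.toCo0 = negCo0 := by
  unfold nGen
  rw [sign_toCo0 16777215 nGen_ok nW_mem]
  apply Co0_ext
  intro v
  funext k
  rw [signCo0_smul, negCo0_smul, if_pos]
  · rfl
  · rw [mem_support₂_iff]
    exact (W_apply_ne_zero 16777215 k).2 (full_bits _ (gIdx_lt k))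

/-! ### A conjugate of `t` in `-Q0` -/

def gS : List Gen := [Gen.mono [18, 20, 19, 16, 10, 13, 11, 6, 14, 9, 22, 7, 12, 5, 21, 1, 23, 8, 17, 2, 3, 0, 4, 15] [21, 15, 19, 20, 22, 13, 7, 11, 17, 9, 4, 6, 12, 5, 8, 23, 3, 18, 0, 2, 1, 14, 10, 16] 0]

def gSi : List Gen := [Gen.mono [21, 15, 19, 20, 22, 13, 7, 11, 17, 9, 4, 6, 12, 5, 8, 23, 3, 18, 0, 2, 1, 14, 10, 16] [18, 20, 19, 16, 10, 13, 11, 6, 14, 9, 22, 7, 12, 5, 21, 1, 23, 8, 17, 2, 3, 0, 4, 15] 0]

theorem gS_ok : gS.all Gen.ok = true := by decide +kernel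

theorem gSi_ok : gSi.all Gen.ok = true := by decide +kernel

theorem all_ok_append {a b : List Gen} (ha : a.all Gen.ok = true) (hb : b.all Gen.ok = true) :
    (a ++ b).all Gen.ok = true := by
  rw [List.all_append, ha, hb]; rfl

theorem all_ok_single {a : Gen} (ha : a.ok = true) : [a].all Gen.ok = true := by
  rw [List.all_cons, ha, List.all_nil]; rfl

theorem gS_inv : wordCo0 gS * wordCo0 gSi = 1 := by
  rw [← wordCo0_append, ← wordCo0_nil]
  exact wordCo0_eq_of_agree (all_ok_append gSi_ok gS_ok) rfl (by decide +kernel)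

/-- The conjugating element. -/
noncomputable def g0 : Co0 := wordCo0 gS

theorem g0_inv : g0⁻¹ = wordCo0 gSi := inv_eq_of_mul_eq_one_right gS_inv

theorem conj_t : g0 * tCo0 * g0⁻¹ = negCo0 * y0 := by
  have h : wordCo0 (gSi ++ ([tGen] ++ gS)) = wordCo0 [yGen, nGen] :=
    wordCo0_eq_of_agree (all_ok_append gSi_ok (all_ok_append (all_ok_single tGen_ok) gS_ok))
      (all_ok_append (all_ok_single yGen_ok) (all_ok_single nGen_ok)) (by decide +kernel)
  rw [wordCo0_append, wordCo0_append, wordCo0_tGen, wordCo0_cons, wordCo0_cons, wordCo0_nil,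
    one_mul, yGen_toCo0, nGen_toCo0] at h
  rw [g0_inv]
  exact h

/-! ### Words different from `±1` -/

/-- The word moves the vector to a vector different from it and from its negative. -/
def movesPMb (w : List Gen) (b : V) : Bool :=
  (List.range 24).any (fun k => decide (nth (actWord w b) k ≠ nth b k)) &&
    (List.range 24).any (fun k => decide (nth (actWord w b) k ≠ -nth b k))

theorem ne_of_movesPMb {w : List Gen} (hok : w.all Gen.ok = true) {b : V}
    (hbL : toFn b ∈ leechLattice) (hm : movesPMb w b = true) :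
    wordCo0 w ≠ 1 ∧ wordCo0 w ≠ negCo0 := by
  unfold movesPMb at hm
  rw [Bool.and_eq_true, List.any_eq_true, List.any_eq_true] at hm
  obtain ⟨⟨k, hk, hne⟩, ⟨k', hk', hne'⟩⟩ := hm
  rw [List.mem_range] at hk hk'
  rw [decide_eq_true_eq] at hne hne'
  have h2 := actWord_spec w hok b hbL
  constructor
  · intro h1
    apply hne
    rw [h1, one_smul] at h2
    exact nth_of_toFn_eq h2 hk
  · intro h1
    apply hne'
    rw [h1, negCo0_smul] at h2
    have h3 := congrFun h2 (gPt k')
    unfold toFn at h3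
    rw [gIdx_gPt hk'] at h3
    rw [h3]
    show -(toFn b (gPt k')) = -nth b k'
    unfold toFn
    rw [gIdx_gPt hk']

/-! ### `y0` is not `±t` -/

def vT : V := [0, 2, 0, 0, 0, 0, 0, 0, 0, 0, 0, 0, 2, 2, 2, 2, 2, 0, 0, 2, 0, 0, 2, 0]

theorem vT_L : toFn vT ∈ leechLattice := mem_of_inLeech (by decide +kernel)

theorem y0_sq : y0 * y0 = 1 := by
  rw [← yGen_toCo0]
  have h : wordCo0 [yGen, yGen] = wordCo0 [] :=
    wordCo0_eq_of_agree (all_ok_append (all_ok_single yGen_ok) (all_ok_single yGen_ok)) rfl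
      (by decide +kernel)
  rw [wordCo0_cons, wordCo0_cons, wordCo0_nil, one_mul] at h
  exact h

theorem y0_inv : y0⁻¹ = y0 := inv_eq_of_mul_eq_one_right y0_sq

theorem tCo0_inv : tCo0⁻¹ = tCo0 := inv_eq_of_mul_eq_one_right tCo0_sq

theorem y0_ne : y0 ≠ tCo0 ∧ y0 ≠ negCo0 * tCo0 := by
  have h := ne_of_movesPMb (w := [tGen, yGen])
    (all_ok_append (all_ok_single tGen_ok) (all_ok_single yGen_ok)) vT_L (by decide +kernel)
  rw [wordCo0_cons, wordCo0_cons, wordCo0_nil, one_mul, yGen_toCo0, tGen_toCo0] at h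
  constructor
  · intro e
    apply h.1
    rw [e, tCo0_sq]
  · intro e
    apply h.2
    rw [e, mul_assoc, tCo0_sq, mul_one]

/-! ### A nontrivial action on `Q0` modulo its centre -/

theorem gA_inv : wordCo0 gA * wordCo0 gAi = 1 := by
  rw [← wordCo0_append, ← wordCo0_nil]
  exact wordCo0_eq_of_agree (all_ok_append (getD_okO 1).1 (getD_okO 0).1) rfl (by decide +kernel)

/-- An element of the centralizer. -/
noncomputable def x0 : Co0 := wordCo0 gA

theorem x0_inC0 : InC0 x0 := (getD_okO 0).2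

theorem x0_inv : x0⁻¹ = wordCo0 gAi := inv_eq_of_mul_eq_one_right gA_inv

/-- The word of the commutator. -/
def wComm : List Gen := [yGen] ++ (gAi ++ ([yGen] ++ gA))

theorem wComm_ok : wComm.all Gen.ok = true :=
  all_ok_append (all_ok_single yGen_ok) (all_ok_append (getD_okO 1).1
    (all_ok_append (all_ok_single yGen_ok) (getD_okO 0).1))

theorem wComm_eq : wordCo0 wComm = ⁅x0, y0⁆ := by
  unfold wComm
  rw [wordCo0_append, wordCo0_append, wordCo0_append, commutatorElement_def, x0_inv, y0_inv,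
    wordCo0_cons, wordCo0_nil, one_mul, yGen_toCo0]
  unfold x0
  simp only [mul_assoc]

theorem comm_notMem : ⁅x0, y0⁆ ≠ 1 ∧ ⁅x0, y0⁆ ≠ negCo0 ∧ ⁅x0, y0⁆ ≠ tCo0 ∧
    ⁅x0, y0⁆ ≠ negCo0 * tCo0 := by
  have h1 := ne_of_movesPMb wComm_ok vT_L (by decide +kernel)
  have h2 := ne_of_movesPMb (w := tGen :: wComm) (by
    rw [List.all_cons, wComm_ok, tGen_ok]; rfl) vT_L (by decide +kernel)
  rw [wordCo0_cons, tGen_toCo0] at h2
  rw [wComm_eq] at h1 h2
  refine ⟨h1.1, h1.2, ?_, ?_⟩
  · intro e
    apply h2.1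
    rw [e, tCo0_sq]
  · intro e
    apply h2.2
    rw [e, mul_assoc, tCo0_sq, mul_one]

end CentO

end Cfsg.Agent.Lib.H27
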