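import Mathlib
import Cfsg.Prelude.Def_Solvable
import Cfsg.Prelude.Def_Transfer
import Cfsg.Prelude.Def_CaseTheorems
import Cfsg.Agent.Lib.H27.Basic
import Cfsg.Agent.S0271

/-!
helper27 library: abstract part of "involution centralizer of shape `2^{1+8} Sp6(2)`":
`O_2(Sp_{2m}(2)) = 1`, and the identification of the `2`-core with the kernel of a surjection onto
a group without normal `2`-subgroups.
-/

set_option autoImplicit false

namespace Cfsg.Agent.Lib.H27.CentSp

open Cfsg

/-- The matrix of an element of the symplectic group. -/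
abbrev spMat {m : ℕ} (g : Matrix.symplecticGroup (Fin m) (ZMod 2)) :
    Matrix (Fin m ⊕ Fin m) (Fin m ⊕ Fin m) (ZMod 2) := g.1

theorem spMat_mul {m : ℕ} (a b : Matrix.symplecticGroup (Fin m) (ZMod 2)) :
    spMat (a * b) = spMat a * spMat b := rfl

theorem spMat_one {m : ℕ} : spMat (1 : Matrix.symplecticGroup (Fin m) (ZMod 2)) = 1 := rfl

/-- A normal `2`-subgroup of `Sp_{2m}(F_2)` is trivial. -/
theorem symp_no_normal_two (m : ℕ) (N : Subgroup (Matrix.symplecticGroup (Fin m) (ZMod 2)))
    (hN : N.Normal) (hp : IsPGroup 2 N) : N = ⊥ := by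
  classical
  let V := Fin m ⊕ Fin m → ZMod 2
  let act : MulAction N V :=
    { smul := fun n v => (spMat n.1).mulVec v
      one_smul := fun v => by
        show (spMat (1 : Matrix.symplecticGroup (Fin m) (ZMod 2))).mulVec v = v
        rw [spMat_one]
        exact Matrix.one_mulVec v
      mul_smul := fun a b v => by
        show (spMat (a.1 * b.1)).mulVec v = (spMat a.1).mulVec ((spMat b.1).mulVec v)
        rw [Matrix.mulVec_mulVec, spMat_mul] }
  have hsmul : ∀ (n : N) (v : V), n • v = (spMat n.1).mulVec v := fun _ _ => rfl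
  by_cases hm : m = 0
  · subst hm
    rw [Subgroup.eq_bot_iff_forall]
    intro x _
    apply Subtype.ext
    ext i j
    rcases i with i | i <;> exact i.elim0
  -- fixed vector
  have hcard : 2 ∣ Nat.card V := by
    have : Nat.card V = 2 ^ (m + m) := by
      rw [Nat.card_eq_fintype_card, Fintype.card_fun, Fintype.card_sum, Fintype.card_fin,
        ZMod.card]
    rw [this]
    exact dvd_pow_self 2 (by omega)
  have h0 : (0 : V) ∈ MulAction.fixedPoints N V := by
    intro n
    rw [hsmul]
    exact Matrix.mulVec_zero _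
  have : Fact (Nat.Prime 2) := ⟨Nat.prime_two⟩
  obtain ⟨v, hv, hv0⟩ := hp.exists_fixed_point_of_prime_dvd_card_of_fixed_point V hcard h0
  have hvne : v ≠ 0 := fun h => hv0 h.symm
  -- all vectors are fixed
  have hall : ∀ (n : N) (w : V), n • w = w := by
    intro n w
    by_cases hw : w = 0
    · rw [hw]; exact h0 n
    obtain ⟨g, hg⟩ := Cfsg.Agent.S0271.result m v w hvne hw
    have hn' : g⁻¹ * n.1 * g ∈ N := by
      have := hN.conj_mem n.1 n.2 g⁻¹
      simpa using this
    have hfix := hv ⟨_, hn'⟩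
    rw [hsmul] at hfix
    rw [hsmul, ← hg]
    have e : spMat n.1 = spMat g * spMat (g⁻¹ * n.1 * g) * spMat g⁻¹ := by
      rw [← spMat_mul, ← spMat_mul]
      congr 1
      group
    show (spMat n.1).mulVec ((spMat g).mulVec v) = (spMat g).mulVec v
    rw [e, Matrix.mulVec_mulVec, Matrix.mul_assoc, ← spMat_mul g⁻¹ g, inv_mul_cancel, spMat_one,
      Matrix.mul_one, ← Matrix.mulVec_mulVec]
    exact congrArg _ hfix
  rw [Subgroup.eq_bot_iff_forall]
  intro x hx
  apply Subtype.ext
  show spMat x = 1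
  ext i j
  have := congrFun (hall ⟨x, hx⟩ (Pi.single j 1)) i
  rw [hsmul] at this
  simpa [Matrix.mulVec_single_one, Matrix.one_apply, Pi.single_apply, eq_comm] using this

variable {G S : Type*} [Group G] [Group S]

/-- If `φ` is surjective onto a group without nontrivial normal `2`-subgroups and its kernel is a
`2`-group, then `O_2(G) = ker φ`. -/
theorem pCore_eq_ker (φ : G →* S) (hφ : Function.Surjective φ)
    (hS : ∀ N : Subgroup S, N.Normal → IsPGroup 2 N → N = ⊥) (hK : IsPGroup 2 φ.ker) :
    pCore 2 G = φ.ker := by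
  apply le_antisymm
  · have h1 : ((pCore 2 G).map φ).Normal := Subgroup.Normal.map (pCore_normal 2 G) φ hφ
    have h2 : IsPGroup 2 ((pCore 2 G).map φ) := (pCore_isPGroup (G := G) (p := 2)).map φ
    have h3 := hS _ h1 h2
    rwa [Subgroup.map_eq_bot_iff] at h3
  · exact le_pCore _ inferInstance hK

/-- Assembly. -/
theorem assemble (φ : G →* S) (hφ : Function.Surjective φ)
    (hS : ∀ N : Subgroup S, N.Normal → IsPGroup 2 N → N = ⊥)
    (hKex : IsExtraspecial 2 φ.ker) (hKcard : Nat.card φ.ker = 2 ^ 9) :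
    IsExtraspecial 2 (pCore 2 G) ∧ Nat.card (pCore 2 G) = 2 ^ 9 ∧
      Nonempty (G ⧸ pCore 2 G ≃* S) := by
  have h := pCore_eq_ker φ hφ hS hKex.1.1
  refine ⟨?_, ?_, ?_⟩
  · rw [h]; exact hKex
  · rw [h]; exact hKcard
  · exact ⟨(QuotientGroup.quotientMulEquivOfEq h).trans
      (QuotientGroup.quotientKerEquivOfSurjective φ hφ)⟩

end Cfsg.Agent.Lib.H27.CentSp
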