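/-
helper27 library: `Co1` satisfies the large extraspecial hypothesis: the centralizer `C1` of the
image `z1` of the sign change off the base octad has `F*(C1) = Q1 ≅ 2^{1+8}_+`, `C1 / Q1 ≅ Ω_8^+(2)`,
and `z1` is not weakly closed in `Q1`.
-/
import Mathlib
import Cfsg.Prelude.Def_Spor_Conway
import Cfsg.Prelude.Def_Local
import Cfsg.Agent.Lib.H27.CentOCo1
import Cfsg.Agent.Lib.H27.CentOWit
import Cfsg.Agent.Lib.H27.CentSpAbs
import Cfsg.Agent.Lib.H7.PLocal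

set_option autoImplicit false

namespace Cfsg.Agent.Lib.H27

open Cfsg

namespace CentO

open CentSp

open scoped commutatorElement

section Abs

variable {C S : Type} [Group C] [Finite C] [Group S]

/-- If `Θ` maps `C` onto a simple group without normal `2`-subgroups, with kernel a `2`-group, and
some element of `C` does not act on the kernel as an inner automorphism of the kernel does,
then `F*(C)` is the kernel. -/
theorem fstar_eq_ker (Θ : C →* S) (hΘ : Function.Surjective Θ) (hsimple : IsSimpleGroup S)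
    (hS : ∀ N : Subgroup S, N.Normal → IsPGroup 2 N → N = ⊥) (hK : IsPGroup 2 Θ.ker)
    (Z : Set C) (hZ : ∀ a ∈ Θ.ker, ∀ b ∈ Θ.ker, ⁅a, b⁆ ∈ Z) (x y : C) (hy : y ∈ Θ.ker)
    (hxy : ⁅x, y⁆ ∉ Z) : generalizedFittingSubgroup C = Θ.ker := by
  have : Fact (Nat.Prime 2) := ⟨Nat.prime_two⟩
  have hp : pCore 2 C = Θ.ker := CentSp.pCore_eq_ker Θ hΘ hS hK
  rw [← hp]
  apply Cfsg.Agent.Lib.H7.generalizedFittingSubgroup_eq_pCore_of_centralizer_le 2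
  rw [hp]
  have hDn : (Subgroup.centralizer (Θ.ker : Set C)).Normal := Subgroup.normal_centralizer
  have hmap : ((Subgroup.centralizer (Θ.ker : Set C)).map Θ).Normal := hDn.map Θ hΘ
  rcases hmap.eq_bot_or_eq_top with h | h
  · rw [Subgroup.map_eq_bot_iff] at h
    exact h
  · exfalso
    have hx : Θ x ∈ (Subgroup.centralizer (Θ.ker : Set C)).map Θ := by rw [h]; trivial
    obtain ⟨d, hd, hdx⟩ := hx
    have hq : d⁻¹ * x ∈ Θ.ker := by
      rw [MonoidHom.mem_ker, map_mul, map_inv, hdx, inv_mul_cancel]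
    apply hxy
    have hc : (d⁻¹ * x) * y * (d⁻¹ * x)⁻¹ ∈ Θ.ker :=
      (MonoidHom.normal_ker Θ).conj_mem y hy _
    have hcomm := Subgroup.mem_centralizer_iff.1 hd _ hc
    have e : ⁅x, y⁆ = ⁅d⁻¹ * x, y⁆ := by
      rw [commutatorElement_def, commutatorElement_def]
      have e1 : x * y * x⁻¹ = d * ((d⁻¹ * x) * y * (d⁻¹ * x)⁻¹) * d⁻¹ := by group
      rw [e1, ← hcomm, mul_assoc _ d d⁻¹, mul_inv_cancel, mul_one]
    rw [e]
    exact hZ _ hq _ hy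

end Abs

/-- The centre of `Q1`, as a set. -/
def Z1 : Set ↥C1 := {c | c.1 = 1 ∨ c.1 = z1}

theorem exists_of_mem_Q1 {a : ↥C1} (ha : a ∈ Q1) : ∃ q ∈ Q0, pr q = a.1 := by
  obtain ⟨q, hq⟩ := qHom_bijective.2 ⟨a, ha⟩
  refine ⟨q.1, q.2, ?_⟩
  rw [← qHom_val, hq]

theorem comm_mem_Z1 (a : ↥C1) (ha : a ∈ Q1) (b : ↥C1) (hb : b ∈ Q1) : ⁅a, b⁆ ∈ Z1 := by
  obtain ⟨q, hq, hqa⟩ := exists_of_mem_Q1 ha
  obtain ⟨q', hq', hqb⟩ := exists_of_mem_Q1 hb
  have h1 : (⁅a, b⁆ : ↥C1).1 = pr ⁅q, q'⁆ := by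
    rw [map_commutatorElement, hqa, hqb]
    rfl
  show (⁅a, b⁆ : ↥C1).1 = 1 ∨ (⁅a, b⁆ : ↥C1).1 = z1
  rw [h1]
  rcases mem_ZQ_iff.1 (comm_mem hq hq') with h | h
  · left; rw [h, map_one]
  · right; rw [h]; rfl

/-- An element of `C1`. -/
noncomputable def x1 : ↥C1 := piHom ⟨x0, mem_C0_of x0_inC0⟩

/-- An element of `Q1`. -/
noncomputable def y1 : ↥C1 := piHom ⟨y0, Q0_le_C0 y0_mem⟩

theorem y1_mem : y1 ∈ Q1 := (mem_Q1_iff _).2 (Or.inl y0_mem)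

theorem comm_x1_y1 : ⁅x1, y1⁆ ∉ Z1 := by
  have h1 : (⁅x1, y1⁆ : ↥C1).1 = pr ⁅x0, y0⁆ := by
    rw [map_commutatorElement]
    rfl
  obtain ⟨c1, c2, c3, c4⟩ := comm_notMem
  intro h
  rcases h with h | h
  · rw [h1, pr_eq_one] at h
    rcases h with h | h
    · exact c1 h
    · exact c2 h
  · rw [h1] at h
    unfold z1 at h
    rw [pr_eq] at h
    rcases h with h | h
    · exact c3 h
    · exact c4 h

theorem fstar_C1 : generalizedFittingSubgroup ↥C1 = Q1 := by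
  have hK : IsPGroup 2 ↥Θ1.ker := by
    rw [Θ1_ker]
    exact Q1_extraspecial.1.1
  have h := fstar_eq_ker Θ1 Θ1_surjective simple_Om Om_no_normal_two hK Z1
    (by rw [Θ1_ker]; exact comm_mem_Z1) x1 y1 (by rw [Θ1_ker]; exact y1_mem) comm_x1_y1
  rw [h, Θ1_ker]

/-- The quotient. -/
noncomputable def quotEquiv : ↥C1 ⧸ Q1 ≃* ↥Om :=
  (QuotientGroup.quotientMulEquivOfEq (Θ1_ker.symm : Q1 = Θ1.ker)).trans
    (QuotientGroup.quotientKerEquivOfSurjective Θ1 Θ1_surjective)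

theorem conj_z1 : pr g0 * z1 * (pr g0)⁻¹ = pr y0 := by
  unfold z1
  rw [← map_inv, ← map_mul, ← map_mul, conj_t, map_mul, pr_neg, one_mul]

theorem main : ∃ z : Cfsg.Spor.Co1, orderOf z = 2 ∧
    ∃ (Q : Subgroup (Subgroup.centralizer ({z} : Set Cfsg.Spor.Co1))) (_ : Q.Normal),
      Cfsg.generalizedFittingSubgroup (Subgroup.centralizer ({z} : Set Cfsg.Spor.Co1)) = Q ∧
      Cfsg.IsExtraspecial 2 Q ∧ Nat.card Q = 2 ^ 9 ∧
      Nonempty ((Subgroup.centralizer ({z} : Set Cfsg.Spor.Co1)) ⧸ Q ≃*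
        Cfsg.Omega (ZMod 2) (Cfsg.quadFormPlus 4 (ZMod 2))) ∧
      ∃ g : Cfsg.Spor.Co1, (∃ hq : g * z * g⁻¹ ∈ Subgroup.centralizer ({z} : Set Cfsg.Spor.Co1),
        (⟨g * z * g⁻¹, hq⟩ : Subgroup.centralizer ({z} : Set Cfsg.Spor.Co1)) ∈ Q) ∧
        g * z * g⁻¹ ≠ z := by
  refine ⟨z1, orderOf_z1, Q1, MonoidHom.normal_ker oHom1, fstar_C1, Q1_extraspecial, card_Q1,
    ⟨quotEquiv⟩, pr g0, ⟨?_, ?_⟩, ?_⟩
  · rw [conj_z1]
    exact pr_mem_C1 (Q0_inC0 y0_mem)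
  · have e : (⟨pr g0 * z1 * (pr g0)⁻¹, by rw [conj_z1]; exact pr_mem_C1 (Q0_inC0 y0_mem)⟩ : ↥C1)
        = y1 := Subtype.ext conj_z1
    rw [e]
    exact y1_mem
  · rw [conj_z1]
    unfold z1
    rw [Ne, pr_eq]
    rintro (h | h)
    · exact y0_ne.1 h
    · exact y0_ne.2 h

end CentO

end Cfsg.Agent.Lib.H27
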