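/-
helper27 library: the centralizer in `Stab_{Co0}(4,4,0^22)` of the sign change off the base octad has
`O_2` extraspecial of order `2^9` with quotient `Sp_6(2)`; transport to `Spor.Co2`.
-/
import Mathlib
import Cfsg.Prelude.Def_Spor_Conway
import Cfsg.Agent.Lib.H27.CentSpKer
import Cfsg.Agent.Lib.H27.CentSpAbs
import Cfsg.Agent.Lib.H27.StabTools

set_option autoImplicit false

namespace Cfsg.Agent.Lib.H27

open Cfsg MulAction

namespace CentSp

theorem CC_data : IsExtraspecial 2 (pCore 2 ↥CC) ∧ Nat.card (pCore 2 ↥CC) = 2 ^ 9 ∧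
    Nonempty (↥CC ⧸ pCore 2 ↥CC ≃* Matrix.symplecticGroup (Fin 3) (ZMod 2)) :=
  assemble spHom spHom_surjective (symp_no_normal_two 3) ker_extraspecial card_ker

section Transfer

variable {A B S : Type*} [Group A] [Group B] [Group S]

theorem transfer [Finite A] (f : A ≃* B)
    (h : IsExtraspecial 2 (pCore 2 A) ∧ Nat.card (pCore 2 A) = 2 ^ 9 ∧
      Nonempty (A ⧸ pCore 2 A ≃* S)) :
    IsExtraspecial 2 (pCore 2 B) ∧ Nat.card (pCore 2 B) = 2 ^ 9 ∧
      Nonempty (B ⧸ pCore 2 B ≃* S) := by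
  have : Fact (Nat.Prime 2) := ⟨Nat.prime_two⟩
  have hmap := Cfsg.Agent.Lib.H14.LargeTransport.pCore_map_equiv 2 f
  let e1 : ↥(pCore 2 A) ≃* ↥(pCore 2 B) :=
    ((pCore 2 A).equivMapOfInjective f.toMonoidHom f.injective).trans (MulEquiv.subgroupCongr hmap)
  obtain ⟨h1, h2, ⟨h3⟩⟩ := h
  refine ⟨Cfsg.Agent.Lib.H14.LargeTransport.isExtraspecial_of_mulEquiv 2 e1 h1, ?_, ⟨?_⟩⟩
  · rw [← Nat.card_congr e1.toEquiv, h2]
  · exact (QuotientGroup.congr (pCore 2 A) (pCore 2 B) f hmap).symm.trans h3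

theorem centralizer_map (f : A ≃* B) (x : A) :
    (Subgroup.centralizer {x}).map f.toMonoidHom = Subgroup.centralizer {f x} := by
  ext y
  rw [Subgroup.mem_map, Subgroup.mem_centralizer_singleton_iff]
  constructor
  · rintro ⟨a, ha, rfl⟩
    rw [Subgroup.mem_centralizer_singleton_iff] at ha
    show f a * f x = f x * f a
    rw [← map_mul, ← map_mul, ha]
  · intro hy
    refine ⟨f.symm y, ?_, f.apply_symm_apply y⟩
    rw [Subgroup.mem_centralizer_singleton_iff]
    apply f.injective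
    rw [map_mul, map_mul, f.apply_symm_apply]
    exact hy

/-- Centralizers correspond under an isomorphism. -/
noncomputable def centEquiv (f : A ≃* B) (x : A) :
    ↥(Subgroup.centralizer ({x} : Set A)) ≃* ↥(Subgroup.centralizer ({f x} : Set B)) :=
  ((Subgroup.centralizer {x}).equivMapOfInjective f.toMonoidHom f.injective).trans
    (MulEquiv.subgroupCongr (centralizer_map f x))

end Transfer

/-- The isomorphism with `Co2`. -/
def toCo2 : ↥S2 ≃* ↥Spor.Co2 := stabSubEquiv Co0 Spor.leechU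

theorem orderOf_t0 : orderOf t0 = 2 := by
  rw [← orderOf_tCo0, ← Subgroup.orderOf_coe]
  rfl

theorem main : ∃ t : ↥Spor.Co2, orderOf t = 2 ∧
    IsExtraspecial 2 (pCore 2 ↥(Subgroup.centralizer ({t} : Set ↥Spor.Co2))) ∧
    Nat.card (pCore 2 ↥(Subgroup.centralizer ({t} : Set ↥Spor.Co2))) = 2 ^ 9 ∧
    Nonempty (↥(Subgroup.centralizer ({t} : Set ↥Spor.Co2)) ⧸
      pCore 2 ↥(Subgroup.centralizer ({t} : Set ↥Spor.Co2)) ≃*
        Matrix.symplecticGroup (Fin 3) (ZMod 2)) := by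
  refine ⟨toCo2 t0, ?_, ?_⟩
  · rw [MulEquiv.orderOf_eq]
    exact orderOf_t0
  · exact transfer (centEquiv toCo2 t0) CC_data

end CentSp

end Cfsg.Agent.Lib.H27
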