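import Mathlib
import Cfsg.Prelude.Def_Sporadic_a
import Cfsg.Prelude.Def_SporadicCombinatorics
import Cfsg.Agent.Lib.H27.Co0NOrbit
import Cfsg.Agent.Lib.H27.LeechCountFinal
import Cfsg.Agent.Lib.H27.GolayFacts
import Cfsg.Agent.Lib.H27.Co0Mod2

/-!
helper27 library (for S1572): the numbers of vectors of squared length 32 of the shapes
`(±4, ±4, 0^22)` and `(∓3, ±1^23)`, and the possible unions of orbits of the stabiliser of the
standard cross containing the first shape.
-/

set_option autoImplicit false

namespace Cfsg.Agent.Lib.H27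

open Cfsg Finset Cfsg.Agent.Lib.H28

/-! ### Shape C -/

/-- The vector `(∓3, ±1^23)` attached to a point and a word. -/
def vC (i : GolayPt) (c : GolayPt → ZMod 2) : GolayPt → ℤ :=
  fun k => if k = i then (if c k = 0 then -3 else 3) else (if c k = 0 then 1 else -1)

theorem zmod2_01 (a : ZMod 2) : a = 0 ∨ a = 1 := by
  revert a; decide

theorem zmod2_eq_of_iff {a b : ZMod 2} (h : a = 0 ↔ b = 0) : a = b := by
  revert a b; decide

theorem vC_isC (i : GolayPt) (c : GolayPt → ZMod 2) : IsC (vC i c) := by
  refine ⟨i, fun k => ?_⟩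
  unfold vC
  split_ifs <;> decide

theorem sum_pm (c : GolayPt → ZMod 2) :
    ∑ k, (if c k = 0 then (1 : ℤ) else -1) = 24 - 2 * ((support₂ c).card : ℤ) := by
  have h : ∀ k, (if c k = 0 then (1 : ℤ) else -1) = 1 - 2 * (if c k ≠ 0 then 1 else 0) := by
    intro k
    by_cases hk : c k = 0
    · simp [hk]
    · simp [hk]
  rw [Finset.sum_congr rfl (fun k _ => h k), Finset.sum_sub_distrib, ← Finset.mul_sum,
    Finset.sum_boole]
  simp only [Finset.sum_const, Finset.card_univ, nsmul_eq_mul, mul_one]
  have : Fintype.card GolayPt = 24 := by decide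
  rw [this]
  unfold support₂
  norm_num

theorem vC_desc (i : GolayPt) {c : GolayPt → ZMod 2} (hc : c ∈ golayCode) :
    LeechDesc (vC i c) 1 c := by
  refine ⟨hc, fun k => ?_, ?_⟩
  · unfold vC
    by_cases hk : k = i
    · rw [if_pos hk]
      rcases zmod2_01 (c k) with e | e <;> rw [e] <;> decide
    · rw [if_neg hk]
      rcases zmod2_01 (c k) with e | e <;> rw [e] <;> decide
  · have h : ∀ k, vC i c k = (if c k = 0 then (1 : ℤ) else -1)
        + (if k = i then (if c k = 0 then (-4 : ℤ) else 4) else 0) := by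
      intro k
      unfold vC
      by_cases hk : k = i
      · rw [if_pos hk, if_pos hk]
        by_cases hck : c k = 0
        · rw [if_pos hck, if_pos hck, if_pos hck]; norm_num
        · rw [if_neg hck, if_neg hck, if_neg hck]; norm_num
      · rw [if_neg hk, if_neg hk, add_zero]
    rw [Finset.sum_congr rfl (fun k _ => h k), Finset.sum_add_distrib, sum_pm,
      Finset.sum_ite_eq' Finset.univ i]
    simp only [Finset.mem_univ, if_true]
    obtain ⟨t, ht⟩ := golay_doubly_even c hc
    rw [ht]
    unfold Int.ModEq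
    push_cast
    split_ifs <;> omega

theorem vC_mem (i : GolayPt) {c : GolayPt → ZMod 2} (hc : c ∈ golayCode) :
    vC i c ∈ leechLattice := mem_leechLattice_of_leechDesc (vC_desc i hc)

theorem vC_injective {i i' : GolayPt} {c c' : GolayPt → ZMod 2} (h : vC i c = vC i' c') :
    i = i' ∧ c = c' := by
  have hi : i = i' := by
    by_contra hne
    have := congrFun h i
    unfold vC at this
    rw [if_pos rfl, if_neg hne] at this
    split_ifs at this <;> omega
  subst hi
  refine ⟨rfl, funext fun k => ?_⟩
  apply zmod2_eq_of_iff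
  have := congrFun h k
  unfold vC at this
  by_cases hk : k = i
  · simp only [hk, if_true] at this
    rw [hk]
    constructor
    · intro e
      rw [if_pos e] at this
      by_contra e'
      rw [if_neg e'] at this
      omega
    · intro e
      rw [if_pos e] at this
      by_contra e'
      rw [if_neg e'] at this
      omega
  · simp only [hk, if_false] at this
    constructor
    · intro e
      rw [if_pos e] at this
      by_contra e'
      rw [if_neg e'] at this
      omega
    · intro e
      rw [if_pos e] at this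
      by_contra e'
      rw [if_neg e'] at this
      omega

theorem exists_vC {x : GolayPt → ℤ} (hx : x ∈ leechLattice) (hC : IsC x) :
    ∃ i, ∃ c ∈ golayCode, x = vC i c := by
  obtain ⟨i, hi⟩ := hC
  obtain ⟨m, c, hm, hc, h1, _⟩ := exists_leechDesc_normal hx
  have hcases : ∀ k, (k = i ∧ (x k = 3 ∨ x k = -3)) ∨ (k ≠ i ∧ (x k = 1 ∨ x k = -1)) := by
    intro k
    have := hi k
    by_cases hk : k = i
    · rw [if_pos hk] at this
      exact Or.inl ⟨hk, (abs_eq (by norm_num)).1 this⟩
    · rw [if_neg hk] at this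
      exact Or.inr ⟨hk, (abs_eq (by norm_num)).1 this⟩
  have hm1 : m = 1 := by
    rcases hm with rfl | rfl
    · exfalso
      have := h1 none
      unfold Int.ModEq at this
      rcases hcases none with ⟨_, e | e⟩ | ⟨_, e | e⟩ <;> rw [e] at this <;>
        rcases zmod2_01 (c none) with e' | e' <;> rw [e'] at this <;>
        simp only [ZMod.val_zero, ZMod.val_one, Nat.cast_zero, Nat.cast_one] at this <;> omega
    · rfl
  subst hm1
  refine ⟨i, c, hc, funext fun k => ?_⟩
  have := h1 k
  unfold Int.ModEq at this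
  unfold vC
  rcases hcases k with ⟨hk, e | e⟩ | ⟨hk, e | e⟩ <;> rw [e] at this ⊢ <;>
    rcases zmod2_01 (c k) with e' | e' <;> rw [e'] at this ⊢ <;>
    simp only [ZMod.val_zero, ZMod.val_one, Nat.cast_zero, Nat.cast_one] at this <;>
    simp [hk] <;> omega

/-- The parametrisation of the vectors of shape `(∓3, ±1^23)`. -/
def cMap (p : GolayPt × golayCode) : {v : leechLattice // IsC (v : GolayPt → ℤ)} :=
  ⟨⟨vC p.1 p.2.1, vC_mem p.1 p.2.2⟩, vC_isC p.1 p.2.1⟩

theorem cMap_bijective : Function.Bijective cMap := by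
  constructor
  · rintro ⟨i, ⟨c, hc⟩⟩ ⟨i', ⟨c', hc'⟩⟩ h
    have h1 : vC i c = vC i' c' := congrArg (fun v => ((v.1 : leechLattice) : GolayPt → ℤ)) h
    obtain ⟨rfl, rfl⟩ := vC_injective h1
    rfl
  · rintro ⟨⟨x, hx⟩, hC⟩
    obtain ⟨i, c, hc, rfl⟩ := exists_vC hx hC
    exact ⟨(i, ⟨c, hc⟩), rfl⟩

theorem ncard_isC : {v : leechLattice | IsC (v : GolayPt → ℤ)}.ncard = 98304 := by
  rw [← Nat.card_coe_set_eq]
  have h := Nat.card_congr (Equiv.ofBijective cMap cMap_bijective)
  rw [Nat.card_prod, golay_card] at h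
  have h24 : Nat.card GolayPt = 24 := by
    rw [Nat.card_eq_fintype_card]; decide
  rw [h24] at h
  exact h.symm.trans (by norm_num)


/-! ### Shape A -/

/-- The sign `±4` attached to a Boolean. -/
def sg4 (b : Bool) : ℤ := if b then 4 else -4

theorem sg4_cases (b : Bool) : sg4 b = 4 ∨ sg4 b = -4 := by
  cases b
  · exact Or.inr rfl
  · exact Or.inl rfl

theorem sg4_injective {a b : Bool} (h : sg4 a = sg4 b) : a = b := by
  revert a b; decide

theorem isA_vecA {i j : GolayPt} (hij : i ≠ j) {s t : ℤ} (hs : s = 4 ∨ s = -4)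
    (ht : t = 4 ∨ t = -4) : IsA (vecA i j s t) := by
  refine ⟨i, j, hij, fun k => ?_⟩
  simp only [vecA, Pi.add_apply, Pi.single_apply]
  by_cases hki : k = i
  · have hkj : k ≠ j := fun e => hij (hki.symm.trans e)
    rw [if_pos hki, if_neg hkj, if_pos (Or.inl hki), add_zero]
    rcases hs with rfl | rfl <;> decide
  · by_cases hkj : k = j
    · rw [if_neg hki, if_pos hkj, if_pos (Or.inr hkj), zero_add]
      rcases ht with rfl | rfl <;> decide
    · rw [if_neg hki, if_neg hkj, if_neg (by tauto), add_zero, abs_zero]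

theorem vecA_apply_left {i j : GolayPt} (hij : i ≠ j) (s t : ℤ) : vecA i j s t i = s := by
  simp only [vecA, Pi.add_apply, Pi.single_apply]
  rw [if_pos trivial, if_neg hij, add_zero]

theorem vecA_apply_right {i j : GolayPt} (hij : i ≠ j) (s t : ℤ) : vecA i j s t j = t := by
  simp only [vecA, Pi.add_apply, Pi.single_apply]
  rw [if_pos trivial, if_neg hij.symm, zero_add]

theorem vecA_apply_other {i j k : GolayPt} (hki : k ≠ i) (hkj : k ≠ j) (s t : ℤ) :
    vecA i j s t k = 0 := by
  simp only [vecA, Pi.add_apply, Pi.single_apply]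
  rw [if_neg hki, if_neg hkj, add_zero]

theorem vecA_injective {i j i' j' : GolayPt} (hlt : gIdx i < gIdx j) (hlt' : gIdx i' < gIdx j')
    {s t s' t' : ℤ} (hs : s = 4 ∨ s = -4) (ht : t = 4 ∨ t = -4)
    (h : vecA i j s t = vecA i' j' s' t') : i = i' ∧ j = j' ∧ s = s' ∧ t = t' := by
  have hij : i ≠ j := fun e => by rw [e] at hlt; exact lt_irrefl _ hlt
  have hij' : i' ≠ j' := fun e => by rw [e] at hlt'; exact lt_irrefl _ hlt'
  have h1 : i = i' ∨ i = j' := by
    by_contra hne
    push Not at hne
    have := congrFun h i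
    rw [vecA_apply_left hij, vecA_apply_other hne.1 hne.2] at this
    rcases hs with e | e <;> omega
  have h2 : j = i' ∨ j = j' := by
    by_contra hne
    push Not at hne
    have := congrFun h j
    rw [vecA_apply_right hij, vecA_apply_other hne.1 hne.2] at this
    rcases ht with e | e <;> omega
  have hii : i = i' := by
    rcases h1 with e | e
    · exact e
    · exfalso
      rcases h2 with e2 | e2
      · rw [e, e2] at hlt
        exact lt_asymm hlt hlt'
      · exact hij (e.trans e2.symm)
  have hjj : j = j' := by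
    rcases h2 with e | e
    · exact absurd (hii.trans e.symm) hij
    · exact e
  subst hii
  subst hjj
  refine ⟨rfl, rfl, ?_, ?_⟩
  · have := congrFun h i
    rwa [vecA_apply_left hij, vecA_apply_left hij] at this
  · have := congrFun h j
    rwa [vecA_apply_right hij, vecA_apply_right hij] at this

theorem exists_vecA_lt {x : GolayPt → ℤ} (hA : IsA x) :
    ∃ i j, gIdx i < gIdx j ∧ ∃ a b : Bool, x = vecA i j (sg4 a) (sg4 b) := by
  obtain ⟨i, j, hij, h⟩ := hA
  have key : ∀ i j : GolayPt, i ≠ j → (∀ k, |x k| = if k = i ∨ k = j then 4 else 0) →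
      x = vecA i j (x i) (x j) := by
    intro i j hij h
    funext k
    by_cases hki : k = i
    · rw [hki, vecA_apply_left hij]
    · by_cases hkj : k = j
      · rw [hkj, vecA_apply_right hij]
      · rw [vecA_apply_other hki hkj]
        have := h k
        rw [if_neg (by tauto), abs_eq_zero] at this
        exact this
  have hval : ∀ k, (k = i ∨ k = j) → ∃ a : Bool, x k = sg4 a := by
    intro k hk
    have := h k
    rw [if_pos hk] at this
    rcases (abs_eq (by norm_num)).1 this with e | e
    · exact ⟨true, e⟩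
    · exact ⟨false, e⟩
  obtain ⟨a, ha⟩ := hval i (Or.inl rfl)
  obtain ⟨b, hb⟩ := hval j (Or.inr rfl)
  rcases lt_or_gt_of_ne (fun e => hij (gIdx_injective e)) with hlt | hgt
  · exact ⟨i, j, hlt, a, b, by rw [← ha, ← hb]; exact key i j hij h⟩
  · refine ⟨j, i, hgt, b, a, ?_⟩
    rw [← ha, ← hb]
    apply key j i hij.symm
    intro k
    rw [h k]
    simp only [or_comm]

/-- The pairs of points in increasing order. -/
abbrev LtPair : Type := {p : GolayPt × GolayPt // gIdx p.1 < gIdx p.2}

theorem card_ltPair : Nat.card LtPair = 276 := by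
  rw [Nat.card_eq_fintype_card]
  decide +kernel

/-- The parametrisation of the vectors of shape `(±4, ±4, 0^22)`. -/
def aMap (p : LtPair × Bool × Bool) : {v : leechLattice // IsA (v : GolayPt → ℤ)} :=
  have hne : p.1.1.1 ≠ p.1.1.2 := fun e => by
    have := p.1.2
    rw [e] at this
    exact lt_irrefl _ this
  ⟨⟨vecA p.1.1.1 p.1.1.2 (sg4 p.2.1) (sg4 p.2.2), vecA_mem hne (sg4_cases _) (sg4_cases _)⟩,
    isA_vecA hne (sg4_cases _) (sg4_cases _)⟩

theorem aMap_bijective : Function.Bijective aMap := by
  constructor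
  · rintro ⟨⟨⟨i, j⟩, hlt⟩, a, b⟩ ⟨⟨⟨i', j'⟩, hlt'⟩, a', b'⟩ h
    have h1 : vecA i j (sg4 a) (sg4 b) = vecA i' j' (sg4 a') (sg4 b') :=
      congrArg (fun v => ((v.1 : leechLattice) : GolayPt → ℤ)) h
    obtain ⟨rfl, rfl, hs, ht⟩ := vecA_injective hlt hlt' (sg4_cases a) (sg4_cases b) h1
    rw [sg4_injective hs, sg4_injective ht]
  · rintro ⟨⟨x, hx⟩, hA⟩
    obtain ⟨i, j, hlt, a, b, rfl⟩ := exists_vecA_lt hA
    exact ⟨(⟨(i, j), hlt⟩, a, b), rfl⟩

theorem ncard_isA : {v : leechLattice | IsA (v : GolayPt → ℤ)}.ncard = 1104 := by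
  rw [← Nat.card_coe_set_eq]
  have h := Nat.card_congr (Equiv.ofBijective aMap aMap_bijective)
  rw [Nat.card_prod, Nat.card_prod, card_ltPair] at h
  have h2 : Nat.card Bool = 2 := by
    rw [Nat.card_eq_fintype_card]; rfl
  rw [h2] at h
  exact h.symm.trans (by norm_num)


/-! ### Norms and disjointness of the shapes -/

theorem sqNorm_eq_sum_abs (x : GolayPt → ℤ) : sqNorm x = ∑ k, |x k| ^ 2 := by
  unfold sqNorm
  exact Finset.sum_congr rfl (fun k _ => (sq_abs (x k)).symm)

theorem sqNorm_of_isC {x : GolayPt → ℤ} (h : IsC x) : sqNorm x = 32 := by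
  obtain ⟨i, hi⟩ := h
  rw [sqNorm_eq_sum_abs]
  have h1 : ∀ k, |x k| ^ 2 = 1 + (if k = i then 8 else 0) := by
    intro k
    rw [hi k]
    split_ifs <;> norm_num
  rw [Finset.sum_congr rfl (fun k _ => h1 k), Finset.sum_add_distrib,
    Finset.sum_ite_eq' Finset.univ i]
  simp only [Finset.sum_const, Finset.card_univ, card_golayPt, Finset.mem_univ, if_true]
  norm_num

theorem sqNorm_of_isA {x : GolayPt → ℤ} (h : IsA x) : sqNorm x = 32 := by
  obtain ⟨i, j, hij, hk⟩ := h
  rw [sqNorm_eq_sum_abs]
  have h1 : ∀ k, |x k| ^ 2 = (if k = i then 16 else 0) + (if k = j then 16 else 0) := by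
    intro k
    rw [hk k]
    by_cases hki : k = i
    · have hkj : k ≠ j := fun e => hij (hki.symm.trans e)
      rw [if_pos (Or.inl hki), if_pos hki, if_neg hkj]; norm_num
    · by_cases hkj : k = j
      · rw [if_pos (Or.inr hkj), if_neg hki, if_pos hkj]; norm_num
      · rw [if_neg (by tauto), if_neg hki, if_neg hkj]; norm_num
  rw [Finset.sum_congr rfl (fun k _ => h1 k), Finset.sum_add_distrib,
    Finset.sum_ite_eq' Finset.univ i, Finset.sum_ite_eq' Finset.univ j]
  simp only [Finset.mem_univ, if_true]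
  norm_num

theorem sqNorm_of_isB {x : GolayPt → ℤ} (h : IsB x) : sqNorm x = 32 := by
  obtain ⟨c, _, h8, hk⟩ := h
  rw [sqNorm_eq_sum_abs]
  have h1 : ∀ k, |x k| ^ 2 = 4 * (if c k ≠ 0 then 1 else 0) := by
    intro k
    rw [hk k]
    split_ifs <;> norm_num
  rw [Finset.sum_congr rfl (fun k _ => h1 k), ← Finset.mul_sum, Finset.sum_boole]
  have : (Finset.univ.filter fun k => c k ≠ 0) = support₂ c := rfl
  rw [this, h8]
  norm_num

theorem not_isA_isC {x : GolayPt → ℤ} (hA : IsA x) (hC : IsC x) : False := by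
  obtain ⟨i, j, _, h⟩ := hA
  obtain ⟨i', h'⟩ := hC
  have h1 := h i
  have h2 := h' i
  rw [if_pos (Or.inl rfl)] at h1
  rw [h1] at h2
  split_ifs at h2 <;> omega

theorem not_isA_isB {x : GolayPt → ℤ} (hA : IsA x) (hB : IsB x) : False := by
  obtain ⟨i, j, _, h⟩ := hA
  obtain ⟨c, _, _, h'⟩ := hB
  have h1 := h i
  have h2 := h' i
  rw [if_pos (Or.inl rfl)] at h1
  rw [h1] at h2
  split_ifs at h2 <;> omega

theorem not_isB_isC {x : GolayPt → ℤ} (hB : IsB x) (hC : IsC x) : False := by
  obtain ⟨c, _, _, h⟩ := hB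
  obtain ⟨i', h'⟩ := hC
  have h1 := h none
  have h2 := h' none
  rw [h1] at h2
  split_ifs at h2 <;> omega

/-- The number of lattice vectors of squared length 32 (subtype version). -/
theorem ncard_norm32 : {v : leechLattice | sqNorm (v : GolayPt → ℤ) = 32}.ncard = 196560 := by
  rw [← leech_count_32, ← Set.ncard_image_of_injective _ Subtype.val_injective]
  congr 1
  ext w
  constructor
  · rintro ⟨v, hv, rfl⟩
    exact ⟨v.2, hv⟩
  · rintro ⟨h1, h2⟩
    exact ⟨⟨w, h1⟩, h2, rfl⟩

/-! ### Unions of orbits containing the shape A -/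

/-- A set of vectors of squared length 32 which is closed under the stabiliser of the standard
cross and contains a vector of shape `(±4, ±4, 0^22)` is the set of vectors of that shape, or has
`98256` or `99408` elements, or consists of all the vectors of squared length 32. -/
theorem nOrbit_cases (O : Set leechLattice)
    (h32 : ∀ w ∈ O, sqNorm ((w : leechLattice) : GolayPt → ℤ) = 32)
    (hN : ∀ w ∈ O, ∀ w' : leechLattice, NRel w w' → w' ∈ O)
    (hA : ∃ w ∈ O, IsA ((w : leechLattice) : GolayPt → ℤ)) :
    O = {w : leechLattice | IsA (w : GolayPt → ℤ)} ∨ O.ncard = 98256 ∨ O.ncard = 99408 ∨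
      O = {w : leechLattice | sqNorm (w : GolayPt → ℤ) = 32} := by
  classical
  have hfin32 : {v : leechLattice | sqNorm (v : GolayPt → ℤ) = 32}.Finite :=
    Set.finite_of_ncard_ne_zero (by rw [ncard_norm32]; norm_num)
  have hAO : ∀ w : leechLattice, IsA (w : GolayPt → ℤ) → w ∈ O := by
    obtain ⟨w0, hw0, hA0⟩ := hA
    exact fun w hw => hN w0 hw0 w (ntransA hA0 hw)
  by_cases hB : ∃ w ∈ O, IsB ((w : leechLattice) : GolayPt → ℤ)
  · have hBO : ∀ w : leechLattice, IsB (w : GolayPt → ℤ) → w ∈ O := by
      obtain ⟨w0, hw0, hB0⟩ := hB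
      exact fun w hw => hN w0 hw0 w (ntransB hB0 hw)
    by_cases hC : ∃ w ∈ O, IsC ((w : leechLattice) : GolayPt → ℤ)
    · have hCO : ∀ w : leechLattice, IsC (w : GolayPt → ℤ) → w ∈ O := by
        obtain ⟨w0, hw0, hC0⟩ := hC
        exact fun w hw => hN w0 hw0 w (ntransC hC0 hw)
      right; right; right
      ext w
      constructor
      · exact h32 w
      · intro hw
        rcases shape32 w.2 hw with h | h | h
        · exact hAO w h
        · exact hBO w h
        · exact hCO w h
    · right; left
      push Not at hC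
      have hO : O = {v : leechLattice | sqNorm (v : GolayPt → ℤ) = 32}
          \ {v : leechLattice | IsC (v : GolayPt → ℤ)} := by
        ext w
        constructor
        · exact fun hw => ⟨h32 w hw, hC w hw⟩
        · rintro ⟨hw, hnc⟩
          rcases shape32 w.2 hw with h | h | h
          · exact hAO w h
          · exact hBO w h
          · exact absurd h hnc
      have hsub : {v : leechLattice | IsC (v : GolayPt → ℤ)}
          ⊆ {v : leechLattice | sqNorm (v : GolayPt → ℤ) = 32} := fun w hw => sqNorm_of_isC hw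
      rw [hO, Set.ncard_sdiff hsub (hfin32.subset hsub), ncard_norm32, ncard_isC]
  · push Not at hB
    by_cases hC : ∃ w ∈ O, IsC ((w : leechLattice) : GolayPt → ℤ)
    · have hCO : ∀ w : leechLattice, IsC (w : GolayPt → ℤ) → w ∈ O := by
        obtain ⟨w0, hw0, hC0⟩ := hC
        exact fun w hw => hN w0 hw0 w (ntransC hC0 hw)
      right; right; left
      have hO : O = {v : leechLattice | IsA (v : GolayPt → ℤ)}
          ∪ {v : leechLattice | IsC (v : GolayPt → ℤ)} := by
        ext w
        constructor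
        · intro hw
          rcases shape32 w.2 (h32 w hw) with h | h | h
          · exact Or.inl h
          · exact absurd h (hB w hw)
          · exact Or.inr h
        · rintro (h | h)
          · exact hAO w h
          · exact hCO w h
      have hsubA : {v : leechLattice | IsA (v : GolayPt → ℤ)}
          ⊆ {v : leechLattice | sqNorm (v : GolayPt → ℤ) = 32} := fun w hw => sqNorm_of_isA hw
      have hsubC : {v : leechLattice | IsC (v : GolayPt → ℤ)}
          ⊆ {v : leechLattice | sqNorm (v : GolayPt → ℤ) = 32} := fun w hw => sqNorm_of_isC hw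
      have hdisj : Disjoint {v : leechLattice | IsA (v : GolayPt → ℤ)}
          {v : leechLattice | IsC (v : GolayPt → ℤ)} := by
        rw [Set.disjoint_left]
        exact fun w hw hw' => not_isA_isC hw hw'
      rw [hO, Set.ncard_union_eq hdisj (hfin32.subset hsubA) (hfin32.subset hsubC), ncard_isA,
        ncard_isC]
    · left
      push Not at hC
      ext w
      constructor
      · intro hw
        rcases shape32 w.2 (h32 w hw) with h | h | h
        · exact h
        · exact absurd h (hB w hw)
        · exact absurd h (hC w hw)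
      · exact hAO w

end Cfsg.Agent.Lib.H27
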