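import Mathlib
import Cfsg.Prelude.Def_Sporadic_a
import Cfsg.Prelude.Def_SporadicCombinatorics
import Cfsg.Agent.Lib.H27.Co0NOrbit
import Cfsg.Agent.Lib.H28.M24Basic
import Cfsg.Agent.Lib.H18.NXGram

/-!
helper27 library (for S1572, step 1): the element `s` of order 23 of the stabiliser `N` of the
standard cross given by the translation `x ↦ x + 1`; if `k⁻¹ s k ∈ N` then `k ∈ N`.
-/

set_option autoImplicit false

namespace Cfsg.Agent.Lib.H27

open Cfsg Finset Cfsg.Agent.Lib.H28

/-- The element of order 23. -/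
def s23 : Co0 := permCo0 permS permS_mem_M24

theorem s23_stab : StabCross s23 := permCo0_stab permS permS_mem_M24

theorem permS_pow_23 : permS ^ 23 = 1 := by
  apply Equiv.ext
  intro p
  apply gIdx_injective
  revert p
  decide +kernel

theorem s23_pow_smul (n : ℕ) (v : leechLattice) (k : GolayPt) :
    ((s23 ^ n • v : leechLattice) : GolayPt → ℤ) ((permS ^ n) k) = (v : GolayPt → ℤ) k := by
  induction n generalizing k with
  | zero => simp
  | succ n ih =>
    rw [pow_succ', mul_smul]
    show ((permCo0 permS permS_mem_M24 • (s23 ^ n • v) : leechLattice) : GolayPt → ℤ) _ = _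
    rw [permCo0_smul, pow_succ', Equiv.Perm.mul_apply, Equiv.symm_apply_apply]
    exact ih k

theorem s23_pow_23 : s23 ^ 23 = 1 := by
  apply Co0_ext
  intro v
  funext k
  have := s23_pow_smul 23 v k
  rw [permS_pow_23] at this
  rw [one_smul]
  exact this

/-- A vector fixed by `s23` is constant on the residues. -/
theorem const_of_s23_fix {y : leechLattice} (h : s23 • y = y) (x : ZMod 23) :
    (y : GolayPt → ℤ) (some x) = (y : GolayPt → ℤ) (some 0) := by
  have h1 : ∀ p : GolayPt, (y : GolayPt → ℤ) (permS p) = (y : GolayPt → ℤ) p := by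
    intro p
    have := s23_pow_smul 1 y p
    rw [pow_one, pow_one, h] at this
    exact this
  have h2 : ∀ n : ℕ, (y : GolayPt → ℤ) (some (n : ZMod 23)) = (y : GolayPt → ℤ) (some 0) := by
    intro n
    induction n with
    | zero => simp
    | succ n ih =>
      rw [← ih, ← h1 (some (n : ZMod 23))]
      have e : permS (some (n : ZMod 23)) = some ((n + 1 : ℕ) : ZMod 23) := by
        show some ((n : ZMod 23) + 1) = some ((n + 1 : ℕ) : ZMod 23)
        push_cast
        rfl
      rw [e]
  have := h2 x.val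
  rwa [ZMod.natCast_zmod_val] at this

theorem sqNorm_option (y : GolayPt → ℤ) :
    sqNorm y = y none ^ 2 + ∑ x : ZMod 23, y (some x) ^ 2 := by
  unfold sqNorm
  exact Fintype.sum_option _

/-- A vector of squared length 64 fixed by `s23` lies in the standard cross. -/
theorem mem_stdCross_of_s23_fix {y : leechLattice} (h : s23 • y = y)
    (hn : sqNorm (y : GolayPt → ℤ) = 64) : (y : GolayPt → ℤ) ∈ stdCross := by
  have hc := const_of_s23_fix h
  rw [sqNorm_option, Finset.sum_congr rfl (fun x _ => by rw [hc x]), Finset.sum_const,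
    Finset.card_univ, ZMod.card, nsmul_eq_mul] at hn
  push_cast at hn
  set a := (y : GolayPt → ℤ) none with ha
  set b := (y : GolayPt → ℤ) (some 0) with hb
  have hb0 : b = 0 := by
    have h1 : b ^ 2 ≤ 2 := by nlinarith [sq_nonneg a]
    have h2 : -1 ≤ b ∧ b ≤ 1 := by constructor <;> nlinarith
    obtain ⟨h3, h4⟩ := h2
    interval_cases b
    · exfalso
      have h5 : a ^ 2 = 41 := by linarith
      have h6 : -7 ≤ a ∧ a ≤ 7 := by constructor <;> nlinarith
      obtain ⟨h7, h8⟩ := h6
      interval_cases a <;> omega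
    · rfl
    · exfalso
      have h5 : a ^ 2 = 41 := by linarith
      have h6 : -7 ≤ a ∧ a ≤ 7 := by constructor <;> nlinarith
      obtain ⟨h7, h8⟩ := h6
      interval_cases a <;> omega
  rw [hb0] at hn
  have ha8 : a = 8 ∨ a = -8 := by
    have h5 : a ^ 2 = 64 := by linarith
    have h6 : (a - 8) * (a + 8) = 0 := by linarith
    rcases mul_eq_zero.1 h6 with e | e
    · left; linarith
    · right; linarith
  refine ⟨none, a, ha8, funext fun p => ?_⟩
  cases p with
  | none => rw [Pi.single_eq_same]
  | some x =>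
    rw [Pi.single_apply, if_neg (by simp)]
    rw [hc x, hb0]

/-- Powers of an element stabilising the standard cross, along its permutation. -/
theorem stab_pow_abs {g : Co0} {τ : Equiv.Perm GolayPt} {ε : GolayPt → ℤ}
    (hε : ∀ i, ε i = 1 ∨ ε i = -1)
    (h : ∀ (v : leechLattice) (i : GolayPt),
      ((g • v : leechLattice) : GolayPt → ℤ) (τ i) = ε i * (v : GolayPt → ℤ) i)
    (n : ℕ) (v : leechLattice) (i : GolayPt) :
    |((g ^ n • v : leechLattice) : GolayPt → ℤ) ((τ ^ n) i)| = |(v : GolayPt → ℤ) i| := by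
  induction n with
  | zero => simp
  | succ n ih =>
    rw [pow_succ', mul_smul, pow_succ', Equiv.Perm.mul_apply, h, abs_mul, ih]
    rcases hε ((τ ^ n) i) with e | e <;> rw [e] <;> simp

theorem stab_pow_fix {g : Co0} {τ : Equiv.Perm GolayPt} {ε : GolayPt → ℤ}
    (h : ∀ (v : leechLattice) (i : GolayPt),
      ((g • v : leechLattice) : GolayPt → ℤ) (τ i) = ε i * (v : GolayPt → ℤ) i)
    {r : GolayPt} (hr : τ r = r) (n : ℕ) (v : leechLattice) :
    ((g ^ n • v : leechLattice) : GolayPt → ℤ) r = ε r ^ n * (v : GolayPt → ℤ) r := by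
  induction n with
  | zero => simp
  | succ n ih =>
    have := h (g ^ n • v) r
    rw [hr] at this
    rw [pow_succ', mul_smul, this, ih]
    ring

/-- An element of order dividing 23 stabilising the standard cross fixes one of its vectors. -/
theorem exists_fix_of_pow_23 {g : Co0} (hg : StabCross g) (h23 : g ^ 23 = 1) :
    ∃ r : GolayPt, g • u8 r = u8 r := by
  classical
  obtain ⟨τ, ε, hε, h⟩ := stab_structure hg
  have hτ : τ ^ 23 = 1 := by
    apply Equiv.ext
    intro i
    have := stab_pow_abs hε h 23 (u8 i) i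
    rw [h23, one_smul] at this
    by_contra hne
    change ¬ (τ ^ 23) i = i at hne
    have h1 : ((u8 i : leechLattice) : GolayPt → ℤ) ((τ ^ 23) i) = 0 := by
      show (Pi.single i 8 : GolayPt → ℤ) ((τ ^ 23) i) = 0
      rw [Pi.single_apply, if_neg hne]
    have h2 : ((u8 i : leechLattice) : GolayPt → ℤ) i = 8 := by
      show (Pi.single i 8 : GolayPt → ℤ) i = 8
      rw [Pi.single_eq_same]
    rw [h1, h2] at this
    norm_num at this
  -- a fixed point of `τ`
  have hP : IsPGroup 23 (Subgroup.zpowers τ) := by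
    rintro ⟨g', hg'⟩
    obtain ⟨n, rfl⟩ := Subgroup.mem_zpowers_iff.1 hg'
    refine ⟨1, Subtype.ext ?_⟩
    show (τ ^ n) ^ 23 ^ 1 = 1
    rw [pow_one, ← zpow_natCast, ← zpow_mul, mul_comm, zpow_mul, zpow_natCast, hτ, one_zpow]
  have : Fact (Nat.Prime 23) := ⟨by norm_num⟩
  have hmod := hP.card_modEq_card_fixedPoints GolayPt
  have h24 : Nat.card GolayPt = 24 := by
    rw [Nat.card_eq_fintype_card]; decide
  rw [h24] at hmod
  have hne : Nat.card (MulAction.fixedPoints (Subgroup.zpowers τ) GolayPt) ≠ 0 := by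
    intro h0
    rw [h0] at hmod
    unfold Nat.ModEq at hmod
    norm_num at hmod
  obtain ⟨⟨r, hr⟩⟩ := (Nat.card_pos_iff.1 (Nat.pos_of_ne_zero hne)).1
  have hτr : τ r = r := hr ⟨τ, Subgroup.mem_zpowers τ⟩
  refine ⟨r, ?_⟩
  have hεr : ε r = 1 := by
    have := stab_pow_fix h hτr 23 (u8 r)
    rw [h23, one_smul] at this
    have h2 : ((u8 r : leechLattice) : GolayPt → ℤ) r = 8 := by
      show (Pi.single r 8 : GolayPt → ℤ) r = 8
      rw [Pi.single_eq_same]
    rw [h2] at this
    rcases hε r with e | e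
    · exact e
    · rw [e] at this
      norm_num at this
  apply Subtype.ext
  funext k
  have h3 := h (u8 r) (τ.symm k)
  rw [Equiv.apply_symm_apply] at h3
  rw [h3]
  show ε (τ.symm k) * (Pi.single r 8 : GolayPt → ℤ) (τ.symm k) = (Pi.single r 8 : GolayPt → ℤ) k
  by_cases hk : k = r
  · rw [hk, ← hτr, Equiv.symm_apply_apply, hτr, hεr, one_mul]
  · have : τ.symm k ≠ r := by
      intro e
      apply hk
      rw [← hτr, ← e, Equiv.apply_symm_apply]
    rw [Pi.single_apply, if_neg this, Pi.single_apply, if_neg hk, mul_zero]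

/-- (P1a) If a conjugate `k⁻¹ s k` of the element `s` of order 23 stabilises the standard cross,
so does `k`. -/
theorem stabCross_of_conj_s23 {k : Co0} (h : StabCross (k⁻¹ * s23 * k)) : StabCross k := by
  have h23 : (k⁻¹ * s23 * k) ^ 23 = 1 := by
    have : k⁻¹ * s23 * k = MulAut.conj k⁻¹ s23 := by
      rw [MulAut.conj_apply, inv_inv]
    rw [this, ← map_pow, s23_pow_23, map_one]
  obtain ⟨r, hr⟩ := exists_fix_of_pow_23 h h23
  have hfix : s23 • (k • u8 r) = k • u8 r := by
    have := congrArg (fun v : leechLattice => k • v) hr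
    simp only [mul_smul, smul_inv_smul] at this
    exact this
  apply Cfsg.Agent.Lib.H18.NX.stabCross_of_mem (i0 := r)
  apply mem_stdCross_of_s23_fix hfix
  rw [Co0_sqNorm]
  show sqNorm (Pi.single r 8 : GolayPt → ℤ) = 64
  rw [sqNorm_single]
  norm_num

end Cfsg.Agent.Lib.H27
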