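import Mathlib
import Cfsg.Prelude.Def_Sporadic_a
import Cfsg.Prelude.Def_SporadicCombinatorics
import Cfsg.Agent.Lib.H27.Co0NP1
import Cfsg.Agent.Lib.H27.Co0Order

/-!
helper27 library (for S1572, step 1): the index of the stabiliser `N` of the standard cross in any
subgroup of `Co0` containing it is `≡ 1 (mod 23)`.
-/

set_option autoImplicit false

namespace Cfsg.Agent.Lib.H27

open Cfsg Finset Cfsg.Agent.Lib.H28

/-- (P1) prime 23: the index of the stabiliser `N` of the standard cross in any overgroup is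
`≡ 1 (mod 23)`. -/
theorem relIndex_mod_23 (N K : Subgroup Co0) (hN : ∀ g : Co0, g ∈ N ↔ StabCross g)
    (hNK : N ≤ K) : N.relIndex K % 23 = 1 := by
  classical
  have hfin : Finite Co0 := Nat.finite_of_card_ne_zero (by rw [card_Co0]; norm_num)
  have hsN : s23 ∈ N := (hN s23).2 s23_stab
  set sK : ↥K := ⟨s23, hNK hsN⟩ with hsK
  have hsK23 : sK ^ 23 = 1 := by
    apply Subtype.ext
    show s23 ^ 23 = 1
    exact s23_pow_23
  set P : Subgroup ↥K := Subgroup.zpowers sK with hPdef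
  have hP : IsPGroup 23 P := by
    rintro ⟨g', hg'⟩
    obtain ⟨n, rfl⟩ := Subgroup.mem_zpowers_iff.1 hg'
    refine ⟨1, Subtype.ext ?_⟩
    show (sK ^ n) ^ 23 ^ 1 = 1
    rw [pow_one, ← zpow_natCast, ← zpow_mul, mul_comm, zpow_mul, zpow_natCast, hsK23, one_zpow]
  have : Fact (Nat.Prime 23) := ⟨by norm_num⟩
  have hmod := hP.card_modEq_card_fixedPoints (↥K ⧸ N.subgroupOf K)
  have hPN : ∀ g : ↥K, g ∈ P → g ∈ N.subgroupOf K := by
    intro g hg
    obtain ⟨n, rfl⟩ := Subgroup.mem_zpowers_iff.1 hg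
    exact (N.subgroupOf K).zpow_mem (Subgroup.mem_subgroupOf.2 hsN) n
  have hfix : MulAction.fixedPoints P (↥K ⧸ N.subgroupOf K)
      = {((1 : ↥K) : ↥K ⧸ N.subgroupOf K)} := by
    ext x
    rw [Set.mem_singleton_iff]
    constructor
    · intro hx
      induction x using QuotientGroup.induction_on with
      | H k =>
        have h1 := hx ⟨sK, Subgroup.mem_zpowers sK⟩
        have h2 : ((sK * k : ↥K) : ↥K ⧸ N.subgroupOf K) = (k : ↥K ⧸ N.subgroupOf K) := h1
        rw [QuotientGroup.eq] at h2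
        have h3 : ((sK * k)⁻¹ * k : ↥K) ∈ N.subgroupOf K := h2
        have h4 : ((sK * k)⁻¹ * k : ↥K)⁻¹ ∈ N.subgroupOf K := (N.subgroupOf K).inv_mem h3
        have h5 : ((sK * k)⁻¹ * k : ↥K)⁻¹ = k⁻¹ * sK * k := by group
        rw [h5, Subgroup.mem_subgroupOf] at h4
        have h6 : StabCross ((k : Co0)⁻¹ * s23 * (k : Co0)) := (hN _).1 h4
        have h7 : (k : Co0) ∈ N := (hN _).2 (stabCross_of_conj_s23 h6)
        rw [eq_comm, QuotientGroup.eq, inv_one, one_mul]
        exact Subgroup.mem_subgroupOf.2 h7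
    · rintro rfl
      rintro ⟨g, hg⟩
      show ((g * 1 : ↥K) : ↥K ⧸ N.subgroupOf K) = ((1 : ↥K) : ↥K ⧸ N.subgroupOf K)
      rw [mul_one, eq_comm, QuotientGroup.eq, inv_one, one_mul]
      exact hPN g hg
  have hone : Nat.card (MulAction.fixedPoints P (↥K ⧸ N.subgroupOf K)) = 1 := by
    rw [hfix, Nat.card_coe_set_eq, Set.ncard_singleton]
  rw [hone] at hmod
  have hrel : N.relIndex K = Nat.card (↥K ⧸ N.subgroupOf K) := rfl
  rw [hrel]
  unfold Nat.ModEq at hmod
  rw [hmod]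

end Cfsg.Agent.Lib.H27
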