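import Mathlib
import Cfsg.Prelude.Def_Sporadic_a
import Cfsg.Prelude.Def_SporadicCombinatorics
import Cfsg.Agent.Lib.H27.Co0NCount
import Cfsg.Agent.Lib.H27.Co0Order
import Cfsg.Agent.Lib.H27.StabTools
import Cfsg.Agent.Lib.H18.NXDefs
import Cfsg.Agent.Lib.H18.NXGram

/-!
helper27 library (for S1572, step 2): a subgroup `K` of `Co0` containing the stabiliser `N` of the
standard cross either is contained in `N` or is transitive on the vectors of squared length 32;
the stabiliser in `N` of `4 e_p + 4 e_q` has index 1104.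
-/

set_option autoImplicit false

namespace Cfsg.Agent.Lib.H27

open Cfsg Finset MulAction Cfsg.Agent.Lib.H28 Cfsg.Agent.Lib.H18.NX

/-- The stabiliser of the standard cross preserves the shape `(±4, ±4, 0^22)`. -/
theorem isA_smul_of_stabCross {g : Co0} (hg : StabCross g) {w : leechLattice}
    (hw : IsA (w : GolayPt → ℤ)) : IsA ((g • w : leechLattice) : GolayPt → ℤ) := by
  obtain ⟨σ, s, hs, h⟩ := stab_structure hg
  obtain ⟨i, j, hij, hk⟩ := hw
  refine ⟨σ i, σ j, fun e => hij (σ.injective e), fun k => ?_⟩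
  have h1 := h w (σ.symm k)
  rw [Equiv.apply_symm_apply] at h1
  rw [h1, abs_mul, hk (σ.symm k)]
  have hs1 : |s (σ.symm k)| = 1 := by
    rcases hs (σ.symm k) with e | e <;> rw [e] <;> decide
  rw [hs1, one_mul]
  have e1 : σ.symm k = i ↔ k = σ i :=
    ⟨fun e => by rw [← e, Equiv.apply_symm_apply], fun e => by rw [e, Equiv.symm_apply_apply]⟩
  have e2 : σ.symm k = j ↔ k = σ j :=
    ⟨fun e => by rw [← e, Equiv.apply_symm_apply], fun e => by rw [e, Equiv.symm_apply_apply]⟩
  simp only [e1, e2]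

theorem vPQ_isA (p q : GolayPt) (hpq : p ≠ q) : IsA ((vPQ p q hpq : leechLattice) : GolayPt → ℤ) :=
  isA_vecA hpq (Or.inl rfl) (Or.inl rfl)

theorem not_dvd_card_Co0_89 : ¬ 89 ∣ Nat.card Co0 := by
  rw [card_Co0]; norm_num

theorem not_dvd_card_Co0_109 : ¬ 109 ∣ Nat.card Co0 := by
  rw [card_Co0]; norm_num

/-- Step 2: a subgroup containing the stabiliser of the standard cross is contained in it, or is
transitive on the vectors of squared length 32. -/
theorem orbit_all_or_le (K : Subgroup Co0) (hNK : ∀ g : Co0, StabCross g → g ∈ K)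
    (p q : GolayPt) (hpq : p ≠ q) :
    (∀ k ∈ K, StabCross k) ∨
      Nat.card ↥K = 196560 * Nat.card ↥(K ⊓ stabilizer Co0 (vPQ p q hpq)) := by
  classical
  set v : leechLattice := vPQ p q hpq with hv
  set S : Set leechLattice := {w | ∃ k ∈ K, k • v = w} with hS
  have hvS : v ∈ S := ⟨1, K.one_mem, one_smul _ _⟩
  have hcard := card_sub_stab K v S hvS
    (fun g hg y hy => by
      obtain ⟨k, hk, rfl⟩ := hy
      exact ⟨g * k, K.mul_mem hg hk, mul_smul g k v⟩)
    (fun y hy => hy)
  have hdvd : Nat.card ↥K ∣ Nat.card Co0 := Subgroup.card_subgroup_dvd_card K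
  have h32 : ∀ w ∈ S, sqNorm ((w : leechLattice) : GolayPt → ℤ) = 32 := by
    rintro w ⟨k, _, rfl⟩
    rw [Co0_sqNorm]
    exact sqNorm_of_isA (vPQ_isA p q hpq)
  have hN : ∀ w ∈ S, ∀ w' : leechLattice, NRel w w' → w' ∈ S := by
    rintro w ⟨k, hk, rfl⟩ w' ⟨g, hg, rfl⟩
    exact ⟨g * k, K.mul_mem (hNK g hg) hk, mul_smul g k v⟩
  rcases nOrbit_cases S h32 hN ⟨v, hvS, vPQ_isA p q hpq⟩ with h | h | h | h
  · left
    intro k hk
    apply stabCross_of_isA
    intro w hw
    have hwS : w ∈ S := by rw [h]; exact hw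
    obtain ⟨k', hk', rfl⟩ := hwS
    have : k • k' • v ∈ S := ⟨k * k', K.mul_mem hk hk', mul_smul k k' v⟩
    rw [h] at this
    exact this
  · exfalso
    rw [h] at hcard
    apply not_dvd_card_Co0_89
    refine dvd_trans ?_ hdvd
    rw [← hcard]
    exact Dvd.dvd.mul_left (by norm_num) _
  · exfalso
    rw [h] at hcard
    apply not_dvd_card_Co0_109
    refine dvd_trans ?_ hdvd
    rw [← hcard]
    exact Dvd.dvd.mul_left (by norm_num) _
  · right
    rw [h, ncard_norm32] at hcard
    rw [← hcard, mul_comm]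

/-- The stabiliser of `4 e_p + 4 e_q` in the stabiliser of the standard cross has index 1104. -/
theorem card_N_eq (N : Subgroup Co0) (hN : ∀ g : Co0, g ∈ N ↔ StabCross g)
    (p q : GolayPt) (hpq : p ≠ q) :
    Nat.card ↥N = 1104 * Nat.card ↥(N ⊓ stabilizer Co0 (vPQ p q hpq)) := by
  have hcard := card_sub_stab N (vPQ p q hpq) {w : leechLattice | IsA (w : GolayPt → ℤ)}
    (vPQ_isA p q hpq)
    (fun g hg y hy => isA_smul_of_stabCross ((hN g).1 hg) hy)
    (fun y hy => by
      obtain ⟨g, hg, e⟩ := ntransA (vPQ_isA p q hpq) hy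
      exact ⟨g, (hN g).2 hg, e⟩)
  rw [ncard_isA] at hcard
  rw [← hcard, mul_comm]

/-- The order of the stabiliser of the standard cross, for a subgroup. -/
theorem card_N (N : Subgroup Co0) (hN : ∀ g : Co0, g ∈ N ↔ StabCross g) :
    Nat.card ↥N = 4096 * 244823040 := by
  rw [← card_stabCross]
  exact Nat.card_congr (Equiv.subtypeEquivRight hN)

end Cfsg.Agent.Lib.H27
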