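import Mathlib
import Cfsg.Prelude.Def_Sporadic_a
import Cfsg.Agent.Lib.H27.Engine4

/-!
helper27 library: machine runs and forests of machine runs (`Engine`, `Engine4`) for the orbit of a vector under
the subgroup of `Co0` generated by explicit words, instead of the full stabiliser of some vectors; the outcome
is a lower bound for the order of any subgroup containing the words.
-/

set_option autoImplicit false

namespace Cfsg.Agent.Lib.H27.Eng

open Cfsg Finset Cfsg.Agent.Lib.H28 Cfsg.Agent.Lib.H27

/-- `y` is the image of `x0` under an element of the subgroup `K`. -/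
def InOrbK (K : Subgroup Co0) (x0 : V) (y : V) : Prop :=
  ∃ g : Co0, g ∈ K ∧ ∃ hx0 : toFn x0 ∈ leechLattice,
    toFn y = ((g • (⟨toFn x0, hx0⟩ : leechLattice) : leechLattice) : GolayPt → ℤ)

variable {K : Subgroup Co0}

theorem InOrbK.mem {x0 y : V} (h : InOrbK K x0 y) : toFn y ∈ leechLattice := by
  obtain ⟨g, _, hx0, hy⟩ := h
  rw [hy]
  exact (g • (⟨toFn x0, hx0⟩ : leechLattice)).2

theorem inOrbK_self (x0 : V) (hx0 : toFn x0 ∈ leechLattice) : InOrbK K x0 x0 :=
  ⟨1, K.one_mem, hx0, by rw [one_smul]⟩

theorem InOrbK.exists {x0 y : V} (h : InOrbK K x0 y) : ∃ g : Co0, g ∈ K ∧ g • mkL x0 = mkL y := by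
  have hy := h.mem
  obtain ⟨g, hg, hx0, hgy⟩ := h
  refine ⟨g, hg, ?_⟩
  rw [mkL_of_mem hx0, mkL_of_mem hy]
  exact Subtype.ext hgy.symm

theorem inOrbK_step {sg : List (List Gen)} (h1 : sgOK sg = true)
    (h2 : ∀ w ∈ sg, wordCo0 w ∈ K) {x0 y : V} (hy : InOrbK K x0 y) (j : ℕ) :
    InOrbK K x0 (actWord (sg.getD j []) y) := by
  by_cases hj : j < sg.length
  · have hw : sg.getD j [] ∈ sg := by
      rw [List.getD_eq_getElem _ _ hj]
      exact List.getElem_mem hj
    set w := sg.getD j [] with hwdef
    unfold sgOK at h1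
    rw [List.all_eq_true] at h1
    have hok := h1 w hw
    have hyL := hy.mem
    obtain ⟨g, hg, hx0, hgy⟩ := hy
    refine ⟨wordCo0 w * g, K.mul_mem (h2 w hw) hg, hx0, ?_⟩
    rw [actWord_spec w hok y hyL, mul_smul]
    congr 2
    exact Subtype.ext hgy
  · rw [List.getD_eq_default _ _ (by omega)]
    exact hy

theorem run_inOrbK {sg : List (List Gen)} (h1 : sgOK sg = true)
    (h2 : ∀ w ∈ sg, wordCo0 w ∈ K) {x0 : V} :
    ∀ (is : List ℕ) (st out : List V), (∀ y ∈ st, InOrbK K x0 y) → (∀ y ∈ out, InOrbK K x0 y) →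
      ∀ y ∈ run sg is st out, InOrbK K x0 y := by
  intro is
  induction is with
  | nil =>
    intro st out _ hout y hy
    exact hout y hy
  | cons i is ih =>
    intro st out hst hout y hy
    cases st with
    | nil => exact hout y hy
    | cons z st =>
      cases i with
      | zero =>
        exact ih st out (fun y hy => hst y (List.mem_cons_of_mem _ hy)) hout y hy
      | succ j =>
        have hz : InOrbK K x0 z := hst z (List.mem_cons_self)
        have hz' := inOrbK_step h1 h2 hz j
        rw [run_push] at hy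
        apply ih _ _ _ _ y hy
        · intro y' hy'
          rcases List.mem_cons.1 hy' with rfl | hy'
          · exact hz'
          · exact hst y' hy'
        · intro y' hy'
          rcases List.mem_cons.1 hy' with rfl | hy'
          · exact hz'
          · exact hout y' hy'

theorem chunkOK_specK {sg : List (List Gen)} (h1 : sgOK sg = true)
    (h2 : ∀ w ∈ sg, wordCo0 w ∈ K) {x0 : V} {p : V → Bool} {c : Chunk} (hc : chunkOK sg p c = true)
    (hroot : InOrbK K x0 c.root) :
    (∀ y ∈ c.out sg, InOrbK K x0 y ∧ y.length = 24) ∧ (∀ r ∈ c.kids, InOrbK K x0 r) ∧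
      ((c.out sg).map packV).Perm c.keys ∧ ((c.out sg).filter p).length = c.stat := by
  unfold chunkOK at hc
  rw [runK_eq] at hc
  simp only [Bool.and_eq_true, beq_iff_eq] at hc
  obtain ⟨hinit, ⟨⟨hlen, hkids⟩, hsorted⟩, hstat⟩ := hc
  unfold Chunk.out
  set L := run sg c.ins [c.root] c.init with hL
  have hin : ∀ y ∈ L, InOrbK K x0 y := by
    apply run_inOrbK h1 h2
    · intro y hy
      rw [List.mem_singleton] at hy
      rw [hy]; exact hroot
    · intro y hy
      rw [List.all_eq_true] at hinit
      have := hinit y hy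
      rw [beq_iff_eq] at this
      rw [this]; exact hroot
  refine ⟨?_, ?_, ?_, hstat⟩
  · intro y hyL
    refine ⟨hin y hyL, ?_⟩
    rw [List.all_eq_true] at hlen
    have := hlen y hyL
    rwa [beq_iff_eq] at this
  · intro r hr
    rw [List.all_eq_true] at hkids
    have := hkids r hr
    rw [List.elem_eq_mem, decide_eq_true_eq] at this
    exact hin r this
  · rw [← hsorted]
    exact (msort_perm _ _).symm

theorem forest_inOrbK {sg : List (List Gen)} (h1 : sgOK sg = true)
    (h2 : ∀ w ∈ sg, wordCo0 w ∈ K) {x0 : V} {p : V → Bool} :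
    ∀ (cs : List Chunk) (avail : List V), (∀ c ∈ cs, chunkOK sg p c = true) →
      linkOK cs avail = true → (∀ r ∈ avail, InOrbK K x0 r) →
      ∀ c ∈ cs, InOrbK K x0 c.root := by
  intro cs
  induction cs with
  | nil => intro _ _ _ _ c hc; simp at hc
  | cons c cs ih =>
    intro avail hok hlink havail
    unfold linkOK at hlink
    rw [Bool.and_eq_true] at hlink
    have hroot : InOrbK K x0 c.root := by
      have := hlink.1
      rw [List.elem_eq_mem, decide_eq_true_eq] at this
      exact havail _ this
    have hspec := chunkOK_specK h1 h2 (hok c List.mem_cons_self) hroot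
    intro c' hc'
    rcases List.mem_cons.1 hc' with rfl | hc'
    · exact hroot
    · apply ih (c.kids ++ avail) (fun c'' hc'' => hok c'' (List.mem_cons_of_mem _ hc'')) hlink.2 _ c' hc'
      intro r hr
      rcases List.mem_append.1 hr with hr | hr
      · exact hspec.2.1 r hr
      · exact havail r hr

/-- The points of a checked forest are distinct images of the root under the subgroup. -/
theorem forest_listK {sg : List (List Gen)} (h1 : sgOK sg = true)
    (h2 : ∀ w ∈ sg, wordCo0 w ∈ K) {x0 : V} (hx0 : toFn x0 ∈ leechLattice) {p : V → Bool}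
    {cs : List Chunk} {n : ℕ}
    (hok : ∀ c ∈ cs, chunkOK sg p c = true) (hlink : linkOK cs [x0] = true)
    (hmerge : mergeOK cs n = true) :
    (forestList sg cs).Nodup ∧ (∀ y ∈ forestList sg cs, y.length = 24 ∧ InOrbK K x0 y) ∧
      (forestList sg cs).length = n := by
  unfold mergeOK at hmerge
  rw [forceNat_eq] at hmerge
  simp only [Bool.and_eq_true, beq_iff_eq] at hmerge
  have hperm := msortF_perm Nat.ble cs.length (cs.map Chunk.keys)
  have hroots := forest_inOrbK h1 h2 cs [x0] hok hlink (by
    intro r hr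
    rw [List.mem_singleton] at hr
    rw [hr]; exact inOrbK_self x0 hx0)
  have hspec : ∀ c ∈ cs, (∀ y ∈ c.out sg, InOrbK K x0 y ∧ y.length = 24) ∧
      ((c.out sg).map packV).Perm c.keys := by
    intro c hc
    have := chunkOK_specK h1 h2 (hok c hc) (hroots c hc)
    exact ⟨this.1, this.2.2.1⟩
  have hmem : ∀ y ∈ forestList sg cs, ∃ c ∈ cs, y ∈ c.out sg := by
    intro y hy
    unfold forestList at hy
    rw [List.mem_flatten] at hy
    obtain ⟨l, hl, hyl⟩ := hy
    rw [List.mem_map] at hl
    obtain ⟨c, hc, rfl⟩ := hl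
    exact ⟨c, hc, hyl⟩
  have hkeys : ((forestList sg cs).map packV).Perm (cs.map Chunk.keys).flatten := by
    unfold forestList
    rw [List.map_flatten, List.map_map]
    apply perm_flatten_of_forall
    rw [List.forall₂_map_left_iff, List.forall₂_map_right_iff, List.forall₂_same]
    intro c hc
    exact (hspec c hc).2
  have hnd : ((forestList sg cs).map packV).Nodup :=
    (hkeys.trans hperm.symm).nodup_iff.2 (nodup_of_strictSortedN hmerge.1)
  refine ⟨List.Nodup.of_map _ hnd, ?_, ?_⟩
  · intro y hy
    obtain ⟨c, hc, hyc⟩ := hmem y hy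
    exact ⟨((hspec c hc).1 y hyc).2, ((hspec c hc).1 y hyc).1⟩
  · rw [← hmerge.2, hperm.length_eq, ← hkeys.length_eq, List.length_map]

/-- Lower bound for the order of a group from `n` distinct points of an orbit. -/
theorem mul_card_stabilizer_le {G X : Type*} [Group G] [Finite G] [MulAction G X] (x0 : X) (n : ℕ)
    (g : Fin n → G) (hinj : ∀ i j, g i • x0 = g j • x0 → i = j) :
    n * Nat.card (MulAction.stabilizer G x0) ≤ Nat.card G := by
  have : Function.Injective (fun q : Fin n × MulAction.stabilizer G x0 => g q.1 * (q.2 : G)) := by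
    rintro ⟨i, c⟩ ⟨j, d⟩ h
    simp only at h
    have hc : (c : G) • x0 = x0 := c.2
    have hd : (d : G) • x0 = x0 := d.2
    have h1 : g i • x0 = g j • x0 := by
      have := congrArg (fun z : G => z • x0) h
      simp only [mul_smul, hc, hd] at this
      exact this
    have hij := hinj i j h1
    subst hij
    have : (c : G) = d := mul_left_cancel h
    rw [Subtype.ext this]
  have h2 := Nat.card_le_card_of_injective _ this
  rwa [Nat.card_prod, Nat.card_fin] at h2

/-- A checked forest of `n` points gives `n * |Stab_K(x0)| ≤ |K|`. -/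
theorem forest_card_le [Finite Co0] {sg : List (List Gen)} (h1 : sgOK sg = true)
    (h2 : ∀ w ∈ sg, wordCo0 w ∈ K) {x0 : V} (hx0 : toFn x0 ∈ leechLattice) {p : V → Bool}
    {cs : List Chunk} {n : ℕ}
    (hok : ∀ c ∈ cs, chunkOK sg p c = true) (hlink : linkOK cs [x0] = true)
    (hmerge : mergeOK cs n = true) :
    n * Nat.card (MulAction.stabilizer ↥K (mkL x0)) ≤ Nat.card ↥K := by
  classical
  obtain ⟨hnd, hall, hlen⟩ := forest_listK h1 h2 hx0 hok hlink hmerge
  set L := forestList sg cs with hL
  have hex : ∀ i : Fin n, ∃ g : ↥K, g • mkL x0 = mkL (L.get (i.cast hlen.symm)) := by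
    intro i
    obtain ⟨g, hg, hgy⟩ := (hall _ (List.get_mem L (i.cast hlen.symm))).2.exists
    exact ⟨⟨g, hg⟩, hgy⟩
  choose g hg using hex
  apply mul_card_stabilizer_le (mkL x0) n g
  intro i j hij
  rw [hg i, hg j] at hij
  have hyi := hall _ (List.get_mem L (i.cast hlen.symm))
  have hyj := hall _ (List.get_mem L (j.cast hlen.symm))
  have e1 := mkL_val hyi.2.mem
  have e2 := mkL_val hyj.2.mem
  rw [hij] at e1
  have heq := eq_of_toFn_eq hyi.1 hyj.1 (e1.symm.trans e2)
  have := (List.Nodup.get_inj_iff hnd).1 heq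
  exact Fin.ext (by simpa using congrArg Fin.val this)

end Cfsg.Agent.Lib.H27.Eng
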