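/-
helper27 library (generated by scripts/gen_co3gen.py): the orbit of the vector `(3; -1^23)` under the subgroup
of `Co0` generated by the coordinate permutations `s`, `d`, `u` of `M23` and the involution `z` centralizing `d`
has 48600 points (forest certificate).
-/
import Mathlib
import Cfsg.Agent.Lib.H27.EngineK
import Cfsg.Agent.Lib.H27.LeechDec

set_option autoImplicit false
set_option maxRecDepth 1000000

namespace Cfsg.Agent.Lib.H27.Co3GenData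

open Cfsg.Agent.Lib.H27.Eng

def wS : List Gen := [Gen.mono [1, 2, 3, 4, 5, 6, 7, 8, 9, 10, 11, 12, 13, 14, 15, 16, 17, 18, 19, 20, 21, 22, 0, 23] [22, 0, 1, 2, 3, 4, 5, 6, 7, 8, 9, 10, 11, 12, 13, 14, 15, 16, 17, 18, 19, 20, 21, 23] 0]
def wD : List Gen := [Gen.mono [0, 2, 4, 6, 8, 10, 12, 14, 16, 18, 20, 22, 1, 3, 5, 7, 9, 11, 13, 15, 17, 19, 21, 23] [0, 12, 1, 13, 2, 14, 3, 15, 4, 16, 5, 17, 6, 18, 7, 19, 8, 20, 9, 21, 10, 22, 11, 23] 0]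
def wU : List Gen := [Gen.mono [0, 18, 6, 3, 2, 21, 1, 5, 16, 12, 7, 19, 8, 9, 17, 15, 13, 11, 4, 22, 10, 20, 14, 23] [0, 6, 4, 3, 18, 7, 2, 10, 12, 13, 20, 17, 9, 16, 22, 15, 8, 14, 1, 11, 21, 5, 19, 23] 0]
def wZ : List Gen := [Gen.mono [7, 23, 16, 1, 11, 5, 3, 8, 17, 9, 13, 18, 19, 4, 14, 2, 12, 22, 10, 15, 20, 6, 0, 21] [22, 3, 15, 6, 13, 5, 21, 0, 7, 9, 18, 4, 16, 10, 14, 19, 2, 8, 11, 12, 20, 23, 17, 1] 8131643, Gen.xi, Gen.mono [3, 20, 6, 16, 5, 11, 10, 7, 19, 13, 9, 21, 22, 23, 1, 15, 4, 18, 0, 14, 2, 12, 17, 8] [18, 14, 20, 0, 16, 4, 2, 7, 23, 10, 6, 5, 21, 9, 19, 15, 3, 22, 17, 8, 1, 11, 12, 13] 8260125, Gen.xi, Gen.mono [23, 17, 16, 12, 2, 8, 20, 7, 5, 13, 15, 4, 1, 0, 10, 21, 9, 6, 18, 3, 22, 14, 19, 11] [13, 12, 4, 19, 11, 8, 17, 7, 5, 16, 14, 23, 3, 9, 21, 10, 2, 1, 18, 22, 6, 15, 20, 0] 16410712, Gen.xi, Gen.mono [17, 2, 12, 21,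 13, 3, 9, 23, 16, 7, 10, 4, 0, 15, 6, 18, 11, 1, 5, 20, 22, 14, 19, 8] [12, 17, 1, 5, 11, 18, 14, 9, 23, 6, 10, 16, 2, 4, 21, 13, 8, 0, 15, 22, 19, 3, 20, 7] 14428807]
def sg : List (List Gen) := [wS, wD, wU, wZ]
def vroot : V := [-1, -1, -1, -1, -1, -1, -1, -1, -1, -1, -1, -1, -1, -1, -1, -1, -1, -1, -1, -1, -1, -1, -1, 3]
def v3 : V := [-1, -1, -1, -1, -1, -1, -1, -1, -1, -1, -1, -1, -1, -1, -1, -1, -1, -1, -1, -1, -1, -1, -1, -5]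

theorem sg_ok : sgOK sg = true := by decide +kernel
theorem sg_fix : fixOK sg [v3] = true := by decide +kernel
theorem vroot_mem : inLeech (toFn vroot) = true := by decide +kernel

end Cfsg.Agent.Lib.H27.Co3GenData
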