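/-
helper27 library (generated by scripts/gen_co2out.py): data for the automorphisms of the Conway group
`Co2`, in the form `Stab(R)`, `R = (3; -1^23)`.  Generators: the coordinate permutations `s = wS` (order 23),
`d = wD` (order 11), `u = wU` (order 5) generating `M23`, and an involution `h = wH` inverting `d`.  The orbit of
`(-4, -4, 0^22)` under the subgroup they generate has 47104 points; the orbit of `(4, -4, 0^22)` under the subgroup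
generated by `M22` and an element `wSig` of the stabilizer of `(-4, -4, 0^22)` has 2025 points (forest certificates).
-/
import Mathlib
import Cfsg.Agent.Lib.H27.EngineK
import Cfsg.Agent.Lib.H27.FixCount
import Cfsg.Agent.Lib.H27.LeechDec
import Cfsg.Agent.Lib.H27.Co3GenData0

set_option autoImplicit false
set_option maxRecDepth 1000000

namespace Cfsg.Agent.Lib.H27.Co2OutData

open Cfsg.Agent.Lib.H27.Eng Cfsg.Agent.Lib.H27.Co3GenData

def wH : List Gen := [Gen.mono [6, 4, 3, 18, 7, 2, 10, 12, 13, 20, 17, 9, 16, 22, 15, 8, 14, 1, 11, 21, 5, 19, 0, 23] [22, 17, 5, 2, 1, 20, 0, 4, 15, 11, 6, 18, 7, 8, 16, 14, 12, 10, 3, 21, 9, 19, 13, 23] 0, Gen.xi, Gen.mono [11, 5, 17, 20, 6, 0, 3, 10, 2, 1, 18, 21, 7, 9, 15, 4, 14, 12, 8, 19, 16, 13, 22, 23] [5, 9, 8, 6, 15, 1, 4, 12, 18, 13, 7, 0, 17, 21, 16, 14, 20, 2, 10, 19, 3, 11, 22, 23] 1103886, Gen.xi, Gen.mono [21, 14, 9, 16, 22,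 18, 2, 19, 6, 0, 17, 1, 20, 4, 8, 15, 13, 11, 3, 5, 7, 10, 12, 23] [9, 11, 6, 18, 13, 19, 8, 20, 14, 2, 21, 17, 22, 16, 1, 15, 3, 10, 5, 7, 12, 0, 4, 23] 0, Gen.xi, Gen.mono [0, 22, 1, 19, 20, 9, 10, 17, 3, 4, 2, 15, 12, 18, 14, 13, 5, 8, 21, 7, 16, 11, 6, 23] [0, 2, 10, 8, 9, 16, 22, 19, 17, 5, 6, 21, 12, 15, 14, 11, 20, 7, 13, 3, 4, 18, 1, 23] 4850476, Gen.xi, Gen.mono [3, 12, 2, 4, 16, 17, 18, 21, 5, 19, 13, 8, 15, 0, 22, 9, 6, 11, 10, 14, 1, 7, 20, 23] [13, 20, 2, 0, 3, 8, 16, 21, 11, 15, 18, 17, 1, 10, 19, 12, 4, 5, 6, 9, 22, 7, 14, 23] 0]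
def wSi : List Gen := [Gen.mono [22, 0, 1, 2, 3, 4, 5, 6, 7, 8, 9, 10, 11, 12, 13, 14, 15, 16, 17, 18, 19, 20, 21, 23] [1, 2, 3, 4, 5, 6, 7, 8, 9, 10, 11, 12, 13, 14, 15, 16, 17, 18, 19, 20, 21, 22, 0, 23] 0]
def wDi : List Gen := [Gen.mono [0, 12, 1, 13, 2, 14, 3, 15, 4, 16, 5, 17, 6, 18, 7, 19, 8, 20, 9, 21, 10, 22, 11, 23] [0, 2, 4, 6, 8, 10, 12, 14, 16, 18, 20, 22, 1, 3, 5, 7, 9, 11, 13, 15, 17, 19, 21, 23] 0]
def wUi : List Gen := [Gen.mono [0, 6, 4, 3, 18, 7, 2, 10, 12, 13, 20, 17, 9, 16, 22, 15, 8, 14, 1, 11, 21, 5, 19, 23] [0, 18, 6, 3, 2, 21, 1, 5, 16, 12, 7, 19, 8, 9, 17, 15, 13, 11, 4, 22, 10, 20, 14, 23] 0]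
def wV : List Gen := [Gen.mono [0, 1, 18, 15, 6, 13, 2, 8, 10, 7, 9, 14, 21, 20, 17, 3, 5, 19, 4, 11, 16, 12, 22, 23] [0, 1, 6, 15, 18, 16, 4, 9, 7, 10, 8, 19, 21, 5, 11, 3, 20, 14, 2, 17, 13, 12, 22, 23] 0]
def sgA : List (List Gen) := [wS, wD, wU, wH]
/-- The factors of `wSig`, in the order of application. -/
def sigWords : List (List Gen) := [wH, wS, wU, wS, wS, wD, wU, wD, wS, wS, wUi, wDi, wSi, wSi, wH]
def wSig : List Gen := sigWords.flatten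
def sgB : List (List Gen) := [wD, wU, wV, wSig]
def y1L : V := [-4, 0, 0, 0, 0, 0, 0, 0, 0, 0, 0, 0, 0, 0, 0, 0, 0, 0, 0, 0, 0, 0, 0, -4]
def upL : V := [-4, 0, 0, 0, 0, 0, 0, 0, 0, 0, 0, 0, 0, 0, 0, 0, 0, 0, 0, 0, 0, 0, 0, 4]
def ypL : V := [4, 0, 0, 0, 0, -2, 0, -2, 0, 0, -2, -2, 0, 0, -2, -2, 0, -2, 0, -2, -2, -2, -2, 2]
def tvec : V := [1, 1, 1, -1, -1, 1, 1, 1, -1, 1, 1, -1, 1, -3, 1, 1, -1, -1, 1, -1, 1, -1, 1, 1]

theorem sgA_ok : sgOK sgA = true := by decide +kernel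
theorem sgB_ok : sgOK sgB = true := by decide +kernel
theorem wSi_ok : wSi.all Gen.ok = true := by decide +kernel
theorem wDi_ok : wDi.all Gen.ok = true := by decide +kernel
theorem wUi_ok : wUi.all Gen.ok = true := by decide +kernel
theorem sgA_fix : fixOK sgA [vroot] = true := by decide +kernel
theorem sgB_fix : fixOK sgB [vroot, y1L] = true := by decide +kernel
theorem y1L_mem : inLeech (toFn y1L) = true := by decide +kernel
theorem upL_mem : inLeech (toFn upL) = true := by decide +kernel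
theorem ypL_mem : inLeech (toFn ypL) = true := by decide +kernel
theorem tvec_mem : inLeech (toFn tvec) = true := by decide +kernel

end Cfsg.Agent.Lib.H27.Co2OutData
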