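/-
helper27 library (generated by scripts/gen_co1out.py): data for the automorphisms of the Conway group `Co1`, the
quotient of `Co0` by its centre.  Generators: the images of `s = wS`, `d = wD`, `u = wU`, `h = wH` (generating
`Co2`, the stabilizer of `(3; -1^23)`) and of the sign change `e = wE` on the dodecad `Q ∪ {0}`; further the
involution `z = wZ` of `Co3` centralizing `d`, and the coordinate permutation `t = wT : x ↦ -1/x` inverting `d`.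
-/
import Mathlib
import Cfsg.Agent.Lib.H27.Co2OutData0

set_option autoImplicit false
set_option maxRecDepth 1000000

namespace Cfsg.Agent.Lib.H27.Co1OutData

open Cfsg.Agent.Lib.H27.Eng Cfsg.Agent.Lib.H27.Co3GenData Cfsg.Agent.Lib.H27.Co2OutData

def wE : List Gen := [Gen.mono [0, 1, 2, 3, 4, 5, 6, 7, 8, 9, 10, 11, 12, 13, 14, 15, 16, 17, 18, 19, 20, 21, 22, 23] [0, 1, 2, 3, 4, 5, 6, 7, 8, 9, 10, 11, 12, 13, 14, 15, 16, 17, 18, 19, 20, 21, 22, 23] 340831]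
def wT : List Gen := [Gen.mono [23, 22, 11, 15, 17, 9, 19, 13, 20, 5, 16, 2, 21, 7, 18, 3, 10, 4, 14, 6, 8, 12, 1, 0] [23, 22, 11, 15, 17, 9, 19, 13, 20, 5, 16, 2, 21, 7, 18, 3, 10, 4, 14, 6, 8, 12, 1, 0] 0]
/-- The powers of `d` as single letters. -/
def dPowW : List (List Gen) := [[], [Gen.mono [0, 2, 4, 6, 8, 10, 12, 14, 16, 18, 20, 22, 1, 3, 5, 7, 9, 11, 13, 15, 17, 19, 21, 23] [0, 12, 1, 13, 2, 14, 3, 15, 4, 16, 5, 17, 6, 18, 7, 19, 8, 20, 9, 21, 10, 22, 11, 23] 0], [Gen.mono [0, 4, 8, 12, 16, 20, 1, 5, 9, 13, 17, 21, 2, 6, 10, 14, 18, 22, 3, 7, 11, 15, 19, 23] [0, 6, 12, 18, 1, 7, 13, 19, 2, 8, 14, 20, 3, 9, 15, 21, 4, 10, 16, 22, 5, 11, 17, 23] 0], [Gen.mono [0, 8, 16, 1, 9, 17, 2, 10, 18, 3, 11, 19, 4, 12, 20, 5, 13, 21, 6, 14, 22, 7, 15, 23] [0, 3, 6, 9, 12, 15, 18, 21, 1, 4, 7, 10, 13, 16, 19, 22, 2, 5,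 8, 11, 14, 17, 20, 23] 0], [Gen.mono [0, 16, 9, 2, 18, 11, 4, 20, 13, 6, 22, 15, 8, 1, 17, 10, 3, 19, 12, 5, 21, 14, 7, 23] [0, 13, 3, 16, 6, 19, 9, 22, 12, 2, 15, 5, 18, 8, 21, 11, 1, 14, 4, 17, 7, 20, 10, 23] 0], [Gen.mono [0, 9, 18, 4, 13, 22, 8, 17, 3, 12, 21, 7, 16, 2, 11, 20, 6, 15, 1, 10, 19, 5, 14, 23] [0, 18, 13, 8, 3, 21, 16, 11, 6, 1, 19, 14, 9, 4, 22, 17, 12, 7, 2, 20, 15, 10, 5, 23] 0], [Gen.mono [0, 18, 13, 8, 3, 21, 16, 11, 6, 1, 19, 14, 9, 4, 22, 17, 12, 7, 2, 20, 15, 10, 5, 23] [0, 9, 18, 4, 13, 22, 8, 17, 3, 12, 21, 7, 16, 2, 11, 20, 6, 15, 1, 10, 19, 5, 14, 23] 0], [Gen.mono [0, 13, 3, 16, 6, 19, 9, 22, 12, 2, 15, 5, 18, 8, 21, 11, 1, 14, 4, 17, 7, 20, 10, 23] [0, 16, 9, 2, 18, 11, 4, 20, 13, 6, 22, 15, 8, 1, 17, 10, 3, 19, 12, 5, 21, 14, 7, 23] 0], [Gen.mono [0, 3, 6, 9, 12, 15, 18, 21, 1, 4,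 7, 10, 13, 16, 19, 22, 2, 5, 8, 11, 14, 17, 20, 23] [0, 8, 16, 1, 9, 17, 2, 10, 18, 3, 11, 19, 4, 12, 20, 5, 13, 21, 6, 14, 22, 7, 15, 23] 0], [Gen.mono [0, 6, 12, 18, 1, 7, 13, 19, 2, 8, 14, 20, 3, 9, 15, 21, 4, 10, 16, 22, 5, 11, 17, 23] [0, 4, 8, 12, 16, 20, 1, 5, 9, 13, 17, 21, 2, 6, 10, 14, 18, 22, 3, 7, 11, 15, 19, 23] 0], [Gen.mono [0, 12, 1, 13, 2, 14, 3, 15, 4, 16, 5, 17, 6, 18, 7, 19, 8, 20, 9, 21, 10, 22, 11, 23] [0, 2, 4, 6, 8, 10, 12, 14, 16, 18, 20, 22, 1, 3, 5, 7, 9, 11, 13, 15, 17, 19, 21, 23] 0]]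
def dPow (j : ℕ) : List Gen := dPowW.getD j []
def m2L : V := [-3, 1, 1, 1, 1, 1, 1, 1, 1, 1, 1, 1, 1, 1, 1, 1, 1, 1, 1, 1, 1, 1, 1, 1]
def e0L : V := [8, 0, 0, 0, 0, 0, 0, 0, 0, 0, 0, 0, 0, 0, 0, 0, 0, 0, 0, 0, 0, 0, 0, 0]
def v2L : V := [2, -2, -2, -2, -2, 0, -2, 0, -2, -2, 0, 0, -2, -2, 0, 0, -2, 0, -2, 0, 0, 0, 0, 4]
def ehL : V := [-4, 0, 0, 0, 0, -2, 0, -2, 0, 0, -2, -2, 0, 0, -2, -2, 0, -2, 0, -2, -2, -2, -2, 2]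
def erL : V := [1, 1, 1, 1, 1, -1, 1, -1, 1, 1, -1, -1, 1, 1, -1, -1, 1, -1, 1, -1, -1, -1, -1, 3]
def tvec1 : V := [-1, -1, -3, -1, 1, 1, -1, -1, 1, -1, 1, -1, 1, -1, -1, 1, 1, -1, 1, -1, 1, 1, 1, -1]

theorem wE_ok : wE.all Gen.ok = true := by decide +kernel
theorem wT_ok : wT.all Gen.ok = true := by decide +kernel
theorem dPowW_ok : dPowW.all (fun w => w.all Gen.ok) = true := by decide +kernel
theorem m2L_mem : inLeech (toFn m2L) = true := by decide +kernel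
theorem erL_mem : inLeech (toFn erL) = true := by decide +kernel
theorem tvec1_mem : inLeech (toFn tvec1) = true := by decide +kernel

end Cfsg.Agent.Lib.H27.Co1OutData
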