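/-
helper27 library: the Conway group `Co2` in the form `C2 = Stab(R)`, `R = (3; -1^23)`, inside `Co0`.
-/
import Mathlib
import Cfsg.Prelude.Def_Spor_Conway
import Cfsg.Agent.Lib.H27.Co2OutData0
import Cfsg.Agent.Lib.H27.Co3Rel
import Cfsg.Agent.Lib.H27.ConwayOrders
import Cfsg.Agent.Lib.H27.StabTools

set_option autoImplicit false

namespace Cfsg.Agent.Lib.H27

open Cfsg MulAction Cfsg.Agent.Lib.H28 Cfsg.Agent.Lib.H27.Eng

namespace Co2Out

open Co3GenData Co2OutData OutM Co3Out AutRigid

/-- The vector `R = (3; -1^23)`. -/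
def RL : leechLattice := ⟨toFn vroot, vroot_L⟩

theorem mkL_vroot : mkL vroot = RL := mkL_of_mem vroot_L

/-- The group `Co2` as a subgroup of `Co0`. -/
abbrev C2 : Subgroup Co0 := stabilizer Co0 RL

theorem sqNorm_RL : sqNorm ((RL : leechLattice) : GolayPt → ℤ) = 32 := by
  show sqNorm (toFn vroot) = 32
  rw [← sqNorm_spec]
  decide +kernel

theorem card_C2 : Nat.card ↥C2 = 42305421312000 := card_stab32 RL sqNorm_RL

instance : Finite ↥C2 := Nat.finite_of_card_ne_zero (by rw [card_C2]; norm_num)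

theorem ok_of_mem {sg : List (List Gen)} (h : sgOK sg = true) {w : List Gen} (hw : w ∈ sg) :
    w.all Gen.ok = true := by
  unfold sgOK at h
  rw [List.all_eq_true] at h
  exact h w hw

theorem fix_of_mem {sg : List (List Gen)} {ts : List V} (h1 : sgOK sg = true) (h : fixOK sg ts = true)
    {w : List Gen} (hw : w ∈ sg) {t : V} (ht : t ∈ ts) (htL : toFn t ∈ leechLattice) :
    wordCo0 w • mkL t = mkL t := by
  unfold fixOK at h
  rw [List.all_eq_true] at h
  have hfix := h w hw
  rw [List.all_eq_true] at hfix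
  have e1 := hfix t ht
  rw [decide_eq_true_eq] at e1
  rw [mkL_of_mem htL]
  apply Subtype.ext
  rw [← actWord_spec w (ok_of_mem h1 hw) t htL, e1]

theorem word_memA {w : List Gen} (hw : w ∈ sgA) : wordCo0 w ∈ C2 := by
  rw [mem_stabilizer_iff, ← mkL_vroot]
  exact fix_of_mem sgA_ok sgA_fix hw (by simp) vroot_L

end Co2Out

end Cfsg.Agent.Lib.H27
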