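/-
helper27 library: centralizers in `Co2` (the stabilizer `C2` of `R = (3; -1^23)` in `Co0`) of the coordinate
permutations `s : x ↦ x + 1` and `d : x ↦ 2 x`: both are self-centralizing.  An element commuting with such a
permutation maps `8 e_∞` to a vector invariant under the permutation; norms and inner products leave few
candidates; an element fixing `8 e_∞` is a coordinate permutation of `M23`, and no element of `M23` inverts `d`.
-/
import Mathlib
import Cfsg.Prelude.Def_Spor_Conway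
import Cfsg.Agent.Lib.H27.Co2OutBase

set_option autoImplicit false

namespace Cfsg.Agent.Lib.H27

open Cfsg MulAction Cfsg.Agent.Lib.H28 Cfsg.Agent.Lib.H27.Eng

namespace Co2Out

open Co3GenData Co2OutData OutM Co3Out AutRigid

/-! ### Elements fixing `8 e_∞` -/

/-- An element of `C2` fixing `8 e_∞` is a coordinate permutation of `M23`. -/
theorem perm_of_fix_u8R {g : Co0} (hg : g ∈ C2) (hfix : g • u8 none = u8 none) :
    ∃ σ : ↥M24, σ.1 none = none ∧ g = pCo0 σ := by
  obtain ⟨σ, hσ, w, hw, hgv⟩ := stab_monomial (stabCross_of_fix hfix)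
  have hV : g • RL = RL := mem_stabilizer_iff.1 hg
  have h1 := hgv RL
  rw [hV] at h1
  have h2 : ∀ k : GolayPt, toFn vroot k =
      if k ∈ support₂ w then -toFn vroot (σ.symm k) else toFn vroot (σ.symm k) := by
    intro k
    have := congrFun h1 k
    exact this
  have hval : ∀ k : GolayPt, toFn vroot k = 3 ∨ toFn vroot k = -1 := by decide +kernel
  have hsupp : ∀ k : GolayPt, k ∉ support₂ w := by
    intro k hk
    have := h2 k
    rw [if_pos hk] at this
    have a1 := hval k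
    have a2 := hval (σ.symm k)
    omega
  have hvec : ∀ k : GolayPt, toFn vroot (σ.symm k) = toFn vroot k := by
    intro k
    have := h2 k
    rw [if_neg (hsupp k)] at this
    exact this.symm
  have hnone : σ.symm none = none := by
    have h5 : ∀ k : GolayPt, toFn vroot k = 3 → k = none := by decide +kernel
    apply h5
    rw [hvec]
    decide +kernel
  refine ⟨⟨σ, hσ⟩, ?_, ?_⟩
  · show σ none = none
    have := congrArg σ hnone
    rw [Equiv.apply_symm_apply] at this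
    exact this.symm
  · apply Co0_ext
    intro v
    funext k
    rw [hgv v, pCo0_smul]
    unfold signedPerm
    rw [if_neg (hsupp k)]

/-! ### Two Diophantine systems -/

theorem dioph_sR (a b : ℤ) (h1 : a ^ 2 + 23 * b ^ 2 = 64) (h2 : 3 * a - 23 * b = 24) : a = 8 ∧ b = 0 := by
  have hb1 : -1 ≤ b := by nlinarith [sq_nonneg a, sq_nonneg (b + 1)]
  have hb2 : b ≤ 1 := by nlinarith [sq_nonneg a, sq_nonneg (b - 1)]
  interval_cases b
  · exfalso; omega
  · constructor
    · omega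
    · rfl
  · exfalso; omega

theorem dioph_dR (a b p q : ℤ) (h1 : a ^ 2 + b ^ 2 + 11 * p ^ 2 + 11 * q ^ 2 = 64)
    (h2 : 3 * a - b - 11 * p - 11 * q = 24) :
    (a = 8 ∧ b = 0 ∧ p = 0 ∧ q = 0) ∨ (a = 2 ∧ b = 4 ∧ p = 0 ∧ q = -2) ∨
    (a = 2 ∧ b = 4 ∧ p = -2 ∧ q = 0) ∨ (a = -3 ∧ b = 0 ∧ p = -2 ∧ q = -1) ∨
    (a = -3 ∧ b = 0 ∧ p = -1 ∧ q = -2) ∨ (a = 2 ∧ b = -7 ∧ p = -1 ∧ q = 0) ∨
    (a = 2 ∧ b = -7 ∧ p = 0 ∧ q = -1) := by
  have hp1 : -2 ≤ p := by nlinarith [sq_nonneg a, sq_nonneg b, sq_nonneg q, sq_nonneg (p + 2)]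
  have hp2 : p ≤ 2 := by nlinarith [sq_nonneg a, sq_nonneg b, sq_nonneg q, sq_nonneg (p - 2)]
  have hq1 : -2 ≤ q := by nlinarith [sq_nonneg a, sq_nonneg b, sq_nonneg p, sq_nonneg (q + 2)]
  have hq2 : q ≤ 2 := by nlinarith [sq_nonneg a, sq_nonneg b, sq_nonneg p, sq_nonneg (q - 2)]
  have ha1 : -8 ≤ a := by nlinarith [sq_nonneg b, sq_nonneg p, sq_nonneg q, sq_nonneg (a + 8)]
  have ha2 : a ≤ 8 := by nlinarith [sq_nonneg b, sq_nonneg p, sq_nonneg q, sq_nonneg (a - 8)]
  have hb : b = 3 * a - 11 * p - 11 * q - 24 := by linarith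
  subst hb
  interval_cases p <;> interval_cases q <;> interval_cases a <;> simp_all

/-! ### Norms and inner products -/

theorem dot_u8_R : dotInt ((u8 none : leechLattice) : GolayPt → ℤ) (toFn vroot) = 24 := by
  show dotInt (Pi.single none 8 : GolayPt → ℤ) (toFn vroot) = 24
  rw [← toFn_e8L, ← dotL_spec]
  decide +kernel

/-- Norm and inner product with `R` of the image of `8 e_∞` under an element of `C2`. -/
theorem norm_dot_imageR {g : Co0} (hg : g ∈ C2) :
    sqNorm ((g • u8 none : leechLattice) : GolayPt → ℤ) = 64 ∧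
    dotInt ((g • u8 none : leechLattice) : GolayPt → ℤ) (toFn vroot) = 24 := by
  refine ⟨by rw [Co0_sqNorm, sqNorm_u8], ?_⟩
  have hV : g • RL = RL := mem_stabilizer_iff.1 hg
  have h := Co0_dot g (u8 none) RL
  rw [hV] at h
  rw [show (toFn vroot : GolayPt → ℤ) = ((RL : leechLattice) : GolayPt → ℤ) from rfl, h]
  exact dot_u8_R

/-! ### The centralizer of `s` -/

theorem image_sR {g : Co0} (hg : g ∈ C2) (hc : g * wordCo0 wS = wordCo0 wS * g) :
    g • u8 none = u8 none := by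
  have hfix : pCo0 sM • (g • u8 none) = g • u8 none := by
    apply smul_fixed_of_comm (by rw [pCo0_sM]; exact hc)
    exact pCo0_fix_u8 sM sM_none
  set y := g • u8 none with hy
  have hiter : ∀ k < 23, (evalPt sw)^[k] 0 = k := by decide +kernel
  have hco : ∀ k < 23, (y : GolayPt → ℤ) (gPt k) = (y : GolayPt → ℤ) (gPt 0) := by
    intro k hk
    have := idx_iter_of_fixed sw hfix 0 (by norm_num) k
    rwa [hiter k hk] at this
  obtain ⟨a, ha⟩ : ∃ a, a = (y : GolayPt → ℤ) (gPt 23) := ⟨_, rfl⟩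
  obtain ⟨b, hb⟩ : ∃ b, b = (y : GolayPt → ℤ) (gPt 0) := ⟨_, rfl⟩
  have hY : (y : GolayPt → ℤ) = toFn [b, b, b, b, b, b, b, b, b, b, b, b, b, b, b, b, b, b, b, b, b, b, b, a] := by
    apply eq_toFn_of_coords
    intro k hk
    rcases Nat.lt_succ_iff_lt_or_eq.1 hk with h | h
    · rw [hco k h, ← hb]
      interval_cases k <;> rfl
    · rw [h, ← ha]
      rfl
  obtain ⟨n1, n2⟩ := norm_dot_imageR hg
  rw [← hy, hY] at n1 n2
  rw [← sqNorm_spec] at n1
  rw [← dotL_spec] at n2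
  simp only [dotL, List.range_succ, List.range_zero, List.nil_append, List.cons_append, List.map_cons,
    List.map_nil, List.sum_cons, List.sum_nil, nth, vroot] at n1 n2
  obtain ⟨rfl, rfl⟩ := dioph_sR a b (by linarith) (by linarith)
  apply Subtype.ext
  rw [hY]
  exact toFn_e8L

/-- The centralizer of `s` in `C2` consists of the powers of `s`. -/
theorem centralizer_sR {g : Co0} (hg : g ∈ C2) (hc : g * wordCo0 wS = wordCo0 wS * g) :
    ∃ m : ℤ, g = wordCo0 wS ^ m := by
  obtain ⟨σ, -, rfl⟩ := perm_of_fix_u8R hg (image_sR hg hc)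
  rw [← pCo0_sM] at hc
  have h1 := comm_of_pCo0_comm hc
  obtain ⟨m, hm⟩ := Subgroup.mem_zpowers_iff.1 (centralizer_s σ.2 h1)
  refine ⟨m, ?_⟩
  rw [← pCo0_sM, ← pCo0_zpow]
  congr 1
  apply Subtype.ext
  rw [Subgroup.coe_zpow]
  exact hm.symm

/-! ### The involution `h` -/

theorem wH_ok : wH.all Gen.ok = true := ok_of_mem sgA_ok (by simp [sgA])

theorem h_mem : wordCo0 wH ∈ C2 := word_memA (by simp [sgA])

/-- `h` inverts `d`. -/
theorem hd_rel : wordCo0 wH * wordCo0 wD = wordCo0 wD ^ 10 * wordCo0 wH := by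
  rw [← wordCo0_wpow, ← wordCo0_wmul, ← wordCo0_wmul]
  exact wordCo0_eq_of_wordEq (wmul_ok wH_ok wD_ok) (wmul_ok (wpow_ok wD_ok 10) wH_ok) (by decide +kernel)

theorem h_sq : wordCo0 wH ^ 2 = 1 := by
  rw [← wordCo0_wpow]
  exact wordCo0_eq_oneF (wpow_ok wH_ok 2) (by decide +kernel)

/-- `h` maps `8 e_∞` to `(2; 4; 0^11; -2^11)`. -/
theorem h_smul_u8 : ((wordCo0 wH • u8 none : leechLattice) : GolayPt → ℤ) = toFn ypL := by
  have h := actWord_spec wH wH_ok e8L e8L_mem
  have e : actWord wH e8L = ypL := by decide +kernel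
  rw [e] at h
  rw [h]
  congr 2
  exact Subtype.ext toFn_e8L.symm

/-! ### The centralizer of `d` -/

theorem image_dR {g : Co0} (hg : g ∈ C2) (hc : g * wordCo0 wD = wordCo0 wD * g) :
    g • u8 none = u8 none ∨ g • u8 none = wordCo0 wH • u8 none := by
  have hfix : pCo0 dM • (g • u8 none) = g • u8 none := by
    apply smul_fixed_of_comm (by rw [pCo0_dM]; exact hc)
    exact pCo0_fix_u8 dM dM_none
  set y := g • u8 none with hy
  obtain ⟨a, ha⟩ : ∃ a, a = (y : GolayPt → ℤ) (gPt 23) := ⟨_, rfl⟩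
  obtain ⟨b, hb⟩ : ∃ b, b = (y : GolayPt → ℤ) (gPt 0) := ⟨_, rfl⟩
  obtain ⟨p, hp⟩ : ∃ p, p = (y : GolayPt → ℤ) (gPt 1) := ⟨_, rfl⟩
  obtain ⟨q, hq⟩ : ∃ q, q = (y : GolayPt → ℤ) (gPt 5) := ⟨_, rfl⟩
  have hP : ∀ m k : ℕ, (evalPt dw)^[m] 1 = k → (y : GolayPt → ℤ) (gPt k) = p := by
    intro m k e
    have := idx_iter_of_fixed dw hfix 1 (by norm_num) m
    rw [e] at this
    rw [this, ← hp]
  have hQ : ∀ m k : ℕ, (evalPt dw)^[m] 5 = k → (y : GolayPt → ℤ) (gPt k) = q := by
    intro m k e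
    have := idx_iter_of_fixed dw hfix 5 (by norm_num) m
    rw [e] at this
    rw [this, ← hq]
  have hY : (y : GolayPt → ℤ) = toFn [b, p, p, p, p, q, p, q, p, p, q, q, p, p, q, q, p, q, p, q, q, q, q, a] := by
    apply eq_toFn_of_coords
    intro k hk
    interval_cases k
    · rw [← hb]; rfl
    · exact hP 0 1 (by decide +kernel)
    · exact hP 1 2 (by decide +kernel)
    · exact hP 8 3 (by decide +kernel)
    · exact hP 2 4 (by decide +kernel)
    · exact hQ 0 5 (by decide +kernel)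
    · exact hP 9 6 (by decide +kernel)
    · exact hQ 9 7 (by decide +kernel)
    · exact hP 3 8 (by decide +kernel)
    · exact hP 5 9 (by decide +kernel)
    · exact hQ 1 10 (by decide +kernel)
    · exact hQ 4 11 (by decide +kernel)
    · exact hP 10 12 (by decide +kernel)
    · exact hP 7 13 (by decide +kernel)
    · exact hQ 10 14 (by decide +kernel)
    · exact hQ 8 15 (by decide +kernel)
    · exact hP 4 16 (by decide +kernel)
    · exact hQ 3 17 (by decide +kernel)
    · exact hP 6 18 (by decide +kernel)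
    · exact hQ 7 19 (by decide +kernel)
    · exact hQ 2 20 (by decide +kernel)
    · exact hQ 6 21 (by decide +kernel)
    · exact hQ 5 22 (by decide +kernel)
    · rw [← ha]; rfl
  obtain ⟨n1, n2⟩ := norm_dot_imageR hg
  rw [← hy, hY] at n1 n2
  rw [← sqNorm_spec] at n1
  rw [← dotL_spec] at n2
  simp only [dotL, List.range_succ, List.range_zero, List.nil_append, List.cons_append, List.map_cons,
    List.map_nil, List.sum_cons, List.sum_nil, nth, vroot] at n1 n2
  have hoct : toFn octL ∈ leechLattice := mem_of_inLeech (by decide +kernel)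
  have h8 := eight_dvd_dotInt hoct y.2
  rw [hY, ← dotL_spec] at h8
  rcases dioph_dR a b p q (by linarith) (by linarith) with ⟨rfl, rfl, rfl, rfl⟩ | ⟨rfl, rfl, rfl, rfl⟩ |
    ⟨rfl, rfl, rfl, rfl⟩ | ⟨rfl, rfl, rfl, rfl⟩ | ⟨rfl, rfl, rfl, rfl⟩ | ⟨rfl, rfl, rfl, rfl⟩ |
    ⟨rfl, rfl, rfl, rfl⟩
  · left
    apply Subtype.ext
    rw [hY]
    exact toFn_e8L
  · right
    apply Subtype.ext
    rw [hY, h_smul_u8]
    rfl
  · exfalso
    revert h8
    decide +kernel
  · exfalso
    revert h8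
    decide +kernel
  · exfalso
    revert h8
    decide +kernel
  · exfalso
    revert h8
    decide +kernel
  · exfalso
    revert h8
    decide +kernel

/-- The generator `t` of `M24` moves `∞`. -/
theorem t_none : wordPerm tw none ≠ none := by
  have h := wordPerm_gPt (w := tw) (k := 23) (z := 0) (by norm_num) (by decide +kernel)
  rw [gPt_23] at h
  rw [h]
  decide

/-- No element of `M24` fixing `∞` inverts `d`. -/
theorem no_inverter (σ : Equiv.Perm GolayPt) (hσM : σ ∈ M24) (hσ : σ none = none)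
    (h : σ * wordPerm dw * σ⁻¹ = wordPerm dw ^ 10) : False := by
  obtain ⟨T, hTdef⟩ : ∃ T, T = wordPerm tw := ⟨_, rfl⟩
  obtain ⟨D, hDdef⟩ : ∃ D, D = wordPerm dw := ⟨_, rfl⟩
  rw [← hDdef] at h
  have hT : T * D * T⁻¹ = D ^ 10 := by rw [hTdef, hDdef]; exact t_d
  have hcomm : (T⁻¹ * σ) * D = D * (T⁻¹ * σ) := by
    have h1 : σ * D = D ^ 10 * σ := by rw [← h]; group
    have h2 : T⁻¹ * D ^ 10 = D * T⁻¹ := by rw [← hT]; group
    calc T⁻¹ * σ * D = T⁻¹ * (σ * D) := by group
      _ = T⁻¹ * (D ^ 10 * σ) := by rw [h1]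
      _ = (T⁻¹ * D ^ 10) * σ := by group
      _ = D * T⁻¹ * σ := by rw [h2]
      _ = D * (T⁻¹ * σ) := by group
  have hTM : T ∈ M24 := by rw [hTdef]; exact wordPerm_mem_M24 tw
  rw [hDdef] at hcomm
  have hmem := centralizer_d (M24.mul_mem (M24.inv_mem hTM) hσM) hcomm
  obtain ⟨m, hm⟩ := Subgroup.mem_zpowers_iff.1 hmem
  have hDn : (wordPerm dw ^ m) none = none :=
    Equiv.Perm.zpow_apply_eq_self_of_apply_eq_self dM_none m
  have hσe : σ = T * wordPerm dw ^ m := by rw [hm]; group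
  apply t_none
  rw [← hTdef]
  have := congrArg (fun x : Equiv.Perm GolayPt => x none) hσe
  simp only [Equiv.Perm.mul_apply, hDn, hσ] at this
  exact this.symm

/-- The centralizer of `d` in `C2` consists of the powers of `d`. -/
theorem centralizer_dR {g : Co0} (hg : g ∈ C2) (hc : g * wordCo0 wD = wordCo0 wD * g) :
    ∃ j < 11, g = wordCo0 wD ^ j := by
  rcases image_dR hg hc with hfix | hfix
  · obtain ⟨σ, -, rfl⟩ := perm_of_fix_u8R hg hfix
    rw [← pCo0_dM] at hc
    have h1 := comm_of_pCo0_comm hc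
    have hmem := centralizer_d σ.2 h1
    classical
    rw [mem_zpowers_iff_mem_range_orderOf, d_order, Finset.mem_image] at hmem
    obtain ⟨j, hj, hjc⟩ := hmem
    rw [Finset.mem_range] at hj
    refine ⟨j, hj, ?_⟩
    rw [← pCo0_dM, ← pCo0_pow]
    congr 1
    apply Subtype.ext
    rw [Subgroup.coe_pow]
    exact hjc.symm
  · exfalso
    have h1 : ((wordCo0 wH)⁻¹ * g) • u8 none = u8 none := by
      rw [mul_smul, hfix, inv_smul_smul]
    have h2 : (wordCo0 wH)⁻¹ * g ∈ C2 := Subgroup.mul_mem _ (Subgroup.inv_mem _ h_mem) hg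
    obtain ⟨σ, hσ, hσg⟩ := perm_of_fix_u8R h2 h1
    -- `h⁻¹ g` inverts `d`
    have h3 : (wordCo0 wH)⁻¹ * g * wordCo0 wD * ((wordCo0 wH)⁻¹ * g)⁻¹ = wordCo0 wD ^ 10 := by
      have e1 : g * wordCo0 wD * g⁻¹ = wordCo0 wD := by rw [hc]; group
      have e2 : (wordCo0 wH)⁻¹ * wordCo0 wD * wordCo0 wH = wordCo0 wD ^ 10 := by
        have e3 : wordCo0 wH * wordCo0 wD * (wordCo0 wH)⁻¹ = wordCo0 wD ^ 10 := by rw [hd_rel]; group
        have e4 : (wordCo0 wH)⁻¹ = wordCo0 wH := by
          rw [inv_eq_iff_mul_eq_one, ← pow_two]; exact h_sq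
        rw [e4]
        nth_rewrite 2 [← e4]
        exact e3
      calc (wordCo0 wH)⁻¹ * g * wordCo0 wD * ((wordCo0 wH)⁻¹ * g)⁻¹
          = (wordCo0 wH)⁻¹ * (g * wordCo0 wD * g⁻¹) * wordCo0 wH := by group
        _ = wordCo0 wD ^ 10 := by rw [e1, e2]
    rw [hσg, ← pCo0_dM] at h3
    have h4 : permHom (σ * dM * σ⁻¹) = permHom (dM ^ 10) := by
      rw [map_mul, map_mul, map_inv, map_pow]
      exact h3
    have h5 := permHom_injective h4
    have h6 : σ.1 * wordPerm dw * σ.1⁻¹ = wordPerm dw ^ 10 :=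
      congrArg (fun x : ↥M24 => (x : Equiv.Perm GolayPt)) h5
    exact no_inverter σ.1 σ.2 hσ h6

end Co2Out

end Cfsg.Agent.Lib.H27
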