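/-
helper27 library: centralizers in `Co0` of the coordinate permutations `s : x ↦ x + 1` and `d : x ↦ 2 x`.  The
centralizer of `s` is `⟨-1, s⟩`.  The centralizer of `d` has order 132: it is generated by `-1`, `d`, the sign
change `e` on the dodecad `Q ∪ {0}` and the involution `z` of `Co3`.  An element commuting with `d` maps `8 e_∞`
to one of twelve `d`-invariant vectors of the same shape; six of them are excluded since no element of `M23`
inverts `d`; the rest reduces to the stabilizer `Co2` of `R = (3; -1^23)`, where the centralizers are known.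
-/
import Mathlib
import Cfsg.Prelude.Def_Spor_Conway
import Cfsg.Agent.Lib.H27.Co2OutCent
import Cfsg.Agent.Lib.H27.Co1OutData0

set_option autoImplicit false

namespace Cfsg.Agent.Lib.H27

open Cfsg MulAction Cfsg.Agent.Lib.H28 Cfsg.Agent.Lib.H27.Eng

namespace Co1Out

open Co3GenData Co2OutData Co1OutData OutM Co3Out Co2Out AutRigid

/-! ### Coordinates of invariant vectors -/

theorem coords_s {y : leechLattice} (hfix : pCo0 sM • y = y) : ∃ a b : ℤ,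
    (y : GolayPt → ℤ) = toFn [b, b, b, b, b, b, b, b, b, b, b, b, b, b, b, b, b, b, b, b, b, b, b, a] := by
  have hiter : ∀ k < 23, (evalPt sw)^[k] 0 = k := by decide +kernel
  have hco : ∀ k < 23, (y : GolayPt → ℤ) (gPt k) = (y : GolayPt → ℤ) (gPt 0) := by
    intro k hk
    have := idx_iter_of_fixed sw hfix 0 (by norm_num) k
    rwa [hiter k hk] at this
  refine ⟨(y : GolayPt → ℤ) (gPt 23), (y : GolayPt → ℤ) (gPt 0), ?_⟩
  apply eq_toFn_of_coords
  intro k hk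
  rcases Nat.lt_succ_iff_lt_or_eq.1 hk with h | h
  · rw [hco k h]
    interval_cases k <;> rfl
  · rw [h]
    rfl

theorem coords_d {y : leechLattice} (hfix : pCo0 dM • y = y) : ∃ a b p q : ℤ,
    (y : GolayPt → ℤ) = toFn [b, p, p, p, p, q, p, q, p, p, q, q, p, p, q, q, p, q, p, q, q, q, q, a] := by
  obtain ⟨a, ha⟩ : ∃ a, a = (y : GolayPt → ℤ) (gPt 23) := ⟨_, rfl⟩
  obtain ⟨b, hb⟩ : ∃ b, b = (y : GolayPt → ℤ) (gPt 0) := ⟨_, rfl⟩
  obtain ⟨p, hp⟩ : ∃ p, p = (y : GolayPt → ℤ) (gPt 1) := ⟨_, rfl⟩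
  obtain ⟨q, hq⟩ : ∃ q, q = (y : GolayPt → ℤ) (gPt 5) := ⟨_, rfl⟩
  have hP : ∀ m k : ℕ, (evalPt dw)^[m] 1 = k → (y : GolayPt → ℤ) (gPt k) = p := by
    intro m k e
    have := idx_iter_of_fixed dw hfix 1 (by norm_num) m
    rw [e] at this
    rw [this, ← hp]
  have hQ : ∀ m k : ℕ, (evalPt dw)^[m] 5 = k → (y : GolayPt → ℤ) (gPt k) = q := by
    intro m k e
    have := idx_iter_of_fixed dw hfix 5 (by norm_num) m
    rw [e] at this
    rw [this, ← hq]
  refine ⟨a, b, p, q, ?_⟩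
  apply eq_toFn_of_coords
  intro k hk
  interval_cases k
  · rw [← hb]; rfl
  · exact hP 0 1 (by decide +kernel)
  · exact hP 1 2 (by decide +kernel)
  · exact hP 8 3 (by decide +kernel)
  · exact hP 2 4 (by decide +kernel)
  · exact hQ 0 5 (by decide +kernel)
  · exact hP 9 6 (by decide +kernel)
  · exact hQ 9 7 (by decide +kernel)
  · exact hP 3 8 (by decide +kernel)
  · exact hP 5 9 (by decide +kernel)
  · exact hQ 1 10 (by decide +kernel)
  · exact hQ 4 11 (by decide +kernel)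
  · exact hP 10 12 (by decide +kernel)
  · exact hP 7 13 (by decide +kernel)
  · exact hQ 10 14 (by decide +kernel)
  · exact hQ 8 15 (by decide +kernel)
  · exact hP 4 16 (by decide +kernel)
  · exact hQ 3 17 (by decide +kernel)
  · exact hP 6 18 (by decide +kernel)
  · exact hQ 7 19 (by decide +kernel)
  · exact hQ 2 20 (by decide +kernel)
  · exact hQ 6 21 (by decide +kernel)
  · exact hQ 5 22 (by decide +kernel)
  · rw [← ha]; rfl

/-! ### Diophantine systems -/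

theorem dioph_R (b p q : ℤ) (h1 : 9 + b ^ 2 + 11 * p ^ 2 + 11 * q ^ 2 = 32) (h2 : (8 : ℤ) ∣ 2 * b + 6 * p)
    (h3 : (8 : ℤ) ∣ 3 - 3 * b + 11 * p + 11 * q) :
    (b = -1 ∧ p = -1 ∧ q = -1) ∨ (b = 1 ∧ p = 1 ∧ q = -1) := by
  have hp1 : -1 ≤ p := by nlinarith [sq_nonneg b, sq_nonneg q, sq_nonneg (p + 1)]
  have hp2 : p ≤ 1 := by nlinarith [sq_nonneg b, sq_nonneg q, sq_nonneg (p - 1)]
  have hq1 : -1 ≤ q := by nlinarith [sq_nonneg b, sq_nonneg p, sq_nonneg (q + 1)]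
  have hq2 : q ≤ 1 := by nlinarith [sq_nonneg b, sq_nonneg p, sq_nonneg (q - 1)]
  have hb1 : -4 ≤ b := by nlinarith [sq_nonneg p, sq_nonneg q, sq_nonneg (b + 4)]
  have hb2 : b ≤ 4 := by nlinarith [sq_nonneg p, sq_nonneg q, sq_nonneg (b - 4)]
  interval_cases p <;> interval_cases q <;> interval_cases b <;> first | omega | simp_all

/-- The twelve solutions. -/
def dsol : List (ℤ × ℤ × ℤ × ℤ) :=
  [(8, 0, 0, 0), (-8, 0, 0, 0), (4, -2, 2, 0), (-4, 2, -2, 0), (4, 2, -2, 0), (-4, -2, 2, 0),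
   (0, 8, 0, 0), (0, -8, 0, 0), (2, 4, 0, -2), (-2, -4, 0, 2), (2, -4, 0, -2), (-2, 4, 0, 2)]

theorem dioph_tab : ∀ a ∈ List.range 17, ∀ b ∈ List.range 17, ∀ p ∈ List.range 5, ∀ q ∈ List.range 5,
    ((a : ℤ) - 8) ^ 2 + ((b : ℤ) - 8) ^ 2 + 11 * ((p : ℤ) - 2) ^ 2 + 11 * ((q : ℤ) - 2) ^ 2 = 64 →
    (2 * ((b : ℤ) - 8) + 6 * ((p : ℤ) - 2)) % 8 = 0 →
    (((a : ℤ) - 8) - 3 * ((b : ℤ) - 8) + 11 * ((p : ℤ) - 2) + 11 * ((q : ℤ) - 2)) % 8 = 0 →
    (((a : ℤ) - 8, (b : ℤ) - 8, (p : ℤ) - 2, (q : ℤ) - 2) ∈ dsol) := by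
  decide +kernel

theorem dioph_d0 (a b p q : ℤ) (h1 : a ^ 2 + b ^ 2 + 11 * p ^ 2 + 11 * q ^ 2 = 64)
    (h2 : (8 : ℤ) ∣ 2 * b + 6 * p) (h3 : (8 : ℤ) ∣ a - 3 * b + 11 * p + 11 * q) : (a, b, p, q) ∈ dsol := by
  have hp1 : -2 ≤ p := by nlinarith [sq_nonneg a, sq_nonneg b, sq_nonneg q, sq_nonneg (p + 2)]
  have hp2 : p ≤ 2 := by nlinarith [sq_nonneg a, sq_nonneg b, sq_nonneg q, sq_nonneg (p - 2)]
  have hq1 : -2 ≤ q := by nlinarith [sq_nonneg a, sq_nonneg b, sq_nonneg p, sq_nonneg (q + 2)]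
  have hq2 : q ≤ 2 := by nlinarith [sq_nonneg a, sq_nonneg b, sq_nonneg p, sq_nonneg (q - 2)]
  have ha1 : -8 ≤ a := by nlinarith [sq_nonneg b, sq_nonneg p, sq_nonneg q, sq_nonneg (a + 8)]
  have ha2 : a ≤ 8 := by nlinarith [sq_nonneg b, sq_nonneg p, sq_nonneg q, sq_nonneg (a - 8)]
  have hb1 : -8 ≤ b := by nlinarith [sq_nonneg a, sq_nonneg p, sq_nonneg q, sq_nonneg (b + 8)]
  have hb2 : b ≤ 8 := by nlinarith [sq_nonneg a, sq_nonneg p, sq_nonneg q, sq_nonneg (b - 8)]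
  have ea : (((a + 8).toNat : ℕ) : ℤ) - 8 = a := by rw [Int.toNat_of_nonneg (by omega)]; ring
  have eb : (((b + 8).toNat : ℕ) : ℤ) - 8 = b := by rw [Int.toNat_of_nonneg (by omega)]; ring
  have ep : (((p + 2).toNat : ℕ) : ℤ) - 2 = p := by rw [Int.toNat_of_nonneg (by omega)]; ring
  have eq : (((q + 2).toNat : ℕ) : ℤ) - 2 = q := by rw [Int.toNat_of_nonneg (by omega)]; ring
  have h := dioph_tab (a + 8).toNat (List.mem_range.2 (by omega)) (b + 8).toNat (List.mem_range.2 (by omega))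
    (p + 2).toNat (List.mem_range.2 (by omega)) (q + 2).toNat (List.mem_range.2 (by omega))
  rw [ea, eb, ep, eq] at h
  exact h h1 (Int.emod_eq_zero_of_dvd h2) (Int.emod_eq_zero_of_dvd h3)

end Co1Out

end Cfsg.Agent.Lib.H27
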