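/-
helper27 library: centralizers in `Co0` of the coordinate permutations `s` and `d`, second part: the elements
`e`, `t`, `z`, `h`, and the reduction to the stabilizer `Co2` of `R = (3; -1^23)`.
-/
import Mathlib
import Cfsg.Prelude.Def_Spor_Conway
import Cfsg.Agent.Lib.H27.Co1Cent

set_option autoImplicit false

namespace Cfsg.Agent.Lib.H27

open Cfsg MulAction Cfsg.Agent.Lib.H28 Cfsg.Agent.Lib.H27.Eng

namespace Co1Out

open Co3GenData Co2OutData Co1OutData OutM Co3Out Co2Out AutRigid

/-! ### Relations -/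

theorem ed_comm : wordCo0 wE * wordCo0 wD = wordCo0 wD * wordCo0 wE := by
  rw [← wordCo0_wmul, ← wordCo0_wmul]
  exact wordCo0_eq_of_wordEq (wmul_ok wE_ok wD_ok) (wmul_ok wD_ok wE_ok) (by decide +kernel)

theorem e_sq : wordCo0 wE ^ 2 = 1 := by
  rw [← wordCo0_wpow]
  exact wordCo0_eq_oneF (wpow_ok wE_ok 2) (by decide +kernel)

theorem td_rel : wordCo0 wT * wordCo0 wD = wordCo0 wD ^ 10 * wordCo0 wT := by
  rw [← wordCo0_wpow, ← wordCo0_wmul, ← wordCo0_wmul]
  exact wordCo0_eq_of_wordEq (wmul_ok wT_ok wD_ok) (wmul_ok (wpow_ok wD_ok 10) wT_ok) (by decide +kernel)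

theorem dPow_ok (j : ℕ) : (dPow j).all Gen.ok = true := by
  unfold dPow
  by_cases hj : j < dPowW.length
  · rw [List.getD_eq_getElem _ _ hj]
    have h := dPowW_ok
    rw [List.all_eq_true] at h
    exact h _ (List.getElem_mem hj)
  · rw [List.getD_eq_default _ _ (by omega)]
    rfl

theorem dPow_spec (j : ℕ) (hj : j < 11) : wordCo0 (dPow j) = wordCo0 wD ^ j := by
  rw [← wordCo0_wpow]
  apply wordCo0_eq_of_wordEq (dPow_ok j) (wpow_ok wD_ok j)
  interval_cases j <;> decide +kernel

/-! ### Images of `8 e_∞` and of `R` -/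

theorem smul_u8_of_actWord {w : List Gen} (hw : w.all Gen.ok = true) {l : V} (h : actWord w e8L = l) :
    ((wordCo0 w • u8 none : leechLattice) : GolayPt → ℤ) = toFn l := by
  have h1 := actWord_spec w hw e8L e8L_mem
  rw [h] at h1
  rw [h1]
  congr 2
  exact Subtype.ext toFn_e8L.symm

theorem e_smul_u8 : wordCo0 wE • u8 none = u8 none := by
  apply Subtype.ext
  rw [smul_u8_of_actWord wE_ok (l := e8L) (by decide +kernel)]
  exact toFn_e8L

theorem t_smul_u8 : ((wordCo0 wT • u8 none : leechLattice) : GolayPt → ℤ) = toFn e0L :=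
  smul_u8_of_actWord wT_ok (by decide +kernel)

theorem ez_smul_u8 : ((wordCo0 (wmul wE wZ) • u8 none : leechLattice) : GolayPt → ℤ) = toFn v2L :=
  smul_u8_of_actWord (wmul_ok wE_ok wZ_ok) (by decide +kernel)

theorem eh_smul_u8 : ((wordCo0 (wmul wE wH) • u8 none : leechLattice) : GolayPt → ℤ) = toFn ehL :=
  smul_u8_of_actWord (wmul_ok wE_ok wH_ok) (by decide +kernel)

theorem erL_L : toFn erL ∈ leechLattice := mem_of_inLeech erL_mem

theorem e_smul_R : wordCo0 wE • RL = mkL erL := by
  rw [mkL_of_mem erL_L]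
  apply Subtype.ext
  have h1 := actWord_spec wE wE_ok vroot vroot_L
  have e : actWord wE vroot = erL := by decide +kernel
  rw [e] at h1
  exact h1.symm

/-- `d` fixes `R`. -/
theorem d_smul_R : wordCo0 wD • RL = RL := mem_stabilizer_iff.1 (word_memA (by simp [sgA]))

theorem s_smul_R : wordCo0 wS • RL = RL := mem_stabilizer_iff.1 (word_memA (by simp [sgA]))

theorem dot_R_u8 : dotInt ((RL : leechLattice) : GolayPt → ℤ) ((u8 none : leechLattice) : GolayPt → ℤ) = 24 := by
  rw [dotInt_comm]
  exact dot_u8_R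

theorem octL_L : toFn octL ∈ leechLattice := mem_of_inLeech (by decide +kernel)
theorem m2L_L : toFn m2L ∈ leechLattice := mem_of_inLeech m2L_mem

/-- The image of `R` under an element fixing `8 e_∞`, when this image is invariant under `d`. -/
theorem image_R_d {m : Co0} (h1 : m • u8 none = u8 none) (h2 : pCo0 dM • (m • RL) = m • RL) :
    m • RL = RL ∨ m • RL = wordCo0 wE • RL := by
  obtain ⟨a, b, p, q, hY⟩ := coords_d h2
  have n1 : sqNorm ((m • RL : leechLattice) : GolayPt → ℤ) = 32 := by rw [Co0_sqNorm, sqNorm_RL]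
  have n2 : dotInt ((m • RL : leechLattice) : GolayPt → ℤ) (toFn e8L) = 24 := by
    have h := Co0_dot m RL (u8 none)
    rw [h1, dot_R_u8] at h
    rw [toFn_e8L]
    exact h
  have n3 := eight_dvd_dotInt octL_L (m • RL).2
  have n4 := eight_dvd_dotInt m2L_L (m • RL).2
  rw [hY] at n1 n2 n3 n4
  rw [← sqNorm_spec] at n1
  rw [← dotL_spec] at n2 n3 n4
  simp only [dotL, List.range_succ, List.range_zero, List.nil_append, List.cons_append, List.map_cons,
    List.map_nil, List.sum_cons, List.sum_nil, nth, e8L, octL, m2L] at n1 n2 n3 n4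
  have ha : a = 3 := by linarith
  subst ha
  rcases dioph_R b p q (by linarith) (by omega) (by omega) with ⟨rfl, rfl, rfl⟩ | ⟨rfl, rfl, rfl⟩
  · left
    apply Subtype.ext
    rw [hY]
    rfl
  · right
    rw [e_smul_R, mkL_of_mem erL_L]
    apply Subtype.ext
    rw [hY]
    rfl

/-- The image of `R` under an element fixing `8 e_∞`, when this image is invariant under `s`. -/
theorem image_R_s {m : Co0} (h1 : m • u8 none = u8 none) (h2 : pCo0 sM • (m • RL) = m • RL) :
    m • RL = RL := by
  obtain ⟨a, b, hY⟩ := coords_s h2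
  have n1 : sqNorm ((m • RL : leechLattice) : GolayPt → ℤ) = 32 := by rw [Co0_sqNorm, sqNorm_RL]
  have n2 : dotInt ((m • RL : leechLattice) : GolayPt → ℤ) (toFn e8L) = 24 := by
    have h := Co0_dot m RL (u8 none)
    rw [h1, dot_R_u8] at h
    rw [toFn_e8L]
    exact h
  have n4 := eight_dvd_dotInt m2L_L (m • RL).2
  rw [hY] at n1 n2 n4
  rw [← sqNorm_spec] at n1
  rw [← dotL_spec] at n2 n4
  simp only [dotL, List.range_succ, List.range_zero, List.nil_append, List.cons_append, List.map_cons,
    List.map_nil, List.sum_cons, List.sum_nil, nth, e8L, m2L] at n1 n2 n4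
  have ha : a = 3 := by linarith
  subst ha
  have hb1 : -1 ≤ b := by nlinarith [sq_nonneg (b + 1)]
  have hb2 : b ≤ 1 := by nlinarith [sq_nonneg (b - 1)]
  have hb : b = -1 := by
    interval_cases b
    · rfl
    · exfalso; omega
    · exfalso; omega
  subst hb
  apply Subtype.ext
  rw [hY]
  rfl

end Co1Out

end Cfsg.Agent.Lib.H27
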