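/-
helper27 library: centralizers in `Co0` of the coordinate permutations `s` and `d`, third part: the centralizer
of `s` is `⟨-1, s⟩`, the centralizer of `d` consists of the 132 elements `± c e^b d^j`, `c ∈ {1, z, e z}`.
-/
import Mathlib
import Cfsg.Prelude.Def_Spor_Conway
import Cfsg.Agent.Lib.H27.Co1Cent2

set_option autoImplicit false

namespace Cfsg.Agent.Lib.H27

open Cfsg MulAction Cfsg.Agent.Lib.H28 Cfsg.Agent.Lib.H27.Eng

namespace Co1Out

open Co3GenData Co2OutData Co1OutData OutM Co3Out Co2Out AutRigid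

/-! ### Group-theoretic preliminaries -/

/-- If `k` inverts `D` (of order dividing 11), so does `k⁻¹`. -/
theorem inv_rel {G : Type*} [Group G] (k D : G) (h11 : D ^ 11 = 1) (hk : k * D = D ^ 10 * k) :
    D * k = k * D ^ 10 := by
  have h1 : k * D * k⁻¹ = D ^ 10 := by rw [hk]; group
  have h2 := conj_pow (a := k) (b := D) (i := 10)
  rw [h1, ← pow_mul] at h2
  have h3 : D ^ (10 * 10) = D := by
    have : 10 * 10 = 11 * 9 + 1 := by norm_num
    rw [this, pow_add, pow_mul, h11, one_pow, one_mul, pow_one]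
  rw [h3] at h2
  calc D * k = (k * D ^ 10 * k⁻¹) * k := by rw [← h2]
    _ = k * D ^ 10 := by group

theorem neg_smul_u8 (g : Co0) : (negCo0 * g) • u8 none = -(g • u8 none) := by
  rw [mul_smul]
  apply Subtype.ext
  rw [negCo0_smul]
  rfl

theorem neg_neg_mul (g : Co0) : negCo0 * (negCo0 * g) = g := by
  rw [← mul_assoc, negCo0_sq, one_mul]

theorem neg_comm_of_comm {g D : Co0} (hc : g * D = D * g) : (negCo0 * g) * D = D * (negCo0 * g) := by
  rw [mul_assoc, hc, ← mul_assoc, ← negCo0_central D, mul_assoc]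

/-! ### Elements fixing `8 e_∞` -/

/-- An element of `C2` fixing `8 e_∞` does not invert `d`. -/
theorem no_inverter_C2 {m : Co0} (hm : m ∈ C2) (hfix : m • u8 none = u8 none)
    (hinv : m * wordCo0 wD = wordCo0 wD ^ 10 * m) : False := by
  obtain ⟨σ, hσ, hσg⟩ := perm_of_fix_u8R hm hfix
  have h3 : m * wordCo0 wD * m⁻¹ = wordCo0 wD ^ 10 := by rw [hinv]; group
  rw [hσg, ← pCo0_dM] at h3
  have h4 : permHom (σ * dM * σ⁻¹) = permHom (dM ^ 10) := by
    rw [map_mul, map_mul, map_inv, map_pow]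
    exact h3
  have h5 := permHom_injective h4
  have h6 : σ.1 * wordPerm dw * σ.1⁻¹ = wordPerm dw ^ 10 :=
    congrArg (fun x : ↥M24 => (x : Equiv.Perm GolayPt)) h5
  exact no_inverter σ.1 σ.2 hσ h6

theorem e_inv : (wordCo0 wE)⁻¹ = wordCo0 wE := by
  rw [inv_eq_iff_mul_eq_one, ← pow_two]
  exact e_sq

theorem e_inv_smul_u8 : (wordCo0 wE)⁻¹ • u8 none = u8 none := by
  rw [e_inv]
  exact e_smul_u8

theorem wD_pow_smul_R (n : ℕ) : wordCo0 wD ^ n • RL = RL := by
  have h : wordCo0 wD ^ n ∈ C2 := Subgroup.pow_mem _ (word_memA (by simp [sgA])) n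
  exact mem_stabilizer_iff.1 h

/-- No element fixing `8 e_∞` inverts `d`. -/
theorem fix_inv {m : Co0} (h1 : m • u8 none = u8 none) (hinv : m * wordCo0 wD = wordCo0 wD ^ 10 * m) :
    False := by
  have e1 : wordCo0 wD * m = m * wordCo0 wD ^ 10 := inv_rel m (wordCo0 wD) Co3Out.d_pow11 hinv
  have h2 : pCo0 dM • (m • RL) = m • RL := by
    rw [pCo0_dM, ← mul_smul, e1, mul_smul, wD_pow_smul_R]
  rcases image_R_d h1 h2 with h | h
  · exact no_inverter_C2 (mem_stabilizer_iff.2 h) h1 hinv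
  · have hm : (wordCo0 wE)⁻¹ * m ∈ C2 := by
      rw [mem_stabilizer_iff, mul_smul, h, inv_smul_smul]
    have hf : ((wordCo0 wE)⁻¹ * m) • u8 none = u8 none := by
      rw [mul_smul, h1, e_inv_smul_u8]
    apply no_inverter_C2 hm hf
    have e2 : (wordCo0 wE)⁻¹ * wordCo0 wD ^ 10 = wordCo0 wD ^ 10 * (wordCo0 wE)⁻¹ := by
      rw [e_inv]
      exact ((Commute.pow_right (show Commute (wordCo0 wE) (wordCo0 wD) from ed_comm) 10)).eq
    rw [mul_assoc, hinv, ← mul_assoc, e2, mul_assoc]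

/-- The words of `1` and `e`. -/
def ebW (b : ℕ) : List Gen :=
  match b with
  | 0 => []
  | _ => wE

theorem ebW_ok (b : ℕ) : (ebW b).all Gen.ok = true := by
  match b with
  | 0 => rfl
  | (b + 1) => exact wE_ok

/-- The elements fixing `8 e_∞` and commuting with `d`. -/
theorem fix_comm {m : Co0} (h1 : m • u8 none = u8 none) (hc : m * wordCo0 wD = wordCo0 wD * m) :
    ∃ b < 2, ∃ j < 11, m = wordCo0 (ebW b) * wordCo0 wD ^ j := by
  have h2 : pCo0 dM • (m • RL) = m • RL := by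
    apply smul_fixed_of_comm (by rw [pCo0_dM]; exact hc)
    rw [pCo0_dM]
    exact d_smul_R
  rcases image_R_d h1 h2 with h | h
  · obtain ⟨j, hj, hm⟩ := centralizer_dR (mem_stabilizer_iff.2 h) hc
    refine ⟨0, by norm_num, j, hj, ?_⟩
    show m = wordCo0 [] * wordCo0 wD ^ j
    rw [wordCo0_nil, one_mul]
    exact hm
  · have hm : (wordCo0 wE)⁻¹ * m ∈ C2 := by
      rw [mem_stabilizer_iff, mul_smul, h, inv_smul_smul]
    have hc' : (wordCo0 wE)⁻¹ * m * wordCo0 wD = wordCo0 wD * ((wordCo0 wE)⁻¹ * m) := by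
      rw [e_inv, mul_assoc, hc, ← mul_assoc, ed_comm, mul_assoc]
    obtain ⟨j, hj, hm'⟩ := centralizer_dR hm hc'
    refine ⟨1, by norm_num, j, hj, ?_⟩
    show m = wordCo0 wE * wordCo0 wD ^ j
    rw [← hm', mul_inv_cancel_left]

/-! ### The centralizer of `s` -/

theorem dioph_s0 (a b : ℤ) (h1 : a ^ 2 + 23 * b ^ 2 = 64) : (a = 8 ∨ a = -8) ∧ b = 0 := by
  have hb1 : -1 ≤ b := by nlinarith [sq_nonneg a, sq_nonneg (b + 1)]
  have hb2 : b ≤ 1 := by nlinarith [sq_nonneg a, sq_nonneg (b - 1)]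
  have ha1 : -8 ≤ a := by nlinarith [sq_nonneg b, sq_nonneg (a + 8)]
  have ha2 : a ≤ 8 := by nlinarith [sq_nonneg b, sq_nonneg (a - 8)]
  interval_cases b <;> interval_cases a <;> first | omega | simp_all

theorem fix_comm_s {m : Co0} (h1 : m • u8 none = u8 none) (hc : m * wordCo0 wS = wordCo0 wS * m) :
    ∃ k : ℤ, m = wordCo0 wS ^ k := by
  have h2 : pCo0 sM • (m • RL) = m • RL := by
    apply smul_fixed_of_comm (by rw [pCo0_sM]; exact hc)
    rw [pCo0_sM]
    exact s_smul_R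
  exact centralizer_sR (mem_stabilizer_iff.2 (image_R_s h1 h2)) hc

theorem neg_e8 : (-(toFn [0, 0, 0, 0, 0, 0, 0, 0, 0, 0, 0, 0, 0, 0, 0, 0, 0, 0, 0, 0, 0, 0, 0, -8]) :
    GolayPt → ℤ) = toFn e8L := by
  funext p
  revert p
  decide +kernel

/-- The centralizer of `s` in `Co0` is `⟨-1, s⟩`. -/
theorem centralizer_s0 {g : Co0} (hc : g * wordCo0 wS = wordCo0 wS * g) :
    ∃ k : ℤ, g = wordCo0 wS ^ k ∨ g = negCo0 * wordCo0 wS ^ k := by
  have hfix : pCo0 sM • (g • u8 none) = g • u8 none := by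
    apply smul_fixed_of_comm (by rw [pCo0_sM]; exact hc)
    exact pCo0_fix_u8 sM sM_none
  obtain ⟨a, b, hY⟩ := coords_s hfix
  have n1 : sqNorm ((g • u8 none : leechLattice) : GolayPt → ℤ) = 64 := by rw [Co0_sqNorm, sqNorm_u8]
  rw [hY, ← sqNorm_spec] at n1
  simp only [dotL, List.range_succ, List.range_zero, List.nil_append, List.cons_append, List.map_cons,
    List.map_nil, List.sum_cons, List.sum_nil, nth] at n1
  obtain ⟨ha, rfl⟩ := dioph_s0 a b (by linarith)
  rcases ha with rfl | rfl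
  · have h1 : g • u8 none = u8 none := by
      apply Subtype.ext
      rw [hY]
      exact toFn_e8L
    obtain ⟨k, hk⟩ := fix_comm_s h1 hc
    exact ⟨k, Or.inl hk⟩
  · have h1 : (negCo0 * g) • u8 none = u8 none := by
      rw [neg_smul_u8]
      apply Subtype.ext
      show -((g • u8 none : leechLattice) : GolayPt → ℤ) = _
      rw [hY, neg_e8]
      exact toFn_e8L
    obtain ⟨k, hk⟩ := fix_comm_s h1 (neg_comm_of_comm hc)
    refine ⟨k, Or.inr ?_⟩
    rw [← hk, neg_neg_mul]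

end Co1Out

end Cfsg.Agent.Lib.H27
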