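/-
helper27 library: the centralizer in `Co0` of the coordinate permutation `d : x ↦ 2 x` consists of the 132 elements
`± c e^b d^j`, `c ∈ {1, z, e z}`.
-/
import Mathlib
import Cfsg.Prelude.Def_Spor_Conway
import Cfsg.Agent.Lib.H27.Co1Cent3

set_option autoImplicit false

namespace Cfsg.Agent.Lib.H27

open Cfsg MulAction Cfsg.Agent.Lib.H28 Cfsg.Agent.Lib.H27.Eng

namespace Co1Out

open Co3GenData Co2OutData Co1OutData OutM Co3Out Co2Out AutRigid

/-- The words of `1`, `z`, `e z`. -/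
def caW (a : ℕ) : List Gen :=
  match a with
  | 0 => []
  | 1 => wZ
  | _ => wmul wE wZ

theorem caW_ok (a : ℕ) : (caW a).all Gen.ok = true := by
  match a with
  | 0 => rfl
  | 1 => exact wZ_ok
  | (a + 2) => exact wmul_ok wE_ok wZ_ok

/-- The words of the elements of the centralizer of `d`, up to sign. -/
def cW (a b j : ℕ) : List Gen := wmul (caW a) (wmul (ebW b) (dPow j))

theorem cW_ok (a b j : ℕ) : (cW a b j).all Gen.ok = true :=
  wmul_ok (caW_ok a) (wmul_ok (ebW_ok b) (dPow_ok j))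

theorem wordCo0_cW (a b j : ℕ) (hj : j < 11) :
    wordCo0 (cW a b j) = wordCo0 (caW a) * (wordCo0 (ebW b) * wordCo0 wD ^ j) := by
  unfold cW
  rw [wordCo0_wmul, wordCo0_wmul, dPow_spec j hj]

/-- An element commuting with `d` whose image of `8 e_∞` agrees with that of an element `k` commuting with `d`. -/
theorem finish_good {g k : Co0} (hk : k * wordCo0 wD = wordCo0 wD * k)
    (hc : g * wordCo0 wD = wordCo0 wD * g) (h : g • u8 none = k • u8 none) :
    ∃ b < 2, ∃ j < 11, g = k * (wordCo0 (ebW b) * wordCo0 wD ^ j) := by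
  have h1 : (k⁻¹ * g) • u8 none = u8 none := by rw [mul_smul, h, inv_smul_smul]
  have h2 : k⁻¹ * g * wordCo0 wD = wordCo0 wD * (k⁻¹ * g) := by
    have e1 : k⁻¹ * wordCo0 wD = wordCo0 wD * k⁻¹ := by
      rw [inv_mul_eq_iff_eq_mul, ← mul_assoc, hk, mul_assoc, mul_inv_cancel, mul_one]
    rw [mul_assoc, hc, ← mul_assoc, e1, mul_assoc]
  obtain ⟨b, hb, j, hj, hm⟩ := fix_comm h1 h2
  refine ⟨b, hb, j, hj, ?_⟩
  rw [← hm, mul_inv_cancel_left]

/-- No element commuting with `d` has the same image of `8 e_∞` as an element inverting `d`. -/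
theorem finish_bad {g k : Co0} (hk : k * wordCo0 wD = wordCo0 wD ^ 10 * k)
    (hc : g * wordCo0 wD = wordCo0 wD * g) (h : g • u8 none = k • u8 none) : False := by
  have h1 : (k⁻¹ * g) • u8 none = u8 none := by rw [mul_smul, h, inv_smul_smul]
  apply fix_inv h1
  have e0 : wordCo0 wD * k = k * wordCo0 wD ^ 10 := inv_rel k (wordCo0 wD) Co3Out.d_pow11 hk
  have e1 : k⁻¹ * wordCo0 wD = wordCo0 wD ^ 10 * k⁻¹ := by
    rw [inv_mul_eq_iff_eq_mul, ← mul_assoc, ← e0, mul_assoc, mul_inv_cancel, mul_one]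
  rw [mul_assoc, hc, ← mul_assoc, e1, mul_assoc]

theorem ezd_comm : wordCo0 (wmul wE wZ) * wordCo0 wD = wordCo0 wD * wordCo0 (wmul wE wZ) := by
  rw [wordCo0_wmul, mul_assoc, zd_comm, ← mul_assoc, ed_comm, mul_assoc]

theorem ehd_rel : wordCo0 (wmul wE wH) * wordCo0 wD = wordCo0 wD ^ 10 * wordCo0 (wmul wE wH) := by
  have e2 : wordCo0 wE * wordCo0 wD ^ 10 = wordCo0 wD ^ 10 * wordCo0 wE :=
    ((Commute.pow_right (show Commute (wordCo0 wE) (wordCo0 wD) from ed_comm) 10)).eq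
  rw [wordCo0_wmul, mul_assoc, hd_rel, ← mul_assoc, e2, mul_assoc]

theorem neg_w4 : (-(toFn [2, -2, -2, -2, -2, 0, -2, 0, -2, -2, 0, 0, -2, -2, 0, 0, -2, 0, -2, 0, 0, 0, 0, -4]) :
    GolayPt → ℤ) = toFn w4L := by
  funext p
  revert p
  decide +kernel

theorem neg_v2 : (-(toFn [-2, 2, 2, 2, 2, 0, 2, 0, 2, 2, 0, 0, 2, 2, 0, 0, 2, 0, 2, 0, 0, 0, 0, -4]) :
    GolayPt → ℤ) = toFn v2L := by
  funext p
  revert p
  decide +kernel

theorem neg_e0 : (-(toFn [-8, 0, 0, 0, 0, 0, 0, 0, 0, 0, 0, 0, 0, 0, 0, 0, 0, 0, 0, 0, 0, 0, 0, 0]) :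
    GolayPt → ℤ) = toFn e0L := by
  funext p
  revert p
  decide +kernel

theorem neg_yp : (-(toFn [-4, 0, 0, 0, 0, 2, 0, 2, 0, 0, 2, 2, 0, 0, 2, 2, 0, 2, 0, 2, 2, 2, 2, -2]) :
    GolayPt → ℤ) = toFn ypL := by
  funext p
  revert p
  decide +kernel

theorem neg_eh : (-(toFn [4, 0, 0, 0, 0, 2, 0, 2, 0, 0, 2, 2, 0, 0, 2, 2, 0, 2, 0, 2, 2, 2, 2, -2]) :
    GolayPt → ℤ) = toFn ehL := by
  funext p
  revert p
  decide +kernel

/-- The centralizer of `d` in `Co0`. -/
theorem centralizer_d0 {g : Co0} (hc : g * wordCo0 wD = wordCo0 wD * g) :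
    ∃ a < 3, ∃ b < 2, ∃ j < 11, g = wordCo0 (cW a b j) ∨ g = negCo0 * wordCo0 (cW a b j) := by
  have hfix : pCo0 dM • (g • u8 none) = g • u8 none := by
    apply smul_fixed_of_comm (by rw [pCo0_dM]; exact hc)
    exact pCo0_fix_u8 dM dM_none
  obtain ⟨a, b, p, q, hY⟩ := coords_d hfix
  have n1 : sqNorm ((g • u8 none : leechLattice) : GolayPt → ℤ) = 64 := by rw [Co0_sqNorm, sqNorm_u8]
  have n3 := eight_dvd_dotInt octL_L (g • u8 none).2
  have n4 := eight_dvd_dotInt m2L_L (g • u8 none).2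
  rw [hY] at n1 n3 n4
  rw [← sqNorm_spec] at n1
  rw [← dotL_spec] at n3 n4
  simp only [dotL, List.range_succ, List.range_zero, List.nil_append, List.cons_append, List.map_cons,
    List.map_nil, List.sum_cons, List.sum_nil, nth, octL, m2L] at n1 n3 n4
  have hmem := dioph_d0 a b p q (by linarith) (by omega) (by omega)
  have hcn := neg_comm_of_comm hc
  -- the two kinds of conclusion
  have good : ∀ (a0 : ℕ) (_ : a0 < 3) (g' : Co0), (g' = g ∨ g' = negCo0 * g) →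
      g' * wordCo0 wD = wordCo0 wD * g' →
      wordCo0 (caW a0) * wordCo0 wD = wordCo0 wD * wordCo0 (caW a0) →
      g' • u8 none = wordCo0 (caW a0) • u8 none →
      ∃ a < 3, ∃ b < 2, ∃ j < 11, g = wordCo0 (cW a b j) ∨ g = negCo0 * wordCo0 (cW a b j) := by
    intro a0 ha0 g' hg' hc' hk h
    obtain ⟨b0, hb0, j0, hj0, e⟩ := finish_good hk hc' h
    refine ⟨a0, ha0, b0, hb0, j0, hj0, ?_⟩
    rw [wordCo0_cW a0 b0 j0 hj0, ← e]
    rcases hg' with rfl | rfl
    · exact Or.inl rfl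
    · exact Or.inr (neg_neg_mul g).symm
  have hk0 : wordCo0 (caW 0) * wordCo0 wD = wordCo0 wD * wordCo0 (caW 0) := by
    show wordCo0 [] * _ = _ * wordCo0 []
    rw [wordCo0_nil, one_mul, mul_one]
  have hk1 : wordCo0 (caW 1) * wordCo0 wD = wordCo0 wD * wordCo0 (caW 1) := zd_comm
  have hk2 : wordCo0 (caW 2) * wordCo0 wD = wordCo0 wD * wordCo0 (caW 2) := ezd_comm
  have hu0 : wordCo0 (caW 0) • u8 none = u8 none := by
    show wordCo0 [] • u8 none = u8 none
    rw [wordCo0_nil, one_smul]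
  simp only [dsol, List.mem_cons, Prod.mk.injEq, List.not_mem_nil, or_false] at hmem
  rcases hmem with ⟨rfl, rfl, rfl, rfl⟩ | ⟨rfl, rfl, rfl, rfl⟩ | ⟨rfl, rfl, rfl, rfl⟩ | ⟨rfl, rfl, rfl, rfl⟩ |
    ⟨rfl, rfl, rfl, rfl⟩ | ⟨rfl, rfl, rfl, rfl⟩ | ⟨rfl, rfl, rfl, rfl⟩ | ⟨rfl, rfl, rfl, rfl⟩ |
    ⟨rfl, rfl, rfl, rfl⟩ | ⟨rfl, rfl, rfl, rfl⟩ | ⟨rfl, rfl, rfl, rfl⟩ | ⟨rfl, rfl, rfl, rfl⟩
  · -- 8 e_∞
    apply good 0 (by norm_num) g (Or.inl rfl) hc hk0
    rw [hu0]
    apply Subtype.ext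
    rw [hY]
    exact toFn_e8L
  · -- -8 e_∞
    apply good 0 (by norm_num) (negCo0 * g) (Or.inr rfl) hcn hk0
    rw [hu0, neg_smul_u8]
    apply Subtype.ext
    show -((g • u8 none : leechLattice) : GolayPt → ℤ) = _
    rw [hY, neg_e8]
    exact toFn_e8L
  · -- z
    apply good 1 (by norm_num) g (Or.inl rfl) hc hk1
    apply Subtype.ext
    rw [hY]
    exact z_smul_u8.symm
  · -- -z
    apply good 1 (by norm_num) (negCo0 * g) (Or.inr rfl) hcn hk1
    rw [neg_smul_u8]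
    apply Subtype.ext
    show -((g • u8 none : leechLattice) : GolayPt → ℤ) = _
    rw [hY, neg_w4]
    exact z_smul_u8.symm
  · -- e z
    apply good 2 (by norm_num) g (Or.inl rfl) hc hk2
    apply Subtype.ext
    rw [hY]
    exact ez_smul_u8.symm
  · -- -e z
    apply good 2 (by norm_num) (negCo0 * g) (Or.inr rfl) hcn hk2
    rw [neg_smul_u8]
    apply Subtype.ext
    show -((g • u8 none : leechLattice) : GolayPt → ℤ) = _
    rw [hY, neg_v2]
    exact ez_smul_u8.symm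
  · -- t
    exfalso
    apply finish_bad td_rel hc
    apply Subtype.ext
    rw [hY]
    exact t_smul_u8.symm
  · -- -t
    exfalso
    apply finish_bad td_rel hcn
    rw [neg_smul_u8]
    apply Subtype.ext
    show -((g • u8 none : leechLattice) : GolayPt → ℤ) = _
    rw [hY, neg_e0]
    exact t_smul_u8.symm
  · -- h
    exfalso
    apply finish_bad hd_rel hc
    apply Subtype.ext
    rw [hY]
    exact h_smul_u8.symm
  · -- -h
    exfalso
    apply finish_bad hd_rel hcn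
    rw [neg_smul_u8]
    apply Subtype.ext
    show -((g • u8 none : leechLattice) : GolayPt → ℤ) = _
    rw [hY, neg_yp]
    exact h_smul_u8.symm
  · -- e h
    exfalso
    apply finish_bad ehd_rel hc
    apply Subtype.ext
    rw [hY]
    exact eh_smul_u8.symm
  · -- -e h
    exfalso
    apply finish_bad ehd_rel hcn
    rw [neg_smul_u8]
    apply Subtype.ext
    show -((g • u8 none : leechLattice) : GolayPt → ℤ) = _
    rw [hY, neg_eh]
    exact eh_smul_u8.symm

end Co1Out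

end Cfsg.Agent.Lib.H27
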