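/-
helper27 library: the relators used for the automorphisms of `Co2` and the words of their values at the candidate
images of the generators.
-/
import Mathlib
import Cfsg.Prelude.Def_Spor_Conway
import Cfsg.Agent.Lib.H27.Co2OutCent
import Cfsg.Agent.Lib.H27.AutRigid4

set_option autoImplicit false

namespace Cfsg.Agent.Lib.H27

open Cfsg MulAction Cfsg.Agent.Lib.H28 Cfsg.Agent.Lib.H27.Eng

namespace Co2Out

open Co3GenData Co2OutData OutM Co3Out AutRigid

/-- A word moving a lattice vector is not the identity. -/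
theorem ne_one_of_moves {w : List Gen} (hok : w.all Gen.ok = true) {b : V} (hbL : toFn b ∈ leechLattice)
    (hm : moves w b = true) : wordCo0 w ≠ 1 := by
  intro h1
  unfold moves at hm
  rw [forceList_eq, actWordF_eq, List.any_eq_true] at hm
  obtain ⟨k, hk, hne⟩ := hm
  rw [List.mem_range] at hk
  rw [decide_eq_true_eq] at hne
  apply hne
  have h2 := actWord_spec w hok b hbL
  rw [h1, one_smul] at h2
  exact nth_of_toFn_eq h2 hk

theorem tvec_L : toFn tvec ∈ leechLattice := mem_of_inLeech tvec_mem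

/-- The relators: `(s u)^6`, `(s u u)^5`, `(s s u h)^7`. -/
def rels4 : List (List ℕ × ℕ) := [([0, 2], 6), ([0, 2, 2], 5), ([0, 0, 2, 3], 7)]

/-- The words of the candidate images: `s` or `s⁻¹`, `d`, `u d ^ j` and `h d ^ j'`. -/
def valsC (e : Bool) (j j' : ℕ) (i : ℕ) : List Gen :=
  match i with
  | 0 => if e then wS else Co2OutData.wSi
  | 1 => wD
  | 2 => wmul wU (wpow wD j)
  | 3 => wmul wH (wpow wD j')
  | _ => []

theorem valsC_ok (e : Bool) (j j' : ℕ) (i : ℕ) : (valsC e j j' i).all Gen.ok = true := by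
  match i with
  | 0 =>
    cases e
    · exact Co2OutData.wSi_ok
    · exact wS_ok
  | 1 => exact wD_ok
  | 2 => exact wmul_ok wU_ok (wpow_ok wD_ok j)
  | 3 => exact wmul_ok wH_ok (wpow_ok wD_ok j')
  | (i + 4) => rfl

theorem wordCo0_wSi2 : wordCo0 Co2OutData.wSi = (wordCo0 wS)⁻¹ := by
  rw [eq_inv_iff_mul_eq_one, ← wordCo0_wmul]
  exact wordCo0_eq_oneF (wmul_ok Co2OutData.wSi_ok wS_ok) (by decide +kernel)

theorem wordCo0_valsC (e : Bool) (j j' : ℕ) (i : ℕ) :
    wordCo0 (valsC e j j' i) = [if e then wordCo0 wS else (wordCo0 wS)⁻¹, wordCo0 wD,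
      wordCo0 wU * wordCo0 wD ^ j, wordCo0 wH * wordCo0 wD ^ j'].getD i 1 := by
  match i with
  | 0 =>
    cases e
    · exact wordCo0_wSi2
    · rfl
  | 1 => rfl
  | 2 =>
    show wordCo0 (wmul wU (wpow wD j)) = _
    rw [wordCo0_wmul, wordCo0_wpow]
    rfl
  | 3 =>
    show wordCo0 (wmul wH (wpow wD j')) = _
    rw [wordCo0_wmul, wordCo0_wpow]
    rfl
  | (i + 4) => rfl

/-- The word of a relator at a candidate. -/
def relC (e : Bool) (j j' : ℕ) (r : List ℕ × ℕ) : List Gen := wpow (patW (valsC e j j') r.1) r.2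

theorem relC_ok (e : Bool) (j j' : ℕ) (r : List ℕ × ℕ) : (relC e j j' r).all Gen.ok = true :=
  wpow_ok (patW_ok (valsC_ok e j j') r.1) r.2

theorem wordCo0_relC (e : Bool) (j j' : ℕ) (r : List ℕ × ℕ) :
    wordCo0 (relC e j j' r) = (evalPat (fun i => [if e then wordCo0 wS else (wordCo0 wS)⁻¹, wordCo0 wD,
      wordCo0 wU * wordCo0 wD ^ j, wordCo0 wH * wordCo0 wD ^ j'].getD i 1) r.1) ^ r.2 := by
  unfold relC
  rw [wordCo0_wpow, wordCo0_patW]
  congr 2
  funext i
  exact wordCo0_valsC e j j' i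

end Co2Out

end Cfsg.Agent.Lib.H27
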