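/-
helper27 library: the relators used for the automorphisms of `Co1` and the words of their values at the candidate
images of the generators; a test showing that a word is neither `1` nor `-1`.
-/
import Mathlib
import Cfsg.Prelude.Def_Spor_Conway
import Cfsg.Agent.Lib.H27.Co1Cent4
import Cfsg.Agent.Lib.H27.Co2OutRel

set_option autoImplicit false

namespace Cfsg.Agent.Lib.H27

open Cfsg MulAction Cfsg.Agent.Lib.H28 Cfsg.Agent.Lib.H27.Eng

namespace Co1Out

open Co3GenData Co2OutData Co1OutData OutM Co3Out Co2Out AutRigid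

/-- The word moves the vector to a vector different from it and from its negative. -/
def movesPM (w : List Gen) (b : V) : Bool :=
  forceList (actWordF w b) (fun y => (List.range 24).any (fun k => decide (nth y k ≠ nth b k)) &&
    (List.range 24).any (fun k => decide (nth y k ≠ -nth b k)))

theorem ne_of_movesPM {w : List Gen} (hok : w.all Gen.ok = true) {b : V} (hbL : toFn b ∈ leechLattice)
    (hm : movesPM w b = true) : wordCo0 w ≠ 1 ∧ wordCo0 w ≠ negCo0 := by
  unfold movesPM at hm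
  rw [forceList_eq, actWordF_eq, Bool.and_eq_true, List.any_eq_true, List.any_eq_true] at hm
  obtain ⟨⟨k, hk, hne⟩, ⟨k', hk', hne'⟩⟩ := hm
  rw [List.mem_range] at hk hk'
  rw [decide_eq_true_eq] at hne hne'
  have h2 := actWord_spec w hok b hbL
  constructor
  · intro h1
    apply hne
    rw [h1, one_smul] at h2
    exact nth_of_toFn_eq h2 hk
  · intro h1
    apply hne'
    rw [h1, negCo0_smul] at h2
    have h3 := congrFun h2 (gPt k')
    unfold toFn at h3
    rw [gIdx_gPt hk'] at h3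
    rw [h3]
    show -(toFn b (gPt k')) = -nth b k'
    unfold toFn
    rw [gIdx_gPt hk']

theorem tvec1_L : toFn tvec1 ∈ leechLattice := mem_of_inLeech tvec1_mem

/-- The relators. -/
def rels6 : List (List ℕ × ℕ) :=
  [([1, 2], 5), ([0, 2], 6), ([0, 2, 2], 5), ([1, 3, 1, 3], 1), ([0, 0, 2, 3], 7), ([0, 2, 4], 6)]

/-- The words of the 66 elements of the centralizer of `d` modulo `-1`. -/
def cIdx (i : ℕ) : List Gen := cW (i / 22) ((i / 11) % 2) (i % 11)

theorem cIdx_ok (i : ℕ) : (cIdx i).all Gen.ok = true := cW_ok _ _ _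

theorem cIdx_zero : wordCo0 (cIdx 0) = 1 := by
  show wordCo0 (wmul [] (wmul [] (dPow 0))) = 1
  rw [wordCo0_wmul, wordCo0_wmul, dPow_spec 0 (by norm_num), wordCo0_nil, pow_zero, one_mul, one_mul]

/-- The words of the candidate images: `s` or `s⁻¹`, `d`, `u c1`, `h c2`, `e c3`. -/
def valsQ (eS : Bool) (i1 i2 i3 : ℕ) (n : ℕ) : List Gen :=
  match n with
  | 0 => if eS then wS else Co2OutData.wSi
  | 1 => wD
  | 2 => wmul wU (cIdx i1)
  | 3 => wmul wH (cIdx i2)
  | 4 => wmul wE (cIdx i3)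
  | _ => []

theorem valsQ_ok (eS : Bool) (i1 i2 i3 : ℕ) (n : ℕ) : (valsQ eS i1 i2 i3 n).all Gen.ok = true := by
  match n with
  | 0 =>
    cases eS
    · exact Co2OutData.wSi_ok
    · exact wS_ok
  | 1 => exact wD_ok
  | 2 => exact wmul_ok wU_ok (cIdx_ok i1)
  | 3 => exact wmul_ok wH_ok (cIdx_ok i2)
  | 4 => exact wmul_ok wE_ok (cIdx_ok i3)
  | (n + 5) => rfl

theorem wordCo0_valsQ (eS : Bool) (i1 i2 i3 : ℕ) (n : ℕ) :
    wordCo0 (valsQ eS i1 i2 i3 n) = [if eS then wordCo0 wS else (wordCo0 wS)⁻¹, wordCo0 wD,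
      wordCo0 wU * wordCo0 (cIdx i1), wordCo0 wH * wordCo0 (cIdx i2),
      wordCo0 wE * wordCo0 (cIdx i3)].getD n 1 := by
  match n with
  | 0 =>
    cases eS
    · exact wordCo0_wSi2
    · rfl
  | 1 => rfl
  | 2 => exact wordCo0_wmul _ _
  | 3 => exact wordCo0_wmul _ _
  | 4 => exact wordCo0_wmul _ _
  | (n + 5) => rfl

/-- The word of a relator at a candidate. -/
def relQ (eS : Bool) (i1 i2 i3 : ℕ) (r : List ℕ × ℕ) : List Gen := wpow (patW (valsQ eS i1 i2 i3) r.1) r.2

theorem relQ_ok (eS : Bool) (i1 i2 i3 : ℕ) (r : List ℕ × ℕ) : (relQ eS i1 i2 i3 r).all Gen.ok = true :=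
  wpow_ok (patW_ok (valsQ_ok eS i1 i2 i3) r.1) r.2

theorem wordCo0_relQ (eS : Bool) (i1 i2 i3 : ℕ) (r : List ℕ × ℕ) :
    wordCo0 (relQ eS i1 i2 i3 r) = (evalPat (fun n => [if eS then wordCo0 wS else (wordCo0 wS)⁻¹, wordCo0 wD,
      wordCo0 wU * wordCo0 (cIdx i1), wordCo0 wH * wordCo0 (cIdx i2),
      wordCo0 wE * wordCo0 (cIdx i3)].getD n 1) r.1) ^ r.2 := by
  unfold relQ
  rw [wordCo0_wpow, wordCo0_patW]
  congr 2
  funext n
  exact wordCo0_valsQ eS i1 i2 i3 n

end Co1Out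

end Cfsg.Agent.Lib.H27
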