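/-
helper27 library: relator checks for the automorphisms of `Co1` (generated by scripts/gen_co1chk.py), part 0.
-/
import Mathlib
import Cfsg.Agent.Lib.H27.Co1Rel

set_option autoImplicit false

namespace Cfsg.Agent.Lib.H27

open Cfsg MulAction Cfsg.Agent.Lib.H28 Cfsg.Agent.Lib.H27.Eng

namespace Co1Out

open Co3GenData Co2OutData Co1OutData OutM Co3Out Co2Out AutRigid

theorem chkQA_t_1 : movesPM (relQ true 1 0 0 (rels6.getD 1 ([], 0))) tvec1 = true := by decide +kernel
theorem chkQA_t_2 : movesPM (relQ true 2 0 0 (rels6.getD 1 ([], 0))) tvec1 = true := by decide +kernel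
theorem chkQA_t_3 : movesPM (relQ true 3 0 0 (rels6.getD 1 ([], 0))) tvec1 = true := by decide +kernel
theorem chkQA_t_4 : movesPM (relQ true 4 0 0 (rels6.getD 1 ([], 0))) tvec1 = true := by decide +kernel
theorem chkQA_t_5 : movesPM (relQ true 5 0 0 (rels6.getD 1 ([], 0))) tvec1 = true := by decide +kernel
theorem chkQA_t_6 : movesPM (relQ true 6 0 0 (rels6.getD 1 ([], 0))) tvec1 = true := by decide +kernel
theorem chkQA_t_7 : movesPM (relQ true 7 0 0 (rels6.getD 1 ([], 0))) tvec1 = true := by decide +kernel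
theorem chkQA_t_8 : movesPM (relQ true 8 0 0 (rels6.getD 1 ([], 0))) tvec1 = true := by decide +kernel
theorem chkQA_t_9 : movesPM (relQ true 9 0 0 (rels6.getD 1 ([], 0))) tvec1 = true := by decide +kernel
theorem chkQA_t_10 : movesPM (relQ true 10 0 0 (rels6.getD 1 ([], 0))) tvec1 = true := by decide +kernel
theorem chkQA_t_11 : movesPM (relQ true 11 0 0 (rels6.getD 0 ([], 0))) tvec1 = true := by decide +kernel
theorem chkQA_t_12 : movesPM (relQ true 12 0 0 (rels6.getD 0 ([], 0))) tvec1 = true := by decide +kernel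
theorem chkQA_t_13 : movesPM (relQ true 13 0 0 (rels6.getD 0 ([], 0))) tvec1 = true := by decide +kernel
theorem chkQA_t_14 : movesPM (relQ true 14 0 0 (rels6.getD 0 ([], 0))) tvec1 = true := by decide +kernel
theorem chkQA_t_15 : movesPM (relQ true 15 0 0 (rels6.getD 0 ([], 0))) tvec1 = true := by decide +kernel
theorem chkQA_t_16 : movesPM (relQ true 16 0 0 (rels6.getD 0 ([], 0))) tvec1 = true := by decide +kernel
theorem chkQA_t_17 : movesPM (relQ true 17 0 0 (rels6.getD 0 ([], 0))) tvec1 = true := by decide +kernel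
theorem chkQA_t_18 : movesPM (relQ true 18 0 0 (rels6.getD 0 ([], 0))) tvec1 = true := by decide +kernel
theorem chkQA_t_19 : movesPM (relQ true 19 0 0 (rels6.getD 0 ([], 0))) tvec1 = true := by decide +kernel
theorem chkQA_t_20 : movesPM (relQ true 20 0 0 (rels6.getD 0 ([], 0))) tvec1 = true := by decide +kernel
theorem chkQA_t_21 : movesPM (relQ true 21 0 0 (rels6.getD 0 ([], 0))) tvec1 = true := by decide +kernel
theorem chkQA_t_22 : movesPM (relQ true 22 0 0 (rels6.getD 0 ([], 0))) tvec1 = true := by decide +kernel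
theorem chkQA_t_23 : movesPM (relQ true 23 0 0 (rels6.getD 0 ([], 0))) tvec1 = true := by decide +kernel
theorem chkQA_t_24 : movesPM (relQ true 24 0 0 (rels6.getD 0 ([], 0))) tvec1 = true := by decide +kernel
theorem chkQA_t_25 : movesPM (relQ true 25 0 0 (rels6.getD 0 ([], 0))) tvec1 = true := by decide +kernel
theorem chkQA_t_26 : movesPM (relQ true 26 0 0 (rels6.getD 0 ([], 0))) tvec1 = true := by decide +kernel
theorem chkQA_t_27 : movesPM (relQ true 27 0 0 (rels6.getD 0 ([], 0))) tvec1 = true := by decide +kernel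
theorem chkQA_t_28 : movesPM (relQ true 28 0 0 (rels6.getD 0 ([], 0))) tvec1 = true := by decide +kernel
theorem chkQA_t_29 : movesPM (relQ true 29 0 0 (rels6.getD 0 ([], 0))) tvec1 = true := by decide +kernel
theorem chkQA_t_30 : movesPM (relQ true 30 0 0 (rels6.getD 0 ([], 0))) tvec1 = true := by decide +kernel
theorem chkQA_t_31 : movesPM (relQ true 31 0 0 (rels6.getD 0 ([], 0))) tvec1 = true := by decide +kernel
theorem chkQA_t_32 : movesPM (relQ true 32 0 0 (rels6.getD 0 ([], 0))) tvec1 = true := by decide +kernel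
theorem chkQA_t_33 : movesPM (relQ true 33 0 0 (rels6.getD 0 ([], 0))) tvec1 = true := by decide +kernel
theorem chkQA_t_34 : movesPM (relQ true 34 0 0 (rels6.getD 0 ([], 0))) tvec1 = true := by decide +kernel
theorem chkQA_t_35 : movesPM (relQ true 35 0 0 (rels6.getD 0 ([], 0))) tvec1 = true := by decide +kernel
theorem chkQA_t_36 : movesPM (relQ true 36 0 0 (rels6.getD 0 ([], 0))) tvec1 = true := by decide +kernel
theorem chkQA_t_37 : movesPM (relQ true 37 0 0 (rels6.getD 0 ([], 0))) tvec1 = true := by decide +kernel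
theorem chkQA_t_38 : movesPM (relQ true 38 0 0 (rels6.getD 0 ([], 0))) tvec1 = true := by decide +kernel
theorem chkQA_t_39 : movesPM (relQ true 39 0 0 (rels6.getD 0 ([], 0))) tvec1 = true := by decide +kernel
theorem chkQA_t_40 : movesPM (relQ true 40 0 0 (rels6.getD 0 ([], 0))) tvec1 = true := by decide +kernel
theorem chkQA_t_41 : movesPM (relQ true 41 0 0 (rels6.getD 0 ([], 0))) tvec1 = true := by decide +kernel
theorem chkQA_t_42 : movesPM (relQ true 42 0 0 (rels6.getD 0 ([], 0))) tvec1 = true := by decide +kernel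
theorem chkQA_t_43 : movesPM (relQ true 43 0 0 (rels6.getD 0 ([], 0))) tvec1 = true := by decide +kernel
theorem chkQA_t_44 : movesPM (relQ true 44 0 0 (rels6.getD 0 ([], 0))) tvec1 = true := by decide +kernel
theorem chkQA_t_45 : movesPM (relQ true 45 0 0 (rels6.getD 0 ([], 0))) tvec1 = true := by decide +kernel
theorem chkQA_t_46 : movesPM (relQ true 46 0 0 (rels6.getD 0 ([], 0))) tvec1 = true := by decide +kernel
theorem chkQA_t_47 : movesPM (relQ true 47 0 0 (rels6.getD 0 ([], 0))) tvec1 = true := by decide +kernel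
theorem chkQA_t_48 : movesPM (relQ true 48 0 0 (rels6.getD 0 ([], 0))) tvec1 = true := by decide +kernel
theorem chkQA_t_49 : movesPM (relQ true 49 0 0 (rels6.getD 0 ([], 0))) tvec1 = true := by decide +kernel
theorem chkQA_t_50 : movesPM (relQ true 50 0 0 (rels6.getD 0 ([], 0))) tvec1 = true := by decide +kernel
theorem chkQA_t_51 : movesPM (relQ true 51 0 0 (rels6.getD 0 ([], 0))) tvec1 = true := by decide +kernel
theorem chkQA_t_52 : movesPM (relQ true 52 0 0 (rels6.getD 0 ([], 0))) tvec1 = true := by decide +kernel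
theorem chkQA_t_53 : movesPM (relQ true 53 0 0 (rels6.getD 0 ([], 0))) tvec1 = true := by decide +kernel
theorem chkQA_t_54 : movesPM (relQ true 54 0 0 (rels6.getD 0 ([], 0))) tvec1 = true := by decide +kernel
theorem chkQA_t_55 : movesPM (relQ true 55 0 0 (rels6.getD 0 ([], 0))) tvec1 = true := by decide +kernel

end Co1Out

end Cfsg.Agent.Lib.H27
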