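/-
helper27 library: relator checks for the automorphisms of `Co1` (generated by scripts/gen_co1chk.py), part 1.
-/
import Mathlib
import Cfsg.Agent.Lib.H27.Co1Rel

set_option autoImplicit false

namespace Cfsg.Agent.Lib.H27

open Cfsg MulAction Cfsg.Agent.Lib.H28 Cfsg.Agent.Lib.H27.Eng

namespace Co1Out

open Co3GenData Co2OutData Co1OutData OutM Co3Out Co2Out AutRigid

theorem chkQA_t_56 : movesPM (relQ true 56 0 0 (rels6.getD 0 ([], 0))) tvec1 = true := by decide +kernel
theorem chkQA_t_57 : movesPM (relQ true 57 0 0 (rels6.getD 0 ([], 0))) tvec1 = true := by decide +kernel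
theorem chkQA_t_58 : movesPM (relQ true 58 0 0 (rels6.getD 0 ([], 0))) tvec1 = true := by decide +kernel
theorem chkQA_t_59 : movesPM (relQ true 59 0 0 (rels6.getD 0 ([], 0))) tvec1 = true := by decide +kernel
theorem chkQA_t_60 : movesPM (relQ true 60 0 0 (rels6.getD 0 ([], 0))) tvec1 = true := by decide +kernel
theorem chkQA_t_61 : movesPM (relQ true 61 0 0 (rels6.getD 0 ([], 0))) tvec1 = true := by decide +kernel
theorem chkQA_t_62 : movesPM (relQ true 62 0 0 (rels6.getD 0 ([], 0))) tvec1 = true := by decide +kernel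
theorem chkQA_t_63 : movesPM (relQ true 63 0 0 (rels6.getD 0 ([], 0))) tvec1 = true := by decide +kernel
theorem chkQA_t_64 : movesPM (relQ true 64 0 0 (rels6.getD 0 ([], 0))) tvec1 = true := by decide +kernel
theorem chkQA_t_65 : movesPM (relQ true 65 0 0 (rels6.getD 0 ([], 0))) tvec1 = true := by decide +kernel
theorem chkQA_f_0 : movesPM (relQ false 0 0 0 (rels6.getD 1 ([], 0))) tvec1 = true := by decide +kernel
theorem chkQA_f_1 : movesPM (relQ false 1 0 0 (rels6.getD 1 ([], 0))) tvec1 = true := by decide +kernel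
theorem chkQA_f_2 : movesPM (relQ false 2 0 0 (rels6.getD 1 ([], 0))) tvec1 = true := by decide +kernel
theorem chkQA_f_3 : movesPM (relQ false 3 0 0 (rels6.getD 1 ([], 0))) tvec1 = true := by decide +kernel
theorem chkQA_f_4 : movesPM (relQ false 4 0 0 (rels6.getD 1 ([], 0))) tvec1 = true := by decide +kernel
theorem chkQA_f_5 : movesPM (relQ false 5 0 0 (rels6.getD 2 ([], 0))) tvec1 = true := by decide +kernel
theorem chkQA_f_6 : movesPM (relQ false 6 0 0 (rels6.getD 1 ([], 0))) tvec1 = true := by decide +kernel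
theorem chkQA_f_7 : movesPM (relQ false 7 0 0 (rels6.getD 2 ([], 0))) tvec1 = true := by decide +kernel
theorem chkQA_f_8 : movesPM (relQ false 8 0 0 (rels6.getD 1 ([], 0))) tvec1 = true := by decide +kernel
theorem chkQA_f_9 : movesPM (relQ false 9 0 0 (rels6.getD 1 ([], 0))) tvec1 = true := by decide +kernel
theorem chkQA_f_10 : movesPM (relQ false 10 0 0 (rels6.getD 1 ([], 0))) tvec1 = true := by decide +kernel
theorem chkQA_f_11 : movesPM (relQ false 11 0 0 (rels6.getD 0 ([], 0))) tvec1 = true := by decide +kernel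
theorem chkQA_f_12 : movesPM (relQ false 12 0 0 (rels6.getD 0 ([], 0))) tvec1 = true := by decide +kernel
theorem chkQA_f_13 : movesPM (relQ false 13 0 0 (rels6.getD 0 ([], 0))) tvec1 = true := by decide +kernel
theorem chkQA_f_14 : movesPM (relQ false 14 0 0 (rels6.getD 0 ([], 0))) tvec1 = true := by decide +kernel
theorem chkQA_f_15 : movesPM (relQ false 15 0 0 (rels6.getD 0 ([], 0))) tvec1 = true := by decide +kernel
theorem chkQA_f_16 : movesPM (relQ false 16 0 0 (rels6.getD 0 ([], 0))) tvec1 = true := by decide +kernel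
theorem chkQA_f_17 : movesPM (relQ false 17 0 0 (rels6.getD 0 ([], 0))) tvec1 = true := by decide +kernel
theorem chkQA_f_18 : movesPM (relQ false 18 0 0 (rels6.getD 0 ([], 0))) tvec1 = true := by decide +kernel
theorem chkQA_f_19 : movesPM (relQ false 19 0 0 (rels6.getD 0 ([], 0))) tvec1 = true := by decide +kernel
theorem chkQA_f_20 : movesPM (relQ false 20 0 0 (rels6.getD 0 ([], 0))) tvec1 = true := by decide +kernel
theorem chkQA_f_21 : movesPM (relQ false 21 0 0 (rels6.getD 0 ([], 0))) tvec1 = true := by decide +kernel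
theorem chkQA_f_22 : movesPM (relQ false 22 0 0 (rels6.getD 0 ([], 0))) tvec1 = true := by decide +kernel
theorem chkQA_f_23 : movesPM (relQ false 23 0 0 (rels6.getD 0 ([], 0))) tvec1 = true := by decide +kernel
theorem chkQA_f_24 : movesPM (relQ false 24 0 0 (rels6.getD 0 ([], 0))) tvec1 = true := by decide +kernel
theorem chkQA_f_25 : movesPM (relQ false 25 0 0 (rels6.getD 0 ([], 0))) tvec1 = true := by decide +kernel
theorem chkQA_f_26 : movesPM (relQ false 26 0 0 (rels6.getD 0 ([], 0))) tvec1 = true := by decide +kernel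
theorem chkQA_f_27 : movesPM (relQ false 27 0 0 (rels6.getD 0 ([], 0))) tvec1 = true := by decide +kernel
theorem chkQA_f_28 : movesPM (relQ false 28 0 0 (rels6.getD 0 ([], 0))) tvec1 = true := by decide +kernel
theorem chkQA_f_29 : movesPM (relQ false 29 0 0 (rels6.getD 0 ([], 0))) tvec1 = true := by decide +kernel
theorem chkQA_f_30 : movesPM (relQ false 30 0 0 (rels6.getD 0 ([], 0))) tvec1 = true := by decide +kernel
theorem chkQA_f_31 : movesPM (relQ false 31 0 0 (rels6.getD 0 ([], 0))) tvec1 = true := by decide +kernel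
theorem chkQA_f_32 : movesPM (relQ false 32 0 0 (rels6.getD 0 ([], 0))) tvec1 = true := by decide +kernel
theorem chkQA_f_33 : movesPM (relQ false 33 0 0 (rels6.getD 0 ([], 0))) tvec1 = true := by decide +kernel
theorem chkQA_f_34 : movesPM (relQ false 34 0 0 (rels6.getD 0 ([], 0))) tvec1 = true := by decide +kernel
theorem chkQA_f_35 : movesPM (relQ false 35 0 0 (rels6.getD 0 ([], 0))) tvec1 = true := by decide +kernel
theorem chkQA_f_36 : movesPM (relQ false 36 0 0 (rels6.getD 0 ([], 0))) tvec1 = true := by decide +kernel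
theorem chkQA_f_37 : movesPM (relQ false 37 0 0 (rels6.getD 0 ([], 0))) tvec1 = true := by decide +kernel
theorem chkQA_f_38 : movesPM (relQ false 38 0 0 (rels6.getD 0 ([], 0))) tvec1 = true := by decide +kernel
theorem chkQA_f_39 : movesPM (relQ false 39 0 0 (rels6.getD 0 ([], 0))) tvec1 = true := by decide +kernel
theorem chkQA_f_40 : movesPM (relQ false 40 0 0 (rels6.getD 0 ([], 0))) tvec1 = true := by decide +kernel
theorem chkQA_f_41 : movesPM (relQ false 41 0 0 (rels6.getD 0 ([], 0))) tvec1 = true := by decide +kernel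
theorem chkQA_f_42 : movesPM (relQ false 42 0 0 (rels6.getD 0 ([], 0))) tvec1 = true := by decide +kernel
theorem chkQA_f_43 : movesPM (relQ false 43 0 0 (rels6.getD 0 ([], 0))) tvec1 = true := by decide +kernel

end Co1Out

end Cfsg.Agent.Lib.H27
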