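/-
helper27 library: relator checks for the automorphisms of `Co1` (generated by scripts/gen_co1chk.py), part 2.
-/
import Mathlib
import Cfsg.Agent.Lib.H27.Co1Rel

set_option autoImplicit false

namespace Cfsg.Agent.Lib.H27

open Cfsg MulAction Cfsg.Agent.Lib.H28 Cfsg.Agent.Lib.H27.Eng

namespace Co1Out

open Co3GenData Co2OutData Co1OutData OutM Co3Out Co2Out AutRigid

theorem chkQA_f_44 : movesPM (relQ false 44 0 0 (rels6.getD 0 ([], 0))) tvec1 = true := by decide +kernel
theorem chkQA_f_45 : movesPM (relQ false 45 0 0 (rels6.getD 0 ([], 0))) tvec1 = true := by decide +kernel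
theorem chkQA_f_46 : movesPM (relQ false 46 0 0 (rels6.getD 0 ([], 0))) tvec1 = true := by decide +kernel
theorem chkQA_f_47 : movesPM (relQ false 47 0 0 (rels6.getD 0 ([], 0))) tvec1 = true := by decide +kernel
theorem chkQA_f_48 : movesPM (relQ false 48 0 0 (rels6.getD 0 ([], 0))) tvec1 = true := by decide +kernel
theorem chkQA_f_49 : movesPM (relQ false 49 0 0 (rels6.getD 0 ([], 0))) tvec1 = true := by decide +kernel
theorem chkQA_f_50 : movesPM (relQ false 50 0 0 (rels6.getD 0 ([], 0))) tvec1 = true := by decide +kernel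
theorem chkQA_f_51 : movesPM (relQ false 51 0 0 (rels6.getD 0 ([], 0))) tvec1 = true := by decide +kernel
theorem chkQA_f_52 : movesPM (relQ false 52 0 0 (rels6.getD 0 ([], 0))) tvec1 = true := by decide +kernel
theorem chkQA_f_53 : movesPM (relQ false 53 0 0 (rels6.getD 0 ([], 0))) tvec1 = true := by decide +kernel
theorem chkQA_f_54 : movesPM (relQ false 54 0 0 (rels6.getD 0 ([], 0))) tvec1 = true := by decide +kernel
theorem chkQA_f_55 : movesPM (relQ false 55 0 0 (rels6.getD 0 ([], 0))) tvec1 = true := by decide +kernel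
theorem chkQA_f_56 : movesPM (relQ false 56 0 0 (rels6.getD 0 ([], 0))) tvec1 = true := by decide +kernel
theorem chkQA_f_57 : movesPM (relQ false 57 0 0 (rels6.getD 0 ([], 0))) tvec1 = true := by decide +kernel
theorem chkQA_f_58 : movesPM (relQ false 58 0 0 (rels6.getD 0 ([], 0))) tvec1 = true := by decide +kernel
theorem chkQA_f_59 : movesPM (relQ false 59 0 0 (rels6.getD 0 ([], 0))) tvec1 = true := by decide +kernel
theorem chkQA_f_60 : movesPM (relQ false 60 0 0 (rels6.getD 0 ([], 0))) tvec1 = true := by decide +kernel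
theorem chkQA_f_61 : movesPM (relQ false 61 0 0 (rels6.getD 0 ([], 0))) tvec1 = true := by decide +kernel
theorem chkQA_f_62 : movesPM (relQ false 62 0 0 (rels6.getD 0 ([], 0))) tvec1 = true := by decide +kernel
theorem chkQA_f_63 : movesPM (relQ false 63 0 0 (rels6.getD 0 ([], 0))) tvec1 = true := by decide +kernel
theorem chkQA_f_64 : movesPM (relQ false 64 0 0 (rels6.getD 0 ([], 0))) tvec1 = true := by decide +kernel
theorem chkQA_f_65 : movesPM (relQ false 65 0 0 (rels6.getD 0 ([], 0))) tvec1 = true := by decide +kernel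
theorem chkQB_1 : movesPM (relQ true 0 1 0 (rels6.getD 4 ([], 0))) tvec1 = true := by decide +kernel
theorem chkQB_2 : movesPM (relQ true 0 2 0 (rels6.getD 4 ([], 0))) tvec1 = true := by decide +kernel
theorem chkQB_3 : movesPM (relQ true 0 3 0 (rels6.getD 4 ([], 0))) tvec1 = true := by decide +kernel
theorem chkQB_4 : movesPM (relQ true 0 4 0 (rels6.getD 4 ([], 0))) tvec1 = true := by decide +kernel
theorem chkQB_5 : movesPM (relQ true 0 5 0 (rels6.getD 4 ([], 0))) tvec1 = true := by decide +kernel
theorem chkQB_6 : movesPM (relQ true 0 6 0 (rels6.getD 4 ([], 0))) tvec1 = true := by decide +kernel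
theorem chkQB_7 : movesPM (relQ true 0 7 0 (rels6.getD 4 ([], 0))) tvec1 = true := by decide +kernel
theorem chkQB_8 : movesPM (relQ true 0 8 0 (rels6.getD 4 ([], 0))) tvec1 = true := by decide +kernel
theorem chkQB_9 : movesPM (relQ true 0 9 0 (rels6.getD 4 ([], 0))) tvec1 = true := by decide +kernel
theorem chkQB_10 : movesPM (relQ true 0 10 0 (rels6.getD 4 ([], 0))) tvec1 = true := by decide +kernel
theorem chkQB_11 : movesPM (relQ true 0 11 0 (rels6.getD 3 ([], 0))) tvec1 = true := by decide +kernel

end Co1Out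

end Cfsg.Agent.Lib.H27
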