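/-
helper27 library: relator checks for the automorphisms of `Co1` (generated by scripts/gen_co1chk.py), part 3.
-/
import Mathlib
import Cfsg.Agent.Lib.H27.Co1Rel

set_option autoImplicit false

namespace Cfsg.Agent.Lib.H27

open Cfsg MulAction Cfsg.Agent.Lib.H28 Cfsg.Agent.Lib.H27.Eng

namespace Co1Out

open Co3GenData Co2OutData Co1OutData OutM Co3Out Co2Out AutRigid

theorem chkQB_12 : movesPM (relQ true 0 12 0 (rels6.getD 3 ([], 0))) tvec1 = true := by decide +kernel
theorem chkQB_13 : movesPM (relQ true 0 13 0 (rels6.getD 3 ([], 0))) tvec1 = true := by decide +kernel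
theorem chkQB_14 : movesPM (relQ true 0 14 0 (rels6.getD 3 ([], 0))) tvec1 = true := by decide +kernel
theorem chkQB_15 : movesPM (relQ true 0 15 0 (rels6.getD 3 ([], 0))) tvec1 = true := by decide +kernel
theorem chkQB_16 : movesPM (relQ true 0 16 0 (rels6.getD 3 ([], 0))) tvec1 = true := by decide +kernel
theorem chkQB_17 : movesPM (relQ true 0 17 0 (rels6.getD 3 ([], 0))) tvec1 = true := by decide +kernel
theorem chkQB_18 : movesPM (relQ true 0 18 0 (rels6.getD 3 ([], 0))) tvec1 = true := by decide +kernel
theorem chkQB_19 : movesPM (relQ true 0 19 0 (rels6.getD 3 ([], 0))) tvec1 = true := by decide +kernel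
theorem chkQB_20 : movesPM (relQ true 0 20 0 (rels6.getD 3 ([], 0))) tvec1 = true := by decide +kernel
theorem chkQB_21 : movesPM (relQ true 0 21 0 (rels6.getD 3 ([], 0))) tvec1 = true := by decide +kernel
theorem chkQB_22 : movesPM (relQ true 0 22 0 (rels6.getD 4 ([], 0))) tvec1 = true := by decide +kernel
theorem chkQB_23 : movesPM (relQ true 0 23 0 (rels6.getD 4 ([], 0))) tvec1 = true := by decide +kernel
theorem chkQB_24 : movesPM (relQ true 0 24 0 (rels6.getD 4 ([], 0))) tvec1 = true := by decide +kernel
theorem chkQB_25 : movesPM (relQ true 0 25 0 (rels6.getD 4 ([], 0))) tvec1 = true := by decide +kernel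
theorem chkQB_26 : movesPM (relQ true 0 26 0 (rels6.getD 4 ([], 0))) tvec1 = true := by decide +kernel
theorem chkQB_27 : movesPM (relQ true 0 27 0 (rels6.getD 4 ([], 0))) tvec1 = true := by decide +kernel
theorem chkQB_28 : movesPM (relQ true 0 28 0 (rels6.getD 4 ([], 0))) tvec1 = true := by decide +kernel
theorem chkQB_29 : movesPM (relQ true 0 29 0 (rels6.getD 4 ([], 0))) tvec1 = true := by decide +kernel
theorem chkQB_30 : movesPM (relQ true 0 30 0 (rels6.getD 4 ([], 0))) tvec1 = true := by decide +kernel
theorem chkQB_31 : movesPM (relQ true 0 31 0 (rels6.getD 4 ([], 0))) tvec1 = true := by decide +kernel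
theorem chkQB_32 : movesPM (relQ true 0 32 0 (rels6.getD 4 ([], 0))) tvec1 = true := by decide +kernel
theorem chkQB_33 : movesPM (relQ true 0 33 0 (rels6.getD 4 ([], 0))) tvec1 = true := by decide +kernel
theorem chkQB_34 : movesPM (relQ true 0 34 0 (rels6.getD 4 ([], 0))) tvec1 = true := by decide +kernel

end Co1Out

end Cfsg.Agent.Lib.H27
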