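/-
helper27 library: relator checks for the automorphisms of `Co1` (generated by scripts/gen_co1chk.py), part 4.
-/
import Mathlib
import Cfsg.Agent.Lib.H27.Co1Rel

set_option autoImplicit false

namespace Cfsg.Agent.Lib.H27

open Cfsg MulAction Cfsg.Agent.Lib.H28 Cfsg.Agent.Lib.H27.Eng

namespace Co1Out

open Co3GenData Co2OutData Co1OutData OutM Co3Out Co2Out AutRigid

theorem chkQB_35 : movesPM (relQ true 0 35 0 (rels6.getD 4 ([], 0))) tvec1 = true := by decide +kernel
theorem chkQB_36 : movesPM (relQ true 0 36 0 (rels6.getD 4 ([], 0))) tvec1 = true := by decide +kernel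
theorem chkQB_37 : movesPM (relQ true 0 37 0 (rels6.getD 4 ([], 0))) tvec1 = true := by decide +kernel
theorem chkQB_38 : movesPM (relQ true 0 38 0 (rels6.getD 4 ([], 0))) tvec1 = true := by decide +kernel
theorem chkQB_39 : movesPM (relQ true 0 39 0 (rels6.getD 4 ([], 0))) tvec1 = true := by decide +kernel
theorem chkQB_40 : movesPM (relQ true 0 40 0 (rels6.getD 4 ([], 0))) tvec1 = true := by decide +kernel
theorem chkQB_41 : movesPM (relQ true 0 41 0 (rels6.getD 4 ([], 0))) tvec1 = true := by decide +kernel
theorem chkQB_42 : movesPM (relQ true 0 42 0 (rels6.getD 4 ([], 0))) tvec1 = true := by decide +kernel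
theorem chkQB_43 : movesPM (relQ true 0 43 0 (rels6.getD 4 ([], 0))) tvec1 = true := by decide +kernel
theorem chkQB_44 : movesPM (relQ true 0 44 0 (rels6.getD 4 ([], 0))) tvec1 = true := by decide +kernel
theorem chkQB_45 : movesPM (relQ true 0 45 0 (rels6.getD 4 ([], 0))) tvec1 = true := by decide +kernel
theorem chkQB_46 : movesPM (relQ true 0 46 0 (rels6.getD 4 ([], 0))) tvec1 = true := by decide +kernel
theorem chkQB_47 : movesPM (relQ true 0 47 0 (rels6.getD 4 ([], 0))) tvec1 = true := by decide +kernel
theorem chkQB_48 : movesPM (relQ true 0 48 0 (rels6.getD 4 ([], 0))) tvec1 = true := by decide +kernel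
theorem chkQB_49 : movesPM (relQ true 0 49 0 (rels6.getD 4 ([], 0))) tvec1 = true := by decide +kernel

end Co1Out

end Cfsg.Agent.Lib.H27
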