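/-
helper27 library: relator checks for the automorphisms of `Co1` (generated by scripts/gen_co1chk.py), part 5.
-/
import Mathlib
import Cfsg.Agent.Lib.H27.Co1Rel

set_option autoImplicit false

namespace Cfsg.Agent.Lib.H27

open Cfsg MulAction Cfsg.Agent.Lib.H28 Cfsg.Agent.Lib.H27.Eng

namespace Co1Out

open Co3GenData Co2OutData Co1OutData OutM Co3Out Co2Out AutRigid

theorem chkQB_50 : movesPM (relQ true 0 50 0 (rels6.getD 4 ([], 0))) tvec1 = true := by decide +kernel
theorem chkQB_51 : movesPM (relQ true 0 51 0 (rels6.getD 4 ([], 0))) tvec1 = true := by decide +kernel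
theorem chkQB_52 : movesPM (relQ true 0 52 0 (rels6.getD 4 ([], 0))) tvec1 = true := by decide +kernel
theorem chkQB_53 : movesPM (relQ true 0 53 0 (rels6.getD 4 ([], 0))) tvec1 = true := by decide +kernel
theorem chkQB_54 : movesPM (relQ true 0 54 0 (rels6.getD 4 ([], 0))) tvec1 = true := by decide +kernel
theorem chkQB_55 : movesPM (relQ true 0 55 0 (rels6.getD 3 ([], 0))) tvec1 = true := by decide +kernel
theorem chkQB_56 : movesPM (relQ true 0 56 0 (rels6.getD 3 ([], 0))) tvec1 = true := by decide +kernel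
theorem chkQB_57 : movesPM (relQ true 0 57 0 (rels6.getD 3 ([], 0))) tvec1 = true := by decide +kernel
theorem chkQB_58 : movesPM (relQ true 0 58 0 (rels6.getD 3 ([], 0))) tvec1 = true := by decide +kernel
theorem chkQB_59 : movesPM (relQ true 0 59 0 (rels6.getD 3 ([], 0))) tvec1 = true := by decide +kernel
theorem chkQB_60 : movesPM (relQ true 0 60 0 (rels6.getD 3 ([], 0))) tvec1 = true := by decide +kernel
theorem chkQB_61 : movesPM (relQ true 0 61 0 (rels6.getD 3 ([], 0))) tvec1 = true := by decide +kernel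
theorem chkQB_62 : movesPM (relQ true 0 62 0 (rels6.getD 3 ([], 0))) tvec1 = true := by decide +kernel
theorem chkQB_63 : movesPM (relQ true 0 63 0 (rels6.getD 3 ([], 0))) tvec1 = true := by decide +kernel
theorem chkQB_64 : movesPM (relQ true 0 64 0 (rels6.getD 3 ([], 0))) tvec1 = true := by decide +kernel
theorem chkQB_65 : movesPM (relQ true 0 65 0 (rels6.getD 3 ([], 0))) tvec1 = true := by decide +kernel
theorem chkQC_1 : movesPM (relQ true 0 0 1 (rels6.getD 5 ([], 0))) tvec1 = true := by decide +kernel
theorem chkQC_2 : movesPM (relQ true 0 0 2 (rels6.getD 5 ([], 0))) tvec1 = true := by decide +kernel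
theorem chkQC_3 : movesPM (relQ true 0 0 3 (rels6.getD 5 ([], 0))) tvec1 = true := by decide +kernel
theorem chkQC_4 : movesPM (relQ true 0 0 4 (rels6.getD 5 ([], 0))) tvec1 = true := by decide +kernel
theorem chkQC_5 : movesPM (relQ true 0 0 5 (rels6.getD 5 ([], 0))) tvec1 = true := by decide +kernel
theorem chkQC_6 : movesPM (relQ true 0 0 6 (rels6.getD 5 ([], 0))) tvec1 = true := by decide +kernel
theorem chkQC_7 : movesPM (relQ true 0 0 7 (rels6.getD 5 ([], 0))) tvec1 = true := by decide +kernel
theorem chkQC_8 : movesPM (relQ true 0 0 8 (rels6.getD 5 ([], 0))) tvec1 = true := by decide +kernel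
theorem chkQC_9 : movesPM (relQ true 0 0 9 (rels6.getD 5 ([], 0))) tvec1 = true := by decide +kernel
theorem chkQC_10 : movesPM (relQ true 0 0 10 (rels6.getD 5 ([], 0))) tvec1 = true := by decide +kernel
theorem chkQC_12 : movesPM (relQ true 0 0 12 (rels6.getD 5 ([], 0))) tvec1 = true := by decide +kernel
theorem chkQC_13 : movesPM (relQ true 0 0 13 (rels6.getD 5 ([], 0))) tvec1 = true := by decide +kernel
theorem chkQC_14 : movesPM (relQ true 0 0 14 (rels6.getD 5 ([], 0))) tvec1 = true := by decide +kernel
theorem chkQC_15 : movesPM (relQ true 0 0 15 (rels6.getD 5 ([], 0))) tvec1 = true := by decide +kernel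
theorem chkQC_16 : movesPM (relQ true 0 0 16 (rels6.getD 5 ([], 0))) tvec1 = true := by decide +kernel
theorem chkQC_17 : movesPM (relQ true 0 0 17 (rels6.getD 5 ([], 0))) tvec1 = true := by decide +kernel
theorem chkQC_18 : movesPM (relQ true 0 0 18 (rels6.getD 5 ([], 0))) tvec1 = true := by decide +kernel
theorem chkQC_19 : movesPM (relQ true 0 0 19 (rels6.getD 5 ([], 0))) tvec1 = true := by decide +kernel
theorem chkQC_20 : movesPM (relQ true 0 0 20 (rels6.getD 5 ([], 0))) tvec1 = true := by decide +kernel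
theorem chkQC_21 : movesPM (relQ true 0 0 21 (rels6.getD 5 ([], 0))) tvec1 = true := by decide +kernel
theorem chkQC_22 : movesPM (relQ true 0 0 22 (rels6.getD 5 ([], 0))) tvec1 = true := by decide +kernel
theorem chkQC_23 : movesPM (relQ true 0 0 23 (rels6.getD 5 ([], 0))) tvec1 = true := by decide +kernel
theorem chkQC_24 : movesPM (relQ true 0 0 24 (rels6.getD 5 ([], 0))) tvec1 = true := by decide +kernel
theorem chkQC_25 : movesPM (relQ true 0 0 25 (rels6.getD 5 ([], 0))) tvec1 = true := by decide +kernel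
theorem chkQC_26 : movesPM (relQ true 0 0 26 (rels6.getD 5 ([], 0))) tvec1 = true := by decide +kernel
theorem chkQC_27 : movesPM (relQ true 0 0 27 (rels6.getD 5 ([], 0))) tvec1 = true := by decide +kernel
theorem chkQC_28 : movesPM (relQ true 0 0 28 (rels6.getD 5 ([], 0))) tvec1 = true := by decide +kernel

end Co1Out

end Cfsg.Agent.Lib.H27
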