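/-
helper27 library: relator checks for the automorphisms of `Co1` (generated by scripts/gen_co1chk.py), part 6.
-/
import Mathlib
import Cfsg.Agent.Lib.H27.Co1Rel

set_option autoImplicit false

namespace Cfsg.Agent.Lib.H27

open Cfsg MulAction Cfsg.Agent.Lib.H28 Cfsg.Agent.Lib.H27.Eng

namespace Co1Out

open Co3GenData Co2OutData Co1OutData OutM Co3Out Co2Out AutRigid

theorem chkQC_29 : movesPM (relQ true 0 0 29 (rels6.getD 5 ([], 0))) tvec1 = true := by decide +kernel
theorem chkQC_30 : movesPM (relQ true 0 0 30 (rels6.getD 5 ([], 0))) tvec1 = true := by decide +kernel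
theorem chkQC_31 : movesPM (relQ true 0 0 31 (rels6.getD 5 ([], 0))) tvec1 = true := by decide +kernel
theorem chkQC_32 : movesPM (relQ true 0 0 32 (rels6.getD 5 ([], 0))) tvec1 = true := by decide +kernel
theorem chkQC_33 : movesPM (relQ true 0 0 33 (rels6.getD 5 ([], 0))) tvec1 = true := by decide +kernel
theorem chkQC_34 : movesPM (relQ true 0 0 34 (rels6.getD 5 ([], 0))) tvec1 = true := by decide +kernel
theorem chkQC_35 : movesPM (relQ true 0 0 35 (rels6.getD 5 ([], 0))) tvec1 = true := by decide +kernel
theorem chkQC_36 : movesPM (relQ true 0 0 36 (rels6.getD 5 ([], 0))) tvec1 = true := by decide +kernel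
theorem chkQC_37 : movesPM (relQ true 0 0 37 (rels6.getD 5 ([], 0))) tvec1 = true := by decide +kernel
theorem chkQC_38 : movesPM (relQ true 0 0 38 (rels6.getD 5 ([], 0))) tvec1 = true := by decide +kernel
theorem chkQC_39 : movesPM (relQ true 0 0 39 (rels6.getD 5 ([], 0))) tvec1 = true := by decide +kernel
theorem chkQC_40 : movesPM (relQ true 0 0 40 (rels6.getD 5 ([], 0))) tvec1 = true := by decide +kernel
theorem chkQC_41 : movesPM (relQ true 0 0 41 (rels6.getD 5 ([], 0))) tvec1 = true := by decide +kernel
theorem chkQC_42 : movesPM (relQ true 0 0 42 (rels6.getD 5 ([], 0))) tvec1 = true := by decide +kernel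
theorem chkQC_43 : movesPM (relQ true 0 0 43 (rels6.getD 5 ([], 0))) tvec1 = true := by decide +kernel
theorem chkQC_44 : movesPM (relQ true 0 0 44 (rels6.getD 5 ([], 0))) tvec1 = true := by decide +kernel
theorem chkQC_45 : movesPM (relQ true 0 0 45 (rels6.getD 5 ([], 0))) tvec1 = true := by decide +kernel
theorem chkQC_46 : movesPM (relQ true 0 0 46 (rels6.getD 5 ([], 0))) tvec1 = true := by decide +kernel
theorem chkQC_47 : movesPM (relQ true 0 0 47 (rels6.getD 5 ([], 0))) tvec1 = true := by decide +kernel
theorem chkQC_48 : movesPM (relQ true 0 0 48 (rels6.getD 5 ([], 0))) tvec1 = true := by decide +kernel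
theorem chkQC_49 : movesPM (relQ true 0 0 49 (rels6.getD 5 ([], 0))) tvec1 = true := by decide +kernel
theorem chkQC_50 : movesPM (relQ true 0 0 50 (rels6.getD 5 ([], 0))) tvec1 = true := by decide +kernel
theorem chkQC_51 : movesPM (relQ true 0 0 51 (rels6.getD 5 ([], 0))) tvec1 = true := by decide +kernel
theorem chkQC_52 : movesPM (relQ true 0 0 52 (rels6.getD 5 ([], 0))) tvec1 = true := by decide +kernel
theorem chkQC_53 : movesPM (relQ true 0 0 53 (rels6.getD 5 ([], 0))) tvec1 = true := by decide +kernel
theorem chkQC_54 : movesPM (relQ true 0 0 54 (rels6.getD 5 ([], 0))) tvec1 = true := by decide +kernel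
theorem chkQC_55 : movesPM (relQ true 0 0 55 (rels6.getD 5 ([], 0))) tvec1 = true := by decide +kernel
theorem chkQC_56 : movesPM (relQ true 0 0 56 (rels6.getD 5 ([], 0))) tvec1 = true := by decide +kernel
theorem chkQC_57 : movesPM (relQ true 0 0 57 (rels6.getD 5 ([], 0))) tvec1 = true := by decide +kernel
theorem chkQC_58 : movesPM (relQ true 0 0 58 (rels6.getD 5 ([], 0))) tvec1 = true := by decide +kernel

end Co1Out

end Cfsg.Agent.Lib.H27
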