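/-
helper27 library: relator checks for the automorphisms of `Co1` (generated by scripts/gen_co1chk.py), the relators themselves.
-/
import Mathlib
import Cfsg.Agent.Lib.H27.Co1Rel

set_option autoImplicit false

namespace Cfsg.Agent.Lib.H27

open Cfsg MulAction Cfsg.Agent.Lib.H28 Cfsg.Agent.Lib.H27.Eng

namespace Co1Out

open Co3GenData Co2OutData Co1OutData OutM Co3Out Co2Out AutRigid

theorem chkQ0_0 : wordIsOneF (relQ true 0 0 0 (rels6.getD 0 ([], 0))) = true := by decide +kernel
theorem chkQ0_3 : wordIsOneF (relQ true 0 0 0 (rels6.getD 3 ([], 0))) = true := by decide +kernel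
theorem chkQ0_5 : wordIsOneF (relQ true 0 0 0 (rels6.getD 5 ([], 0))) = true := by decide +kernel

end Co1Out

end Cfsg.Agent.Lib.H27
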