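/-
helper27 library: `Co0` is generated by `-1`, the generators `s`, `d`, `u`, `h` of `Co2` (the stabilizer of
`R = (3; -1^23)`) and the sign change `e` on a dodecad.  The subgroup they generate contains the stabilizer of `R`
and moves `R` to vectors with all possible inner products with `R`; the stabilizer of `R` is transitive on the
minimal vectors with a given inner product with `R`.
-/
import Mathlib
import Cfsg.Prelude.Def_Spor_Conway
import Cfsg.Agent.Lib.H27.Co2OutGen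
import Cfsg.Agent.Lib.H27.Co1Cent2
import Cfsg.Agent.Lib.H27.Co0Pairs2
import Cfsg.Agent.Lib.H27.LeechDesign

set_option autoImplicit false

namespace Cfsg.Agent.Lib.H27

open Cfsg MulAction Cfsg.Agent.Lib.H28 Cfsg.Agent.Lib.H27.Eng

namespace Co1Out

open Co3GenData Co2OutData Co1OutData OutM Co3Out Co2Out AutRigid

/-- The subgroup generated by `s`, `d`, `u`, `h`, `e` and `-1`. -/
noncomputable def K6 : Subgroup Co0 :=
  Subgroup.closure {wordCo0 wS, wordCo0 wD, wordCo0 wU, wordCo0 wH, wordCo0 wE, negCo0}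

theorem C2_le_K6 : C2 ≤ K6 := by
  rw [← K4A_eq]
  unfold K4A K6
  apply Subgroup.closure_mono
  intro x hx
  simp only [Set.mem_insert_iff, Set.mem_singleton_iff] at hx ⊢
  tauto

theorem wS_K6 : wordCo0 wS ∈ K6 := Subgroup.subset_closure (by simp)
theorem wH_K6 : wordCo0 wH ∈ K6 := Subgroup.subset_closure (by simp)
theorem wE_K6 : wordCo0 wE ∈ K6 := Subgroup.subset_closure (by simp)
theorem neg_K6 : negCo0 ∈ K6 := Subgroup.subset_closure (by simp)

/-- The words of elements mapping `R` to vectors with inner products `8`, `16`, `0` with `R`. -/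
def w8 : List Gen := wE
def w16 : List Gen := wmul wE (wmul wH wE)
def w0 : List Gen := wmul wE (wmul wS (wmul wH (wmul wS wE)))

theorem w8_ok : w8.all Gen.ok = true := wE_ok
theorem w16_ok : w16.all Gen.ok = true := wmul_ok wE_ok (wmul_ok wH_ok wE_ok)
theorem w0_ok : w0.all Gen.ok = true :=
  wmul_ok wE_ok (wmul_ok wS_ok (wmul_ok wH_ok (wmul_ok wS_ok wE_ok)))

theorem w8_K6 : wordCo0 w8 ∈ K6 := wE_K6

theorem w16_K6 : wordCo0 w16 ∈ K6 := by
  unfold w16
  rw [wordCo0_wmul, wordCo0_wmul]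
  exact K6.mul_mem wE_K6 (K6.mul_mem wH_K6 wE_K6)

theorem w0_K6 : wordCo0 w0 ∈ K6 := by
  unfold w0
  rw [wordCo0_wmul, wordCo0_wmul, wordCo0_wmul, wordCo0_wmul]
  exact K6.mul_mem wE_K6 (K6.mul_mem wS_K6 (K6.mul_mem wH_K6 (K6.mul_mem wS_K6 wE_K6)))

/-- The inner product of `R` and its image under a word. -/
theorem dot_R_word {w : List Gen} (hw : w.all Gen.ok = true) {t : ℤ} (h : dotL vroot (actWord w vroot) = t) :
    dotInt ((RL : leechLattice) : GolayPt → ℤ) ((wordCo0 w • RL : leechLattice) : GolayPt → ℤ) = t := by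
  have h1 := actWord_spec w hw vroot vroot_L
  rw [dotL_spec, h1] at h
  exact h

theorem dot_w8 : dotInt ((RL : leechLattice) : GolayPt → ℤ) ((wordCo0 w8 • RL : leechLattice) : GolayPt → ℤ) = 8 :=
  dot_R_word w8_ok (by decide +kernel)

theorem dot_w16 :
    dotInt ((RL : leechLattice) : GolayPt → ℤ) ((wordCo0 w16 • RL : leechLattice) : GolayPt → ℤ) = 16 :=
  dot_R_word w16_ok (by decide +kernel)

theorem dot_w0 : dotInt ((RL : leechLattice) : GolayPt → ℤ) ((wordCo0 w0 • RL : leechLattice) : GolayPt → ℤ) = 0 :=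
  dot_R_word w0_ok (by decide +kernel)

theorem coe_neg_L (y : leechLattice) : ((-y : leechLattice) : GolayPt → ℤ) = -(y : GolayPt → ℤ) := rfl

theorem dot_neg_r (a b : GolayPt → ℤ) : dotInt a (-b) = -dotInt a b := by
  unfold dotInt
  rw [← Finset.sum_neg_distrib]
  apply Finset.sum_congr rfl
  intro i _
  simp

theorem sqNorm_neg_L (y : leechLattice) :
    sqNorm ((-y : leechLattice) : GolayPt → ℤ) = sqNorm (y : GolayPt → ℤ) := by
  rw [coe_neg_L, sqNorm_neg']

theorem neg_smul_L (y : leechLattice) : negCo0 • y = -y := by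
  apply Subtype.ext
  rw [negCo0_smul]
  rfl

/-- A minimal vector with inner product `-32` with `R` is `-R`. -/
theorem eq_neg_of_dot {v z : leechLattice} (hv : sqNorm (v : GolayPt → ℤ) = 32)
    (hz : sqNorm (z : GolayPt → ℤ) = 32) (hd : dotInt (v : GolayPt → ℤ) (z : GolayPt → ℤ) = -32) : z = -v := by
  have h2 := sqNorm_add' (v : GolayPt → ℤ) (z : GolayPt → ℤ)
  rw [hv, hz, hd] at h2
  have h3 := sqNorm_eq_zero (x := (v : GolayPt → ℤ) + (z : GolayPt → ℤ)) (by omega)
  apply Subtype.ext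
  rw [coe_neg_L]
  exact eq_neg_of_add_eq_zero_right h3

/-- The subgroup is transitive on the minimal vectors. -/
theorem orbit_K6 (y : leechLattice) (hy : sqNorm (y : GolayPt → ℤ) = 32) : ∃ k ∈ K6, k • RL = y := by
  have hR : ((RL : leechLattice) : GolayPt → ℤ) ∈ MinF := mem_MinF.2 ⟨RL.2, sqNorm_RL⟩
  -- negative inner products
  have neg_case : ∀ (w : List Gen) (t : ℤ), wordCo0 w ∈ K6 → (t = 16 ∨ t = 8) →
      dotInt ((RL : leechLattice) : GolayPt → ℤ) ((wordCo0 w • RL : leechLattice) : GolayPt → ℤ) = t →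
      ∀ y' : leechLattice, sqNorm (y' : GolayPt → ℤ) = 32 →
      dotInt ((RL : leechLattice) : GolayPt → ℤ) (y' : GolayPt → ℤ) = -t → ∃ k ∈ K6, k • RL = y' := by
    intro w t hw ht hd y' hy' hd'
    have hn : sqNorm ((-(wordCo0 w • RL) : leechLattice) : GolayPt → ℤ) = 32 := by
      rw [sqNorm_neg_L, Co0_sqNorm, sqNorm_RL]
    have hd2 : dotInt ((RL : leechLattice) : GolayPt → ℤ)
        ((-(wordCo0 w • RL) : leechLattice) : GolayPt → ℤ) = -t := by
      rw [coe_neg_L, dot_neg_r, hd]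
    have ht' : -t = -16 ∨ -t = -8 := by
      rcases ht with rfl | rfl
      · left; rfl
      · right; rfl
    obtain ⟨g, hg1, hg2⟩ := trans_pairs RL (-(wordCo0 w • RL)) y' sqNorm_RL hn hy' ht' hd2 hd'
    refine ⟨g * (negCo0 * wordCo0 w), ?_, ?_⟩
    · exact K6.mul_mem (C2_le_K6 (mem_stabilizer_iff.2 hg1)) (K6.mul_mem neg_K6 hw)
    · rw [mul_smul, mul_smul, neg_smul_L, hg2]
  have pos_case : ∀ (w : List Gen) (t : ℤ), wordCo0 w ∈ K6 → (t = 16 ∨ t = 8) →
      dotInt ((RL : leechLattice) : GolayPt → ℤ) ((wordCo0 w • RL : leechLattice) : GolayPt → ℤ) = t →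
      ∀ y' : leechLattice, sqNorm (y' : GolayPt → ℤ) = 32 →
      dotInt ((RL : leechLattice) : GolayPt → ℤ) (y' : GolayPt → ℤ) = t → ∃ k ∈ K6, k • RL = y' := by
    intro w t hw ht hd y' hy' hd'
    have hn : sqNorm ((-y' : leechLattice) : GolayPt → ℤ) = 32 := by rw [sqNorm_neg_L, hy']
    have hd2 : dotInt ((RL : leechLattice) : GolayPt → ℤ) ((-y' : leechLattice) : GolayPt → ℤ) = -t := by
      rw [coe_neg_L, dot_neg_r, hd']
    obtain ⟨k, hk, hky⟩ := neg_case w t hw ht hd (-y') hn hd2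
    refine ⟨negCo0 * k, K6.mul_mem neg_K6 hk, ?_⟩
    rw [mul_smul, hky, neg_smul_L, neg_neg]
  have h := dot_cases hR (mem_MinF.2 ⟨y.2, hy⟩)
  simp only [Finset.mem_insert, Finset.mem_singleton] at h
  rcases h with h | h | h | h | h | h | h
  · -- 32
    have hd2 : dotInt ((RL : leechLattice) : GolayPt → ℤ) ((-y : leechLattice) : GolayPt → ℤ) = -32 := by
      rw [coe_neg_L, dot_neg_r, h]
    have e := eq_neg_of_dot sqNorm_RL (by rw [sqNorm_neg_L, hy]) hd2
    refine ⟨1, K6.one_mem, ?_⟩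
    rw [one_smul]
    exact (neg_injective e).symm
  · exact pos_case w16 16 w16_K6 (Or.inl rfl) dot_w16 y hy h
  · exact pos_case w8 8 w8_K6 (Or.inr rfl) dot_w8 y hy h
  · -- 0
    have hn : sqNorm ((wordCo0 w0 • RL : leechLattice) : GolayPt → ℤ) = 32 := by rw [Co0_sqNorm, sqNorm_RL]
    obtain ⟨g, hg1, hg2⟩ := trans_orth_pairs RL (wordCo0 w0 • RL) RL y sqNorm_RL hn dot_w0 sqNorm_RL hy h
    refine ⟨g * wordCo0 w0, K6.mul_mem (C2_le_K6 (mem_stabilizer_iff.2 hg1)) w0_K6, ?_⟩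
    rw [mul_smul, hg2]
  · exact neg_case w8 8 w8_K6 (Or.inr rfl) dot_w8 y hy h
  · exact neg_case w16 16 w16_K6 (Or.inl rfl) dot_w16 y hy h
  · -- -32
    have e := eq_neg_of_dot sqNorm_RL hy h
    refine ⟨negCo0, neg_K6, ?_⟩
    rw [neg_smul_L, e]

/-- `Co0` is generated by `s`, `d`, `u`, `h`, `e` and `-1`. -/
theorem K6_eq_top : K6 = ⊤ := by
  rw [eq_top_iff]
  intro x _
  have hn : sqNorm ((x • RL : leechLattice) : GolayPt → ℤ) = 32 := by rw [Co0_sqNorm, sqNorm_RL]
  obtain ⟨k, hk, hky⟩ := orbit_K6 (x • RL) hn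
  have h1 : k⁻¹ * x ∈ C2 := by
    rw [mem_stabilizer_iff, mul_smul, ← hky, inv_smul_smul]
  have h2 : x = k * (k⁻¹ * x) := by rw [mul_inv_cancel_left]
  rw [h2]
  exact K6.mul_mem hk (C2_le_K6 h1)

end Co1Out

end Cfsg.Agent.Lib.H27
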