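/-
helper27 library: relator checks for the automorphisms of `Co2` (generated), the relators themselves.
-/
import Mathlib
import Cfsg.Agent.Lib.H27.Co2OutRel

set_option autoImplicit false

namespace Cfsg.Agent.Lib.H27

open Cfsg MulAction Cfsg.Agent.Lib.H28 Cfsg.Agent.Lib.H27.Eng

namespace Co2Out

open Co3GenData Co2OutData OutM Co3Out AutRigid

theorem chk0_0 : wordIsOneF (relC true 0 0 (rels4.getD 0 ([], 0))) = true := by decide +kernel
theorem chk0_1 : wordIsOneF (relC true 0 0 (rels4.getD 1 ([], 0))) = true := by decide +kernel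

end Co2Out

end Cfsg.Agent.Lib.H27
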