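/-
helper27 library: relator checks for the automorphisms of `Co2` (generated), the relators themselves.
-/
import Mathlib
import Cfsg.Agent.Lib.H27.Co2OutRel

set_option autoImplicit false

namespace Cfsg.Agent.Lib.H27

open Cfsg MulAction Cfsg.Agent.Lib.H28 Cfsg.Agent.Lib.H27.Eng

namespace Co2Out

open Co3GenData Co2OutData OutM Co3Out AutRigid

theorem chk0_2 : wordIsOneF (relC true 0 0 (rels4.getD 2 ([], 0))) = true := by decide +kernel

end Co2Out

end Cfsg.Agent.Lib.H27
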