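/-
helper27 library: the relators of `Co1` hold and pin down the images of the generators under an automorphism
(generated by scripts/gen_co1chk.py).
-/
import Mathlib
import Cfsg.Agent.Lib.H27.Co1Chk0
import Cfsg.Agent.Lib.H27.Co1Chk1
import Cfsg.Agent.Lib.H27.Co1Chk2
import Cfsg.Agent.Lib.H27.Co1Chk3
import Cfsg.Agent.Lib.H27.Co1Chk4
import Cfsg.Agent.Lib.H27.Co1Chk5
import Cfsg.Agent.Lib.H27.Co1Chk6
import Cfsg.Agent.Lib.H27.Co1Chk7
import Cfsg.Agent.Lib.H27.Co1ChkI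
import Cfsg.Agent.Lib.H27.Co2OutChk0
import Cfsg.Agent.Lib.H27.Co2OutChk1

set_option autoImplicit false

namespace Cfsg.Agent.Lib.H27

open Cfsg MulAction Cfsg.Agent.Lib.H28 Cfsg.Agent.Lib.H27.Eng

namespace Co1Out

open Co3GenData Co2OutData Co1OutData OutM Co3Out Co2Out AutRigid

/-- First stage: candidates for the images of `s` and `u`. -/
theorem chkQA (eS : Bool) (i1 : ℕ) (hi : i1 < 66) (h : ¬ (eS = true ∧ i1 = 0)) :
    ∃ k < 3, movesPM (relQ eS i1 0 0 (rels6.getD k ([], 0))) tvec1 = true := by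
  cases eS
  · interval_cases i1
    · exact ⟨1, by norm_num, chkQA_f_0⟩
    · exact ⟨1, by norm_num, chkQA_f_1⟩
    · exact ⟨1, by norm_num, chkQA_f_2⟩
    · exact ⟨1, by norm_num, chkQA_f_3⟩
    · exact ⟨1, by norm_num, chkQA_f_4⟩
    · exact ⟨2, by norm_num, chkQA_f_5⟩
    · exact ⟨1, by norm_num, chkQA_f_6⟩
    · exact ⟨2, by norm_num, chkQA_f_7⟩
    · exact ⟨1, by norm_num, chkQA_f_8⟩
    · exact ⟨1, by norm_num, chkQA_f_9⟩
    · exact ⟨1, by norm_num, chkQA_f_10⟩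
    · exact ⟨0, by norm_num, chkQA_f_11⟩
    · exact ⟨0, by norm_num, chkQA_f_12⟩
    · exact ⟨0, by norm_num, chkQA_f_13⟩
    · exact ⟨0, by norm_num, chkQA_f_14⟩
    · exact ⟨0, by norm_num, chkQA_f_15⟩
    · exact ⟨0, by norm_num, chkQA_f_16⟩
    · exact ⟨0, by norm_num, chkQA_f_17⟩
    · exact ⟨0, by norm_num, chkQA_f_18⟩
    · exact ⟨0, by norm_num, chkQA_f_19⟩
    · exact ⟨0, by norm_num, chkQA_f_20⟩
    · exact ⟨0, by norm_num, chkQA_f_21⟩
    · exact ⟨0, by norm_num, chkQA_f_22⟩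
    · exact ⟨0, by norm_num, chkQA_f_23⟩
    · exact ⟨0, by norm_num, chkQA_f_24⟩
    · exact ⟨0, by norm_num, chkQA_f_25⟩
    · exact ⟨0, by norm_num, chkQA_f_26⟩
    · exact ⟨0, by norm_num, chkQA_f_27⟩
    · exact ⟨0, by norm_num, chkQA_f_28⟩
    · exact ⟨0, by norm_num, chkQA_f_29⟩
    · exact ⟨0, by norm_num, chkQA_f_30⟩
    · exact ⟨0, by norm_num, chkQA_f_31⟩
    · exact ⟨0, by norm_num, chkQA_f_32⟩
    · exact ⟨0, by norm_num, chkQA_f_33⟩
    · exact ⟨0, by norm_num, chkQA_f_34⟩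
    · exact ⟨0, by norm_num, chkQA_f_35⟩
    · exact ⟨0, by norm_num, chkQA_f_36⟩
    · exact ⟨0, by norm_num, chkQA_f_37⟩
    · exact ⟨0, by norm_num, chkQA_f_38⟩
    · exact ⟨0, by norm_num, chkQA_f_39⟩
    · exact ⟨0, by norm_num, chkQA_f_40⟩
    · exact ⟨0, by norm_num, chkQA_f_41⟩
    · exact ⟨0, by norm_num, chkQA_f_42⟩
    · exact ⟨0, by norm_num, chkQA_f_43⟩
    · exact ⟨0, by norm_num, chkQA_f_44⟩
    · exact ⟨0, by norm_num, chkQA_f_45⟩
    · exact ⟨0, by norm_num, chkQA_f_46⟩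
    · exact ⟨0, by norm_num, chkQA_f_47⟩
    · exact ⟨0, by norm_num, chkQA_f_48⟩
    · exact ⟨0, by norm_num, chkQA_f_49⟩
    · exact ⟨0, by norm_num, chkQA_f_50⟩
    · exact ⟨0, by norm_num, chkQA_f_51⟩
    · exact ⟨0, by norm_num, chkQA_f_52⟩
    · exact ⟨0, by norm_num, chkQA_f_53⟩
    · exact ⟨0, by norm_num, chkQA_f_54⟩
    · exact ⟨0, by norm_num, chkQA_f_55⟩
    · exact ⟨0, by norm_num, chkQA_f_56⟩
    · exact ⟨0, by norm_num, chkQA_f_57⟩
    · exact ⟨0, by norm_num, chkQA_f_58⟩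
    · exact ⟨0, by norm_num, chkQA_f_59⟩
    · exact ⟨0, by norm_num, chkQA_f_60⟩
    · exact ⟨0, by norm_num, chkQA_f_61⟩
    · exact ⟨0, by norm_num, chkQA_f_62⟩
    · exact ⟨0, by norm_num, chkQA_f_63⟩
    · exact ⟨0, by norm_num, chkQA_f_64⟩
    · exact ⟨0, by norm_num, chkQA_f_65⟩
  · interval_cases i1
    · exact absurd ⟨rfl, rfl⟩ h
    · exact ⟨1, by norm_num, chkQA_t_1⟩
    · exact ⟨1, by norm_num, chkQA_t_2⟩
    · exact ⟨1, by norm_num, chkQA_t_3⟩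
    · exact ⟨1, by norm_num, chkQA_t_4⟩
    · exact ⟨1, by norm_num, chkQA_t_5⟩
    · exact ⟨1, by norm_num, chkQA_t_6⟩
    · exact ⟨1, by norm_num, chkQA_t_7⟩
    · exact ⟨1, by norm_num, chkQA_t_8⟩
    · exact ⟨1, by norm_num, chkQA_t_9⟩
    · exact ⟨1, by norm_num, chkQA_t_10⟩
    · exact ⟨0, by norm_num, chkQA_t_11⟩
    · exact ⟨0, by norm_num, chkQA_t_12⟩
    · exact ⟨0, by norm_num, chkQA_t_13⟩
    · exact ⟨0, by norm_num, chkQA_t_14⟩
    · exact ⟨0, by norm_num, chkQA_t_15⟩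
    · exact ⟨0, by norm_num, chkQA_t_16⟩
    · exact ⟨0, by norm_num, chkQA_t_17⟩
    · exact ⟨0, by norm_num, chkQA_t_18⟩
    · exact ⟨0, by norm_num, chkQA_t_19⟩
    · exact ⟨0, by norm_num, chkQA_t_20⟩
    · exact ⟨0, by norm_num, chkQA_t_21⟩
    · exact ⟨0, by norm_num, chkQA_t_22⟩
    · exact ⟨0, by norm_num, chkQA_t_23⟩
    · exact ⟨0, by norm_num, chkQA_t_24⟩
    · exact ⟨0, by norm_num, chkQA_t_25⟩
    · exact ⟨0, by norm_num, chkQA_t_26⟩
    · exact ⟨0, by norm_num, chkQA_t_27⟩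
    · exact ⟨0, by norm_num, chkQA_t_28⟩
    · exact ⟨0, by norm_num, chkQA_t_29⟩
    · exact ⟨0, by norm_num, chkQA_t_30⟩
    · exact ⟨0, by norm_num, chkQA_t_31⟩
    · exact ⟨0, by norm_num, chkQA_t_32⟩
    · exact ⟨0, by norm_num, chkQA_t_33⟩
    · exact ⟨0, by norm_num, chkQA_t_34⟩
    · exact ⟨0, by norm_num, chkQA_t_35⟩
    · exact ⟨0, by norm_num, chkQA_t_36⟩
    · exact ⟨0, by norm_num, chkQA_t_37⟩
    · exact ⟨0, by norm_num, chkQA_t_38⟩
    · exact ⟨0, by norm_num, chkQA_t_39⟩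
    · exact ⟨0, by norm_num, chkQA_t_40⟩
    · exact ⟨0, by norm_num, chkQA_t_41⟩
    · exact ⟨0, by norm_num, chkQA_t_42⟩
    · exact ⟨0, by norm_num, chkQA_t_43⟩
    · exact ⟨0, by norm_num, chkQA_t_44⟩
    · exact ⟨0, by norm_num, chkQA_t_45⟩
    · exact ⟨0, by norm_num, chkQA_t_46⟩
    · exact ⟨0, by norm_num, chkQA_t_47⟩
    · exact ⟨0, by norm_num, chkQA_t_48⟩
    · exact ⟨0, by norm_num, chkQA_t_49⟩
    · exact ⟨0, by norm_num, chkQA_t_50⟩
    · exact ⟨0, by norm_num, chkQA_t_51⟩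
    · exact ⟨0, by norm_num, chkQA_t_52⟩
    · exact ⟨0, by norm_num, chkQA_t_53⟩
    · exact ⟨0, by norm_num, chkQA_t_54⟩
    · exact ⟨0, by norm_num, chkQA_t_55⟩
    · exact ⟨0, by norm_num, chkQA_t_56⟩
    · exact ⟨0, by norm_num, chkQA_t_57⟩
    · exact ⟨0, by norm_num, chkQA_t_58⟩
    · exact ⟨0, by norm_num, chkQA_t_59⟩
    · exact ⟨0, by norm_num, chkQA_t_60⟩
    · exact ⟨0, by norm_num, chkQA_t_61⟩
    · exact ⟨0, by norm_num, chkQA_t_62⟩
    · exact ⟨0, by norm_num, chkQA_t_63⟩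
    · exact ⟨0, by norm_num, chkQA_t_64⟩
    · exact ⟨0, by norm_num, chkQA_t_65⟩

/-- Second stage: candidates for the image of `h`. -/
theorem chkQB (i2 : ℕ) (hi : i2 < 66) (h : i2 ≠ 0) :
    ∃ k, 3 ≤ k ∧ k < 5 ∧ movesPM (relQ true 0 i2 0 (rels6.getD k ([], 0))) tvec1 = true := by
  interval_cases i2
  · exact absurd rfl h
  · exact ⟨4, by norm_num, by norm_num, chkQB_1⟩
  · exact ⟨4, by norm_num, by norm_num, chkQB_2⟩
  · exact ⟨4, by norm_num, by norm_num, chkQB_3⟩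
  · exact ⟨4, by norm_num, by norm_num, chkQB_4⟩
  · exact ⟨4, by norm_num, by norm_num, chkQB_5⟩
  · exact ⟨4, by norm_num, by norm_num, chkQB_6⟩
  · exact ⟨4, by norm_num, by norm_num, chkQB_7⟩
  · exact ⟨4, by norm_num, by norm_num, chkQB_8⟩
  · exact ⟨4, by norm_num, by norm_num, chkQB_9⟩
  · exact ⟨4, by norm_num, by norm_num, chkQB_10⟩
  · exact ⟨3, by norm_num, by norm_num, chkQB_11⟩
  · exact ⟨3, by norm_num, by norm_num, chkQB_12⟩
  · exact ⟨3, by norm_num, by norm_num, chkQB_13⟩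
  · exact ⟨3, by norm_num, by norm_num, chkQB_14⟩
  · exact ⟨3, by norm_num, by norm_num, chkQB_15⟩
  · exact ⟨3, by norm_num, by norm_num, chkQB_16⟩
  · exact ⟨3, by norm_num, by norm_num, chkQB_17⟩
  · exact ⟨3, by norm_num, by norm_num, chkQB_18⟩
  · exact ⟨3, by norm_num, by norm_num, chkQB_19⟩
  · exact ⟨3, by norm_num, by norm_num, chkQB_20⟩
  · exact ⟨3, by norm_num, by norm_num, chkQB_21⟩
  · exact ⟨4, by norm_num, by norm_num, chkQB_22⟩
  · exact ⟨4, by norm_num, by norm_num, chkQB_23⟩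
  · exact ⟨4, by norm_num, by norm_num, chkQB_24⟩
  · exact ⟨4, by norm_num, by norm_num, chkQB_25⟩
  · exact ⟨4, by norm_num, by norm_num, chkQB_26⟩
  · exact ⟨4, by norm_num, by norm_num, chkQB_27⟩
  · exact ⟨4, by norm_num, by norm_num, chkQB_28⟩
  · exact ⟨4, by norm_num, by norm_num, chkQB_29⟩
  · exact ⟨4, by norm_num, by norm_num, chkQB_30⟩
  · exact ⟨4, by norm_num, by norm_num, chkQB_31⟩
  · exact ⟨4, by norm_num, by norm_num, chkQB_32⟩
  · exact ⟨4, by norm_num, by norm_num, chkQB_33⟩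
  · exact ⟨4, by norm_num, by norm_num, chkQB_34⟩
  · exact ⟨4, by norm_num, by norm_num, chkQB_35⟩
  · exact ⟨4, by norm_num, by norm_num, chkQB_36⟩
  · exact ⟨4, by norm_num, by norm_num, chkQB_37⟩
  · exact ⟨4, by norm_num, by norm_num, chkQB_38⟩
  · exact ⟨4, by norm_num, by norm_num, chkQB_39⟩
  · exact ⟨4, by norm_num, by norm_num, chkQB_40⟩
  · exact ⟨4, by norm_num, by norm_num, chkQB_41⟩
  · exact ⟨4, by norm_num, by norm_num, chkQB_42⟩
  · exact ⟨4, by norm_num, by norm_num, chkQB_43⟩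
  · exact ⟨4, by norm_num, by norm_num, chkQB_44⟩
  · exact ⟨4, by norm_num, by norm_num, chkQB_45⟩
  · exact ⟨4, by norm_num, by norm_num, chkQB_46⟩
  · exact ⟨4, by norm_num, by norm_num, chkQB_47⟩
  · exact ⟨4, by norm_num, by norm_num, chkQB_48⟩
  · exact ⟨4, by norm_num, by norm_num, chkQB_49⟩
  · exact ⟨4, by norm_num, by norm_num, chkQB_50⟩
  · exact ⟨4, by norm_num, by norm_num, chkQB_51⟩
  · exact ⟨4, by norm_num, by norm_num, chkQB_52⟩
  · exact ⟨4, by norm_num, by norm_num, chkQB_53⟩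
  · exact ⟨4, by norm_num, by norm_num, chkQB_54⟩
  · exact ⟨3, by norm_num, by norm_num, chkQB_55⟩
  · exact ⟨3, by norm_num, by norm_num, chkQB_56⟩
  · exact ⟨3, by norm_num, by norm_num, chkQB_57⟩
  · exact ⟨3, by norm_num, by norm_num, chkQB_58⟩
  · exact ⟨3, by norm_num, by norm_num, chkQB_59⟩
  · exact ⟨3, by norm_num, by norm_num, chkQB_60⟩
  · exact ⟨3, by norm_num, by norm_num, chkQB_61⟩
  · exact ⟨3, by norm_num, by norm_num, chkQB_62⟩
  · exact ⟨3, by norm_num, by norm_num, chkQB_63⟩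
  · exact ⟨3, by norm_num, by norm_num, chkQB_64⟩
  · exact ⟨3, by norm_num, by norm_num, chkQB_65⟩

/-- Third stage: candidates for the image of `e`. -/
theorem chkQC (i3 : ℕ) (hi : i3 < 66) (h : i3 ≠ 0) (h' : i3 ≠ 11) :
    movesPM (relQ true 0 0 i3 (rels6.getD 5 ([], 0))) tvec1 = true := by
  interval_cases i3
  · exact absurd rfl h
  · exact chkQC_1
  · exact chkQC_2
  · exact chkQC_3
  · exact chkQC_4
  · exact chkQC_5
  · exact chkQC_6
  · exact chkQC_7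
  · exact chkQC_8
  · exact chkQC_9
  · exact chkQC_10
  · exact absurd rfl h'
  · exact chkQC_12
  · exact chkQC_13
  · exact chkQC_14
  · exact chkQC_15
  · exact chkQC_16
  · exact chkQC_17
  · exact chkQC_18
  · exact chkQC_19
  · exact chkQC_20
  · exact chkQC_21
  · exact chkQC_22
  · exact chkQC_23
  · exact chkQC_24
  · exact chkQC_25
  · exact chkQC_26
  · exact chkQC_27
  · exact chkQC_28
  · exact chkQC_29
  · exact chkQC_30
  · exact chkQC_31
  · exact chkQC_32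
  · exact chkQC_33
  · exact chkQC_34
  · exact chkQC_35
  · exact chkQC_36
  · exact chkQC_37
  · exact chkQC_38
  · exact chkQC_39
  · exact chkQC_40
  · exact chkQC_41
  · exact chkQC_42
  · exact chkQC_43
  · exact chkQC_44
  · exact chkQC_45
  · exact chkQC_46
  · exact chkQC_47
  · exact chkQC_48
  · exact chkQC_49
  · exact chkQC_50
  · exact chkQC_51
  · exact chkQC_52
  · exact chkQC_53
  · exact chkQC_54
  · exact chkQC_55
  · exact chkQC_56
  · exact chkQC_57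
  · exact chkQC_58
  · exact chkQC_59
  · exact chkQC_60
  · exact chkQC_61
  · exact chkQC_62
  · exact chkQC_63
  · exact chkQC_64
  · exact chkQC_65

theorem chkQ0 : ∀ r ∈ rels6, wordIsOneF (relQ true 0 0 0 r) = true := by
  intro r hr
  unfold rels6 at hr
  simp only [List.mem_cons, List.not_mem_nil, or_false] at hr
  rcases hr with rfl | rfl | rfl | rfl | rfl | rfl
  · exact chkQ0_0
  · exact Co2Out.chk0_0
  · exact Co2Out.chk0_1
  · exact chkQ0_3
  · exact Co2Out.chk0_2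
  · exact chkQ0_5

end Co1Out

end Cfsg.Agent.Lib.H27
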