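/-
helper27 library: every automorphism of the Conway group `Co1 = Co0 / {± 1}` is inner.  Rigidity argument with the
images of the Frobenius subgroup `23 : 11 = ⟨s, d⟩` of `M23`, of `u ∈ M23` of order 5 normalizing `⟨d⟩`, of an
involution `h` of `Co2` inverting `d` and of the sign change `e` on a dodecad; the centralizer of the image of `s`
is generated by it and the centralizer of the image of `d` has order 66.
-/
import Mathlib
import Cfsg.Prelude.Def_Spor_Conway
import Cfsg.Agent.Lib.H27.Co1Gen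
import Cfsg.Agent.Lib.H27.Co1Rel2
import Cfsg.Agent.Lib.H27.AutRigid5
import Cfsg.Agent.Lib.H27.Co0Center
import Cfsg.Agent.Lib.H27.Co0Order

set_option autoImplicit false

namespace Cfsg.Agent.Lib.H27

open Cfsg MulAction Cfsg.Agent.Lib.H28 Cfsg.Agent.Lib.H27.Eng

namespace Co1Out

open Co3GenData Co2OutData Co1OutData OutM Co3Out Co2Out AutRigid

/-! ### The quotient -/

/-- The projection of `Co0` onto `Co1`. -/
noncomputable def pr : Co0 →* Spor.Co1 := QuotientGroup.mk' (Subgroup.center Co0)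

theorem pr_surj : Function.Surjective pr := QuotientGroup.mk'_surjective _

theorem pr_eq_one {x : Co0} : pr x = 1 ↔ x = 1 ∨ x = negCo0 := by
  unfold pr
  rw [QuotientGroup.mk'_apply, QuotientGroup.eq_one_iff]
  constructor
  · intro h
    exact center_cases h
  · rintro (rfl | rfl)
    · exact Subgroup.one_mem _
    · exact negCo0_mem_center

theorem pr_neg : pr negCo0 = 1 := pr_eq_one.2 (Or.inr rfl)

theorem pr_eq {x y : Co0} : pr x = pr y ↔ x = y ∨ x = negCo0 * y := by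
  have h : pr x = pr y ↔ pr (x * y⁻¹) = 1 := by
    rw [map_mul, map_inv, mul_inv_eq_one]
  rw [h, pr_eq_one]
  constructor
  · rintro (h1 | h1)
    · left
      exact mul_inv_eq_one.1 h1
    · right
      rw [← h1]
      group
  · rintro (rfl | rfl)
    · left
      exact mul_inv_cancel _
    · right
      group

instance : Finite Spor.Co1 := Finite.of_surjective pr pr_surj

theorem card_Co1 : Nat.card Spor.Co1 = 4157776806543360000 := by
  have h := Subgroup.card_eq_card_quotient_mul_card_subgroup (Subgroup.center Co0)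
  rw [card_Co0, card_center_Co0] at h
  show Nat.card (Co0 ⧸ Subgroup.center Co0) = _
  omega

theorem neg_pow_odd {n : ℕ} (hn : Odd n) : negCo0 ^ n = negCo0 := by
  obtain ⟨k, rfl⟩ := hn
  rw [pow_succ, pow_mul, pow_two, negCo0_sq, one_pow, one_mul]

/-- Commuting in the quotient with the image of an element of odd order. -/
theorem lift_comm {x D : Co0} (n : ℕ) (hn : Odd n) (hD : D ^ n = 1) (h : pr x * pr D = pr D * pr x) :
    x * D = D * x := by
  rw [← map_mul, ← map_mul, pr_eq] at h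
  rcases h with h1 | h1
  · exact h1
  · exfalso
    have e1 : x * D * x⁻¹ = negCo0 * D := by rw [h1]; group
    have e2 : (x * D * x⁻¹) ^ n = 1 := by rw [conj_pow, hD]; group
    have hcomm : Commute negCo0 D := (negCo0_central D).symm
    have e3 : (negCo0 * D) ^ n = negCo0 := by rw [hcomm.mul_pow, hD, mul_one, neg_pow_odd hn]
    rw [e1, e3] at e2
    exact negCo0_ne_one e2

/-! ### The generators -/

noncomputable def sQ : Spor.Co1 := pr (wordCo0 wS)
noncomputable def dQ : Spor.Co1 := pr (wordCo0 wD)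
noncomputable def uQ : Spor.Co1 := pr (wordCo0 wU)
noncomputable def hQ : Spor.Co1 := pr (wordCo0 wH)
noncomputable def eQ : Spor.Co1 := pr (wordCo0 wE)

/-- The images of the elements of the centralizer of `d`. -/
noncomputable def cQ (i : ℕ) : Spor.Co1 := pr (wordCo0 (cIdx i))

/-- The centralizer of the image of `d`. -/
noncomputable def LQ : List Spor.Co1 := (List.range 66).map cQ

theorem cQ_zero : cQ 0 = 1 := by
  unfold cQ
  rw [cIdx_zero, map_one]

theorem s_pow23 : wordCo0 wS ^ 23 = 1 := by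
  rw [← wordCo0_wpow]
  exact wordCo0_eq_oneF (wpow_ok wS_ok 23) (by decide +kernel)

theorem s_ne : wordCo0 wS ≠ 1 ∧ wordCo0 wS ≠ negCo0 := ne_of_movesPM wS_ok tvec1_L (by decide +kernel)
theorem u_ne : wordCo0 wU ≠ 1 ∧ wordCo0 wU ≠ negCo0 := ne_of_movesPM wU_ok tvec1_L (by decide +kernel)
theorem h_ne : wordCo0 wH ≠ 1 ∧ wordCo0 wH ≠ negCo0 := ne_of_movesPM wH_ok tvec1_L (by decide +kernel)
theorem e_ne : wordCo0 wE ≠ 1 ∧ wordCo0 wE ≠ negCo0 := ne_of_movesPM wE_ok tvec1_L (by decide +kernel)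

theorem pr_ne_one {x : Co0} (h : x ≠ 1 ∧ x ≠ negCo0) : pr x ≠ 1 := by
  intro h1
  rcases pr_eq_one.1 h1 with h2 | h2
  · exact h.1 h2
  · exact h.2 h2

theorem orderOf_sQ : orderOf sQ = 23 := by
  have hp : Fact (Nat.Prime 23) := ⟨by norm_num⟩
  apply orderOf_eq_prime
  · unfold sQ
    rw [← map_pow, s_pow23, map_one]
  · exact pr_ne_one s_ne

theorem hdsQ : dQ * sQ * dQ⁻¹ = sQ ^ 2 := by
  rw [mul_inv_eq_iff_eq_mul]
  unfold dQ sQ
  rw [← map_mul, ← map_pow, ← map_mul, ds_rel]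

theorem hudQ : uQ * dQ * uQ⁻¹ = dQ ^ 3 := by
  rw [mul_inv_eq_iff_eq_mul]
  unfold dQ uQ
  rw [← map_mul, ← map_pow, ← map_mul, ud_rel]

theorem hhdQ : hQ * dQ * hQ⁻¹ = dQ ^ 10 := by
  rw [mul_inv_eq_iff_eq_mul]
  unfold dQ hQ
  rw [← map_mul, ← map_pow, ← map_mul, hd_rel]

theorem hedQ : eQ * dQ * eQ⁻¹ = dQ ^ 1 := by
  rw [mul_inv_eq_iff_eq_mul, pow_one]
  unfold dQ eQ
  rw [← map_mul, ← map_mul, ed_comm]

/-- Conjugacy of the elements of order 23. -/
theorem hA1Q (x : Spor.Co1) (hx : orderOf x = orderOf sQ) :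
    ∃ k : Spor.Co1, k * x * k⁻¹ = sQ ∨ k * x * k⁻¹ = sQ⁻¹ := by
  refine conj_pm_of_sylow (p := 23) (a := 2) (by norm_num) ?_ orderOf_sQ hdsQ ?_ x hx
  · rw [card_Co1]
    norm_num
  · have h : ∀ i < 23, i ≠ 0 → ∃ m < 11, (i * 2 ^ m) % 23 = 1 ∨ (i * 2 ^ m) % 23 = 23 - 1 := by decide
    intro i hi hi0
    obtain ⟨m, -, hm⟩ := h i hi hi0
    exact ⟨m, hm⟩

/-- The centralizer of the image of `s`. -/
theorem hA2Q (c : Spor.Co1) (hc : c * sQ = sQ * c) : ∃ m : ℤ, c = sQ ^ m := by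
  obtain ⟨x, rfl⟩ := pr_surj c
  have h1 := lift_comm 23 (by decide) s_pow23 hc
  obtain ⟨k, hk | hk⟩ := centralizer_s0 h1
  · exact ⟨k, by rw [hk]; unfold sQ; rw [map_zpow]⟩
  · exact ⟨k, by rw [hk, map_mul, pr_neg, one_mul]; unfold sQ; rw [map_zpow]⟩

theorem cIdx_eq (a b j : ℕ) (ha : a < 3) (hb : b < 2) (hj : j < 11) : cIdx (a * 22 + b * 11 + j) = cW a b j := by
  unfold cIdx
  have h1 : (a * 22 + b * 11 + j) / 22 = a := by omega
  have h2 : (a * 22 + b * 11 + j) / 11 % 2 = b := by omega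
  have h3 : (a * 22 + b * 11 + j) % 11 = j := by omega
  rw [h1, h2, h3]

/-- The centralizer of the image of `d`. -/
theorem hA3Q (c : Spor.Co1) (hc : c * dQ = dQ * c) : c ∈ LQ := by
  obtain ⟨x, rfl⟩ := pr_surj c
  have h1 := lift_comm 11 (by decide) Co3Out.d_pow11 hc
  obtain ⟨a, ha, b, hb, j, hj, hx⟩ := centralizer_d0 h1
  unfold LQ
  rw [List.mem_map]
  refine ⟨a * 22 + b * 11 + j, List.mem_range.2 (by omega), ?_⟩
  unfold cQ
  rw [cIdx_eq a b j ha hb hj]
  rcases hx with hx | hx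
  · rw [hx]
  · rw [hx, map_mul, pr_neg, one_mul]

/-- Generation: an automorphism fixing the five generators is trivial. -/
theorem hgenQ (ψ : MulAut Spor.Co1) (hs : ψ sQ = sQ) (hd : ψ dQ = dQ) (hu : ψ uQ = uQ) (hh : ψ hQ = hQ)
    (he : ψ eQ = eQ) : ψ = 1 := by
  have hle : K6 ≤ MonoidHom.eqLocus (ψ.toMonoidHom.comp pr) pr := by
    unfold K6
    rw [Subgroup.closure_le]
    rintro x (rfl | rfl | rfl | rfl | rfl | rfl)
    · exact hs
    · exact hd
    · exact hu
    · exact hh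
    · exact he
    · show ψ (pr negCo0) = pr negCo0
      rw [pr_neg, map_one]
  ext c : 1
  obtain ⟨x, rfl⟩ := pr_surj c
  have hx : x ∈ K6 := by rw [K6_eq_top]; exact Subgroup.mem_top x
  have := hle hx
  rw [MulAut.one_apply]
  exact this

/-! ### The relators in the quotient -/

theorem pr_relQ (eS : Bool) (i1 i2 i3 : ℕ) (r : List ℕ × ℕ) :
    pr (wordCo0 (relQ eS i1 i2 i3 r)) = (evalPat (fun n => [if eS then sQ else sQ⁻¹, dQ, uQ * cQ i1,
      hQ * cQ i2, eQ * cQ i3].getD n 1) r.1) ^ r.2 := by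
  rw [wordCo0_relQ, map_pow, map_evalPat pr]
  congr 2
  funext n
  match n with
  | 0 =>
    cases eS
    · exact map_inv pr _
    · rfl
  | 1 => rfl
  | 2 => exact map_mul pr _ _
  | 3 => exact map_mul pr _ _
  | 4 => exact map_mul pr _ _
  | (n + 5) => exact map_one pr

theorem rels6_mem (k : ℕ) (hk : k < 6) : rels6.getD k ([], 0) ∈ rels6 := by
  interval_cases k <;> decide

theorem rels6_letters (k : ℕ) (hk : k < 6) (m : ℕ) (hm : (if k < 3 then 2 else if k < 5 then 3 else 4) = m) :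
    ∀ n ∈ (rels6.getD k ([], 0)).1, n ≤ m := by
  subst hm
  interval_cases k <;> decide

/-- Values of patterns depend only on the letters that occur. -/
theorem evalPat_low {G : Type*} [Group G] (a b c d e d' e' : G) (pat : List ℕ) (h : ∀ n ∈ pat, n ≤ 2) :
    evalPat (fun n => [a, b, c, d, e].getD n 1) pat = evalPat (fun n => [a, b, c, d', e'].getD n 1) pat := by
  apply evalPat_congr
  intro n hn
  have := h n hn
  interval_cases n <;> rfl

theorem evalPat_mid {G : Type*} [Group G] (a b c d e e' : G) (pat : List ℕ) (h : ∀ n ∈ pat, n ≤ 3) :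
    evalPat (fun n => [a, b, c, d, e].getD n 1) pat = evalPat (fun n => [a, b, c, d, e'].getD n 1) pat := by
  apply evalPat_congr
  intro n hn
  have := h n hn
  interval_cases n <;> rfl

/-- The relators hold. -/
theorem rel6_0 : ∀ r ∈ rels6, (evalPat (fun n => [sQ, dQ, uQ, hQ, eQ].getD n 1) r.1) ^ r.2 = 1 := by
  intro r hr
  have h1 := wordCo0_eq_oneF (relQ_ok true 0 0 0 r) (chkQ0 r hr)
  have h2 := pr_relQ true 0 0 0 r
  rw [h1, map_one, cQ_zero, mul_one, mul_one, mul_one] at h2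
  exact h2.symm

theorem eQ_ne_one : eQ ≠ 1 := pr_ne_one e_ne

theorem cIdx_eleven : wordCo0 (cIdx 11) = wordCo0 wE := by
  show wordCo0 (wmul [] (wmul wE (dPow 0))) = wordCo0 wE
  rw [wordCo0_wmul, wordCo0_wmul, dPow_spec 0 (by norm_num), wordCo0_nil, pow_zero, one_mul, mul_one]

/-- The relators pin down the images. -/
theorem rel6_pin (s' : Spor.Co1) (hs' : s' = sQ ∨ s' = sQ⁻¹) (c1 : Spor.Co1) (hc1 : c1 ∈ LQ)
    (c2 : Spor.Co1) (hc2 : c2 ∈ LQ) (c3 : Spor.Co1) (hc3 : c3 ∈ LQ)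
    (h3 : eQ = 1 ↔ eQ * c3 = 1)
    (h : ∀ r ∈ rels6, (evalPat (fun n => [s', dQ, uQ * c1, hQ * c2, eQ * c3].getD n 1) r.1) ^ r.2 = 1) :
    s' = sQ ∧ uQ * c1 = uQ ∧ hQ * c2 = hQ ∧ eQ * c3 = eQ := by
  unfold LQ at hc1 hc2 hc3
  rw [List.mem_map] at hc1 hc2 hc3
  obtain ⟨i1, hi1, rfl⟩ := hc1
  obtain ⟨i2, hi2, rfl⟩ := hc2
  obtain ⟨i3, hi3, rfl⟩ := hc3
  rw [List.mem_range] at hi1 hi2 hi3
  obtain ⟨eS, heS⟩ : ∃ eS : Bool, s' = if eS then sQ else sQ⁻¹ := by
    rcases hs' with rfl | rfl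
    · exact ⟨true, rfl⟩
    · exact ⟨false, rfl⟩
  subst heS
  -- first stage
  have hA : eS = true ∧ i1 = 0 := by
    by_contra hcon
    obtain ⟨k, hk, hm⟩ := chkQA eS i1 hi1 hcon
    apply pr_ne_one (ne_of_movesPM (relQ_ok eS i1 0 0 _) tvec1_L hm)
    rw [pr_relQ, evalPat_low _ _ _ _ _ (hQ * cQ i2) (eQ * cQ i3) _
      (rels6_letters k (by omega) 2 (by rw [if_pos hk]))]
    exact h _ (rels6_mem k (by omega))
  obtain ⟨rfl, rfl⟩ := hA
  -- second stage
  have hB : i2 = 0 := by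
    by_contra hcon
    obtain ⟨k, hk1, hk2, hm⟩ := chkQB i2 hi2 hcon
    apply pr_ne_one (ne_of_movesPM (relQ_ok true 0 i2 0 _) tvec1_L hm)
    rw [pr_relQ, evalPat_mid _ _ _ _ _ (eQ * cQ i3) _
      (rels6_letters k (by omega) 3 (by rw [if_neg (by omega), if_pos hk2]))]
    exact h _ (rels6_mem k (by omega))
  subst hB
  -- third stage
  have hC : i3 = 0 := by
    by_contra hcon
    by_cases h11 : i3 = 11
    · subst h11
      have : eQ * cQ 11 = 1 := by
        unfold eQ cQ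
        rw [cIdx_eleven, ← map_mul, ← pow_two, e_sq, map_one]
      exact eQ_ne_one (h3.2 this)
    · have hm := chkQC i3 hi3 hcon h11
      apply pr_ne_one (ne_of_movesPM (relQ_ok true 0 0 i3 _) tvec1_L hm)
      rw [pr_relQ]
      exact h _ (rels6_mem 5 (by norm_num))
  subst hC
  rw [cQ_zero, mul_one, mul_one, mul_one]
  exact ⟨rfl, rfl, rfl, rfl⟩

/-- Every automorphism of `Co1` is inner. -/
theorem all_inner_Co1 (φ : MulAut Spor.Co1) : ∃ g : Spor.Co1, φ = MulAut.conj g := by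
  apply inner_of_dataL sQ dQ uQ hQ eQ 3 10 1 LQ hgenQ hA1Q hA2Q hA3Q hdsQ hudQ hhdQ hedQ rels6 rel6_0 _ φ
  intro s' hs' c1 hc1 c2 hc2 c3 hc3 _ _ h3 h
  exact rel6_pin s' hs' c1 hc1 c2 hc2 c3 hc3 h3 h

end Co1Out

end Cfsg.Agent.Lib.H27
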