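/-
helper27 library (generated by scripts/gen_co2.py): orbits of the McLaughlin group
`Stab(u0, v0)` on the minimal vectors `x` with `x · v0 = -8`, by the value of `x · w0`;
the statistics count the vectors fixed by the word `wCo2`.
-/
import Cfsg.Agent.Lib.H27.Co2DataB0

set_option autoImplicit false
set_option maxRecDepth 1000000

namespace Cfsg.Agent.Lib.H27.Co2Data

open Cfsg.Agent.Lib.H27.Eng


def bchunks : List Chunk := [bc0, bc1]
theorem ball_ok : ∀ c ∈ bchunks, chunkOK McLData.sg (fixedBy wCo2) c = true := by
  intro c hc
  simp only [bchunks, List.mem_cons, List.not_mem_nil, or_false] at hc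
  rcases hc with rfl | rfl
  · exact bok0
  · exact bok1
theorem blink_ok : linkOK bchunks [broot] = true := by decide +kernel
theorem bmerge_ok : mergeOK bchunks 2025 = true := by decide +kernel
theorem bstat_sum : (bchunks.map Chunk.stat).sum = 5 := by decide +kernel

end Cfsg.Agent.Lib.H27.Co2Data
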