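/-
helper27 library (generated by scripts/gen_co2.py): orbits of the McLaughlin group
`Stab(u0, v0)` on the minimal vectors `x` with `x · v0 = -8`, by the value of `x · w0`;
the statistics count the vectors fixed by the word `wCo2`.
-/
import Cfsg.Agent.Lib.H27.Co2DataD0
import Cfsg.Agent.Lib.H27.Co2DataD1
import Cfsg.Agent.Lib.H27.Co2DataD2

set_option autoImplicit false
set_option maxRecDepth 1000000

namespace Cfsg.Agent.Lib.H27.Co2Data

open Cfsg.Agent.Lib.H27.Eng


def dchunks : List Chunk := [dc0, dc1, dc2, dc3, dc4, dc5, dc6, dc7, dc8, dc9, dc10, dc11, dc12, dc13, dc14, dc15, dc16]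
theorem dall_ok : ∀ c ∈ dchunks, chunkOK McLData.sg (fixedBy wCo2) c = true := by
  intro c hc
  simp only [dchunks, List.mem_cons, List.not_mem_nil, or_false] at hc
  rcases hc with rfl | rfl | rfl | rfl | rfl | rfl | rfl | rfl | rfl | rfl | rfl | rfl | rfl | rfl | rfl | rfl | rfl
  · exact dok0
  · exact dok1
  · exact dok2
  · exact dok3
  · exact dok4
  · exact dok5
  · exact dok6
  · exact dok7
  · exact dok8
  · exact dok9
  · exact dok10
  · exact dok11
  · exact dok12
  · exact dok13
  · exact dok14
  · exact dok15
  · exact dok16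
theorem dlink_ok : linkOK dchunks [droot] = true := by decide +kernel
theorem dmerge_ok : mergeOK dchunks 15400 = true := by decide +kernel
theorem dstat_sum : (dchunks.map Chunk.stat).sum = 5 := by decide +kernel

end Cfsg.Agent.Lib.H27.Co2Data
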