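/-
helper27 library (generated by scripts/gen_co2.py): orbits of the McLaughlin group
`Stab(u0, v0)` on the minimal vectors `x` with `x · v0 = -8`, by the value of `x · w0`;
the statistics count the vectors fixed by the word `wCo2`.
-/
import Cfsg.Agent.Lib.H27.Co2DataE0
import Cfsg.Agent.Lib.H27.Co2DataE1
import Cfsg.Agent.Lib.H27.Co2DataE2
import Cfsg.Agent.Lib.H27.Co2DataE3

set_option autoImplicit false
set_option maxRecDepth 1000000

namespace Cfsg.Agent.Lib.H27.Co2Data

open Cfsg.Agent.Lib.H27.Eng


def echunks : List Chunk := [ec0, ec1, ec2, ec3, ec4, ec5, ec6, ec7, ec8, ec9, ec10, ec11, ec12, ec13, ec14, ec15, ec16, ec17, ec18, ec19, ec20, ec21, ec22]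
theorem eall_ok : ∀ c ∈ echunks, chunkOK McLData.sg (fixedBy wCo2) c = true := by
  intro c hc
  simp only [echunks, List.mem_cons, List.not_mem_nil, or_false] at hc
  rcases hc with rfl | rfl | rfl | rfl | rfl | rfl | rfl | rfl | rfl | rfl | rfl | rfl | rfl | rfl | rfl | rfl | rfl | rfl | rfl | rfl | rfl | rfl | rfl
  · exact eok0
  · exact eok1
  · exact eok2
  · exact eok3
  · exact eok4
  · exact eok5
  · exact eok6
  · exact eok7
  · exact eok8
  · exact eok9
  · exact eok10
  · exact eok11
  · exact eok12
  · exact eok13
  · exact eok14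
  · exact eok15
  · exact eok16
  · exact eok17
  · exact eok18
  · exact eok19
  · exact eok20
  · exact eok21
  · exact eok22
theorem elink_ok : linkOK echunks [eroot] = true := by decide +kernel
theorem emerge_ok : mergeOK echunks 22275 = true := by decide +kernel
theorem estat_sum : (echunks.map Chunk.stat).sum = 5 := by decide +kernel

end Cfsg.Agent.Lib.H27.Co2Data
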