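import Mathlib
import Cfsg.Prelude.Def_Sporadic_a
import Cfsg.Agent.Lib.H27.Co2DataA
import Cfsg.Agent.Lib.H27.Co2DataB
import Cfsg.Agent.Lib.H27.Co2DataC
import Cfsg.Agent.Lib.H27.Co2DataD
import Cfsg.Agent.Lib.H27.Co2DataE
import Cfsg.Agent.Lib.H27.McL2025
import Cfsg.Agent.Lib.H27.DotSub
import Cfsg.Agent.Lib.H27.HSInv
import Cfsg.Agent.Lib.H27.SimpleStab

/-!
helper27 library: the McLaughlin group `Stab(V0, W0)` has orbits of lengths
1, 275, 2025, 7128, 15400, 22275 on the 47104 minimal vectors `x` with `x · V0 = -8`,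
distinguished by the inner product with `W0`; a monomial element of order 5 fixes exactly 24
of these vectors.
-/

set_option autoImplicit false

namespace Cfsg.Agent.Lib.H27

open Cfsg Finset Cfsg.Agent.Lib.H28 Cfsg.Agent.Lib.H27.Eng

/-- The minimal vectors with inner product `-8` with `v`. -/
def co2Set (v : leechLattice) : Set leechLattice :=
  {x : leechLattice | sqNorm (x : GolayPt → ℤ) = 32 ∧
    dotInt (v : GolayPt → ℤ) (x : GolayPt → ℤ) = -8}

theorem smul_mem_co2Set (g : Co0) {v x : leechLattice} (hx : x ∈ co2Set v) :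
    g • x ∈ co2Set (g • v) :=
  ⟨by rw [Co0_sqNorm]; exact hx.1, by rw [Co0_dot]; exact hx.2⟩

theorem ncard_co2Set (v : leechLattice) (hv : sqNorm (v : GolayPt → ℤ) = 32) :
    (co2Set v).ncard = 47104 := by
  unfold co2Set
  rw [ncard_dot_sub, nT_neg, nT_8 (mem_MinF.2 ⟨v.2, hv⟩)]

namespace Co2Data

open McLData McL2025Data

theorem W0_mem : W0 ∈ co2Set V0 := ⟨sqNorm_W0, dot_V0_W0⟩

theorem ncard_std' : (co2Set V0).ncard = 47104 := ncard_co2Set V0 sqNorm_V0

theorem co2Set_finite : (co2Set V0).Finite :=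
  Set.finite_of_ncard_pos (by rw [ncard_std']; norm_num)

theorem inv_set (g : Co0) (hg : Fixes g [u0, McLData.v0]) : ∀ y ∈ co2Set V0,
    g • y ∈ co2Set V0 := by
  intro y hy
  rw [McLData.fixes_iff] at hg
  have := smul_mem_co2Set g hy
  rwa [hg.2] at this

theorem inv_sub (t : ℤ) (g : Co0) (hg : Fixes g [u0, McLData.v0]) :
    ∀ y ∈ dotSub (co2Set V0) W0 t, g • y ∈ dotSub (co2Set V0) W0 t := by
  intro y hy
  refine ⟨inv_set g hg y hy.1, ?_⟩
  rw [McLData.fixes_iff] at hg
  have h := Co0_dot g W0 y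
  rw [smul_W0 hg.1 hg.2] at h
  rw [h]; exact hy.2

theorem root_mem {r : V} {t : ℤ} (hr : inLeech (toFn r) = true)
    (hd : dotL r r = 32 ∧ dotL McLData.v0 r = -8 ∧ dotL w0 r = t) :
    (⟨toFn r, mem_of_inLeech hr⟩ : leechLattice) ∈ dotSub (co2Set V0) W0 t := by
  refine ⟨⟨?_, ?_⟩, ?_⟩
  · show sqNorm (toFn r) = 32
    rw [← sqNorm_spec]; exact hd.1
  · show dotInt (toFn McLData.v0) (toFn r) = -8
    rw [← dotL_spec]; exact hd.2.1
  · show dotInt (toFn w0) (toFn r) = t
    rw [← dotL_spec]; exact hd.2.2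

theorem orbListA : OrbList [u0, McLData.v0] aroot (forestList McLData.sg achunks) ∧
    (forestList McLData.sg achunks).length = 275 ∧
    ((forestList McLData.sg achunks).filter (fixedBy wCo2)).length = 5 := by
  have h := forest_orbList (ts := [u0, McLData.v0]) McLData.sg_ok McLData.fix_ok
    (mem_of_inLeech aroot_mem) aall_ok alink_ok amerge_ok
  exact ⟨h.1, h.2.1, by rw [h.2.2, astat_sum]⟩

theorem orbListB : OrbList [u0, McLData.v0] broot (forestList McLData.sg bchunks) ∧
    (forestList McLData.sg bchunks).length = 2025 ∧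
    ((forestList McLData.sg bchunks).filter (fixedBy wCo2)).length = 5 := by
  have h := forest_orbList (ts := [u0, McLData.v0]) McLData.sg_ok McLData.fix_ok
    (mem_of_inLeech broot_mem) ball_ok blink_ok bmerge_ok
  exact ⟨h.1, h.2.1, by rw [h.2.2, bstat_sum]⟩

theorem orbListC : OrbList [u0, McLData.v0] croot (forestList McLData.sg cchunks) ∧
    (forestList McLData.sg cchunks).length = 7128 ∧
    ((forestList McLData.sg cchunks).filter (fixedBy wCo2)).length = 3 := by
  have h := forest_orbList (ts := [u0, McLData.v0]) McLData.sg_ok McLData.fix_ok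
    (mem_of_inLeech croot_mem) call_ok clink_ok cmerge_ok
  exact ⟨h.1, h.2.1, by rw [h.2.2, cstat_sum]⟩

theorem orbListD : OrbList [u0, McLData.v0] droot (forestList McLData.sg dchunks) ∧
    (forestList McLData.sg dchunks).length = 15400 ∧
    ((forestList McLData.sg dchunks).filter (fixedBy wCo2)).length = 5 := by
  have h := forest_orbList (ts := [u0, McLData.v0]) McLData.sg_ok McLData.fix_ok
    (mem_of_inLeech droot_mem) dall_ok dlink_ok dmerge_ok
  exact ⟨h.1, h.2.1, by rw [h.2.2, dstat_sum]⟩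

theorem orbListE : OrbList [u0, McLData.v0] eroot (forestList McLData.sg echunks) ∧
    (forestList McLData.sg echunks).length = 22275 ∧
    ((forestList McLData.sg echunks).filter (fixedBy wCo2)).length = 5 := by
  have h := forest_orbList (ts := [u0, McLData.v0]) McLData.sg_ok McLData.fix_ok
    (mem_of_inLeech eroot_mem) eall_ok elink_ok emerge_ok
  exact ⟨h.1, h.2.1, by rw [h.2.2, estat_sum]⟩

theorem sub_subset (t : ℤ) : dotSub (co2Set V0) W0 t ⊆ co2Set V0 := fun _ hy => hy.1

theorem counts_and_union : (dotSub (co2Set V0) W0 (-16)).ncard = 275 ∧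
    (dotSub (co2Set V0) W0 16).ncard = 2025 ∧ (dotSub (co2Set V0) W0 (-8)).ncard = 7128 ∧
    (dotSub (co2Set V0) W0 8).ncard = 15400 ∧ (dotSub (co2Set V0) W0 0).ncard = 22275 ∧
    dotSub (co2Set V0) W0 (-16) ∪ dotSub (co2Set V0) W0 16 ∪ dotSub (co2Set V0) W0 (-8) ∪
      dotSub (co2Set V0) W0 8 ∪ dotSub (co2Set V0) W0 0 = co2Set V0 \ {W0} := by
  have fA := co2Set_finite.subset (sub_subset (-16))
  have fB := co2Set_finite.subset (sub_subset 16)
  have fC := co2Set_finite.subset (sub_subset (-8))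
  have fD := co2Set_finite.subset (sub_subset 8)
  have fE := co2Set_finite.subset (sub_subset 0)
  have lA : 275 ≤ (dotSub (co2Set V0) W0 (-16)).ncard := by
    have := orbListA.1.lower _ fA
      (by rw [mkL_of_mem (mem_of_inLeech aroot_mem)]; exact root_mem aroot_mem aroot_dots)
      (inv_sub (-16))
    rwa [orbListA.2.1] at this
  have lB : 2025 ≤ (dotSub (co2Set V0) W0 16).ncard := by
    have := orbListB.1.lower _ fB
      (by rw [mkL_of_mem (mem_of_inLeech broot_mem)]; exact root_mem broot_mem broot_dots)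
      (inv_sub 16)
    rwa [orbListB.2.1] at this
  have lC : 7128 ≤ (dotSub (co2Set V0) W0 (-8)).ncard := by
    have := orbListC.1.lower _ fC
      (by rw [mkL_of_mem (mem_of_inLeech croot_mem)]; exact root_mem croot_mem croot_dots)
      (inv_sub (-8))
    rwa [orbListC.2.1] at this
  have lD : 15400 ≤ (dotSub (co2Set V0) W0 8).ncard := by
    have := orbListD.1.lower _ fD
      (by rw [mkL_of_mem (mem_of_inLeech droot_mem)]; exact root_mem droot_mem droot_dots)
      (inv_sub 8)
    rwa [orbListD.2.1] at this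
  have lE : 22275 ≤ (dotSub (co2Set V0) W0 0).ncard := by
    have := orbListE.1.lower _ fE
      (by rw [mkL_of_mem (mem_of_inLeech eroot_mem)]; exact root_mem eroot_mem eroot_dots)
      (inv_sub 0)
    rwa [orbListE.2.1] at this
  have hdisj : ∀ s t : ℤ, s ≠ t →
      Disjoint (dotSub (co2Set V0) W0 s) (dotSub (co2Set V0) W0 t) := by
    intro s t hst
    rw [Set.disjoint_left]
    intro y h1 h2
    exact hst (h1.2.symm.trans h2.2)
  have d1 : Disjoint (dotSub (co2Set V0) W0 (-16)) (dotSub (co2Set V0) W0 16) :=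
    hdisj _ _ (by norm_num)
  have d2 : Disjoint (dotSub (co2Set V0) W0 (-16) ∪ dotSub (co2Set V0) W0 16)
      (dotSub (co2Set V0) W0 (-8)) := by
    rw [Set.disjoint_union_left]
    exact ⟨hdisj _ _ (by norm_num), hdisj _ _ (by norm_num)⟩
  have d3 : Disjoint (dotSub (co2Set V0) W0 (-16) ∪ dotSub (co2Set V0) W0 16 ∪
      dotSub (co2Set V0) W0 (-8)) (dotSub (co2Set V0) W0 8) := by
    rw [Set.disjoint_union_left, Set.disjoint_union_left]
    exact ⟨⟨hdisj _ _ (by norm_num), hdisj _ _ (by norm_num)⟩, hdisj _ _ (by norm_num)⟩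
  have d4 : Disjoint (dotSub (co2Set V0) W0 (-16) ∪ dotSub (co2Set V0) W0 16 ∪
      dotSub (co2Set V0) W0 (-8) ∪ dotSub (co2Set V0) W0 8) (dotSub (co2Set V0) W0 0) := by
    rw [Set.disjoint_union_left, Set.disjoint_union_left, Set.disjoint_union_left]
    exact ⟨⟨⟨hdisj _ _ (by norm_num), hdisj _ _ (by norm_num)⟩, hdisj _ _ (by norm_num)⟩,
      hdisj _ _ (by norm_num)⟩
  have c1 := Set.ncard_union_eq d1 fA fB
  have c2 := Set.ncard_union_eq d2 (fA.union fB) fC
  have c3 := Set.ncard_union_eq d3 ((fA.union fB).union fC) fD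
  have c4 := Set.ncard_union_eq d4 (((fA.union fB).union fC).union fD) fE
  have hunion : dotSub (co2Set V0) W0 (-16) ∪ dotSub (co2Set V0) W0 16 ∪
      dotSub (co2Set V0) W0 (-8) ∪ dotSub (co2Set V0) W0 8 ∪ dotSub (co2Set V0) W0 0
      ⊆ co2Set V0 \ {W0} := by
    have key : ∀ t : ℤ, t ≠ 32 → dotSub (co2Set V0) W0 t ⊆ co2Set V0 \ {W0} := by
      intro t ht y hy
      refine ⟨hy.1, ?_⟩
      intro h
      rw [Set.mem_singleton_iff] at h
      have h2 := hy.2
      rw [h, dotInt_self, sqNorm_W0] at h2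
      exact ht h2.symm
    intro y hy
    rcases hy with (((hy | hy) | hy) | hy) | hy
    · exact key _ (by norm_num) hy
    · exact key _ (by norm_num) hy
    · exact key _ (by norm_num) hy
    · exact key _ (by norm_num) hy
    · exact key _ (by norm_num) hy
  have h47103 : (co2Set V0 \ {W0}).ncard = 47103 := by
    rw [Set.ncard_sdiff_singleton_of_mem W0_mem, ncard_std']
  have hle := Set.ncard_le_ncard hunion (co2Set_finite.subset Set.sdiff_subset)
  refine ⟨by omega, by omega, by omega, by omega, by omega, ?_⟩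
  exact Set.eq_of_subset_of_ncard_le hunion (by omega) (co2Set_finite.subset Set.sdiff_subset)

theorem trans_sub {r : V} {t : ℤ} {cs : List Chunk} {n : ℕ} (hr : inLeech (toFn r) = true)
    (hmem : (⟨toFn r, mem_of_inLeech hr⟩ : leechLattice) ∈ dotSub (co2Set V0) W0 t)
    (hL : OrbList [u0, McLData.v0] r (forestList McLData.sg cs))
    (hlen : (forestList McLData.sg cs).length = n)
    (hn : 0 < n) (hcard : (dotSub (co2Set V0) W0 t).ncard = n) :
    ∀ y ∈ dotSub (co2Set V0) W0 t, ∀ y' ∈ dotSub (co2Set V0) W0 t,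
      ∃ g : Co0, g • V0 = V0 ∧ g • W0 = W0 ∧ g • y = y' := by
  have h := hL.trans (dotSub (co2Set V0) W0 t)
    (by rw [mkL_of_mem (mem_of_inLeech hr)]; exact hmem) (inv_sub t)
    (by rw [hlen]; exact hn) (by rw [hlen]; exact hcard)
  intro y hy y' hy'
  obtain ⟨g, hg, hgy⟩ := h y hy y' hy'
  rw [McLData.fixes_iff] at hg
  exact ⟨g, hg.2, smul_W0 hg.1 hg.2, hgy⟩

theorem trans_std' (t : ℤ) : ∀ y ∈ dotSub (co2Set V0) W0 t, ∀ y' ∈ dotSub (co2Set V0) W0 t,
    ∃ g : Co0, g • V0 = V0 ∧ g • W0 = W0 ∧ g • y = y' := by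
  intro y hy y' hy'
  by_cases hyx : y = W0
  · have ht : t = 32 := by
      have := hy.2
      rw [hyx, dotInt_self, sqNorm_W0] at this
      exact this.symm
    rw [ht, dotSub_32 _ _ W0_mem (fun z hz => hz.1)] at hy hy'
    have e : y = W0 := hy
    have e' : y' = W0 := hy'
    exact ⟨1, one_smul _ _, one_smul _ _, by rw [one_smul, e, e']⟩
  · have hmem : y ∈ co2Set V0 \ {W0} := ⟨hy.1, hyx⟩
    rw [← counts_and_union.2.2.2.2.2] at hmem
    rcases hmem with (((h | h) | h) | h) | h
    · have ht : t = -16 := hy.2.symm.trans h.2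
      subst ht
      exact trans_sub aroot_mem (root_mem aroot_mem aroot_dots) orbListA.1 orbListA.2.1
        (by norm_num) counts_and_union.1 y hy y' hy'
    · have ht : t = 16 := hy.2.symm.trans h.2
      subst ht
      exact trans_sub broot_mem (root_mem broot_mem broot_dots) orbListB.1 orbListB.2.1
        (by norm_num) counts_and_union.2.1 y hy y' hy'
    · have ht : t = -8 := hy.2.symm.trans h.2
      subst ht
      exact trans_sub croot_mem (root_mem croot_mem croot_dots) orbListC.1 orbListC.2.1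
        (by norm_num) counts_and_union.2.2.1 y hy y' hy'
    · have ht : t = 8 := hy.2.symm.trans h.2
      subst ht
      exact trans_sub droot_mem (root_mem droot_mem droot_dots) orbListD.1 orbListD.2.1
        (by norm_num) counts_and_union.2.2.2.1 y hy y' hy'
    · have ht : t = 0 := hy.2.symm.trans h.2
      subst ht
      exact trans_sub eroot_mem (root_mem eroot_mem eroot_dots) orbListE.1 orbListE.2.1
        (by norm_num) counts_and_union.2.2.2.2.1 y hy y' hy'

/-! ### The fixed points of `wCo2` -/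

theorem wCo2_all_ok : wCo2.all Gen.ok = true := ok_of_sgOK wCo2_ok (by simp)

theorem wCo2_fixes : wordCo0 wCo2 • V0 = V0 ∧ wordCo0 wCo2 • W0 = W0 := by
  have h := fixes_of_fixOK wCo2_ok wCo2_fix (w := wCo2) (by simp)
  exact ⟨h McLData.v0 (by simp) _, h w0 (by simp) _⟩

theorem fixed_sub {r : V} {t : ℤ} {cs : List Chunk} {n k : ℕ} (hr : inLeech (toFn r) = true)
    (hmem : (⟨toFn r, mem_of_inLeech hr⟩ : leechLattice) ∈ dotSub (co2Set V0) W0 t)
    (hL : OrbList [u0, McLData.v0] r (forestList McLData.sg cs))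
    (hlen : (forestList McLData.sg cs).length = n)
    (hk : ((forestList McLData.sg cs).filter (fixedBy wCo2)).length = k)
    (hn : 0 < n) (hcard : (dotSub (co2Set V0) W0 t).ncard = n) :
    {z | z ∈ dotSub (co2Set V0) W0 t ∧ wordCo0 wCo2 • z = z}.ncard = k := by
  have h := hL.ncard_fixed (dotSub (co2Set V0) W0 t)
    (by rw [mkL_of_mem (mem_of_inLeech hr)]; exact hmem) (inv_sub t)
    (by rw [hlen]; exact hn) (by rw [hlen]; exact hcard) wCo2 wCo2_all_ok
  rw [h, hk]

end Co2Data

end Cfsg.Agent.Lib.H27
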