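/-
helper27 library: counting the members with a property in a finite disjoint union.
-/
import Mathlib
import Cfsg.Agent.Lib.H27.SimpleStab

set_option autoImplicit false

namespace Cfsg.Agent.Lib.H27

/-- The number of members of a finite disjoint union with a property is the sum of the numbers
in the parts. -/
theorem ncard_sep_iUnion {α ι : Type*} [Fintype ι] [DecidableEq ι] (O : ι → Set α)
    (P : α → Prop) (hfin : ∀ i, (O i).Finite) (hdisj : ∀ i j, i ≠ j → Disjoint (O i) (O j)) :
    {z | z ∈ ⋃ i, O i ∧ P z}.ncard = ∑ i, {z | z ∈ O i ∧ P z}.ncard := by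
  have h := (ncard_biUnion_fin (fun i => {z | z ∈ O i ∧ P z}) Finset.univ
    (fun i _ => (hfin i).subset (fun z hz => hz.1))
    (fun i j hij => (hdisj i j hij).mono (fun z hz => hz.1) (fun z hz => hz.1))).1
  rw [← h]
  congr 1
  ext z
  simp only [Set.mem_ofPred_eq, Set.mem_iUnion, Finset.mem_univ, exists_true_left]
  constructor
  · rintro ⟨⟨i, hi⟩, hP⟩
    exact ⟨i, hi, hP⟩
  · rintro ⟨i, hi, hP⟩
    exact ⟨⟨i, hi⟩, hP⟩

end Cfsg.Agent.Lib.H27
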