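/-
helper27 library: the stabilizer of a vector of type 2 of the Leech lattice is simple of
order 42305421312000.
-/
import Mathlib
import Cfsg.Prelude.Def_Sporadic_a
import Cfsg.Agent.Lib.H27.McLSimple
import Cfsg.Agent.Lib.H27.Co2McL
import Cfsg.Agent.Lib.H27.SepUnion

set_option autoImplicit false

namespace Cfsg.Agent.Lib.H27

open Cfsg MulAction Cfsg.Agent.Lib.H28 Cfsg.Agent.Lib.H27.Eng

namespace Co2Data

open McLData McL2025Data

/-- The standard group `Co2`. -/
abbrev K2 : Subgroup Co0 := stabilizer Co0 V0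

def t2 : Fin 6 → ℤ := ![32, -16, 16, -8, 8, 0]

def c2 : Fin 6 → ℕ := ![1, 275, 2025, 7128, 15400, 22275]

theorem K2_inv : ∀ g ∈ K2, ∀ y ∈ co2Set V0, g • y ∈ co2Set V0 := by
  intro g hg y hy
  have := smul_mem_co2Set g hy
  rwa [mem_stabilizer_iff.1 hg] at this

theorem K2_tr : ∀ y ∈ co2Set V0, ∃ g ∈ K2, g • W0 = y := by
  intro y hy
  obtain ⟨g, hg, hgy⟩ := trans_pairs V0 W0 y sqNorm_V0 sqNorm_W0 hy.1 (Or.inr rfl)
    dot_V0_W0 hy.2
  exact ⟨g, hg, hgy⟩

theorem K2_cases : ∀ y ∈ co2Set V0,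
    ∃ i, dotInt (W0 : GolayPt → ℤ) (y : GolayPt → ℤ) = t2 i := by
  intro y hy
  by_cases hyx : y = W0
  · exact ⟨0, by rw [hyx, dotInt_self, sqNorm_W0]; rfl⟩
  · have hmem : y ∈ co2Set V0 \ {W0} := ⟨hy, hyx⟩
    rw [← counts_and_union.2.2.2.2.2] at hmem
    rcases hmem with (((h | h) | h) | h) | h
    · exact ⟨1, h.2⟩
    · exact ⟨2, h.2⟩
    · exact ⟨3, h.2⟩
    · exact ⟨4, h.2⟩
    · exact ⟨5, h.2⟩

theorem K2_trans : ∀ i, ∀ y ∈ dotSub (co2Set V0) W0 (t2 i),
    ∀ y' ∈ dotSub (co2Set V0) W0 (t2 i), ∃ g ∈ K2, g • W0 = W0 ∧ g • y = y' := by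
  intro i y hy y' hy'
  obtain ⟨g, h1, h2, h3⟩ := trans_std' (t2 i) y hy y' hy'
  exact ⟨g, h1, h2, h3⟩

theorem K2_card : ∀ i, (dotSub (co2Set V0) W0 (t2 i)).ncard = c2 i := by
  intro i
  fin_cases i
  · show (dotSub (co2Set V0) W0 32).ncard = 1
    rw [dotSub_32 _ _ W0_mem (fun y hy => hy.1)]
    exact Set.ncard_singleton W0
  · exact counts_and_union.1
  · exact counts_and_union.2.1
  · exact counts_and_union.2.2.1
  · exact counts_and_union.2.2.2.1
  · exact counts_and_union.2.2.2.2.1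

theorem K2_fin : ∀ i, (dotSub (co2Set V0) W0 (t2 i)).Finite :=
  fun i => co2Set_finite.subset (sub_subset (t2 i))

theorem wCo2_count : {z | z ∈ co2Set V0 ∧ wordCo0 wCo2 • z = z}.ncard = 24 := by
  have hcov := dotSub_cover (co2Set V0) W0 t2 K2_cases
  have h := ncard_sep_iUnion (fun i => dotSub (co2Set V0) W0 (t2 i))
    (fun z => wordCo0 wCo2 • z = z) K2_fin (dotSub_disj _ _ t2 (by decide))
  rw [← hcov] at h
  rw [h]
  have e0 : {z | z ∈ dotSub (co2Set V0) W0 (t2 0) ∧ wordCo0 wCo2 • z = z}.ncard = 1 := by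
    have : {z | z ∈ dotSub (co2Set V0) W0 (t2 0) ∧ wordCo0 wCo2 • z = z} = {W0} := by
      show {z | z ∈ dotSub (co2Set V0) W0 32 ∧ wordCo0 wCo2 • z = z} = {W0}
      rw [dotSub_32 _ _ W0_mem (fun y hy => hy.1)]
      ext z
      simp only [Set.mem_ofPred_eq, Set.mem_singleton_iff]
      constructor
      · exact fun h => h.1
      · rintro rfl
        exact ⟨rfl, wCo2_fixes.2⟩
    rw [this]
    exact Set.ncard_singleton W0
  have e1 := fixed_sub aroot_mem (root_mem aroot_mem aroot_dots) orbListA.1 orbListA.2.1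
    orbListA.2.2 (by norm_num) counts_and_union.1
  have e2 := fixed_sub broot_mem (root_mem broot_mem broot_dots) orbListB.1 orbListB.2.1
    orbListB.2.2 (by norm_num) counts_and_union.2.1
  have e3 := fixed_sub croot_mem (root_mem croot_mem croot_dots) orbListC.1 orbListC.2.1
    orbListC.2.2 (by norm_num) counts_and_union.2.2.1
  have e4 := fixed_sub droot_mem (root_mem droot_mem droot_dots) orbListD.1 orbListD.2.1
    orbListD.2.2 (by norm_num) counts_and_union.2.2.2.1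
  have e5 := fixed_sub eroot_mem (root_mem eroot_mem eroot_dots) orbListE.1 orbListE.2.1
    orbListE.2.2 (by norm_num) counts_and_union.2.2.2.2.1
  rw [Fin.sum_univ_six]
  have f1 : t2 1 = -16 := rfl
  have f2 : t2 2 = 16 := rfl
  have f3 : t2 3 = -8 := rfl
  have f4 : t2 4 = 8 := rfl
  have f5 : t2 5 = 0 := rfl
  rw [e0, f1, f2, f3, f4, f5, e1, e2, e3, e4, e5]

/-- The standard group `Co2` is simple. -/
theorem isSimpleGroup_K2 : IsSimpleGroup ↥K2 :=
  isSimpleGroup_sub K2 W0 (co2Set V0) W0_mem K2_inv K2_tr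
    (fun i => dotSub (co2Set V0) W0 (t2 i)) c2 0
    (dotSub_32 _ _ W0_mem (fun y hy => hy.1))
    (dotSub_cover _ _ t2 K2_cases) (dotSub_disj _ _ t2 (by decide))
    K2_trans K2_card isSimpleGroup_KM (by decide) ⟨1, by decide⟩ 47104 ncard_std'
    (wordCo0 wCo2) wCo2_fixes.1 24 wCo2_count (by norm_num) (by norm_num)

end Co2Data

open McLData Co2Data

/-- The stabilizer of a vector of type 2 is simple of order 42305421312000. -/
theorem isCo2_stab (v : leechLattice) (hv : sqNorm (v : GolayPt → ℤ) = 32) :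
    IsSimpleGroup ↥(stabilizer Co0 v) ∧ Nat.card ↥(stabilizer Co0 v) = 42305421312000 := by
  refine ⟨?_, card_stab32 v hv⟩
  obtain ⟨h, h1⟩ := co0_trans32 v V0 hv sqNorm_V0
  have e := conjStabEquiv h v
  rw [h1] at e
  have := isSimpleGroup_K2
  exact e.isSimpleGroup

end Cfsg.Agent.Lib.H27
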