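/-
helper27 library: `Co0` modulo its centre is simple of order 4157776806543360000.
-/
import Mathlib
import Cfsg.Prelude.Def_Sporadic_a
import Cfsg.Agent.Lib.H27.Co2Simple
import Cfsg.Agent.Lib.H27.SignFix
import Cfsg.Agent.Lib.H27.Co0Pairs

set_option autoImplicit false

namespace Cfsg.Agent.Lib.H27

open Cfsg MulAction Cfsg.Agent.Lib.H28 Cfsg.Agent.Lib.H27.Eng

namespace Co1Data

open McLData SignFix

/-- The minimal vectors. -/
def L2 : Set leechLattice := {x : leechLattice | sqNorm (x : GolayPt → ℤ) = 32}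

def t1 : Fin 7 → ℤ := ![32, -32, 16, -16, 8, -8, 0]

def c1 : Fin 7 → ℕ := ![1, 1, 4600, 4600, 47104, 47104, 93150]

theorem V0_mem_L2 : V0 ∈ L2 := sqNorm_V0

theorem orbit_V0 : orbit Co0 V0 = L2 := by
  ext y
  constructor
  · rintro ⟨g, rfl⟩
    show sqNorm ((g • V0 : leechLattice) : GolayPt → ℤ) = 32
    rw [Co0_sqNorm]; exact sqNorm_V0
  · intro hy
    obtain ⟨g, hg⟩ := co0_trans32 V0 y sqNorm_V0 hy
    exact ⟨g, hg⟩

theorem V0_MinF : (V0 : GolayPt → ℤ) ∈ MinF := mem_MinF.2 ⟨V0.2, sqNorm_V0⟩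

theorem L2_cases : ∀ y ∈ L2, ∃ i, dotInt (V0 : GolayPt → ℤ) (y : GolayPt → ℤ) = t1 i := by
  intro y hy
  have h := dot_cases V0_MinF (mem_MinF.2 ⟨y.2, hy⟩)
  simp only [Finset.mem_insert, Finset.mem_singleton] at h
  rcases h with h | h | h | h | h | h | h
  · exact ⟨0, h⟩
  · exact ⟨2, h⟩
  · exact ⟨4, h⟩
  · exact ⟨6, h⟩
  · exact ⟨5, h⟩
  · exact ⟨3, h⟩
  · exact ⟨1, h⟩

theorem L2_card : ∀ i, (dotSub L2 V0 (t1 i)).ncard = c1 i := by
  have key : ∀ t : ℤ, (dotSub L2 V0 t).ncard = nT (V0 : GolayPt → ℤ) t := by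
    intro t
    exact ncard_dot_sub V0 t
  intro i
  rw [key]
  fin_cases i
  · exact nT_32 V0_MinF
  · show nT (V0 : GolayPt → ℤ) (-32) = 1
    rw [nT_neg]; exact nT_32 V0_MinF
  · exact nT_16 V0_MinF
  · show nT (V0 : GolayPt → ℤ) (-16) = 4600
    rw [nT_neg]; exact nT_16 V0_MinF
  · exact nT_8 V0_MinF
  · show nT (V0 : GolayPt → ℤ) (-8) = 47104
    rw [nT_neg]; exact nT_8 V0_MinF
  · exact nT_zero V0_MinF

theorem dot_neg_right (a b : GolayPt → ℤ) : dotInt a (-b) = -dotInt a b := by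
  unfold dotInt
  rw [← Finset.sum_neg_distrib]
  apply Finset.sum_congr rfl
  intro i _
  simp only [Pi.neg_apply]
  ring

theorem trans_neg {t : ℤ} (ht : t = -16 ∨ t = -8) (y y' : leechLattice)
    (hy : y ∈ dotSub L2 V0 (-t)) (hy' : y' ∈ dotSub L2 V0 (-t)) :
    ∃ h : Co0, h • V0 = V0 ∧ h • y = y' := by
  have hn : sqNorm ((-y : leechLattice) : GolayPt → ℤ) = 32 := by
    have e : ((-y : leechLattice) : GolayPt → ℤ) = -(y : GolayPt → ℤ) := rfl
    rw [e, sqNorm_neg']; exact hy.1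
  have hn' : sqNorm ((-y' : leechLattice) : GolayPt → ℤ) = 32 := by
    have e : ((-y' : leechLattice) : GolayPt → ℤ) = -(y' : GolayPt → ℤ) := rfl
    rw [e, sqNorm_neg']; exact hy'.1
  have hd : dotInt (V0 : GolayPt → ℤ) ((-y : leechLattice) : GolayPt → ℤ) = t := by
    have e : ((-y : leechLattice) : GolayPt → ℤ) = -(y : GolayPt → ℤ) := rfl
    rw [e, dot_neg_right, hy.2]; ring
  have hd' : dotInt (V0 : GolayPt → ℤ) ((-y' : leechLattice) : GolayPt → ℤ) = t := by
    have e : ((-y' : leechLattice) : GolayPt → ℤ) = -(y' : GolayPt → ℤ) := rfl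
    rw [e, dot_neg_right, hy'.2]; ring
  obtain ⟨g, hg, hgy⟩ := trans_pairs V0 (-y) (-y') sqNorm_V0 hn hn' ht hd hd'
  refine ⟨g, hg, ?_⟩
  rw [Co0_smul_neg] at hgy
  exact neg_injective hgy

theorem L2_trans : ∀ i, ∀ y ∈ dotSub L2 V0 (t1 i), ∀ y' ∈ dotSub L2 V0 (t1 i),
    ∃ h : Co0, h • V0 = V0 ∧ h • y = y' := by
  intro i y hy y' hy'
  fin_cases i
  · -- 32
    have e : dotSub L2 V0 32 = {V0} := dotSub_32 _ _ V0_mem_L2 (fun z hz => hz)
    have h1 : y ∈ dotSub L2 V0 32 := hy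
    have h2 : y' ∈ dotSub L2 V0 32 := hy'
    rw [e] at h1 h2
    have e1 : y = V0 := h1
    have e2 : y' = V0 := h2
    exact ⟨1, one_smul _ _, by rw [one_smul, e1, e2]⟩
  · -- -32
    have key : ∀ z ∈ dotSub L2 V0 (-32), z = -V0 := by
      intro z hz
      have h2 := sqNorm_add' (V0 : GolayPt → ℤ) (z : GolayPt → ℤ)
      rw [sqNorm_V0, hz.1, hz.2] at h2
      have h3 := sqNorm_eq_zero (x := (V0 : GolayPt → ℤ) + (z : GolayPt → ℤ)) (by omega)
      apply Subtype.ext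
      have e : ((-V0 : leechLattice) : GolayPt → ℤ) = -(V0 : GolayPt → ℤ) := rfl
      rw [e]
      exact eq_neg_of_add_eq_zero_right h3
    have e1 : y = -V0 := key y hy
    have e2 : y' = -V0 := key y' hy'
    exact ⟨1, one_smul _ _, by rw [one_smul, e1, e2]⟩
  · exact trans_neg (t := -16) (Or.inl rfl) y y' hy hy'
  · obtain ⟨g, hg, hgy⟩ := trans_pairs V0 y y' sqNorm_V0 hy.1 hy'.1 (Or.inl rfl) hy.2 hy'.2
    exact ⟨g, hg, hgy⟩
  · exact trans_neg (t := -8) (Or.inr rfl) y y' hy hy'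
  · obtain ⟨g, hg, hgy⟩ := trans_pairs V0 y y' sqNorm_V0 hy.1 hy'.1 (Or.inr rfl) hy.2 hy'.2
    exact ⟨g, hg, hgy⟩
  · obtain ⟨g, hg, hgy⟩ := trans_orth_pairs V0 y V0 y' sqNorm_V0 hy.1 hy.2 sqNorm_V0 hy'.1 hy'.2
    exact ⟨g, hg, hgy⟩

theorem subData : SubData Co0 V0 (Fin 7) (fun i => dotSub L2 V0 (t1 i)) c1 0 where
  base := dotSub_32 _ _ V0_mem_L2 (fun z hz => hz)
  cover := by rw [orbit_V0]; exact dotSub_cover L2 V0 t1 L2_cases
  disj := dotSub_disj L2 V0 t1 (by decide)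
  trans := L2_trans
  card := L2_card

theorem ncard_L2 : L2.ncard = 196560 := ncard_type32

theorem nonRegular : NonRegular Co0 V0 := by
  have hne : fixSet.Nonempty := by
    apply Set.nonempty_of_ncard_ne_zero
    rw [ncard_fixSet]; norm_num
  obtain ⟨z, hz⟩ := hne
  refine ⟨epsD, ⟨z, ?_, hz.2⟩, ?_⟩
  · rw [orbit_V0]; exact hz.1
  · rw [orbit_V0, ncard_L2]
    have e : {z ∈ L2 | epsD • z = z} = fixSet := rfl
    rw [e, ncard_fixSet]
    norm_num

/-- Every normal subgroup of `Co0` is central or everything. -/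
theorem normal_cases (N : Subgroup Co0) [N.Normal] : N ≤ Subgroup.center Co0 ∨ N = ⊤ :=
  normal_le_center_or_eq_top subData Co2Data.isSimpleGroup_K2 (by decide +kernel) ⟨2, by decide⟩ nonRegular N

end Co1Data

open Co1Data

/-- `Co0` modulo its centre is simple of order 4157776806543360000. -/
theorem isCo1_quot : IsSimpleGroup (Co0 ⧸ Subgroup.center Co0) ∧
    Nat.card (Co0 ⧸ Subgroup.center Co0) = 4157776806543360000 := by
  have hcard : Nat.card (Co0 ⧸ Subgroup.center Co0) = 4157776806543360000 := by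
    have h := Subgroup.card_eq_card_quotient_mul_card_subgroup (Subgroup.center Co0)
    rw [card_Co0, card_center_Co0] at h
    omega
  refine ⟨?_, hcard⟩
  have hnt : Nontrivial (Co0 ⧸ Subgroup.center Co0) := by
    have hfin : Finite (Co0 ⧸ Subgroup.center Co0) := inferInstance
    rw [← Finite.one_lt_card_iff_nontrivial, hcard]
    norm_num
  refine { toNontrivial := hnt, eq_bot_or_eq_top_of_normal := ?_ }
  intro M hM
  have hsurj : Function.Surjective (QuotientGroup.mk' (Subgroup.center Co0)) :=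
    QuotientGroup.mk'_surjective _
  have hN : (M.comap (QuotientGroup.mk' (Subgroup.center Co0))).Normal := hM.comap _
  rcases normal_cases (M.comap (QuotientGroup.mk' (Subgroup.center Co0))) with h | h
  · left
    rw [eq_bot_iff]
    intro q hq
    obtain ⟨g, rfl⟩ := hsurj q
    have hg : g ∈ M.comap (QuotientGroup.mk' (Subgroup.center Co0)) := hq
    have hc := h hg
    rw [Subgroup.mem_bot]
    exact (QuotientGroup.eq_one_iff g).2 hc
  · right
    rw [eq_top_iff]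
    intro q _
    obtain ⟨g, rfl⟩ := hsurj q
    have hg : g ∈ M.comap (QuotientGroup.mk' (Subgroup.center Co0)) := by rw [h]; trivial
    exact hg

end Cfsg.Agent.Lib.H27
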