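/-
helper27 library (generated by scripts/gen_co2.py): orbits of the McLaughlin group
`Stab(u0, v0)` on the minimal vectors `x` with `x · v0 = -8`, by the value of `x · w0`;
the statistics count the vectors fixed by the word `wCo2`.
-/
import Cfsg.Agent.Lib.H27.McL2025Data
import Cfsg.Agent.Lib.H27.FixCount

set_option autoImplicit false
set_option maxRecDepth 1000000

namespace Cfsg.Agent.Lib.H27.Co2Data

open Cfsg.Agent.Lib.H27.Eng

def wCo2 : List Gen := [Gen.mono [0, 1, 10, 20, 11, 4, 3, 6, 18, 16, 21, 22, 12, 2, 5, 7, 19, 17, 9, 8, 15, 23, 14, 13] [0, 1, 13, 6, 5, 14, 7, 15, 19, 18, 2, 4, 12, 23, 22, 20, 9, 17, 8, 16, 3, 10, 11, 21] 0]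
def aroot : V := [-2, 0, -2, -2, -2, -2, 0, 0, 0, 0, 0, 0, 0, 0, 0, -2, 0, 0, 0, 0, -2, 0, -2, 0]
def broot : V := [0, -2, -2, 0, 0, 0, 0, 0, 0, 0, 0, 0, 0, 0, 2, 0, 2, 0, 2, 2, 2, 0, 0, 2]
def croot : V := [-2, 0, -2, -2, -2, -2, 0, 0, 0, 0, 0, 0, 0, 0, 0, -2, 0, 0, 0, 0, 2, 0, 2, 0]
def droot : V := [-2, 0, -2, 0, 0, 0, 0, 0, 0, 0, 0, 0, 0, 2, 2, 2, 2, 2, 0, 0, 2, 0, 0, 0]
def eroot : V := [-2, 0, -2, -2, -2, 0, 0, 0, 0, 0, 0, 2, 0, 0, 2, 0, 2, 0, 2, 0, 0, 0, 0, 0]

theorem wCo2_ok : sgOK [wCo2] = true := by decide +kernel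
theorem wCo2_fix : fixOK [wCo2] [McLData.v0, McL2025Data.w0] = true := by decide +kernel
theorem wCo2_fixU : fixOK [wCo2] [McLData.u0] = true := by decide +kernel
theorem aroot_mem : inLeech (toFn aroot) = true := by decide +kernel
theorem aroot_dots : dotL aroot aroot = 32 ∧ dotL McLData.v0 aroot = -8 ∧ dotL McL2025Data.w0 aroot = -16 := by decide +kernel
theorem broot_mem : inLeech (toFn broot) = true := by decide +kernel
theorem broot_dots : dotL broot broot = 32 ∧ dotL McLData.v0 broot = -8 ∧ dotL McL2025Data.w0 broot = 16 := by decide +kernel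
theorem croot_mem : inLeech (toFn croot) = true := by decide +kernel
theorem croot_dots : dotL croot croot = 32 ∧ dotL McLData.v0 croot = -8 ∧ dotL McL2025Data.w0 croot = -8 := by decide +kernel
theorem droot_mem : inLeech (toFn droot) = true := by decide +kernel
theorem droot_dots : dotL droot droot = 32 ∧ dotL McLData.v0 droot = -8 ∧ dotL McL2025Data.w0 droot = 8 := by decide +kernel
theorem eroot_mem : inLeech (toFn eroot) = true := by decide +kernel
theorem eroot_dots : dotL eroot eroot = 32 ∧ dotL McLData.v0 eroot = -8 ∧ dotL McL2025Data.w0 eroot = 0 := by decide +kernel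

end Cfsg.Agent.Lib.H27.Co2Data
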