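/-
helper27 library (generated by scripts/gen_co2out.py): data for the automorphisms of the Conway group
`Co2`, in the form `Stab(R)`, `R = (3; -1^23)`.  Generators: the coordinate permutations `s = wS` (order 23),
`d = wD` (order 11), `u = wU` (order 5) generating `M23`, and an involution `h = wH` inverting `d`.  The orbit of
`(-4, -4, 0^22)` under the subgroup they generate has 47104 points; the orbit of `(4, -4, 0^22)` under the subgroup
generated by `M22` and an element `wSig` of the stabilizer of `(-4, -4, 0^22)` has 2025 points (forest certificates).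
-/
import Mathlib
import Cfsg.Agent.Lib.H27.Co2OutData1
import Cfsg.Agent.Lib.H27.Co2OutData2
import Cfsg.Agent.Lib.H27.Co2OutData3
import Cfsg.Agent.Lib.H27.Co2OutData4
import Cfsg.Agent.Lib.H27.Co2OutData5
import Cfsg.Agent.Lib.H27.Co2OutData6
import Cfsg.Agent.Lib.H27.Co2OutData7
import Cfsg.Agent.Lib.H27.Co2OutData8

set_option autoImplicit false
set_option maxRecDepth 1000000

namespace Cfsg.Agent.Lib.H27.Co2OutData

open Cfsg.Agent.Lib.H27.Eng Cfsg.Agent.Lib.H27.Co3GenData


def achunks : List Chunk := [ac0, ac1, ac2, ac3, ac4, ac5, ac6, ac7, ac8, ac9, ac10, ac11, ac12, ac13, ac14, ac15, ac16, ac17, ac18, ac19, ac20, ac21, ac22, ac23, ac24, ac25, ac26, ac27, ac28, ac29, ac30, ac31, ac32, ac33, ac34, ac35, ac36, ac37, ac38, ac39, ac40, ac41, ac42, ac43, ac44, ac45, ac46, ac47]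
theorem aall_ok : ∀ c ∈ achunks, chunkOK sgA (fun _ => false) c = true := by
  intro c hc
  simp only [achunks, List.mem_cons, List.not_mem_nil, or_false] at hc
  rcases hc with rfl | rfl | rfl | rfl | rfl | rfl | rfl | rfl | rfl | rfl | rfl | rfl | rfl | rfl | rfl | rfl | rfl | rfl | rfl | rfl | rfl | rfl | rfl | rfl | rfl | rfl | rfl | rfl | rfl | rfl | rfl | rfl | rfl | rfl | rfl | rfl | rfl | rfl | rfl | rfl | rfl | rfl | rfl | rfl | rfl | rfl | rfl | rfl
  · exact aok0
  · exact aok1
  · exact aok2
  · exact aok3
  · exact aok4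
  · exact aok5
  · exact aok6
  · exact aok7
  · exact aok8
  · exact aok9
  · exact aok10
  · exact aok11
  · exact aok12
  · exact aok13
  · exact aok14
  · exact aok15
  · exact aok16
  · exact aok17
  · exact aok18
  · exact aok19
  · exact aok20
  · exact aok21
  · exact aok22
  · exact aok23
  · exact aok24
  · exact aok25
  · exact aok26
  · exact aok27
  · exact aok28
  · exact aok29
  · exact aok30
  · exact aok31
  · exact aok32
  · exact aok33
  · exact aok34
  · exact aok35
  · exact aok36
  · exact aok37
  · exact aok38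
  · exact aok39
  · exact aok40
  · exact aok41
  · exact aok42
  · exact aok43
  · exact aok44
  · exact aok45
  · exact aok46
  · exact aok47
theorem alink_ok : linkOK achunks [y1L] = true := by decide +kernel
theorem amerge_ok : mergeOK achunks 47104 = true := by decide +kernel

end Cfsg.Agent.Lib.H27.Co2OutData
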