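/-
helper27 library: kernel-checked counting of the elements `c` of `M24` intertwining two words and satisfying
an additional property `P` that is decided on packed tables (for instance membership in a subgroup).
-/
import Mathlib
import Cfsg.Prelude.Def_Sporadic_a
import Cfsg.Agent.Lib.H27.M24Cnt

set_option autoImplicit false

namespace Cfsg.Agent.Lib.H27

open Cfsg Cfsg.Agent.Lib.H28
open scoped Pointwise

namespace M24CntP

open M24Cnt M24NF

/-- The elements `h` of the `k`-th stabilizer of the chain such that `u * h` intertwines `r` and `r'` and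
has the property `P`. -/
def csetP (P : Equiv.Perm GolayPt → Prop) (r r' : Equiv.Perm GolayPt) (k : ℕ) (u : Equiv.Perm GolayPt) :
    Set (Equiv.Perm GolayPt) :=
  {h | h ∈ cset r r' k u ∧ P (u * h)}

theorem ncard_csetP_step (P : Equiv.Perm GolayPt → Prop) (r r' u : Equiv.Perm GolayPt) {k : ℕ} (hk : k < 7) :
    (csetP P r r' k u).ncard = (((List.range 24).filter (levelSet k)).map
      (fun z => (csetP P r r' (k + 1) (u * wordPerm (wit k z))).ncard)).sum := by
  classical
  have hfin : ∀ s : Set (Equiv.Perm GolayPt), s.ncard = s.toFinset.card :=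
    fun s => Set.ncard_eq_toFinset_card' s
  have hL : ((List.range 24).filter (levelSet k)).Nodup := List.Nodup.filter _ List.nodup_range
  rw [← List.sum_toFinset _ hL, hfin,
    Finset.card_eq_sum_card_fiberwise (f := fun g => gIdx (g (gPt (basePts.getD k 0))))
      (t := ((List.range 24).filter (levelSet k)).toFinset)]
  · apply Finset.sum_congr rfl
    intro z hz
    rw [List.mem_toFinset, List.mem_filter, List.mem_range] at hz
    rw [hfin]
    have hset : (csetP P r r' k u).toFinset.filter (fun g => gIdx (g (gPt (basePts.getD k 0))) = z) =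
        (csetP P r r' (k + 1) (u * wordPerm (wit k z))).toFinset.image (fun h => wordPerm (wit k z) * h) := by
      ext g
      simp only [Finset.mem_filter, Set.mem_toFinset, Finset.mem_image]
      constructor
      · rintro ⟨⟨hg, hP⟩, hgz⟩
        obtain ⟨_, hd⟩ := level_down hk hg.1
        rw [hgz] at hd
        have e : u * wordPerm (wit k z) * ((wordPerm (wit k z))⁻¹ * g) = u * g := by group
        refine ⟨(wordPerm (wit k z))⁻¹ * g, ⟨⟨hd, ?_⟩, ?_⟩, by group⟩
        · rw [e]
          exact hg.2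
        · rw [e]
          exact hP
      · rintro ⟨h, ⟨hh, hP⟩, rfl⟩
        obtain ⟨h1, h2⟩ := level_up hk hz.1 hz.2 hh.1
        have e : u * (wordPerm (wit k z) * h) = u * wordPerm (wit k z) * h := by group
        refine ⟨⟨⟨h1, ?_⟩, ?_⟩, h2⟩
        · rw [e]
          exact hh.2
        · rw [e]
          exact hP
    rw [hset, Finset.card_image_of_injective _ (mul_right_injective _)]
  · intro g hg
    rw [Finset.mem_coe, Set.mem_toFinset] at hg
    rw [Finset.mem_coe, List.mem_toFinset, List.mem_filter, List.mem_range]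
    exact ⟨gIdx_lt _, (level_down hk hg.1.1).1⟩

theorem ncard_csetP_leaf_pos {P : Equiv.Perm GolayPt → Prop} {r r' u : Equiv.Perm GolayPt}
    (h : u * r = r' * u) (hP : P u) : (csetP P r r' 7 u).ncard = 1 := by
  have : csetP P r r' 7 u = {1} := by
    ext x
    unfold csetP cset
    rw [fixSub_M24_top]
    simp only [Set.mem_ofPred_eq, Subgroup.mem_bot, Set.mem_singleton_iff]
    constructor
    · exact fun hx => hx.1.1
    · rintro rfl
      rw [mul_one]
      exact ⟨⟨rfl, h⟩, hP⟩
  rw [this, Set.ncard_singleton]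

theorem ncard_csetP_leaf_neg {P : Equiv.Perm GolayPt → Prop} {r r' u : Equiv.Perm GolayPt}
    (h : ¬ (u * r = r' * u ∧ P u)) : (csetP P r r' 7 u).ncard = 0 := by
  have : csetP P r r' 7 u = ∅ := by
    ext x
    unfold csetP cset
    rw [fixSub_M24_top]
    simp only [Set.mem_ofPred_eq, Subgroup.mem_bot, Set.mem_empty_iff_false, iff_false]
    rintro ⟨⟨rfl, hx⟩, hP⟩
    rw [mul_one] at hx hP
    exact h ⟨hx, hP⟩
  rw [this, Set.ncard_empty]

/-- Pruning by a pointwise necessary condition `q` for the property `P`. -/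
theorem csetP_eq_empty_of_q {P : Equiv.Perm GolayPt → Prop} {q : ℕ → ℕ → Bool}
    (hq : ∀ u : Equiv.Perm GolayPt, P u → ∀ p, q (gIdx p) (gIdx (u p)) = true)
    (r r' u : Equiv.Perm GolayPt) {a : ℕ} (hu : Rep a u) {k z : ℕ} (hk : k < 7) (hz : z < 24)
    (hl : levelSet k z = true) (hqf : q (basePts.getD k 0) (look a z) = false) :
    csetP P r r' (k + 1) (u * wordPerm (wit k z)) = ∅ := by
  ext h
  simp only [Set.mem_empty_iff_false, iff_false]
  rintro ⟨⟨hh, _⟩, hP⟩
  obtain ⟨_, hmap⟩ := levelOK_spec hk (wit_ok hk hz hl)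
  have hfix := (mem_fixSub.1 hh).2 (basePts.getD k 0) (by rw [levelFix_succ k hk]; exact List.mem_cons_self ..)
  have h1 := hq _ hP (gPt (basePts.getD k 0))
  rw [Equiv.Perm.mul_apply, hfix, Equiv.Perm.mul_apply, hmap, hu.apply_gPt hz, gIdx_gPt (basePts_lt k hk),
    gIdx_gPt (hu.look_lt24 hz), hqf] at h1
  exact absurd h1 (by decide)

/-- The number of elements of `M24` intertwining the permutations of the tables `R` and `R'` and passing the
leaf test `lf`, with pruning by `q` (fuel `n`, level `k`, table `a` of the prefix). -/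
def cntP (lf : ℕ → Bool) (q : ℕ → ℕ → Bool) (R R' : ℕ) (pp : List (List ℕ)) : ℕ → ℕ → ℕ → ℕ
  | 0, _, a => if basePts.all (chk R R' a) && lf a then 1 else 0
  | n + 1, k, a => ((lvT.getD k []).map (fun e =>
      if q (basePts.getD k 0) (look a e.1) && (pp.getD (k + 1) []).all (chk2 R R' a e.2) then
        cntP lf q R R' pp n (k + 1) (compP a e.2) else 0)).sum

theorem cntP_sound {P : Equiv.Perm GolayPt → Prop} {lf : ℕ → Bool} {q : ℕ → ℕ → Bool}
    (hlf : ∀ (a : ℕ) (u : Equiv.Perm GolayPt), u ∈ M24 → Rep a u → (lf a = true ↔ P u))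
    (hq : ∀ u : Equiv.Perm GolayPt, P u → ∀ p, q (gIdx p) (gIdx (u p)) = true)
    {rw rw' : List ℕ} {R R' : ℕ} (hR : pkOK R rw = true) (hR' : pkOK R' rw' = true)
    {pp : List (List ℕ)} (hpp : ppOK R pp = true) :
    ∀ (n k : ℕ), n + k = 7 → ∀ (u : Equiv.Perm GolayPt) (a : ℕ), u ∈ M24 → Rep a u →
      (csetP P (wordPerm rw) (wordPerm rw') k u).ncard = cntP lf q R R' pp n k a := by
  have hr := rep_of_pkOK hR
  have hr' := rep_of_pkOK hR'
  intro n
  induction n with
  | zero =>
    intro k hk u a huM hu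
    have hk7 : k = 7 := by omega
    subst hk7
    unfold cntP
    have h1 := leaf_iff hr hr' hu (wordPerm_mem_M24 rw) (wordPerm_mem_M24 rw') huM
    have h2 := hlf a u huM hu
    by_cases h : u * wordPerm rw = wordPerm rw' * u ∧ P u
    · rw [ncard_csetP_leaf_pos h.1 h.2, if_pos (by rw [Bool.and_eq_true]; exact ⟨h1.2 h.1, h2.2 h.2⟩)]
    · rw [ncard_csetP_leaf_neg h, if_neg]
      intro h'
      rw [Bool.and_eq_true] at h'
      exact h ⟨h1.1 h'.1, h2.1 h'.2⟩
  | succ n ih =>
    intro k hk u a huM hu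
    have hk7 : k < 7 := by omega
    rw [ncard_csetP_step _ _ _ _ hk7]
    unfold cntP
    rw [← lvT_fst hk7, List.map_map]
    congr 1
    apply List.map_congr_left
    intro e he
    obtain ⟨hz, hl⟩ := lvT_mem hk7 he
    have he' := lvT_rep hk7 he
    have hu' : Rep (compP a e.2) (u * wordPerm (wit k e.1)) := hu.mul he'
    have huM' : u * wordPerm (wit k e.1) ∈ M24 := M24.mul_mem huM (wordPerm_mem_M24 _)
    simp only [Function.comp_apply]
    by_cases hqc : q (basePts.getD k 0) (look a e.1) = true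
    · by_cases hc : (pp.getD (k + 1) []).all (chk2 R R' a e.2) = true
      · rw [if_pos (by rw [Bool.and_eq_true]; exact ⟨hqc, hc⟩)]
        exact ih (k + 1) (by omega) _ _ huM' hu'
      · rw [if_neg (by rw [Bool.and_eq_true]; exact fun h => hc h.2)]
        rw [List.all_eq_true] at hc
        push Not at hc
        obtain ⟨b, hb, hcb⟩ := hc
        replace hcb := Bool.eq_false_iff.2 hcb
        have hppk := List.all_eq_true.1 (List.all_eq_true.1 hpp (k + 1) (List.mem_range.2 (by omega))) b hb
        rw [Bool.and_eq_true, List.contains_iff_mem, List.contains_iff_mem] at hppk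
        have hb24 := levelFix_lt (k + 1) (by omega) b hppk.1
        have hRb24 := levelFix_lt (k + 1) (by omega) _ hppk.2
        rw [← chk_compP R R' a e.2 hb24 hRb24] at hcb
        have hemp := cset_eq_empty hr hr' hu' (by omega) hppk.1 hppk.2 hcb
        have : csetP P (wordPerm rw) (wordPerm rw') (k + 1) (u * wordPerm (wit k e.1)) = ∅ := by
          ext x
          unfold csetP
          rw [hemp]
          simp
        rw [this, Set.ncard_empty]
    · rw [if_neg (by rw [Bool.and_eq_true]; exact fun h => hqc h.1)]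
      rw [csetP_eq_empty_of_q hq _ _ u hu hk7 hz hl (Bool.eq_false_iff.2 hqc), Set.ncard_empty]

/-- The number of elements of `M24` with the property `P` intertwining two words. -/
theorem card_intertwinersP {P : Equiv.Perm GolayPt → Prop} {lf : ℕ → Bool} {q : ℕ → ℕ → Bool}
    (hlf : ∀ (a : ℕ) (u : Equiv.Perm GolayPt), u ∈ M24 → Rep a u → (lf a = true ↔ P u))
    (hq : ∀ u : Equiv.Perm GolayPt, P u → ∀ p, q (gIdx p) (gIdx (u p)) = true)
    {rw rw' : List ℕ} {R R' : ℕ} (hR : pkOK R rw = true) (hR' : pkOK R' rw' = true)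
    {pp : List (List ℕ)} (hpp : ppOK R pp = true) :
    Nat.card {c : Equiv.Perm GolayPt // (c ∈ M24 ∧ c * wordPerm rw = wordPerm rw' * c) ∧ P c} =
      cntP lf q R R' pp 7 0 idP := by
  rw [← cntP_sound hlf hq hR hR' hpp 7 0 rfl 1 idP (Subgroup.one_mem _) rep_idP]
  have : csetP P (wordPerm rw) (wordPerm rw') 0 1 =
      {c : Equiv.Perm GolayPt | (c ∈ M24 ∧ c * wordPerm rw = wordPerm rw' * c) ∧ P c} := by
    ext c
    unfold csetP cset
    simp only [Set.mem_ofPred_eq, one_mul]
    rw [show levelFix 0 = [] from rfl, fixSub_nil]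
  rw [this]
  exact Nat.card_coe_set_eq _

/-- An element of a subgroup `K ≤ M24` commuting with the word `rw`, when the centralizer of that word in `K`
has as many elements as the order of a word `yw` in that centralizer, is a power of `yw`. -/
theorem mem_zpowers_of_cardP {K : Subgroup (Equiv.Perm GolayPt)} (hK : K ≤ M24) {rw yw : List ℕ} {n : ℕ}
    (hy : wordPerm yw ∈ K) (hycomm : wordPerm yw * wordPerm rw = wordPerm rw * wordPerm yw)
    (hord : orderOf (wordPerm yw) = n)
    (hcard : Nat.card {c : Equiv.Perm GolayPt // (c ∈ M24 ∧ c * wordPerm rw = wordPerm rw * c) ∧ c ∈ K} = n)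
    {c : Equiv.Perm GolayPt} (hc : c ∈ K) (hcomm : c * wordPerm rw = wordPerm rw * c) :
    c ∈ Subgroup.zpowers (wordPerm yw) := by
  set C : Subgroup (Equiv.Perm GolayPt) := K ⊓ Subgroup.centralizer {wordPerm rw} with hC
  have hmemC : ∀ x : Equiv.Perm GolayPt, x ∈ C ↔ (x ∈ M24 ∧ x * wordPerm rw = wordPerm rw * x) ∧ x ∈ K := by
    intro x
    rw [hC, Subgroup.mem_inf, Subgroup.mem_centralizer_iff]
    constructor
    · rintro ⟨h1, h2⟩
      exact ⟨⟨hK h1, (h2 _ (Set.mem_singleton _)).symm⟩, h1⟩
    · rintro ⟨⟨_, h2⟩, h1⟩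
      refine ⟨h1, ?_⟩
      intro z hz
      rw [Set.mem_singleton_iff] at hz
      rw [hz, h2]
  have hcardC : Nat.card C = n := by
    rw [← hcard]
    apply Nat.card_congr
    apply Equiv.subtypeEquivRight
    intro x
    exact hmemC x
  have hle : Subgroup.zpowers (wordPerm yw) ≤ C := by
    rw [Subgroup.zpowers_le, hmemC]
    exact ⟨⟨hK hy, hycomm⟩, hy⟩
  have heq : Subgroup.zpowers (wordPerm yw) = C :=
    Subgroup.eq_of_le_of_card_ge hle (by rw [Nat.card_zpowers, hord, hcardC])
  rw [heq, hmemC]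
  exact ⟨⟨hK hc, hcomm⟩, hc⟩

end M24CntP

end Cfsg.Agent.Lib.H27
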