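/-
helper27 library: automorphisms of the subgroups `K` of `M24` containing the Frobenius group of order 55
generated by `d : x ↦ 2 x` (order 11) and the cube twist `u` (order 5), with a third generator `v` normalizing
`⟨u⟩`: a generic rigidity theorem, with hypotheses checked by the kernel on packed tables.
-/
import Mathlib
import Cfsg.Prelude.Def_Sporadic_a
import Cfsg.Agent.Lib.H27.OutMBase
import Cfsg.Agent.Lib.H27.AutRigid2
import Cfsg.Agent.Lib.H27.M24CntP
import Cfsg.Agent.Lib.H28.WordChain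

set_option autoImplicit false

namespace Cfsg.Agent.Lib.H27

open Cfsg Cfsg.Agent.Lib.H28
open scoped Pointwise

namespace OutM

open M24Cnt M24CntP M24NF AutRigid

/-! ### The elements `d`, `u`, `t` -/

theorem u_pow5 : wordPerm uw ^ 5 = 1 := by
  have h : eqW (pw uw 5) [] = true := by decide +kernel
  rw [← wordPerm_pw, wordPerm_eq_of_eqW h, wordPerm_nil]

theorem u_ne_one : wordPerm uw ≠ 1 := by
  intro h
  have h2 : evalPt uw 1 ≠ 1 := by decide +kernel
  apply h2
  have := gIdx_wordPerm uw (gPt 1)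
  rw [h, Equiv.Perm.one_apply, gIdx_gPt (by norm_num)] at this
  exact this.symm

theorem u_order : orderOf (wordPerm uw) = 5 := by
  haveI : Fact (Nat.Prime 5) := ⟨by norm_num⟩
  exact orderOf_eq_prime u_pow5 u_ne_one

theorem d_inv : (wordPerm dw)⁻¹ = wordPerm dw ^ 10 := by
  rw [inv_eq_iff_mul_eq_one, ← pow_succ']
  exact d_pow11

/-- `t d t⁻¹ = d⁻¹`. -/
theorem t_d' : wordPerm tw * wordPerm dw * (wordPerm tw)⁻¹ = (wordPerm dw)⁻¹ := by
  rw [t_d, d_inv]

theorem t_sq : wordPerm tw * wordPerm tw = 1 := by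
  have h : eqW (tw ++ tw) [] = true := by decide +kernel
  have h2 := wordPerm_eq_of_eqW h
  rwa [wordPerm_append, wordPerm_nil] at h2

theorem t_inv : (wordPerm tw)⁻¹ = wordPerm tw := inv_eq_of_mul_eq_one_right t_sq

/-- `t` commutes with `u`. -/
theorem t_u : wordPerm tw * wordPerm uw * (wordPerm tw)⁻¹ = wordPerm uw := by
  have h : eqW (tw ++ uw) (uw ++ tw) = true := by decide +kernel
  have h2 := wordPerm_eq_of_eqW h
  rw [wordPerm_append, wordPerm_append] at h2
  rw [h2, mul_inv_cancel_right]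

theorem hc0_d : wordPerm dw ^ (7 + 3) = wordPerm dw ^ (3 * 7) := by
  rw [show 3 * 7 = 11 + (7 + 3) by norm_num, pow_add (wordPerm dw) 11, d_pow11, one_mul]

theorem hpow11 : ∀ i < 11, i ≠ 0 → ∃ m, (i * 3 ^ m) % 11 = 1 ∨ (i * 3 ^ m) % 11 = 11 - 1 := by
  intro i hi h0
  interval_cases i
  · exact absurd rfl h0
  · exact ⟨0, by decide⟩
  · exact ⟨3, by decide⟩
  · exact ⟨4, by decide⟩
  · exact ⟨1, by decide⟩
  · exact ⟨2, by decide⟩
  · exact ⟨2, by decide⟩
  · exact ⟨1, by decide⟩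
  · exact ⟨4, by decide⟩
  · exact ⟨3, by decide⟩
  · exact ⟨0, by decide⟩

/-- The packed table of `d⁻¹`. -/
def PDi : ℕ := powP PD 10

theorem rep_PDi : Rep PDi (wordPerm dw)⁻¹ := by
  rw [d_inv]
  exact rep_powP (rep_of_pkOK PD_ok) 10

/-! ### Generation -/

theorem gen_of_closure {K : Subgroup (Equiv.Perm GolayPt)} {ws : List (List ℕ)} (hcl : wordsClosure ws = K)
    (ψ : MulAut ↥K)
    (h : ∀ w ∈ ws, ∀ hw : wordPerm w ∈ K, ψ ⟨wordPerm w, hw⟩ = ⟨wordPerm w, hw⟩) : ψ = 1 := by
  have key : ∀ y : Equiv.Perm GolayPt, y ∈ wordsClosure ws → ∀ hy : y ∈ K, ψ ⟨y, hy⟩ = ⟨y, hy⟩ := by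
    intro y hy
    unfold wordsClosure at hy
    induction hy using Subgroup.closure_induction with
    | mem x hx =>
      intro hxM
      obtain ⟨w, hw, rfl⟩ := hx
      exact h w hw hxM
    | one =>
      intro h1
      exact map_one ψ
    | mul a b ha hb iha ihb =>
      intro hab
      have haM : a ∈ K := by rw [← hcl]; exact ha
      have hbM : b ∈ K := by rw [← hcl]; exact hb
      have : (⟨a * b, hab⟩ : ↥K) = ⟨a, haM⟩ * ⟨b, hbM⟩ := rfl
      rw [this, map_mul, iha haM, ihb hbM]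
    | inv a ha iha =>
      intro hai
      have haM : a ∈ K := by rw [← hcl]; exact ha
      have : (⟨a⁻¹, hai⟩ : ↥K) = (⟨a, haM⟩ : ↥K)⁻¹ := rfl
      rw [this, map_inv, iha haM]
  ext x : 1
  have hx : (x : Equiv.Perm GolayPt) ∈ wordsClosure ws := by rw [hcl]; exact x.2
  have := key x.1 hx x.2
  rw [MulAut.one_apply]
  exact this

/-- Generation and order from a chain certificate and an upper bound on the order. -/
theorem closure_card_of_chain (G : Subgroup (Equiv.Perm GolayPt)) (ws : List (List ℕ))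
    (chain : List (ℕ × List (List ℕ))) (N : ℕ) (hws : ∀ w ∈ ws, wordPerm w ∈ G)
    (hchain : chainCheck [] (metaChain ws chain) = true)
    (hprod : ((metaChain ws chain).map (fun c => c.2.length)).prod = N)
    (hn : Nat.card G ≤ N) : wordsClosure ws = G ∧ Nat.card G = N := by
  have hcl := wordsClosure_eq_of_chain G ws chain hws hchain (by rw [hprod]; exact hn)
  refine ⟨hcl, le_antisymm hn ?_⟩
  have := card_ge_of_chainCheck (wordsClosure ws) (metaChain ws chain) [] ?_ hchain
  · rwa [fixSub_nil, hprod, hcl] at this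
  · intro c hc w hw
    unfold metaChain at hc
    rw [List.mem_map] at hc
    obtain ⟨c0, _, rfl⟩ := hc
    rw [List.mem_map] at hw
    obtain ⟨m, _, rfl⟩ := hw
    exact wordPerm_metaFlat_mem ws m

/-! ### Relators on packed tables -/

/-- The tables of the candidate images. -/
def valsPK (PV PY : ℕ) (e : Bool) (j : ℕ) (i : ℕ) : ℕ :=
  [if e then PD else PDi, PU, compP PV (powP PY j)].getD i idP

theorem rep_valsPK {vw yw : List ℕ} {PV PY : ℕ} (hPV : pkOK PV vw = true) (hPY : pkOK PY yw = true)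
    (e : Bool) (j : ℕ) (i : ℕ) :
    Rep (valsPK PV PY e j i)
      ([if e then wordPerm dw else (wordPerm dw)⁻¹, wordPerm uw, wordPerm vw * wordPerm yw ^ j].getD i 1) := by
  unfold valsPK
  match i with
  | 0 =>
    cases e
    · simp only [List.getD_cons_zero, Bool.false_eq_true, if_false]
      exact rep_PDi
    · simp only [List.getD_cons_zero, if_true]
      exact rep_of_pkOK PD_ok
  | 1 => exact rep_of_pkOK PU_ok
  | 2 => exact (rep_of_pkOK hPV).mul (rep_powP (rep_of_pkOK hPY) j)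
  | (i + 3) => exact rep_idP

/-- The check that the relators exclude the candidates `(d^{±1}, u, v y^j)` other than the allowed ones
(`both`: the sign is free). -/
def relChk (both : Bool) (PV PY n : ℕ) (rels : List (List ℕ × ℕ)) : Bool :=
  [true, false].all (fun e => (List.range n).all (fun j =>
    ((both || e) && isIdP (powP PY j)) ||
      rels.any (fun r => !(isIdP (powP (patP (valsPK PV PY e j) r.1) r.2)))))

/-- The check that the relators hold. -/
def relChk0 (PV PY : ℕ) (rels : List (List ℕ × ℕ)) : Bool :=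
  rels.all (fun r => isIdP (powP (patP (valsPK PV PY true 0) r.1) r.2))

theorem rel_perm {both : Bool} {vw yw : List ℕ} {PV PY n : ℕ} {rels : List (List ℕ × ℕ)}
    (hPV : pkOK PV vw = true) (hPY : pkOK PY yw = true) (hchk : relChk both PV PY n rels = true)
    (e : Bool) (j : ℕ) (hj : j < n)
    (h : ∀ r ∈ rels, (evalPat (fun i => [if e then wordPerm dw else (wordPerm dw)⁻¹, wordPerm uw,
      wordPerm vw * wordPerm yw ^ j].getD i 1) r.1) ^ r.2 = 1) :
    ((both || e) = true) ∧ wordPerm yw ^ j = 1 := by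
  unfold relChk at hchk
  have h1 := List.all_eq_true.1 (List.all_eq_true.1 hchk e (by cases e <;> simp))
    j (List.mem_range.2 hj)
  rw [Bool.or_eq_true] at h1
  rcases h1 with h1 | h1
  · rw [Bool.and_eq_true] at h1
    exact ⟨h1.1, eq_one_of_isIdP (rep_powP (rep_of_pkOK hPY) j) h1.2⟩
  · exfalso
    rw [List.any_eq_true] at h1
    obtain ⟨r, hr, hr2⟩ := h1
    have hrep := rep_powP (rep_patP (rep_valsPK hPV hPY e j) r.1) r.2
    rw [isIdP_of_eq_one hrep (h r hr)] at hr2
    exact absurd hr2 (by decide)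

theorem rel_zero {vw yw : List ℕ} {PV PY : ℕ} {rels : List (List ℕ × ℕ)}
    (hPV : pkOK PV vw = true) (hPY : pkOK PY yw = true) (hchk : relChk0 PV PY rels = true) :
    ∀ r ∈ rels, (evalPat (fun i => [wordPerm dw, wordPerm uw, wordPerm vw].getD i 1) r.1) ^ r.2 = 1 := by
  intro r hr
  have h1 := List.all_eq_true.1 hchk r hr
  have hrep := rep_powP (rep_patP (rep_valsPK hPV hPY true 0) r.1) r.2
  have h2 := eq_one_of_isIdP hrep h1
  simp only [if_true, pow_zero, mul_one] at h2
  exact h2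

theorem coe_evalPatK {K : Subgroup (Equiv.Perm GolayPt)} (vals : ℕ → ↥K) (w : List ℕ) :
    ((evalPat vals w : ↥K) : Equiv.Perm GolayPt) =
      evalPat (fun i => ((vals i : ↥K) : Equiv.Perm GolayPt)) w :=
  map_evalPat (Subgroup.subtype K) vals w

/-! ### The data of a subgroup -/

/-- The data for a subgroup `K` of `M24` generated by `d`, `u` and a third word `v`. -/
structure F55Data (K : Subgroup (Equiv.Perm GolayPt)) where
  /-- the third generator -/
  vw : List ℕ
  /-- the generator of the centralizer of `u` -/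
  yw : List ℕ
  PV : ℕ
  PY : ℕ
  n : ℕ
  b : ℕ
  rels : List (List ℕ × ℕ)
  both : Bool
  hK : K ≤ M24
  hPV : pkOK PV vw = true
  hPY : pkOK PY yw = true
  hcl : wordsClosure [dw, uw, vw] = K
  hsq : ¬ 11 ^ 2 ∣ Nat.card K
  hyK : wordPerm yw ∈ K
  hycomm : wordPerm yw * wordPerm uw = wordPerm uw * wordPerm yw
  hyord : orderOf (wordPerm yw) = n
  hcnt : Nat.card {c : Equiv.Perm GolayPt // (c ∈ M24 ∧ c * wordPerm uw = wordPerm uw * c) ∧ c ∈ K} = n
  hvu : wordPerm vw * wordPerm uw * (wordPerm vw)⁻¹ = wordPerm uw ^ b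
  hchk0 : relChk0 PV PY rels = true
  hchk : relChk both PV PY n rels = true

namespace F55Data

variable {K : Subgroup (Equiv.Perm GolayPt)}

theorem d_mem (D : F55Data K) : wordPerm dw ∈ K := by
  have h : wordPerm dw ∈ wordsClosure [dw, uw, D.vw] := wordPerm_mem_wordsClosure (by simp)
  rw [D.hcl] at h
  exact h

theorem u_mem (D : F55Data K) : wordPerm uw ∈ K := by
  have h : wordPerm uw ∈ wordsClosure [dw, uw, D.vw] := wordPerm_mem_wordsClosure (by simp)
  rw [D.hcl] at h
  exact h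

theorem v_mem (D : F55Data K) : wordPerm D.vw ∈ K := by
  have h : wordPerm D.vw ∈ wordsClosure [dw, uw, D.vw] := wordPerm_mem_wordsClosure (by simp)
  rw [D.hcl] at h
  exact h

variable (D : F55Data K)

/-- The elements of `K`. -/
noncomputable def dK : ↥K := ⟨wordPerm dw, D.d_mem⟩
noncomputable def uK : ↥K := ⟨wordPerm uw, D.u_mem⟩
noncomputable def vK : ↥K := ⟨wordPerm D.vw, D.v_mem⟩
noncomputable def yK : ↥K := ⟨wordPerm D.yw, D.hyK⟩

theorem dK_order : orderOf D.dK = 11 := by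
  rw [← Subgroup.orderOf_coe]
  exact d_order

theorem hgen (ψ : MulAut ↥K) (h1 : ψ D.dK = D.dK) (h2 : ψ D.uK = D.uK) (h3 : ψ D.vK = D.vK) : ψ = 1 := by
  apply gen_of_closure D.hcl
  intro w hw hwK
  simp only [List.mem_cons, List.not_mem_nil, or_false] at hw
  rcases hw with rfl | rfl | rfl
  · exact h1
  · exact h2
  · exact h3

theorem hds : D.uK * D.dK * D.uK⁻¹ = D.dK ^ 3 := Subtype.ext u_d

theorem hA1 (x : ↥K) (hx : orderOf x = orderOf D.dK) :
    ∃ k : ↥K, k * x * k⁻¹ = D.dK ∨ k * x * k⁻¹ = D.dK⁻¹ := by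
  haveI : Finite ↥K := Finite.of_injective (fun x : ↥K => (x : Equiv.Perm GolayPt)) Subtype.val_injective
  exact conj_pm_of_sylow (by norm_num) D.hsq D.dK_order D.hds hpow11 x hx

theorem hA2 (c : ↥K) (hc : c * D.dK = D.dK * c) : ∃ m : ℤ, c = D.dK ^ m := by
  have hc' : (c : Equiv.Perm GolayPt) * wordPerm dw = wordPerm dw * (c : Equiv.Perm GolayPt) :=
    congrArg Subtype.val hc
  obtain ⟨m, hm⟩ := Subgroup.mem_zpowers_iff.1 (centralizer_d (D.hK c.2) hc')
  refine ⟨m, Subtype.ext ?_⟩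
  rw [Subgroup.coe_zpow]
  exact hm.symm

theorem hA3 (c : ↥K) (hc : c * D.uK = D.uK * c) : ∃ j < D.n, c = D.yK ^ j := by
  have hc' : (c : Equiv.Perm GolayPt) * wordPerm uw = wordPerm uw * (c : Equiv.Perm GolayPt) :=
    congrArg Subtype.val hc
  have hmem := mem_zpowers_of_cardP D.hK D.hyK D.hycomm D.hyord D.hcnt c.2 hc'
  classical
  have hfo : IsOfFinOrder (wordPerm D.yw) := isOfFinOrder_of_finite _
  rw [hfo.mem_zpowers_iff_mem_range_orderOf, D.hyord, Finset.mem_image] at hmem
  obtain ⟨j, hj, hjc⟩ := hmem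
  rw [Finset.mem_range] at hj
  refine ⟨j, hj, Subtype.ext ?_⟩
  rw [Subgroup.coe_pow]
  exact hjc.symm

theorem hc0 : D.dK ^ (7 + 3) = D.dK ^ (3 * 7) := Subtype.ext (by
  rw [Subgroup.coe_pow, Subgroup.coe_pow]
  exact hc0_d)

theorem hud : D.vK * D.uK * D.vK⁻¹ = D.uK ^ D.b := Subtype.ext (by
  rw [Subgroup.coe_pow]
  exact D.hvu)

theorem hrel0 : ∀ r ∈ D.rels, (evalPat (fun i => [D.dK, D.uK, D.vK].getD i 1) r.1) ^ r.2 = 1 := by
  intro r hr
  apply Subtype.ext
  rw [Subgroup.coe_pow, coe_evalPatK, Subgroup.coe_one]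
  have h0 := rel_zero D.hPV D.hPY D.hchk0 r hr
  have hf : (fun i => (([D.dK, D.uK, D.vK].getD i 1 : ↥K) : Equiv.Perm GolayPt)) =
      (fun i => [wordPerm dw, wordPerm uw, wordPerm D.vw].getD i 1) := by
    funext i
    match i with
    | 0 => rfl
    | 1 => rfl
    | 2 => rfl
    | (i + 3) => rfl
  rw [hf]
  exact h0

theorem hrel (s' : ↥K) (hs' : s' = D.dK ∨ s' = D.dK⁻¹) (j : ℕ) (hj : j < D.n)
    (hall : ∀ r ∈ D.rels, (evalPat (fun i => [s', D.uK, D.vK * D.yK ^ j].getD i 1) r.1) ^ r.2 = 1) :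
    (D.both = true ∨ s' = D.dK) ∧ D.vK * D.yK ^ j = D.vK := by
  obtain ⟨e, he⟩ : ∃ e : Bool, (s' : Equiv.Perm GolayPt) = if e then wordPerm dw else (wordPerm dw)⁻¹ := by
    rcases hs' with h | h
    · exact ⟨true, by rw [h]; rfl⟩
    · exact ⟨false, by rw [h]; rfl⟩
  have hperm := rel_perm D.hPV D.hPY D.hchk e j hj (by
    intro r hr
    have h1 := congrArg Subtype.val (hall r hr)
    rw [Subgroup.coe_pow, coe_evalPatK, Subgroup.coe_one] at h1
    have hf : (fun i => (([s', D.uK, D.vK * D.yK ^ j].getD i 1 : ↥K) : Equiv.Perm GolayPt)) =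
        (fun i => [if e then wordPerm dw else (wordPerm dw)⁻¹, wordPerm uw,
          wordPerm D.vw * wordPerm D.yw ^ j].getD i 1) := by
      funext i
      match i with
      | 0 => exact he
      | 1 => rfl
      | 2 => rfl
      | (i + 3) => rfl
    rw [hf] at h1
    exact h1)
  obtain ⟨h1, h3⟩ := hperm
  constructor
  · rw [Bool.or_eq_true] at h1
    rcases h1 with h1 | h1
    · exact Or.inl h1
    · right
      apply Subtype.ext
      rw [he, h1]
      rfl
  · apply Subtype.ext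
    rw [Subgroup.coe_mul, Subgroup.coe_pow]
    show wordPerm D.vw * wordPerm D.yw ^ j = wordPerm D.vw
    rw [h3, mul_one]

/-- Every automorphism is inner when the relators exclude `d⁻¹`. -/
theorem all_inner (hb : D.both = false) (φ : MulAut ↥K) : ∃ g : ↥K, φ = MulAut.conj g := by
  apply inner_of_pin D.dK D.uK D.vK D.yK D.n 3 7 D.b D.hgen D.hA1 D.hA2 D.hA3 D.hds D.hc0 D.hud D.rels D.hrel0 _ φ
  intro s' hs' j hj hall
  obtain ⟨h1, h2⟩ := D.hrel s' hs' j hj hall
  refine ⟨?_, h2⟩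
  rcases h1 with h1 | h1
  · rw [hb] at h1
    exact absurd h1 (by decide)
  · exact h1

/-- The automorphism of `K` induced by `t`, when `t` normalizes `K`. -/
noncomputable def tAut (htK : ∀ g ∈ K, wordPerm tw * g * (wordPerm tw)⁻¹ ∈ K) : MulAut ↥K where
  toFun g := ⟨wordPerm tw * g * (wordPerm tw)⁻¹, htK g g.2⟩
  invFun g := ⟨wordPerm tw * g * (wordPerm tw)⁻¹, htK g g.2⟩
  left_inv g := by
    apply Subtype.ext
    show wordPerm tw * (wordPerm tw * (g : Equiv.Perm GolayPt) * (wordPerm tw)⁻¹) * (wordPerm tw)⁻¹ = g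
    rw [t_inv]
    have h := t_sq
    calc wordPerm tw * (wordPerm tw * (g : Equiv.Perm GolayPt) * wordPerm tw) * wordPerm tw
        = (wordPerm tw * wordPerm tw) * (g : Equiv.Perm GolayPt) * (wordPerm tw * wordPerm tw) := by group
      _ = g := by rw [h, one_mul, mul_one]
  right_inv g := by
    apply Subtype.ext
    show wordPerm tw * (wordPerm tw * (g : Equiv.Perm GolayPt) * (wordPerm tw)⁻¹) * (wordPerm tw)⁻¹ = g
    rw [t_inv]
    have h := t_sq
    calc wordPerm tw * (wordPerm tw * (g : Equiv.Perm GolayPt) * wordPerm tw) * wordPerm tw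
        = (wordPerm tw * wordPerm tw) * (g : Equiv.Perm GolayPt) * (wordPerm tw * wordPerm tw) := by group
      _ = g := by rw [h, one_mul, mul_one]
  map_mul' g h := by
    apply Subtype.ext
    show wordPerm tw * ((g : Equiv.Perm GolayPt) * (h : Equiv.Perm GolayPt)) * (wordPerm tw)⁻¹ =
      wordPerm tw * (g : Equiv.Perm GolayPt) * (wordPerm tw)⁻¹ *
        (wordPerm tw * (h : Equiv.Perm GolayPt) * (wordPerm tw)⁻¹)
    group

/-- No element of `K` inverts `d` when `t ∉ K`. -/
theorem hni (ht : wordPerm tw ∉ K) (g : ↥K) : g * D.dK * g⁻¹ ≠ D.dK⁻¹ := by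
  intro h
  have h' : (g : Equiv.Perm GolayPt) * wordPerm dw * (g : Equiv.Perm GolayPt)⁻¹ = (wordPerm dw)⁻¹ :=
    congrArg Subtype.val h
  have hcomm : (wordPerm tw * (g : Equiv.Perm GolayPt)) * wordPerm dw =
      wordPerm dw * (wordPerm tw * (g : Equiv.Perm GolayPt)) := by
    have h1 : (g : Equiv.Perm GolayPt) * wordPerm dw = (wordPerm dw)⁻¹ * (g : Equiv.Perm GolayPt) := by
      rw [← h']; group
    have h2 : wordPerm tw * (wordPerm dw)⁻¹ = wordPerm dw * wordPerm tw := by
      have := t_d'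
      have h3 : wordPerm tw * wordPerm dw = (wordPerm dw)⁻¹ * wordPerm tw := by rw [← this]; group
      calc wordPerm tw * (wordPerm dw)⁻¹
          = wordPerm dw * ((wordPerm dw)⁻¹ * wordPerm tw) * (wordPerm dw)⁻¹ := by group
        _ = wordPerm dw * (wordPerm tw * wordPerm dw) * (wordPerm dw)⁻¹ := by rw [h3]
        _ = wordPerm dw * wordPerm tw := by group
    calc wordPerm tw * (g : Equiv.Perm GolayPt) * wordPerm dw
        = wordPerm tw * ((g : Equiv.Perm GolayPt) * wordPerm dw) := by group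
      _ = wordPerm tw * ((wordPerm dw)⁻¹ * (g : Equiv.Perm GolayPt)) := by rw [h1]
      _ = (wordPerm tw * (wordPerm dw)⁻¹) * (g : Equiv.Perm GolayPt) := by group
      _ = wordPerm dw * wordPerm tw * (g : Equiv.Perm GolayPt) := by rw [h2]
      _ = wordPerm dw * (wordPerm tw * (g : Equiv.Perm GolayPt)) := by group
  have hmem := centralizer_d (M24.mul_mem (wordPerm_mem_M24 tw) (D.hK g.2)) hcomm
  have hK' : wordPerm tw * (g : Equiv.Perm GolayPt) ∈ K :=
    (Subgroup.zpowers_le.2 D.d_mem) hmem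
  apply ht
  have := K.mul_mem hK' (K.inv_mem g.2)
  rwa [mul_inv_cancel_right] at this

/-- The inner automorphisms have index two when `t` normalizes `K`, lies outside `K`, and commutes with `v`. -/
theorem card_out_two (ht : wordPerm tw ∉ K) (htK : ∀ g ∈ K, wordPerm tw * g * (wordPerm tw)⁻¹ ∈ K)
    (htv : wordPerm tw * wordPerm D.vw * (wordPerm tw)⁻¹ = wordPerm D.vw) :
    Nat.card (MulAut ↥K ⧸ (MulAut.conj : ↥K →* MulAut ↥K).range) = 2 := by
  apply card_out_eq_two D.dK D.uK D.vK D.yK D.n 3 7 D.b D.hgen D.hA1 D.hA2 D.hA3 D.hds D.hc0 D.hud D.rels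
    D.hrel0 _ (tAut htK) _ _ _ (D.hni ht)
  · intro s' hs' j hj hall
    exact (D.hrel s' hs' j hj hall).2
  · exact Subtype.ext t_d'
  · exact Subtype.ext t_u
  · exact Subtype.ext htv

end F55Data

end OutM

end Cfsg.Agent.Lib.H27
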