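/-
helper27 library (generated data): the outer automorphism group of `M22`, from the rigidity theorem of
`OutF55` with kernel-checked certificates (generation chain, centralizer count, relators).
-/
import Mathlib
import Cfsg.Prelude.Def_Sporadic_a
import Cfsg.Prelude.Def_Spor_Mathieu
import Cfsg.Agent.Lib.H27.OutF55
import Cfsg.Agent.Lib.H28.M23M22Simple

set_option autoImplicit false

namespace Cfsg.Agent.Lib.H27

open Cfsg Cfsg.Agent.Lib.H28
open scoped Pointwise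

namespace OutM

open M24Cnt M24CntP M24NF AutRigid

/-- The third generator. -/
def vw22 : List ℕ := [1, 3, 0, 4, 0, 3, 1, 1, 4, 3, 3, 2, 0, 0, 0, 3, 1, 1, 2, 3, 1, 3, 1, 1, 1, 4, 0, 4, 1, 1, 1, 1, 4, 3, 0, 3, 0, 3, 1, 4, 0, 4, 4, 0, 0, 3, 0, 3]

def PV22 : ℕ := 984447756380300809835322717071984672

theorem PV22_ok : pkOK PV22 vw22 = true := by decide +kernel

/-- The chain certificate (meta-words in the generators `d`, `u`, `v` and their inverses). -/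
def chain22 : List (ℕ × List (List ℕ)) := [
  (23, [[]]),
  (0, [[]]),
  (1, [[], [0], [3, 4], [0, 0], [5, 0, 1], [4], [2, 3, 1], [1, 3], [3, 1], [5, 3, 1], [2, 0, 2, 3], [3], [0, 1], [3, 5, 0, 1], [2, 3, 4], [4, 0, 1], [0, 2, 0, 1], [1], [0, 2, 3], [2, 0, 1], [2, 3], [3, 2, 3]]),
  (2, [[], [3, 4, 4, 2], [2, 2], [2, 1, 1, 0, 1, 1, 0], [1, 1, 0], [2, 3, 4, 4], [3, 4, 4, 3, 4, 4], [3, 4, 4], [5, 3, 4, 4], [1, 1, 0, 2, 3, 4, 4], [1, 1, 0, 2], [1, 1, 0, 2, 2], [1, 1, 0, 2, 1, 1, 0, 2], [2, 3, 4, 4, 2], [1, 1, 0, 1, 1, 0], [1, 1, 0, 1, 1, 0, 2, 3, 4, 4], [2], [3, 4, 4, 2, 3, 4, 4, 2], [5, 1, 1, 0, 1, 1, 0], [2, 1, 1, 0, 2], [3, 4, 4, 5, 3, 4, 4]]),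
  (3, [[], [4, 2, 0], [5, 0, 2, 2, 0, 4], [3, 5, 1, 5, 0, 2, 2, 0, 4], [4, 2, 0, 0, 5, 5, 3, 4, 2, 0], [0, 5, 5, 3, 4, 2, 0], [0, 5, 5, 3], [5, 0, 2, 2, 0, 4, 4, 2, 0], [3, 5, 1, 3, 5, 1], [5, 0, 2, 2, 0, 4, 3, 5, 1], [4, 2, 0, 5, 0, 2, 2, 0, 4], [0, 5, 5, 3, 4, 2, 0, 4, 2, 0], [0, 5, 5, 3, 5, 0, 2, 2, 0, 4], [5, 0, 2, 2, 0, 4, 4, 2, 0, 4, 2, 0], [0, 5, 5, 3, 5, 0, 2, 2, 0, 4, 4, 2, 0], [4, 2, 0, 0, 5, 5, 3], [3, 5, 1], [4, 2, 0, 4, 2, 0], [4, 2, 0, 4, 2, 0, 0, 5, 5, 3], [3, 5, 1, 0, 5, 5, 3]]),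
  (4, [[], [1, 0, 1, 2, 2, 3, 4, 5, 0, 2, 3, 2, 0, 1, 5, 3, 1, 0, 1, 2, 2, 3, 4], [5, 3, 1, 2, 2, 0, 2, 0, 2, 4, 3, 5, 0, 5, 3, 2], [5, 3, 1, 2, 2, 0, 2, 0, 2, 4, 3, 5, 0, 5, 3, 2, 5, 3, 1, 2, 2, 0, 2], [5, 0, 2, 3, 2, 0, 1, 5, 3, 1, 0, 1, 2, 2, 3, 4], [5, 0, 2, 3, 2, 0, 1, 5, 3, 5, 3, 1, 2, 2, 0, 2], [5, 0, 2, 3, 2, 0, 1, 5, 3], [1, 0, 1, 2, 2, 3, 4], [1, 0, 1, 2, 2, 3, 4, 5, 3, 1, 2, 2, 0, 2], [0, 2, 4, 3, 5, 0, 5, 3, 2, 5, 3, 1, 2, 2, 0, 2, 5, 0, 2, 3, 2, 0, 1, 5, 3], [5, 3, 1, 2, 2, 0, 2, 5, 0, 2, 3, 2, 0, 1, 5, 3], [5, 3, 1, 2, 2, 0, 2], [5, 3, 1, 2, 2, 0, 2, 5, 0, 2, 3, 2, 0, 1, 5, 3, 1, 0, 1, 2, 2, 3, 4], [0, 2, 4, 3, 5, 0, 5, 3, 2], [1, 0, 1, 2, 2, 3, 4, 0, 2, 4, 3, 5, 0, 5, 3, 2], [0, 2, 4, 3, 5, 0, 5, 3, 2, 5, 3, 1, 2, 2, 0, 2]]),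
  (5, [[], [3, 3, 5, 0, 5, 0, 5, 4, 0, 2, 3], [0, 5, 3, 1, 2, 3, 2, 3, 2, 0, 0]])]

set_option maxRecDepth 100000 in
theorem chain22_ok : chainCheck [] (metaChain [dw, uw, vw22] chain22) = true := by decide +kernel

theorem chain22_prod : ((metaChain [dw, uw, vw22] chain22).map (fun c => c.2.length)).prod = 443520 := by
  decide +kernel

theorem gPt_23' : gPt 23 = (none : GolayPt) := rfl

theorem gPt_0' : gPt 0 = (some 0 : GolayPt) := rfl

theorem mem_M22 {g : Equiv.Perm GolayPt} :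
    g ∈ Spor.M22 ↔ g ∈ M24 ∧ g none = none ∧ g (some 0) = some 0 := by
  show g ∈ (M24 ⊓ MulAction.stabilizer (Equiv.Perm GolayPt) (none : GolayPt)) ⊓
    MulAction.stabilizer (Equiv.Perm GolayPt) (some 0 : GolayPt) ↔ _
  rw [Subgroup.mem_inf, Subgroup.mem_inf, MulAction.mem_stabilizer_iff, MulAction.mem_stabilizer_iff]
  exact and_assoc

theorem M22_eq_fixSub : Spor.M22 = fixSub M24 [0, 23] := by
  ext g
  rw [mem_M22, mem_fixSub]
  constructor
  · rintro ⟨h1, h2, h3⟩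
    refine ⟨h1, ?_⟩
    intro k hk
    simp only [List.mem_cons, List.not_mem_nil, or_false] at hk
    rcases hk with rfl | rfl
    · rw [gPt_0']; exact h3
    · rw [gPt_23']; exact h2
  · rintro ⟨h1, h2⟩
    refine ⟨h1, ?_, ?_⟩
    · have := h2 23 (by simp)
      rwa [gPt_23'] at this
    · have := h2 0 (by simp)
      rwa [gPt_0'] at this

theorem wordPerm_mem_M22 {w : List ℕ} (h23 : evalPt w 23 = 23) (h0 : evalPt w 0 = 0) :
    wordPerm w ∈ Spor.M22 := by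
  rw [mem_M22]
  refine ⟨wordPerm_mem_M24 w, ?_, ?_⟩
  · have := wordPerm_gPt (w := w) (k := 23) (z := 23) (by norm_num) h23
    rwa [gPt_23'] at this
  · have := wordPerm_gPt (w := w) (k := 0) (z := 0) (by norm_num) h0
    rwa [gPt_0'] at this

theorem gens22_mem : ∀ w ∈ [dw, uw, vw22], wordPerm w ∈ Spor.M22 := by
  intro w hw
  simp only [List.mem_cons, List.not_mem_nil, or_false] at hw
  rcases hw with rfl | rfl | rfl
  · exact wordPerm_mem_M22 (by decide +kernel) (by decide +kernel)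
  · exact wordPerm_mem_M22 (by decide +kernel) (by decide +kernel)
  · exact wordPerm_mem_M22 (by decide +kernel) (by decide +kernel)

/-- `M22` is generated by `d`, `u`, `v`, and has order `443520`. -/
theorem closure22 : wordsClosure [dw, uw, vw22] = Spor.M22 ∧ Nat.card Spor.M22 = 443520 :=
  closure_card_of_chain _ _ chain22 443520 gens22_mem chain22_ok chain22_prod
    (by rw [M22_eq_fixSub]; exact card_fixSub_chain.2)

/-- The membership test on packed tables. -/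
def lf22 (a : ℕ) : Bool := look a 23 == 23 && look a 0 == 0

theorem lf22_iff (a : ℕ) (u : Equiv.Perm GolayPt) (_hu : u ∈ M24) (hr : Rep a u) :
    lf22 a = true ↔ u ∈ Spor.M22 := by
  unfold lf22
  rw [mem_M22, Bool.and_eq_true, beq_iff_eq, beq_iff_eq]
  have h23 := hr (gPt 23)
  have h0 := hr (gPt 0)
  rw [gIdx_gPt (by norm_num)] at h23 h0
  constructor
  · rintro ⟨h1, h2⟩
    refine ⟨_hu, ?_, ?_⟩
    · rw [← gPt_23']
      apply gIdx_injective
      rw [h23, h1, gIdx_gPt (by norm_num)]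
    · rw [← gPt_0']
      apply gIdx_injective
      rw [h0, h2, gIdx_gPt (by norm_num)]
  · rintro ⟨_, h1, h2⟩
    rw [← gPt_23'] at h1
    rw [← gPt_0'] at h2
    rw [h1, gIdx_gPt (by norm_num)] at h23
    rw [h2, gIdx_gPt (by norm_num)] at h0
    exact ⟨h23.symm, h0.symm⟩

def ppu22 : List (List ℕ) := [[], [23], [0], [], [], [3], [4], []]

theorem ppu22_ok : ppOK PU ppu22 = true := by decide +kernel

set_option maxRecDepth 100000 in
/-- The pointwise necessary condition for membership. -/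
def q22 (b y : ℕ) : Bool := (b != 23 || y == 23) && (b != 0 || y == 0)

theorem q22_ok (u : Equiv.Perm GolayPt) (hu : u ∈ Spor.M22) (p : GolayPt) : q22 (gIdx p) (gIdx (u p)) = true := by
  obtain ⟨_, h1, h2⟩ := mem_M22.1 hu
  unfold q22
  rw [Bool.and_eq_true, Bool.or_eq_true, Bool.or_eq_true, bne_iff_ne, bne_iff_ne, beq_iff_eq, beq_iff_eq]
  constructor
  · by_cases hp : gIdx p = 23
    · right
      have : p = none := by rw [← gPt_gIdx p, hp, gPt_23']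
      rw [this, h1]
      rfl
    · exact Or.inl hp
  · by_cases hp : gIdx p = 0
    · right
      have : p = some 0 := by rw [← gPt_gIdx p, hp, gPt_0']
      rw [this, h2]
      rfl
    · exact Or.inl hp

set_option maxRecDepth 100000 in
theorem cnt22 : cntP lf22 q22 PU PU ppu22 7 0 idP = 5 := by decide +kernel

theorem v22_u : wordPerm vw22 * wordPerm uw * (wordPerm vw22)⁻¹ = wordPerm uw ^ 2 := by
  have h : eqW (vw22 ++ uw) (pw uw 2 ++ vw22) = true := by decide +kernel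
  have h2 := wordPerm_eq_of_eqW h
  rw [wordPerm_append, wordPerm_append, wordPerm_pw] at h2
  rw [h2, mul_inv_cancel_right]

/-- The data of `M22`. -/
def data22 : F55Data Spor.M22 where
  vw := vw22
  yw := uw
  PV := PV22
  PY := PU
  n := 5
  b := 2
  rels := [([0, 0, 0, 2, 2], 3)]
  both := true
  hK := by
    intro g hg
    exact (mem_M22.1 hg).1
  hPV := PV22_ok
  hPY := PU_ok
  hcl := closure22.1
  hsq := by rw [closure22.2]; norm_num
  hyK := gens22_mem uw (by simp)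
  hycomm := rfl
  hyord := u_order
  hcnt := by rw [card_intertwinersP lf22_iff q22_ok PU_ok PU_ok ppu22_ok, cnt22]
  hvu := v22_u
  hchk0 := by decide +kernel
  hchk := by decide +kernel

theorem t_not_mem22 : wordPerm tw ∉ Spor.M22 := by
  intro h
  have h1 := (mem_M22.1 h).2.1
  have h2 := wordPerm_gPt (w := tw) (k := 23) (z := 0) (by norm_num) (by decide +kernel)
  rw [gPt_23', h1, gPt_0'] at h2
  exact absurd h2 (by simp)

theorem t_norm22 : ∀ g ∈ Spor.M22, wordPerm tw * g * (wordPerm tw)⁻¹ ∈ Spor.M22 := by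
  intro g hg
  obtain ⟨h1, h2, h3⟩ := mem_M22.1 hg
  have ht23 : wordPerm tw none = some 0 := by
    have := wordPerm_gPt (w := tw) (k := 23) (z := 0) (by norm_num) (by decide +kernel)
    rwa [gPt_23', gPt_0'] at this
  have ht0 : wordPerm tw (some 0) = none := by
    have := wordPerm_gPt (w := tw) (k := 0) (z := 23) (by norm_num) (by decide +kernel)
    rwa [gPt_23', gPt_0'] at this
  rw [mem_M22, t_inv]
  refine ⟨M24.mul_mem (M24.mul_mem (wordPerm_mem_M24 tw) h1) (wordPerm_mem_M24 tw), ?_, ?_⟩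
  · rw [Equiv.Perm.mul_apply, Equiv.Perm.mul_apply, ht23, h3, ht0]
  · rw [Equiv.Perm.mul_apply, Equiv.Perm.mul_apply, ht0, h2, ht23]

theorem t_v22 : wordPerm tw * wordPerm vw22 * (wordPerm tw)⁻¹ = wordPerm vw22 := by
  have h : eqW (tw ++ vw22) (vw22 ++ tw) = true := by decide +kernel
  have h2 := wordPerm_eq_of_eqW h
  rw [wordPerm_append, wordPerm_append] at h2
  rw [h2, mul_inv_cancel_right]

/-- The inner automorphisms of `M22` have index two in the automorphism group. -/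
theorem card_out_M22 :
    Nat.card (MulAut ↥Spor.M22 ⧸ (MulAut.conj : ↥Spor.M22 →* MulAut ↥Spor.M22).range) = 2 :=
  data22.card_out_two t_not_mem22 t_norm22 t_v22

end OutM

end Cfsg.Agent.Lib.H27
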