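/-
helper27 library: the Conway group `Co2`, in the form `C2 = Stab(R)`, `R = (3; -1^23)`, is generated by the
coordinate permutations `s = wS`, `d = wD`, `u = wU` generating `M23` and an involution `h = wH` inverting `d`.
Two orbit computations: the orbit of `Y1 = (-4, -4, 0^22)` under the subgroup has 47104 points, and the orbit of
`(4, -4, 0^22)` under the stabilizer of `Y1` in the subgroup has 2025 points, with stabilizer containing `M22`.
-/
import Mathlib
import Cfsg.Prelude.Def_Spor_Conway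
import Cfsg.Agent.Lib.H27.Co2OutDataA
import Cfsg.Agent.Lib.H27.Co2OutDataB
import Cfsg.Agent.Lib.H27.Co2OutBase
import Cfsg.Agent.Lib.H27.OutM22
import Cfsg.Agent.Lib.H27.ConwayOrders
import Cfsg.Agent.Lib.H27.StabTools

set_option autoImplicit false

namespace Cfsg.Agent.Lib.H27

open Cfsg MulAction Cfsg.Agent.Lib.H28 Cfsg.Agent.Lib.H27.Eng

namespace Co2Out

open Co3GenData Co2OutData OutM Co3Out AutRigid

/-! ### The subgroup generated by the four elements -/

/-- The subgroup generated by `s`, `d`, `u`, `h`. -/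
noncomputable def K4A : Subgroup Co0 :=
  Subgroup.closure {wordCo0 wS, wordCo0 wD, wordCo0 wU, wordCo0 wH}

theorem sgA_mem_K4A : ∀ w ∈ sgA, wordCo0 w ∈ K4A := by
  intro w hw
  unfold sgA at hw
  simp only [List.mem_cons, List.not_mem_nil, or_false] at hw
  unfold K4A
  rcases hw with rfl | rfl | rfl | rfl
  · exact Subgroup.subset_closure (by simp)
  · exact Subgroup.subset_closure (by simp)
  · exact Subgroup.subset_closure (by simp)
  · exact Subgroup.subset_closure (by simp)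

theorem K4A_le : K4A ≤ C2 := by
  unfold K4A
  rw [Subgroup.closure_le]
  rintro x (rfl | rfl | rfl | rfl)
  · exact word_memA (by simp [sgA])
  · exact word_memA (by simp [sgA])
  · exact word_memA (by simp [sgA])
  · exact word_memA (by simp [sgA])

instance : Finite ↥K4A := Finite.of_injective (fun x : ↥K4A => (⟨x.1, K4A_le x.2⟩ : ↥C2))
  (fun a b h => Subtype.ext (congrArg (fun z : ↥C2 => (z : Co0)) h))

/-- The coordinate permutations of `M23` lie in the subgroup. -/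
theorem pCo0_mem_K4A (σ : Equiv.Perm GolayPt) (hσ : σ ∈ Spor.M23) :
    pCo0 ⟨σ, (mem_M23.1 hσ).1⟩ ∈ K4A := by
  have key : ∀ y : Equiv.Perm GolayPt, y ∈ K23 → ∀ hy : y ∈ M24, pCo0 ⟨y, hy⟩ ∈ K4A := by
    intro y hy
    unfold K23 at hy
    induction hy using Subgroup.closure_induction with
    | mem x hx =>
      intro hxM
      unfold K4A
      rcases hx with rfl | rfl | rfl
      · rw [pCo0_s]; exact Subgroup.subset_closure (by simp)
      · rw [pCo0_d]; exact Subgroup.subset_closure (by simp)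
      · rw [pCo0_u]; exact Subgroup.subset_closure (by simp)
    | one =>
      intro h1
      have : pCo0 ⟨1, h1⟩ = 1 := pCo0_one
      rw [this]
      exact Subgroup.one_mem _
    | mul a b ha hb iha ihb =>
      intro hab
      have haM : a ∈ M24 := (mem_M23.1 (K23_le ha)).1
      have hbM : b ∈ M24 := (mem_M23.1 (K23_le hb)).1
      have : pCo0 ⟨a * b, hab⟩ = pCo0 ⟨a, haM⟩ * pCo0 ⟨b, hbM⟩ := pCo0_mul ⟨a, haM⟩ ⟨b, hbM⟩
      rw [this]
      exact Subgroup.mul_mem _ (iha haM) (ihb hbM)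
    | inv a ha iha =>
      intro hai
      have haM : a ∈ M24 := (mem_M23.1 (K23_le ha)).1
      have : pCo0 ⟨a⁻¹, hai⟩ = (pCo0 ⟨a, haM⟩)⁻¹ := by
        rw [eq_inv_iff_mul_eq_one]
        have h2 : pCo0 (⟨a⁻¹, hai⟩ * ⟨a, haM⟩) = pCo0 ⟨a⁻¹, hai⟩ * pCo0 ⟨a, haM⟩ := pCo0_mul _ _
        rw [← h2]
        have h3 : (⟨a⁻¹, hai⟩ * ⟨a, haM⟩ : ↥M24) = 1 := Subtype.ext (inv_mul_cancel a)
        rw [h3]
        exact pCo0_one
      rw [this]
      exact Subgroup.inv_mem _ (iha haM)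
  exact key σ (by rw [K23_eq]; exact hσ) _

theorem M22_le_M23 {σ : Equiv.Perm GolayPt} (hσ : σ ∈ Spor.M22) : σ ∈ Spor.M23 :=
  mem_M23.2 ⟨(mem_M22.1 hσ).1, (mem_M22.1 hσ).2.1⟩

/-- A permutation fixing `∞` and `0` fixes a vector whose coordinates outside `∞`, `0` are equal. -/
theorem pCo0_fix_of_shape (σ : Equiv.Perm GolayPt) (hσ : σ ∈ Spor.M22) (l : V) (hl : toFn l ∈ leechLattice)
    (a b c : ℤ) (key : ∀ p : GolayPt, toFn l p = if p = none then a else if p = some 0 then b else c) :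
    pCo0 ⟨σ, (mem_M22.1 hσ).1⟩ • mkL l = mkL l := by
  rw [mkL_of_mem hl]
  apply Subtype.ext
  funext i
  rw [pCo0_smul]
  show toFn l (σ.symm i) = toFn l i
  obtain ⟨-, hn, h0⟩ := mem_M22.1 hσ
  have hn' : σ.symm none = none := by rw [Equiv.symm_apply_eq, hn]
  have h0' : σ.symm (some 0) = some 0 := by rw [Equiv.symm_apply_eq, h0]
  rw [key, key]
  by_cases hi : i = none
  · rw [hi, hn']
  · have h1 : σ.symm i ≠ none := by
      intro h
      apply hi
      rw [← hn'] at h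
      exact σ.symm.injective h
    rw [if_neg hi, if_neg h1]
    by_cases hi0 : i = some 0
    · rw [hi0, h0']
    · have h2 : σ.symm i ≠ some 0 := by
        intro h
        apply hi0
        rw [← h0'] at h
        exact σ.symm.injective h
      rw [if_neg hi0, if_neg h2]

theorem y1L_L : toFn y1L ∈ leechLattice := mem_of_inLeech y1L_mem
theorem upL_L : toFn upL ∈ leechLattice := mem_of_inLeech upL_mem

theorem pCo0_fix_y1 (σ : Equiv.Perm GolayPt) (hσ : σ ∈ Spor.M22) :
    pCo0 ⟨σ, (mem_M22.1 hσ).1⟩ • mkL y1L = mkL y1L :=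
  pCo0_fix_of_shape σ hσ y1L y1L_L (-4) (-4) 0 (by decide +kernel)

theorem pCo0_fix_up (σ : Equiv.Perm GolayPt) (hσ : σ ∈ Spor.M22) :
    pCo0 ⟨σ, (mem_M22.1 hσ).1⟩ • mkL upL = mkL upL :=
  pCo0_fix_of_shape σ hσ upL upL_L 4 (-4) 0 (by decide +kernel)

/-! ### The stabilizer of `Y1` in the subgroup -/

/-- The stabilizer of `Y1` in the subgroup. -/
noncomputable def KB : Subgroup Co0 := K4A ⊓ stabilizer Co0 (mkL y1L)

theorem wordCo0_inv_of {w wi : List Gen} (hw : w.all Gen.ok = true) (hwi : wi.all Gen.ok = true)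
    (h : wordIsOneF (wmul wi w) = true) : wordCo0 wi = (wordCo0 w)⁻¹ := by
  rw [eq_inv_iff_mul_eq_one, ← wordCo0_wmul]
  exact wordCo0_eq_oneF (wmul_ok hwi hw) h

theorem wordCo0_wSi' : wordCo0 Co2OutData.wSi = (wordCo0 wS)⁻¹ :=
  wordCo0_inv_of wS_ok Co2OutData.wSi_ok (by decide +kernel)

theorem wordCo0_wDi : wordCo0 wDi = (wordCo0 wD)⁻¹ :=
  wordCo0_inv_of wD_ok wDi_ok (by decide +kernel)

theorem wordCo0_wUi : wordCo0 wUi = (wordCo0 wU)⁻¹ :=
  wordCo0_inv_of wU_ok wUi_ok (by decide +kernel)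

theorem wordCo0_flatten_mem (K : Subgroup Co0) :
    ∀ ws : List (List Gen), (∀ w ∈ ws, wordCo0 w ∈ K) → wordCo0 ws.flatten ∈ K := by
  intro ws
  induction ws with
  | nil => intro _; exact K.one_mem
  | cons w ws ih =>
    intro h
    rw [List.flatten_cons, wordCo0_append]
    exact K.mul_mem (ih (fun w' hw' => h w' (List.mem_cons_of_mem _ hw'))) (h w List.mem_cons_self)

theorem wSig_mem : wordCo0 wSig ∈ K4A := by
  unfold wSig
  apply wordCo0_flatten_mem
  have hS : wordCo0 wS ∈ K4A := sgA_mem_K4A _ (by simp [sgA])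
  have hD : wordCo0 wD ∈ K4A := sgA_mem_K4A _ (by simp [sgA])
  have hU : wordCo0 wU ∈ K4A := sgA_mem_K4A _ (by simp [sgA])
  have hH : wordCo0 wH ∈ K4A := sgA_mem_K4A _ (by simp [sgA])
  have hSi : wordCo0 Co2OutData.wSi ∈ K4A := by rw [wordCo0_wSi']; exact K4A.inv_mem hS
  have hDi : wordCo0 wDi ∈ K4A := by rw [wordCo0_wDi]; exact K4A.inv_mem hD
  have hUi : wordCo0 wUi ∈ K4A := by rw [wordCo0_wUi]; exact K4A.inv_mem hU
  intro w hw
  unfold sigWords at hw
  simp only [List.mem_cons, List.not_mem_nil, or_false] at hw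
  rcases hw with rfl | rfl | rfl | rfl | rfl | rfl | rfl | rfl | rfl | rfl | rfl | rfl | rfl | rfl | rfl
  · exact hH
  · exact hS
  · exact hU
  · exact hS
  · exact hS
  · exact hD
  · exact hU
  · exact hD
  · exact hS
  · exact hS
  · exact hUi
  · exact hDi
  · exact hSi
  · exact hSi
  · exact hH

theorem vw_mem : wordPerm vw22 ∈ M24 := wordPerm_mem_M24 _

theorem pCo0_v : pCo0 ⟨wordPerm vw22, vw_mem⟩ = wordCo0 wV :=
  pCo0_wordPerm vw22 vw_mem _ _ (by decide +kernel) (by decide +kernel)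

theorem wV_mem : wordCo0 wV ∈ K4A := by
  rw [← pCo0_v]
  exact pCo0_mem_K4A _ (M22_le_M23 (gens22_mem vw22 (by simp)))

theorem sgB_mem_KB : ∀ w ∈ sgB, wordCo0 w ∈ KB := by
  intro w hw
  have hfix : wordCo0 w • mkL y1L = mkL y1L := fix_of_mem sgB_ok sgB_fix hw (by simp) y1L_L
  refine ⟨?_, mem_stabilizer_iff.2 hfix⟩
  unfold sgB at hw
  simp only [List.mem_cons, List.not_mem_nil, or_false] at hw
  rcases hw with rfl | rfl | rfl | rfl
  · exact sgA_mem_K4A _ (by simp [sgA])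
  · exact sgA_mem_K4A _ (by simp [sgA])
  · exact wV_mem
  · exact wSig_mem

theorem KB_le : KB ≤ K4A := inf_le_left

instance : Finite ↥KB := Finite.of_injective (fun x : ↥KB => (⟨x.1, KB_le x.2⟩ : ↥K4A))
  (fun a b h => Subtype.ext (congrArg (fun z : ↥K4A => (z : Co0)) h))

/-- The stabilizer of `(4, -4, 0^22)` in `KB` contains a copy of `M22`. -/
theorem card_stab_up_ge : 443520 ≤ Nat.card (stabilizer ↥KB (mkL upL)) := by
  have hfin : Finite (stabilizer ↥KB (mkL upL)) := inferInstance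
  let f : ↥Spor.M22 → stabilizer ↥KB (mkL upL) := fun σ =>
    ⟨⟨pCo0 ⟨σ.1, (mem_M22.1 σ.2).1⟩, ⟨pCo0_mem_K4A σ.1 (M22_le_M23 σ.2),
      mem_stabilizer_iff.2 (pCo0_fix_y1 σ.1 σ.2)⟩⟩, by
      rw [mem_stabilizer_iff]
      exact pCo0_fix_up σ.1 σ.2⟩
  have hinj : Function.Injective f := by
    intro a b hab
    have h1 : pCo0 ⟨a.1, (mem_M22.1 a.2).1⟩ = pCo0 ⟨b.1, (mem_M22.1 b.2).1⟩ :=
      congrArg (fun x : stabilizer ↥KB (mkL upL) => ((x : ↥KB) : Co0)) hab
    have h2 : (⟨a.1, (mem_M22.1 a.2).1⟩ : ↥M24) = ⟨b.1, (mem_M22.1 b.2).1⟩ := permHom_injective h1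
    have h3 : (a : Equiv.Perm GolayPt) = b := congrArg (fun x : ↥M24 => (x : Equiv.Perm GolayPt)) h2
    exact Subtype.ext h3
  have h := Nat.card_le_card_of_injective f hinj
  have h2 := closure22.2
  omega

theorem card_KB_ge : 898128000 ≤ Nat.card ↥KB := by
  haveI : Finite Co0 := inferInstance
  have h1 := forest_card_le (K := KB) sgB_ok sgB_mem_KB upL_L ball_ok blink_ok bmerge_ok
  have h2 := card_stab_up_ge
  calc 898128000 = 2025 * 443520 := by norm_num
    _ ≤ 2025 * Nat.card (stabilizer ↥KB (mkL upL)) := Nat.mul_le_mul_left _ h2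
    _ ≤ Nat.card ↥KB := h1

/-- `Co2` is generated by `s`, `d`, `u`, `h`. -/
theorem K4A_eq : K4A = C2 := by
  apply Subgroup.eq_of_le_of_card_ge K4A_le
  haveI : Finite Co0 := inferInstance
  have h1 := forest_card_le (K := K4A) sgA_ok sgA_mem_K4A y1L_L aall_ok alink_ok amerge_ok
  have h2 : Nat.card (stabilizer ↥K4A (mkL y1L)) = Nat.card ↥KB :=
    Nat.card_congr (stabSubEquiv K4A (mkL y1L)).toEquiv
  rw [h2] at h1
  have h3 := card_KB_ge
  rw [card_C2]
  calc 42305421312000 = 47104 * 898128000 := by norm_num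
    _ ≤ 47104 * Nat.card ↥KB := Nat.mul_le_mul_left _ h3
    _ ≤ Nat.card ↥K4A := h1

end Co2Out

end Cfsg.Agent.Lib.H27
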