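/-
helper27 library: relator checks for the automorphisms of `Co2` (generated), first stage: the images of `s` and `u`.
-/
import Mathlib
import Cfsg.Agent.Lib.H27.Co2OutRel

set_option autoImplicit false

namespace Cfsg.Agent.Lib.H27

open Cfsg MulAction Cfsg.Agent.Lib.H28 Cfsg.Agent.Lib.H27.Eng

namespace Co2Out

open Co3GenData Co2OutData OutM Co3Out AutRigid

theorem chkA_t_1 : moves (relC true 1 0 (rels4.getD 0 ([], 0))) tvec = true := by decide +kernel
theorem chkA_t_2 : moves (relC true 2 0 (rels4.getD 0 ([], 0))) tvec = true := by decide +kernel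
theorem chkA_t_3 : moves (relC true 3 0 (rels4.getD 0 ([], 0))) tvec = true := by decide +kernel
theorem chkA_t_4 : moves (relC true 4 0 (rels4.getD 0 ([], 0))) tvec = true := by decide +kernel
theorem chkA_t_5 : moves (relC true 5 0 (rels4.getD 0 ([], 0))) tvec = true := by decide +kernel
theorem chkA_t_6 : moves (relC true 6 0 (rels4.getD 0 ([], 0))) tvec = true := by decide +kernel
theorem chkA_t_7 : moves (relC true 7 0 (rels4.getD 0 ([], 0))) tvec = true := by decide +kernel
theorem chkA_t_8 : moves (relC true 8 0 (rels4.getD 0 ([], 0))) tvec = true := by decide +kernel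
theorem chkA_t_9 : moves (relC true 9 0 (rels4.getD 0 ([], 0))) tvec = true := by decide +kernel
theorem chkA_t_10 : moves (relC true 10 0 (rels4.getD 0 ([], 0))) tvec = true := by decide +kernel
theorem chkA_f_0 : moves (relC false 0 0 (rels4.getD 0 ([], 0))) tvec = true := by decide +kernel
theorem chkA_f_1 : moves (relC false 1 0 (rels4.getD 0 ([], 0))) tvec = true := by decide +kernel
theorem chkA_f_2 : moves (relC false 2 0 (rels4.getD 0 ([], 0))) tvec = true := by decide +kernel
theorem chkA_f_3 : moves (relC false 3 0 (rels4.getD 0 ([], 0))) tvec = true := by decide +kernel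
theorem chkA_f_4 : moves (relC false 4 0 (rels4.getD 0 ([], 0))) tvec = true := by decide +kernel
theorem chkA_f_5 : moves (relC false 5 0 (rels4.getD 1 ([], 0))) tvec = true := by decide +kernel
theorem chkA_f_6 : moves (relC false 6 0 (rels4.getD 0 ([], 0))) tvec = true := by decide +kernel
theorem chkA_f_7 : moves (relC false 7 0 (rels4.getD 1 ([], 0))) tvec = true := by decide +kernel
theorem chkA_f_8 : moves (relC false 8 0 (rels4.getD 0 ([], 0))) tvec = true := by decide +kernel
theorem chkA_f_9 : moves (relC false 9 0 (rels4.getD 0 ([], 0))) tvec = true := by decide +kernel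
theorem chkA_f_10 : moves (relC false 10 0 (rels4.getD 0 ([], 0))) tvec = true := by decide +kernel

end Co2Out

end Cfsg.Agent.Lib.H27
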