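/-
helper27 library: relator checks for the automorphisms of `Co2` (generated), second stage: the image of `h`.
-/
import Mathlib
import Cfsg.Agent.Lib.H27.Co2OutRel

set_option autoImplicit false

namespace Cfsg.Agent.Lib.H27

open Cfsg MulAction Cfsg.Agent.Lib.H28 Cfsg.Agent.Lib.H27.Eng

namespace Co2Out

open Co3GenData Co2OutData OutM Co3Out AutRigid

theorem chkB_1 : moves (relC true 0 1 (rels4.getD 2 ([], 0))) tvec = true := by decide +kernel
theorem chkB_2 : moves (relC true 0 2 (rels4.getD 2 ([], 0))) tvec = true := by decide +kernel
theorem chkB_3 : moves (relC true 0 3 (rels4.getD 2 ([], 0))) tvec = true := by decide +kernel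
theorem chkB_4 : moves (relC true 0 4 (rels4.getD 2 ([], 0))) tvec = true := by decide +kernel
theorem chkB_5 : moves (relC true 0 5 (rels4.getD 2 ([], 0))) tvec = true := by decide +kernel
theorem chkB_6 : moves (relC true 0 6 (rels4.getD 2 ([], 0))) tvec = true := by decide +kernel
theorem chkB_7 : moves (relC true 0 7 (rels4.getD 2 ([], 0))) tvec = true := by decide +kernel
theorem chkB_8 : moves (relC true 0 8 (rels4.getD 2 ([], 0))) tvec = true := by decide +kernel
theorem chkB_9 : moves (relC true 0 9 (rels4.getD 2 ([], 0))) tvec = true := by decide +kernel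
theorem chkB_10 : moves (relC true 0 10 (rels4.getD 2 ([], 0))) tvec = true := by decide +kernel

end Co2Out

end Cfsg.Agent.Lib.H27
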