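/-
helper27 library: the relators of `Co2` hold and pin down the images of the generators under an automorphism.
-/
import Mathlib
import Cfsg.Agent.Lib.H27.Co2OutChkA
import Cfsg.Agent.Lib.H27.Co2OutChkB
import Cfsg.Agent.Lib.H27.Co2OutChk0
import Cfsg.Agent.Lib.H27.Co2OutChk1

set_option autoImplicit false

namespace Cfsg.Agent.Lib.H27

open Cfsg MulAction Cfsg.Agent.Lib.H28 Cfsg.Agent.Lib.H27.Eng

namespace Co2Out

open Co3GenData Co2OutData OutM Co3Out AutRigid

/-- First stage: candidates for the images of `s` and `u`. -/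
theorem chkA (e : Bool) (j : ℕ) (hj : j < 11) (h : ¬ (e = true ∧ j = 0)) :
    ∃ k < 2, moves (relC e j 0 (rels4.getD k ([], 0))) tvec = true := by
  cases e
  · interval_cases j
    · exact ⟨0, by norm_num, chkA_f_0⟩
    · exact ⟨0, by norm_num, chkA_f_1⟩
    · exact ⟨0, by norm_num, chkA_f_2⟩
    · exact ⟨0, by norm_num, chkA_f_3⟩
    · exact ⟨0, by norm_num, chkA_f_4⟩
    · exact ⟨1, by norm_num, chkA_f_5⟩
    · exact ⟨0, by norm_num, chkA_f_6⟩
    · exact ⟨1, by norm_num, chkA_f_7⟩
    · exact ⟨0, by norm_num, chkA_f_8⟩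
    · exact ⟨0, by norm_num, chkA_f_9⟩
    · exact ⟨0, by norm_num, chkA_f_10⟩
  · interval_cases j
    · exact absurd ⟨rfl, rfl⟩ h
    · exact ⟨0, by norm_num, chkA_t_1⟩
    · exact ⟨0, by norm_num, chkA_t_2⟩
    · exact ⟨0, by norm_num, chkA_t_3⟩
    · exact ⟨0, by norm_num, chkA_t_4⟩
    · exact ⟨0, by norm_num, chkA_t_5⟩
    · exact ⟨0, by norm_num, chkA_t_6⟩
    · exact ⟨0, by norm_num, chkA_t_7⟩
    · exact ⟨0, by norm_num, chkA_t_8⟩
    · exact ⟨0, by norm_num, chkA_t_9⟩
    · exact ⟨0, by norm_num, chkA_t_10⟩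

/-- Second stage: candidates for the image of `h`. -/
theorem chkB (j' : ℕ) (hj' : j' < 11) (h : j' ≠ 0) :
    moves (relC true 0 j' (rels4.getD 2 ([], 0))) tvec = true := by
  interval_cases j'
  · exact absurd rfl h
  · exact chkB_1
  · exact chkB_2
  · exact chkB_3
  · exact chkB_4
  · exact chkB_5
  · exact chkB_6
  · exact chkB_7
  · exact chkB_8
  · exact chkB_9
  · exact chkB_10

theorem chk0 : ∀ r ∈ rels4, wordIsOneF (relC true 0 0 r) = true := by
  intro r hr
  unfold rels4 at hr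
  simp only [List.mem_cons, List.not_mem_nil, or_false] at hr
  rcases hr with rfl | rfl | rfl
  · exact chk0_0
  · exact chk0_1
  · exact chk0_2

/-- The relators hold. -/
theorem rel4_0 : ∀ r ∈ rels4, (evalPat (fun i => [wordCo0 wS, wordCo0 wD, wordCo0 wU,
    wordCo0 wH].getD i 1) r.1) ^ r.2 = 1 := by
  intro r hr
  have h1 := chk0 r hr
  have h2 := wordCo0_eq_oneF (relC_ok true 0 0 r) h1
  rw [wordCo0_relC] at h2
  simp only [if_true, pow_zero, mul_one] at h2
  exact h2

/-- The first two relators do not involve the last letter. -/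
theorem evalPat_indep {G : Type*} [Group G] (S D U H H' : G) (k : ℕ) (hk : k < 2) :
    evalPat (fun i => [S, D, U, H].getD i 1) (rels4.getD k ([], 0)).1 =
    evalPat (fun i => [S, D, U, H'].getD i 1) (rels4.getD k ([], 0)).1 := by
  apply evalPat_congr
  intro n hn
  interval_cases k
  · have : n = 0 ∨ n = 2 := by
      have : n ∈ [0, 2] := hn
      simpa using this
    rcases this with rfl | rfl
    · rfl
    · rfl
  · have : n = 0 ∨ n = 2 := by
      have : n ∈ [0, 2, 2] := hn
      simpa using this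
    rcases this with rfl | rfl
    · rfl
    · rfl

theorem rels4_mem (k : ℕ) (hk : k < 3) : rels4.getD k ([], 0) ∈ rels4 := by
  interval_cases k
  · decide
  · decide
  · decide

/-- The relators pin down the images. -/
theorem rel4_pin (e : Bool) (j j' : ℕ) (hj : j < 11) (hj' : j' < 11)
    (h : ∀ r ∈ rels4, (evalPat (fun i => [if e then wordCo0 wS else (wordCo0 wS)⁻¹, wordCo0 wD,
      wordCo0 wU * wordCo0 wD ^ j, wordCo0 wH * wordCo0 wD ^ j'].getD i 1) r.1) ^ r.2 = 1) :
    e = true ∧ j = 0 ∧ j' = 0 := by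
  have hA : e = true ∧ j = 0 := by
    by_contra hcon
    obtain ⟨k, hk, hm⟩ := chkA e j hj hcon
    apply ne_one_of_moves (relC_ok e j 0 _) tvec_L hm
    rw [wordCo0_relC, evalPat_indep _ _ _ _ (wordCo0 wH * wordCo0 wD ^ j') k hk]
    exact h _ (rels4_mem k (by omega))
  obtain ⟨he, hj0⟩ := hA
  refine ⟨he, hj0, ?_⟩
  by_contra hcon
  have hm := chkB j' hj' hcon
  apply ne_one_of_moves (relC_ok true 0 j' _) tvec_L hm
  rw [wordCo0_relC]
  have h2 := h _ (rels4_mem 2 (by norm_num))
  rw [he, hj0] at h2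
  exact h2

end Co2Out

end Cfsg.Agent.Lib.H27
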