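/-
helper27 library: every automorphism of the Conway group `Co2` is inner.  Rigidity argument with the Frobenius
subgroup `23 : 11 = ⟨s, d⟩` of `M23 ≤ Co2`, the element `u ∈ M23` of order 5 normalizing `⟨d⟩`, an involution `h`
inverting `d`, and the self-centralizing subgroups `⟨s⟩` and `⟨d⟩`.
-/
import Mathlib
import Cfsg.Prelude.Def_Spor_Conway
import Cfsg.Agent.Lib.H27.Co2OutGen
import Cfsg.Agent.Lib.H27.Co2OutRel2
import Cfsg.Agent.Lib.H27.Co0Trans32

set_option autoImplicit false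

namespace Cfsg.Agent.Lib.H27

open Cfsg MulAction Cfsg.Agent.Lib.H28 Cfsg.Agent.Lib.H27.Eng

namespace AutRigid

variable {G : Type*} [Group G]

/-- If every automorphism of `G` is inner, the same holds for every group isomorphic to `G`. -/
theorem all_inner_of_mulEquiv {G H : Type*} [Group G] [Group H] (e : G ≃* H)
    (h : ∀ φ : MulAut G, ∃ g : G, φ = MulAut.conj g) (φ : MulAut H) : ∃ k : H, φ = MulAut.conj k := by
  obtain ⟨g, hg⟩ := h ((e.trans φ).trans e.symm)
  refine ⟨e g, ?_⟩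
  ext x
  have h1 := congrArg (fun ψ : MulAut G => e (ψ (e.symm x))) hg
  simp only [MulEquiv.trans_apply, MulEquiv.apply_symm_apply, MulAut.conj_apply, map_mul, map_inv] at h1
  rw [MulAut.conj_apply]
  exact h1

/-- Rigidity with generators `s, d, t, u`. -/
theorem inner_of_data4d (s d t u : G) (n a b : ℕ)
    (hgen : ∀ ψ : MulAut G, ψ s = s → ψ d = d → ψ t = t → ψ u = u → ψ = 1)
    (hA1 : ∀ x : G, orderOf x = orderOf s → ∃ k : G, k * x * k⁻¹ = s ∨ k * x * k⁻¹ = s⁻¹)
    (hA2 : ∀ c : G, c * s = s * c → ∃ m : ℤ, c = s ^ m)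
    (hA3 : ∀ c : G, c * d = d * c → ∃ j < n, c = d ^ j)
    (hds : d * s * d⁻¹ = s ^ 2) (htd : t * d * t⁻¹ = d ^ a) (hud : u * d * u⁻¹ = d ^ b)
    (rels : List (List ℕ × ℕ))
    (hrel0 : ∀ r ∈ rels, (evalPat (fun i => [s, d, t, u].getD i 1) r.1) ^ r.2 = 1)
    (hrel : ∀ s' : G, (s' = s ∨ s' = s⁻¹) → ∀ j j' : ℕ, j < n → j' < n →
      (∀ r ∈ rels, (evalPat (fun i => [s', d, t * d ^ j, u * d ^ j'].getD i 1) r.1) ^ r.2 = 1) →
      s' = s ∧ j = 0 ∧ j' = 0)
    (φ : MulAut G) : ∃ g : G, φ = MulAut.conj g := by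
  obtain ⟨k, hks, hkd⟩ := pin_sd s d hA1 hA2 hds φ
  obtain ⟨ψ, hψ⟩ : ∃ ψ : MulAut G, ψ = MulAut.conj k * φ := ⟨_, rfl⟩
  have hψa : ∀ x, ψ x = k * φ x * k⁻¹ := by
    intro x
    rw [hψ, MulAut.mul_apply, MulAut.conj_apply]
  have hψs : ψ s = s ∨ ψ s = s⁻¹ := by rw [hψa]; exact hks
  have hψd : ψ d = d := by rw [hψa]; exact hkd
  obtain ⟨j, hj, hψt⟩ := pin_x d t a n htd hA3 ψ hψd
  obtain ⟨j', hj', hψu⟩ := pin_x d u b n hud hA3 ψ hψd
  have hr : ∀ r ∈ rels, (evalPat (fun i => [ψ s, d, t * d ^ j, u * d ^ j'].getD i 1) r.1) ^ r.2 = 1 := by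
    intro r hr
    have h0 := congrArg ψ (hrel0 r hr)
    rw [map_pow, map_one] at h0
    have h1 := map_evalPat ψ.toMonoidHom (fun i => [s, d, t, u].getD i 1) r.1
    have h2 : (fun i => ψ.toMonoidHom ([s, d, t, u].getD i 1)) =
        (fun i => [ψ s, d, t * d ^ j, u * d ^ j'].getD i 1) := by
      funext i
      match i with
      | 0 => rfl
      | 1 => exact hψd
      | 2 => exact hψt
      | 3 => exact hψu
      | (i + 4) => exact map_one ψ
    rw [h2] at h1
    rw [← h1]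
    exact h0
  obtain ⟨h1, h2, h3⟩ := hrel (ψ s) hψs j j' hj hj' hr
  rw [h2, pow_zero, mul_one] at hψt
  rw [h3, pow_zero, mul_one] at hψu
  have hone := hgen ψ h1 hψd hψt hψu
  refine ⟨k⁻¹, ?_⟩
  rw [map_inv]
  exact eq_inv_of_mul_eq_one_right (by rw [← hψ]; exact hone)

end AutRigid

namespace Co2Out

open Co3GenData Co2OutData OutM Co3Out AutRigid

theorem wS_memR : wordCo0 wS ∈ C2 := word_memA (by simp [sgA])
theorem wD_memR : wordCo0 wD ∈ C2 := word_memA (by simp [sgA])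
theorem wU_memR : wordCo0 wU ∈ C2 := word_memA (by simp [sgA])

/-- The elements as members of `C2`. -/
noncomputable def sR : ↥C2 := ⟨wordCo0 wS, wS_memR⟩
noncomputable def dR : ↥C2 := ⟨wordCo0 wD, wD_memR⟩
noncomputable def uR : ↥C2 := ⟨wordCo0 wU, wU_memR⟩
noncomputable def hR : ↥C2 := ⟨wordCo0 wH, h_mem⟩

theorem sR_coe : (sR : Co0) = wordCo0 wS := rfl
theorem dR_coe : (dR : Co0) = wordCo0 wD := rfl
theorem uR_coe : (uR : Co0) = wordCo0 wU := rfl
theorem hR_coe : (hR : Co0) = wordCo0 wH := rfl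

theorem orderOf_sR : orderOf sR = 23 := by
  rw [← Subgroup.orderOf_coe, sR_coe, ← pCo0_sM]
  have h1 : orderOf (permHom sM) = orderOf sM := orderOf_injective permHom permHom_injective sM
  have h2 : orderOf sM = orderOf (wordPerm sw) := (Subgroup.orderOf_coe sM).symm
  show orderOf (permHom sM) = 23
  rw [h1, h2, s_order]

theorem hdsR : dR * sR * dR⁻¹ = sR ^ 2 := by
  rw [mul_inv_eq_iff_eq_mul]
  apply Subtype.ext
  simp only [Subgroup.coe_mul, Subgroup.coe_pow, sR_coe, dR_coe]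
  exact ds_rel

theorem hudR : uR * dR * uR⁻¹ = dR ^ 3 := by
  rw [mul_inv_eq_iff_eq_mul]
  apply Subtype.ext
  simp only [Subgroup.coe_mul, Subgroup.coe_pow, uR_coe, dR_coe]
  exact ud_rel

theorem hhdR : hR * dR * hR⁻¹ = dR ^ 10 := by
  rw [mul_inv_eq_iff_eq_mul]
  apply Subtype.ext
  simp only [Subgroup.coe_mul, Subgroup.coe_pow, hR_coe, dR_coe]
  exact hd_rel

/-- Conjugacy of the elements of order 23. -/
theorem hA1R (x : ↥C2) (hx : orderOf x = orderOf sR) :
    ∃ k : ↥C2, k * x * k⁻¹ = sR ∨ k * x * k⁻¹ = sR⁻¹ := by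
  refine conj_pm_of_sylow (p := 23) (a := 2) (by norm_num) ?_ orderOf_sR hdsR ?_ x hx
  · rw [card_C2]
    norm_num
  · have h : ∀ i < 23, i ≠ 0 → ∃ m < 11, (i * 2 ^ m) % 23 = 1 ∨ (i * 2 ^ m) % 23 = 23 - 1 := by decide
    intro i hi hi0
    obtain ⟨m, -, hm⟩ := h i hi hi0
    exact ⟨m, hm⟩

/-- The centralizer of `s`. -/
theorem hA2R (c : ↥C2) (hc : c * sR = sR * c) : ∃ m : ℤ, c = sR ^ m := by
  have hc' : (c : Co0) * wordCo0 wS = wordCo0 wS * (c : Co0) := congrArg Subtype.val hc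
  obtain ⟨m, hm⟩ := centralizer_sR c.2 hc'
  refine ⟨m, Subtype.ext ?_⟩
  rw [Subgroup.coe_zpow]
  exact hm

/-- The centralizer of `d`. -/
theorem hA3R (c : ↥C2) (hc : c * dR = dR * c) : ∃ j < 11, c = dR ^ j := by
  have hc' : (c : Co0) * wordCo0 wD = wordCo0 wD * (c : Co0) := congrArg Subtype.val hc
  obtain ⟨j, hj, hjc⟩ := centralizer_dR c.2 hc'
  refine ⟨j, hj, Subtype.ext ?_⟩
  rw [Subgroup.coe_pow]
  exact hjc

/-- Generation: an automorphism fixing `s`, `d`, `u` and `h` is trivial. -/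
theorem hgenR (ψ : MulAut ↥C2) (hs : ψ sR = sR) (hd : ψ dR = dR) (hu : ψ uR = uR) (hh : ψ hR = hR) :
    ψ = 1 := by
  have key : ∀ y : Co0, y ∈ K4A → ∀ hy : y ∈ C2, ψ ⟨y, hy⟩ = ⟨y, hy⟩ := by
    intro y hy
    unfold K4A at hy
    induction hy using Subgroup.closure_induction with
    | mem x hx =>
      intro hxM
      rcases hx with rfl | rfl | rfl | rfl
      · exact hs
      · exact hd
      · exact hu
      · exact hh
    | one =>
      intro h1
      exact map_one ψ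
    | mul a b ha hb iha ihb =>
      intro hab
      have haM : a ∈ C2 := K4A_le ha
      have hbM : b ∈ C2 := K4A_le hb
      have : (⟨a * b, hab⟩ : ↥C2) = ⟨a, haM⟩ * ⟨b, hbM⟩ := rfl
      rw [this, map_mul, iha haM, ihb hbM]
    | inv a ha iha =>
      intro hai
      have haM : a ∈ C2 := K4A_le ha
      have : (⟨a⁻¹, hai⟩ : ↥C2) = (⟨a, haM⟩ : ↥C2)⁻¹ := rfl
      rw [this, map_inv, iha haM]
  ext x : 1
  have hx : (x : Co0) ∈ K4A := by rw [K4A_eq]; exact x.2
  have := key x.1 hx x.2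
  rw [MulAut.one_apply]
  exact this

theorem coe_evalPatR (vals : ℕ → ↥C2) (w : List ℕ) :
    ((evalPat vals w : ↥C2) : Co0) = evalPat (fun i => ((vals i : ↥C2) : Co0)) w :=
  map_evalPat (Subgroup.subtype C2) vals w

/-- Every automorphism of `C2` is inner. -/
theorem all_inner_C2 (φ : MulAut ↥C2) : ∃ g : ↥C2, φ = MulAut.conj g := by
  apply inner_of_data4d sR dR uR hR 11 3 10 hgenR hA1R hA2R hA3R hdsR hudR hhdR rels4 _ _ φ
  · -- the relators hold
    intro r hr
    apply Subtype.ext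
    rw [Subgroup.coe_pow, coe_evalPatR, Subgroup.coe_one]
    have h0 := rel4_0 r hr
    have hf : (fun i => (([sR, dR, uR, hR].getD i 1 : ↥C2) : Co0)) =
        (fun i => [wordCo0 wS, wordCo0 wD, wordCo0 wU, wordCo0 wH].getD i 1) := by
      funext i
      match i with
      | 0 => rfl
      | 1 => rfl
      | 2 => rfl
      | 3 => rfl
      | (i + 4) => rfl
    rw [hf]
    exact h0
  · -- the relators pin down the images
    intro s' hs' j j' hj hj' h
    have key : ∀ e : Bool, s' = (if e then sR else sR⁻¹) → e = true ∧ j = 0 ∧ j' = 0 := by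
      intro e he
      apply rel4_pin e j j' hj hj'
      intro r hr
      have h1 := congrArg (fun x : ↥C2 => (x : Co0)) (h r hr)
      simp only [Subgroup.coe_pow, coe_evalPatR, Subgroup.coe_one] at h1
      have hf : (fun i => (([s', dR, uR * dR ^ j, hR * dR ^ j'].getD i 1 : ↥C2) : Co0)) =
          (fun i => [if e then wordCo0 wS else (wordCo0 wS)⁻¹, wordCo0 wD,
            wordCo0 wU * wordCo0 wD ^ j, wordCo0 wH * wordCo0 wD ^ j'].getD i 1) := by
        funext i
        match i with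
        | 0 =>
          rw [he]
          cases e
          · rfl
          · rfl
        | 1 => rfl
        | 2 => rfl
        | 3 => rfl
        | (i + 4) => rfl
      rw [hf] at h1
      exact h1
    rcases hs' with rfl | rfl
    · obtain ⟨-, rfl, rfl⟩ := key true rfl
      exact ⟨rfl, rfl, rfl⟩
    · obtain ⟨h1, -, -⟩ := key false rfl
      exact absurd h1 (by decide)

theorem sqNorm_leechU32 : sqNorm (Spor.leechU : GolayPt → ℤ) = 32 := by decide +kernel

/-- Every automorphism of `Co2` is inner. -/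
theorem all_inner_Co2 (φ : MulAut ↥Spor.Co2) : ∃ g : ↥Spor.Co2, φ = MulAut.conj g := by
  obtain ⟨h, h1⟩ := co0_trans32 RL Spor.leechU sqNorm_RL sqNorm_leechU32
  have e := conjStabEquiv h RL
  rw [h1] at e
  exact all_inner_of_mulEquiv (e.trans (stabSubEquiv Co0 Spor.leechU)) all_inner_C2 φ

end Co2Out

end Cfsg.Agent.Lib.H27
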