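/-
helper27 library: reduction modulo 13 of the action of `Co0` on the Leech lattice, and a faithful
23-dimensional representation of `Co2` over `ZMod 13`.
-/
import Mathlib
import Cfsg.Prelude.Def_Sporadic_a
import Cfsg.Prelude.Def_Spor_Conway
import Cfsg.Agent.Lib.H27.Co0Center
import Cfsg.Agent.Lib.H27.Co2Simple

set_option autoImplicit false

namespace Cfsg.Agent.Lib.H27

open Cfsg Finset Cfsg.Agent.Lib.H28

namespace Co2Rep

/-- Reduction modulo 13 of an integer vector. -/
def red (x : GolayPt → ℤ) : GolayPt → ZMod 13 := fun p => ((x p : ℤ) : ZMod 13)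

theorem red_add (x y : GolayPt → ℤ) : red (x + y) = red x + red y := by
  funext p
  simp [red]

/-- The matrix modulo 13 of an element of `Co0`. -/
def matOf (g : Co0) : Matrix GolayPt GolayPt (ZMod 13) :=
  fun q i => 5 * red ((g • u8 i : leechLattice) : GolayPt → ℤ) q

theorem eight_smul_eq (v : leechLattice) :
    (8 : ℤ) • v = ∑ i, ((v : GolayPt → ℤ) i) • u8 i := by
  apply Subtype.ext
  rw [AddSubgroup.coe_zsmul, AddSubgroup.val_finset_sum]
  funext q
  rw [Finset.sum_apply]
  simp only [AddSubgroup.coe_zsmul, Pi.smul_apply, smul_eq_mul, u8, Pi.single_apply]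
  rw [Finset.sum_eq_single q]
  · simp [mul_comm]
  · intro b _ hb
    rw [if_neg (Ne.symm hb), mul_zero]
  · intro h
    exact absurd (Finset.mem_univ q) h

theorem smul_eight (g : Co0) (v : leechLattice) :
    (8 : ℤ) • (g • v) = ∑ i, ((v : GolayPt → ℤ) i) • (g • u8 i) := by
  have h := congrArg (Co0Hom g) (eight_smul_eq v)
  rw [map_zsmul, map_sum] at h
  simp only [map_zsmul, Co0Hom_apply] at h
  exact h

/-- The matrix computes the action modulo 13. -/
theorem matOf_mulVec (g : Co0) (v : leechLattice) :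
    (matOf g).mulVec (red (v : GolayPt → ℤ)) = red ((g • v : leechLattice) : GolayPt → ℤ) := by
  funext q
  have h := congrArg (fun w : leechLattice => ((w : GolayPt → ℤ) q : ZMod 13)) (smul_eight g v)
  simp only [AddSubgroup.coe_zsmul, Pi.smul_apply, smul_eq_mul, AddSubgroup.val_finset_sum,
    Finset.sum_apply, Int.cast_mul, Int.cast_sum, Int.cast_ofNat] at h
  unfold Matrix.mulVec dotProduct matOf red
  have h40 : (5 : ZMod 13) * 8 = 1 := by decide
  calc ∑ i, 5 * (((g • u8 i : leechLattice) : GolayPt → ℤ) q : ZMod 13) * (((v : GolayPt → ℤ) i : ℤ) : ZMod 13)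
      = 5 * ∑ i, (((v : GolayPt → ℤ) i : ℤ) : ZMod 13) * (((g • u8 i : leechLattice) : GolayPt → ℤ) q : ZMod 13) := by
        rw [Finset.mul_sum]
        apply Finset.sum_congr rfl
        intro i _
        ring
    _ = 5 * (8 * (((g • v : leechLattice) : GolayPt → ℤ) q : ZMod 13)) := by rw [← h]
    _ = (((g • v : leechLattice) : GolayPt → ℤ) q : ZMod 13) := by rw [← mul_assoc, h40, one_mul]

theorem matOf_one : matOf 1 = 1 := by
  funext q i
  unfold matOf red
  rw [one_smul, Matrix.one_apply]
  simp only [u8, Pi.single_apply]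
  by_cases h : q = i
  · rw [if_pos h, if_pos h]
    decide
  · rw [if_neg h, if_neg h]
    simp

theorem matOf_mul (g h : Co0) : matOf (g * h) = matOf g * matOf h := by
  funext q i
  rw [Matrix.mul_apply]
  have h1 := congrFun (matOf_mulVec g (h • u8 i)) q
  unfold Matrix.mulVec dotProduct at h1
  unfold matOf
  rw [mul_smul]
  change 5 * red ((g • (h • u8 i) : leechLattice) : GolayPt → ℤ) q = _
  rw [← h1, Finset.mul_sum]
  apply Finset.sum_congr rfl
  intro j _
  unfold matOf
  ring

/-- The reduction as a monoid homomorphism. -/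
def matHom : Co0 →* Matrix GolayPt GolayPt (ZMod 13) where
  toFun := matOf
  map_one' := matOf_one
  map_mul' := matOf_mul

/-! ### The 23-dimensional quotient -/

/-- A section of the projection. -/
def Smat : Matrix GolayPt (Fin 23) (ZMod 13) := fun p j => if gIdx p = j.val then 1 else 0

/-- The projection with kernel spanned by `e_∞ + e_0`. -/
def Pmat : Matrix (Fin 23) GolayPt (ZMod 13) := fun j p =>
  (if gIdx p = j.val then 1 else 0) - (if j.val = 0 ∧ gIdx p = 23 then 1 else 0)

/-- The vector `e_∞ + e_0`. -/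
def wvec : GolayPt → ZMod 13 := fun p => if gIdx p = 23 ∨ gIdx p = 0 then 1 else 0

/-- The vector `e_∞`. -/
def einf : GolayPt → ZMod 13 := fun p => if gIdx p = 23 then 1 else 0

theorem PS : Pmat * Smat = 1 := by decide +kernel

theorem SP : Smat * Pmat = 1 - Matrix.vecMulVec wvec einf := by decide +kernel

theorem P_w : Pmat.mulVec wvec = 0 := by decide +kernel

theorem wvec_eq : wvec = (10 : ZMod 13) • red (Spor.leechU : GolayPt → ℤ) := by decide +kernel

theorem matOf_w {g : Co0} (hg : g • Spor.leechU = Spor.leechU) : (matOf g).mulVec wvec = wvec := by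
  rw [wvec_eq, Matrix.mulVec_smul, matOf_mulVec, hg]

/-- The 23-dimensional matrices. -/
def rep23 (g : Co0) : Matrix (Fin 23) (Fin 23) (ZMod 13) := Pmat * matOf g * Smat

theorem P_mat_N {g : Co0} (hg : g • Spor.leechU = Spor.leechU) :
    Pmat * matOf g * Matrix.vecMulVec wvec einf = 0 := by
  rw [Matrix.mul_assoc, Matrix.mul_vecMulVec, matOf_w hg, Matrix.mul_vecMulVec, P_w,
    Matrix.zero_vecMulVec]

theorem rep23_mul_P {g : Co0} (hg : g • Spor.leechU = Spor.leechU) :
    rep23 g * Pmat = Pmat * matOf g := by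
  unfold rep23
  rw [Matrix.mul_assoc, SP, Matrix.mul_sub, Matrix.mul_one, P_mat_N hg, sub_zero]

theorem rep23_mul {g : Co0} (hg : g • Spor.leechU = Spor.leechU) (h : Co0) :
    rep23 (g * h) = rep23 g * rep23 h := by
  have h1 : rep23 g * rep23 h = rep23 g * Pmat * matOf h * Smat := by
    unfold rep23
    simp only [Matrix.mul_assoc]
  rw [h1, rep23_mul_P hg]
  unfold rep23
  rw [matOf_mul]
  simp only [Matrix.mul_assoc]

theorem rep23_one : rep23 1 = 1 := by
  unfold rep23
  rw [matOf_one, Matrix.mul_one, PS]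

/-- The elements of `Co2` as elements of `Co0`. -/
def toCo0 (g : Spor.Co2) : Co0 := ⟨g.1, (Subgroup.mem_inf.1 g.2).1⟩

theorem toCo0_fix (g : Spor.Co2) : toCo0 g • Spor.leechU = Spor.leechU :=
  (Subgroup.mem_inf.1 g.2).2

theorem toCo0_mul (g h : Spor.Co2) : toCo0 (g * h) = toCo0 g * toCo0 h := rfl

theorem toCo0_one : toCo0 1 = 1 := rfl

/-- The 23-dimensional representation of `Co2`. -/
def repHom : Spor.Co2 →* Matrix (Fin 23) (Fin 23) (ZMod 13) where
  toFun g := rep23 (toCo0 g)
  map_one' := by rw [toCo0_one, rep23_one]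
  map_mul' g h := by rw [toCo0_mul, rep23_mul (toCo0_fix g)]

/-- The representation into the general linear group. -/
def repGL : Spor.Co2 →* GL (Fin 23) (ZMod 13) := repHom.toHomUnits

theorem repGL_coe (g : Spor.Co2) : ((repGL g : GL (Fin 23) (ZMod 13)) : Matrix (Fin 23) (Fin 23) (ZMod 13))
    = rep23 (toCo0 g) := rfl

/-! ### Faithfulness -/

/-- The mask of an octad avoiding `∞` and `0`. -/
def m0 : ℕ := 4845570

theorem m0_mem : W m0 ∈ golayCode := W_mem_of_inC (by decide +kernel)

/-- The sign change on that octad. -/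
def eps0 : Co0 := signCo0 (W m0) m0_mem

theorem leechU_zero : ∀ k : GolayPt, k ∈ support₂ (W m0) → (Spor.leechU : GolayPt → ℤ) k = 0 := by
  decide +kernel

theorem eps0_fix : eps0 • Spor.leechU = Spor.leechU := by
  apply Subtype.ext
  funext k
  unfold eps0
  rw [signCo0_smul]
  split_ifs with h
  · rw [leechU_zero k h, neg_zero]
  · rfl

/-- A point of the octad. -/
def c0 : GolayPt := gPt 1

theorem c0_mem : c0 ∈ support₂ (W m0) := by decide +kernel

theorem matOf_eps0_col (p : GolayPt) : matOf eps0 p c0 = if p = c0 then -1 else 0 := by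
  unfold matOf red eps0
  rw [signCo0_smul]
  simp only [u8, Pi.single_apply]
  by_cases hp : p = c0
  · rw [if_pos hp, if_pos (hp ▸ c0_mem), if_pos hp]
    decide
  · rw [if_neg hp, if_neg hp]
    simp

/-- `eps0` as an element of `Co2`. -/
def g0 : Spor.Co2 := ⟨eps0.1, Subgroup.mem_inf.2 ⟨eps0.2, eps0_fix⟩⟩

theorem toCo0_g0 : toCo0 g0 = eps0 := rfl

theorem repGL_g0_ne : repGL g0 ≠ 1 := by
  intro h
  have h1 : rep23 (toCo0 g0) = 1 := by
    rw [← repGL_coe, h]
    rfl
  have h2 := rep23_mul_P (toCo0_fix g0)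
  rw [h1, Matrix.one_mul, toCo0_g0] at h2
  have h3 := congrFun (congrFun h2 1) c0
  rw [Matrix.mul_apply, Finset.sum_eq_single c0] at h3
  · rw [matOf_eps0_col, if_pos rfl] at h3
    revert h3
    decide +kernel
  · intro b _ hb
    rw [matOf_eps0_col, if_neg hb, mul_zero]
  · intro hc
    exact absurd (Finset.mem_univ c0) hc

theorem sqNorm_leechU : sqNorm (Spor.leechU : GolayPt → ℤ) = 32 := by decide +kernel

theorem isSimple_Co2 : IsSimpleGroup ↥Spor.Co2 := by
  haveI := (isCo2_stab Spor.leechU sqNorm_leechU).1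
  exact (stabSubEquiv Co0 Spor.leechU).symm.isSimpleGroup

/-- The representation is faithful. -/
theorem repGL_injective : Function.Injective repGL := by
  haveI := isSimple_Co2
  rw [← MonoidHom.ker_eq_bot_iff]
  rcases (MonoidHom.normal_ker repGL).eq_bot_or_eq_top with h | h
  · exact h
  · exfalso
    have hmem : g0 ∈ repGL.ker := by rw [h]; trivial
    exact repGL_g0_ne (MonoidHom.mem_ker.1 hmem)

end Co2Rep

end Cfsg.Agent.Lib.H27
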