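import Mathlib
import Cfsg.Prelude.Def_Sporadic_a
import Cfsg.Agent.Lib.H27.Co3HSData
import Cfsg.Agent.Lib.H27.HSTrans

/-!
helper27 library: the stabiliser of `u` (squared length 48) and of a minimal vector `x` with
`u · x = -16` has orbits of lengths 1, 352, 1100, 4125, 5600 on the 11178 such minimal vectors,
distinguished by the inner product with `x`.
-/

set_option autoImplicit false

namespace Cfsg.Agent.Lib.H27

open Cfsg Finset Cfsg.Agent.Lib.H28 Cfsg.Agent.Lib.H27.Eng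

/-- The members of `co3Set u` with inner product `t` with `x`. -/
def co3Sub (u x : leechLattice) (t : ℤ) : Set leechLattice :=
  {y : leechLattice | y ∈ co3Set u ∧ dotInt (x : GolayPt → ℤ) (y : GolayPt → ℤ) = t}

theorem smul_mem_co3Sub (g : Co0) {u x y : leechLattice} {t : ℤ} (hy : y ∈ co3Sub u x t) :
    g • y ∈ co3Sub (g • u) (g • x) t :=
  ⟨smul_mem_co3Set g hy.1, by rw [Co0_dot]; exact hy.2⟩

theorem image_co3Sub (g : Co0) (u x : leechLattice) (t : ℤ) :
    (fun y : leechLattice => g • y) '' co3Sub u x t = co3Sub (g • u) (g • x) t := by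
  ext y
  constructor
  · rintro ⟨z, hz, rfl⟩
    exact smul_mem_co3Sub g hz
  · intro hy
    refine ⟨g⁻¹ • y, ?_, smul_inv_smul g y⟩
    have := smul_mem_co3Sub g⁻¹ hy
    rwa [inv_smul_smul, inv_smul_smul] at this

namespace Co3HSData

open Co3Data HSData

theorem fixesX_iff (g : Co0) : Fixes g [u0, x16] ↔ g • U0 = U0 ∧ g • X16 = X16 := by
  constructor
  · intro h
    exact ⟨h u0 (by simp) _, h x16 (by simp) _⟩
  · rintro ⟨h1, h2⟩ t ht htL
    simp only [List.mem_cons, List.not_mem_nil, or_false] at ht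
    rcases ht with rfl | rfl
    · exact h1
    · exact h2

theorem inv_sub (t : ℤ) (g : Co0) (hg : Fixes g [u0, x16]) : ∀ y ∈ co3Sub U0 X16 t,
    g • y ∈ co3Sub U0 X16 t := by
  intro y hy
  rw [fixesX_iff] at hg
  have := smul_mem_co3Sub g hy
  rwa [hg.1, hg.2] at this

theorem root_mem {r : V} {t : ℤ} (hr : inLeech (toFn r) = true)
    (hd : dotL r r = 32 ∧ dotL u0 r = -16 ∧ dotL x16 r = t) :
    (⟨toFn r, mem_of_inLeech hr⟩ : leechLattice) ∈ co3Sub U0 X16 t := by
  refine ⟨⟨?_, ?_⟩, ?_⟩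
  · show sqNorm (toFn r) = 32
    rw [← sqNorm_spec]; exact hd.1
  · show dotInt (toFn u0) (toFn r) = -16
    rw [← dotL_spec]; exact hd.2.1
  · show dotInt (toFn x16) (toFn r) = t
    rw [← dotL_spec]; exact hd.2.2

def E0 : leechLattice := ⟨toFn eroot, mem_of_inLeech eroot_mem⟩
def F0 : leechLattice := ⟨toFn froot, mem_of_inLeech froot_mem⟩
def G0 : leechLattice := ⟨toFn groot, mem_of_inLeech groot_mem⟩
def H0 : leechLattice := ⟨toFn hroot, mem_of_inLeech hroot_mem⟩

theorem E0_mem : E0 ∈ co3Sub U0 X16 (-8) := root_mem eroot_mem eroot_dots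
theorem F0_mem : F0 ∈ co3Sub U0 X16 16 := root_mem froot_mem froot_dots
theorem G0_mem : G0 ∈ co3Sub U0 X16 0 := root_mem groot_mem groot_dots
theorem H0_mem : H0 ∈ co3Sub U0 X16 8 := root_mem hroot_mem hroot_dots

theorem orbListE : OrbList [u0, x16] eroot (forestList sgH echunks) ∧
    (forestList sgH echunks).length = 352 := by
  have h := forest_orbList (ts := [u0, x16]) sgH_ok fixX_ok (mem_of_inLeech eroot_mem)
    eall_ok elink_ok emerge_ok
  exact ⟨h.1, h.2.1⟩

theorem orbListF : OrbList [u0, x16] froot (forestList sgH fchunks) ∧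
    (forestList sgH fchunks).length = 1100 := by
  have h := forest_orbList (ts := [u0, x16]) sgH_ok fixX_ok (mem_of_inLeech froot_mem)
    fall_ok flink_ok fmerge_ok
  exact ⟨h.1, h.2.1⟩

theorem orbListG : OrbList [u0, x16] groot (forestList sgH gchunks) ∧
    (forestList sgH gchunks).length = 4125 := by
  have h := forest_orbList (ts := [u0, x16]) sgH_ok fixX_ok (mem_of_inLeech groot_mem)
    gall_ok glink_ok gmerge_ok
  exact ⟨h.1, h.2.1⟩

theorem orbListH : OrbList [u0, x16] hroot (forestList sgH hchunks) ∧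
    (forestList sgH hchunks).length = 5600 := by
  have h := forest_orbList (ts := [u0, x16]) sgH_ok fixX_ok (mem_of_inLeech hroot_mem)
    hall_ok hlink_ok hmerge_ok
  exact ⟨h.1, h.2.1⟩

theorem co3Set_finite : (co3Set U0).Finite :=
  Set.finite_of_ncard_pos (by
    have := ncard_co3 U0 sqNorm_U0
    change (co3Set U0).ncard = 11178 at this
    rw [this]; norm_num)

theorem sub_subset (t : ℤ) : co3Sub U0 X16 t ⊆ co3Set U0 := fun _ hy => hy.1

theorem sqNorm_X16 : sqNorm (X16 : GolayPt → ℤ) = 32 := X16_mem.1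

theorem counts_and_union : (co3Sub U0 X16 (-8)).ncard = 352 ∧ (co3Sub U0 X16 16).ncard = 1100 ∧
    (co3Sub U0 X16 0).ncard = 4125 ∧ (co3Sub U0 X16 8).ncard = 5600 ∧
    co3Sub U0 X16 (-8) ∪ co3Sub U0 X16 16 ∪ co3Sub U0 X16 0 ∪ co3Sub U0 X16 8
      = co3Set U0 \ {X16} := by
  have fE := co3Set_finite.subset (sub_subset (-8))
  have fF := co3Set_finite.subset (sub_subset 16)
  have fG := co3Set_finite.subset (sub_subset 0)
  have fH := co3Set_finite.subset (sub_subset 8)
  have lE : 352 ≤ (co3Sub U0 X16 (-8)).ncard := by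
    have := orbListE.1.lower _ fE
      (by rw [mkL_of_mem (mem_of_inLeech eroot_mem)]; exact E0_mem) (inv_sub (-8))
    rwa [orbListE.2] at this
  have lF : 1100 ≤ (co3Sub U0 X16 16).ncard := by
    have := orbListF.1.lower _ fF
      (by rw [mkL_of_mem (mem_of_inLeech froot_mem)]; exact F0_mem) (inv_sub 16)
    rwa [orbListF.2] at this
  have lG : 4125 ≤ (co3Sub U0 X16 0).ncard := by
    have := orbListG.1.lower _ fG
      (by rw [mkL_of_mem (mem_of_inLeech groot_mem)]; exact G0_mem) (inv_sub 0)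
    rwa [orbListG.2] at this
  have lH : 5600 ≤ (co3Sub U0 X16 8).ncard := by
    have := orbListH.1.lower _ fH
      (by rw [mkL_of_mem (mem_of_inLeech hroot_mem)]; exact H0_mem) (inv_sub 8)
    rwa [orbListH.2] at this
  have hdisj : ∀ s t : ℤ, s ≠ t → Disjoint (co3Sub U0 X16 s) (co3Sub U0 X16 t) := by
    intro s t hst
    rw [Set.disjoint_left]
    intro y h1 h2
    exact hst (h1.2.symm.trans h2.2)
  have d1 : Disjoint (co3Sub U0 X16 (-8)) (co3Sub U0 X16 16) := hdisj _ _ (by norm_num)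
  have d2 : Disjoint (co3Sub U0 X16 (-8) ∪ co3Sub U0 X16 16) (co3Sub U0 X16 0) := by
    rw [Set.disjoint_union_left]
    exact ⟨hdisj _ _ (by norm_num), hdisj _ _ (by norm_num)⟩
  have d3 : Disjoint (co3Sub U0 X16 (-8) ∪ co3Sub U0 X16 16 ∪ co3Sub U0 X16 0)
      (co3Sub U0 X16 8) := by
    rw [Set.disjoint_union_left, Set.disjoint_union_left]
    exact ⟨⟨hdisj _ _ (by norm_num), hdisj _ _ (by norm_num)⟩, hdisj _ _ (by norm_num)⟩
  have c1 := Set.ncard_union_eq d1 fE fF
  have c2 := Set.ncard_union_eq d2 (fE.union fF) fG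
  have c3 := Set.ncard_union_eq d3 ((fE.union fF).union fG) fH
  have hunion : co3Sub U0 X16 (-8) ∪ co3Sub U0 X16 16 ∪ co3Sub U0 X16 0 ∪ co3Sub U0 X16 8
      ⊆ co3Set U0 \ {X16} := by
    have key : ∀ t : ℤ, t ≠ 32 → co3Sub U0 X16 t ⊆ co3Set U0 \ {X16} := by
      intro t ht y hy
      refine ⟨hy.1, ?_⟩
      intro h
      rw [Set.mem_singleton_iff] at h
      have h2 := hy.2
      rw [h, dotInt_self, sqNorm_X16] at h2
      exact ht h2.symm
    intro y hy
    rcases hy with ((hy | hy) | hy) | hy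
    · exact key _ (by norm_num) hy
    · exact key _ (by norm_num) hy
    · exact key _ (by norm_num) hy
    · exact key _ (by norm_num) hy
  have h11177 : (co3Set U0 \ {X16}).ncard = 11177 := by
    have := ncard_co3 U0 sqNorm_U0
    change (co3Set U0).ncard = 11178 at this
    rw [Set.ncard_sdiff_singleton_of_mem X16_mem, this]
  have hle := Set.ncard_le_ncard hunion (co3Set_finite.subset Set.sdiff_subset)
  refine ⟨by omega, by omega, by omega, by omega, ?_⟩
  exact Set.eq_of_subset_of_ncard_le hunion (by omega) (co3Set_finite.subset Set.sdiff_subset)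

theorem trans_sub {r : V} {t : ℤ} {cs : List Chunk} {n : ℕ} (hr : inLeech (toFn r) = true)
    (hmem : (⟨toFn r, mem_of_inLeech hr⟩ : leechLattice) ∈ co3Sub U0 X16 t)
    (hL : OrbList [u0, x16] r (forestList sgH cs) ∧ (forestList sgH cs).length = n)
    (hn : 0 < n) (hcard : (co3Sub U0 X16 t).ncard = n) :
    ∀ y ∈ co3Sub U0 X16 t, ∀ y' ∈ co3Sub U0 X16 t,
      ∃ g : Co0, g • U0 = U0 ∧ g • X16 = X16 ∧ g • y = y' := by
  have h := hL.1.trans (co3Sub U0 X16 t)
    (by rw [mkL_of_mem (mem_of_inLeech hr)]; exact hmem) (inv_sub t)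
    (by rw [hL.2]; exact hn) (by rw [hL.2]; exact hcard)
  intro y hy y' hy'
  obtain ⟨g, hg, hgy⟩ := h y hy y' hy'
  rw [fixesX_iff] at hg
  exact ⟨g, hg.1, hg.2, hgy⟩

theorem trans_std (t : ℤ) : ∀ y ∈ co3Sub U0 X16 t, ∀ y' ∈ co3Sub U0 X16 t,
    ∃ g : Co0, g • U0 = U0 ∧ g • X16 = X16 ∧ g • y = y' := by
  intro y hy y' hy'
  have hyX : y ∈ co3Set U0 := hy.1
  by_cases hyx : y = X16
  · -- then `t = 32` and `y' = X16` too
    have ht : t = 32 := by
      have := hy.2
      rw [hyx, dotInt_self, sqNorm_X16] at this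
      exact this.symm
    have hy'x : y' = X16 := by
      have h1 := hy'.2
      rw [ht] at h1
      have h2 := sqNorm_sub' (X16 : GolayPt → ℤ) (y' : GolayPt → ℤ)
      rw [sqNorm_X16, hy'.1.1, h1] at h2
      have h3 := sqNorm_eq_zero (x := (X16 : GolayPt → ℤ) - (y' : GolayPt → ℤ)) (by omega)
      rw [sub_eq_zero] at h3
      exact (Subtype.ext h3).symm
    exact ⟨1, one_smul _ _, one_smul _ _, by rw [one_smul, hyx, hy'x]⟩
  · have hmem : y ∈ co3Set U0 \ {X16} := ⟨hyX, hyx⟩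
    rw [← counts_and_union.2.2.2.2] at hmem
    rcases hmem with ((h | h) | h) | h
    · have ht : t = -8 := hy.2.symm.trans h.2
      subst ht
      exact trans_sub eroot_mem E0_mem orbListE (by norm_num) counts_and_union.1 y hy y' hy'
    · have ht : t = 16 := hy.2.symm.trans h.2
      subst ht
      exact trans_sub froot_mem F0_mem orbListF (by norm_num) counts_and_union.2.1 y hy y' hy'
    · have ht : t = 0 := hy.2.symm.trans h.2
      subst ht
      exact trans_sub groot_mem G0_mem orbListG (by norm_num) counts_and_union.2.2.1 y hy y' hy'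
    · have ht : t = 8 := hy.2.symm.trans h.2
      subst ht
      exact trans_sub hroot_mem H0_mem orbListH (by norm_num) counts_and_union.2.2.2.1 y hy y' hy'

end Co3HSData

open Co3Data Co3HSData

/-- Pairs `(u, x)` are conjugate to the standard pair. -/
theorem exists_std_co3_pair (u x : leechLattice) (hu : sqNorm (u : GolayPt → ℤ) = 48)
    (hx : x ∈ co3Set u) : ∃ h : Co0, h • u = U0 ∧ h • x = X16 :=
  trans_co3_pairs u x U0 X16 hu sqNorm_U0 hx X16_mem

theorem ncard_co3Sub (u x : leechLattice) (hu : sqNorm (u : GolayPt → ℤ) = 48)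
    (hx : x ∈ co3Set u) : (co3Sub u x (-8)).ncard = 352 ∧ (co3Sub u x 16).ncard = 1100 ∧
    (co3Sub u x 0).ncard = 4125 ∧ (co3Sub u x 8).ncard = 5600 := by
  obtain ⟨h, h1, h2⟩ := exists_std_co3_pair u x hu hx
  have key : ∀ t : ℤ, (co3Sub u x t).ncard = (co3Sub U0 X16 t).ncard := by
    intro t
    have e := image_co3Sub h u x t
    rw [h1, h2] at e
    rw [← e, ncard_smul_image]
  rw [key, key, key, key]
  exact ⟨counts_and_union.1, counts_and_union.2.1, counts_and_union.2.2.1,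
    counts_and_union.2.2.2.1⟩

theorem trans_co3Sub (u x : leechLattice) (hu : sqNorm (u : GolayPt → ℤ) = 48)
    (hx : x ∈ co3Set u) (t : ℤ) : ∀ y ∈ co3Sub u x t, ∀ y' ∈ co3Sub u x t,
    ∃ g : Co0, g • u = u ∧ g • x = x ∧ g • y = y' := by
  obtain ⟨h, h1, h2⟩ := exists_std_co3_pair u x hu hx
  intro y hy y' hy'
  have m1 := smul_mem_co3Sub h hy
  have m2 := smul_mem_co3Sub h hy'
  rw [h1, h2] at m1 m2
  obtain ⟨g, g1, g2, g3⟩ := Co3HSData.trans_std t _ m1 _ m2
  refine ⟨h⁻¹ * g * h, ?_, ?_, ?_⟩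
  · rw [mul_smul, mul_smul, h1, g1, ← h1, inv_smul_smul]
  · rw [mul_smul, mul_smul, h2, g2, ← h2, inv_smul_smul]
  · rw [mul_smul, mul_smul, g3, inv_smul_smul]

theorem co3Sub_cases (u x : leechLattice) (hu : sqNorm (u : GolayPt → ℤ) = 48)
    (hx : x ∈ co3Set u) (y : leechLattice) (hy : y ∈ co3Set u) (hne : y ≠ x) :
    y ∈ co3Sub u x (-8) ∨ y ∈ co3Sub u x 16 ∨ y ∈ co3Sub u x 0 ∨ y ∈ co3Sub u x 8 := by
  obtain ⟨h, h1, h2⟩ := exists_std_co3_pair u x hu hx
  have m := smul_mem_co3Set h hy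
  rw [h1] at m
  have hne' : h • y ≠ X16 := by
    intro e
    rw [← h2] at e
    exact hne (MulAction.injective h e)
  have hmem : h • y ∈ co3Set U0 \ {X16} := ⟨m, hne'⟩
  rw [← counts_and_union.2.2.2.2] at hmem
  have key : ∀ t : ℤ, h • y ∈ co3Sub U0 X16 t → y ∈ co3Sub u x t := by
    intro t ht
    refine ⟨hy, ?_⟩
    have := Co0_dot h x y
    rw [h2] at this
    rw [← this]
    exact ht.2
  rcases hmem with ((h' | h') | h') | h'
  · exact Or.inl (key _ h')
  · exact Or.inr (Or.inl (key _ h'))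
  · exact Or.inr (Or.inr (Or.inl (key _ h')))
  · exact Or.inr (Or.inr (Or.inr (key _ h')))

/-- The orbits of the stabiliser of `u` and `x` are the sets `co3Sub u x t`. -/
theorem orbit_eq_co3Sub (u x : leechLattice) (hu : sqNorm (u : GolayPt → ℤ) = 48)
    (hx : x ∈ co3Set u) (t : ℤ) (y : leechLattice) (hy : y ∈ co3Sub u x t) :
    MulAction.orbit ↥(MulAction.stabilizer ↥Co0 u ⊓ MulAction.stabilizer ↥Co0 x) y
      = co3Sub u x t := by
  ext z
  constructor
  · rintro ⟨⟨g, hg⟩, rfl⟩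
    rw [Subgroup.mem_inf, MulAction.mem_stabilizer_iff, MulAction.mem_stabilizer_iff] at hg
    have := smul_mem_co3Sub g hy
    rw [hg.1, hg.2] at this
    exact this
  · intro hz
    obtain ⟨g, g1, g2, g3⟩ := trans_co3Sub u x hu hx t y hy z hz
    refine ⟨⟨g, ?_⟩, g3⟩
    rw [Subgroup.mem_inf, MulAction.mem_stabilizer_iff, MulAction.mem_stabilizer_iff]
    exact ⟨g1, g2⟩

/-- Rank 5 of the third Conway group on the cosets of the Higman–Sims group. -/
theorem co3_rank5 (u x : leechLattice) (hu : sqNorm (u : GolayPt → ℤ) = 48)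
    (hx : x ∈ co3Set u) :
    ∃ y₁ ∈ co3Set u, ∃ y₂ ∈ co3Set u, ∃ y₃ ∈ co3Set u, ∃ y₄ ∈ co3Set u,
      (MulAction.orbit ↥(MulAction.stabilizer ↥Co0 u ⊓ MulAction.stabilizer ↥Co0 x) y₁).ncard = 352 ∧
      (MulAction.orbit ↥(MulAction.stabilizer ↥Co0 u ⊓ MulAction.stabilizer ↥Co0 x) y₂).ncard = 1100 ∧
      (MulAction.orbit ↥(MulAction.stabilizer ↥Co0 u ⊓ MulAction.stabilizer ↥Co0 x) y₃).ncard = 4125 ∧
      (MulAction.orbit ↥(MulAction.stabilizer ↥Co0 u ⊓ MulAction.stabilizer ↥Co0 x) y₄).ncard = 5600 ∧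
      co3Set u = {x} ∪
        MulAction.orbit ↥(MulAction.stabilizer ↥Co0 u ⊓ MulAction.stabilizer ↥Co0 x) y₁ ∪
        MulAction.orbit ↥(MulAction.stabilizer ↥Co0 u ⊓ MulAction.stabilizer ↥Co0 x) y₂ ∪
        MulAction.orbit ↥(MulAction.stabilizer ↥Co0 u ⊓ MulAction.stabilizer ↥Co0 x) y₃ ∪
        MulAction.orbit ↥(MulAction.stabilizer ↥Co0 u ⊓ MulAction.stabilizer ↥Co0 x) y₄ := by
  obtain ⟨h, h1, h2⟩ := exists_std_co3_pair u x hu hx
  have key : ∀ (Y : leechLattice) (t : ℤ), Y ∈ co3Sub U0 X16 t → h⁻¹ • Y ∈ co3Sub u x t := by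
    intro Y t hY
    have := smul_mem_co3Sub h⁻¹ hY
    rwa [← h1, ← h2, inv_smul_smul, inv_smul_smul] at this
  have m1 := key _ _ E0_mem
  have m2 := key _ _ F0_mem
  have m3 := key _ _ G0_mem
  have m4 := key _ _ H0_mem
  obtain ⟨c1, c2, c3, c4⟩ := ncard_co3Sub u x hu hx
  refine ⟨_, m1.1, _, m2.1, _, m3.1, _, m4.1, ?_⟩
  rw [orbit_eq_co3Sub u x hu hx _ _ m1, orbit_eq_co3Sub u x hu hx _ _ m2,
    orbit_eq_co3Sub u x hu hx _ _ m3, orbit_eq_co3Sub u x hu hx _ _ m4]
  refine ⟨c1, c2, c3, c4, ?_⟩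
  ext y
  simp only [Set.mem_union, Set.mem_singleton_iff]
  constructor
  · intro hy
    by_cases hyx : y = x
    · exact Or.inl (Or.inl (Or.inl (Or.inl hyx)))
    · rcases co3Sub_cases u x hu hx y hy hyx with h' | h' | h' | h'
      · exact Or.inl (Or.inl (Or.inl (Or.inr h')))
      · exact Or.inl (Or.inl (Or.inr h'))
      · exact Or.inl (Or.inr h')
      · exact Or.inr h'
  · rintro ((((h' | h') | h') | h') | h')
    · rw [h']; exact hx
    · exact h'.1
    · exact h'.1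
    · exact h'.1
    · exact h'.1

end Cfsg.Agent.Lib.H27
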