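/-
helper27 library: relator checks for the automorphisms of `Co3`, candidates with `s ↦ s` (generated).
-/
import Mathlib
import Cfsg.Agent.Lib.H27.Co3Rel

set_option autoImplicit false

namespace Cfsg.Agent.Lib.H27

open Cfsg MulAction Cfsg.Agent.Lib.H28 Cfsg.Agent.Lib.H27.Eng

namespace Co3Out

open Co3GenData OutM AutRigid

theorem chk3_t_1 : moves (relW true 1 (rels3.getD 0 ([], 0))) (gen1L 0) = true := by decide +kernel
theorem chk3_t_2 : moves (relW true 2 (rels3.getD 0 ([], 0))) (gen1L 0) = true := by decide +kernel
theorem chk3_t_3 : moves (relW true 3 (rels3.getD 0 ([], 0))) (gen1L 0) = true := by decide +kernel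
theorem chk3_t_4 : moves (relW true 4 (rels3.getD 0 ([], 0))) (gen1L 0) = true := by decide +kernel
theorem chk3_t_5 : moves (relW true 5 (rels3.getD 0 ([], 0))) (gen1L 0) = true := by decide +kernel
theorem chk3_t_6 : moves (relW true 6 (rels3.getD 0 ([], 0))) (gen1L 0) = true := by decide +kernel
theorem chk3_t_7 : moves (relW true 7 (rels3.getD 0 ([], 0))) (gen1L 0) = true := by decide +kernel
theorem chk3_t_8 : moves (relW true 8 (rels3.getD 0 ([], 0))) (gen1L 0) = true := by decide +kernel
theorem chk3_t_9 : moves (relW true 9 (rels3.getD 0 ([], 0))) (gen1L 0) = true := by decide +kernel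
theorem chk3_t_10 : moves (relW true 10 (rels3.getD 0 ([], 0))) (gen1L 0) = true := by decide +kernel
theorem chk3_t_11 : moves (relW true 11 (rels3.getD 1 ([], 0))) (gen1L 0) = true := by decide +kernel
theorem chk3_t_12 : moves (relW true 12 (rels3.getD 0 ([], 0))) (gen1L 0) = true := by decide +kernel
theorem chk3_t_13 : moves (relW true 13 (rels3.getD 0 ([], 0))) (gen1L 0) = true := by decide +kernel
theorem chk3_t_14 : moves (relW true 14 (rels3.getD 0 ([], 0))) (gen1L 0) = true := by decide +kernel
theorem chk3_t_15 : moves (relW true 15 (rels3.getD 0 ([], 0))) (gen1L 0) = true := by decide +kernel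
theorem chk3_t_16 : moves (relW true 16 (rels3.getD 0 ([], 0))) (gen1L 0) = true := by decide +kernel
theorem chk3_t_17 : moves (relW true 17 (rels3.getD 0 ([], 0))) (gen1L 0) = true := by decide +kernel
theorem chk3_t_18 : moves (relW true 18 (rels3.getD 0 ([], 0))) (gen1L 0) = true := by decide +kernel
theorem chk3_t_19 : moves (relW true 19 (rels3.getD 0 ([], 0))) (gen1L 0) = true := by decide +kernel
theorem chk3_t_20 : moves (relW true 20 (rels3.getD 0 ([], 0))) (gen1L 0) = true := by decide +kernel
theorem chk3_t_21 : moves (relW true 21 (rels3.getD 0 ([], 0))) (gen1L 0) = true := by decide +kernel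

end Co3Out

end Cfsg.Agent.Lib.H27
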