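/-
helper27 library: relator checks for the automorphisms of `Co3`, candidates with `s ↦ s⁻¹` (generated).
-/
import Mathlib
import Cfsg.Agent.Lib.H27.Co3Rel

set_option autoImplicit false

namespace Cfsg.Agent.Lib.H27

open Cfsg MulAction Cfsg.Agent.Lib.H28 Cfsg.Agent.Lib.H27.Eng

namespace Co3Out

open Co3GenData OutM AutRigid

theorem chk3_f_0 : moves (relW false 0 (rels3.getD 0 ([], 0))) (gen1L 0) = true := by decide +kernel
theorem chk3_f_1 : moves (relW false 1 (rels3.getD 0 ([], 0))) (gen1L 0) = true := by decide +kernel
theorem chk3_f_2 : moves (relW false 2 (rels3.getD 0 ([], 0))) (gen1L 0) = true := by decide +kernel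
theorem chk3_f_3 : moves (relW false 3 (rels3.getD 0 ([], 0))) (gen1L 0) = true := by decide +kernel
theorem chk3_f_4 : moves (relW false 4 (rels3.getD 0 ([], 0))) (gen1L 0) = true := by decide +kernel
theorem chk3_f_5 : moves (relW false 5 (rels3.getD 0 ([], 0))) (gen1L 0) = true := by decide +kernel
theorem chk3_f_6 : moves (relW false 6 (rels3.getD 0 ([], 0))) (gen1L 0) = true := by decide +kernel
theorem chk3_f_7 : moves (relW false 7 (rels3.getD 0 ([], 0))) (gen1L 0) = true := by decide +kernel
theorem chk3_f_8 : moves (relW false 8 (rels3.getD 0 ([], 0))) (gen1L 0) = true := by decide +kernel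
theorem chk3_f_9 : moves (relW false 9 (rels3.getD 0 ([], 0))) (gen1L 0) = true := by decide +kernel
theorem chk3_f_10 : moves (relW false 10 (rels3.getD 0 ([], 0))) (gen1L 0) = true := by decide +kernel
theorem chk3_f_11 : moves (relW false 11 (rels3.getD 0 ([], 0))) (gen1L 0) = true := by decide +kernel
theorem chk3_f_12 : moves (relW false 12 (rels3.getD 0 ([], 0))) (gen1L 0) = true := by decide +kernel
theorem chk3_f_13 : moves (relW false 13 (rels3.getD 0 ([], 0))) (gen1L 0) = true := by decide +kernel
theorem chk3_f_14 : moves (relW false 14 (rels3.getD 0 ([], 0))) (gen1L 0) = true := by decide +kernel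
theorem chk3_f_15 : moves (relW false 15 (rels3.getD 0 ([], 0))) (gen1L 0) = true := by decide +kernel
theorem chk3_f_16 : moves (relW false 16 (rels3.getD 0 ([], 0))) (gen1L 0) = true := by decide +kernel
theorem chk3_f_17 : moves (relW false 17 (rels3.getD 0 ([], 0))) (gen1L 0) = true := by decide +kernel
theorem chk3_f_18 : moves (relW false 18 (rels3.getD 0 ([], 0))) (gen1L 0) = true := by decide +kernel
theorem chk3_f_19 : moves (relW false 19 (rels3.getD 0 ([], 0))) (gen1L 0) = true := by decide +kernel
theorem chk3_f_20 : moves (relW false 20 (rels3.getD 0 ([], 0))) (gen1L 0) = true := by decide +kernel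
theorem chk3_f_21 : moves (relW false 21 (rels3.getD 0 ([], 0))) (gen1L 0) = true := by decide +kernel

end Co3Out

end Cfsg.Agent.Lib.H27
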