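/-
helper27 library: the second relator of `Co3` holds.
-/
import Mathlib
import Cfsg.Agent.Lib.H27.Co3Rel

set_option autoImplicit false

namespace Cfsg.Agent.Lib.H27

open Cfsg MulAction Cfsg.Agent.Lib.H28 Cfsg.Agent.Lib.H27.Eng

namespace Co3Out

open Co3GenData OutM AutRigid

theorem chk3_0b : wordIsOneF (relW true 0 ([0, 1, 0, 2], 7)) = true := by decide +kernel

end Co3Out

end Cfsg.Agent.Lib.H27
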