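/-
helper27 library: the relators of `Co3` hold and pin down the images of the generators under an automorphism.
-/
import Mathlib
import Cfsg.Agent.Lib.H27.Co3RelA
import Cfsg.Agent.Lib.H27.Co3RelB
import Cfsg.Agent.Lib.H27.Co3RelC
import Cfsg.Agent.Lib.H27.Co3RelD

set_option autoImplicit false

namespace Cfsg.Agent.Lib.H27

open Cfsg MulAction Cfsg.Agent.Lib.H28 Cfsg.Agent.Lib.H27.Eng

namespace Co3Out

open Co3GenData OutM AutRigid

theorem gen1L0_mem : gen1L 0 ∈ genLists := by decide +kernel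

theorem chk3 (e : Bool) (j : ℕ) (hj : j < 22) (h : ¬ (e = true ∧ j = 0)) :
    ∃ r ∈ rels3, ∃ b ∈ genLists, moves (relW e j r) b = true := by
  cases e
  · interval_cases j
    · exact ⟨rels3.getD 0 ([], 0), by decide, gen1L 0, gen1L0_mem, chk3_f_0⟩
    · exact ⟨rels3.getD 0 ([], 0), by decide, gen1L 0, gen1L0_mem, chk3_f_1⟩
    · exact ⟨rels3.getD 0 ([], 0), by decide, gen1L 0, gen1L0_mem, chk3_f_2⟩
    · exact ⟨rels3.getD 0 ([], 0), by decide, gen1L 0, gen1L0_mem, chk3_f_3⟩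
    · exact ⟨rels3.getD 0 ([], 0), by decide, gen1L 0, gen1L0_mem, chk3_f_4⟩
    · exact ⟨rels3.getD 0 ([], 0), by decide, gen1L 0, gen1L0_mem, chk3_f_5⟩
    · exact ⟨rels3.getD 0 ([], 0), by decide, gen1L 0, gen1L0_mem, chk3_f_6⟩
    · exact ⟨rels3.getD 0 ([], 0), by decide, gen1L 0, gen1L0_mem, chk3_f_7⟩
    · exact ⟨rels3.getD 0 ([], 0), by decide, gen1L 0, gen1L0_mem, chk3_f_8⟩
    · exact ⟨rels3.getD 0 ([], 0), by decide, gen1L 0, gen1L0_mem, chk3_f_9⟩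
    · exact ⟨rels3.getD 0 ([], 0), by decide, gen1L 0, gen1L0_mem, chk3_f_10⟩
    · exact ⟨rels3.getD 0 ([], 0), by decide, gen1L 0, gen1L0_mem, chk3_f_11⟩
    · exact ⟨rels3.getD 0 ([], 0), by decide, gen1L 0, gen1L0_mem, chk3_f_12⟩
    · exact ⟨rels3.getD 0 ([], 0), by decide, gen1L 0, gen1L0_mem, chk3_f_13⟩
    · exact ⟨rels3.getD 0 ([], 0), by decide, gen1L 0, gen1L0_mem, chk3_f_14⟩
    · exact ⟨rels3.getD 0 ([], 0), by decide, gen1L 0, gen1L0_mem, chk3_f_15⟩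
    · exact ⟨rels3.getD 0 ([], 0), by decide, gen1L 0, gen1L0_mem, chk3_f_16⟩
    · exact ⟨rels3.getD 0 ([], 0), by decide, gen1L 0, gen1L0_mem, chk3_f_17⟩
    · exact ⟨rels3.getD 0 ([], 0), by decide, gen1L 0, gen1L0_mem, chk3_f_18⟩
    · exact ⟨rels3.getD 0 ([], 0), by decide, gen1L 0, gen1L0_mem, chk3_f_19⟩
    · exact ⟨rels3.getD 0 ([], 0), by decide, gen1L 0, gen1L0_mem, chk3_f_20⟩
    · exact ⟨rels3.getD 0 ([], 0), by decide, gen1L 0, gen1L0_mem, chk3_f_21⟩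
  · interval_cases j
    · exact absurd ⟨rfl, rfl⟩ h
    · exact ⟨rels3.getD 0 ([], 0), by decide, gen1L 0, gen1L0_mem, chk3_t_1⟩
    · exact ⟨rels3.getD 0 ([], 0), by decide, gen1L 0, gen1L0_mem, chk3_t_2⟩
    · exact ⟨rels3.getD 0 ([], 0), by decide, gen1L 0, gen1L0_mem, chk3_t_3⟩
    · exact ⟨rels3.getD 0 ([], 0), by decide, gen1L 0, gen1L0_mem, chk3_t_4⟩
    · exact ⟨rels3.getD 0 ([], 0), by decide, gen1L 0, gen1L0_mem, chk3_t_5⟩
    · exact ⟨rels3.getD 0 ([], 0), by decide, gen1L 0, gen1L0_mem, chk3_t_6⟩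
    · exact ⟨rels3.getD 0 ([], 0), by decide, gen1L 0, gen1L0_mem, chk3_t_7⟩
    · exact ⟨rels3.getD 0 ([], 0), by decide, gen1L 0, gen1L0_mem, chk3_t_8⟩
    · exact ⟨rels3.getD 0 ([], 0), by decide, gen1L 0, gen1L0_mem, chk3_t_9⟩
    · exact ⟨rels3.getD 0 ([], 0), by decide, gen1L 0, gen1L0_mem, chk3_t_10⟩
    · exact ⟨rels3.getD 1 ([], 0), by decide, gen1L 0, gen1L0_mem, chk3_t_11⟩
    · exact ⟨rels3.getD 0 ([], 0), by decide, gen1L 0, gen1L0_mem, chk3_t_12⟩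
    · exact ⟨rels3.getD 0 ([], 0), by decide, gen1L 0, gen1L0_mem, chk3_t_13⟩
    · exact ⟨rels3.getD 0 ([], 0), by decide, gen1L 0, gen1L0_mem, chk3_t_14⟩
    · exact ⟨rels3.getD 0 ([], 0), by decide, gen1L 0, gen1L0_mem, chk3_t_15⟩
    · exact ⟨rels3.getD 0 ([], 0), by decide, gen1L 0, gen1L0_mem, chk3_t_16⟩
    · exact ⟨rels3.getD 0 ([], 0), by decide, gen1L 0, gen1L0_mem, chk3_t_17⟩
    · exact ⟨rels3.getD 0 ([], 0), by decide, gen1L 0, gen1L0_mem, chk3_t_18⟩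
    · exact ⟨rels3.getD 0 ([], 0), by decide, gen1L 0, gen1L0_mem, chk3_t_19⟩
    · exact ⟨rels3.getD 0 ([], 0), by decide, gen1L 0, gen1L0_mem, chk3_t_20⟩
    · exact ⟨rels3.getD 0 ([], 0), by decide, gen1L 0, gen1L0_mem, chk3_t_21⟩

theorem chk3_0 : ∀ r ∈ rels3, wordIsOneF (relW true 0 r) = true := by
  intro r hr
  unfold rels3 at hr
  simp only [List.mem_cons, List.not_mem_nil, or_false] at hr
  rcases hr with rfl | rfl
  · exact chk3_0a
  · exact chk3_0b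

/-- The relators hold. -/
theorem rel3_0 : ∀ r ∈ rels3, (evalPat (fun i => [wordCo0 wS, wordCo0 wD,
    wordCo0 wU * wordCo0 wZ].getD i 1) r.1) ^ r.2 = 1 := by
  intro r hr
  have h1 := chk3_0 r hr
  have h2 := wordCo0_eq_oneF (relW_ok true 0 r) h1
  rw [wordCo0_relW] at h2
  simp only [if_true, pow_zero, mul_one] at h2
  exact h2

/-- The relators pin down the images. -/
theorem rel3_pin (e : Bool) (j : ℕ) (hj : j < 22)
    (h : ∀ r ∈ rels3, (evalPat (fun i => [if e then wordCo0 wS else (wordCo0 wS)⁻¹, wordCo0 wD,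
      wordCo0 wU * wordCo0 wZ * (wordCo0 wD * wordCo0 wZ) ^ j].getD i 1) r.1) ^ r.2 = 1) :
    e = true ∧ j = 0 := by
  by_contra hcon
  obtain ⟨r, hr, b, hb, hm⟩ := chk3 e j hj hcon
  have hr2 : wordMoves (relW e j r) = true := by
    unfold wordMoves
    rw [List.any_eq_true]
    exact ⟨b, hb, hm⟩
  apply ne_one_of_wordMoves (relW_ok e j r) hr2
  rw [wordCo0_relW]
  exact h r hr

end Co3Out

end Cfsg.Agent.Lib.H27
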