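/-
helper27 library: every automorphism of the Conway group `Co3` is inner.  Rigidity argument with the Frobenius
subgroup `23 : 11 = ⟨s, d⟩` of `M23 ≤ Co3`, the element `u' = u z` of order 10 normalizing `⟨d⟩`
(`u ∈ M23` of order 5, `z` the involution centralizing `d`), and `C(d) = ⟨d z⟩` of order 22.
-/
import Mathlib
import Cfsg.Prelude.Def_Spor_Conway
import Cfsg.Agent.Lib.H27.Co3Rel2
import Cfsg.Agent.Lib.H27.AutRigid3
import Cfsg.Agent.Lib.H27.StabTools

set_option autoImplicit false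

namespace Cfsg.Agent.Lib.H27

open Cfsg MulAction Cfsg.Agent.Lib.H28 Cfsg.Agent.Lib.H27.Eng

namespace AutRigid

/-- If every automorphism of `G` is inner, the same holds for every group isomorphic to `G`. -/
theorem all_inner_of_equiv {G H : Type*} [Group G] [Group H] (e : G ≃* H)
    (h : ∀ φ : MulAut G, ∃ g : G, φ = MulAut.conj g) (φ : MulAut H) : ∃ k : H, φ = MulAut.conj k := by
  obtain ⟨g, hg⟩ := h ((e.trans φ).trans e.symm)
  refine ⟨e g, ?_⟩
  ext x
  have h1 := congrArg (fun ψ : MulAut G => e (ψ (e.symm x))) hg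
  simp only [MulEquiv.trans_apply, MulEquiv.apply_symm_apply, MulAut.conj_apply, map_mul, map_inv] at h1
  rw [MulAut.conj_apply]
  exact h1

end AutRigid

namespace Co3Out

open Co3GenData OutM AutRigid

instance : Finite ↥C3 := inferInstance

theorem wS_mem : wordCo0 wS ∈ C3 := K4_le (sg_mem_K4 wS (by simp [sg]))
theorem wD_mem : wordCo0 wD ∈ C3 := K4_le (sg_mem_K4 wD (by simp [sg]))
theorem wU_mem : wordCo0 wU ∈ C3 := K4_le (sg_mem_K4 wU (by simp [sg]))

/-- The elements as members of `C3`. -/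
noncomputable def sC : ↥C3 := ⟨wordCo0 wS, wS_mem⟩
noncomputable def dC : ↥C3 := ⟨wordCo0 wD, wD_mem⟩
noncomputable def uC : ↥C3 := ⟨wordCo0 wU, wU_mem⟩
noncomputable def zC : ↥C3 := ⟨wordCo0 wZ, z_mem⟩

theorem sC_coe : (sC : Co0) = wordCo0 wS := rfl
theorem dC_coe : (dC : Co0) = wordCo0 wD := rfl
theorem uC_coe : (uC : Co0) = wordCo0 wU := rfl
theorem zC_coe : (zC : Co0) = wordCo0 wZ := rfl

theorem orderOf_sC : orderOf sC = 23 := by
  rw [← Subgroup.orderOf_coe, sC_coe, ← pCo0_sM]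
  have h1 : orderOf (permHom sM) = orderOf sM := orderOf_injective permHom permHom_injective sM
  have h2 : orderOf sM = orderOf (wordPerm sw) := (Subgroup.orderOf_coe sM).symm
  show orderOf (permHom sM) = 23
  rw [h1, h2, s_order]

theorem hds : dC * sC * dC⁻¹ = sC ^ 2 := by
  rw [mul_inv_eq_iff_eq_mul]
  apply Subtype.ext
  simp only [Subgroup.coe_mul, Subgroup.coe_pow, sC_coe, dC_coe]
  exact ds_rel

theorem zd_commC : zC * dC = dC * zC := Subtype.ext zd_comm
theorem zu_commC : zC * uC = uC * zC := Subtype.ext zu_comm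
theorem z_sqC : zC ^ 2 = 1 := Subtype.ext (by rw [Subgroup.coe_pow, zC_coe, z_sq, Subgroup.coe_one])
theorem u_pow5C : uC ^ 5 = 1 := Subtype.ext (by rw [Subgroup.coe_pow, uC_coe, u_pow5, Subgroup.coe_one])
theorem d_pow11C : dC ^ 11 = 1 := Subtype.ext (by rw [Subgroup.coe_pow, dC_coe, d_pow11, Subgroup.coe_one])

theorem ud_relC : uC * dC = dC ^ 3 * uC := by
  apply Subtype.ext
  simp only [Subgroup.coe_mul, Subgroup.coe_pow, uC_coe, dC_coe]
  exact ud_rel

theorem hud : (uC * zC) * dC * (uC * zC)⁻¹ = dC ^ 3 := by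
  rw [mul_inv_eq_iff_eq_mul]
  have hz3 : zC * dC ^ 3 = dC ^ 3 * zC := ((Commute.pow_right (show Commute zC dC from zd_commC) 3)).eq
  calc uC * zC * dC = uC * (zC * dC) := by rw [mul_assoc]
    _ = uC * (dC * zC) := by rw [zd_commC]
    _ = (uC * dC) * zC := by rw [mul_assoc]
    _ = dC ^ 3 * uC * zC := by rw [ud_relC]
    _ = dC ^ 3 * (uC * zC) := by rw [mul_assoc]

/-- Conjugacy of the elements of order 23. -/
theorem hA1 (x : ↥C3) (hx : orderOf x = orderOf sC) :
    ∃ k : ↥C3, k * x * k⁻¹ = sC ∨ k * x * k⁻¹ = sC⁻¹ := by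
  refine conj_pm_of_sylow (p := 23) (a := 2) (by norm_num) ?_ orderOf_sC hds ?_ x hx
  · rw [card_C3]
    norm_num
  · have h : ∀ i < 23, i ≠ 0 → ∃ m < 11, (i * 2 ^ m) % 23 = 1 ∨ (i * 2 ^ m) % 23 = 23 - 1 := by decide
    intro i hi hi0
    obtain ⟨m, -, hm⟩ := h i hi hi0
    exact ⟨m, hm⟩

/-- The centralizer of `s`. -/
theorem hA2 (c : ↥C3) (hc : c * sC = sC * c) : ∃ m : ℤ, c = sC ^ m := by
  have hc' : (c : Co0) * wordCo0 wS = wordCo0 wS * (c : Co0) := congrArg Subtype.val hc
  obtain ⟨m, hm⟩ := centralizer_sC c.2 hc'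
  refine ⟨m, Subtype.ext ?_⟩
  rw [Subgroup.coe_zpow]
  exact hm

/-- The centralizer of `d`. -/
theorem hA3 (c : ↥C3) (hc : c * dC = dC * c) : ∃ j < 22, c = (dC * zC) ^ j := by
  have hc' : (c : Co0) * wordCo0 wD = wordCo0 wD * (c : Co0) := congrArg Subtype.val hc
  have hcomm : Commute dC zC := zd_commC.symm
  have hz : ∀ k : ℕ, zC ^ (2 * k) = 1 := fun k => by rw [pow_mul, z_sqC, one_pow]
  have hz' : ∀ k : ℕ, zC ^ (2 * k + 1) = zC := fun k => by rw [pow_succ, hz, one_mul]
  have hd : ∀ j : ℕ, dC ^ (j + 11) = dC ^ j := fun j => by rw [pow_add, d_pow11C, mul_one]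
  rcases centralizer_dC c.2 hc' with ⟨j, hj, hjc⟩ | ⟨j, hj, hjc⟩
  · have hcj : c = dC ^ j := Subtype.ext (by rw [Subgroup.coe_pow]; exact hjc)
    rcases Nat.even_or_odd' j with ⟨k, hk | hk⟩
    · refine ⟨j, by omega, ?_⟩
      rw [hcomm.mul_pow, hcj]
      conv_rhs => rw [hk, hz, mul_one]
      rw [hk]
    · refine ⟨j + 11, by omega, ?_⟩
      rw [hcomm.mul_pow, hd, hcj]
      have : j + 11 = 2 * (k + 6) := by omega
      rw [this, hz, mul_one]
  · have hcj : c = zC * dC ^ j := Subtype.ext (by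
      rw [Subgroup.coe_mul, Subgroup.coe_pow]; exact hjc)
    have hzd : zC * dC ^ j = dC ^ j * zC := ((Commute.pow_right (show Commute zC dC from zd_commC) j)).eq
    rcases Nat.even_or_odd' j with ⟨k, hk | hk⟩
    · refine ⟨j + 11, by omega, ?_⟩
      rw [hcomm.mul_pow, hd, hcj, hzd]
      have : j + 11 = 2 * (k + 5) + 1 := by omega
      rw [this, hz']
    · refine ⟨j, by omega, ?_⟩
      rw [hcomm.mul_pow, hcj, hzd]
      conv_rhs => rw [hk, hz']
      rw [hk]

/-- Generation: an automorphism fixing `s`, `d` and `u z` is trivial. -/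
theorem hgen (ψ : MulAut ↥C3) (hs : ψ sC = sC) (hd : ψ dC = dC) (hu : ψ (uC * zC) = uC * zC) : ψ = 1 := by
  have hcomm : Commute uC zC := zu_commC.symm
  have hz : zC = (uC * zC) ^ 5 := by
    rw [hcomm.mul_pow, u_pow5C, one_mul]
    have : zC ^ 5 = zC ^ (2 * 2 + 1) := rfl
    rw [this, pow_succ, pow_mul, z_sqC, one_pow, one_mul]
  have hu' : uC = (uC * zC) ^ 6 := by
    rw [hcomm.mul_pow]
    have h1 : zC ^ 6 = 1 := by
      have : zC ^ 6 = (zC ^ 2) ^ 3 := by rw [← pow_mul]
      rw [this, z_sqC, one_pow]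
    have h2 : uC ^ 6 = uC := by rw [pow_succ, u_pow5C, one_mul]
    rw [h1, h2, mul_one]
  have hψz : ψ zC = zC := by
    conv_lhs => rw [hz]
    rw [map_pow, hu, ← hz]
  have hψu : ψ uC = uC := by
    conv_lhs => rw [hu']
    rw [map_pow, hu, ← hu']
  have key : ∀ y : Co0, y ∈ K4 → ∀ hy : y ∈ C3, ψ ⟨y, hy⟩ = ⟨y, hy⟩ := by
    intro y hy
    unfold K4 at hy
    induction hy using Subgroup.closure_induction with
    | mem x hx =>
      intro hxM
      rcases hx with rfl | rfl | rfl | rfl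
      · exact hs
      · exact hd
      · exact hψu
      · exact hψz
    | one =>
      intro h1
      exact map_one ψ
    | mul a b ha hb iha ihb =>
      intro hab
      have haM : a ∈ C3 := K4_le ha
      have hbM : b ∈ C3 := K4_le hb
      have : (⟨a * b, hab⟩ : ↥C3) = ⟨a, haM⟩ * ⟨b, hbM⟩ := rfl
      rw [this, map_mul, iha haM, ihb hbM]
    | inv a ha iha =>
      intro hai
      have haM : a ∈ C3 := K4_le ha
      have : (⟨a⁻¹, hai⟩ : ↥C3) = (⟨a, haM⟩ : ↥C3)⁻¹ := rfl
      rw [this, map_inv, iha haM]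
  ext x : 1
  have hx : (x : Co0) ∈ K4 := by rw [K4_eq]; exact x.2
  have := key x.1 hx x.2
  rw [MulAut.one_apply]
  exact this

theorem coe_evalPatC (vals : ℕ → ↥C3) (w : List ℕ) :
    ((evalPat vals w : ↥C3) : Co0) = evalPat (fun i => ((vals i : ↥C3) : Co0)) w :=
  map_evalPat (Subgroup.subtype C3) vals w

/-- Every automorphism of `C3` is inner. -/
theorem all_inner_C3 (φ : MulAut ↥C3) : ∃ g : ↥C3, φ = MulAut.conj g := by
  apply inner_of_pin sC dC (uC * zC) (dC * zC) 22 2 2 3 hgen hA1 hA2 hA3 hds rfl hud rels3 _ _ φ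
  · -- the relators hold
    intro r hr
    apply Subtype.ext
    rw [Subgroup.coe_pow, coe_evalPatC, Subgroup.coe_one]
    have h0 := rel3_0 r hr
    have hf : (fun i => (([sC, dC, uC * zC].getD i 1 : ↥C3) : Co0)) =
        (fun i => [wordCo0 wS, wordCo0 wD, wordCo0 wU * wordCo0 wZ].getD i 1) := by
      funext i
      match i with
      | 0 => rfl
      | 1 => rfl
      | 2 => rfl
      | (i + 3) => rfl
    rw [hf]
    exact h0
  · -- the relators pin down the images
    intro s' hs' j hj h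
    have key : ∀ e : Bool, s' = (if e then sC else sC⁻¹) → e = true ∧ j = 0 := by
      intro e he
      apply rel3_pin e j hj
      intro r hr
      have h1 := congrArg (fun x : ↥C3 => (x : Co0)) (h r hr)
      simp only [Subgroup.coe_pow, coe_evalPatC, Subgroup.coe_one] at h1
      have hf : (fun i => (([s', dC, uC * zC * (dC * zC) ^ j].getD i 1 : ↥C3) : Co0)) =
          (fun i => [if e then wordCo0 wS else (wordCo0 wS)⁻¹, wordCo0 wD,
            wordCo0 wU * wordCo0 wZ * (wordCo0 wD * wordCo0 wZ) ^ j].getD i 1) := by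
        funext i
        match i with
        | 0 =>
          rw [he]
          cases e
          · rfl
          · rfl
        | 1 => rfl
        | 2 => rfl
        | (i + 3) => rfl
      rw [hf] at h1
      exact h1
    rcases hs' with rfl | rfl
    · obtain ⟨-, rfl⟩ := key true rfl
      exact ⟨rfl, by rw [pow_zero, mul_one]⟩
    · obtain ⟨h1, -⟩ := key false rfl
      exact absurd h1 (by decide)

/-- Every automorphism of `Co3` is inner. -/
theorem all_inner_Co3 (φ : MulAut ↥Spor.Co3) : ∃ g : ↥Spor.Co3, φ = MulAut.conj g :=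
  all_inner_of_equiv (stabSubEquiv Co0 Spor.leechV) all_inner_C3 φ

end Co3Out

end Cfsg.Agent.Lib.H27
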