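/-
helper27 library (generated by scripts/gen_simple.py): an element of the monomial `M22` whose
number of fixed points on the 11178 points does not divide this degree.
-/
import Cfsg.Agent.Lib.H27.FixCount
import Cfsg.Agent.Lib.H27.Co3Data

set_option autoImplicit false
set_option maxRecDepth 1000000

namespace Cfsg.Agent.Lib.H27.SimpleDataCo3

open Cfsg.Agent.Lib.H27.Eng

def wCo3 : List Gen := [Gen.mono [0, 1, 10, 20, 11, 4, 3, 6, 18, 16, 21, 22, 12, 2, 5, 7, 19, 17, 9, 8, 15, 23, 14, 13] [0, 1, 13, 6, 5, 14, 7, 15, 19, 18, 2, 4, 12, 23, 22, 20, 9, 17, 8, 16, 3, 10, 11, 21] 0]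
theorem wCo3_ok : sgOK [wCo3] = true := by decide +kernel
theorem wCo3_fix : fixOK [wCo3] [Co3Data.u0] = true := by decide +kernel
theorem wCo3_cnt0 : chunkCnt Co3Data.sg (fixedBy wCo3) Co3Data.c0 4 = true := by decide +kernel
theorem wCo3_cnt1 : chunkCnt Co3Data.sg (fixedBy wCo3) Co3Data.c1 2 = true := by decide +kernel
theorem wCo3_cnt2 : chunkCnt Co3Data.sg (fixedBy wCo3) Co3Data.c2 1 = true := by decide +kernel
theorem wCo3_cnt3 : chunkCnt Co3Data.sg (fixedBy wCo3) Co3Data.c3 0 = true := by decide +kernel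
theorem wCo3_cnt4 : chunkCnt Co3Data.sg (fixedBy wCo3) Co3Data.c4 1 = true := by decide +kernel
theorem wCo3_cnt5 : chunkCnt Co3Data.sg (fixedBy wCo3) Co3Data.c5 1 = true := by decide +kernel
theorem wCo3_cnt6 : chunkCnt Co3Data.sg (fixedBy wCo3) Co3Data.c6 0 = true := by decide +kernel
theorem wCo3_cnt7 : chunkCnt Co3Data.sg (fixedBy wCo3) Co3Data.c7 2 = true := by decide +kernel
theorem wCo3_cnt8 : chunkCnt Co3Data.sg (fixedBy wCo3) Co3Data.c8 1 = true := by decide +kernel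
theorem wCo3_cnt9 : chunkCnt Co3Data.sg (fixedBy wCo3) Co3Data.c9 0 = true := by decide +kernel
theorem wCo3_cnt10 : chunkCnt Co3Data.sg (fixedBy wCo3) Co3Data.c10 1 = true := by decide +kernel
theorem wCo3_cnt : ((forestList Co3Data.sg Co3Data.chunks).filter (fixedBy wCo3)).length = 13 := by
  have h := filter_length_of_cnts Co3Data.sg (fixedBy wCo3) Co3Data.chunks [4, 2, 1, 0, 1, 1, 0, 2, 1, 0, 1]
    (by
      unfold Co3Data.chunks
      exact List.Forall₂.cons wCo3_cnt0 (List.Forall₂.cons wCo3_cnt1 (List.Forall₂.cons wCo3_cnt2 (List.Forall₂.cons wCo3_cnt3 (List.Forall₂.cons wCo3_cnt4 (List.Forall₂.cons wCo3_cnt5 (List.Forall₂.cons wCo3_cnt6 (List.Forall₂.cons wCo3_cnt7 (List.Forall₂.cons wCo3_cnt8 (List.Forall₂.cons wCo3_cnt9 (List.Forall₂.cons wCo3_cnt10 (List.Forall₂.nil))))))))))))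
  rw [h]
  decide

end Cfsg.Agent.Lib.H27.SimpleDataCo3
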