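/-
helper27 library: the stabilizer of a vector of type 3 of the Leech lattice is simple of
order 495766656000.
-/
import Mathlib
import Cfsg.Prelude.Def_Sporadic_a
import Cfsg.Agent.Lib.H27.HSSimple
import Cfsg.Agent.Lib.H27.DotSub
import Cfsg.Agent.Lib.H27.Co3HS
import Cfsg.Agent.Lib.H27.SimpleDataCo3

set_option autoImplicit false

namespace Cfsg.Agent.Lib.H27

open Cfsg MulAction Cfsg.Agent.Lib.H28 Cfsg.Agent.Lib.H27.Eng

namespace Co3HSData

open Co3Data HSData SimpleDataCo3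

/-- The standard group `Co3`. -/
abbrev KC : Subgroup Co0 := stabilizer Co0 U0

def tC : Fin 5 → ℤ := ![32, -8, 16, 0, 8]

def cC : Fin 5 → ℕ := ![1, 352, 1100, 4125, 5600]

theorem ncard_co3Set_std : (co3Set U0).ncard = 11178 := ncard_co3 U0 sqNorm_U0

theorem KC_inv : ∀ g ∈ KC, ∀ y ∈ co3Set U0, g • y ∈ co3Set U0 := by
  intro g hg y hy
  have := smul_mem_co3Set g hy
  rwa [mem_stabilizer_iff.1 hg] at this

theorem KC_tr : ∀ y ∈ co3Set U0, ∃ g ∈ KC, g • X16 = y := by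
  intro y hy
  obtain ⟨g, hg1, hgy⟩ := Co3Data.trans_std X16 X16_mem y hy
  exact ⟨g, hg1, hgy⟩

theorem KC_cases : ∀ y ∈ co3Set U0,
    ∃ i, dotInt (X16 : GolayPt → ℤ) (y : GolayPt → ℤ) = tC i := by
  intro y hy
  by_cases hyx : y = X16
  · exact ⟨0, by rw [hyx, dotInt_self, sqNorm_X16]; rfl⟩
  · have hmem : y ∈ co3Set U0 \ {X16} := ⟨hy, hyx⟩
    rw [← counts_and_union.2.2.2.2] at hmem
    rcases hmem with ((h | h) | h) | h
    · exact ⟨1, h.2⟩
    · exact ⟨2, h.2⟩
    · exact ⟨3, h.2⟩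
    · exact ⟨4, h.2⟩

theorem KC_trans : ∀ i, ∀ y ∈ dotSub (co3Set U0) X16 (tC i),
    ∀ y' ∈ dotSub (co3Set U0) X16 (tC i), ∃ g ∈ KC, g • X16 = X16 ∧ g • y = y' := by
  intro i y hy y' hy'
  obtain ⟨g, h1, h2, h3⟩ := trans_std (tC i) y hy y' hy'
  exact ⟨g, h1, h2, h3⟩

theorem KC_card : ∀ i, (dotSub (co3Set U0) X16 (tC i)).ncard = cC i := by
  intro i
  fin_cases i
  · show (dotSub (co3Set U0) X16 32).ncard = 1
    rw [dotSub_32 _ _ X16_mem (fun y hy => hy.1)]
    exact Set.ncard_singleton X16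
  · exact counts_and_union.1
  · exact counts_and_union.2.1
  · exact counts_and_union.2.2.1
  · exact counts_and_union.2.2.2.1

theorem KC_stab_eq : KC ⊓ stabilizer Co0 X16 = KH := by
  have h := stab_pair48_eq U0 W0
  have e : -(U0 + W0) = X16 := by rw [W0_eq]; abel
  rw [e] at h
  exact h.symm

theorem isSimpleGroup_KC2 : IsSimpleGroup ↥(KC ⊓ stabilizer Co0 X16) := by
  rw [KC_stab_eq]
  exact isSimpleGroup_KH

theorem wCo3_all_ok : wCo3.all Gen.ok = true := ok_of_sgOK wCo3_ok (by simp)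

theorem wCo3_mem : wordCo0 wCo3 ∈ KC := by
  have h := fixes_of_fixOK wCo3_ok wCo3_fix (w := wCo3) (by simp)
  rw [Co3Data.fixes_iff] at h
  exact h

theorem wCo3_count : {z | z ∈ co3Set U0 ∧ wordCo0 wCo3 • z = z}.ncard = 13 := by
  have h := orbList16.1.ncard_fixed (co3Set U0)
    (by rw [mkL_of_mem (mem_of_inLeech x16_mem)]; exact X16_mem)
    (by
      intro g hg x hx
      rw [Co3Data.fixes_iff] at hg
      have := smul_mem_co3Set g hx
      rwa [hg] at this)
    (by rw [orbList16.2]; norm_num)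
    (by rw [orbList16.2]; exact ncard_co3Set_std) wCo3 wCo3_all_ok
  rw [h, wCo3_cnt]

/-- The standard group `Co3` is simple. -/
theorem isSimpleGroup_KC : IsSimpleGroup ↥KC :=
  isSimpleGroup_sub KC X16 (co3Set U0) X16_mem KC_inv KC_tr
    (fun i => dotSub (co3Set U0) X16 (tC i)) cC 0
    (dotSub_32 _ _ X16_mem (fun y hy => hy.1))
    (dotSub_cover _ _ tC KC_cases) (dotSub_disj _ _ tC (by decide))
    KC_trans KC_card isSimpleGroup_KC2 (by decide) ⟨1, by decide⟩ 11178 ncard_co3Set_std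
    (wordCo0 wCo3) wCo3_mem 13 wCo3_count (by norm_num) (by norm_num)

end Co3HSData

open Co3Data Co3HSData

/-- The stabilizer of a vector of type 3 is simple of order 495766656000. -/
theorem isCo3_stab (v : leechLattice) (hv : sqNorm (v : GolayPt → ℤ) = 48) :
    IsSimpleGroup ↥(stabilizer Co0 v) ∧ Nat.card ↥(stabilizer Co0 v) = 495766656000 := by
  refine ⟨?_, card_stab48 v hv⟩
  obtain ⟨h, h1⟩ := co0_trans48 v U0 hv sqNorm_U0
  have e := conjStabEquiv h v
  rw [h1] at e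
  have := isSimpleGroup_KC
  exact e.isSimpleGroup

end Cfsg.Agent.Lib.H27
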