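import Mathlib

/-!
# Two permutation groups linked by an incidence relation

`X` and `Y` are finite sets, `R` is a relation between them whose rows are pairwise distinct, and
`a d`, `b d` are permutations of `X`, `Y` with `R x y → R (a d x) (b d y)`.  Then the group generated
by the `b d` maps onto the group generated by the `a d`; if it is not larger, the two groups are
isomorphic.
-/

set_option autoImplicit false

namespace Cfsg.Agent.Lib.H27.CompatPairs

open Equiv Subgroup

variable {X Y ι : Type*}

/-- the pairs of permutations preserving the relation -/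
def autRel (R : X → Y → Prop) : Subgroup (Perm X × Perm Y) where
  carrier := {p | ∀ x y, R (p.1 x) (p.2 y) ↔ R x y}
  one_mem' := fun _ _ => Iff.rfl
  mul_mem' := by
    intro p q hp hq x y
    show R (p.1 (q.1 x)) (p.2 (q.2 y)) ↔ R x y
    rw [hp, hq]
  inv_mem' := by
    intro p hp x y
    have h := hp (p.1.symm x) (p.2.symm y)
    rw [Equiv.apply_symm_apply, Equiv.apply_symm_apply] at h
    exact h.symm

theorem mem_autRel {R : X → Y → Prop} {p : Perm X × Perm Y} :
    p ∈ autRel R ↔ ∀ x y, R (p.1 x) (p.2 y) ↔ R x y := Iff.rfl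

theorem forward_pow {R : X → Y → Prop} {p : Perm X} {q : Perm Y}
    (h : ∀ x y, R x y → R (p x) (q y)) (k : ℕ) : ∀ x y, R x y → R ((p ^ k) x) ((q ^ k) y) := by
  induction k with
  | zero => intro x y hxy; simpa using hxy
  | succ k ih =>
    intro x y hxy
    rw [pow_succ', pow_succ']
    exact h _ _ (ih x y hxy)

theorem mem_autRel_of_forward [Finite X] [Finite Y] {R : X → Y → Prop} {p : Perm X} {q : Perm Y}
    (h : ∀ x y, R x y → R (p x) (q y)) : (p, q) ∈ autRel R := by
  intro x y
  refine ⟨fun hxy => ?_, h x y⟩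
  have hn : 0 < orderOf ((p, q) : Perm X × Perm Y) := orderOf_pos _
  have hpow : ((p, q) : Perm X × Perm Y) ^ orderOf ((p, q) : Perm X × Perm Y) = 1 :=
    pow_orderOf_eq_one _
  obtain ⟨m, hm⟩ : ∃ m, orderOf ((p, q) : Perm X × Perm Y) = m + 1 :=
    ⟨_, (Nat.succ_pred_eq_of_pos hn).symm⟩
  rw [hm, Prod.pow_mk, Prod.mk_eq_one] at hpow
  have := forward_pow h m _ _ hxy
  change R ((p ^ m) (p x)) ((q ^ m) (q y)) at this
  rw [← Perm.mul_apply, ← Perm.mul_apply, ← pow_succ, ← pow_succ, hpow.1, hpow.2] at this
  exact this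

section main

variable (R : X → Y → Prop) (a : ι → Perm X) (b : ι → Perm Y)

/-- the group generated by the pairs -/
def pairGroup : Subgroup (Perm X × Perm Y) := closure (Set.range fun d => (a d, b d))

theorem pairGroup_le [Finite X] [Finite Y] (hR : ∀ d x y, R x y → R (a d x) (b d y)) : pairGroup a b ≤ autRel R := by
  unfold pairGroup
  rw [closure_le]
  rintro _ ⟨d, rfl⟩
  exact mem_autRel_of_forward (hR d)

theorem map_fst : (pairGroup a b).map (MonoidHom.fst (Perm X) (Perm Y)) = closure (Set.range a) := by
  unfold pairGroup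
  rw [MonoidHom.map_closure]
  congr 1
  ext p
  constructor
  · rintro ⟨_, ⟨d, rfl⟩, rfl⟩
    exact ⟨d, rfl⟩
  · rintro ⟨d, rfl⟩
    exact ⟨_, ⟨d, rfl⟩, rfl⟩

theorem map_snd : (pairGroup a b).map (MonoidHom.snd (Perm X) (Perm Y)) = closure (Set.range b) := by
  unfold pairGroup
  rw [MonoidHom.map_closure]
  congr 1
  ext p
  constructor
  · rintro ⟨_, ⟨d, rfl⟩, rfl⟩
    exact ⟨d, rfl⟩
  · rintro ⟨d, rfl⟩
    exact ⟨_, ⟨d, rfl⟩, rfl⟩

theorem snd_injOn [Finite X] [Finite Y] (hR : ∀ d x y, R x y → R (a d x) (b d y))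
    (hrows : ∀ x x', (∀ y, R x y ↔ R x' y) → x = x') :
    Function.Injective ((MonoidHom.snd (Perm X) (Perm Y)).comp (pairGroup a b).subtype) := by
  rw [injective_iff_map_eq_one]
  rintro ⟨⟨p, q⟩, hpq⟩ h1
  have hq : q = 1 := h1
  have hmem := pairGroup_le R a b hR hpq
  apply Subtype.ext
  show (p, q) = 1
  rw [Prod.mk_eq_one]
  refine ⟨?_, hq⟩
  ext x
  apply hrows
  intro y
  have := hmem x y
  rw [hq] at this
  exact this

/-- If the group generated by the `b d` is not larger than the group generated by the `a d`,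
the two groups are isomorphic. -/
theorem nonempty_mulEquiv [Finite X] [Finite Y] (hR : ∀ d x y, R x y → R (a d x) (b d y))
    (hrows : ∀ x x', (∀ y, R x y ↔ R x' y) → x = x')
    (hcard : Nat.card (closure (Set.range b)) ≤ Nat.card (closure (Set.range a))) :
    Nonempty (closure (Set.range b) ≃* closure (Set.range a)) := by
  set D := pairGroup a b with hD
  set f := (MonoidHom.fst (Perm X) (Perm Y)).comp D.subtype with hf
  set s := (MonoidHom.snd (Perm X) (Perm Y)).comp D.subtype with hs
  have hsinj : Function.Injective s := snd_injOn R a b hR hrows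
  have hfr : f.range = closure (Set.range a) := by
    rw [hf, MonoidHom.range_comp, Subgroup.range_subtype]; exact map_fst a b
  have hsr : s.range = closure (Set.range b) := by
    rw [hs, MonoidHom.range_comp, Subgroup.range_subtype]; exact map_snd a b
  have e2 : D ≃* closure (Set.range b) :=
    (MonoidHom.ofInjective hsinj).trans (MulEquiv.subgroupCongr hsr)
  have hcD : Nat.card D = Nat.card (closure (Set.range b)) := Nat.card_congr e2.toEquiv
  have hfb : Function.Bijective f.rangeRestrict := by
    rw [Nat.bijective_iff_surjective_and_card]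
    refine ⟨f.rangeRestrict_surjective, le_antisymm ?_ ?_⟩
    · rw [hcD, hfr]; exact hcard
    · exact Nat.card_le_card_of_surjective _ f.rangeRestrict_surjective
  have hfinj : Function.Injective f := by
    intro u v huv
    apply hfb.1
    exact Subtype.ext huv
  have e1 : D ≃* closure (Set.range a) :=
    (MonoidHom.ofInjective hfinj).trans (MulEquiv.subgroupCongr hfr)
  exact ⟨e2.symm.trans e1⟩

end main

end Cfsg.Agent.Lib.H27.CompatPairs
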