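/-
helper27 library (kernel checks): the stabilizer in `M24` of a word of the Golay code fixes no non-zero coset of the
code.
-/
import Mathlib
import Cfsg.Prelude.Def_Sporadic_a
import Cfsg.Agent.Lib.H28.M24OctadOrbits
import Cfsg.Agent.Lib.H28.M24DodecadOrbits

set_option autoImplicit false

namespace Cfsg.Agent.Lib.H27

open Cfsg Finset Cfsg.Agent.Lib.H28
open scoped Pointwise

namespace CosetFix

/-- A word meeting some basis word oddly. -/
def offC (m : ℕ) : Bool := basisMasks.any (fun b => popc (m &&& b) % 2 == 1)

/-- The coset representatives. -/
def rep (k : ℕ) : ℕ := k <<< 12

theorem rep_off_bool : (List.range 4096).all (fun k => k == 0 || offC (rep k)) = true := by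
  decide +kernel

/-- The check: every non-zero representative is moved off its coset by one of the words. -/
def moveCheck (ws : List (List ℕ)) : Bool :=
  (List.range 4096).all (fun k => k == 0 ||
    (wordTis ws).any (fun ti => offC (pullMask ti (rep k) ^^^ rep k)))

/-- Generators of `M24`. -/
def m24Words : List (List ℕ) := [[0], [2], [3]]

theorem m24_check : moveCheck m24Words = true := by decide +kernel
theorem oct_check : moveCheck octGenWords = true := by decide +kernel
theorem dod_check : moveCheck dodGenWords = true := by decide +kernel

end CosetFix

end Cfsg.Agent.Lib.H27
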