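/-
helper27 library: the stabilizer in `M24` of a word of the Golay code fixes no non-zero coset of the
code.
-/
import Mathlib
import Cfsg.Prelude.Def_Sporadic_a
import Cfsg.Agent.Lib.H27.GolayInv
import Cfsg.Agent.Lib.H28.M24OctadOrbits
import Cfsg.Agent.Lib.H28.M24DodecadOrbits
import Cfsg.Agent.Lib.H27.CosetFixChk

set_option autoImplicit false

namespace Cfsg.Agent.Lib.H27

open Cfsg Finset Cfsg.Agent.Lib.H28
open scoped Pointwise

namespace CosetFix

theorem W_not_mem_of_offC {m : ℕ} (h : offC m = true) : W m ∉ golayCode := by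
  intro hm
  unfold offC at h
  rw [List.any_eq_true] at h
  obtain ⟨b, hb, hodd⟩ := h
  rw [beq_iff_eq] at hodd
  have h0 := golayCode_orth _ hm _ (W_basisMasks_mem_golayCode b hb)
  rw [dot_W] at h0
  have : ((popc (m &&& b) : ℕ) : ZMod 2) = 1 := by
    rw [← Nat.mod_add_div (popc (m &&& b)) 2, hodd]
    push_cast
    have : (2 : ZMod 2) = 0 := by decide
    rw [this, zero_mul, add_zero]
  rw [this] at h0
  exact one_ne_zero h0

theorem rep_xor (k k' : ℕ) : rep k ^^^ rep k' = rep (k ^^^ k') := by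
  unfold rep
  rw [Nat.shiftLeft_xor_distrib]

theorem rep_off : ∀ k < 4096, k ≠ 0 → offC (rep k) = true := by
  intro k hk hk0
  have h := List.all_eq_true.1 rep_off_bool k (List.mem_range.2 hk)
  rw [Bool.or_eq_true, beq_iff_eq] at h
  rcases h with h | h
  · exact absurd h hk0
  · exact h

theorem sub_eq_add_w (a b : GolayPt → ZMod 2) : a - b = a + b := by
  funext p
  have : ∀ x y : ZMod 2, x - y = x + y := by decide
  exact this _ _

/-- Every word is congruent to a representative. -/
theorem exists_rep (w : GolayPt → ZMod 2) : ∃ k < 4096, w - W (rep k) ∈ golayCode := by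
  classical
  let f : Fin 4096 → (GolayPt → ZMod 2) ⧸ golayCode := fun k => Submodule.Quotient.mk (W (rep k.val))
  have hinj : Function.Injective f := by
    intro a b hab
    by_contra hne
    have h1 : W (rep a.val) - W (rep b.val) ∈ golayCode := (Submodule.Quotient.eq golayCode).1 hab
    rw [sub_eq_add_w, ← W_xor, rep_xor] at h1
    have hlt : a.val ^^^ b.val < 4096 := Nat.xor_lt_two_pow (n := 12) a.2 b.2
    have hne' : a.val ^^^ b.val ≠ 0 := by
      intro h0
      apply hne
      apply Fin.ext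
      exact Nat.xor_eq_zero_iff.1 h0
    exact W_not_mem_of_offC (rep_off _ hlt hne') h1
  have hcard : Nat.card ((GolayPt → ZMod 2) ⧸ golayCode) = 4096 := card_quotient golayCode_isAbsGolay
  have : Finite ((GolayPt → ZMod 2) ⧸ golayCode) := Nat.finite_of_card_ne_zero (by rw [hcard]; norm_num)
  have hsurj : Function.Surjective f := by
    haveI : Fintype ((GolayPt → ZMod 2) ⧸ golayCode) := Fintype.ofFinite _
    apply (Fintype.bijective_iff_injective_and_card f).2 ⟨hinj, ?_⟩ |>.2
    rw [Fintype.card_fin, ← Nat.card_eq_fintype_card, hcard]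
  obtain ⟨k, hk⟩ := hsurj (Submodule.Quotient.mk w)
  refine ⟨k.val, k.2, ?_⟩
  exact (Submodule.Quotient.eq golayCode).1 hk.symm

theorem actW_wordPerm (w : List ℕ) (m : ℕ) :
    actW (wordPerm w) (W m) = W (pullMask (wordTab (invWord w)) m) := by
  have h := W_comp_symm (wordPerm w) (wordTab (invWord w)) (by
    intro p
    rw [← wordTab_spec, wordPerm_invWord, Equiv.Perm.inv_def]) m
  rw [← h]
  rfl

theorem actW_add (σ : Equiv.Perm GolayPt) (a b : GolayPt → ZMod 2) :
    actW σ (a + b) = actW σ a + actW σ b := rfl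

theorem actW_sub (σ : Equiv.Perm GolayPt) (a b : GolayPt → ZMod 2) :
    actW σ (a - b) = actW σ a - actW σ b := rfl

theorem actW_one (w : GolayPt → ZMod 2) : actW 1 w = w := rfl

theorem actW_mul (σ τ : Equiv.Perm GolayPt) (w : GolayPt → ZMod 2) :
    actW (σ * τ) w = actW σ (actW τ w) := by
  funext p
  show w ((σ * τ)⁻¹ p) = w (τ⁻¹ (σ⁻¹ p))
  rw [mul_inv_rev]
  rfl

theorem actW_mem {σ : Equiv.Perm GolayPt} (hσ : σ ∈ M24) {c : GolayPt → ZMod 2} (hc : c ∈ golayCode) :
    actW σ c ∈ golayCode := comp_symm_mem_of_mem_M24 hσ hc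

/-- If the check holds for words lying in `K ≤ M24`, then `K` fixes no non-zero coset. -/
theorem exists_move (K : Subgroup (Equiv.Perm GolayPt)) (hK : K ≤ M24) (ws : List (List ℕ))
    (hws : ∀ w ∈ ws, wordPerm w ∈ K) (hchk : moveCheck ws = true)
    (w : GolayPt → ZMod 2) (hw : w ∉ golayCode) :
    ∃ σ ∈ K, actW σ w - w ∉ golayCode := by
  obtain ⟨k, hk, hc⟩ := exists_rep w
  have hk0 : k ≠ 0 := by
    rintro rfl
    apply hw
    have : rep 0 = 0 := by decide
    rw [this, W_zero, sub_zero] at hc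
    exact hc
  unfold moveCheck at hchk
  rw [List.all_eq_true] at hchk
  have h1 := hchk k (List.mem_range.2 hk)
  rw [Bool.or_eq_true, beq_iff_eq] at h1
  rcases h1 with h1 | h1
  · exact absurd h1 hk0
  rw [List.any_eq_true] at h1
  obtain ⟨ti, hti, hoff⟩ := h1
  unfold wordTis at hti
  rw [List.mem_map] at hti
  obtain ⟨g, hg, rfl⟩ := hti
  refine ⟨wordPerm g, hws g hg, ?_⟩
  intro hmem
  have hσ : wordPerm g ∈ M24 := hK (hws g hg)
  -- `w = r + c`
  set c := w - W (rep k) with hcdef
  have hw' : w = W (rep k) + c := by rw [hcdef]; abel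
  have h2 : actW (wordPerm g) w - w
      = (actW (wordPerm g) (W (rep k)) + W (rep k)) + (actW (wordPerm g) c + c) := by
    rw [sub_eq_add_w]
    conv_lhs => rw [hw', actW_add]
    abel
  rw [h2, actW_wordPerm, ← W_xor] at hmem
  have h3 : actW (wordPerm g) c + c ∈ golayCode := golayCode.add_mem (actW_mem hσ hc) hc
  have h4 := (Submodule.add_mem_iff_left golayCode h3).1 hmem
  exact W_not_mem_of_offC hoff h4

theorem stabMask_le (m : ℕ) : stabMask m ≤ M24 := by
  intro g hg
  exact (mem_stabMask.1 hg).1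

theorem actW_of_mem_stabMask {m : ℕ} {g : Equiv.Perm GolayPt} (hg : g ∈ stabMask m) :
    actW g (W m) = W m := by
  have hg' : g⁻¹ ∈ stabMask m := (stabMask m).inv_mem hg
  have h := (mem_stabMask.1 hg').2
  funext p
  unfold actW
  rw [W_apply, W_apply]
  have := h p
  rw [Equiv.Perm.inv_def] at this
  rw [this]

/-- Conjugating the canonical case. -/
theorem conj_case (K : Subgroup (Equiv.Perm GolayPt)) (hK : K ≤ M24) (u0 : GolayPt → ZMod 2)
    (hfix : ∀ σ ∈ K, actW σ u0 = u0)
    (hmove : ∀ w : GolayPt → ZMod 2, w ∉ golayCode → ∃ σ ∈ K, actW σ w - w ∉ golayCode)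
    (τ : Equiv.Perm GolayPt) (hτ : τ ∈ M24) (u : GolayPt → ZMod 2) (hu : u = actW τ u0)
    (w : GolayPt → ZMod 2) (hw : w ∉ golayCode) :
    ∃ σ ∈ M24, actW σ u = u ∧ actW σ w - w ∉ golayCode := by
  have hτi : τ⁻¹ ∈ M24 := M24.inv_mem hτ
  have hw' : actW τ⁻¹ w ∉ golayCode := by
    intro h
    apply hw
    have := actW_mem hτ h
    have e : actW τ (actW τ⁻¹ w) = w := by
      rw [← actW_mul, mul_inv_cancel, actW_one]
    rwa [e] at this
  obtain ⟨σ0, hσ0, hm⟩ := hmove _ hw'
  refine ⟨τ * σ0 * τ⁻¹, M24.mul_mem (M24.mul_mem hτ (hK hσ0)) hτi, ?_, ?_⟩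
  · rw [hu, ← actW_mul, inv_mul_cancel_right, actW_mul, hfix σ0 hσ0]
  · intro hmem
    apply hm
    have := actW_mem hτi hmem
    have e : actW τ⁻¹ (actW (τ * σ0 * τ⁻¹) w - w) = actW σ0 (actW τ⁻¹ w) - actW τ⁻¹ w := by
      rw [actW_sub, ← actW_mul, ← actW_mul, mul_assoc τ σ0, inv_mul_cancel_left]
    rwa [e] at this

theorem card_golayPt : Fintype.card GolayPt = 24 := by
  show Fintype.card (Option (ZMod 23)) = 24
  rw [Fintype.card_option, ZMod.card]

theorem supp_one : supp (1 : GolayPt → ZMod 2) = Finset.univ := by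
  ext p
  simp [mem_supp]

theorem eq_one_of_weight {u : GolayPt → ZMod 2} (h : hammingNorm u = 24) : u = 1 := by
  rw [hammingNorm_eq_card_supp] at h
  have huniv : supp u = Finset.univ := by
    apply Finset.eq_univ_of_card
    rw [h, card_golayPt]
  funext p
  have hp : p ∈ supp u := by rw [huniv]; exact Finset.mem_univ p
  rw [mem_supp'] at hp
  rw [hp]; rfl

/-- The case of the zero word and of the all-ones word. -/
theorem case_m24 (u : GolayPt → ZMod 2) (hu : ∀ σ : Equiv.Perm GolayPt, actW σ u = u)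
    (w : GolayPt → ZMod 2) (hw : w ∉ golayCode) :
    ∃ σ ∈ M24, actW σ u = u ∧ actW σ w - w ∉ golayCode := by
  obtain ⟨σ, hσ, h⟩ := exists_move M24 le_rfl m24Words (fun g _ => wordPerm_mem_M24 g) m24_check w hw
  exact ⟨σ, hσ, hu σ, h⟩

/-- The case of an image of `W m`, for a mask `m` whose stabilizer passes the check. -/
theorem case_mask (m : ℕ) (ws : List (List ℕ)) (hws : ∀ g ∈ ws, wordPerm g ∈ stabMask m)
    (hchk : moveCheck ws = true) (u : GolayPt → ZMod 2)
    (hu : ∃ τ ∈ M24, τ • Cfsg.support₂ (W m) = Cfsg.support₂ u)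
    (w : GolayPt → ZMod 2) (hw : w ∉ golayCode) :
    ∃ σ ∈ M24, actW σ u = u ∧ actW σ w - w ∉ golayCode := by
  obtain ⟨τ, hτ, h⟩ := hu
  rw [smul_support₂] at h
  have hu' : u = actW τ (W m) := (support₂_injective h).symm
  exact conj_case (stabMask m) (stabMask_le m) (W m) (fun σ hσ => actW_of_mem_stabMask hσ)
    (exists_move (stabMask m) (stabMask_le m) ws hws hchk) τ hτ u hu' w hw

theorem case_octad (u : GolayPt → ZMod 2) (hu : u ∈ golayCode) (h8 : hammingNorm u = 8)
    (w : GolayPt → ZMod 2) (hw : w ∉ golayCode) :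
    ∃ σ ∈ M24, actW σ u = u ∧ actW σ w - w ∉ golayCode := by
  apply case_mask baseOctad octGenWords octGenWords_mem oct_check u _ w hw
  have h1 : Cfsg.support₂ u ∈ octads := by
    refine ⟨⟨u, hu, rfl⟩, ?_⟩
    rw [← supp_eq_support₂, ← hammingNorm_eq_card_supp]
    exact h8
  have h0 := oct0_mem_octads
  unfold oct0 at h0
  rw [ptsMask_eq_support₂] at h0
  exact exists_M24_smul_octad h0 h1

theorem case_dodecad (u : GolayPt → ZMod 2) (hu : u ∈ golayCode) (h12 : hammingNorm u = 12)
    (w : GolayPt → ZMod 2) (hw : w ∉ golayCode) :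
    ∃ σ ∈ M24, actW σ u = u ∧ actW σ w - w ∉ golayCode := by
  apply case_mask dod0 dodGenWords dodGenWords_mem dod_check u _ w hw
  have h1 : Cfsg.support₂ u ∈ dodecads := by
    refine ⟨⟨u, hu, rfl⟩, ?_⟩
    rw [← supp_eq_support₂, ← hammingNorm_eq_card_supp]
    exact h12
  exact exists_M24_smul_dod0 h1

/-- The stabilizer of a word of the code fixes no non-zero coset of the code. -/
theorem main (u : GolayPt → ZMod 2) (hu : u ∈ golayCode) (w : GolayPt → ZMod 2) (hw : w ∉ golayCode) :
    ∃ σ ∈ M24, actW σ u = u ∧ actW σ w - w ∉ golayCode := by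
  rcases golayCode_weight hu with h | h | h | h | h
  · rw [hammingNorm_eq_zero] at h
    subst h
    exact case_m24 0 (fun σ => rfl) w hw
  · exact case_octad u hu h w hw
  · exact case_dodecad u hu h w hw
  · have hone : (1 : GolayPt → ZMod 2) ∈ golayCode := by
      rw [one_eq_W]
      exact W_genMasks_mem_golayCode _ (by decide)
    have hu1 : u + 1 ∈ golayCode := golayCode.add_mem hu hone
    have h8 : hammingNorm (u + 1) = 8 := by
      have h1 := wt_add u 1
      have h2 : hammingNorm (1 : GolayPt → ZMod 2) = 24 := by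
        rw [hammingNorm_eq_card_supp, supp_one, Finset.card_univ, card_golayPt]
      rw [supp_one, Finset.inter_univ, ← hammingNorm_eq_card_supp, h, h2] at h1
      omega
    obtain ⟨σ, hσ, hfix, hmv⟩ := case_octad (u + 1) hu1 h8 w hw
    refine ⟨σ, hσ, ?_, hmv⟩
    have h3 : actW σ (u + 1) = actW σ u + 1 := rfl
    rw [h3] at hfix
    exact add_right_cancel hfix
  · have := eq_one_of_weight h
    subst this
    exact case_m24 1 (fun σ => rfl) w hw

end CosetFix

end Cfsg.Agent.Lib.H27
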