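import Mathlib
import Cfsg.Agent.Lib.H27.CountTab

/-! helper27: generated table certificates (scripts/gen_tabs.py), family ER. -/

set_option autoImplicit false

namespace Cfsg.Agent.Lib.H27

theorem tabER_b0 : IsTab vals (stdL 6 4 0 0) [(0, 0, 1)] := isTab_nil vals

theorem tabER_b1 : IsTab vals (stdL 6 4 0 1) [(0, 0, 1)] :=
  step_ok vals 4 (stdL 6 4 0 0) _ _ tabER_b0 (by decide +kernel)

theorem tabER_b2 : IsTab vals (stdL 6 4 0 2) [(0, 0, 1)] :=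
  step_ok vals 4 (stdL 6 4 0 1) _ _ tabER_b1 (by decide +kernel)

theorem tabER_b3 : IsTab vals (stdL 6 4 0 3) [(0, 0, 1)] :=
  step_ok vals 4 (stdL 6 4 0 2) _ _ tabER_b2 (by decide +kernel)

theorem tabER_b4 : IsTab vals (stdL 6 4 0 4) [(0, 0, 1)] :=
  step_ok vals 4 (stdL 6 4 0 3) _ _ tabER_b3 (by decide +kernel)

theorem tabER_b5 : IsTab vals (stdL 6 4 0 5) [(0, 0, 1)] :=
  step_ok vals 4 (stdL 6 4 0 4) _ _ tabER_b4 (by decide +kernel)

theorem tabER_b6 : IsTab vals (stdL 6 4 0 6) [(0, 0, 1)] :=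
  step_ok vals 4 (stdL 6 4 0 5) _ _ tabER_b5 (by decide +kernel)

theorem tabER_b7 : IsTab vals (stdL 6 4 0 7) [(0, 0, 1)] :=
  step_ok vals 4 (stdL 6 4 0 6) _ _ tabER_b6 (by decide +kernel)

theorem tabER_b8 : IsTab vals (stdL 6 4 0 8) [(0, 0, 1)] :=
  step_ok vals 4 (stdL 6 4 0 7) _ _ tabER_b7 (by decide +kernel)

theorem tabER_b9 : IsTab vals (stdL 6 4 0 9) [(0, 0, 1)] :=
  step_ok vals 4 (stdL 6 4 0 8) _ _ tabER_b8 (by decide +kernel)

theorem tabER_b10 : IsTab vals (stdL 6 4 0 10) [(0, 0, 1)] :=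
  step_ok vals 4 (stdL 6 4 0 9) _ _ tabER_b9 (by decide +kernel)

theorem tabER_b11 : IsTab vals (stdL 6 4 0 11) [(0, 0, 1)] :=
  step_ok vals 4 (stdL 6 4 0 10) _ _ tabER_b10 (by decide +kernel)

theorem tabER_b12 : IsTab vals (stdL 6 4 0 12) [(0, 0, 1)] :=
  step_ok vals 4 (stdL 6 4 0 11) _ _ tabER_b11 (by decide +kernel)

theorem tabER_b13 : IsTab vals (stdL 6 4 0 13) [(0, 0, 1)] :=
  step_ok vals 4 (stdL 6 4 0 12) _ _ tabER_b12 (by decide +kernel)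

theorem tabER_b14 : IsTab vals (stdL 6 4 0 14) [(0, 0, 1)] :=
  step_ok vals 4 (stdL 6 4 0 13) _ _ tabER_b13 (by decide +kernel)

theorem tabER_b15 : IsTab vals (stdL 6 4 0 15) [(0, 0, 1)] :=
  step_ok vals 4 (stdL 6 4 0 14) _ _ tabER_b14 (by decide +kernel)

theorem tabER_b16 : IsTab vals (stdL 6 4 0 16) [(0, 0, 1)] :=
  step_ok vals 4 (stdL 6 4 0 15) _ _ tabER_b15 (by decide +kernel)

theorem tabER_b17 : IsTab vals (stdL 6 4 0 17) [(0, 0, 1)] :=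
  step_ok vals 4 (stdL 6 4 0 16) _ _ tabER_b16 (by decide +kernel)

theorem tabER_b18 : IsTab vals (stdL 6 4 0 18) [(0, 0, 1)] :=
  step_ok vals 4 (stdL 6 4 0 17) _ _ tabER_b17 (by decide +kernel)

theorem tabER_b19 : IsTab vals (stdL 6 4 0 19) [(0, 0, 1)] :=
  step_ok vals 4 (stdL 6 4 0 18) _ _ tabER_b18 (by decide +kernel)

theorem tabER_b20 : IsTab vals (stdL 6 4 0 20) [(0, 0, 1)] :=
  step_ok vals 4 (stdL 6 4 0 19) _ _ tabER_b19 (by decide +kernel)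

theorem tabER_b21 : IsTab vals (stdL 6 4 0 21) [(0, 0, 1)] :=
  step_ok vals 4 (stdL 6 4 0 20) _ _ tabER_b20 (by decide +kernel)

theorem tabER_b22 : IsTab vals (stdL 6 4 0 22) [(0, 0, 1)] :=
  step_ok vals 4 (stdL 6 4 0 21) _ _ tabER_b21 (by decide +kernel)

theorem tabER_b23 : IsTab vals (stdL 6 4 0 23) [(0, 0, 1)] :=
  step_ok vals 4 (stdL 6 4 0 22) _ _ tabER_b22 (by decide +kernel)

theorem tabER_b24 : IsTab vals (stdL 6 4 0 24) [(0, 0, 1)] :=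
  step_ok vals 4 (stdL 6 4 0 23) _ _ tabER_b23 (by decide +kernel)

theorem tabER_w8_1 : IsTab vals (stdL 6 4 1 16) [(2, 4, 1), (6, 4, 1)] :=
  step_ok vals 6 (stdL 6 4 0 16) _ _ tabER_b16 (by decide +kernel)

theorem tabER_w8_2 : IsTab vals (stdL 6 4 2 16) [(0, 8, 2), (4, 8, 2)] :=
  step_ok vals 6 (stdL 6 4 1 16) _ _ tabER_w8_1 (by decide +kernel)

theorem tabER_w8_3 : IsTab vals (stdL 6 4 3 16) [(2, 12, 4), (6, 12, 4)] :=
  step_ok vals 6 (stdL 6 4 2 16) _ _ tabER_w8_2 (by decide +kernel)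

theorem tabER_w8_4 : IsTab vals (stdL 6 4 4 16) [(0, 16, 8), (4, 16, 8)] :=
  step_ok vals 6 (stdL 6 4 3 16) _ _ tabER_w8_3 (by decide +kernel)

theorem tabER_w8_5 : IsTab vals (stdL 6 4 5 16) [(2, 20, 16), (6, 20, 16)] :=
  step_ok vals 6 (stdL 6 4 4 16) _ _ tabER_w8_4 (by decide +kernel)

theorem tabER_w8_6 : IsTab vals (stdL 6 4 6 16) [(0, 24, 32), (4, 24, 32)] :=
  step_ok vals 6 (stdL 6 4 5 16) _ _ tabER_w8_5 (by decide +kernel)

theorem tabER_w8_7 : IsTab vals (stdL 6 4 7 16) [(2, 28, 64), (6, 28, 64)] :=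
  step_ok vals 6 (stdL 6 4 6 16) _ _ tabER_w8_6 (by decide +kernel)

theorem tabER_w8_8 : IsTab vals (stdL 6 4 8 16) [(0, 32, 128), (4, 32, 128)] :=
  step_ok vals 6 (stdL 6 4 7 16) _ _ tabER_w8_7 (by decide +kernel)

theorem tabER_w12_1 : IsTab vals (stdL 6 4 1 12) [(2, 4, 1), (6, 4, 1)] :=
  step_ok vals 6 (stdL 6 4 0 12) _ _ tabER_b12 (by decide +kernel)

theorem tabER_w12_2 : IsTab vals (stdL 6 4 2 12) [(0, 8, 2), (4, 8, 2)] :=
  step_ok vals 6 (stdL 6 4 1 12) _ _ tabER_w12_1 (by decide +kernel)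

theorem tabER_w12_3 : IsTab vals (stdL 6 4 3 12) [(2, 12, 4), (6, 12, 4)] :=
  step_ok vals 6 (stdL 6 4 2 12) _ _ tabER_w12_2 (by decide +kernel)

theorem tabER_w12_4 : IsTab vals (stdL 6 4 4 12) [(0, 16, 8), (4, 16, 8)] :=
  step_ok vals 6 (stdL 6 4 3 12) _ _ tabER_w12_3 (by decide +kernel)

theorem tabER_w12_5 : IsTab vals (stdL 6 4 5 12) [(2, 20, 16), (6, 20, 16)] :=
  step_ok vals 6 (stdL 6 4 4 12) _ _ tabER_w12_4 (by decide +kernel)

theorem tabER_w12_6 : IsTab vals (stdL 6 4 6 12) [(0, 24, 32), (4, 24, 32)] :=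
  step_ok vals 6 (stdL 6 4 5 12) _ _ tabER_w12_5 (by decide +kernel)

theorem tabER_w12_7 : IsTab vals (stdL 6 4 7 12) [(2, 28, 64), (6, 28, 64)] :=
  step_ok vals 6 (stdL 6 4 6 12) _ _ tabER_w12_6 (by decide +kernel)

theorem tabER_w12_8 : IsTab vals (stdL 6 4 8 12) [(0, 32, 128), (4, 32, 128)] :=
  step_ok vals 6 (stdL 6 4 7 12) _ _ tabER_w12_7 (by decide +kernel)

theorem tabER_w12_9 : IsTab vals (stdL 6 4 9 12) [(2, 36, 256), (6, 36, 256)] :=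
  step_ok vals 6 (stdL 6 4 8 12) _ _ tabER_w12_8 (by decide +kernel)

theorem tabER_w12_10 : IsTab vals (stdL 6 4 10 12) [(0, 40, 512), (4, 40, 512)] :=
  step_ok vals 6 (stdL 6 4 9 12) _ _ tabER_w12_9 (by decide +kernel)

theorem tabER_w12_11 : IsTab vals (stdL 6 4 11 12) [(2, 44, 1024), (6, 44, 1024)] :=
  step_ok vals 6 (stdL 6 4 10 12) _ _ tabER_w12_10 (by decide +kernel)

theorem tabER_w12_12 : IsTab vals (stdL 6 4 12 12) [(0, 48, 2048), (4, 48, 2048)] :=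
  step_ok vals 6 (stdL 6 4 11 12) _ _ tabER_w12_11 (by decide +kernel)

theorem tabER_w16_1 : IsTab vals (stdL 6 4 1 8) [(2, 4, 1), (6, 4, 1)] :=
  step_ok vals 6 (stdL 6 4 0 8) _ _ tabER_b8 (by decide +kernel)

theorem tabER_w16_2 : IsTab vals (stdL 6 4 2 8) [(0, 8, 2), (4, 8, 2)] :=
  step_ok vals 6 (stdL 6 4 1 8) _ _ tabER_w16_1 (by decide +kernel)

theorem tabER_w16_3 : IsTab vals (stdL 6 4 3 8) [(2, 12, 4), (6, 12, 4)] :=
  step_ok vals 6 (stdL 6 4 2 8) _ _ tabER_w16_2 (by decide +kernel)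

theorem tabER_w16_4 : IsTab vals (stdL 6 4 4 8) [(0, 16, 8), (4, 16, 8)] :=
  step_ok vals 6 (stdL 6 4 3 8) _ _ tabER_w16_3 (by decide +kernel)

theorem tabER_w16_5 : IsTab vals (stdL 6 4 5 8) [(2, 20, 16), (6, 20, 16)] :=
  step_ok vals 6 (stdL 6 4 4 8) _ _ tabER_w16_4 (by decide +kernel)

theorem tabER_w16_6 : IsTab vals (stdL 6 4 6 8) [(0, 24, 32), (4, 24, 32)] :=
  step_ok vals 6 (stdL 6 4 5 8) _ _ tabER_w16_5 (by decide +kernel)

theorem tabER_w16_7 : IsTab vals (stdL 6 4 7 8) [(2, 28, 64), (6, 28, 64)] :=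
  step_ok vals 6 (stdL 6 4 6 8) _ _ tabER_w16_6 (by decide +kernel)

theorem tabER_w16_8 : IsTab vals (stdL 6 4 8 8) [(0, 32, 128), (4, 32, 128)] :=
  step_ok vals 6 (stdL 6 4 7 8) _ _ tabER_w16_7 (by decide +kernel)

theorem tabER_w16_9 : IsTab vals (stdL 6 4 9 8) [(2, 36, 256), (6, 36, 256)] :=
  step_ok vals 6 (stdL 6 4 8 8) _ _ tabER_w16_8 (by decide +kernel)

theorem tabER_w16_10 : IsTab vals (stdL 6 4 10 8) [(0, 40, 512), (4, 40, 512)] :=
  step_ok vals 6 (stdL 6 4 9 8) _ _ tabER_w16_9 (by decide +kernel)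

theorem tabER_w16_11 : IsTab vals (stdL 6 4 11 8) [(2, 44, 1024), (6, 44, 1024)] :=
  step_ok vals 6 (stdL 6 4 10 8) _ _ tabER_w16_10 (by decide +kernel)

theorem tabER_w16_12 : IsTab vals (stdL 6 4 12 8) [(0, 48, 2048), (4, 48, 2048)] :=
  step_ok vals 6 (stdL 6 4 11 8) _ _ tabER_w16_11 (by decide +kernel)

theorem tabER_w16_13 : IsTab vals (stdL 6 4 13 8) [(2, 52, 4096), (6, 52, 4096)] :=
  step_ok vals 6 (stdL 6 4 12 8) _ _ tabER_w16_12 (by decide +kernel)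

theorem tabER_w16_14 : IsTab vals (stdL 6 4 14 8) [(0, 56, 8192), (4, 56, 8192)] :=
  step_ok vals 6 (stdL 6 4 13 8) _ _ tabER_w16_13 (by decide +kernel)

theorem tabER_w16_15 : IsTab vals (stdL 6 4 15 8) [(2, 60, 16384), (6, 60, 16384)] :=
  step_ok vals 6 (stdL 6 4 14 8) _ _ tabER_w16_14 (by decide +kernel)

theorem tabER_w16_16 : IsTab vals (stdL 6 4 16 8) [(0, 64, 32768), (4, 64, 32768)] :=
  step_ok vals 6 (stdL 6 4 15 8) _ _ tabER_w16_15 (by decide +kernel)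

theorem tabER_w24_1 : IsTab vals (stdL 6 4 1 0) [(2, 4, 1), (6, 4, 1)] :=
  step_ok vals 6 (stdL 6 4 0 0) _ _ tabER_b0 (by decide +kernel)

theorem tabER_w24_2 : IsTab vals (stdL 6 4 2 0) [(0, 8, 2), (4, 8, 2)] :=
  step_ok vals 6 (stdL 6 4 1 0) _ _ tabER_w24_1 (by decide +kernel)

theorem tabER_w24_3 : IsTab vals (stdL 6 4 3 0) [(2, 12, 4), (6, 12, 4)] :=
  step_ok vals 6 (stdL 6 4 2 0) _ _ tabER_w24_2 (by decide +kernel)

theorem tabER_w24_4 : IsTab vals (stdL 6 4 4 0) [(0, 16, 8), (4, 16, 8)] :=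
  step_ok vals 6 (stdL 6 4 3 0) _ _ tabER_w24_3 (by decide +kernel)

theorem tabER_w24_5 : IsTab vals (stdL 6 4 5 0) [(2, 20, 16), (6, 20, 16)] :=
  step_ok vals 6 (stdL 6 4 4 0) _ _ tabER_w24_4 (by decide +kernel)

theorem tabER_w24_6 : IsTab vals (stdL 6 4 6 0) [(0, 24, 32), (4, 24, 32)] :=
  step_ok vals 6 (stdL 6 4 5 0) _ _ tabER_w24_5 (by decide +kernel)

theorem tabER_w24_7 : IsTab vals (stdL 6 4 7 0) [(2, 28, 64), (6, 28, 64)] :=
  step_ok vals 6 (stdL 6 4 6 0) _ _ tabER_w24_6 (by decide +kernel)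

theorem tabER_w24_8 : IsTab vals (stdL 6 4 8 0) [(0, 32, 128), (4, 32, 128)] :=
  step_ok vals 6 (stdL 6 4 7 0) _ _ tabER_w24_7 (by decide +kernel)

theorem tabER_w24_9 : IsTab vals (stdL 6 4 9 0) [(2, 36, 256), (6, 36, 256)] :=
  step_ok vals 6 (stdL 6 4 8 0) _ _ tabER_w24_8 (by decide +kernel)

theorem tabER_w24_10 : IsTab vals (stdL 6 4 10 0) [(0, 40, 512), (4, 40, 512)] :=
  step_ok vals 6 (stdL 6 4 9 0) _ _ tabER_w24_9 (by decide +kernel)

theorem tabER_w24_11 : IsTab vals (stdL 6 4 11 0) [(2, 44, 1024), (6, 44, 1024)] :=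
  step_ok vals 6 (stdL 6 4 10 0) _ _ tabER_w24_10 (by decide +kernel)

theorem tabER_w24_12 : IsTab vals (stdL 6 4 12 0) [(0, 48, 2048), (4, 48, 2048)] :=
  step_ok vals 6 (stdL 6 4 11 0) _ _ tabER_w24_11 (by decide +kernel)

theorem tabER_w24_13 : IsTab vals (stdL 6 4 13 0) [(2, 52, 4096), (6, 52, 4096)] :=
  step_ok vals 6 (stdL 6 4 12 0) _ _ tabER_w24_12 (by decide +kernel)

theorem tabER_w24_14 : IsTab vals (stdL 6 4 14 0) [(0, 56, 8192), (4, 56, 8192)] :=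
  step_ok vals 6 (stdL 6 4 13 0) _ _ tabER_w24_13 (by decide +kernel)

theorem tabER_w24_15 : IsTab vals (stdL 6 4 15 0) [(2, 60, 16384), (6, 60, 16384)] :=
  step_ok vals 6 (stdL 6 4 14 0) _ _ tabER_w24_14 (by decide +kernel)

theorem tabER_w24_16 : IsTab vals (stdL 6 4 16 0) [(0, 64, 32768), (4, 64, 32768)] :=
  step_ok vals 6 (stdL 6 4 15 0) _ _ tabER_w24_15 (by decide +kernel)

theorem tabER_w24_17 : IsTab vals (stdL 6 4 17 0) [] :=
  step_ok vals 6 (stdL 6 4 16 0) _ _ tabER_w24_16 (by decide +kernel)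

theorem tabER_w24_18 : IsTab vals (stdL 6 4 18 0) [] :=
  step_ok vals 6 (stdL 6 4 17 0) _ _ tabER_w24_17 (by decide +kernel)

theorem tabER_w24_19 : IsTab vals (stdL 6 4 19 0) [] :=
  step_ok vals 6 (stdL 6 4 18 0) _ _ tabER_w24_18 (by decide +kernel)

theorem tabER_w24_20 : IsTab vals (stdL 6 4 20 0) [] :=
  step_ok vals 6 (stdL 6 4 19 0) _ _ tabER_w24_19 (by decide +kernel)

theorem tabER_w24_21 : IsTab vals (stdL 6 4 21 0) [] :=
  step_ok vals 6 (stdL 6 4 20 0) _ _ tabER_w24_20 (by decide +kernel)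

theorem tabER_w24_22 : IsTab vals (stdL 6 4 22 0) [] :=
  step_ok vals 6 (stdL 6 4 21 0) _ _ tabER_w24_21 (by decide +kernel)

theorem tabER_w24_23 : IsTab vals (stdL 6 4 23 0) [] :=
  step_ok vals 6 (stdL 6 4 22 0) _ _ tabER_w24_22 (by decide +kernel)

theorem tabER_w24_24 : IsTab vals (stdL 6 4 24 0) [] :=
  step_ok vals 6 (stdL 6 4 23 0) _ _ tabER_w24_23 (by decide +kernel)

theorem valER_0_32 : cnt vals (stdL 6 4 0 24) 0 32 = 0 :=
  cnt_of_isTab vals tabER_b24 0 32 0 (by norm_num) (by norm_num) (by decide +kernel)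

theorem valER_0_48 : cnt vals (stdL 6 4 0 24) 0 48 = 0 :=
  cnt_of_isTab vals tabER_b24 0 48 0 (by norm_num) (by norm_num) (by decide +kernel)

theorem valER_0_64 : cnt vals (stdL 6 4 0 24) 0 64 = 0 :=
  cnt_of_isTab vals tabER_b24 0 64 0 (by norm_num) (by norm_num) (by decide +kernel)

theorem valER_8_32 : cnt vals (stdL 6 4 8 16) 0 32 = 128 :=
  cnt_of_isTab vals tabER_w8_8 0 32 128 (by norm_num) (by norm_num) (by decide +kernel)

theorem valER_8_48 : cnt vals (stdL 6 4 8 16) 0 48 = 0 :=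
  cnt_of_isTab vals tabER_w8_8 0 48 0 (by norm_num) (by norm_num) (by decide +kernel)

theorem valER_8_64 : cnt vals (stdL 6 4 8 16) 0 64 = 0 :=
  cnt_of_isTab vals tabER_w8_8 0 64 0 (by norm_num) (by norm_num) (by decide +kernel)

theorem valER_12_32 : cnt vals (stdL 6 4 12 12) 0 32 = 0 :=
  cnt_of_isTab vals tabER_w12_12 0 32 0 (by norm_num) (by norm_num) (by decide +kernel)

theorem valER_12_48 : cnt vals (stdL 6 4 12 12) 0 48 = 2048 :=
  cnt_of_isTab vals tabER_w12_12 0 48 2048 (by norm_num) (by norm_num) (by decide +kernel)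

theorem valER_12_64 : cnt vals (stdL 6 4 12 12) 0 64 = 0 :=
  cnt_of_isTab vals tabER_w12_12 0 64 0 (by norm_num) (by norm_num) (by decide +kernel)

theorem valER_16_32 : cnt vals (stdL 6 4 16 8) 0 32 = 0 :=
  cnt_of_isTab vals tabER_w16_16 0 32 0 (by norm_num) (by norm_num) (by decide +kernel)

theorem valER_16_48 : cnt vals (stdL 6 4 16 8) 0 48 = 0 :=
  cnt_of_isTab vals tabER_w16_16 0 48 0 (by norm_num) (by norm_num) (by decide +kernel)

theorem valER_16_64 : cnt vals (stdL 6 4 16 8) 0 64 = 32768 :=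
  cnt_of_isTab vals tabER_w16_16 0 64 32768 (by norm_num) (by norm_num) (by decide +kernel)

theorem valER_24_32 : cnt vals (stdL 6 4 24 0) 0 32 = 0 :=
  cnt_of_isTab vals tabER_w24_24 0 32 0 (by norm_num) (by norm_num) (by decide +kernel)

theorem valER_24_48 : cnt vals (stdL 6 4 24 0) 0 48 = 0 :=
  cnt_of_isTab vals tabER_w24_24 0 48 0 (by norm_num) (by norm_num) (by decide +kernel)

theorem valER_24_64 : cnt vals (stdL 6 4 24 0) 0 64 = 0 :=
  cnt_of_isTab vals tabER_w24_24 0 64 0 (by norm_num) (by norm_num) (by decide +kernel)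

end Cfsg.Agent.Lib.H27
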