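import Mathlib
import Cfsg.Agent.Lib.H27.CountTab

/-! helper27: generated table certificates (scripts/gen_tabs.py), family OR. -/

set_option autoImplicit false

namespace Cfsg.Agent.Lib.H27

theorem tabOR_b0 : IsTab vals (stdL 7 5 0 0) [(0, 0, 1)] := isTab_nil vals

theorem tabOR_b1 : IsTab vals (stdL 7 5 0 1) [(1, 1, 1), (5, 9, 1)] :=
  step_ok vals 5 (stdL 7 5 0 0) _ _ tabOR_b0 (by decide +kernel)

theorem tabOR_b2 : IsTab vals (stdL 7 5 0 2) [(2, 2, 1), (2, 18, 1), (6, 10, 2)] :=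
  step_ok vals 5 (stdL 7 5 0 1) _ _ tabOR_b1 (by decide +kernel)

theorem tabOR_b3 : IsTab vals (stdL 7 5 0 3) [(3, 3, 1), (3, 19, 3), (7, 11, 3), (7, 27, 1)] :=
  step_ok vals 5 (stdL 7 5 0 2) _ _ tabOR_b2 (by decide +kernel)

theorem tabOR_b4 : IsTab vals (stdL 7 5 0 4) [(0, 12, 4), (0, 28, 4), (4, 4, 1), (4, 20, 6), (4, 36, 1)] :=
  step_ok vals 5 (stdL 7 5 0 3) _ _ tabOR_b3 (by decide +kernel)

theorem tabOR_b5 : IsTab vals (stdL 7 5 0 5) [(1, 13, 5), (1, 29, 10), (1, 45, 1), (5, 5, 1), (5, 21, 10), (5, 37, 5)] :=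
  step_ok vals 5 (stdL 7 5 0 4) _ _ tabOR_b4 (by decide +kernel)

theorem tabOR_b6 : IsTab vals (stdL 7 5 0 6) [(2, 14, 6), (2, 30, 20), (2, 46, 6), (6, 6, 1), (6, 22, 15), (6, 38, 15), (6, 54, 1)] :=
  step_ok vals 5 (stdL 7 5 0 5) _ _ tabOR_b5 (by decide +kernel)

theorem tabOR_b7 : IsTab vals (stdL 7 5 0 7) [(3, 15, 7), (3, 31, 35), (3, 47, 21), (3, 63, 1), (7, 7, 1), (7, 23, 21), (7, 39, 35), (7, 55, 7)] :=
  step_ok vals 5 (stdL 7 5 0 6) _ _ tabOR_b6 (by decide +kernel)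

theorem tabOR_b8 : IsTab vals (stdL 7 5 0 8) [(0, 8, 1), (0, 24, 28), (0, 40, 70), (0, 56, 28), (4, 16, 8), (4, 32, 56), (4, 48, 56), (4, 64, 8)] :=
  step_ok vals 5 (stdL 7 5 0 7) _ _ tabOR_b7 (by decide +kernel)

theorem tabOR_b9 : IsTab vals (stdL 7 5 0 9) [(1, 9, 1), (1, 25, 36), (1, 41, 126), (1, 57, 84), (5, 17, 9), (5, 33, 84), (5, 49, 126)] :=
  step_ok vals 5 (stdL 7 5 0 8) _ _ tabOR_b8 (by decide +kernel)

theorem tabOR_b10 : IsTab vals (stdL 7 5 0 10) [(2, 10, 1), (2, 26, 45), (2, 42, 210), (2, 58, 210), (6, 18, 10), (6, 34, 120), (6, 50, 252)] :=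
  step_ok vals 5 (stdL 7 5 0 9) _ _ tabOR_b9 (by decide +kernel)

theorem tabOR_b11 : IsTab vals (stdL 7 5 0 11) [(3, 11, 1), (3, 27, 55), (3, 43, 330), (3, 59, 462), (7, 19, 11), (7, 35, 165), (7, 51, 462)] :=
  step_ok vals 5 (stdL 7 5 0 10) _ _ tabOR_b10 (by decide +kernel)

theorem tabOR_b12 : IsTab vals (stdL 7 5 0 12) [(0, 20, 12), (0, 36, 220), (0, 52, 792), (4, 12, 1), (4, 28, 66), (4, 44, 495), (4, 60, 924)] :=
  step_ok vals 5 (stdL 7 5 0 11) _ _ tabOR_b11 (by decide +kernel)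

theorem tabOR_b13 : IsTab vals (stdL 7 5 0 13) [(1, 21, 13), (1, 37, 286), (1, 53, 1287), (5, 13, 1), (5, 29, 78), (5, 45, 715), (5, 61, 1716)] :=
  step_ok vals 5 (stdL 7 5 0 12) _ _ tabOR_b12 (by decide +kernel)

theorem tabOR_b14 : IsTab vals (stdL 7 5 0 14) [(2, 22, 14), (2, 38, 364), (2, 54, 2002), (6, 14, 1), (6, 30, 91), (6, 46, 1001), (6, 62, 3003)] :=
  step_ok vals 5 (stdL 7 5 0 13) _ _ tabOR_b13 (by decide +kernel)

theorem tabOR_b15 : IsTab vals (stdL 7 5 0 15) [(3, 23, 15), (3, 39, 455), (3, 55, 3003), (7, 15, 1), (7, 31, 105), (7, 47, 1365), (7, 63, 5005)] :=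
  step_ok vals 5 (stdL 7 5 0 14) _ _ tabOR_b14 (by decide +kernel)

theorem tabOR_b16 : IsTab vals (stdL 7 5 0 16) [(0, 16, 1), (0, 32, 120), (0, 48, 1820), (0, 64, 8008), (4, 24, 16), (4, 40, 560), (4, 56, 4368)] :=
  step_ok vals 5 (stdL 7 5 0 15) _ _ tabOR_b15 (by decide +kernel)

theorem tabOR_b17 : IsTab vals (stdL 7 5 0 17) [(1, 17, 1), (1, 33, 136), (1, 49, 2380), (5, 25, 17), (5, 41, 680), (5, 57, 6188)] :=
  step_ok vals 5 (stdL 7 5 0 16) _ _ tabOR_b16 (by decide +kernel)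

theorem tabOR_b18 : IsTab vals (stdL 7 5 0 18) [(2, 18, 1), (2, 34, 153), (2, 50, 3060), (6, 26, 18), (6, 42, 816), (6, 58, 8568)] :=
  step_ok vals 5 (stdL 7 5 0 17) _ _ tabOR_b17 (by decide +kernel)

theorem tabOR_b19 : IsTab vals (stdL 7 5 0 19) [(3, 19, 1), (3, 35, 171), (3, 51, 3876), (7, 27, 19), (7, 43, 969), (7, 59, 11628)] :=
  step_ok vals 5 (stdL 7 5 0 18) _ _ tabOR_b18 (by decide +kernel)

theorem tabOR_b20 : IsTab vals (stdL 7 5 0 20) [(0, 28, 20), (0, 44, 1140), (0, 60, 15504), (4, 20, 1), (4, 36, 190), (4, 52, 4845)] :=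
  step_ok vals 5 (stdL 7 5 0 19) _ _ tabOR_b19 (by decide +kernel)

theorem tabOR_b21 : IsTab vals (stdL 7 5 0 21) [(1, 29, 21), (1, 45, 1330), (1, 61, 20349), (5, 21, 1), (5, 37, 210), (5, 53, 5985)] :=
  step_ok vals 5 (stdL 7 5 0 20) _ _ tabOR_b20 (by decide +kernel)

theorem tabOR_b22 : IsTab vals (stdL 7 5 0 22) [(2, 30, 22), (2, 46, 1540), (2, 62, 26334), (6, 22, 1), (6, 38, 231), (6, 54, 7315)] :=
  step_ok vals 5 (stdL 7 5 0 21) _ _ tabOR_b21 (by decide +kernel)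

theorem tabOR_b23 : IsTab vals (stdL 7 5 0 23) [(3, 31, 23), (3, 47, 1771), (3, 63, 33649), (7, 23, 1), (7, 39, 253), (7, 55, 8855)] :=
  step_ok vals 5 (stdL 7 5 0 22) _ _ tabOR_b22 (by decide +kernel)

theorem tabOR_b24 : IsTab vals (stdL 7 5 0 24) [(0, 24, 1), (0, 40, 276), (0, 56, 10626), (4, 32, 24), (4, 48, 2024), (4, 64, 42504)] :=
  step_ok vals 5 (stdL 7 5 0 23) _ _ tabOR_b23 (by decide +kernel)

theorem tabOR_w8_1 : IsTab vals (stdL 7 5 1 16) [(3, 25, 17), (3, 41, 680), (3, 57, 6188), (7, 17, 1), (7, 33, 136), (7, 49, 2380)] :=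
  step_ok vals 7 (stdL 7 5 0 16) _ _ tabOR_b16 (by decide +kernel)

theorem tabOR_w8_2 : IsTab vals (stdL 7 5 2 16) [(2, 26, 18), (2, 42, 816), (2, 58, 8568), (6, 18, 1), (6, 34, 153), (6, 50, 3060)] :=
  step_ok vals 7 (stdL 7 5 1 16) _ _ tabOR_w8_1 (by decide +kernel)

theorem tabOR_w8_3 : IsTab vals (stdL 7 5 3 16) [(1, 27, 19), (1, 43, 969), (1, 59, 11628), (5, 19, 1), (5, 35, 171), (5, 51, 3876)] :=
  step_ok vals 7 (stdL 7 5 2 16) _ _ tabOR_w8_2 (by decide +kernel)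

theorem tabOR_w8_4 : IsTab vals (stdL 7 5 4 16) [(0, 28, 20), (0, 44, 1140), (0, 60, 15504), (4, 20, 1), (4, 36, 190), (4, 52, 4845)] :=
  step_ok vals 7 (stdL 7 5 3 16) _ _ tabOR_w8_3 (by decide +kernel)

theorem tabOR_w8_5 : IsTab vals (stdL 7 5 5 16) [(3, 21, 1), (3, 37, 210), (3, 53, 5985), (7, 29, 21), (7, 45, 1330), (7, 61, 20349)] :=
  step_ok vals 7 (stdL 7 5 4 16) _ _ tabOR_w8_4 (by decide +kernel)

theorem tabOR_w8_6 : IsTab vals (stdL 7 5 6 16) [(2, 22, 1), (2, 38, 231), (2, 54, 7315), (6, 30, 22), (6, 46, 1540), (6, 62, 26334)] :=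
  step_ok vals 7 (stdL 7 5 5 16) _ _ tabOR_w8_5 (by decide +kernel)

theorem tabOR_w8_7 : IsTab vals (stdL 7 5 7 16) [(1, 23, 1), (1, 39, 253), (1, 55, 8855), (5, 31, 23), (5, 47, 1771), (5, 63, 33649)] :=
  step_ok vals 7 (stdL 7 5 6 16) _ _ tabOR_w8_6 (by decide +kernel)

theorem tabOR_w8_8 : IsTab vals (stdL 7 5 8 16) [(0, 24, 1), (0, 40, 276), (0, 56, 10626), (4, 32, 24), (4, 48, 2024), (4, 64, 42504)] :=
  step_ok vals 7 (stdL 7 5 7 16) _ _ tabOR_w8_7 (by decide +kernel)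

theorem tabOR_w12_1 : IsTab vals (stdL 7 5 1 12) [(3, 13, 1), (3, 29, 78), (3, 45, 715), (3, 61, 1716), (7, 21, 13), (7, 37, 286), (7, 53, 1287)] :=
  step_ok vals 7 (stdL 7 5 0 12) _ _ tabOR_b12 (by decide +kernel)

theorem tabOR_w12_2 : IsTab vals (stdL 7 5 2 12) [(2, 14, 1), (2, 30, 91), (2, 46, 1001), (2, 62, 3003), (6, 22, 14), (6, 38, 364), (6, 54, 2002)] :=
  step_ok vals 7 (stdL 7 5 1 12) _ _ tabOR_w12_1 (by decide +kernel)

theorem tabOR_w12_3 : IsTab vals (stdL 7 5 3 12) [(1, 15, 1), (1, 31, 105), (1, 47, 1365), (1, 63, 5005), (5, 23, 15), (5, 39, 455), (5, 55, 3003)] :=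
  step_ok vals 7 (stdL 7 5 2 12) _ _ tabOR_w12_2 (by decide +kernel)

theorem tabOR_w12_4 : IsTab vals (stdL 7 5 4 12) [(0, 16, 1), (0, 32, 120), (0, 48, 1820), (0, 64, 8008), (4, 24, 16), (4, 40, 560), (4, 56, 4368)] :=
  step_ok vals 7 (stdL 7 5 3 12) _ _ tabOR_w12_3 (by decide +kernel)

theorem tabOR_w12_5 : IsTab vals (stdL 7 5 5 12) [(3, 25, 17), (3, 41, 680), (3, 57, 6188), (7, 17, 1), (7, 33, 136), (7, 49, 2380)] :=
  step_ok vals 7 (stdL 7 5 4 12) _ _ tabOR_w12_4 (by decide +kernel)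

theorem tabOR_w12_6 : IsTab vals (stdL 7 5 6 12) [(2, 26, 18), (2, 42, 816), (2, 58, 8568), (6, 18, 1), (6, 34, 153), (6, 50, 3060)] :=
  step_ok vals 7 (stdL 7 5 5 12) _ _ tabOR_w12_5 (by decide +kernel)

theorem tabOR_w12_7 : IsTab vals (stdL 7 5 7 12) [(1, 27, 19), (1, 43, 969), (1, 59, 11628), (5, 19, 1), (5, 35, 171), (5, 51, 3876)] :=
  step_ok vals 7 (stdL 7 5 6 12) _ _ tabOR_w12_6 (by decide +kernel)

theorem tabOR_w12_8 : IsTab vals (stdL 7 5 8 12) [(0, 28, 20), (0, 44, 1140), (0, 60, 15504), (4, 20, 1), (4, 36, 190), (4, 52, 4845)] :=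
  step_ok vals 7 (stdL 7 5 7 12) _ _ tabOR_w12_7 (by decide +kernel)

theorem tabOR_w12_9 : IsTab vals (stdL 7 5 9 12) [(3, 21, 1), (3, 37, 210), (3, 53, 5985), (7, 29, 21), (7, 45, 1330), (7, 61, 20349)] :=
  step_ok vals 7 (stdL 7 5 8 12) _ _ tabOR_w12_8 (by decide +kernel)

theorem tabOR_w12_10 : IsTab vals (stdL 7 5 10 12) [(2, 22, 1), (2, 38, 231), (2, 54, 7315), (6, 30, 22), (6, 46, 1540), (6, 62, 26334)] :=
  step_ok vals 7 (stdL 7 5 9 12) _ _ tabOR_w12_9 (by decide +kernel)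

theorem tabOR_w12_11 : IsTab vals (stdL 7 5 11 12) [(1, 23, 1), (1, 39, 253), (1, 55, 8855), (5, 31, 23), (5, 47, 1771), (5, 63, 33649)] :=
  step_ok vals 7 (stdL 7 5 10 12) _ _ tabOR_w12_10 (by decide +kernel)

theorem tabOR_w12_12 : IsTab vals (stdL 7 5 12 12) [(0, 24, 1), (0, 40, 276), (0, 56, 10626), (4, 32, 24), (4, 48, 2024), (4, 64, 42504)] :=
  step_ok vals 7 (stdL 7 5 11 12) _ _ tabOR_w12_11 (by decide +kernel)

theorem tabOR_w16_1 : IsTab vals (stdL 7 5 1 8) [(3, 17, 9), (3, 33, 84), (3, 49, 126), (7, 9, 1), (7, 25, 36), (7, 41, 126), (7, 57, 84)] :=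
  step_ok vals 7 (stdL 7 5 0 8) _ _ tabOR_b8 (by decide +kernel)

theorem tabOR_w16_2 : IsTab vals (stdL 7 5 2 8) [(2, 18, 10), (2, 34, 120), (2, 50, 252), (6, 10, 1), (6, 26, 45), (6, 42, 210), (6, 58, 210)] :=
  step_ok vals 7 (stdL 7 5 1 8) _ _ tabOR_w16_1 (by decide +kernel)

theorem tabOR_w16_3 : IsTab vals (stdL 7 5 3 8) [(1, 19, 11), (1, 35, 165), (1, 51, 462), (5, 11, 1), (5, 27, 55), (5, 43, 330), (5, 59, 462)] :=
  step_ok vals 7 (stdL 7 5 2 8) _ _ tabOR_w16_2 (by decide +kernel)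

theorem tabOR_w16_4 : IsTab vals (stdL 7 5 4 8) [(0, 20, 12), (0, 36, 220), (0, 52, 792), (4, 12, 1), (4, 28, 66), (4, 44, 495), (4, 60, 924)] :=
  step_ok vals 7 (stdL 7 5 3 8) _ _ tabOR_w16_3 (by decide +kernel)

theorem tabOR_w16_5 : IsTab vals (stdL 7 5 5 8) [(3, 13, 1), (3, 29, 78), (3, 45, 715), (3, 61, 1716), (7, 21, 13), (7, 37, 286), (7, 53, 1287)] :=
  step_ok vals 7 (stdL 7 5 4 8) _ _ tabOR_w16_4 (by decide +kernel)

theorem tabOR_w16_6 : IsTab vals (stdL 7 5 6 8) [(2, 14, 1), (2, 30, 91), (2, 46, 1001), (2, 62, 3003), (6, 22, 14), (6, 38, 364), (6, 54, 2002)] :=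
  step_ok vals 7 (stdL 7 5 5 8) _ _ tabOR_w16_5 (by decide +kernel)

theorem tabOR_w16_7 : IsTab vals (stdL 7 5 7 8) [(1, 15, 1), (1, 31, 105), (1, 47, 1365), (1, 63, 5005), (5, 23, 15), (5, 39, 455), (5, 55, 3003)] :=
  step_ok vals 7 (stdL 7 5 6 8) _ _ tabOR_w16_6 (by decide +kernel)

theorem tabOR_w16_8 : IsTab vals (stdL 7 5 8 8) [(0, 16, 1), (0, 32, 120), (0, 48, 1820), (0, 64, 8008), (4, 24, 16), (4, 40, 560), (4, 56, 4368)] :=
  step_ok vals 7 (stdL 7 5 7 8) _ _ tabOR_w16_7 (by decide +kernel)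

theorem tabOR_w16_9 : IsTab vals (stdL 7 5 9 8) [(3, 25, 17), (3, 41, 680), (3, 57, 6188), (7, 17, 1), (7, 33, 136), (7, 49, 2380)] :=
  step_ok vals 7 (stdL 7 5 8 8) _ _ tabOR_w16_8 (by decide +kernel)

theorem tabOR_w16_10 : IsTab vals (stdL 7 5 10 8) [(2, 26, 18), (2, 42, 816), (2, 58, 8568), (6, 18, 1), (6, 34, 153), (6, 50, 3060)] :=
  step_ok vals 7 (stdL 7 5 9 8) _ _ tabOR_w16_9 (by decide +kernel)

theorem tabOR_w16_11 : IsTab vals (stdL 7 5 11 8) [(1, 27, 19), (1, 43, 969), (1, 59, 11628), (5, 19, 1), (5, 35, 171), (5, 51, 3876)] :=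
  step_ok vals 7 (stdL 7 5 10 8) _ _ tabOR_w16_10 (by decide +kernel)

theorem tabOR_w16_12 : IsTab vals (stdL 7 5 12 8) [(0, 28, 20), (0, 44, 1140), (0, 60, 15504), (4, 20, 1), (4, 36, 190), (4, 52, 4845)] :=
  step_ok vals 7 (stdL 7 5 11 8) _ _ tabOR_w16_11 (by decide +kernel)

theorem tabOR_w16_13 : IsTab vals (stdL 7 5 13 8) [(3, 21, 1), (3, 37, 210), (3, 53, 5985), (7, 29, 21), (7, 45, 1330), (7, 61, 20349)] :=
  step_ok vals 7 (stdL 7 5 12 8) _ _ tabOR_w16_12 (by decide +kernel)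

theorem tabOR_w16_14 : IsTab vals (stdL 7 5 14 8) [(2, 22, 1), (2, 38, 231), (2, 54, 7315), (6, 30, 22), (6, 46, 1540), (6, 62, 26334)] :=
  step_ok vals 7 (stdL 7 5 13 8) _ _ tabOR_w16_13 (by decide +kernel)

theorem tabOR_w16_15 : IsTab vals (stdL 7 5 15 8) [(1, 23, 1), (1, 39, 253), (1, 55, 8855), (5, 31, 23), (5, 47, 1771), (5, 63, 33649)] :=
  step_ok vals 7 (stdL 7 5 14 8) _ _ tabOR_w16_14 (by decide +kernel)

theorem tabOR_w16_16 : IsTab vals (stdL 7 5 16 8) [(0, 24, 1), (0, 40, 276), (0, 56, 10626), (4, 32, 24), (4, 48, 2024), (4, 64, 42504)] :=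
  step_ok vals 7 (stdL 7 5 15 8) _ _ tabOR_w16_15 (by decide +kernel)

theorem tabOR_w24_1 : IsTab vals (stdL 7 5 1 0) [(3, 9, 1), (7, 1, 1)] :=
  step_ok vals 7 (stdL 7 5 0 0) _ _ tabOR_b0 (by decide +kernel)

theorem tabOR_w24_2 : IsTab vals (stdL 7 5 2 0) [(2, 10, 2), (6, 2, 1), (6, 18, 1)] :=
  step_ok vals 7 (stdL 7 5 1 0) _ _ tabOR_w24_1 (by decide +kernel)

theorem tabOR_w24_3 : IsTab vals (stdL 7 5 3 0) [(1, 11, 3), (1, 27, 1), (5, 3, 1), (5, 19, 3)] :=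
  step_ok vals 7 (stdL 7 5 2 0) _ _ tabOR_w24_2 (by decide +kernel)

theorem tabOR_w24_4 : IsTab vals (stdL 7 5 4 0) [(0, 12, 4), (0, 28, 4), (4, 4, 1), (4, 20, 6), (4, 36, 1)] :=
  step_ok vals 7 (stdL 7 5 3 0) _ _ tabOR_w24_3 (by decide +kernel)

theorem tabOR_w24_5 : IsTab vals (stdL 7 5 5 0) [(3, 5, 1), (3, 21, 10), (3, 37, 5), (7, 13, 5), (7, 29, 10), (7, 45, 1)] :=
  step_ok vals 7 (stdL 7 5 4 0) _ _ tabOR_w24_4 (by decide +kernel)

theorem tabOR_w24_6 : IsTab vals (stdL 7 5 6 0) [(2, 6, 1), (2, 22, 15), (2, 38, 15), (2, 54, 1), (6, 14, 6), (6, 30, 20), (6, 46, 6)] :=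
  step_ok vals 7 (stdL 7 5 5 0) _ _ tabOR_w24_5 (by decide +kernel)

theorem tabOR_w24_7 : IsTab vals (stdL 7 5 7 0) [(1, 7, 1), (1, 23, 21), (1, 39, 35), (1, 55, 7), (5, 15, 7), (5, 31, 35), (5, 47, 21), (5, 63, 1)] :=
  step_ok vals 7 (stdL 7 5 6 0) _ _ tabOR_w24_6 (by decide +kernel)

theorem tabOR_w24_8 : IsTab vals (stdL 7 5 8 0) [(0, 8, 1), (0, 24, 28), (0, 40, 70), (0, 56, 28), (4, 16, 8), (4, 32, 56), (4, 48, 56), (4, 64, 8)] :=
  step_ok vals 7 (stdL 7 5 7 0) _ _ tabOR_w24_7 (by decide +kernel)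

theorem tabOR_w24_9 : IsTab vals (stdL 7 5 9 0) [(3, 17, 9), (3, 33, 84), (3, 49, 126), (7, 9, 1), (7, 25, 36), (7, 41, 126), (7, 57, 84)] :=
  step_ok vals 7 (stdL 7 5 8 0) _ _ tabOR_w24_8 (by decide +kernel)

theorem tabOR_w24_10 : IsTab vals (stdL 7 5 10 0) [(2, 18, 10), (2, 34, 120), (2, 50, 252), (6, 10, 1), (6, 26, 45), (6, 42, 210), (6, 58, 210)] :=
  step_ok vals 7 (stdL 7 5 9 0) _ _ tabOR_w24_9 (by decide +kernel)

theorem tabOR_w24_11 : IsTab vals (stdL 7 5 11 0) [(1, 19, 11), (1, 35, 165), (1, 51, 462), (5, 11, 1), (5, 27, 55), (5, 43, 330), (5, 59, 462)] :=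
  step_ok vals 7 (stdL 7 5 10 0) _ _ tabOR_w24_10 (by decide +kernel)

theorem tabOR_w24_12 : IsTab vals (stdL 7 5 12 0) [(0, 20, 12), (0, 36, 220), (0, 52, 792), (4, 12, 1), (4, 28, 66), (4, 44, 495), (4, 60, 924)] :=
  step_ok vals 7 (stdL 7 5 11 0) _ _ tabOR_w24_11 (by decide +kernel)

theorem tabOR_w24_13 : IsTab vals (stdL 7 5 13 0) [(3, 13, 1), (3, 29, 78), (3, 45, 715), (3, 61, 1716), (7, 21, 13), (7, 37, 286), (7, 53, 1287)] :=
  step_ok vals 7 (stdL 7 5 12 0) _ _ tabOR_w24_12 (by decide +kernel)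

theorem tabOR_w24_14 : IsTab vals (stdL 7 5 14 0) [(2, 14, 1), (2, 30, 91), (2, 46, 1001), (2, 62, 3003), (6, 22, 14), (6, 38, 364), (6, 54, 2002)] :=
  step_ok vals 7 (stdL 7 5 13 0) _ _ tabOR_w24_13 (by decide +kernel)

theorem tabOR_w24_15 : IsTab vals (stdL 7 5 15 0) [(1, 15, 1), (1, 31, 105), (1, 47, 1365), (1, 63, 5005), (5, 23, 15), (5, 39, 455), (5, 55, 3003)] :=
  step_ok vals 7 (stdL 7 5 14 0) _ _ tabOR_w24_14 (by decide +kernel)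

theorem tabOR_w24_16 : IsTab vals (stdL 7 5 16 0) [(0, 16, 1), (0, 32, 120), (0, 48, 1820), (0, 64, 8008), (4, 24, 16), (4, 40, 560), (4, 56, 4368)] :=
  step_ok vals 7 (stdL 7 5 15 0) _ _ tabOR_w24_15 (by decide +kernel)

theorem tabOR_w24_17 : IsTab vals (stdL 7 5 17 0) [(3, 25, 17), (3, 41, 680), (3, 57, 6188), (7, 17, 1), (7, 33, 136), (7, 49, 2380)] :=
  step_ok vals 7 (stdL 7 5 16 0) _ _ tabOR_w24_16 (by decide +kernel)

theorem tabOR_w24_18 : IsTab vals (stdL 7 5 18 0) [(2, 26, 18), (2, 42, 816), (2, 58, 8568), (6, 18, 1), (6, 34, 153), (6, 50, 3060)] :=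
  step_ok vals 7 (stdL 7 5 17 0) _ _ tabOR_w24_17 (by decide +kernel)

theorem tabOR_w24_19 : IsTab vals (stdL 7 5 19 0) [(1, 27, 19), (1, 43, 969), (1, 59, 11628), (5, 19, 1), (5, 35, 171), (5, 51, 3876)] :=
  step_ok vals 7 (stdL 7 5 18 0) _ _ tabOR_w24_18 (by decide +kernel)

theorem tabOR_w24_20 : IsTab vals (stdL 7 5 20 0) [(0, 28, 20), (0, 44, 1140), (0, 60, 15504), (4, 20, 1), (4, 36, 190), (4, 52, 4845)] :=
  step_ok vals 7 (stdL 7 5 19 0) _ _ tabOR_w24_19 (by decide +kernel)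

theorem tabOR_w24_21 : IsTab vals (stdL 7 5 21 0) [(3, 21, 1), (3, 37, 210), (3, 53, 5985), (7, 29, 21), (7, 45, 1330), (7, 61, 20349)] :=
  step_ok vals 7 (stdL 7 5 20 0) _ _ tabOR_w24_20 (by decide +kernel)

theorem tabOR_w24_22 : IsTab vals (stdL 7 5 22 0) [(2, 22, 1), (2, 38, 231), (2, 54, 7315), (6, 30, 22), (6, 46, 1540), (6, 62, 26334)] :=
  step_ok vals 7 (stdL 7 5 21 0) _ _ tabOR_w24_21 (by decide +kernel)

theorem tabOR_w24_23 : IsTab vals (stdL 7 5 23 0) [(1, 23, 1), (1, 39, 253), (1, 55, 8855), (5, 31, 23), (5, 47, 1771), (5, 63, 33649)] :=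
  step_ok vals 7 (stdL 7 5 22 0) _ _ tabOR_w24_22 (by decide +kernel)

theorem tabOR_w24_24 : IsTab vals (stdL 7 5 24 0) [(0, 24, 1), (0, 40, 276), (0, 56, 10626), (4, 32, 24), (4, 48, 2024), (4, 64, 42504)] :=
  step_ok vals 7 (stdL 7 5 23 0) _ _ tabOR_w24_23 (by decide +kernel)

theorem valOR_0_32 : cnt vals (stdL 7 5 0 24) 4 32 = 24 :=
  cnt_of_isTab vals tabOR_b24 4 32 24 (by norm_num) (by norm_num) (by decide +kernel)

theorem valOR_0_48 : cnt vals (stdL 7 5 0 24) 4 48 = 2024 :=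
  cnt_of_isTab vals tabOR_b24 4 48 2024 (by norm_num) (by norm_num) (by decide +kernel)

theorem valOR_0_64 : cnt vals (stdL 7 5 0 24) 4 64 = 42504 :=
  cnt_of_isTab vals tabOR_b24 4 64 42504 (by norm_num) (by norm_num) (by decide +kernel)

theorem valOR_8_32 : cnt vals (stdL 7 5 8 16) 4 32 = 24 :=
  cnt_of_isTab vals tabOR_w8_8 4 32 24 (by norm_num) (by norm_num) (by decide +kernel)

theorem valOR_8_48 : cnt vals (stdL 7 5 8 16) 4 48 = 2024 :=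
  cnt_of_isTab vals tabOR_w8_8 4 48 2024 (by norm_num) (by norm_num) (by decide +kernel)

theorem valOR_8_64 : cnt vals (stdL 7 5 8 16) 4 64 = 42504 :=
  cnt_of_isTab vals tabOR_w8_8 4 64 42504 (by norm_num) (by norm_num) (by decide +kernel)

theorem valOR_12_32 : cnt vals (stdL 7 5 12 12) 4 32 = 24 :=
  cnt_of_isTab vals tabOR_w12_12 4 32 24 (by norm_num) (by norm_num) (by decide +kernel)

theorem valOR_12_48 : cnt vals (stdL 7 5 12 12) 4 48 = 2024 :=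
  cnt_of_isTab vals tabOR_w12_12 4 48 2024 (by norm_num) (by norm_num) (by decide +kernel)

theorem valOR_12_64 : cnt vals (stdL 7 5 12 12) 4 64 = 42504 :=
  cnt_of_isTab vals tabOR_w12_12 4 64 42504 (by norm_num) (by norm_num) (by decide +kernel)

theorem valOR_16_32 : cnt vals (stdL 7 5 16 8) 4 32 = 24 :=
  cnt_of_isTab vals tabOR_w16_16 4 32 24 (by norm_num) (by norm_num) (by decide +kernel)

theorem valOR_16_48 : cnt vals (stdL 7 5 16 8) 4 48 = 2024 :=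
  cnt_of_isTab vals tabOR_w16_16 4 48 2024 (by norm_num) (by norm_num) (by decide +kernel)

theorem valOR_16_64 : cnt vals (stdL 7 5 16 8) 4 64 = 42504 :=
  cnt_of_isTab vals tabOR_w16_16 4 64 42504 (by norm_num) (by norm_num) (by decide +kernel)

theorem valOR_24_32 : cnt vals (stdL 7 5 24 0) 4 32 = 24 :=
  cnt_of_isTab vals tabOR_w24_24 4 32 24 (by norm_num) (by norm_num) (by decide +kernel)

theorem valOR_24_48 : cnt vals (stdL 7 5 24 0) 4 48 = 2024 :=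
  cnt_of_isTab vals tabOR_w24_24 4 48 2024 (by norm_num) (by norm_num) (by decide +kernel)

theorem valOR_24_64 : cnt vals (stdL 7 5 24 0) 4 64 = 42504 :=
  cnt_of_isTab vals tabOR_w24_24 4 64 42504 (by norm_num) (by norm_num) (by decide +kernel)

end Cfsg.Agent.Lib.H27
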