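import Cfsg.Agent.Lib.H27.D11Enum

/-!
# Transitive groups of degree 11: the normalizer of an 11-cycle and Burnside's transfer
-/

set_option autoImplicit false

namespace Cfsg.Agent.Lib.H27.D11

open Equiv MulAction
open Fin.NatCast Fin.CommRing

local instance : Fact (Nat.Prime 11) := ⟨by norm_num⟩

theorem c0_apply (x : Fin 11) : c0 x = x + 1 := rfl

theorem c0_pow_apply (k : ℕ) (x : Fin 11) : (c0 ^ k) x = x + (k : Fin 11) := by
  induction k with
  | zero => simp
  | succ k ih =>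
    rw [pow_succ', Perm.mul_apply, ih, c0_apply, Nat.cast_succ]
    ring

theorem c0_pow_eleven : c0 ^ 11 = 1 := by
  ext x
  rw [c0_pow_apply]
  simp

theorem c0_ne_one : c0 ≠ 1 := by decide

theorem orderOf_c0 : orderOf c0 = 11 :=
  orderOf_eq_prime c0_pow_eleven c0_ne_one

theorem mulP_apply {k : Fin 11} (hk : k ≠ 0) (x : Fin 11) : mulP k x = k * x := by
  show (if k = 0 then x else k * x) = k * x
  rw [if_neg hk]

/-- an element normalizing `⟨c0⟩` is affine -/
theorem affine_of_conj {g : Perm (Fin 11)} {m : ℕ} (h : g * c0 * g⁻¹ = c0 ^ m) (x : Fin 11) :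
    g x = g 0 + (m : Fin 11) * x := by
  have h1 : ∀ y, g (y + 1) = g y + (m : Fin 11) := by
    intro y
    have : g * c0 = c0 ^ m * g := by
      rw [← h]; group
    have := congrArg (fun f : Perm (Fin 11) => f y) this
    simpa [Perm.mul_apply, c0_apply, c0_pow_apply] using this
  have h2 : ∀ n : ℕ, g (n : Fin 11) = g 0 + (m : Fin 11) * (n : Fin 11) := by
    intro n
    induction n with
    | zero => simp
    | succ n ih =>
      rw [Nat.cast_succ, h1, ih]
      ring
  have := h2 x.val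
  rwa [Fin.cast_val_eq_self] at this

theorem eq_of_affine {g : Perm (Fin 11)} {k : Fin 11} (hk : k ≠ 0)
    (h : ∀ x, g x = g 0 + k * x) : g = c0 ^ (g 0).val * mulP k := by
  ext x
  rw [Perm.mul_apply, c0_pow_apply, mulP_apply hk, h x, Fin.cast_val_eq_self]
  ring_nf

theorem mulP_conj : ∀ k : Fin 11, k ≠ 0 → mulP k * c0 * (mulP k)⁻¹ = c0 ^ (k : ℕ) := by
  decide

theorem mulP_inv : ∀ k : Fin 11, k ≠ 0 → (mulP k)⁻¹ = mulP (k ^ 9) ∧ k ^ 9 ≠ 0 := by decide

/-- the multiplier of an element normalizing `⟨c0⟩` -/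
theorem exists_affine {g : Perm (Fin 11)} (h : g * c0 * g⁻¹ ∈ Subgroup.zpowers c0) :
    ∃ k : Fin 11, k ≠ 0 ∧ g = c0 ^ (g 0).val * mulP k ∧ g * c0 * g⁻¹ = c0 ^ (k : ℕ) := by
  rw [← (isOfFinOrder_of_finite c0).mem_powers_iff_mem_zpowers] at h
  obtain ⟨m, hm⟩ := h
  have hm' : c0 ^ m = g * c0 * g⁻¹ := hm
  have haff := affine_of_conj hm'.symm
  have hk : (m : Fin 11) ≠ 0 := by
    intro h0
    have e1 := haff 1
    rw [h0] at e1
    simp only [zero_mul, add_zero] at e1
    exact absurd (g.injective e1) (by decide)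
  refine ⟨(m : Fin 11), hk, eq_of_affine hk haff, ?_⟩
  rw [← hm', ← pow_mod_orderOf c0 m, orderOf_c0]
  congr 1

end Cfsg.Agent.Lib.H27.D11
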