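import Mathlib

/-!
# Transitive groups of degree 11: computational definitions

Functions `Fin 11 → Fin 11` are coded as natural numbers with base-16 digits.
All functions are written with the kernel-accelerated `Nat` primitives and explicit `Nat.rec`.
-/

set_option autoImplicit false

namespace Cfsg.Agent.Lib.H27.D11

/-- digit `i` of a coded function -/
def dg (p i : Nat) : Nat := Nat.mod (Nat.div p (Nat.pow 16 i)) 16

/-- code of `p ∘ q` -/
def cmpN (p q : Nat) : Nat :=
  Nat.add (dg p (dg q 0)) (Nat.mul 16 (Nat.add (dg p (dg q 1)) (Nat.mul 16 (Nat.add (dg p (dg q 2)) (Nat.mul 16 (Nat.add (dg p (dg q 3)) (Nat.mul 16 (Nat.add (dg p (dg q 4)) (Nat.mul 16 (Nat.add (dg p (dg q 5)) (Nat.mul 16 (Nat.add (dg p (dg q 6)) (Nat.mul 16 (Nat.add (dg p (dg q 7)) (Nat.mul 16 (Nat.add (dg p (dg q 8)) (Nat.mul 16 (Nat.add (dg p (dg q 9)) (Nat.mul 16 (dg p (dg q 10)))))))))))))))))))))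

/-- first return time of `i` under `w` (0 if none within the fuel); `j` current point, `k` time -/
def perAux (w i : Nat) (f : Nat) : Nat → Nat → Nat :=
  Nat.rec (motive := fun _ => Nat → Nat → Nat) (fun _ _ => 0)
    (fun _ ih j k => bif Nat.beq j i then k else ih (dg w j) (Nat.succ k)) f

def per (w i : Nat) : Nat := perAux w i 11 (dg w i) 1

/-- 3-cycle test: `s` counts the points of period 3; periods 0, 6, 9 are fatal -/
def sums3 (w : Nat) (n : Nat) : Nat → Bool :=
  Nat.rec (motive := fun _ => Nat → Bool) (fun s => Nat.beq s 3)
    (fun m ih s => Nat.rec (motive := fun _ => Bool) false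
      (fun l _ => bif Nat.beq l 2 then ih (Nat.succ s) else
        bif Nat.beq l 5 then false else bif Nat.beq l 8 then false else ih s) (per w m)) n

/-- transposition test: `s` counts the points of period 2; other even periods and 0 are fatal -/
def sums2 (w : Nat) (n : Nat) : Nat → Bool :=
  Nat.rec (motive := fun _ => Nat → Bool) (fun s => Nat.beq s 2)
    (fun m ih s => Nat.rec (motive := fun _ => Bool) false
      (fun l _ => bif Nat.beq l 1 then ih (Nat.succ s) else
        bif Nat.beq (Nat.mod l 2) 1 then false else ih s) (per w m)) n

def cert3 (w : Nat) : Bool := sums3 w 11 0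

def cert2 (w : Nat) : Bool := sums2 w 11 0

/-- codes of the two-point stabilizer of the first `M₁₁` containing `⟨c, μ₃⟩` -/
def AL : List Nat := [11649936536080, 6005346353680, 8128286052880, 4774547710480, 6895983358480, 4026069778960, 9046365540880, 10459709612560, 8339291775760, 7191807738640, 2719899734800, 9501127828240, 10250113807120, 11297149649680, 5666811581200, 4847230427920, 3815431087120, 8256632730640, 10610585785360, 6161171702800, 8949211690000, 2437835818000, 11429833380880, 6979917947920, 9249115809040, 4922713453840, 8399117370640, 10068286727440, 11220224734480, 7225330009360, 2777291199760, 3605728437520, 11352814462480, 2909996004880, 9446036227600, 3481465542160, 4987301819920, 10396591425040, 8006527194640, 5714262664720, 10215098951440, 9167946004240, 11173444863760, 6840310650640, 3871016642320, 5923458549520, 5095282677520, 2835624601360, 7315228207120, 5813898983440, 10123883464720, 5031187666960, 11487213348880, 2655702841360, 3661235656720, 7861020370960, 4632250493200, 6753206417680, 3722265970960, 11575547353360, 2488758069520, 6220239239440, 8084038781200, 9300251814160, 6067014019600, 10339102308880, 2578718083600, 9080524921360,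 7942873311760, 3943405484560, 4558896597520, 7093211011600]

/-- codes of the two-point stabilizer of the second `M₁₁` containing `⟨c, μ₃⟩` -/
def AL2 : List Nat := [11649936536080, 3819981586960, 4842730443280, 9022209483280, 7298567729680, 10192938238480, 8084259377680, 6075621548560, 9322567705360, 11160564351760, 6913406817040, 2848813572880, 10275210818320, 6203969274640, 4957846082320, 8131053921040, 10322780365840, 7190470800400, 3472924038160, 8424617370640, 6127445505040, 2707232031760, 11224486155280, 9170663875600, 8265299207440, 10609779750160, 9428114490640, 11485703595280, 3618620208400, 6835753223440, 2648458892560, 4576078374160, 5120533538320, 7982558098960, 10478165313040, 2450149430800, 8956242261520, 11377975985680, 5993797031440, 3935573681680, 3670746081040, 9248578877200, 2910213130000, 11558874142480, 5807394088720, 5061168301840, 6752634050320, 10112574269200, 5743553685520, 4903282489360, 6951313557520, 8341709543440, 10077456328720, 11427081713680, 4016419805200, 2488553416720, 11301541849360, 2562076326160, 5953672399120, 9493546293520, 3871714470160, 4630685186320, 7849694824720, 7113626790160, 7239222372880, 5666749561360, 7938595244560,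 10394466998800, 4757086431760, 2788329552400, 3720638728720, 9098656848400]

def memL (h : Nat) : List Nat → Bool
  | [] => false
  | x :: xs => Nat.beq x h || memL h xs

/-- table of the codes of `μ₃^j c^i` at index `1 + 11 j + i`, identity at index 0 -/
def NLT : Nat := 1247301044956838329131096908239477454922347324619680305914169651924842343407654434156243510486812234439120950223860539615755911151292613720018699052916343750514058694213739262035664091790340083828380223281133581021427358103543631477264435687778260376363035691983802012744184194664939682903150812790252719238777991215896501962504843560516566484834354381873799276159416976452668127030378623663495525268652119535379992190460263862674546458179217704625363238829722578251300915769779768447526466650285269663688590448087188671022117205094073494431548969474767398401731024477955649808846287553769222516138690884216313054302442566400056118827991623836798269418054210398799001227807406175828894878050273641244277979892878630868336322820423018186289680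

def nlc (a : Nat) : Nat := Nat.mod (Nat.div NLT (Nat.pow 17592186044416 a)) 17592186044416

/-- the hinted check of a single permutation code -/
def chkH (h hint : Nat) : Bool :=
  Nat.rec (motive := fun _ => Bool) (memL h AL || memL h AL2)
    (fun hm _ =>
      (fun t a r2 =>
        bif Nat.ble r2 55 then
          (fun w => bif Nat.beq t 0 then cert3 w else cert2 w)
            (cmpN (bif Nat.beq r2 0 then h else cmpN (cmpN h (nlc r2)) h) (nlc a))
        else false)
      (Nat.mod (Nat.succ hm) 2) (Nat.mod (Nat.div (Nat.succ hm) 2) 56)
      (Nat.div (Nat.div (Nat.succ hm) 2) 56)) hint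

def hintOf (tbl ix : Nat) : Nat := Nat.land (Nat.shiftRight tbl (Nat.mul 13 ix)) 8191

def allIdx (f : Nat → Nat → Bool) : List Nat → Nat → Bool
  | [], _ => true
  | x :: xs, k => f x k && allIdx f xs (Nat.succ k)

/-- enumeration of the arrangements of `rem` in positions `pos, pos+1, …` -/
def goE (tbl : Nat) : Nat → Nat → Nat → List Nat → Nat → Bool
  | 0, _, acc, _, ix => chkH acc (hintOf tbl ix)
  | n+1, pos, acc, rem, ix =>
    allIdx (fun x k => goE tbl n (Nat.succ pos) (Nat.add acc (Nat.mul x (Nat.pow 16 pos)))
      (rem.erase x) (Nat.add (Nat.mul ix (Nat.succ n)) k)) rem 0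

/-- little-endian base-16 value -/
def lval : List Nat → Nat
  | [] => 0
  | d :: ds => d + 16 * lval ds

/-- the list of values `2, …, 10` -/
def r9 : List Nat := [2, 3, 4, 5, 6, 7, 8, 9, 10]

end Cfsg.Agent.Lib.H27.D11
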