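import Cfsg.Agent.Lib.H27.D11Sound

/-!
# Transitive groups of degree 11: completeness of the enumeration
-/

set_option autoImplicit false

namespace Cfsg.Agent.Lib.H27.D11

open Equiv

theorem lval_append_singleton (l : List Nat) (x : Nat) :
    lval (l ++ [x]) = lval l + x * 16 ^ l.length := by
  induction l with
  | nil => simp [lval]
  | cons d ds ih =>
    simp only [List.cons_append, lval, ih, List.length_cons, pow_succ]
    ring

theorem allIdx_spec (f : Nat → Nat → Bool) : ∀ (xs : List Nat) (k0 : Nat),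
    allIdx f xs k0 = true → ∀ x ∈ xs, ∃ k, f x k = true := by
  intro xs
  induction xs with
  | nil => intro _ _ x hx; simp at hx
  | cons y ys ih =>
    intro k0 h x hx
    simp only [allIdx, Bool.and_eq_true] at h
    rcases List.mem_cons.mp hx with rfl | hx
    · exact ⟨k0, h.1⟩
    · exact ih _ h.2 x hx

theorem goE_zero (tbl pos acc : Nat) (rem : List Nat) (ix : Nat) :
    goE tbl 0 pos acc rem ix = chkH acc (hintOf tbl ix) := by
  simp [goE]

theorem goE_succ (tbl n pos acc : Nat) (rem : List Nat) (ix : Nat) :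
    goE tbl (n + 1) pos acc rem ix =
      allIdx (fun x k => goE tbl n (Nat.succ pos) (Nat.add acc (Nat.mul x (Nat.pow 16 pos)))
        (rem.erase x) (Nat.add (Nat.mul ix (Nat.succ n)) k)) rem 0 := by
  simp [goE]

theorem goE_complete (tbl : Nat) : ∀ (n : Nat) (l rem : List Nat) (ix : Nat), rem.length = n →
    goE tbl n l.length (lval l) rem ix = true →
    ∀ ℓ : List Nat, ℓ.Perm rem → ∃ hint, chkH (lval (l ++ ℓ)) hint = true := by
  intro n
  induction n with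
  | zero =>
    intro l rem ix hlen h ℓ hℓ
    have hrem : rem = [] := List.length_eq_zero_iff.mp hlen
    subst hrem
    have : ℓ = [] := hℓ.eq_nil
    subst this
    rw [goE_zero] at h
    exact ⟨_, by simpa using h⟩
  | succ n ih =>
    intro l rem ix hlen h ℓ hℓ
    rw [goE_succ] at h
    have hℓlen : ℓ.length = n + 1 := by rw [hℓ.length_eq, hlen]
    obtain ⟨x, ℓ', rfl⟩ : ∃ x ℓ', ℓ = x :: ℓ' := by
      cases ℓ with
      | nil => simp at hℓlen
      | cons x ℓ' => exact ⟨x, ℓ', rfl⟩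
    have hx : x ∈ rem := hℓ.subset (List.mem_cons_self)
    obtain ⟨k, hk⟩ := allIdx_spec _ _ _ h x hx
    have e1 : Nat.succ l.length = (l ++ [x]).length := by simp
    have e2 : Nat.add (lval l) (Nat.mul x (Nat.pow 16 l.length)) = lval (l ++ [x]) := by
      rw [lval_append_singleton]; rfl
    rw [e1, e2] at hk
    have hperm : ℓ'.Perm (rem.erase x) := by
      have := hℓ.erase x
      rwa [List.erase_cons_head] at this
    have hlen' : (rem.erase x).length = n := by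
      rw [List.length_erase_of_mem hx, hlen]; rfl
    obtain ⟨hint, hh⟩ := ih (l ++ [x]) (rem.erase x) _ hlen' hk ℓ' hperm
    refine ⟨hint, ?_⟩
    rwa [List.append_assoc, List.singleton_append] at hh

/-- the code of a permutation -/
def codeOf (σ : Perm (Fin 11)) : Nat :=
  hv (σ 0) (σ 1) (σ 2) (σ 3) (σ 4) (σ 5) (σ 6) (σ 7) (σ 8) (σ 9) (σ 10)

theorem codes_codeOf (σ : Perm (Fin 11)) : Codes (codeOf σ) σ := by
  have hlt : ∀ i : Fin 11, ((σ i : Fin 11) : ℕ) < 16 := fun i => lt_trans (σ i).2 (by norm_num)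
  obtain ⟨h0, h1, h2, h3, h4, h5, h6, h7, h8, h9, h10⟩ :=
    dg_hv (σ 0) (σ 1) (σ 2) (σ 3) (σ 4) (σ 5) (σ 6) (σ 7) (σ 8) (σ 9) (σ 10)
      (hlt _) (hlt _) (hlt _) (hlt _) (hlt _) (hlt _) (hlt _) (hlt _) (hlt _) (hlt _) (hlt _)
  intro x
  unfold codeOf
  fin_cases x
  · exact h0
  · exact h1
  · exact h2
  · exact h3
  · exact h4
  · exact h5
  · exact h6
  · exact h7
  · exact h8
  · exact h9
  · exact h10

theorem codeOf_injective : Function.Injective codeOf := by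
  intro σ τ h
  ext x
  have h1 := codes_codeOf σ x
  have h2 := codes_codeOf τ x
  rw [h] at h1
  rw [← h1, ← h2]

theorem codeOf_mul (σ τ : Perm (Fin 11)) : codeOf (σ * τ) = cmpN (codeOf σ) (codeOf τ) := by
  have hσ := codes_codeOf σ
  have hτ := codes_codeOf τ
  rw [cmpN_eq]
  unfold codeOf
  have e : ∀ i : Fin 11, dg (hv (σ 0) (σ 1) (σ 2) (σ 3) (σ 4) (σ 5) (σ 6) (σ 7) (σ 8) (σ 9) (σ 10))
      (dg (hv (τ 0) (τ 1) (τ 2) (τ 3) (τ 4) (τ 5) (τ 6) (τ 7) (τ 8) (τ 9) (τ 10)) i) =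
      (((σ * τ) i : Fin 11) : ℕ) := by
    intro i
    have := hτ i
    unfold codeOf at this
    rw [this]
    have := hσ (τ i)
    unfold codeOf at this
    rw [this]
    rfl
  have e' : ∀ (i : Fin 11) (n : ℕ), (i : ℕ) = n →
      dg (hv (σ 0) (σ 1) (σ 2) (σ 3) (σ 4) (σ 5) (σ 6) (σ 7) (σ 8) (σ 9) (σ 10))
      (dg (hv (τ 0) (τ 1) (τ 2) (τ 3) (τ 4) (τ 5) (τ 6) (τ 7) (τ 8) (τ 9) (τ 10)) n) =
      (((σ * τ) i : Fin 11) : ℕ) := by
    intro i n hn
    subst hn
    exact e i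
  rw [e' 0 0 rfl, e' 1 1 rfl, e' 2 2 rfl, e' 3 3 rfl, e' 4 4 rfl, e' 5 5 rfl, e' 6 6 rfl,
    e' 7 7 rfl, e' 8 8 rfl, e' 9 9 rfl, e' 10 10 rfl]

theorem perm_tail (σ : Perm (Fin 11)) (h0 : σ 0 = 0) (h1 : σ 1 = 1) :
    List.Perm [((σ 2 : Fin 11) : ℕ), σ 3, σ 4, σ 5, σ 6, σ 7, σ 8, σ 9, σ 10] r9 := by
  have hR : ∀ x : Fin 11, x ∈ ([2, 3, 4, 5, 6, 7, 8, 9, 10] : List (Fin 11)) ↔ (x ≠ 0 ∧ x ≠ 1) := by
    decide
  have hperm : List.Perm (([2, 3, 4, 5, 6, 7, 8, 9, 10] : List (Fin 11)).map σ)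
      ([2, 3, 4, 5, 6, 7, 8, 9, 10] : List (Fin 11)) := by
    rw [List.perm_ext_iff_of_nodup ((by decide : ([2, 3, 4, 5, 6, 7, 8, 9, 10] :
      List (Fin 11)).Nodup).map σ.injective) (by decide)]
    intro x
    rw [List.mem_map, hR]
    constructor
    · rintro ⟨i, hi, rfl⟩
      rw [hR] at hi
      constructor
      · intro h; rw [← h0] at h; exact hi.1 (σ.injective h)
      · intro h; rw [← h1] at h; exact hi.2 (σ.injective h)
    · rintro ⟨hx0, hx1⟩
      refine ⟨σ.symm x, ?_, by simp⟩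
      rw [hR]
      constructor
      · intro h
        apply hx0
        rw [← h0, ← h, Equiv.apply_symm_apply]
      · intro h
        apply hx1
        rw [← h1, ← h, Equiv.apply_symm_apply]
  have := hperm.map (fun x : Fin 11 => (x : ℕ))
  simpa [r9] using this

/-- the hypothesis that all 72 chunks have been checked -/
def AllChunks (tblOf : Nat → Nat → Nat) : Prop :=
  ∀ a ∈ r9, ∀ b ∈ r9.erase a,
    goE (tblOf a b) 7 4 (lval [0, 1, a, b]) ((r9.erase a).erase b) 0 = true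

theorem brute {tblOf : Nat → Nat → Nat} (hall : AllChunks tblOf) (σ : Perm (Fin 11))
    (h0 : σ 0 = 0) (h1 : σ 1 = 1) :
    (memL (codeOf σ) AL = true ∨ memL (codeOf σ) AL2 = true) ∨
      ∃ y ∈ Subgroup.closure ({c0, mu3, σ} : Set (Perm (Fin 11))), y.IsThreeCycle ∨ y.IsSwap := by
  have hperm := perm_tail σ h0 h1
  have ha : ((σ 2 : Fin 11) : ℕ) ∈ r9 := hperm.subset (by simp)
  have hnd : [((σ 2 : Fin 11) : ℕ), σ 3, σ 4, σ 5, σ 6, σ 7, σ 8, σ 9, σ 10].Nodup :=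
    hperm.nodup_iff.mpr (by decide)
  have hperm1 := hperm.erase ((σ 2 : Fin 11) : ℕ)
  rw [List.erase_cons_head] at hperm1
  have hb : ((σ 3 : Fin 11) : ℕ) ∈ r9.erase ((σ 2 : Fin 11) : ℕ) := hperm1.subset (by simp)
  have hperm2 := hperm1.erase ((σ 3 : Fin 11) : ℕ)
  rw [List.erase_cons_head] at hperm2
  have hlen : ((r9.erase ((σ 2 : Fin 11) : ℕ)).erase ((σ 3 : Fin 11) : ℕ)).length = 7 := by
    rw [← hperm2.length_eq]; rfl
  have hgo := hall _ ha _ hb
  obtain ⟨hint, hh⟩ := goE_complete _ 7 [0, 1, ((σ 2 : Fin 11) : ℕ), ((σ 3 : Fin 11) : ℕ)] _ 0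
    hlen hgo _ hperm2
  have hcode : lval ([0, 1, ((σ 2 : Fin 11) : ℕ), ((σ 3 : Fin 11) : ℕ)] ++
      [((σ 4 : Fin 11) : ℕ), σ 5, σ 6, σ 7, σ 8, σ 9, σ 10]) = codeOf σ := by
    unfold codeOf hv
    rw [h0, h1]
    simp [lval]
  rw [hcode] at hh
  exact chkH_sound (codes_codeOf σ) hh

end Cfsg.Agent.Lib.H27.D11
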