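import Cfsg.Agent.Lib.H27.D11Trans
import Cfsg.Agent.S0675
import Cfsg.Agent.S0676
import Cfsg.Agent.Lib.H3.Zas11
import Cfsg.Agent.Lib.H3.ZasT11

/-!
# Transitive groups of degree 11: the group theory

A non-solvable subgroup of `Perm (Fin 11)` containing `c0` and not containing the alternating group is
sharply 4-transitive or isomorphic to `PSL₂(11)` (given the brute-force enumeration `AllChunks`).
-/

set_option autoImplicit false

namespace Cfsg.Agent.Lib.H27.D11

open Equiv MulAction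
open Fin.NatCast Fin.CommRing

local instance : Fact (Nat.Prime 11) := ⟨by norm_num⟩

/-! ### decidable facts -/

theorem memL_iff (h : Nat) : ∀ L : List Nat, memL h L = true ↔ h ∈ L := by
  intro L
  induction L with
  | nil => simp [memL]
  | cons x xs ih =>
    simp only [memL, Bool.or_eq_true, ih, List.mem_cons]
    constructor
    · rintro (h1 | h1)
      · exact Or.inl (Nat.eq_of_beq_eq_true h1).symm
      · exact Or.inr h1
    · rintro (h1 | h1)
      · exact Or.inl (by rw [h1]; exact Nat.beq_refl x)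
      · exact Or.inr h1

/-- a code in one of the two lists fixing two of the points `2, …, 10` is the code of the identity -/
theorem free_codes : ∀ x ∈ AL ++ AL2, ∀ p ∈ r9, ∀ q ∈ r9, p ≠ q → dg x p = p → dg x q = q →
    x = 11649936536080 := by decide +kernel

theorem codeOf_one : codeOf 1 = 11649936536080 := by decide +kernel

theorem val_mem_r9 : ∀ p : Fin 11, p ≠ 0 → p ≠ 1 → (p : ℕ) ∈ r9 := by decide

theorem sign_c0 : Perm.sign c0 = 1 := by decide +kernel

theorem sign_facts : ∀ k : Fin 11, k ≠ 0 → k ≠ 1 → Perm.sign (mulP k) = 1 →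
    ∃ n : Fin 11, (mulP k) ^ (n : ℕ) = mu3 := by decide +kernel

theorem mulP_all : ∀ k : Fin 11, k ≠ 0 →
    ∃ i j : Fin 11, mulP k = mu3 ^ (i : ℕ) * (mulP 10) ^ (j : ℕ) := by decide +kernel

theorem mulP_res : ∀ k ∈ ({1, 3, 4, 5, 9} : Finset (Fin 11)),
    k ≠ 0 ∧ ∃ i : Fin 11, mulP k = mu3 ^ (i : ℕ) := by decide +kernel

theorem mulP_nonres : ∀ k : Fin 11, k ≠ 0 → k ∉ ({1, 3, 4, 5, 9} : Finset (Fin 11)) →
    ∃ i : Fin 11, (mulP k) ^ (i : ℕ) = mulP 10 := by decide +kernel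

/-! ### the multiplier `3` -/

variable {G : Subgroup (Perm (Fin 11))}

theorem mu3_mem (hc : c0 ∈ G) (hns : ¬ Group.IsSolvable G) : mu3 ∈ G := by
  have hcK : c0 ∈ G ⊓ alternatingGroup (Fin 11) := ⟨hc, Perm.mem_alternatingGroup.mpr sign_c0⟩
  have hnsK : ¬ Group.IsSolvable ↥(G ⊓ alternatingGroup (Fin 11)) := by
    intro hs
    apply hns
    refine Group.isSolvable_of_ker_le_range
      (Subgroup.inclusion (inf_le_left : G ⊓ alternatingGroup (Fin 11) ≤ G))
      (Perm.sign.comp G.subtype) ?_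
    intro x hx
    rw [MonoidHom.mem_ker] at hx
    exact ⟨⟨x.1, x.2, Perm.mem_alternatingGroup.mpr hx⟩, rfl⟩
  obtain ⟨k, hk0, hk1, hkK⟩ := exists_mulP_mem _ hcK hnsK
  obtain ⟨n, hn⟩ := sign_facts k hk0 hk1 (Perm.mem_alternatingGroup.mp hkK.2)
  rw [← hn]
  exact G.pow_mem hkK.1 _

/-! ### elements fixing `0` and `1` -/

theorem code_of_fix {tblOf : Nat → Nat → Nat} (hall : AllChunks tblOf) (hc : c0 ∈ G) (hmu : mu3 ∈ G)
    (hA : ¬ alternatingGroup (Fin 11) ≤ G) {σ : Perm (Fin 11)} (hσ : σ ∈ G)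
    (h0 : σ 0 = 0) (h1 : σ 1 = 1) : codeOf σ ∈ AL ++ AL2 := by
  have hcl : Subgroup.closure ({c0, mu3, σ} : Set (Perm (Fin 11))) ≤ G := by
    rw [Subgroup.closure_le]
    intro z hz
    simp only [Set.mem_insert_iff, Set.mem_singleton_iff] at hz
    rcases hz with rfl | rfl | rfl <;> assumption
  rcases brute hall σ h0 h1 with h | ⟨y, hy, hy3 | hy2⟩
  · rw [List.mem_append]
    rcases h with h | h
    · exact Or.inl ((memL_iff _ _).mp h)
    · exact Or.inr ((memL_iff _ _).mp h)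
  · exact absurd (Perm.alternatingGroup_le_of_isPreprimitive_of_isThreeCycle_mem
      (isPreprimitive_of_c0_mem hc) hy3 (hcl hy)) hA
  · have htop := Perm.subgroup_eq_top_of_isPreprimitive_of_isSwap_mem
      (isPreprimitive_of_c0_mem hc) y hy2 (hcl hy)
    exact absurd (htop ▸ le_top) hA

/-- the action on quadruples is free -/
theorem stabilizer_eq_bot {tblOf : Nat → Nat → Nat} (hall : AllChunks tblOf) (hc : c0 ∈ G)
    (hmu : mu3 ∈ G) (hA : ¬ alternatingGroup (Fin 11) ≤ G)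
    (h2 : IsMultiplyPretransitive G (Fin 11) 2) (x : Fin 4 ↪ Fin 11) : stabilizer G x = ⊥ := by
  rw [Subgroup.eq_bot_iff_forall]
  intro g hg
  rw [mem_stabilizer_iff] at hg
  have hfix : ∀ i, (g : Perm (Fin 11)) (x i) = x i := fun i => by
    have := congrArg (fun e : Fin 4 ↪ Fin 11 => e i) hg
    exact this
  have hne : x 0 ≠ x 1 := x.injective.ne (by decide)
  obtain ⟨t, ht0, ht1⟩ := (is_two_pretransitive_iff.mp h2) hne (show (0 : Fin 11) ≠ 1 by decide)
  have ht0' : (t : Perm (Fin 11)) (x 0) = 0 := ht0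
  have ht1' : (t : Perm (Fin 11)) (x 1) = 1 := ht1
  let σ : Perm (Fin 11) := (t : Perm (Fin 11)) * g * (t : Perm (Fin 11))⁻¹
  have hσG : σ ∈ G := G.mul_mem (G.mul_mem t.2 g.2) (G.inv_mem t.2)
  have key : ∀ i, σ ((t : Perm (Fin 11)) (x i)) = (t : Perm (Fin 11)) (x i) := by
    intro i
    simp [σ, hfix i]
  have hσ0 : σ 0 = 0 := by have := key 0; rwa [ht0'] at this
  have hσ1 : σ 1 = 1 := by have := key 1; rwa [ht1'] at this
  have hcode := code_of_fix hall hc hmu hA hσG hσ0 hσ1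
  have hinj : ∀ i j : Fin 4, i ≠ j → (t : Perm (Fin 11)) (x i) ≠ (t : Perm (Fin 11)) (x j) :=
    fun i j hij h => hij (x.injective ((t : Perm (Fin 11)).injective h))
  have hp0 : (t : Perm (Fin 11)) (x 2) ≠ 0 := by rw [← ht0']; exact hinj _ _ (by decide)
  have hp1 : (t : Perm (Fin 11)) (x 2) ≠ 1 := by rw [← ht1']; exact hinj _ _ (by decide)
  have hq0 : (t : Perm (Fin 11)) (x 3) ≠ 0 := by rw [← ht0']; exact hinj _ _ (by decide)
  have hq1 : (t : Perm (Fin 11)) (x 3) ≠ 1 := by rw [← ht1']; exact hinj _ _ (by decide)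
  have hpq : (((t : Perm (Fin 11)) (x 2) : Fin 11) : ℕ) ≠ (((t : Perm (Fin 11)) (x 3) : Fin 11) : ℕ) :=
    fun h => hinj 2 3 (by decide) (Fin.ext h)
  have hid := free_codes _ hcode _ (val_mem_r9 _ hp0 hp1) _ (val_mem_r9 _ hq0 hq1) hpq
    (by rw [codes_codeOf σ, key 2]) (by rw [codes_codeOf σ, key 3])
  have hσ1 : σ = 1 := codeOf_injective (hid.trans codeOf_one.symm)
  apply Subtype.ext
  show (g : Perm (Fin 11)) = 1
  calc (g : Perm (Fin 11)) = (t : Perm (Fin 11))⁻¹ * σ * t := by simp only [σ]; group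
    _ = 1 := by rw [hσ1]; group

/-! ### cardinalities -/

theorem card_emb4 : Nat.card (Fin 4 ↪ Fin 11) = 7920 := by
  rw [Nat.card_eq_fintype_card, Fintype.card_embedding_eq, Fintype.card_fin, Fintype.card_fin]
  rfl

theorem card_dvd_of_free (hfree : ∀ x : Fin 4 ↪ Fin 11, stabilizer G x = ⊥) :
    Nat.card G ∣ 7920 := by
  have h := Nat.card_congr (selfEquivOrbitsQuotientProd hfree)
  rw [Nat.card_prod, card_emb4] at h
  exact ⟨_, h.trans (mul_comm _ _)⟩

theorem descFactorial_dvd_card {k : ℕ} (hk : k ≤ 11) (h : IsMultiplyPretransitive G (Fin 11) k) :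
    Nat.descFactorial 11 k ∣ Nat.card G := by
  have x : Fin k ↪ Fin 11 := Fin.castLEEmb hk
  have hpre : IsPretransitive G (Fin k ↪ Fin 11) := h
  have h1 := @index_stabilizer_of_transitive G (Fin k ↪ Fin 11) _ _ x hpre
  have h2 : Nat.card (Fin k ↪ Fin 11) = Nat.descFactorial 11 k := by
    rw [Nat.card_eq_fintype_card, Fintype.card_embedding_eq, Fintype.card_fin, Fintype.card_fin]
  rw [← h2, ← h1]
  exact Subgroup.index_dvd_card _

theorem four_trans_of_free (hfree : ∀ x : Fin 4 ↪ Fin 11, stabilizer G x = ⊥)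
    (hcard : Nat.card G = 7920) : IsMultiplyPretransitive G (Fin 11) 4 := by
  have key : ∀ x : Fin 4 ↪ Fin 11, Function.Surjective (fun g : G => g • x) := by
    intro x
    have hinj : Function.Injective (fun g : G => g • x) := by
      intro g h hgh
      have hmem : g⁻¹ * h ∈ stabilizer G x := by
        rw [mem_stabilizer_iff, mul_smul]
        show g⁻¹ • (h • x) = x
        have : g • x = h • x := hgh
        rw [← this]
        exact inv_smul_smul g x
      rw [hfree x, Subgroup.mem_bot] at hmem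
      exact (inv_mul_eq_one.mp hmem)
    exact (Function.Injective.bijective_of_nat_card_le hinj (by rw [hcard, card_emb4])).2
  exact ⟨fun x y => key x y⟩

/-! ### the Sylow 11-subgroup and its normalizer -/

theorem exists_sylow (hc : c0 ∈ G) :
    ∃ S : Sylow 11 G, (S : Subgroup G) = Subgroup.zpowers (⟨c0, hc⟩ : G) := by
  have hordc : orderOf (⟨c0, hc⟩ : G) = 11 := (Subgroup.orderOf_mk c0 hc).trans orderOf_c0
  have hP0 : Nat.card (Subgroup.zpowers (⟨c0, hc⟩ : G)) = 11 := by rw [Nat.card_zpowers, hordc]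
  exact ⟨Sylow.ofCard (Subgroup.zpowers (⟨c0, hc⟩ : G))
    (by rw [hP0, factorization_eleven hc, pow_one]), Sylow.coe_ofCard _ _⟩

theorem mem_normalizer_imp (hc : c0 ∈ G) {S : Sylow 11 G}
    (hS : (S : Subgroup G) = Subgroup.zpowers (⟨c0, hc⟩ : G)) {g : G}
    (hg : g ∈ Subgroup.normalizer ((S : Subgroup G) : Set G)) :
    ∃ k : Fin 11, k ≠ 0 ∧ mulP k ∈ G ∧
      (g : Perm (Fin 11)) = c0 ^ ((g : Perm (Fin 11)) 0).val * mulP k := by
  rw [Subgroup.mem_normalizer_iff] at hg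
  have h1 : g * ⟨c0, hc⟩ * g⁻¹ ∈ (S : Subgroup G) :=
    (hg _).mp (by rw [hS]; exact Subgroup.mem_zpowers _)
  have h2 : (g : Perm (Fin 11)) * c0 * (g : Perm (Fin 11))⁻¹ ∈ Subgroup.zpowers c0 := by
    rw [hS] at h1
    obtain ⟨n, hn⟩ := Subgroup.mem_zpowers_iff.mp h1
    refine Subgroup.mem_zpowers_iff.mpr ⟨n, ?_⟩
    have := congrArg (Subtype.val) hn
    simpa using this
  obtain ⟨k, hk0, hgk, -⟩ := exists_affine h2
  refine ⟨k, hk0, ?_, hgk⟩
  have e : mulP k = (c0 ^ ((g : Perm (Fin 11)) 0).val)⁻¹ * (g : Perm (Fin 11)) := by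
    calc mulP k = (c0 ^ ((g : Perm (Fin 11)) 0).val)⁻¹ *
        (c0 ^ ((g : Perm (Fin 11)) 0).val * mulP k) := by group
      _ = _ := by rw [← hgk]
  rw [e]
  exact G.mul_mem (G.inv_mem (G.pow_mem hc _)) g.2

theorem conj_affine {k : Fin 11} (hk : k ≠ 0) (a : ℕ) :
    c0 ^ a * mulP k * c0 * (c0 ^ a * mulP k)⁻¹ = c0 ^ (k : ℕ) := by
  calc c0 ^ a * mulP k * c0 * (c0 ^ a * mulP k)⁻¹
      = c0 ^ a * (mulP k * c0 * (mulP k)⁻¹) * (c0 ^ a)⁻¹ := by group
    _ = c0 ^ a * c0 ^ (k : ℕ) * (c0 ^ a)⁻¹ := by rw [mulP_conj k hk]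
    _ = c0 ^ (k : ℕ) := by rw [← pow_add, add_comm, pow_add, mul_inv_cancel_right]

theorem mem_normalizer_of (hc : c0 ∈ G) {S : Sylow 11 G}
    (hS : (S : Subgroup G) = Subgroup.zpowers (⟨c0, hc⟩ : G)) {k : Fin 11} (hk : k ≠ 0)
    (hkG : mulP k ∈ G) (a : ℕ) :
    (⟨c0 ^ a * mulP k, G.mul_mem (G.pow_mem hc _) hkG⟩ : G) ∈
      Subgroup.normalizer ((S : Subgroup G) : Set G) := by
  apply Subgroup.mem_normalizer_fintype
  intro n hn
  rw [SetLike.mem_coe, hS] at hn ⊢
  obtain ⟨m, rfl⟩ := Subgroup.mem_zpowers_iff.mp hn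
  have hconj : (⟨c0 ^ a * mulP k, G.mul_mem (G.pow_mem hc _) hkG⟩ : G) * ⟨c0, hc⟩ *
      (⟨c0 ^ a * mulP k, G.mul_mem (G.pow_mem hc _) hkG⟩ : G)⁻¹ = (⟨c0, hc⟩ : G) ^ (k : ℕ) :=
    Subtype.ext (conj_affine hk a)
  rw [← conj_zpow, hconj]
  exact Subgroup.zpow_mem _ (Subgroup.pow_mem _ (Subgroup.mem_zpowers _) _) _

theorem card_normalizer (hc : c0 ∈ G) {S : Sylow 11 G}
    (hS : (S : Subgroup G) = Subgroup.zpowers (⟨c0, hc⟩ : G)) :
    Nat.card (Subgroup.normalizer ((S : Subgroup G) : Set G)) =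
      11 * Nat.card {k : Fin 11 // k ≠ 0 ∧ mulP k ∈ G} := by
  let φ : Fin 11 × {k : Fin 11 // k ≠ 0 ∧ mulP k ∈ G} →
      Subgroup.normalizer ((S : Subgroup G) : Set G) :=
    fun p => ⟨⟨c0 ^ p.1.val * mulP p.2.1, G.mul_mem (G.pow_mem hc _) p.2.2.2⟩,
      mem_normalizer_of hc hS p.2.2.1 p.2.2.2 p.1.val⟩
  have hinj : Function.Injective φ := by
    rintro ⟨a, k, hk0, hkG⟩ ⟨a', k', hk0', hkG'⟩ h
    have h' : c0 ^ a.val * mulP k = c0 ^ a'.val * mulP k' :=
      congrArg (fun z : Subgroup.normalizer ((S : Subgroup G) : Set G) =>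
        ((z : G) : Perm (Fin 11))) h
    have e0 := congrArg (fun f : Perm (Fin 11) => f 0) h'
    simp only [Perm.mul_apply, mulP_apply hk0, mulP_apply hk0', c0_pow_apply, mul_zero, zero_add,
      Fin.cast_val_eq_self] at e0
    subst e0
    have e1 := congrArg (fun f : Perm (Fin 11) => f 1) h'
    simp only [Perm.mul_apply, mulP_apply hk0, mulP_apply hk0', c0_pow_apply, mul_one,
      Fin.cast_val_eq_self, add_left_inj] at e1
    subst e1
    rfl
  have hsurj : Function.Surjective φ := by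
    rintro ⟨g, hg⟩
    obtain ⟨k, hk0, hkG, hgk⟩ := mem_normalizer_imp hc hS hg
    refine ⟨⟨(g : Perm (Fin 11)) 0, ⟨k, hk0, hkG⟩⟩, ?_⟩
    apply Subtype.ext
    apply Subtype.ext
    exact hgk.symm
  rw [← Nat.card_congr (Equiv.ofBijective φ ⟨hinj, hsurj⟩), Nat.card_prod,
    Nat.card_eq_fintype_card (α := Fin 11), Fintype.card_fin]

theorem card_mult_of_mem (hmu : mu3 ∈ G) (h10 : mulP 10 ∈ G) :
    Nat.card {k : Fin 11 // k ≠ 0 ∧ mulP k ∈ G} = 10 := by
  have hiff : ∀ k : Fin 11, (k ≠ 0 ∧ mulP k ∈ G) ↔ k ∈ (Finset.univ.erase 0 : Finset (Fin 11)) := by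
    intro k
    rw [Finset.mem_erase]
    constructor
    · rintro ⟨h, _⟩
      exact ⟨h, Finset.mem_univ _⟩
    · rintro ⟨h, _⟩
      obtain ⟨i, j, hij⟩ := mulP_all k h
      exact ⟨h, hij ▸ G.mul_mem (G.pow_mem hmu _) (G.pow_mem h10 _)⟩
  rw [Nat.card_congr (Equiv.subtypeEquivRight hiff), Nat.card_eq_fintype_card, Fintype.card_coe]
  rfl

theorem card_mult_of_not_mem (hmu : mu3 ∈ G) (h10 : mulP 10 ∉ G) :
    Nat.card {k : Fin 11 // k ≠ 0 ∧ mulP k ∈ G} = 5 := by
  have hiff : ∀ k : Fin 11, (k ≠ 0 ∧ mulP k ∈ G) ↔ k ∈ ({1, 3, 4, 5, 9} : Finset (Fin 11)) := by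
    intro k
    constructor
    · rintro ⟨h0, hG⟩
      by_contra hk
      obtain ⟨i, hi⟩ := mulP_nonres k h0 hk
      exact h10 (hi ▸ G.pow_mem hG _)
    · intro hk
      obtain ⟨h0, i, hi⟩ := mulP_res k hk
      exact ⟨h0, hi ▸ G.pow_mem hmu _⟩
  rw [Nat.card_congr (Equiv.subtypeEquivRight hiff), Nat.card_eq_fintype_card, Fintype.card_coe]
  rfl

/-! ### faithfulness on the Sylow subgroups -/

theorem card_sylow_eleven (hc : c0 ∈ G) (Q : Sylow 11 G) : Nat.card (Q : Subgroup G) = 11 := by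
  rw [Sylow.card_eq_multiplicity, factorization_eleven hc, pow_one]

theorem faithful_on_sylow (hc : c0 ∈ G) (hn : Nat.card (Sylow 11 G) ≠ 1) (g : G)
    (hg : ∀ Q : Sylow 11 G, g • Q = Q) : g = 1 := by
  by_contra hg1
  let Kn : Subgroup G := (MulAction.toPermHom G (Sylow 11 G)).ker
  have hmemK : ∀ z : G, z ∈ Kn ↔ ∀ Q : Sylow 11 G, z • Q = Q := by
    intro z
    rw [MonoidHom.mem_ker]
    constructor
    · intro h Q
      have := congrArg (fun f : Perm (Sylow 11 G) => f Q) h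
      simpa using this
    · intro h
      exact Equiv.ext (fun Q => h Q)
  have hgK : g ∈ Kn := (hmemK g).mpr hg
  have : Kn.Normal := MonoidHom.normal_ker _
  have := isPreprimitive_of_c0_mem hc
  have hfix : fixedPoints Kn (Fin 11) ≠ Set.univ := by
    intro hfix
    apply hg1
    apply Subtype.ext
    ext x
    have hx : x ∈ fixedPoints Kn (Fin 11) := hfix ▸ Set.mem_univ x
    have := hx ⟨g, hgK⟩
    exact congrArg _ this
  have hpre : IsPretransitive Kn (Fin 11) := IsQuasiPreprimitive.isPretransitive_of_normal hfix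
  have h11 : 11 ∣ Nat.card Kn := by
    rw [← Subgroup.index_mul_card (stabilizer Kn (0 : Fin 11)),
      index_stabilizer_of_transitive Kn (0 : Fin 11), Nat.card_eq_fintype_card, Fintype.card_fin]
    exact dvd_mul_right _ _
  obtain ⟨z, hz⟩ := exists_prime_orderOf_dvd_card' 11 h11
  have hzo : orderOf (z : G) = 11 := by rw [Subgroup.orderOf_coe]; exact hz
  have hzQ : ∀ Q : Sylow 11 G, (z : G) ∈ (Q : Subgroup G) := by
    intro Q
    have hzN : (z : G) ∈ Subgroup.normalizer ((Q : Subgroup G) : Set G) :=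
      Sylow.smul_eq_iff_mem_normalizer.mp ((hmemK z).mp z.2 Q)
    have hP : IsPGroup 11 (Subgroup.zpowers (z : G)) :=
      IsPGroup.of_card (n := 1) (by rw [Nat.card_zpowers, hzo, pow_one])
    have hinf := hP.inf_normalizer_sylow Q
    exact (hinf.le (Subgroup.mem_inf.mpr ⟨Subgroup.mem_zpowers _, hzN⟩)).2
  have hz1 : (z : G) ≠ 1 := by
    intro h
    rw [h, orderOf_one] at hzo
    norm_num at hzo
  have hall : ∀ Q : Sylow 11 G, (Q : Subgroup G) = Subgroup.zpowers (z : G) := fun Q =>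
    (Cfsg.Agent.Lib.H3.Zas.zpowers_eq_of_card_prime (card_sylow_eleven hc Q) (hzQ Q) hz1).symm
  apply hn
  have : Subsingleton (Sylow 11 G) := ⟨fun Q Q' => Sylow.ext ((hall Q).trans (hall Q').symm)⟩
  exact Nat.card_unique

/-! ### the main theorem on `Fin 11` -/

theorem main11 {tblOf : Nat → Nat → Nat} (hall : AllChunks tblOf) (G : Subgroup (Perm (Fin 11)))
    (hc : c0 ∈ G) (hns : ¬ Group.IsSolvable G) (hA : ¬ alternatingGroup (Fin 11) ≤ G) :
    (IsMultiplyPretransitive G (Fin 11) 4 ∧ ∀ x : Fin 4 ↪ Fin 11, stabilizer G x = ⊥) ∨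
      Nonempty (G ≃* Matrix.ProjectiveSpecialLinearGroup (Fin 2) (ZMod 11)) := by
  have hmu := mu3_mem hc hns
  have hpre := isPretransitive_of_c0_mem hc
  have h2 : IsMultiplyPretransitive G (Fin 11) 2 :=
    (Cfsg.Agent.S0675.result (by rw [Fintype.card_fin]; norm_num) G).resolve_left hns
  have hfree := stabilizer_eq_bot hall hc hmu hA h2
  have hdvd := card_dvd_of_free hfree
  have h110 : 110 ∣ Nat.card G := descFactorial_dvd_card (k := 2) (by norm_num) h2
  obtain ⟨S, hS⟩ := exists_sylow hc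
  have hN := card_normalizer hc hS
  have hidx : Nat.card (Sylow 11 G) =
      (Subgroup.normalizer ((S : Subgroup G) : Set G)).index := S.card_eq_index_normalizer
  have hmul := Subgroup.index_mul_card (Subgroup.normalizer ((S : Subgroup G) : Set G))
  have hmod : Nat.card (Sylow 11 G) % 11 = 1 := card_sylow_modEq_one 11 G
  rw [← hidx] at hmul
  by_cases h10 : mulP 10 ∈ G
  · exfalso
    rw [card_mult_of_mem hmu h10] at hN
    have heven : Even (Nat.card (Subgroup.normalizer ((S : Subgroup G) : Set G))) := by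
      rw [hN]; decide
    have h3 := Cfsg.Agent.S0676.result (p := 11) (by simp) G hns S heven
    have h990 : 990 ∣ Nat.card G := descFactorial_dvd_card (k := 3) (by norm_num) h3
    rw [hN] at hmul
    rw [← hmul] at hdvd h990
    generalize Nat.card (Sylow 11 G) = n at hmod hdvd h990
    have hn72 : n ∣ 72 := Nat.dvd_of_mul_dvd_mul_right (by norm_num : 0 < 11 * 10) hdvd
    have hn9 : 9 ∣ n := Nat.dvd_of_mul_dvd_mul_right (by norm_num : 0 < 11 * 10) h990
    have hle : n ≤ 72 := Nat.le_of_dvd (by norm_num) hn72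
    interval_cases n <;> omega
  · rw [card_mult_of_not_mem hmu h10] at hN
    rw [hN] at hmul
    have hdvd' := hdvd
    rw [← hmul] at hdvd' h110
    have hn : Nat.card (Sylow 11 G) = 12 ∨ Nat.card (Sylow 11 G) = 144 := by
      generalize Nat.card (Sylow 11 G) = n at hmod hdvd' h110
      have hn144 : n ∣ 144 := Nat.dvd_of_mul_dvd_mul_right (by norm_num : 0 < 11 * 5) hdvd'
      have hn2 : 2 ∣ n := Nat.dvd_of_mul_dvd_mul_right (by norm_num : 0 < 11 * 5) h110
      have hle : n ≤ 144 := Nat.le_of_dvd (by norm_num) hn144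
      interval_cases n <;> omega
    rcases hn with hn | hn
    · right
      rw [hn] at hmul
      have hcard : Nat.card G = 660 := by rw [← hmul]
      exact Cfsg.Agent.Lib.H3.Zas.nonempty_mulEquiv_PSL_of_faithful (p := 11) (by norm_num)
        (by rw [hcard]; norm_num) hn (card_sylow_eleven hc)
        (faithful_on_sylow hc (by rw [hn]; norm_num)) Cfsg.Agent.Lib.H3.Zas.tables11 (by decide)
        (ZMod.card 11)
    · left
      rw [hn] at hmul
      have hcard : Nat.card G = 7920 := by rw [← hmul]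
      exact ⟨four_trans_of_free hfree hcard, hfree⟩

end Cfsg.Agent.Lib.H27.D11
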