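import Cfsg.Agent.Lib.H27.D11Grp
import Cfsg.Agent.Lib.H27.D11Chk2
import Cfsg.Agent.Lib.H27.D11Chk3
import Cfsg.Agent.Lib.H27.D11Chk4
import Cfsg.Agent.Lib.H27.D11Chk5
import Cfsg.Agent.Lib.H27.D11Chk6
import Cfsg.Agent.Lib.H27.D11Chk7
import Cfsg.Agent.Lib.H27.D11Chk8
import Cfsg.Agent.Lib.H27.D11Chk9
import Cfsg.Agent.Lib.H27.D11Chk10

/-!
# Transitive groups of degree 11: assembling the enumeration
-/

set_option autoImplicit false

namespace Cfsg.Agent.Lib.H27.D11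

open Equiv MulAction

/-- the hint tables -/
def tblOf (a : Nat) : Nat → Nat :=
  match a with
  | 2 => tbl_2
  | 3 => tbl_3
  | 4 => tbl_4
  | 5 => tbl_5
  | 6 => tbl_6
  | 7 => tbl_7
  | 8 => tbl_8
  | 9 => tbl_9
  | 10 => tbl_10
  | _ => fun _ => 0

theorem allChunks : AllChunks tblOf := by
  intro a ha
  have ha' : a = 2 ∨ a = 3 ∨ a = 4 ∨ a = 5 ∨ a = 6 ∨ a = 7 ∨ a = 8 ∨ a = 9 ∨ a = 10 := by
    simpa [r9] using ha
  rcases ha' with rfl | rfl | rfl | rfl | rfl | rfl | rfl | rfl | rfl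
  · exact chunks_2
  · exact chunks_3
  · exact chunks_4
  · exact chunks_5
  · exact chunks_6
  · exact chunks_7
  · exact chunks_8
  · exact chunks_9
  · exact chunks_10

/-- a non-solvable subgroup of `Perm (Fin 11)` containing the standard 11-cycle and not containing the
alternating group is sharply 4-transitive or isomorphic to `PSL₂(11)` -/
theorem main_fin (G : Subgroup (Perm (Fin 11))) (hc : c0 ∈ G) (hns : ¬ Group.IsSolvable G)
    (hA : ¬ alternatingGroup (Fin 11) ≤ G) :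
    (IsMultiplyPretransitive G (Fin 11) 4 ∧ ∀ x : Fin 4 ↪ Fin 11, stabilizer G x = ⊥) ∨
      Nonempty (G ≃* Matrix.ProjectiveSpecialLinearGroup (Fin 2) (ZMod 11)) :=
  main11 allChunks G hc hns hA

end Cfsg.Agent.Lib.H27.D11
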