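import Cfsg.Agent.Lib.H27.D11Defs

/-!
# Transitive groups of degree 11: soundness of the coded computations
-/

set_option autoImplicit false

namespace Cfsg.Agent.Lib.H27.D11

open Equiv

theorem dg_eq (p i : Nat) : dg p i = p / 16 ^ i % 16 := rfl

theorem dg_lt (p i : Nat) : dg p i < 16 := Nat.mod_lt _ (by norm_num)

/-- `p` codes the permutation `σ` -/
def Codes (p : Nat) (σ : Perm (Fin 11)) : Prop := ∀ i : Fin 11, dg p i = (σ i : ℕ)

/-- Horner value of eleven digits -/
def hv (d0 d1 d2 d3 d4 d5 d6 d7 d8 d9 d10 : Nat) : Nat :=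
  d0 + 16 * (d1 + 16 * (d2 + 16 * (d3 + 16 * (d4 + 16 * (d5 + 16 * (d6 + 16 * (d7 + 16 * (d8 +
    16 * (d9 + 16 * d10)))))))))

theorem dg_hv (d0 d1 d2 d3 d4 d5 d6 d7 d8 d9 d10 : Nat)
    (h0 : d0 < 16) (h1 : d1 < 16) (h2 : d2 < 16) (h3 : d3 < 16) (h4 : d4 < 16) (h5 : d5 < 16)
    (h6 : d6 < 16) (h7 : d7 < 16) (h8 : d8 < 16) (h9 : d9 < 16) (h10 : d10 < 16) :
    dg (hv d0 d1 d2 d3 d4 d5 d6 d7 d8 d9 d10) 0 = d0 ∧
    dg (hv d0 d1 d2 d3 d4 d5 d6 d7 d8 d9 d10) 1 = d1 ∧
    dg (hv d0 d1 d2 d3 d4 d5 d6 d7 d8 d9 d10) 2 = d2 ∧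
    dg (hv d0 d1 d2 d3 d4 d5 d6 d7 d8 d9 d10) 3 = d3 ∧
    dg (hv d0 d1 d2 d3 d4 d5 d6 d7 d8 d9 d10) 4 = d4 ∧
    dg (hv d0 d1 d2 d3 d4 d5 d6 d7 d8 d9 d10) 5 = d5 ∧
    dg (hv d0 d1 d2 d3 d4 d5 d6 d7 d8 d9 d10) 6 = d6 ∧
    dg (hv d0 d1 d2 d3 d4 d5 d6 d7 d8 d9 d10) 7 = d7 ∧
    dg (hv d0 d1 d2 d3 d4 d5 d6 d7 d8 d9 d10) 8 = d8 ∧
    dg (hv d0 d1 d2 d3 d4 d5 d6 d7 d8 d9 d10) 9 = d9 ∧
    dg (hv d0 d1 d2 d3 d4 d5 d6 d7 d8 d9 d10) 10 = d10 := by
  simp only [dg_eq, hv]
  norm_num
  refine ⟨?_, ?_, ?_, ?_, ?_, ?_, ?_, ?_, ?_, ?_, ?_⟩ <;> omega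

theorem cmpN_eq (p q : Nat) : cmpN p q =
    hv (dg p (dg q 0)) (dg p (dg q 1)) (dg p (dg q 2)) (dg p (dg q 3)) (dg p (dg q 4))
      (dg p (dg q 5)) (dg p (dg q 6)) (dg p (dg q 7)) (dg p (dg q 8)) (dg p (dg q 9))
      (dg p (dg q 10)) := rfl

theorem dg_cmpN (p q : Nat) (x : Fin 11) : dg (cmpN p q) x = dg p (dg q x) := by
  have h := dg_hv (dg p (dg q 0)) (dg p (dg q 1)) (dg p (dg q 2)) (dg p (dg q 3)) (dg p (dg q 4))
      (dg p (dg q 5)) (dg p (dg q 6)) (dg p (dg q 7)) (dg p (dg q 8)) (dg p (dg q 9))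
      (dg p (dg q 10)) (dg_lt _ _) (dg_lt _ _) (dg_lt _ _) (dg_lt _ _) (dg_lt _ _) (dg_lt _ _)
      (dg_lt _ _) (dg_lt _ _) (dg_lt _ _) (dg_lt _ _) (dg_lt _ _)
  rw [cmpN_eq]
  obtain ⟨h0, h1, h2, h3, h4, h5, h6, h7, h8, h9, h10⟩ := h
  fin_cases x
  · exact h0
  · exact h1
  · exact h2
  · exact h3
  · exact h4
  · exact h5
  · exact h6
  · exact h7
  · exact h8
  · exact h9
  · exact h10

theorem Codes.cmpN {p q : Nat} {π ρ : Perm (Fin 11)} (hp : Codes p π) (hq : Codes q ρ) :
    Codes (cmpN p q) (π * ρ) := by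
  intro x
  rw [dg_cmpN, hq x, hp (ρ x)]
  rfl

/-! ### periods -/

theorem perAux_zero (w i j k : Nat) : perAux w i 0 j k = 0 := rfl

theorem perAux_succ (w i f j k : Nat) :
    perAux w i (f + 1) j k = bif Nat.beq j i then k else perAux w i f (dg w j) (Nat.succ k) := rfl

theorem perAux_spec {w : Nat} {ω : Perm (Fin 11)} (hw : Codes w ω) (i : Fin 11) :
    ∀ (f k : Nat) (j : Fin 11), j = (ω ^ k) i → ∀ r, perAux w i f j k = r → r ≠ 0 →
      (ω ^ r) i = i ∧ k ≤ r ∧ r < k + f ∧ (r ≠ k → j ≠ i) := by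
  intro f
  induction f with
  | zero =>
    intro k j _ r hr hr0
    rw [perAux_zero] at hr
    exact absurd hr.symm hr0
  | succ f ih =>
    intro k j hj r hr hr0
    rw [perAux_succ] at hr
    by_cases hji : j = i
    · have hb : Nat.beq (j : ℕ) (i : ℕ) = true := by
        rw [hji]; exact Nat.beq_refl _
      rw [hb] at hr
      simp only [cond_true] at hr
      subst hr
      refine ⟨?_, le_refl _, by omega, fun h => absurd rfl h⟩
      rw [← hj, hji]
    · have hb : Nat.beq (j : ℕ) (i : ℕ) = false := by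
        rw [← Bool.not_eq_true]
        intro h
        exact hji (Fin.ext (Nat.eq_of_beq_eq_true h))
      rw [hb] at hr
      simp only [cond_false] at hr
      have hj' : ω j = (ω ^ (k + 1)) i := by
        rw [pow_succ', Perm.mul_apply, ← hj]
      have hdg : dg w j = ((ω j : Fin 11) : ℕ) := hw j
      rw [hdg] at hr
      obtain ⟨h1, h2, h3, _⟩ := ih (k + 1) (ω j) hj' r hr hr0
      exact ⟨h1, by omega, by omega, fun _ => hji⟩

theorem per_spec {w : Nat} {ω : Perm (Fin 11)} (hw : Codes w ω) (i : Fin 11) (hr0 : per w i ≠ 0) :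
    (ω ^ (per w i)) i = i ∧ 1 ≤ per w i ∧ per w i < 12 ∧ (per w i ≠ 1 → ω i ≠ i) := by
  have h := perAux_spec hw i 11 1 (ω i) (by rw [pow_one]) (per w i)
    (by unfold per; rw [hw i]) hr0
  exact ⟨h.1, h.2.1, by omega, h.2.2.2⟩

theorem sums3_zero (w s : Nat) : sums3 w 0 s = Nat.beq s 3 := rfl

theorem sums3_succ (w n s : Nat) : sums3 w (n + 1) s =
    Nat.rec (motive := fun _ => Bool) false
      (fun l _ => bif Nat.beq l 2 then sums3 w n (Nat.succ s) else
        bif Nat.beq l 5 then false else bif Nat.beq l 8 then false else sums3 w n s) (per w n) := rfl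

theorem sums3_spec (w : Nat) : ∀ n s, sums3 w n s = true →
    (∀ m < n, per w m ≠ 0 ∧ per w m ≠ 6 ∧ per w m ≠ 9) ∧
    s + ((Finset.range n).filter (fun m => per w m = 3)).card = 3 := by
  intro n
  induction n with
  | zero =>
    intro s hs
    rw [sums3_zero] at hs
    have := Nat.eq_of_beq_eq_true hs
    simp [this]
  | succ n ih =>
    intro s hs
    rw [sums3_succ] at hs
    rcases hp : per w n with _ | l
    · rw [hp] at hs
      exact absurd hs (by simp)
    · rw [hp] at hs
      simp only at hs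
      by_cases h2 : l = 2
      · subst h2
        simp only [Nat.beq_refl, cond_true] at hs
        obtain ⟨h1, hc⟩ := ih _ hs
        refine ⟨?_, ?_⟩
        · intro m hm
          rcases Nat.lt_succ_iff_lt_or_eq.mp hm with h | h
          · exact h1 m h
          · subst h; rw [hp]; omega
        · rw [Finset.range_add_one, Finset.filter_insert, if_pos hp,
            Finset.card_insert_of_notMem (by simp)]
          omega
      · have hb2 : Nat.beq l 2 = false := by
          rw [← Bool.not_eq_true]; intro h; exact h2 (Nat.eq_of_beq_eq_true h)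
        rw [hb2] at hs
        simp only [cond_false] at hs
        by_cases h5 : l = 5
        · subst h5; simp at hs
        have hb5 : Nat.beq l 5 = false := by
          rw [← Bool.not_eq_true]; intro h; exact h5 (Nat.eq_of_beq_eq_true h)
        rw [hb5] at hs
        simp only [cond_false] at hs
        by_cases h8 : l = 8
        · subst h8; simp at hs
        have hb8 : Nat.beq l 8 = false := by
          rw [← Bool.not_eq_true]; intro h; exact h8 (Nat.eq_of_beq_eq_true h)
        rw [hb8] at hs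
        simp only [cond_false] at hs
        obtain ⟨h1, hc⟩ := ih _ hs
        refine ⟨?_, ?_⟩
        · intro m hm
          rcases Nat.lt_succ_iff_lt_or_eq.mp hm with h | h
          · exact h1 m h
          · subst h; rw [hp]; omega
        · rw [Finset.range_add_one, Finset.filter_insert, if_neg (by rw [hp]; omega)]
          exact hc

theorem sums2_zero (w s : Nat) : sums2 w 0 s = Nat.beq s 2 := rfl

theorem sums2_succ (w n s : Nat) : sums2 w (n + 1) s =
    Nat.rec (motive := fun _ => Bool) false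
      (fun l _ => bif Nat.beq l 1 then sums2 w n (Nat.succ s) else
        bif Nat.beq (Nat.mod l 2) 1 then false else sums2 w n s) (per w n) := rfl

theorem sums2_spec (w : Nat) : ∀ n s, sums2 w n s = true →
    (∀ m < n, per w m ≠ 0 ∧ (per w m = 2 ∨ per w m % 2 = 1)) ∧
    s + ((Finset.range n).filter (fun m => per w m = 2)).card = 2 := by
  intro n
  induction n with
  | zero =>
    intro s hs
    rw [sums2_zero] at hs
    have := Nat.eq_of_beq_eq_true hs
    simp [this]
  | succ n ih =>
    intro s hs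
    rw [sums2_succ] at hs
    rcases hp : per w n with _ | l
    · rw [hp] at hs
      exact absurd hs (by simp)
    · rw [hp] at hs
      simp only at hs
      by_cases h1 : l = 1
      · subst h1
        simp only [Nat.beq_refl, cond_true] at hs
        obtain ⟨h1, hc⟩ := ih _ hs
        refine ⟨?_, ?_⟩
        · intro m hm
          rcases Nat.lt_succ_iff_lt_or_eq.mp hm with h | h
          · exact h1 m h
          · subst h; rw [hp]; omega
        · rw [Finset.range_add_one, Finset.filter_insert, if_pos hp,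
            Finset.card_insert_of_notMem (by simp)]
          omega
      · have hb1 : Nat.beq l 1 = false := by
          rw [← Bool.not_eq_true]; intro h; exact h1 (Nat.eq_of_beq_eq_true h)
        rw [hb1] at hs
        simp only [cond_false] at hs
        by_cases hodd : l % 2 = 1
        · have : Nat.beq (Nat.mod l 2) 1 = true := by
            show Nat.beq (l % 2) 1 = true
            rw [hodd]; rfl
          rw [this] at hs
          simp at hs
        have hbo : Nat.beq (Nat.mod l 2) 1 = false := by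
          rw [← Bool.not_eq_true]; intro h; exact hodd (Nat.eq_of_beq_eq_true h)
        rw [hbo] at hs
        simp only [cond_false] at hs
        obtain ⟨h1', hc⟩ := ih _ hs
        refine ⟨?_, ?_⟩
        · intro m hm
          rcases Nat.lt_succ_iff_lt_or_eq.mp hm with h | h
          · exact h1' m h
          · subst h; rw [hp]; omega
        · rw [Finset.range_add_one, Finset.filter_insert, if_neg (by rw [hp]; omega)]
          exact hc

/-! ### certificates -/

theorem card_filter_fin (P : ℕ → Prop) [DecidablePred P] :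
    (Finset.univ.filter (fun m : Fin 11 => P (m : ℕ))).card =
      ((Finset.range 11).filter P).card := by
  apply Finset.card_bij (fun (m : Fin 11) _ => (m : ℕ))
  · intro a ha
    simp only [Finset.mem_filter, Finset.mem_univ, true_and] at ha
    simp only [Finset.mem_filter, Finset.mem_range]
    exact ⟨a.2, ha⟩
  · intro a _ b _ h
    exact Fin.ext h
  · intro b hb
    simp only [Finset.mem_filter, Finset.mem_range] at hb
    exact ⟨⟨b, hb.1⟩, by simp [hb.2], rfl⟩

theorem pow_mul_apply_eq {ω : Perm (Fin 11)} {m : Fin 11} {r : ℕ} (h : (ω ^ r) m = m) (q s : ℕ) :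
    (ω ^ (s + r * q)) m = (ω ^ s) m := by
  rw [pow_add, pow_mul, Perm.mul_apply, Perm.pow_apply_eq_self_of_apply_eq_self h]

theorem cert3_sound {w : Nat} {ω : Perm (Fin 11)} (hw : Codes w ω) (hc : cert3 w = true) :
    (ω ^ 3080).IsThreeCycle := by
  obtain ⟨h1, h2⟩ := sums3_spec w 11 0 hc
  rw [zero_add] at h2
  rw [← card_support_eq_three_iff]
  have hsupp : (ω ^ 3080).support = Finset.univ.filter (fun m : Fin 11 => per w (m : ℕ) = 3) := by
    ext m
    simp only [Perm.mem_support, Finset.mem_filter, Finset.mem_univ, true_and]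
    obtain ⟨hp0, hp6, hp9⟩ := h1 m m.2
    obtain ⟨hfix, hge, hlt, hne⟩ := per_spec hw m hp0
    have hcase : per w m = 1 ∨ per w m = 2 ∨ per w m = 3 ∨ per w m = 4 ∨ per w m = 5 ∨
        per w m = 7 ∨ per w m = 8 ∨ per w m = 10 ∨ per w m = 11 := by omega
    have key : ∀ r q : ℕ, per w m = r → 3080 = 0 + r * q → (ω ^ 3080) m = m := by
      intro r q hr hq
      rw [hq, pow_mul_apply_eq (by rw [← hr]; exact hfix)]
      rfl
    rcases hcase with h | h | h | h | h | h | h | h | h
    · simp [h, key 1 3080 h (by norm_num)]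
    · simp [h, key 2 1540 h (by norm_num)]
    · rw [h] at hfix
      have e : (ω ^ 3080) m = (ω ^ 2) m := by
        rw [show 3080 = 2 + 3 * 1026 by norm_num, pow_mul_apply_eq hfix]
      constructor
      · intro _; exact h
      · intro _ hcon
        rw [e] at hcon
        have h3 : (ω ^ 3) m = ω ((ω ^ 2) m) := by
          rw [pow_succ', Perm.mul_apply]
        rw [hcon, hfix] at h3
        exact hne (by rw [h]; norm_num) h3.symm
    · simp [h, key 4 770 h (by norm_num)]
    · simp [h, key 5 616 h (by norm_num)]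
    · simp [h, key 7 440 h (by norm_num)]
    · simp [h, key 8 385 h (by norm_num)]
    · simp [h, key 10 308 h (by norm_num)]
    · simp [h, key 11 280 h (by norm_num)]
  rw [hsupp, card_filter_fin (fun m => per w m = 3), h2]

theorem cert2_sound {w : Nat} {ω : Perm (Fin 11)} (hw : Codes w ω) (hc : cert2 w = true) :
    (ω ^ 3465).IsSwap := by
  obtain ⟨h1, h2⟩ := sums2_spec w 11 0 hc
  rw [zero_add] at h2
  rw [← Perm.card_support_eq_two]
  have hsupp : (ω ^ 3465).support = Finset.univ.filter (fun m : Fin 11 => per w (m : ℕ) = 2) := by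
    ext m
    simp only [Perm.mem_support, Finset.mem_filter, Finset.mem_univ, true_and]
    obtain ⟨hp0, hpar⟩ := h1 m m.2
    obtain ⟨hfix, hge, hlt, hne⟩ := per_spec hw m hp0
    have hcase : per w m = 1 ∨ per w m = 2 ∨ per w m = 3 ∨ per w m = 5 ∨
        per w m = 7 ∨ per w m = 9 ∨ per w m = 11 := by omega
    have key : ∀ r q : ℕ, per w m = r → 3465 = 0 + r * q → (ω ^ 3465) m = m := by
      intro r q hr hq
      rw [hq, pow_mul_apply_eq (by rw [← hr]; exact hfix)]
      rfl
    rcases hcase with h | h | h | h | h | h | h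
    · simp [h, key 1 3465 h (by norm_num)]
    · rw [h] at hfix
      have e : (ω ^ 3465) m = (ω ^ 1) m := by
        rw [show 3465 = 1 + 2 * 1732 by norm_num, pow_mul_apply_eq hfix]
      constructor
      · intro _; exact h
      · intro _ hcon
        rw [e, pow_one] at hcon
        exact hne (by rw [h]; norm_num) hcon
    · simp [h, key 3 1155 h (by norm_num)]
    · simp [h, key 5 693 h (by norm_num)]
    · simp [h, key 7 495 h (by norm_num)]
    · simp [h, key 9 385 h (by norm_num)]
    · simp [h, key 11 315 h (by norm_num)]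
  rw [hsupp, card_filter_fin (fun m => per w m = 2), h2]

/-! ### the basic permutations -/

/-- the 11-cycle `x ↦ x + 1` -/
def c0 : Perm (Fin 11) where
  toFun x := x + 1
  invFun x := x + 10
  left_inv := by decide
  right_inv := by decide

/-- the permutation `x ↦ k x` (identity for `k = 0`) -/
def mulP (k : Fin 11) : Perm (Fin 11) where
  toFun x := if k = 0 then x else k * x
  invFun x := if k = 0 then x else k ^ 9 * x
  left_inv := by revert k; decide
  right_inv := by revert k; decide

/-- `x ↦ 3 x` -/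
def mu3 : Perm (Fin 11) := mulP 3

/-- the element `μ₃^j c^i` of index `1 + 11 j + i` -/
def betaOf (a : ℕ) : Perm (Fin 11) :=
  if a = 0 then 1 else mu3 ^ ((a - 1) / 11) * c0 ^ ((a - 1) % 11)

instance (p : Nat) (σ : Perm (Fin 11)) : Decidable (Codes p σ) := by
  unfold Codes; infer_instance

theorem nlc_codes : ∀ a : Fin 56, Codes (nlc a) (betaOf a) := by decide +kernel

theorem betaOf_mem (a : ℕ) (σ : Perm (Fin 11)) :
    betaOf a ∈ Subgroup.closure ({c0, mu3, σ} : Set (Perm (Fin 11))) := by
  unfold betaOf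
  split_ifs
  · exact one_mem _
  · exact mul_mem (pow_mem (Subgroup.subset_closure (by simp)) _)
      (pow_mem (Subgroup.subset_closure (by simp)) _)

/-! ### the hinted check -/

theorem chkH_zero (h : Nat) : chkH h 0 = (memL h AL || memL h AL2) := rfl

theorem chkH_succ (h hm : Nat) : chkH h (hm + 1) =
    bif Nat.ble (Nat.div (Nat.div (Nat.succ hm) 2) 56) 55 then
      (bif Nat.beq (Nat.mod (Nat.succ hm) 2) 0 then
        cert3 (cmpN (bif Nat.beq (Nat.div (Nat.div (Nat.succ hm) 2) 56) 0 then h else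
          cmpN (cmpN h (nlc (Nat.div (Nat.div (Nat.succ hm) 2) 56))) h)
          (nlc (Nat.mod (Nat.div (Nat.succ hm) 2) 56)))
      else
        cert2 (cmpN (bif Nat.beq (Nat.div (Nat.div (Nat.succ hm) 2) 56) 0 then h else
          cmpN (cmpN h (nlc (Nat.div (Nat.div (Nat.succ hm) 2) 56))) h)
          (nlc (Nat.mod (Nat.div (Nat.succ hm) 2) 56))))
    else false := rfl

theorem chkH_sound {h hint : Nat} {σ : Perm (Fin 11)} (hσ : Codes h σ) (hc : chkH h hint = true) :
    (memL h AL = true ∨ memL h AL2 = true) ∨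
      ∃ y ∈ Subgroup.closure ({c0, mu3, σ} : Set (Perm (Fin 11))), y.IsThreeCycle ∨ y.IsSwap := by
  rcases hint with _ | hm
  · left
    rw [chkH_zero, Bool.or_eq_true] at hc
    exact hc
  · right
    rw [chkH_succ] at hc
    generalize hr2 : Nat.div (Nat.div (Nat.succ hm) 2) 56 = r2 at hc
    have ha56 : Nat.mod (Nat.div (Nat.succ hm) 2) 56 < 56 := Nat.mod_lt _ (by norm_num)
    generalize Nat.mod (Nat.div (Nat.succ hm) 2) 56 = a at hc ha56
    generalize Nat.mod (Nat.succ hm) 2 = t at hc
    by_cases hle : Nat.ble r2 55 = true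
    swap
    · rw [Bool.not_eq_true] at hle
      rw [hle] at hc
      simp at hc
    rw [hle] at hc
    simp only [cond_true] at hc
    have hr55 : r2 < 56 := Nat.lt_succ_of_le (Nat.le_of_ble_eq_true hle)
    -- the first factor
    obtain ⟨γ, hγmem, hγ⟩ : ∃ γ ∈ Subgroup.closure ({c0, mu3, σ} : Set (Perm (Fin 11))),
        Codes (bif Nat.beq r2 0 then h else cmpN (cmpN h (nlc r2)) h) γ := by
      have hσmem : σ ∈ Subgroup.closure ({c0, mu3, σ} : Set (Perm (Fin 11))) :=
        Subgroup.subset_closure (by simp)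
      by_cases h0 : r2 = 0
      · subst h0
        exact ⟨σ, hσmem, hσ⟩
      · have hb : Nat.beq r2 0 = false := by
          rw [← Bool.not_eq_true]; intro hh; exact h0 (Nat.eq_of_beq_eq_true hh)
        rw [hb]
        refine ⟨σ * betaOf r2 * σ, mul_mem (mul_mem hσmem (betaOf_mem _ _)) hσmem, ?_⟩
        exact (hσ.cmpN (nlc_codes ⟨r2, hr55⟩)).cmpN hσ
    have hw : Codes (cmpN (bif Nat.beq r2 0 then h else cmpN (cmpN h (nlc r2)) h) (nlc a))
        (γ * betaOf a) := hγ.cmpN (nlc_codes ⟨a, ha56⟩)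
    have hmem : γ * betaOf a ∈ Subgroup.closure ({c0, mu3, σ} : Set (Perm (Fin 11))) :=
      mul_mem hγmem (betaOf_mem _ _)
    by_cases ht : Nat.beq t 0 = true
    · rw [ht] at hc
      simp only [cond_true] at hc
      exact ⟨_, pow_mem hmem 3080, Or.inl (cert3_sound hw hc)⟩
    · rw [Bool.not_eq_true] at ht
      rw [ht] at hc
      simp only [cond_false] at hc
      exact ⟨_, pow_mem hmem 3465, Or.inr (cert2_sound hw hc)⟩

end Cfsg.Agent.Lib.H27.D11
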