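import Cfsg.Agent.Lib.H27.D11Aff

/-!
# Transitive groups of degree 11: Burnside's transfer and the multiplier `3`
-/

set_option autoImplicit false

namespace Cfsg.Agent.Lib.H27.D11

open Equiv MulAction
open Fin.NatCast Fin.CommRing

local instance : Fact (Nat.Prime 11) := ⟨by norm_num⟩

/-- the action of a subgroup containing `c0` is transitive -/
theorem isPretransitive_of_c0_mem {K : Subgroup (Perm (Fin 11))} (hc : c0 ∈ K) :
    IsPretransitive K (Fin 11) := by
  refine ⟨fun x y => ⟨⟨c0 ^ (y - x).val, K.pow_mem hc _⟩, ?_⟩⟩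
  show (c0 ^ (y - x).val) x = y
  rw [c0_pow_apply, Fin.cast_val_eq_self]
  ring

theorem isPreprimitive_of_c0_mem {K : Subgroup (Perm (Fin 11))} (hc : c0 ∈ K) :
    IsPreprimitive K (Fin 11) := by
  have := isPretransitive_of_c0_mem hc
  exact IsPreprimitive.of_prime_card (by
    rw [Nat.card_eq_fintype_card, Fintype.card_fin]; norm_num)

theorem card_dvd_factorial (K : Subgroup (Perm (Fin 11))) : Nat.card K ∣ 39916800 := by
  have h := Subgroup.card_subgroup_dvd_card K
  have e : Nat.card (Perm (Fin 11)) = 39916800 := by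
    rw [Nat.card_perm, Nat.card_eq_fintype_card, Fintype.card_fin]
    norm_num [Nat.factorial]
  rwa [e] at h

theorem factorization_eleven {K : Subgroup (Perm (Fin 11))} (hc : c0 ∈ K) :
    (Nat.card K).factorization 11 = 1 := by
  have hpos : Nat.card K ≠ 0 := Nat.card_pos.ne'
  have h1 : 11 ∣ Nat.card K := by
    have : orderOf (⟨c0, hc⟩ : K) = 11 := (Subgroup.orderOf_mk c0 hc).trans orderOf_c0
    have h := orderOf_dvd_natCard (⟨c0, hc⟩ : K)
    rwa [this] at h
  have h2 : ¬ 11 ^ 2 ∣ Nat.card K := by
    intro h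
    have := h.trans (card_dvd_factorial K)
    norm_num at this
  have hle : 1 ≤ (Nat.card K).factorization 11 :=
    (Nat.Prime.dvd_iff_one_le_factorization (by norm_num) hpos).mp h1
  have hlt : (Nat.card K).factorization 11 < 2 := by
    by_contra hcon
    push Not at hcon
    exact h2 ((Nat.Prime.pow_dvd_iff_le_factorization (by norm_num) hpos).mpr hcon)
  omega

/-- a non-solvable subgroup containing `c0` contains a nontrivial multiplier -/
theorem exists_mulP_mem (K : Subgroup (Perm (Fin 11))) (hc : c0 ∈ K)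
    (hns : ¬ Group.IsSolvable K) : ∃ k : Fin 11, k ≠ 0 ∧ k ≠ 1 ∧ mulP k ∈ K := by
  by_contra hcon
  push Not at hcon
  let c : K := ⟨c0, hc⟩
  have hordc : orderOf c = 11 := (Subgroup.orderOf_mk c0 hc).trans orderOf_c0
  have hP0 : Nat.card (Subgroup.zpowers c) = 11 := by rw [Nat.card_zpowers, hordc]
  let S : Sylow 11 K := Sylow.ofCard (Subgroup.zpowers c)
    (by rw [hP0, factorization_eleven hc, pow_one])
  have hS : (S : Subgroup K) = Subgroup.zpowers c := Sylow.coe_ofCard _ _
  have hNC : Subgroup.normalizer ((S : Subgroup K) : Set K) ≤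
      Subgroup.centralizer ((S : Subgroup K) : Set K) := by
    intro g hg
    rw [Subgroup.mem_normalizer_iff] at hg
    have h1 : g * c * g⁻¹ ∈ (S : Subgroup K) :=
      (hg c).mp (by rw [hS]; exact Subgroup.mem_zpowers c)
    have h2 : (g : Perm (Fin 11)) * c0 * (g : Perm (Fin 11))⁻¹ ∈ Subgroup.zpowers c0 := by
      rw [hS] at h1
      obtain ⟨n, hn⟩ := Subgroup.mem_zpowers_iff.mp h1
      refine Subgroup.mem_zpowers_iff.mpr ⟨n, ?_⟩
      have := congrArg (Subtype.val) hn
      simpa [c] using this
    obtain ⟨k, hk0, hgk, hconj⟩ := exists_affine h2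
    have hmem : mulP k ∈ K := by
      have e : mulP k = (c0 ^ ((g : Perm (Fin 11)) 0).val)⁻¹ * (g : Perm (Fin 11)) := by
        calc mulP k = (c0 ^ ((g : Perm (Fin 11)) 0).val)⁻¹ *
            (c0 ^ ((g : Perm (Fin 11)) 0).val * mulP k) := by group
          _ = _ := by rw [← hgk]
      rw [e]
      exact K.mul_mem (K.inv_mem (K.pow_mem hc _)) g.2
    have hk1 : k = 1 := by
      by_contra h
      exact hcon k hk0 h hmem
    subst hk1
    have hcomm : (g : Perm (Fin 11)) * c0 = c0 * g := by
      have h3 : (g : Perm (Fin 11)) * c0 * (g : Perm (Fin 11))⁻¹ = c0 := by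
        rw [hconj]; simp
      calc (g : Perm (Fin 11)) * c0
          = ((g : Perm (Fin 11)) * c0 * (g : Perm (Fin 11))⁻¹) * g := by group
        _ = c0 * g := by rw [h3]
    rw [Subgroup.mem_centralizer_iff]
    intro h hh
    rw [SetLike.mem_coe, hS] at hh
    obtain ⟨n, rfl⟩ := Subgroup.mem_zpowers_iff.mp hh
    have hcg : Commute c g := Subtype.ext hcomm.symm
    exact (hcg.zpow_left n).eq
  have hcompl := MonoidHom.ker_transferSylow_isComplement' S hNC
  have hndvd : ¬ 11 ∣ Nat.card (MonoidHom.transferSylow S hNC).ker :=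
    MonoidHom.not_dvd_card_ker_transferSylow S hNC
  have := isPreprimitive_of_c0_mem hc
  have hNbot : (MonoidHom.transferSylow S hNC).ker = ⊥ := by
    by_contra hne
    have hfix : fixedPoints (MonoidHom.transferSylow S hNC).ker (Fin 11) ≠ Set.univ := by
      intro hfix
      apply hne
      rw [Subgroup.eq_bot_iff_forall]
      intro n hn
      apply Subtype.ext
      ext x
      have hx : x ∈ fixedPoints (MonoidHom.transferSylow S hNC).ker (Fin 11) :=
        hfix ▸ Set.mem_univ x
      have := hx ⟨n, hn⟩
      exact congrArg _ this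
    have : IsPretransitive (MonoidHom.transferSylow S hNC).ker (Fin 11) :=
      IsQuasiPreprimitive.isPretransitive_of_normal hfix
    have hidx := index_stabilizer_of_transitive (MonoidHom.transferSylow S hNC).ker (0 : Fin 11)
    have h11 : 11 ∣ Nat.card (MonoidHom.transferSylow S hNC).ker := by
      rw [← Subgroup.index_mul_card (stabilizer (MonoidHom.transferSylow S hNC).ker (0 : Fin 11)),
        hidx, Nat.card_eq_fintype_card, Fintype.card_fin]
      exact dvd_mul_right _ _
    exact hndvd h11
  have hcard : Nat.card K = 11 := by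
    have := hcompl.card_mul_card
    rw [hNbot, Subgroup.card_bot, one_mul, hS, hP0] at this
    exact this.symm
  have := isCyclic_of_prime_card hcard
  letI : CommGroup K := IsCyclic.commGroup
  exact hns inferInstance

end Cfsg.Agent.Lib.H27.D11
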