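import Mathlib
import Cfsg.Prelude.Def_LieChev
import Cfsg.Agent.Lib.H6.InvRank
import Cfsg.Agent.Lib.H29.ChevCert13

/-!
# `E₇` in characteristic two: the ranks of `y - 1` for five involutions

The ranks are 34, 52, 53, 62 and 63 for `x_125`, `x_125 x_63`, `x_125 x_92 x_63`, `x_125 x_66 x_63`,
`x_125 x_78 x_66 x_63`; the certificates (kernel vectors, and vectors whose images have an identity
submatrix) are checked on the packed tables. Consequently the five involutions are pairwise non-conjugate in `GL`.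
-/

set_option autoImplicit false
set_option linter.unusedSectionVars false
set_option linter.unusedSimpArgs false
set_option linter.unusedVariables false

namespace Cfsg.Agent.Lib.H27.E7Inv

open Cfsg.Lie Matrix Cfsg.Agent.Lib.H29.Chev Cfsg.Agent.Lib.H6.Inv

/-- the sparse matrix with the given columns -/
def smOf7 (l : List SV) : SM := fun c => l.getD c []

def e7K_y1 : List SV := [[(1, 1)], [(2, 1)], [(3, 1)], [(4, 1)], [(5, 1)], [(6, 1)], [(40, 1)], [(41, 1)], [(42, 1)], [(43, 1)], [(44, 1)], [(45, 1)], [(46, 1)], [(47, 1)], [(48, 1)], [(49, 1)], [(50, 1)], [(51, 1)], [(52, 1)], [(53, 1)], [(54, 1)], [(55, 1)], [(56, 1)], [(57, 1)], [(58, 1)], [(59, 1)], [(60, 1)], [(61, 1)], [(62, 1)], [(63, 1)], [(64, 1)], [(65, 1)], [(66, 1)], [(67, 1)], [(68, 1)], [(69, 1)], [(70, 1)], [(71, 1)], [(72, 1)], [(73, 1)], [(74, 1)], [(75, 1)], [(76, 1)], [(77, 1)], [(78, 1)], [(79, 1)], [(80, 1)], [(81, 1)], [(82, 1)],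 [(83, 1)], [(84, 1)], [(85, 1)], [(86, 1)], [(87, 1)], [(88, 1)], [(89, 1)], [(90, 1)], [(91, 1)], [(92, 1)], [(93, 1)], [(94, 1)], [(95, 1)], [(96, 1)], [(97, 1)], [(98, 1)], [(99, 1)], [(100, 1)], [(101, 1)], [(102, 1)], [(103, 1)], [(104, 1)], [(105, 1)], [(106, 1)], [(107, 1)], [(108, 1)], [(109, 1)], [(110, 1)], [(111, 1)], [(112, 1)], [(113, 1)], [(114, 1)], [(115, 1)], [(116, 1)], [(117, 1)], [(118, 1)], [(119, 1)], [(120, 1)], [(121, 1)], [(122, 1)], [(123, 1)], [(124, 1)], [(125, 1)], [(126, 1)], [(127, 1)], [(128, 1)], [(129, 1)], [(130, 1)], [(131, 1)], [(132, 1)]]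

def e7PK_y1 : List (ℕ × ℕ) := [(1, 0), (2, 1), (3, 2), (4, 3), (5, 4), (6, 5), (40, 6), (41, 7), (42, 8), (43, 9), (44, 10), (45, 11), (46, 12), (47, 13), (48, 14), (49, 15), (50, 16), (51, 17), (52, 18), (53, 19), (54, 20), (55, 21), (56, 22), (57, 23), (58, 24), (59, 25), (60, 26), (61, 27), (62, 28), (63, 29), (64, 30), (65, 31), (66, 32), (67, 33), (68, 34), (69, 35), (70, 36), (71, 37), (72, 38), (73, 39), (74, 40), (75, 41), (76, 42), (77, 43), (78, 44), (79, 45), (80, 46), (81, 47), (82, 48), (83, 49), (84, 50), (85, 51), (86, 52), (87, 53), (88, 54), (89, 55), (90, 56), (91, 57), (92, 58), (93, 59), (94, 60), (95, 61), (96, 62), (97, 63), (98, 64), (99, 65), (100, 66), (101, 67), (102, 68), (103, 69), (104, 70), (105, 71), (106, 72), (107, 73), (108, 74), (109, 75), (110, 76), (111, 77), (112, 78), (113, 79), (114, 80), (115, 81), (116, 82), (117, 83), (118, 84), (119, 85), (120, 86), (121, 87), (122,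 88), (123, 89), (124, 90), (125, 91), (126, 92), (127, 93), (128, 94), (129, 95), (130, 96), (131, 97), (132, 98)]

def e7V_y1 : List SV := [[(0, 1), (7, 1)], [(8, 1)], [(9, 1)], [(10, 1)], [(11, 1)], [(12, 1)], [(13, 1)], [(14, 1)], [(15, 1)], [(16, 1)], [(17, 1)], [(18, 1)], [(19, 1)], [(20, 1)], [(21, 1)], [(22, 1)], [(23, 1)], [(24, 1)], [(25, 1)], [(26, 1)], [(27, 1)], [(28, 1)], [(29, 1)], [(30, 1)], [(31, 1)], [(32, 1)], [(33, 1)], [(34, 1)], [(35, 1)], [(36, 1)], [(37, 1)], [(38, 1)], [(39, 1)], [(0, 1)]]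

def e7PV_y1 : List (ℕ × ℕ) := [(2, 0), (100, 1), (101, 2), (102, 3), (103, 4), (104, 5), (105, 6), (106, 7), (107, 8), (108, 9), (109, 10), (110, 11), (111, 12), (112, 13), (113, 14), (114, 15), (115, 16), (116, 17), (117, 18), (118, 19), (119, 20), (120, 21), (121, 22), (122, 23), (123, 24), (124, 25), (125, 26), (126, 27), (127, 28), (128, 29), (129, 30), (130, 31), (131, 32), (132, 33)]

theorem e7K_y1_bdd : chkBdd (fdE7.l + fdE7.n) (smOf7 e7K_y1) = true := by decide +kernel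
theorem e7PK_y1_piv : chkPiv (fdE7.l + fdE7.n) e7PK_y1 = true := by decide +kernel
theorem e7K_y1_zero : chkZero 2 (fdE7.l + fdE7.n) (nSM fdE7 [125] (smOf7 e7K_y1)) = true := by decide +kernel
theorem e7K_y1_id : chkId 2 (smOf7 e7K_y1) e7PK_y1 = true := by decide +kernel
theorem e7V_y1_bdd : chkBdd (fdE7.l + fdE7.n) (smOf7 e7V_y1) = true := by decide +kernel
theorem e7PV_y1_piv : chkPiv (fdE7.l + fdE7.n) e7PV_y1 = true := by decide +kernel
theorem e7V_y1_id : chkId 2 (nSM fdE7 [125] (smOf7 e7V_y1)) e7PV_y1 = true := by decide +kernel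

section
variable {F : Type*} [Field F] [CharP F 2]

theorem e7_rank_y1_le : (([125].map fun r => chevE7.x F r 1).prod - 1).rank + 99 ≤ 133 :=
  rank_word_le 2 cert12_E7.c6.c2 [125] (by decide) (smOf7 e7K_y1) e7PK_y1 e7K_y1_bdd e7PK_y1_piv
    e7K_y1_zero e7K_y1_id

theorem e7_le_rank_y1 : 34 ≤ (([125].map fun r => chevE7.x F r 1).prod - 1).rank :=
  le_rank_word 2 cert12_E7.c6.c2 [125] (by decide) (smOf7 e7V_y1) e7PV_y1 e7V_y1_bdd e7PV_y1_piv
    e7V_y1_id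

end

def e7K_y2 : List SV := [[(1, 1)], [(2, 1)], [(3, 1)], [(4, 1)], [(6, 1)], [(40, 1)], [(42, 1)], [(44, 1)], [(45, 1)], [(47, 1)], [(48, 1)], [(49, 1)], [(51, 1)], [(52, 1)], [(53, 1)], [(54, 1)], [(56, 1)], [(57, 1)], [(58, 1)], [(59, 1)], [(61, 1)], [(62, 1)], [(63, 1)], [(65, 1)], [(66, 1)], [(68, 1)], [(70, 1)], [(72, 1)], [(73, 1)], [(75, 1)], [(76, 1)], [(77, 1)], [(79, 1)], [(80, 1)], [(81, 1)], [(82, 1)], [(84, 1)], [(85, 1)], [(86, 1)], [(87, 1)], [(89, 1)], [(90, 1)], [(91, 1)], [(93, 1)], [(94, 1)], [(96, 1)], [(98, 1)], [(99, 1)], [(100, 1)], [(101, 1)], [(102, 1)], [(103, 1)], [(13, 1), (104, 1)], [(105, 1)], [(106, 1)], [(107, 1)], [(17, 1), (108, 1)], [(109, 1)], [(110, 1)], [(20, 1), (111, 1)], [(112, 1)], [(22, 1), (113, 1)], [(114, 1)], [(115, 1)], [(116, 1)], [(26, 1), (117, 1)], [(118, 1)], [(28, 1), (119, 1)], [(120, 1)], [(121, 1)], [(31, 1), (122, 1)], [(123, 1)], [(124, 1)], [(125,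 1)], [(35, 1), (126, 1)], [(127, 1)], [(128, 1)], [(129, 1)], [(130, 1)], [(131, 1)], [(132, 1)]]

def e7PK_y2 : List (ℕ × ℕ) := [(1, 0), (2, 1), (3, 2), (4, 3), (6, 4), (40, 5), (42, 6), (44, 7), (45, 8), (47, 9), (48, 10), (49, 11), (51, 12), (52, 13), (53, 14), (54, 15), (56, 16), (57, 17), (58, 18), (59, 19), (61, 20), (62, 21), (63, 22), (65, 23), (66, 24), (68, 25), (70, 26), (72, 27), (73, 28), (75, 29), (76, 30), (77, 31), (79, 32), (80, 33), (81, 34), (82, 35), (84, 36), (85, 37), (86, 38), (87, 39), (89, 40), (90, 41), (91, 42), (93, 43), (94, 44), (96, 45), (98, 46), (99, 47), (100, 48), (101, 49), (102, 50), (103, 51), (104, 52), (105, 53), (106, 54), (107, 55), (108, 56), (109, 57), (110, 58), (111, 59), (112, 60), (113, 61), (114, 62), (115, 63), (116, 64), (117, 65), (118, 66), (119, 67), (120, 68), (121, 69), (122, 70), (123, 71), (124, 72), (125, 73), (126, 74), (127, 75), (128, 76), (129,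 77), (130, 78), (131, 79), (132, 80)]

def e7V_y2 : List SV := [[(0, 1), (5, 1), (7, 1), (69, 1)], [(5, 1), (69, 1)], [(12, 1), (13, 1)], [(16, 1), (17, 1)], [(19, 1), (20, 1)], [(21, 1), (22, 1)], [(25, 1), (26, 1)], [(27, 1), (28, 1)], [(30, 1), (31, 1)], [(34, 1), (35, 1)], [(41, 1)], [(43, 1)], [(46, 1)], [(50, 1)], [(55, 1)], [(60, 1)], [(64, 1)], [(67, 1)], [(5, 1)], [(71, 1)], [(74, 1)], [(78, 1)], [(83, 1)], [(88, 1)], [(92, 1)], [(95, 1)], [(97, 1)], [(8, 1)], [(9, 1)], [(10, 1)], [(11, 1)], [(13, 1)], [(14, 1)], [(15, 1)], [(17, 1)], [(18, 1)], [(20, 1)], [(22, 1)], [(23, 1)], [(24, 1)], [(26, 1)], [(28, 1)], [(29, 1)], [(31, 1)], [(32, 1)], [(33, 1)], [(35, 1)], [(36, 1)], [(37, 1)], [(38, 1)], [(39, 1)], [(0, 1)]]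

def e7PV_y2 : List (ℕ × ℕ) := [(2, 0), (6, 1), (13, 2), (17, 3), (20, 4), (22, 5), (26, 6), (28, 7), (31, 8), (35, 9), (42, 10), (44, 11), (47, 12), (51, 13), (56, 14), (61, 15), (65, 16), (68, 17), (70, 18), (72, 19), (75, 20), (79, 21), (84, 22), (89, 23), (93, 24), (96, 25), (98, 26), (100, 27), (101, 28), (102, 29), (103, 30), (105, 31), (106, 32), (107, 33), (109, 34), (110, 35), (112, 36), (114, 37), (115, 38), (116, 39), (118, 40), (120, 41), (121, 42), (123, 43), (124, 44), (125, 45), (127, 46), (128, 47), (129, 48), (130, 49), (131, 50), (132, 51)]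

theorem e7K_y2_bdd : chkBdd (fdE7.l + fdE7.n) (smOf7 e7K_y2) = true := by decide +kernel
theorem e7PK_y2_piv : chkPiv (fdE7.l + fdE7.n) e7PK_y2 = true := by decide +kernel
theorem e7K_y2_zero : chkZero 2 (fdE7.l + fdE7.n) (nSM fdE7 [125, 63] (smOf7 e7K_y2)) = true := by decide +kernel
theorem e7K_y2_id : chkId 2 (smOf7 e7K_y2) e7PK_y2 = true := by decide +kernel
theorem e7V_y2_bdd : chkBdd (fdE7.l + fdE7.n) (smOf7 e7V_y2) = true := by decide +kernel
theorem e7PV_y2_piv : chkPiv (fdE7.l + fdE7.n) e7PV_y2 = true := by decide +kernel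
theorem e7V_y2_id : chkId 2 (nSM fdE7 [125, 63] (smOf7 e7V_y2)) e7PV_y2 = true := by decide +kernel

section
variable {F : Type*} [Field F] [CharP F 2]

theorem e7_rank_y2_le : (([125, 63].map fun r => chevE7.x F r 1).prod - 1).rank + 81 ≤ 133 :=
  rank_word_le 2 cert12_E7.c6.c2 [125, 63] (by decide) (smOf7 e7K_y2) e7PK_y2 e7K_y2_bdd e7PK_y2_piv
    e7K_y2_zero e7K_y2_id

theorem e7_le_rank_y2 : 52 ≤ (([125, 63].map fun r => chevE7.x F r 1).prod - 1).rank :=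
  le_rank_word 2 cert12_E7.c6.c2 [125, 63] (by decide) (smOf7 e7V_y2) e7PV_y2 e7V_y2_bdd e7PV_y2_piv
    e7V_y2_id

end

def e7K_y3 : List SV := [[(1, 1)], [(2, 1)], [(3, 1)], [(4, 1)], [(6, 1)], [(45, 1)], [(48, 1)], [(49, 1)], [(52, 1)], [(53, 1)], [(54, 1)], [(57, 1)], [(58, 1)], [(59, 1)], [(62, 1)], [(63, 1)], [(66, 1)], [(70, 1)], [(42, 1), (71, 1)], [(72, 1)], [(73, 1)], [(44, 1), (74, 1)], [(75, 1)], [(76, 1)], [(77, 1)], [(47, 1), (78, 1)], [(79, 1)], [(80, 1)], [(81, 1)], [(82, 1)], [(51, 1), (83, 1)], [(84, 1)], [(85, 1)], [(86, 1)], [(87, 1)], [(56, 1), (88, 1)], [(89, 1)], [(90, 1)], [(91, 1)], [(61, 1), (92, 1)], [(93, 1)], [(94, 1)], [(65, 1), (95, 1)], [(96, 1)], [(68, 1), (97, 1)], [(98, 1)], [(99, 1)], [(23, 1), (100, 1)], [(29, 1), (101, 1)], [(32, 1), (102, 1)], [(33, 1), (103, 1)], [(13, 1), (104, 1)], [(105, 1)], [(36, 1), (106, 1)], [(37, 1), (107, 1)], [(17, 1), (108, 1)], [(109, 1)],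 [(38, 1), (110, 1)], [(20, 1), (111, 1)], [(112, 1)], [(22, 1), (113, 1)], [(114, 1)], [(115, 1)], [(39, 1), (116, 1)], [(26, 1), (117, 1)], [(118, 1)], [(28, 1), (119, 1)], [(120, 1)], [(121, 1)], [(31, 1), (122, 1)], [(123, 1)], [(124, 1)], [(125, 1)], [(35, 1), (126, 1)], [(127, 1)], [(128, 1)], [(129, 1)], [(130, 1)], [(131, 1)], [(132, 1)]]

def e7PK_y3 : List (ℕ × ℕ) := [(1, 0), (2, 1), (3, 2), (4, 3), (6, 4), (45, 5), (48, 6), (49, 7), (52, 8), (53, 9), (54, 10), (57, 11), (58, 12), (59, 13), (62, 14), (63, 15), (66, 16), (70, 17), (71, 18), (72, 19), (73, 20), (74, 21), (75, 22), (76, 23), (77, 24), (78, 25), (79, 26), (80, 27), (81, 28), (82, 29), (83, 30), (84, 31), (85, 32), (86, 33), (87, 34), (88, 35), (89, 36), (90, 37), (91, 38), (92, 39), (93, 40), (94, 41), (95, 42), (96, 43), (97, 44), (98, 45), (99, 46), (100, 47), (101, 48), (102, 49), (103, 50), (104, 51), (105, 52), (106, 53), (107, 54),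 (108, 55), (109, 56), (110, 57), (111, 58), (112, 59), (113, 60), (114, 61), (115, 62), (116, 63), (117, 64), (118, 65), (119, 66), (120, 67), (121, 68), (122, 69), (123, 70), (124, 71), (125, 72), (126, 73), (127, 74), (128, 75), (129, 76), (130, 77), (131, 78), (132, 79)]

def e7V_y3 : List SV := [[(0, 1), (7, 1), (40, 1)], [(0, 1), (5, 1), (7, 1), (69, 1)], [(0, 1), (5, 1), (69, 1)], [(12, 1), (13, 1)], [(16, 1), (17, 1)], [(19, 1), (20, 1)], [(21, 1), (22, 1)], [(8, 1), (23, 1)], [(25, 1), (26, 1)], [(27, 1), (28, 1)], [(9, 1), (29, 1)], [(30, 1), (31, 1)], [(10, 1), (32, 1)], [(11, 1), (33, 1)], [(34, 1), (35, 1)], [(14, 1), (36, 1)], [(15, 1), (37, 1)], [(18, 1), (38, 1)], [(24, 1), (39, 1)], [(41, 1), (42, 1)], [(43, 1), (44, 1)], [(46, 1), (47, 1)], [(50, 1), (51, 1)], [(55, 1), (56, 1)], [(60, 1), (61, 1)], [(64, 1), (65, 1)], [(67, 1), (68, 1)], [(0, 1), (5, 1)], [(42, 1)], [(44, 1)], [(47, 1)],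 [(51, 1)], [(56, 1)], [(61, 1)], [(65, 1)], [(68, 1)], [(0, 1)], [(13, 1)], [(17, 1)], [(20, 1)], [(22, 1)], [(23, 1)], [(26, 1)], [(28, 1)], [(29, 1)], [(31, 1)], [(32, 1)], [(33, 1)], [(35, 1)], [(36, 1)], [(37, 1)], [(38, 1)], [(39, 1)]]

def e7PV_y3 : List (ℕ × ℕ) := [(1, 0), (2, 1), (6, 2), (13, 3), (17, 4), (20, 5), (22, 6), (23, 7), (26, 8), (28, 9), (29, 10), (31, 11), (32, 12), (33, 13), (35, 14), (36, 15), (37, 16), (38, 17), (39, 18), (42, 19), (44, 20), (47, 21), (51, 22), (56, 23), (61, 24), (65, 25), (68, 26), (70, 27), (72, 28), (75, 29), (79, 30), (84, 31), (89, 32), (93, 33), (96, 34), (98, 35), (99, 36), (105, 37), (109, 38), (112, 39), (114, 40), (115, 41), (118, 42), (120, 43), (121, 44), (123, 45), (124, 46), (125, 47), (127, 48), (128, 49), (129, 50), (130, 51), (131, 52)]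

theorem e7K_y3_bdd : chkBdd (fdE7.l + fdE7.n) (smOf7 e7K_y3) = true := by decide +kernel
theorem e7PK_y3_piv : chkPiv (fdE7.l + fdE7.n) e7PK_y3 = true := by decide +kernel
theorem e7K_y3_zero : chkZero 2 (fdE7.l + fdE7.n) (nSM fdE7 [125, 92, 63] (smOf7 e7K_y3)) = true := by decide +kernel
theorem e7K_y3_id : chkId 2 (smOf7 e7K_y3) e7PK_y3 = true := by decide +kernel
theorem e7V_y3_bdd : chkBdd (fdE7.l + fdE7.n) (smOf7 e7V_y3) = true := by decide +kernel
theorem e7PV_y3_piv : chkPiv (fdE7.l + fdE7.n) e7PV_y3 = true := by decide +kernel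
theorem e7V_y3_id : chkId 2 (nSM fdE7 [125, 92, 63] (smOf7 e7V_y3)) e7PV_y3 = true := by decide +kernel

section
variable {F : Type*} [Field F] [CharP F 2]

theorem e7_rank_y3_le : (([125, 92, 63].map fun r => chevE7.x F r 1).prod - 1).rank + 80 ≤ 133 :=
  rank_word_le 2 cert12_E7.c6.c2 [125, 92, 63] (by decide) (smOf7 e7K_y3) e7PK_y3 e7K_y3_bdd e7PK_y3_piv
    e7K_y3_zero e7K_y3_id

theorem e7_le_rank_y3 : 53 ≤ (([125, 92, 63].map fun r => chevE7.x F r 1).prod - 1).rank :=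
  le_rank_word 2 cert12_E7.c6.c2 [125, 92, 63] (by decide) (smOf7 e7V_y3) e7PV_y3 e7V_y3_bdd e7PV_y3_piv
    e7V_y3_id

end

def e7K_y4 : List SV := [[(1, 1)], [(2, 1)], [(4, 1)], [(6, 1)], [(40, 1)], [(42, 1), (43, 1)], [(44, 1)], [(45, 1)], [(47, 1)], [(49, 1)], [(51, 1)], [(53, 1)], [(54, 1)], [(56, 1)], [(58, 1)], [(59, 1)], [(61, 1)], [(63, 1)], [(65, 1), (67, 1)], [(68, 1)], [(70, 1)], [(73, 1)], [(72, 1), (74, 1)], [(75, 1)], [(77, 1)], [(79, 1)], [(80, 1)], [(82, 1)], [(84, 1)], [(85, 1)], [(87, 1)], [(89, 1)], [(91, 1)], [(93, 1)], [(94, 1)], [(96, 1), (97, 1)], [(98, 1)], [(99, 1)], [(100, 1)], [(101, 1)], [(11, 1), (102, 1)], [(103, 1)], [(13, 1), (104, 1)], [(105, 1)], [(15, 1), (106, 1)], [(107, 1)], [(17, 1), (108, 1)], [(109, 1)], [(110, 1)], [(20, 1), (21, 1), (22, 1), (111, 1)], [(22, 1), (112, 1)], [(22, 1), (113, 1)], [(114, 1)], [(115, 1)], [(116, 1)], [(26, 1), (27, 1), (28, 1), (117,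 1)], [(28, 1), (118, 1)], [(28, 1), (119, 1)], [(120, 1)], [(121, 1)], [(31, 1), (122, 1)], [(123, 1)], [(33, 1), (124, 1)], [(125, 1)], [(35, 1), (126, 1)], [(127, 1)], [(37, 1), (128, 1)], [(129, 1)], [(130, 1)], [(131, 1)], [(132, 1)]]

def e7PK_y4 : List (ℕ × ℕ) := [(1, 0), (2, 1), (4, 2), (6, 3), (40, 4), (43, 5), (44, 6), (45, 7), (47, 8), (49, 9), (51, 10), (53, 11), (54, 12), (56, 13), (58, 14), (59, 15), (61, 16), (63, 17), (67, 18), (68, 19), (70, 20), (73, 21), (74, 22), (75, 23), (77, 24), (79, 25), (80, 26), (82, 27), (84, 28), (85, 29), (87, 30), (89, 31), (91, 32), (93, 33), (94, 34), (97, 35), (98, 36), (99, 37), (100, 38), (101, 39), (102, 40), (103, 41), (104, 42), (105, 43), (106, 44), (107, 45), (108, 46), (109, 47), (110, 48), (111, 49), (112, 50), (113, 51), (114, 52), (115, 53), (116, 54), (117, 55), (118, 56), (119, 57), (120, 58), (121, 59), (122, 60), (123, 61), (124, 62), (125, 63),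 (126, 64), (127, 65), (128, 66), (129, 67), (130, 68), (131, 69), (132, 70)]

def e7V_y4 : List SV := [[(0, 1), (5, 1), (7, 1), (66, 1), (69, 1)], [(3, 1), (66, 1)], [(3, 1), (5, 1), (69, 1)], [(10, 1), (11, 1)], [(12, 1), (13, 1)], [(14, 1), (15, 1)], [(16, 1), (17, 1)], [(19, 1), (20, 1)], [(21, 1), (22, 1)], [(25, 1), (26, 1)], [(27, 1), (28, 1)], [(30, 1), (31, 1)], [(32, 1), (33, 1)], [(34, 1), (35, 1)], [(36, 1), (37, 1)], [(41, 1), (42, 1)], [(42, 1)], [(46, 1)], [(48, 1)], [(50, 1)], [(52, 1)], [(55, 1)], [(57, 1)], [(60, 1)], [(62, 1)], [(64, 1), (65, 1)], [(65, 1)], [(3, 1), (5, 1)], [(71, 1), (72, 1)], [(3, 1)], [(72, 1)], [(76, 1)], [(78, 1)], [(81, 1)], [(83, 1)], [(86, 1)], [(88, 1)], [(90, 1)], [(92, 1)], [(95, 1), (96, 1)], [(96, 1)], [(8, 1)], [(9, 1)], [(11, 1)], [(13, 1)], [(15, 1)], [(17, 1)], [(18, 1)], [(20, 1), (21, 1)], [(22, 1)], [(23, 1)], [(24, 1)], [(26, 1), (27, 1)], [(28, 1)],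 [(29, 1)], [(31, 1)], [(33, 1)], [(35, 1)], [(37, 1)], [(38, 1)], [(39, 1)], [(0, 1)]]

def e7PV_y4 : List (ℕ × ℕ) := [(2, 0), (4, 1), (6, 2), (11, 3), (13, 4), (15, 5), (17, 6), (20, 7), (22, 8), (26, 9), (28, 10), (31, 11), (33, 12), (35, 13), (37, 14), (42, 15), (44, 16), (47, 17), (49, 18), (51, 19), (53, 20), (56, 21), (58, 22), (61, 23), (63, 24), (65, 25), (68, 26), (70, 27), (72, 28), (73, 29), (75, 30), (77, 31), (79, 32), (82, 33), (84, 34), (87, 35), (89, 36), (91, 37), (93, 38), (96, 39), (98, 40), (100, 41), (101, 42), (103, 43), (105, 44), (107, 45), (109, 46), (110, 47), (112, 48), (114, 49), (115, 50), (116, 51), (118, 52), (120, 53), (121, 54), (123, 55), (125, 56), (127, 57), (129, 58), (130, 59), (131, 60), (132, 61)]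

theorem e7K_y4_bdd : chkBdd (fdE7.l + fdE7.n) (smOf7 e7K_y4) = true := by decide +kernel
theorem e7PK_y4_piv : chkPiv (fdE7.l + fdE7.n) e7PK_y4 = true := by decide +kernel
theorem e7K_y4_zero : chkZero 2 (fdE7.l + fdE7.n) (nSM fdE7 [125, 66, 63] (smOf7 e7K_y4)) = true := by decide +kernel
theorem e7K_y4_id : chkId 2 (smOf7 e7K_y4) e7PK_y4 = true := by decide +kernel
theorem e7V_y4_bdd : chkBdd (fdE7.l + fdE7.n) (smOf7 e7V_y4) = true := by decide +kernel
theorem e7PV_y4_piv : chkPiv (fdE7.l + fdE7.n) e7PV_y4 = true := by decide +kernel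
theorem e7V_y4_id : chkId 2 (nSM fdE7 [125, 66, 63] (smOf7 e7V_y4)) e7PV_y4 = true := by decide +kernel

section
variable {F : Type*} [Field F] [CharP F 2]

theorem e7_rank_y4_le : (([125, 66, 63].map fun r => chevE7.x F r 1).prod - 1).rank + 71 ≤ 133 :=
  rank_word_le 2 cert12_E7.c6.c2 [125, 66, 63] (by decide) (smOf7 e7K_y4) e7PK_y4 e7K_y4_bdd e7PK_y4_piv
    e7K_y4_zero e7K_y4_id

theorem e7_le_rank_y4 : 62 ≤ (([125, 66, 63].map fun r => chevE7.x F r 1).prod - 1).rank :=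
  le_rank_word 2 cert12_E7.c6.c2 [125, 66, 63] (by decide) (smOf7 e7V_y4) e7PV_y4 e7V_y4_bdd e7PV_y4_piv
    e7V_y4_id

end

def e7K_y5 : List SV := [[(1, 1)], [(2, 1)], [(4, 1)], [(6, 1)], [(40, 1)], [(42, 1), (43, 1)], [(44, 1)], [(45, 1)], [(47, 1), (55, 1)], [(56, 1)], [(49, 1), (57, 1)], [(58, 1)], [(59, 1)], [(51, 1), (60, 1)], [(61, 1)], [(53, 1), (62, 1)], [(63, 1)], [(65, 1), (67, 1)], [(68, 1)], [(70, 1)], [(73, 1)], [(72, 1), (74, 1)], [(75, 1)], [(80, 1)], [(85, 1)], [(77, 1), (86, 1)], [(87, 1)], [(79, 1), (88, 1)], [(89, 1)], [(82, 1), (90, 1)], [(91, 1)], [(84, 1), (92, 1)], [(93, 1)], [(94, 1)], [(96, 1), (97, 1)], [(98, 1)], [(99, 1)], [(100, 1)], [(101, 1)], [(11, 1), (14, 1), (15, 1), (102, 1)], [(15, 1), (103, 1)], [(13, 1), (16, 1), (17, 1), (104, 1)], [(17, 1), (105, 1)], [(15, 1), (106, 1)], [(107, 1)], [(17, 1), (108, 1)], [(109, 1)], [(110, 1)], [(20, 1), (21, 1), (22, 1), (111, 1)],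 [(22, 1), (112, 1)], [(22, 1), (113, 1)], [(114, 1)], [(115, 1)], [(116, 1)], [(26, 1), (27, 1), (28, 1), (117, 1)], [(28, 1), (118, 1)], [(28, 1), (119, 1)], [(120, 1)], [(121, 1)], [(31, 1), (34, 1), (35, 1), (122, 1)], [(35, 1), (123, 1)], [(33, 1), (36, 1), (37, 1), (124, 1)], [(37, 1), (125, 1)], [(35, 1), (126, 1)], [(127, 1)], [(37, 1), (128, 1)], [(129, 1)], [(130, 1)], [(131, 1)], [(132, 1)]]

def e7PK_y5 : List (ℕ × ℕ) := [(1, 0), (2, 1), (4, 2), (6, 3), (40, 4), (43, 5), (44, 6), (45, 7), (55, 8), (56, 9), (57, 10), (58, 11), (59, 12), (60, 13), (61, 14), (62, 15), (63, 16), (67, 17), (68, 18), (70, 19), (73, 20), (74, 21), (75, 22), (80, 23), (85, 24), (86, 25), (87, 26), (88, 27), (89, 28), (90, 29), (91, 30), (92, 31), (93, 32), (94, 33), (97, 34), (98, 35), (99, 36), (100, 37), (101, 38), (102, 39), (103, 40), (104, 41), (105, 42), (106, 43), (107, 44), (108, 45), (109, 46), (110, 47), (111,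 48), (112, 49), (113, 50), (114, 51), (115, 52), (116, 53), (117, 54), (118, 55), (119, 56), (120, 57), (121, 58), (122, 59), (123, 60), (124, 61), (125, 62), (126, 63), (127, 64), (128, 65), (129, 66), (130, 67), (131, 68), (132, 69)]

def e7V_y5 : List SV := [[(54, 1)], [(0, 1), (5, 1), (7, 1), (66, 1), (69, 1)], [(3, 1), (66, 1)], [(3, 1), (5, 1), (69, 1)], [(10, 1), (11, 1)], [(12, 1), (13, 1)], [(14, 1), (15, 1)], [(16, 1), (17, 1)], [(19, 1), (20, 1)], [(21, 1), (22, 1)], [(25, 1), (26, 1)], [(27, 1), (28, 1)], [(30, 1), (31, 1)], [(32, 1), (33, 1)], [(34, 1), (35, 1)], [(36, 1), (37, 1)], [(41, 1), (42, 1)], [(42, 1)], [(46, 1), (47, 1)], [(48, 1), (49, 1)], [(50, 1), (51, 1)], [(52, 1), (53, 1)], [(47, 1)], [(49, 1)], [(51, 1)], [(53, 1)], [(64, 1), (65, 1)], [(65, 1)], [(3, 1), (5, 1)], [(71, 1), (72, 1)], [(3, 1)], [(72, 1)], [(76, 1), (77, 1)], [(78, 1), (79, 1)], [(81, 1), (82, 1)], [(83, 1), (84,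 1)], [(77, 1)], [(79, 1)], [(82, 1)], [(84, 1)], [(95, 1), (96, 1)], [(96, 1)], [(8, 1)], [(9, 1)], [(11, 1), (14, 1)], [(13, 1), (16, 1)], [(15, 1)], [(17, 1)], [(18, 1)], [(20, 1), (21, 1)], [(22, 1)], [(23, 1)], [(24, 1)], [(26, 1), (27, 1)], [(28, 1)], [(29, 1)], [(31, 1), (34, 1)], [(33, 1), (36, 1)], [(35, 1)], [(37, 1)], [(38, 1)], [(39, 1)], [(0, 1)]]

def e7PV_y5 : List (ℕ × ℕ) := [(1, 0), (2, 1), (4, 2), (6, 3), (11, 4), (13, 5), (15, 6), (17, 7), (20, 8), (22, 9), (26, 10), (28, 11), (31, 12), (33, 13), (35, 14), (37, 15), (42, 16), (44, 17), (47, 18), (49, 19), (51, 20), (53, 21), (56, 22), (58, 23), (61, 24), (63, 25), (65, 26), (68, 27), (70, 28), (72, 29), (73, 30), (75, 31), (77, 32), (79, 33), (82, 34), (84, 35), (87, 36), (89, 37), (91, 38), (93, 39), (96, 40), (98, 41), (100, 42), (101, 43), (103, 44), (105, 45), (107, 46), (109, 47), (110, 48), (112, 49), (114, 50), (115, 51), (116, 52),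 (118, 53), (120, 54), (121, 55), (123, 56), (125, 57), (127, 58), (129, 59), (130, 60), (131, 61), (132, 62)]

theorem e7K_y5_bdd : chkBdd (fdE7.l + fdE7.n) (smOf7 e7K_y5) = true := by decide +kernel
theorem e7PK_y5_piv : chkPiv (fdE7.l + fdE7.n) e7PK_y5 = true := by decide +kernel
theorem e7K_y5_zero : chkZero 2 (fdE7.l + fdE7.n) (nSM fdE7 [125, 78, 66, 63] (smOf7 e7K_y5)) = true := by decide +kernel
theorem e7K_y5_id : chkId 2 (smOf7 e7K_y5) e7PK_y5 = true := by decide +kernel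
theorem e7V_y5_bdd : chkBdd (fdE7.l + fdE7.n) (smOf7 e7V_y5) = true := by decide +kernel
theorem e7PV_y5_piv : chkPiv (fdE7.l + fdE7.n) e7PV_y5 = true := by decide +kernel
theorem e7V_y5_id : chkId 2 (nSM fdE7 [125, 78, 66, 63] (smOf7 e7V_y5)) e7PV_y5 = true := by decide +kernel

section
variable {F : Type*} [Field F] [CharP F 2]

theorem e7_rank_y5_le : (([125, 78, 66, 63].map fun r => chevE7.x F r 1).prod - 1).rank + 70 ≤ 133 :=
  rank_word_le 2 cert12_E7.c6.c2 [125, 78, 66, 63] (by decide) (smOf7 e7K_y5) e7PK_y5 e7K_y5_bdd e7PK_y5_piv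
    e7K_y5_zero e7K_y5_id

theorem e7_le_rank_y5 : 63 ≤ (([125, 78, 66, 63].map fun r => chevE7.x F r 1).prod - 1).rank :=
  le_rank_word 2 cert12_E7.c6.c2 [125, 78, 66, 63] (by decide) (smOf7 e7V_y5) e7PV_y5 e7V_y5_bdd e7PV_y5_piv
    e7V_y5_id

end

end Cfsg.Agent.Lib.H27.E7Inv
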