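import Mathlib
import Cfsg.Prelude.Def_LieChev
import Cfsg.Agent.Lib.H6.InvWord
import Cfsg.Agent.Lib.H27.BitChev
import Cfsg.Agent.Lib.H27.E7InvBits
import Cfsg.Agent.Lib.H6.InvRank
import Cfsg.Agent.Lib.H29.ChevCert13
import Cfsg.Agent.Lib.H27.E7InvRank

/-!
# `E₇` in characteristic two: five involutions, their ranks, and the fusions of products of orthogonal root elements

* `e7Y F i` (`i : Fin 5`) are the products of root elements `x_r(1)` over the orthogonal root sets
  `{125}`, `{125, 63}`, `{125, 92, 63}`, `{125, 66, 63}`, `{125, 78, 66, 63}` (types `A₁`, `2A₁`, `(3A₁)''`, `(3A₁)'`,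
  `(4A₁)''`); they are involutions of the group, `rank (y - 1) = 34, 52, 53, 62, 63`, hence pairwise non-conjugate;
* the products over the standard orthogonal sets of the four other types `(4A₁)'`, `5A₁`, `6A₁`, `7A₁` are conjugate
  to `e7Y F 3`, `e7Y F 4`, `e7Y F 4`, `e7Y F 4` by explicit words in root elements (found in a model over `GF(2)`).
-/

set_option autoImplicit false
set_option linter.unusedSectionVars false
set_option linter.unusedSimpArgs false
set_option linter.unusedVariables false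

namespace Cfsg.Agent.Lib.H27.E7Inv

open Cfsg.Lie Matrix Cfsg.Agent.Lib.H29.Chev Cfsg.Agent.Lib.H6.Inv Cfsg.Agent.Lib.H27.BM

/-- the root sets of the five representatives -/
def e7L : Fin 5 → List ℕ := ![[125], [125, 63], [125, 92, 63], [125, 66, 63], [125, 78, 66, 63]]

/-- the ranks of `y - 1` for the five representatives -/
def e7R : Fin 5 → ℕ := ![34, 52, 53, 62, 63]

theorem e7R_injective : Function.Injective e7R := by decide

theorem e7L_lt (i : Fin 5) : ∀ r ∈ e7L i, r < fdE7.n := by
  fin_cases i <;> decide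

variable (F : Type*) [Field F]

/-- the five representatives -/
noncomputable def e7Y (i : Fin 5) : GL chevE7.Idx F := wordG cert12_E7.c6.c2 F (e7L i)

theorem e7Y_mem (i : Fin 5) : e7Y F i ∈ chevE7.group F := wordG_mem _ _

theorem wordG_nil : wordG cert12_E7.c6.c2 F [] = 1 := by simp [wordG]

variable [CharP F 2]

/-- identities between words in the `x_r(1)` in characteristic two, checked on the bit matrices -/
theorem e7_word_eq (A B : List ℕ) (hA : ∀ r ∈ A, r ∈ e7Roots) (hB : ∀ r ∈ B, r ∈ e7Roots)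
    (hc : wlit e7XL (fdE7.l + fdE7.n) A = wlit e7XL (fdE7.l + fdE7.n) B) :
    wordG cert12_E7.c6.c2 F A = wordG cert12_E7.c6.c2 F B := by
  apply Units.ext
  unfold wordG
  rw [word_bits cert12_E7.c6.c2 A (fun r hr => e7Roots_lt r (hA r hr)),
    word_bits cert12_E7.c6.c2 B (fun r hr => e7Roots_lt r (hB r hr)), e7_wbits_eq A hA, e7_wbits_eq B hB, hc]

theorem e7L_mem (i : Fin 5) : ∀ r ∈ e7L i, r ∈ e7Roots := by
  fin_cases i <;> decide

theorem e7_chk_sq : ∀ i : Fin 5,
    wlit e7XL (fdE7.l + fdE7.n) (e7L i ++ e7L i) = wlit e7XL (fdE7.l + fdE7.n) [] := by decide +kernel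

theorem e7Y_sq (i : Fin 5) : e7Y F i * e7Y F i = 1 := by
  unfold e7Y
  rw [← wordG_append, ← wordG_nil F]
  refine e7_word_eq F _ _ ?_ (by simp) (e7_chk_sq i)
  intro r hr
  rcases List.mem_append.mp hr with h | h <;> exact e7L_mem i r h

theorem e7Y_val (i : Fin 5) :
    ((e7Y F i : GL chevE7.Idx F) : Matrix chevE7.Idx chevE7.Idx F) = ((e7L i).map fun r => chevE7.x F r 1).prod :=
  wordG_val _ _

theorem e7Y_rank (i : Fin 5) :
    (((e7Y F i : GL chevE7.Idx F) : Matrix chevE7.Idx chevE7.Idx F) - 1).rank = e7R i := by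
  rw [e7Y_val]
  fin_cases i
  · have h1 := e7_rank_y1_le (F := F)
    have h2 := e7_le_rank_y1 (F := F)
    simp only [e7L, e7R] at *
    show (([125].map fun r => chevE7.x F r 1).prod - 1).rank = 34
    omega
  · have h1 := e7_rank_y2_le (F := F)
    have h2 := e7_le_rank_y2 (F := F)
    show (([125, 63].map fun r => chevE7.x F r 1).prod - 1).rank = 52
    omega
  · have h1 := e7_rank_y3_le (F := F)
    have h2 := e7_le_rank_y3 (F := F)
    show (([125, 92, 63].map fun r => chevE7.x F r 1).prod - 1).rank = 53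
    omega
  · have h1 := e7_rank_y4_le (F := F)
    have h2 := e7_le_rank_y4 (F := F)
    show (([125, 66, 63].map fun r => chevE7.x F r 1).prod - 1).rank = 62
    omega
  · have h1 := e7_rank_y5_le (F := F)
    have h2 := e7_le_rank_y5 (F := F)
    show (([125, 78, 66, 63].map fun r => chevE7.x F r 1).prod - 1).rank = 63
    omega

theorem e7Y_ne_one (i : Fin 5) : e7Y F i ≠ 1 := by
  intro h
  have := e7Y_rank F i
  rw [h, Units.val_one, sub_self, Matrix.rank_zero] at this
  revert this
  fin_cases i <;> decide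

theorem e7Y_orderOf (i : Fin 5) : orderOf (e7Y F i) = 2 := by
  apply orderOf_eq_prime
  · rw [sq]; exact e7Y_sq F i
  · exact e7Y_ne_one F i

/-- the five representatives are pairwise non-conjugate, even in the general linear group -/
theorem e7Y_not_conj (i j : Fin 5) (h : GL chevE7.Idx F) (hc : h * e7Y F i * h⁻¹ = e7Y F j) : i = j := by
  apply e7R_injective
  rw [← e7Y_rank F i, ← e7Y_rank F j, ← hc, rank_sub_one_conj]

/-! ### fusions -/

/-- a word identity `g · a = b · g` gives the conjugacy of the words `a` and `b` in the `x_r(1)` -/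
theorem e7_conj_of_chk (g A B : List ℕ)
    (hg : ∀ r ∈ g, r ∈ e7Roots) (hA : ∀ r ∈ A, r ∈ e7Roots) (hB : ∀ r ∈ B, r ∈ e7Roots)
    (hc : wlit e7XL (fdE7.l + fdE7.n) (g ++ A) = wlit e7XL (fdE7.l + fdE7.n) (B ++ g)) :
    ∃ h ∈ chevE7.group F, h * wordG cert12_E7.c6.c2 F A * h⁻¹ = wordG cert12_E7.c6.c2 F B := by
  have h := e7_word_eq F (g ++ A) (B ++ g)
    (by
      intro r hr
      rcases List.mem_append.mp hr with hr | hr
      · exact hg r hr
      · exact hA r hr)
    (by
      intro r hr
      rcases List.mem_append.mp hr with hr | hr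
      · exact hB r hr
      · exact hg r hr) hc
  rw [wordG_append, wordG_append] at h
  refine ⟨wordG cert12_E7.c6.c2 F g, wordG_mem _ _, ?_⟩
  rw [h]
  group

theorem e7_fus_4p : ∃ h ∈ chevE7.group F, h * wordG cert12_E7.c6.c2 F [125, 73, 66, 63] * h⁻¹ = e7Y F 3 :=
  e7_conj_of_chk F [110, 21, 20, 19] [125, 73, 66, 63] [125, 66, 63]
    (by decide) (by decide) (by decide) (by decide +kernel)

theorem e7_fus_5 : ∃ h ∈ chevE7.group F, h * wordG cert12_E7.c6.c2 F [125, 78, 73, 66, 63] * h⁻¹ = e7Y F 4 :=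
  e7_conj_of_chk F [110, 21, 20, 19] [125, 78, 73, 66, 63] [125, 78, 66, 63]
    (by decide) (by decide) (by decide) (by decide +kernel)

theorem e7_fus_6 : ∃ h ∈ chevE7.group F, h * wordG cert12_E7.c6.c2 F [125, 87, 78, 73, 66, 63] * h⁻¹ = e7Y F 4 :=
  e7_conj_of_chk F [110, 21, 20, 19, 115, 28, 27, 24] [125, 87, 78, 73, 66, 63] [125, 78, 66, 63]
    (by decide) (by decide) (by decide) (by decide +kernel)

theorem e7_fus_7 :
    ∃ h ∈ chevE7.group F, h * wordG cert12_E7.c6.c2 F [125, 92, 87, 78, 73, 66, 63] * h⁻¹ = e7Y F 4 :=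
  e7_conj_of_chk F [110, 21, 20, 19, 115, 28, 27, 24, 108, 32, 31, 22] [125, 92, 87, 78, 73, 66, 63]
    [125, 78, 66, 63] (by decide) (by decide) (by decide) (by decide +kernel)

end Cfsg.Agent.Lib.H27.E7Inv
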