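import Mathlib
import Cfsg.Prelude.Def_LieChev
import Cfsg.Agent.Lib.H12.InvCell5
import Cfsg.Agent.Lib.H5.ICHCONJ
import Cfsg.Agent.Lib.H6.InvWord

/-!
# Involutions of `N` in a Chevalley group of characteristic two: the case analysis over the subsets `J`, from a table

Generic over helper29's `Cert12` tower, on top of the pieces of helper12's S2174 farm-out: `mem_diag_of_table`,
`wordN_refl_conj` (helper12, `Lib/H12/InvCell5`) and `conj_of_mul_inv_mem` (helper5). For every subset `J` of the fundamental roots (bit mask `k < 2 ^ l`) the table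
gives either

* (non-admissible `J`) a word `w` of `w₀ w_{0,J}` and an index `bad ∈ J` with `w p_bad ≠ p_bad`, or
* (admissible `J`) an orthogonal set of roots `S_J`, each root given as `u (p_i)`, the product of the reflections being
  `w₀ w_{0,J}`, a word `u` moving `S_J` onto the standard orthogonal set number `tau`.

All conditions are decidable (`chk`). The conclusion: an involution `m ∈ N` satisfying the "maximal cell" conditions is
conjugate in the group to the product of the root elements `x_r(1)`, `r` in one of the standard orthogonal sets.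
-/

set_option autoImplicit false
set_option linter.unusedSectionVars false
set_option linter.unusedSimpArgs false
set_option linter.unusedVariables false

namespace Cfsg.Agent.Lib.H27.InvTab

open Cfsg Cfsg.Lie Matrix Cfsg.Agent.Lib.H29.Chev Cfsg.Agent.Lib.H12.F4V Cfsg.Agent.Lib.H6.Inv
open Cfsg.Agent.Lib.H5.IC Cfsg.Agent.Lib.H12.InvCell

variable {D : ChevalleyDatum} {fd : FD} {fx : FX} {fc : FC} {fz : FZ} {F : Type*} [Field F]

/-- table entry for a subset `J` of the fundamental roots -/
structure JEntry where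
  adm : Bool
  w : List ℕ
  bad : ℕ
  Ws : List (List ℕ × ℕ)
  u : List ℕ
  tau : ℕ

/-- the roots `u (p_i)` of a list of pairs `(u, i)` -/
def rootsOf (fd : FD) (fx : FX) (Ws : List (List ℕ × ℕ)) : List ℕ :=
  Ws.map fun p => fd.wordP fx p.1 (fd.simples.getD p.2 0)

/-- the word of the entry -/
def tabWord (e : JEntry) : List ℕ := bif e.adm then e.Ws.flatMap (fun p => reflWord p.1 p.2) else e.w

/-- all letters below `k` -/
def isWdB (k : ℕ) (w : List ℕ) : Bool := w.all fun i => Nat.blt i k

theorem isWd_of_isWdB {k : ℕ} {w : List ℕ} (h : isWdB k w = true) : IsWd k w := by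
  intro i hi
  simp only [isWdB, List.all_eq_true] at h
  have := h i hi
  simpa [Nat.blt_eq] using this

/-- the table condition of `mem_diag_of_table` -/
def chkTab (fd : FD) (fx : FX) (jb : ℕ → Bool) (w : List ℕ) : Bool :=
  (List.range fd.l).all fun i =>
    ((List.range fd.l).any fun k => jb k && Nat.beq (fd.wordP fx w.reverse (fd.simples.getD i 0)) (fd.simples.getD k 0)) ||
    (Nat.blt (fd.wordP fx w.reverse (fd.simples.getD i 0)) (fd.n / 2) &&
      (List.range fd.l).any fun j => !jb j &&
        !intBeq (fd.rcZ fx (fd.n - 1 - fd.wordP fx w.reverse (fd.simples.getD i 0)) j) 0)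

/-- two roots whose root subgroups (and those of the opposite roots) commute, by the commutator table -/
def strongComm (fd : FD) (r r' : ℕ) : Bool :=
  Nat.blt r fd.n && Nat.blt r' fd.n && !Nat.beq r r' && !Nat.beq r' (fd.n - 1 - r) &&
  (fd.commT r r').isEmpty && (fd.commT r (fd.n - 1 - r')).isEmpty &&
  (fd.commT (fd.n - 1 - r) r').isEmpty && (fd.commT (fd.n - 1 - r) (fd.n - 1 - r')).isEmpty

/-- pairwise `strongComm` -/
def pairwiseB (f : ℕ → ℕ → Bool) : List ℕ → Bool
  | [] => true
  | r :: L => L.all (f r) && pairwiseB f L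

/-- equality of lists of natural numbers -/
def listBeq : List ℕ → List ℕ → Bool
  | [], [] => true
  | a :: L, b :: L' => Nat.beq a b && listBeq L L'
  | _, _ => false

theorem eq_of_listBeq : ∀ {L L' : List ℕ}, listBeq L L' = true → L = L'
  | [], [], _ => rfl
  | a :: L, b :: L', h => by
    simp only [listBeq, Bool.and_eq_true] at h
    rw [Nat.eq_of_beq_eq_true h.1, eq_of_listBeq h.2]
  | [], _ :: _, h => by simp [listBeq] at h
  | _ :: _, [], h => by simp [listBeq] at h

/-- the check of a table entry for the subset with bit mask `k` -/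
def chk (fd : FD) (fx : FX) (std : List (List ℕ)) (e : JEntry) (k : ℕ) : Bool :=
  isWdB fd.l (tabWord e) && chkTab fd fx (fun i => k.testBit i) (tabWord e) &&
  (bif e.adm then
    e.Ws.all (fun p => isWdB fd.l p.1 && Nat.blt p.2 fd.l) && isWdB fd.l e.u &&
    pairwiseB (strongComm fd) (rootsOf fd fx e.Ws) &&
    listBeq ((rootsOf fd fx e.Ws).map (fd.wordP fx e.u)) (std.getD e.tau [])
  else
    k.testBit e.bad && Nat.blt e.bad fd.l &&
    !Nat.beq (fd.wordP fx (tabWord e) (fd.simples.getD e.bad 0)) (fd.simples.getD e.bad 0))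

section generic

variable (C : Cert12 D fd fx fc fz)
include C

theorem chkTab_spec (jb : ℕ → Bool) (w : List ℕ) (h : chkTab fd fx jb w = true) :
    ∀ i < fd.l, (∃ k < fd.l, jb k = true ∧ fd.wordP fx w.reverse (fd.simples.getD i 0) = fd.simples.getD k 0) ∨
      (fd.wordP fx w.reverse (fd.simples.getD i 0) < fd.n / 2 ∧
        ∃ j < fd.l, jb j = false ∧ fd.rcZ fx (fd.n - 1 - fd.wordP fx w.reverse (fd.simples.getD i 0)) j ≠ 0) := by
  intro i hi
  simp only [chkTab, List.all_eq_true, List.mem_range, Bool.or_eq_true, List.any_eq_true, Bool.and_eq_true,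
    Bool.not_eq_true'] at h
  rcases h i hi with ⟨k, hk, hjb, hbeq⟩ | ⟨hlt, j, hj, hjb, hne⟩
  · exact Or.inl ⟨k, hk, hjb, Nat.eq_of_beq_eq_true hbeq⟩
  · refine Or.inr ⟨by simpa [Nat.blt_eq] using hlt, j, hj, hjb, ?_⟩
    intro h0
    rw [← Bool.not_eq_true, intBeq_iff] at hne
    exact hne h0

theorem strongComm_spec (r r' : ℕ) (h : strongComm fd r r' = true) (t u : F) :
    Commute (C.c6.c2.xA r t) (C.c6.c2.xA r' u) ∧ Commute (C.c6.c2.xA r t) (C.c6.c2.xA (fd.n - 1 - r') u) ∧
      Commute (C.c6.c2.xA (fd.n - 1 - r) t) (C.c6.c2.xA r' u) ∧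
      Commute (C.c6.c2.xA (fd.n - 1 - r) t) (C.c6.c2.xA (fd.n - 1 - r') u) := by
  simp only [strongComm, Bool.and_eq_true, Bool.not_eq_true', List.isEmpty_iff] at h
  obtain ⟨⟨⟨⟨⟨⟨⟨hr, hr'⟩, hne⟩, hne'⟩, c1⟩, c2⟩, c3⟩, c4⟩ := h
  have hr : r < fd.n := by simpa [Nat.blt_eq] using hr
  have hr' : r' < fd.n := by simpa [Nat.blt_eq] using hr'
  have hne : r ≠ r' := by
    intro e; rw [← Bool.not_eq_true] at hne; exact hne (by rw [e]; exact Nat.beq_refl r')
  have hne' : r' ≠ fd.n - 1 - r := by
    intro e; rw [← Bool.not_eq_true] at hne'; exact hne' (by rw [← e]; exact Nat.beq_refl r')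
  have key : ∀ a b : ℕ, a < fd.n → b < fd.n → b ≠ a → b ≠ fd.n - 1 - a → fd.commT a b = [] → ∀ t u : F,
      Commute (C.c6.c2.xA a t) (C.c6.c2.xA b u) := by
    intro a b ha hb h1 h2 hct t u
    have := C.c6.cfg (F := F) a b ha hb h1 h2 t u
    rw [hct] at this
    unfold Cert2.ctG at this
    have e : C.c6.c2.xA b u * C.c6.c2.xA a t = C.c6.c2.xA a t * C.c6.c2.xA b u := by simpa using this
    exact e.symm
  refine ⟨key r r' hr hr' (Ne.symm hne) hne' c1 t u, key r (fd.n - 1 - r') hr (by omega) (by omega) (by omega) c2 t u,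
    key (fd.n - 1 - r) r' (by omega) hr' (by omega) (by omega) c3 t u,
    key (fd.n - 1 - r) (fd.n - 1 - r') (by omega) (by omega) (by omega) (by omega) c4 t u⟩

theorem pairwiseB_spec (f : ℕ → ℕ → Bool) (L : List ℕ) (h : pairwiseB f L = true) :
    L.Pairwise fun r r' => f r r' = true := by
  induction L with
  | nil => exact List.Pairwise.nil
  | cons r L ih =>
    simp only [pairwiseB, Bool.and_eq_true, List.all_eq_true] at h
    exact List.Pairwise.cons (fun r' hr' => h.1 r' hr') (ih h.2)

/-- a product of pairwise commuting involutions is an involution -/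
theorem prod_sq_of_pairwise {G : Type*} [Group G] (L : List G) (hc : L.Pairwise Commute) (hs : ∀ x ∈ L, x * x = 1) :
    L.prod * L.prod = 1 := by
  induction L with
  | nil => simp
  | cons x L ih =>
    rw [List.pairwise_cons] at hc
    have hx : Commute x L.prod := by
      apply Commute.list_prod_right
      exact hc.1
    rw [List.prod_cons]
    calc x * L.prod * (x * L.prod) = x * (L.prod * x) * L.prod := by group
      _ = x * (x * L.prod) * L.prod := by rw [hx.eq]
      _ = (x * x) * (L.prod * L.prod) := by group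
      _ = 1 := by
        rw [hs x List.mem_cons_self, ih hc.2 (fun y hy => hs y (List.mem_cons_of_mem _ hy)), one_mul]

theorem lp_eq_wordG (L : List ℕ) : Cfsg.Agent.Lib.H12.F4V.lp C (L.map fun r => (r, (1 : F))) = wordG C.c6.c2 F L := by
  unfold Cfsg.Agent.Lib.H12.F4V.lp wordG
  rw [List.map_map]
  rfl

/-- Weyl moves of a product of root elements with parameter one -/
theorem wordN_conj_wordG [CharP F 2] (u : List ℕ) (hu : IsWd fd.l u) (L : List ℕ) (hL : ∀ r ∈ L, r < fd.n) :
    C.wordN F u * wordG C.c6.c2 F L * (C.wordN F u)⁻¹ = wordG C.c6.c2 F (L.map (fd.wordP fx u)) := by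
  induction L with
  | nil => simp [wordG]
  | cons r L ih =>
    have ih' := ih (fun s hs => hL s (List.mem_cons_of_mem _ hs))
    have e1 : wordG C.c6.c2 F (r :: L) = C.c6.c2.xA r 1 * wordG C.c6.c2 F L := by simp [wordG]
    have e2 : wordG C.c6.c2 F ((r :: L).map (fd.wordP fx u)) =
        C.c6.c2.xA (fd.wordP fx u r) 1 * wordG C.c6.c2 F (L.map (fd.wordP fx u)) := by simp [wordG]
    rw [e1, e2, ← ih', ← C.wordN_conj_char2 u hu r (hL r List.mem_cons_self) 1]
    group

end generic

/-- the main theorem: an involution of `N` satisfying the maximal cell conditions is conjugate to the product of the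
root elements of a standard orthogonal set -/
theorem conj_std [Finite F] [CharP F 2] (C : Cert12 D fd fx fc fz)
    (hodd : Odd (Nat.card (D.diagonalSubgroup F))) (std : List (List ℕ)) (tab : ℕ → JEntry)
    (htab : ∀ k < 2 ^ fd.l, chk fd fx std (tab k) k = true)
    (m : GL D.Idx F) (hm : m ∈ D.monomialSubgroup F) (π : ℕ → ℕ) (hπ : C.c6.c2.Perm m π) (hm2 : m * m = 1)
    (hJ : ∀ i < fd.l, π (fd.simples.getD i 0) < fd.n / 2 ∨ π (fd.simples.getD i 0) = fd.simples.getD i 0)
    (hcomb : ∀ r, r < fd.n → fd.n / 2 ≤ r → fd.n / 2 ≤ π r →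
      ∀ j < fd.l, π (fd.simples.getD j 0) < fd.n / 2 → fd.rcZ fx r j = 0) :
    ∃ τ, ∃ h ∈ D.group F, h * m * h⁻¹ = wordG C.c6.c2 F (std.getD τ []) := by
  classical
  -- the bit mask of `J`
  let f : Fin fd.l → Bool := fun i => decide (π (fd.simples.getD i.1 0) = fd.simples.getD i.1 0)
  let k := Nat.ofBits f
  have hk : k < 2 ^ fd.l := Nat.ofBits_lt_two_pow f
  have hbit : ∀ i (hi : i < fd.l), k.testBit i = decide (π (fd.simples.getD i 0) = fd.simples.getD i 0) :=
    fun i hi => Nat.testBit_ofBits_lt f i hi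
  have hc := htab k hk
  set e := tab k with he
  simp only [chk, Bool.and_eq_true] at hc
  obtain ⟨⟨hwd, htb⟩, hrest⟩ := hc
  have hJ' : ∀ i < fd.l, (k.testBit i = true → π (fd.simples.getD i 0) = fd.simples.getD i 0) ∧
      (k.testBit i = false → π (fd.simples.getD i 0) < fd.n / 2) := by
    intro i hi
    rw [hbit i hi]
    constructor
    · intro h; simpa using h
    · intro h
      have hne : π (fd.simples.getD i 0) ≠ fd.simples.getD i 0 := by simpa using h
      rcases hJ i hi with h1 | h1
      · exact h1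
      · exact absurd h1 hne
  obtain ⟨hdiag, hperm⟩ := mem_diag_of_table C m hm π hπ hcomb (tabWord e) (isWd_of_isWdB hwd)
    (fun i => k.testBit i) hJ' (chkTab_spec C _ _ htb)
  cases hadm : e.adm with
  | false =>
    exfalso
    rw [hadm, cond_false] at hrest
    simp only [Bool.and_eq_true, Bool.not_eq_true'] at hrest
    obtain ⟨⟨hb1, hb2⟩, hb3⟩ := hrest
    have hb2 : e.bad < fd.l := by simpa [Nat.blt_eq] using hb2
    have h1 := (hJ' e.bad hb2).1 hb1
    have h2 := hperm (fd.simples.getD e.bad 0) (C.c6.c2.simple_lt e.bad hb2)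
    rw [h1] at h2
    rw [← Bool.not_eq_true] at hb3
    exact hb3 (by rw [← h2]; exact Nat.beq_refl _)
  | true =>
    rw [hadm, cond_true] at hrest
    simp only [Bool.and_eq_true, List.all_eq_true] at hrest
    obtain ⟨⟨⟨hWs, hu⟩, hpw⟩, hstd⟩ := hrest
    have hW : ∀ p ∈ e.Ws, IsWd fd.l p.1 ∧ p.2 < fd.l := by
      intro p hp
      have := hWs p hp
      exact ⟨isWd_of_isWdB this.1, by simpa [Nat.blt_eq] using this.2⟩
    have hu : IsWd fd.l e.u := isWd_of_isWdB hu
    have hpw' := pairwiseB_spec C _ _ hpw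
    have hroots_lt : ∀ r ∈ rootsOf fd fx e.Ws, r < fd.n := by
      intro r hr
      simp only [rootsOf, List.mem_map] at hr
      obtain ⟨p, hp, rfl⟩ := hr
      exact C.wordP_lt p.1 (hW p hp).1 _ (C.c6.c2.simple_lt p.2 (hW p hp).2)
    have hcomm : (rootsOf fd fx e.Ws).Pairwise fun r r' =>
        ∀ t u : F, Commute (C.c6.c2.xA r t) (C.c6.c2.xA r' u) ∧ Commute (C.c6.c2.xA r t) (C.c6.c2.xA (fd.n - 1 - r') u) ∧
          Commute (C.c6.c2.xA (fd.n - 1 - r) t) (C.c6.c2.xA r' u) ∧
          Commute (C.c6.c2.xA (fd.n - 1 - r) t) (C.c6.c2.xA (fd.n - 1 - r') u) :=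
      hpw'.imp fun {r r'} h t u => strongComm_spec C r r' h t u
    obtain ⟨c, hcG, hcw⟩ := wordN_refl_conj (F := F) C e.Ws hW hcomm
    have htw : tabWord e = e.Ws.flatMap fun p => reflWord p.1 p.2 := by
      unfold tabWord; rw [hadm, cond_true]
    rw [htw] at hdiag
    have hlp : Cfsg.Agent.Lib.H12.F4V.lp C (e.Ws.map fun p => (fd.wordP fx p.1 (fd.simples.getD p.2 0), (1 : F))) =
        wordG C.c6.c2 F (rootsOf fd fx e.Ws) := by
      rw [← lp_eq_wordG C]
      unfold rootsOf
      rw [List.map_map]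
      rfl
    rw [hlp] at hcw
    -- the product of the root elements is an involution
    have hy2 : wordG C.c6.c2 F (rootsOf fd fx e.Ws) * wordG C.c6.c2 F (rootsOf fd fx e.Ws) = 1 := by
      unfold wordG
      apply prod_sq_of_pairwise C
      · rw [List.pairwise_map]
        exact hcomm.imp fun {r r'} h => (h 1 1).1
      · intro x hx
        obtain ⟨r, _, rfl⟩ := List.mem_map.mp hx
        rw [C.c6.c2.xA_mul, CharTwo.add_self_eq_zero, C.c6.c2.xA_zero]
    have hn2 : C.wordN F (e.Ws.flatMap fun p => reflWord p.1 p.2) *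
        C.wordN F (e.Ws.flatMap fun p => reflWord p.1 p.2) = 1 := by
      rw [hcw]
      calc c * wordG C.c6.c2 F (rootsOf fd fx e.Ws) * c⁻¹ * (c * wordG C.c6.c2 F (rootsOf fd fx e.Ws) * c⁻¹)
          = c * (wordG C.c6.c2 F (rootsOf fd fx e.Ws) * wordG C.c6.c2 F (rootsOf fd fx e.Ws)) * c⁻¹ := by group
        _ = 1 := by rw [hy2]; group
    obtain ⟨k', hk'H, hk'⟩ := conj_of_mul_inv_mem (D.diagonalSubgroup F) hodd m _ hdiag hm2 hn2
    rw [hcw] at hk'
    -- assemble
    have hstd' := eq_of_listBeq hstd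
    have hmove := wordN_conj_wordG (F := F) C e.u hu (rootsOf fd fx e.Ws) hroots_lt
    rw [hstd'] at hmove
    have hkG : k' ∈ D.group F := C.c6.c2.monomial_le_group
      (by unfold ChevalleyDatum.monomialSubgroup; exact Subgroup.mem_sup_left hk'H)
    have hNG : C.wordN F e.u ∈ D.group F := C.c6.c2.monomial_le_group (C.wordN_mem e.u)
    refine ⟨e.tau, C.wordN F e.u * c⁻¹ * k', mul_mem (mul_mem hNG (inv_mem hcG)) hkG, ?_⟩
    rw [← hmove]
    have : wordG C.c6.c2 F (rootsOf fd fx e.Ws) = c⁻¹ * (k' * m * k'⁻¹) * c := by rw [hk']; group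
    rw [this]
    group

end Cfsg.Agent.Lib.H27.InvTab
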