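import Mathlib
import Cfsg.Prelude.Def_LieChev
import Cfsg.Agent.Lib.H27.InvTab
import Cfsg.Agent.Lib.H29.ChevCert13

/-!
# `E₇`: the table of the subsets `J` of the fundamental roots for the involutions of `N` in characteristic two

Generated (tools/e7_h27/jtab.py, gen_tab.py). Entry `k` is the subset with bit mask `k`; the 40 admissible subsets (all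
components of type `A₁`, `D₄`, `D₆`, `E₇`) carry an orthogonal root set and a Weyl word to one of the nine standard
orthogonal sets `e7Std`, the others a word of `w₀ w_{0,J}` and a fundamental root of `J` moved by it.
-/

set_option autoImplicit false

namespace Cfsg.Agent.Lib.H27.E7Inv

open Cfsg.Lie Cfsg.Agent.Lib.H29.Chev Cfsg.Agent.Lib.H27.InvTab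

/-- the nine standard orthogonal sets of roots of `E₇` (types `A₁`, `2A₁`, `(3A₁)''`, `(3A₁)'`, `(4A₁)'`, `(4A₁)''`,
`5A₁`, `6A₁`, `7A₁`); number 9 is the empty set -/
def e7Std : List (List ℕ) := [[125], [125, 63], [125, 92, 63], [125, 66, 63], [125, 73, 66, 63], [125, 78, 66, 63],
  [125, 78, 73, 66, 63], [125, 87, 78, 73, 66, 63], [125, 92, 87, 78, 73, 66, 63]]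

/-- the table -/
def e7TabL : List JEntry := [
  ⟨true, [], 0, [([0, 2, 3, 4, 5, 6, 1, 3, 4, 5, 2, 3, 4, 1, 3, 2], 0), ([5, 6, 4, 5, 3, 4, 2, 3], 1), ([3, 4, 2, 3], 1), ([], 1), ([], 2), ([], 4), ([], 6)], [], 8⟩,
  ⟨true, [], 0, [([3, 4, 5, 6, 1, 3, 4, 5, 2, 3, 4, 1, 3, 2], 0), ([5, 6, 4, 5, 2, 3, 4, 1, 3, 2], 0), ([], 4), ([2, 3, 4, 1, 3, 2], 0), ([], 6), ([], 1)], [0, 5, 4, 3, 1, 6, 5, 4, 3, 2], 7⟩,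
  ⟨true, [], 0, [([0, 2, 3, 4, 5, 6, 1, 3, 4, 5, 2, 3, 4, 1, 3, 2], 0), ([5, 6, 4, 5, 3, 4, 2, 3], 1), ([3, 4, 2, 3], 1), ([], 4), ([], 6), ([], 2)], [5, 4, 3, 2, 6, 5, 4, 3], 7⟩,
  ⟨true, [], 0, [([5, 6, 4, 5, 2, 3, 4, 1, 3, 2], 0), ([3, 4, 5, 6, 1, 3, 4, 5, 2, 3, 4, 1, 3, 2], 0), ([], 6), ([], 4), ([2, 3, 4, 1, 3, 2], 0)], [3, 2, 0, 4, 3, 2, 5, 4, 3, 1, 2, 0, 3, 2, 6, 5, 4, 3], 6⟩,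
  ⟨true, [], 0, [([0, 2, 3, 4, 5, 6, 1, 3, 4, 5, 2, 3, 4, 1, 3, 2], 0), ([5, 6, 4, 5, 3, 4, 2, 3], 1), ([], 4), ([3, 4, 2, 3], 1), ([], 6), ([], 1)], [5, 4, 3, 1, 6, 5, 4, 3], 7⟩,
  ⟨false, [0, 1, 2, 3, 4, 5, 6, 0, 1, 2, 3, 4, 5, 6, 0, 1, 2, 3, 4, 5, 6, 0, 1, 2, 3, 4, 5, 6, 0, 1, 2, 3, 4, 5, 6, 0, 1, 2, 3, 4, 5, 6, 0, 1, 2, 3, 4, 5, 6, 0, 1, 2, 3, 4, 5, 6, 0, 1, 2, 3, 4, 5, 6, 0, 2, 0], 0, [], [], 0⟩,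
  ⟨true, [], 0, [([5, 6, 4, 5, 3, 4, 2, 3], 1), ([0, 2, 3, 4, 5, 6, 1, 3, 4, 5, 2, 3, 4, 1, 3, 2], 0), ([], 6), ([], 4), ([3, 4, 2, 3], 1)], [3, 2, 0, 4, 3, 2, 5, 4, 3, 1, 2, 0, 3, 2, 6, 5, 4, 3, 2, 0], 6⟩,
  ⟨false, [0, 1, 2, 3, 4, 5, 6, 0, 1, 2, 3, 4, 5, 6, 0, 1, 2, 3, 4, 5, 6, 0, 1, 2, 3, 4, 5, 6, 0, 1, 2, 3, 4, 5, 6, 0, 1, 2, 3, 4, 5, 6, 0, 1, 2, 3, 4, 5, 6, 0, 1, 2, 3, 4, 5, 6, 0, 1, 2, 3, 4, 5, 6, 0, 1, 2, 0], 0, [], [], 0⟩,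
  ⟨true, [], 0, [([0, 2, 3, 4, 5, 6, 1, 3, 4, 5, 2, 3, 4, 1, 3, 2], 0), ([5, 6, 4, 5, 3, 4, 2, 3], 1), ([4, 3], 2), ([4, 3], 1), ([], 6), ([2, 3], 1)], [5, 4, 3, 1, 2, 6, 5, 4], 7⟩,
  ⟨true, [], 0, [([5, 6, 1, 3, 4, 5, 2, 3, 4, 1, 3, 2], 0), ([4, 5, 6, 3, 4, 5, 2, 3, 4, 1, 3, 2], 0), ([], 6), ([4, 3], 1), ([2, 3, 4, 1, 3, 2], 0)], [3, 2, 0, 4, 3, 5, 4, 3, 1, 2, 0, 3, 2, 6, 5, 4], 6⟩,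
  ⟨false, [0, 1, 2, 3, 4, 5, 6, 0, 1, 2, 3, 4, 5, 6, 0, 1, 2, 3, 4, 5, 6, 0, 1, 2, 3, 4, 5, 6, 0, 1, 2, 3, 4, 5, 6, 0, 1, 2, 3, 4, 5, 6, 0, 1, 2, 3, 4, 5, 6, 0, 1, 2, 3, 4, 5, 6, 0, 1, 2, 3, 4, 5, 6, 1, 3, 1], 1, [], [], 0⟩,
  ⟨false, [0, 1, 2, 3, 4, 5, 6, 0, 1, 2, 3, 4, 5, 6, 0, 1, 2, 3, 4, 5, 6, 0, 1, 2, 3, 4, 5, 6, 0, 1, 2, 3, 4, 5, 6, 0, 1, 2, 3, 4, 5, 6, 0, 1, 2, 3, 4, 5, 6, 0, 1, 2, 3, 4, 5, 6, 0, 1, 2, 3, 4, 5, 6, 0, 1, 3, 1], 1, [], [], 0⟩,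
  ⟨false, [0, 1, 2, 3, 4, 5, 6, 0, 1, 2, 3, 4, 5, 6, 0, 1, 2, 3, 4, 5, 6, 0, 1, 2, 3, 4, 5, 6, 0, 1, 2, 3, 4, 5, 6, 0, 1, 2, 3, 4, 5, 6, 0, 1, 2, 3, 4, 5, 6, 0, 1, 2, 3, 4, 5, 6, 0, 1, 2, 3, 4, 5, 6, 2, 3, 2], 2, [], [], 0⟩,
  ⟨false, [0, 1, 2, 3, 4, 5, 6, 0, 1, 2, 3, 4, 5, 6, 0, 1, 2, 3, 4, 5, 6, 0, 1, 2, 3, 4, 5, 6, 0, 1, 2, 3, 4, 5, 6, 0, 1, 2, 3, 4, 5, 6, 0, 1, 2, 3, 4, 5, 6, 0, 1, 2, 3, 4, 5, 6, 0, 1, 2, 3, 4, 5, 6, 0, 2, 3, 0, 2, 0], 0, [], [], 0⟩,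
  ⟨false, [0, 1, 2, 3, 4, 5, 6, 0, 1, 2, 3, 4, 5, 6, 0, 1, 2, 3, 4, 5, 6, 0, 1, 2, 3, 4, 5, 6, 0, 1, 2, 3, 4, 5, 6, 0, 1, 2, 3, 4, 5, 6, 0, 1, 2, 3, 4, 5, 6, 0, 1, 2, 3, 4, 5, 6, 0, 1, 2, 3, 4, 5, 6, 1, 2, 3, 1, 2, 3], 1, [], [], 0⟩,
  ⟨false, [0, 1, 2, 3, 4, 5, 6, 0, 1, 2, 3, 4, 5, 6, 0, 1, 2, 3, 4, 5, 6, 0, 1, 2, 3, 4, 5, 6, 0, 1, 2, 3, 4, 5, 6, 0, 1, 2, 3, 4, 5, 6, 0, 1, 2, 3, 4, 5, 6, 0, 1, 2, 3, 4, 5, 6, 0, 1, 2, 3, 4, 5, 6, 0, 1, 2, 3, 0, 1, 2, 3, 0, 2], 0, [], [], 0⟩,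
  ⟨true, [], 0, [([0, 2, 3, 4, 5, 6, 1, 3, 4, 5, 2, 3, 4, 1, 3, 2], 0), ([5, 6, 4, 5, 3, 4, 2, 3], 1), ([], 2), ([], 1), ([], 6), ([3, 4, 2, 3], 1)], [5, 4, 3, 1, 2, 3, 6, 5], 7⟩,
  ⟨true, [], 0, [([3, 4, 5, 6, 1, 3, 4, 5, 2, 3, 4, 1, 3, 2], 0), ([5, 6, 4, 5, 2, 3, 4, 1, 3, 2], 0), ([], 6), ([2, 3, 4, 1, 3, 2], 0), ([], 1)], [3, 2, 0, 4, 3, 5, 4, 3, 1, 6, 5, 4, 3, 2], 6⟩,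
  ⟨true, [], 0, [([0, 2, 3, 4, 5, 6, 1, 3, 4, 5, 2, 3, 4, 1, 3, 2], 0), ([], 6), ([5, 6, 4, 5, 3, 4, 2, 3], 1), ([], 2), ([3, 4, 2, 3], 1)], [3, 1, 4, 3, 5, 4, 3, 1, 2, 3, 6, 5], 6⟩,
  ⟨true, [], 0, [([2, 3, 4, 1, 3, 2], 0), ([], 6), ([5, 6, 4, 5, 2, 3, 4, 1, 3, 2], 0), ([3, 4, 5, 6, 1, 3, 4, 5, 2, 3, 4, 1, 3, 2], 0)], [3, 1, 2, 0, 3, 2, 5, 4, 3, 1, 2, 0, 3, 2, 4, 3, 1, 5, 4, 3, 6, 5], 5⟩,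
  ⟨true, [], 0, [([0, 2, 3, 4, 5, 6, 1, 3, 4, 5, 2, 3, 4, 1, 3, 2], 0), ([5, 6, 4, 5, 3, 4, 2, 3], 1), ([], 6), ([], 1), ([3, 4, 2, 3], 1)], [3, 2, 4, 3, 5, 4, 3, 1, 2, 3, 6, 5], 6⟩,
  ⟨false, [0, 1, 2, 3, 4, 5, 6, 0, 1, 2, 3, 4, 5, 6, 0, 1, 2, 3, 4, 5, 6, 0, 1, 2, 3, 4, 5, 6, 0, 1, 2, 3, 4, 5, 6, 0, 1, 2, 3, 4, 5, 6, 0, 1, 2, 3, 4, 5, 6, 0, 1, 2, 3, 4, 5, 6, 0, 1, 2, 3, 4, 5, 6, 0, 2, 4, 0], 0, [], [], 0⟩,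
  ⟨true, [], 0, [([3, 4, 2, 3], 1), ([], 6), ([5, 6, 4, 5, 3, 4, 2, 3], 1), ([0, 2, 3, 4, 5, 6, 1, 3, 4, 5, 2, 3, 4, 1, 3, 2], 0)], [3, 1, 2, 0, 3, 2, 5, 4, 3, 1, 2, 0, 3, 2, 4, 3, 1, 5, 4, 3, 2, 0, 6, 5], 5⟩,
  ⟨false, [0, 1, 2, 3, 4, 5, 6, 0, 1, 2, 3, 4, 5, 6, 0, 1, 2, 3, 4, 5, 6, 0, 1, 2, 3, 4, 5, 6, 0, 1, 2, 3, 4, 5, 6, 0, 1, 2, 3, 4, 5, 6, 0, 1, 2, 3, 4, 5, 6, 0, 1, 2, 3, 4, 5, 6, 0, 1, 2, 3, 4, 5, 6, 0, 1, 2, 4, 0], 0, [], [], 0⟩,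
  ⟨false, [0, 1, 2, 3, 4, 5, 6, 0, 1, 2, 3, 4, 5, 6, 0, 1, 2, 3, 4, 5, 6, 0, 1, 2, 3, 4, 5, 6, 0, 1, 2, 3, 4, 5, 6, 0, 1, 2, 3, 4, 5, 6, 0, 1, 2, 3, 4, 5, 6, 0, 1, 2, 3, 4, 5, 6, 0, 1, 2, 3, 4, 5, 6, 3, 4, 3], 3, [], [], 0⟩,
  ⟨false, [0, 1, 2, 3, 4, 5, 6, 0, 1, 2, 3, 4, 5, 6, 0, 1, 2, 3, 4, 5, 6, 0, 1, 2, 3, 4, 5, 6, 0, 1, 2, 3, 4, 5, 6, 0, 1, 2, 3, 4, 5, 6, 0, 1, 2, 3, 4, 5, 6, 0, 1, 2, 3, 4, 5, 6, 0, 1, 2, 3, 4, 5, 6, 0, 3, 4, 3], 3, [], [], 0⟩,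
  ⟨false, [0, 1, 2, 3, 4, 5, 6, 0, 1, 2, 3, 4, 5, 6, 0, 1, 2, 3, 4, 5, 6, 0, 1, 2, 3, 4, 5, 6, 0, 1, 2, 3, 4, 5, 6, 0, 1, 2, 3, 4, 5, 6, 0, 1, 2, 3, 4, 5, 6, 0, 1, 2, 3, 4, 5, 6, 0, 1, 2, 3, 4, 5, 6, 1, 3, 4, 1, 3, 1], 1, [], [], 0⟩,
  ⟨false, [0, 1, 2, 3, 4, 5, 6, 0, 1, 2, 3, 4, 5, 6, 0, 1, 2, 3, 4, 5, 6, 0, 1, 2, 3, 4, 5, 6, 0, 1, 2, 3, 4, 5, 6, 0, 1, 2, 3, 4, 5, 6, 0, 1, 2, 3, 4, 5, 6, 0, 1, 2, 3, 4, 5, 6, 0, 1, 2, 3, 4, 5, 6, 0, 1, 3, 4, 1, 3, 1], 1, [], [], 0⟩,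
  ⟨false, [0, 1, 2, 3, 4, 5, 6, 0, 1, 2, 3, 4, 5, 6, 0, 1, 2, 3, 4, 5, 6, 0, 1, 2, 3, 4, 5, 6, 0, 1, 2, 3, 4, 5, 6, 0, 1, 2, 3, 4, 5, 6, 0, 1, 2, 3, 4, 5, 6, 0, 1, 2, 3, 4, 5, 6, 0, 1, 2, 3, 4, 5, 6, 2, 3, 4, 2, 3, 2], 2, [], [], 0⟩,
  ⟨false, [0, 1, 2, 3, 4, 5, 6, 0, 1, 2, 3, 4, 5, 6, 0, 1, 2, 3, 4, 5, 6, 0, 1, 2, 3, 4, 5, 6, 0, 1, 2, 3, 4, 5, 6, 0, 1, 2, 3, 4, 5, 6, 0, 1, 2, 3, 4, 5, 6, 0, 1, 2, 3, 4, 5, 6, 0, 1, 2, 3, 4, 5, 6, 0, 2, 3, 4, 0, 2, 3, 0, 2, 0], 0, [], [], 0⟩,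
  ⟨true, [], 0, [([0, 2, 3, 4, 5, 6, 1, 3, 4, 5, 2, 3, 4, 1, 3, 2], 0), ([5, 6, 4, 5, 3, 4, 2, 3], 1), ([], 6)], [], 2⟩,
  ⟨false, [0, 1, 2, 3, 4, 5, 6, 0, 1, 2, 3, 4, 5, 6, 0, 1, 2, 3, 4, 5, 6, 0, 1, 2, 3, 4, 5, 6, 0, 1, 2, 3, 4, 5, 6, 0, 1, 2, 3, 4, 5, 6, 0, 1, 2, 3, 4, 5, 6, 0, 1, 2, 3, 4, 5, 6, 0, 1, 2, 3, 4, 5, 6, 0, 1, 2, 3, 4, 0, 1, 2, 3, 4, 0, 1, 2, 3, 4, 0, 1, 2, 3, 1], 1, [], [], 0⟩,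
  ⟨true, [], 0, [([0, 2, 3, 4, 5, 6, 1, 3, 4, 5, 2, 3, 4, 1, 3, 2], 0), ([6, 5, 3, 4, 2, 3], 1), ([], 2), ([], 1), ([6, 5], 4), ([4, 5, 3, 4, 2, 3], 1)], [5, 4, 3, 1, 2, 3, 4, 6], 7⟩,
  ⟨true, [], 0, [([3, 4, 5, 6, 1, 3, 4, 5, 2, 3, 4, 1, 3, 2], 0), ([6, 5, 2, 3, 4, 1, 3, 2], 0), ([6, 5], 4), ([4, 5, 2, 3, 4, 1, 3, 2], 0), ([], 1)], [3, 1, 2, 0, 4, 5, 4, 3, 1, 6, 5, 4, 3, 2], 6⟩,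
  ⟨true, [], 0, [([0, 2, 3, 4, 5, 6, 1, 3, 4, 5, 2, 3, 4, 1, 3, 2], 0), ([6, 5], 4), ([6, 5, 3, 4, 2, 3], 1), ([4, 5, 3, 4, 2, 3], 1), ([], 2)], [3, 1, 2, 4, 5, 4, 3, 2, 6, 5, 4, 3], 6⟩,
  ⟨true, [], 0, [([4, 5, 2, 3, 4, 1, 3, 2], 0), ([6, 5], 4), ([3, 4, 5, 6, 1, 3, 4, 5, 2, 3, 4, 1, 3, 2], 0), ([6, 5, 2, 3, 4, 1, 3, 2], 0)], [3, 1, 2, 0, 3, 2, 5, 4, 3, 1, 2, 0, 3, 2, 4, 5, 6, 5, 4, 3], 5⟩,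
  ⟨true, [], 0, [([0, 2, 3, 4, 5, 6, 1, 3, 4, 5, 2, 3, 4, 1, 3, 2], 0), ([6, 5, 3, 4, 2, 3], 1), ([6, 5], 4), ([4, 5, 3, 4, 2, 3], 1), ([], 1)], [3, 1, 2, 4, 5, 4, 3, 1, 6, 5, 4, 3], 6⟩,
  ⟨false, [0, 1, 2, 3, 4, 5, 6, 0, 1, 2, 3, 4, 5, 6, 0, 1, 2, 3, 4, 5, 6, 0, 1, 2, 3, 4, 5, 6, 0, 1, 2, 3, 4, 5, 6, 0, 1, 2, 3, 4, 5, 6, 0, 1, 2, 3, 4, 5, 6, 0, 1, 2, 3, 4, 5, 6, 0, 1, 2, 3, 4, 5, 6, 0, 2, 5, 0], 0, [], [], 0⟩,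
  ⟨true, [], 0, [([4, 5, 3, 4, 2, 3], 1), ([6, 5], 4), ([0, 2, 3, 4, 5, 6, 1, 3, 4, 5, 2, 3, 4, 1, 3, 2], 0), ([6, 5, 3, 4, 2, 3], 1)], [3, 1, 2, 0, 3, 2, 5, 4, 3, 1, 2, 0, 3, 2, 4, 5, 6, 5, 4, 3, 2, 0], 5⟩,
  ⟨false, [0, 1, 2, 3, 4, 5, 6, 0, 1, 2, 3, 4, 5, 6, 0, 1, 2, 3, 4, 5, 6, 0, 1, 2, 3, 4, 5, 6, 0, 1, 2, 3, 4, 5, 6, 0, 1, 2, 3, 4, 5, 6, 0, 1, 2, 3, 4, 5, 6, 0, 1, 2, 3, 4, 5, 6, 0, 1, 2, 3, 4, 5, 6, 0, 1, 2, 5, 0], 0, [], [], 0⟩,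
  ⟨true, [], 0, [([0, 2, 3, 4, 5, 6, 1, 3, 4, 5, 2, 3, 4, 1, 3, 2], 0), ([6, 5, 4, 3], 1), ([6, 5, 4, 3], 2), ([2, 3], 1), ([4, 5, 3, 4, 2, 3], 1)], [3, 1, 2, 4, 5, 4, 3, 1, 2, 3, 4, 6], 6⟩,
  ⟨true, [], 0, [([1, 3, 4, 5, 2, 3, 4, 1, 3, 2], 0), ([6, 5, 4, 3], 1), ([6, 5, 2, 3, 4, 1, 3, 2], 0), ([4, 5, 6, 3, 4, 5, 2, 3, 4, 1, 3, 2], 0)], [3, 1, 2, 0, 3, 5, 4, 3, 1, 2, 0, 3, 2, 4, 3, 5, 4, 6], 5⟩,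
  ⟨false, [0, 1, 2, 3, 4, 5, 6, 0, 1, 2, 3, 4, 5, 6, 0, 1, 2, 3, 4, 5, 6, 0, 1, 2, 3, 4, 5, 6, 0, 1, 2, 3, 4, 5, 6, 0, 1, 2, 3, 4, 5, 6, 0, 1, 2, 3, 4, 5, 6, 0, 1, 2, 3, 4, 5, 6, 0, 1, 2, 3, 4, 5, 6, 1, 3, 5, 1], 1, [], [], 0⟩,
  ⟨false, [0, 1, 2, 3, 4, 5, 6, 0, 1, 2, 3, 4, 5, 6, 0, 1, 2, 3, 4, 5, 6, 0, 1, 2, 3, 4, 5, 6, 0, 1, 2, 3, 4, 5, 6, 0, 1, 2, 3, 4, 5, 6, 0, 1, 2, 3, 4, 5, 6, 0, 1, 2, 3, 4, 5, 6, 0, 1, 2, 3, 4, 5, 6, 0, 1, 3, 5, 1], 1, [], [], 0⟩,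
  ⟨false, [0, 1, 2, 3, 4, 5, 6, 0, 1, 2, 3, 4, 5, 6, 0, 1, 2, 3, 4, 5, 6, 0, 1, 2, 3, 4, 5, 6, 0, 1, 2, 3, 4, 5, 6, 0, 1, 2, 3, 4, 5, 6, 0, 1, 2, 3, 4, 5, 6, 0, 1, 2, 3, 4, 5, 6, 0, 1, 2, 3, 4, 5, 6, 2, 3, 5, 2], 2, [], [], 0⟩,
  ⟨false, [0, 1, 2, 3, 4, 5, 6, 0, 1, 2, 3, 4, 5, 6, 0, 1, 2, 3, 4, 5, 6, 0, 1, 2, 3, 4, 5, 6, 0, 1, 2, 3, 4, 5, 6, 0, 1, 2, 3, 4, 5, 6, 0, 1, 2, 3, 4, 5, 6, 0, 1, 2, 3, 4, 5, 6, 0, 1, 2, 3, 4, 5, 6, 0, 2, 3, 5, 0, 2, 0], 0, [], [], 0⟩,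
  ⟨false, [0, 1, 2, 3, 4, 5, 6, 0, 1, 2, 3, 4, 5, 6, 0, 1, 2, 3, 4, 5, 6, 0, 1, 2, 3, 4, 5, 6, 0, 1, 2, 3, 4, 5, 6, 0, 1, 2, 3, 4, 5, 6, 0, 1, 2, 3, 4, 5, 6, 0, 1, 2, 3, 4, 5, 6, 0, 1, 2, 3, 4, 5, 6, 1, 2, 3, 5, 1, 2, 3], 1, [], [], 0⟩,
  ⟨false, [0, 1, 2, 3, 4, 5, 6, 0, 1, 2, 3, 4, 5, 6, 0, 1, 2, 3, 4, 5, 6, 0, 1, 2, 3, 4, 5, 6, 0, 1, 2, 3, 4, 5, 6, 0, 1, 2, 3, 4, 5, 6, 0, 1, 2, 3, 4, 5, 6, 0, 1, 2, 3, 4, 5, 6, 0, 1, 2, 3, 4, 5, 6, 0, 1, 2, 3, 5, 0, 1, 2, 3, 0, 2], 0, [], [], 0⟩,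
  ⟨false, [0, 1, 2, 3, 4, 5, 6, 0, 1, 2, 3, 4, 5, 6, 0, 1, 2, 3, 4, 5, 6, 0, 1, 2, 3, 4, 5, 6, 0, 1, 2, 3, 4, 5, 6, 0, 1, 2, 3, 4, 5, 6, 0, 1, 2, 3, 4, 5, 6, 0, 1, 2, 3, 4, 5, 6, 0, 1, 2, 3, 4, 5, 6, 4, 5, 4], 4, [], [], 0⟩,
  ⟨false, [0, 1, 2, 3, 4, 5, 6, 0, 1, 2, 3, 4, 5, 6, 0, 1, 2, 3, 4, 5, 6, 0, 1, 2, 3, 4, 5, 6, 0, 1, 2, 3, 4, 5, 6, 0, 1, 2, 3, 4, 5, 6, 0, 1, 2, 3, 4, 5, 6, 0, 1, 2, 3, 4, 5, 6, 0, 1, 2, 3, 4, 5, 6, 0, 4, 5, 4], 4, [], [], 0⟩,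
  ⟨false, [0, 1, 2, 3, 4, 5, 6, 0, 1, 2, 3, 4, 5, 6, 0, 1, 2, 3, 4, 5, 6, 0, 1, 2, 3, 4, 5, 6, 0, 1, 2, 3, 4, 5, 6, 0, 1, 2, 3, 4, 5, 6, 0, 1, 2, 3, 4, 5, 6, 0, 1, 2, 3, 4, 5, 6, 0, 1, 2, 3, 4, 5, 6, 1, 4, 5, 4], 4, [], [], 0⟩,
  ⟨false, [0, 1, 2, 3, 4, 5, 6, 0, 1, 2, 3, 4, 5, 6, 0, 1, 2, 3, 4, 5, 6, 0, 1, 2, 3, 4, 5, 6, 0, 1, 2, 3, 4, 5, 6, 0, 1, 2, 3, 4, 5, 6, 0, 1, 2, 3, 4, 5, 6, 0, 1, 2, 3, 4, 5, 6, 0, 1, 2, 3, 4, 5, 6, 0, 1, 4, 5, 4], 4, [], [], 0⟩,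
  ⟨false, [0, 1, 2, 3, 4, 5, 6, 0, 1, 2, 3, 4, 5, 6, 0, 1, 2, 3, 4, 5, 6, 0, 1, 2, 3, 4, 5, 6, 0, 1, 2, 3, 4, 5, 6, 0, 1, 2, 3, 4, 5, 6, 0, 1, 2, 3, 4, 5, 6, 0, 1, 2, 3, 4, 5, 6, 0, 1, 2, 3, 4, 5, 6, 2, 4, 5, 4], 4, [], [], 0⟩,
  ⟨false, [0, 1, 2, 3, 4, 5, 6, 0, 1, 2, 3, 4, 5, 6, 0, 1, 2, 3, 4, 5, 6, 0, 1, 2, 3, 4, 5, 6, 0, 1, 2, 3, 4, 5, 6, 0, 1, 2, 3, 4, 5, 6, 0, 1, 2, 3, 4, 5, 6, 0, 1, 2, 3, 4, 5, 6, 0, 1, 2, 3, 4, 5, 6, 0, 2, 4, 5, 0, 4], 0, [], [], 0⟩,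
  ⟨false, [0, 1, 2, 3, 4, 5, 6, 0, 1, 2, 3, 4, 5, 6, 0, 1, 2, 3, 4, 5, 6, 0, 1, 2, 3, 4, 5, 6, 0, 1, 2, 3, 4, 5, 6, 0, 1, 2, 3, 4, 5, 6, 0, 1, 2, 3, 4, 5, 6, 0, 1, 2, 3, 4, 5, 6, 0, 1, 2, 3, 4, 5, 6, 1, 2, 4, 5, 4], 4, [], [], 0⟩,
  ⟨false, [0, 1, 2, 3, 4, 5, 6, 0, 1, 2, 3, 4, 5, 6, 0, 1, 2, 3, 4, 5, 6, 0, 1, 2, 3, 4, 5, 6, 0, 1, 2, 3, 4, 5, 6, 0, 1, 2, 3, 4, 5, 6, 0, 1, 2, 3, 4, 5, 6, 0, 1, 2, 3, 4, 5, 6, 0, 1, 2, 3, 4, 5, 6, 0, 1, 2, 4, 5, 0, 4], 0, [], [], 0⟩,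
  ⟨false, [0, 1, 2, 3, 4, 5, 6, 0, 1, 2, 3, 4, 5, 6, 0, 1, 2, 3, 4, 5, 6, 0, 1, 2, 3, 4, 5, 6, 0, 1, 2, 3, 4, 5, 6, 0, 1, 2, 3, 4, 5, 6, 0, 1, 2, 3, 4, 5, 6, 0, 1, 2, 3, 4, 5, 6, 0, 1, 2, 3, 4, 5, 6, 3, 4, 5, 3, 4, 3], 3, [], [], 0⟩,
  ⟨false, [0, 1, 2, 3, 4, 5, 6, 0, 1, 2, 3, 4, 5, 6, 0, 1, 2, 3, 4, 5, 6, 0, 1, 2, 3, 4, 5, 6, 0, 1, 2, 3, 4, 5, 6, 0, 1, 2, 3, 4, 5, 6, 0, 1, 2, 3, 4, 5, 6, 0, 1, 2, 3, 4, 5, 6, 0, 1, 2, 3, 4, 5, 6, 0, 3, 4, 5, 3, 4, 3], 3, [], [], 0⟩,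
  ⟨false, [0, 1, 2, 3, 4, 5, 6, 0, 1, 2, 3, 4, 5, 6, 0, 1, 2, 3, 4, 5, 6, 0, 1, 2, 3, 4, 5, 6, 0, 1, 2, 3, 4, 5, 6, 0, 1, 2, 3, 4, 5, 6, 0, 1, 2, 3, 4, 5, 6, 0, 1, 2, 3, 4, 5, 6, 0, 1, 2, 3, 4, 5, 6, 1, 3, 4, 5, 1, 3, 4, 1, 3, 1], 1, [], [], 0⟩,
  ⟨false, [0, 1, 2, 3, 4, 5, 6, 0, 1, 2, 3, 4, 5, 6, 0, 1, 2, 3, 4, 5, 6, 0, 1, 2, 3, 4, 5, 6, 0, 1, 2, 3, 4, 5, 6, 0, 1, 2, 3, 4, 5, 6, 0, 1, 2, 3, 4, 5, 6, 0, 1, 2, 3, 4, 5, 6, 0, 1, 2, 3, 4, 5, 6, 0, 1, 3, 4, 5, 1, 3, 4, 1, 3, 1], 1, [], [], 0⟩,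
  ⟨false, [0, 1, 2, 3, 4, 5, 6, 0, 1, 2, 3, 4, 5, 6, 0, 1, 2, 3, 4, 5, 6, 0, 1, 2, 3, 4, 5, 6, 0, 1, 2, 3, 4, 5, 6, 0, 1, 2, 3, 4, 5, 6, 0, 1, 2, 3, 4, 5, 6, 0, 1, 2, 3, 4, 5, 6, 0, 1, 2, 3, 4, 5, 6, 2, 3, 4, 5, 2, 3, 4, 2, 3, 2], 2, [], [], 0⟩,
  ⟨false, [0, 1, 2, 3, 4, 5, 6, 0, 1, 2, 3, 4, 5, 6, 0, 1, 2, 3, 4, 5, 6, 0, 1, 2, 3, 4, 5, 6, 0, 1, 2, 3, 4, 5, 6, 0, 1, 2, 3, 4, 5, 6, 0, 1, 2, 3, 4, 5, 6, 0, 1, 2, 3, 4, 5, 6, 0, 1, 2, 3, 4, 5, 6, 0, 2, 3, 4, 5, 0, 2, 3, 4, 0, 2, 3, 0, 2, 0], 0, [], [], 0⟩,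
  ⟨false, [0, 1, 2, 3, 4, 5, 6, 0, 1, 2, 3, 4, 5, 6, 0, 1, 2, 3, 4, 5, 6, 0, 1, 2, 3, 4, 5, 6, 0, 1, 2, 3, 4, 5, 6, 0, 1, 2, 3, 4, 5, 6, 0, 1, 2, 3, 4, 5, 6, 0, 1, 2, 3, 4, 5, 6, 0, 1, 2, 3, 4, 5, 6, 1, 2, 3, 4, 5, 1, 2, 3, 4, 5, 1, 2, 3, 4, 5, 1, 2, 3, 4, 5], 1, [], [], 0⟩,
  ⟨false, [0, 1, 2, 3, 4, 5, 6, 0, 1, 2, 3, 4, 5, 6, 0, 1, 2, 3, 4, 5, 6, 0, 1, 2, 3, 4, 5, 6, 0, 1, 2, 3, 4, 5, 6, 0, 1, 2, 3, 4, 5, 6, 0, 1, 2, 3, 4, 5, 6, 0, 1, 2, 3, 4, 5, 6, 0, 1, 2, 3, 4, 5, 6, 0, 1, 2, 3, 4, 5, 0, 1, 2, 3, 4, 5, 0, 1, 2, 3, 4, 5, 0, 1, 2, 3, 4, 5, 0, 1, 2, 3, 4, 0, 1, 2, 3, 0, 2, 0], 0, [], [], 0⟩,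
  ⟨true, [], 0, [([0, 2, 3, 4, 5, 6, 1, 3, 4, 5, 2, 3, 4, 1, 3, 2], 0), ([3, 4, 2, 3], 1), ([], 2), ([], 1), ([], 4), ([5, 6, 4, 5, 3, 4, 2, 3], 1)], [5, 4, 3, 1, 2, 3, 4, 5], 7⟩,
  ⟨true, [], 0, [([3, 4, 5, 6, 1, 3, 4, 5, 2, 3, 4, 1, 3, 2], 0), ([2, 3, 4, 1, 3, 2], 0), ([], 4), ([5, 6, 4, 5, 2, 3, 4, 1, 3, 2], 0), ([], 1)], [3, 1, 2, 0, 3, 5, 4, 3, 1, 6, 5, 4, 3, 2], 6⟩,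
  ⟨true, [], 0, [([0, 2, 3, 4, 5, 6, 1, 3, 4, 5, 2, 3, 4, 1, 3, 2], 0), ([], 4), ([3, 4, 2, 3], 1), ([5, 6, 4, 5, 3, 4, 2, 3], 1), ([], 2)], [3, 1, 2, 3, 5, 4, 3, 2, 6, 5, 4, 3], 6⟩,
  ⟨true, [], 0, [([5, 6, 4, 5, 2, 3, 4, 1, 3, 2], 0), ([], 4), ([3, 4, 5, 6, 1, 3, 4, 5, 2, 3, 4, 1, 3, 2], 0), ([2, 3, 4, 1, 3, 2], 0)], [3, 1, 2, 0, 3, 2, 5, 4, 3, 1, 2, 0, 3, 2, 6, 5, 4, 3], 5⟩,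
  ⟨true, [], 0, [([0, 2, 3, 4, 5, 6, 1, 3, 4, 5, 2, 3, 4, 1, 3, 2], 0), ([3, 4, 2, 3], 1), ([], 4), ([5, 6, 4, 5, 3, 4, 2, 3], 1), ([], 1)], [3, 1, 2, 3, 5, 4, 3, 1, 6, 5, 4, 3], 6⟩,
  ⟨false, [0, 1, 2, 3, 4, 5, 6, 0, 1, 2, 3, 4, 5, 6, 0, 1, 2, 3, 4, 5, 6, 0, 1, 2, 3, 4, 5, 6, 0, 1, 2, 3, 4, 5, 6, 0, 1, 2, 3, 4, 5, 6, 0, 1, 2, 3, 4, 5, 6, 0, 1, 2, 3, 4, 5, 6, 0, 1, 2, 3, 4, 5, 6, 0, 2, 6, 0], 0, [], [], 0⟩,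
  ⟨true, [], 0, [([5, 6, 4, 5, 3, 4, 2, 3], 1), ([], 4), ([0, 2, 3, 4, 5, 6, 1, 3, 4, 5, 2, 3, 4, 1, 3, 2], 0), ([3, 4, 2, 3], 1)], [3, 1, 2, 0, 3, 2, 5, 4, 3, 1, 2, 0, 3, 2, 6, 5, 4, 3, 2, 0], 5⟩,
  ⟨false, [0, 1, 2, 3, 4, 5, 6, 0, 1, 2, 3, 4, 5, 6, 0, 1, 2, 3, 4, 5, 6, 0, 1, 2, 3, 4, 5, 6, 0, 1, 2, 3, 4, 5, 6, 0, 1, 2, 3, 4, 5, 6, 0, 1, 2, 3, 4, 5, 6, 0, 1, 2, 3, 4, 5, 6, 0, 1, 2, 3, 4, 5, 6, 0, 1, 2, 6, 0], 0, [], [], 0⟩,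
  ⟨true, [], 0, [([0, 2, 3, 4, 5, 6, 1, 3, 4, 5, 2, 3, 4, 1, 3, 2], 0), ([4, 3], 1), ([4, 3], 2), ([5, 6, 4, 5, 3, 4, 2, 3], 1), ([2, 3], 1)], [3, 1, 2, 3, 5, 4, 3, 1, 2, 6, 5, 4], 6⟩,
  ⟨true, [], 0, [([5, 6, 1, 3, 4, 5, 2, 3, 4, 1, 3, 2], 0), ([4, 3], 1), ([4, 5, 6, 3, 4, 5, 2, 3, 4, 1, 3, 2], 0), ([2, 3, 4, 1, 3, 2], 0)], [3, 1, 2, 0, 3, 5, 4, 3, 1, 2, 0, 3, 2, 6, 5, 4], 5⟩,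
  ⟨false, [0, 1, 2, 3, 4, 5, 6, 0, 1, 2, 3, 4, 5, 6, 0, 1, 2, 3, 4, 5, 6, 0, 1, 2, 3, 4, 5, 6, 0, 1, 2, 3, 4, 5, 6, 0, 1, 2, 3, 4, 5, 6, 0, 1, 2, 3, 4, 5, 6, 0, 1, 2, 3, 4, 5, 6, 0, 1, 2, 3, 4, 5, 6, 1, 3, 6, 1], 1, [], [], 0⟩,
  ⟨false, [0, 1, 2, 3, 4, 5, 6, 0, 1, 2, 3, 4, 5, 6, 0, 1, 2, 3, 4, 5, 6, 0, 1, 2, 3, 4, 5, 6, 0, 1, 2, 3, 4, 5, 6, 0, 1, 2, 3, 4, 5, 6, 0, 1, 2, 3, 4, 5, 6, 0, 1, 2, 3, 4, 5, 6, 0, 1, 2, 3, 4, 5, 6, 0, 1, 3, 6, 1], 1, [], [], 0⟩,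
  ⟨false, [0, 1, 2, 3, 4, 5, 6, 0, 1, 2, 3, 4, 5, 6, 0, 1, 2, 3, 4, 5, 6, 0, 1, 2, 3, 4, 5, 6, 0, 1, 2, 3, 4, 5, 6, 0, 1, 2, 3, 4, 5, 6, 0, 1, 2, 3, 4, 5, 6, 0, 1, 2, 3, 4, 5, 6, 0, 1, 2, 3, 4, 5, 6, 2, 3, 6, 2], 2, [], [], 0⟩,
  ⟨false, [0, 1, 2, 3, 4, 5, 6, 0, 1, 2, 3, 4, 5, 6, 0, 1, 2, 3, 4, 5, 6, 0, 1, 2, 3, 4, 5, 6, 0, 1, 2, 3, 4, 5, 6, 0, 1, 2, 3, 4, 5, 6, 0, 1, 2, 3, 4, 5, 6, 0, 1, 2, 3, 4, 5, 6, 0, 1, 2, 3, 4, 5, 6, 0, 2, 3, 6, 0, 2, 0], 0, [], [], 0⟩,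
  ⟨false, [0, 1, 2, 3, 4, 5, 6, 0, 1, 2, 3, 4, 5, 6, 0, 1, 2, 3, 4, 5, 6, 0, 1, 2, 3, 4, 5, 6, 0, 1, 2, 3, 4, 5, 6, 0, 1, 2, 3, 4, 5, 6, 0, 1, 2, 3, 4, 5, 6, 0, 1, 2, 3, 4, 5, 6, 0, 1, 2, 3, 4, 5, 6, 1, 2, 3, 6, 1, 2, 3], 1, [], [], 0⟩,
  ⟨false, [0, 1, 2, 3, 4, 5, 6, 0, 1, 2, 3, 4, 5, 6, 0, 1, 2, 3, 4, 5, 6, 0, 1, 2, 3, 4, 5, 6, 0, 1, 2, 3, 4, 5, 6, 0, 1, 2, 3, 4, 5, 6, 0, 1, 2, 3, 4, 5, 6, 0, 1, 2, 3, 4, 5, 6, 0, 1, 2, 3, 4, 5, 6, 0, 1, 2, 3, 6, 0, 1, 2, 3, 0, 2], 0, [], [], 0⟩,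
  ⟨true, [], 0, [([0, 2, 3, 4, 5, 6, 1, 3, 4, 5, 2, 3, 4, 1, 3, 2], 0), ([], 1), ([], 2), ([3, 4, 2, 3], 1), ([5, 6, 4, 5, 3, 4, 2, 3], 1)], [3, 1, 2, 3, 5, 4, 3, 1, 2, 3, 4, 5], 6⟩,
  ⟨true, [], 0, [([3, 4, 5, 6, 1, 3, 4, 5, 2, 3, 4, 1, 3, 2], 0), ([2, 3, 4, 1, 3, 2], 0), ([5, 6, 4, 5, 2, 3, 4, 1, 3, 2], 0), ([], 1)], [3, 1, 2, 0, 3, 5, 4, 3, 1, 6, 5, 4, 3, 2], 5⟩,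
  ⟨true, [], 0, [([0, 2, 3, 4, 5, 6, 1, 3, 4, 5, 2, 3, 4, 1, 3, 2], 0), ([], 2), ([3, 4, 2, 3], 1), ([5, 6, 4, 5, 3, 4, 2, 3], 1)], [3, 1, 2, 3, 5, 4, 3, 1, 2, 3, 4, 5], 4⟩,
  ⟨true, [], 0, [([3, 4, 5, 6, 1, 3, 4, 5, 2, 3, 4, 1, 3, 2], 0), ([2, 3, 4, 1, 3, 2], 0), ([5, 6, 4, 5, 2, 3, 4, 1, 3, 2], 0)], [3, 1, 2, 3, 5, 4, 3, 1, 2, 0, 3, 2, 4, 5], 3⟩,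
  ⟨true, [], 0, [([0, 2, 3, 4, 5, 6, 1, 3, 4, 5, 2, 3, 4, 1, 3, 2], 0), ([], 1), ([3, 4, 2, 3], 1), ([5, 6, 4, 5, 3, 4, 2, 3], 1)], [3, 1, 2, 3, 5, 4, 3, 1, 2, 3, 4, 5], 5⟩,
  ⟨false, [0, 1, 2, 3, 4, 5, 6, 0, 1, 2, 3, 4, 5, 6, 0, 1, 2, 3, 4, 5, 6, 0, 1, 2, 3, 4, 5, 6, 0, 1, 2, 3, 4, 5, 6, 0, 1, 2, 3, 4, 5, 6, 0, 1, 2, 3, 4, 5, 6, 0, 1, 2, 3, 4, 5, 6, 0, 1, 2, 3, 4, 5, 6, 0, 2, 4, 6, 0], 0, [], [], 0⟩,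
  ⟨true, [], 0, [([0, 2, 3, 4, 5, 6, 1, 3, 4, 5, 2, 3, 4, 1, 3, 2], 0), ([3, 4, 2, 3], 1), ([5, 6, 4, 5, 3, 4, 2, 3], 1)], [3, 1, 2, 3, 5, 4, 3, 1, 2, 3, 4, 5], 3⟩,
  ⟨false, [0, 1, 2, 3, 4, 5, 6, 0, 1, 2, 3, 4, 5, 6, 0, 1, 2, 3, 4, 5, 6, 0, 1, 2, 3, 4, 5, 6, 0, 1, 2, 3, 4, 5, 6, 0, 1, 2, 3, 4, 5, 6, 0, 1, 2, 3, 4, 5, 6, 0, 1, 2, 3, 4, 5, 6, 0, 1, 2, 3, 4, 5, 6, 0, 1, 2, 4, 6, 0], 0, [], [], 0⟩,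
  ⟨false, [0, 1, 2, 3, 4, 5, 6, 0, 1, 2, 3, 4, 5, 6, 0, 1, 2, 3, 4, 5, 6, 0, 1, 2, 3, 4, 5, 6, 0, 1, 2, 3, 4, 5, 6, 0, 1, 2, 3, 4, 5, 6, 0, 1, 2, 3, 4, 5, 6, 0, 1, 2, 3, 4, 5, 6, 0, 1, 2, 3, 4, 5, 6, 3, 4, 6, 3], 3, [], [], 0⟩,
  ⟨false, [0, 1, 2, 3, 4, 5, 6, 0, 1, 2, 3, 4, 5, 6, 0, 1, 2, 3, 4, 5, 6, 0, 1, 2, 3, 4, 5, 6, 0, 1, 2, 3, 4, 5, 6, 0, 1, 2, 3, 4, 5, 6, 0, 1, 2, 3, 4, 5, 6, 0, 1, 2, 3, 4, 5, 6, 0, 1, 2, 3, 4, 5, 6, 0, 3, 4, 6, 3], 3, [], [], 0⟩,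
  ⟨false, [0, 1, 2, 3, 4, 5, 6, 0, 1, 2, 3, 4, 5, 6, 0, 1, 2, 3, 4, 5, 6, 0, 1, 2, 3, 4, 5, 6, 0, 1, 2, 3, 4, 5, 6, 0, 1, 2, 3, 4, 5, 6, 0, 1, 2, 3, 4, 5, 6, 0, 1, 2, 3, 4, 5, 6, 0, 1, 2, 3, 4, 5, 6, 1, 3, 4, 6, 1, 3, 1], 1, [], [], 0⟩,
  ⟨false, [0, 1, 2, 3, 4, 5, 6, 0, 1, 2, 3, 4, 5, 6, 0, 1, 2, 3, 4, 5, 6, 0, 1, 2, 3, 4, 5, 6, 0, 1, 2, 3, 4, 5, 6, 0, 1, 2, 3, 4, 5, 6, 0, 1, 2, 3, 4, 5, 6, 0, 1, 2, 3, 4, 5, 6, 0, 1, 2, 3, 4, 5, 6, 0, 1, 3, 4, 6, 1, 3, 1], 1, [], [], 0⟩,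
  ⟨false, [0, 1, 2, 3, 4, 5, 6, 0, 1, 2, 3, 4, 5, 6, 0, 1, 2, 3, 4, 5, 6, 0, 1, 2, 3, 4, 5, 6, 0, 1, 2, 3, 4, 5, 6, 0, 1, 2, 3, 4, 5, 6, 0, 1, 2, 3, 4, 5, 6, 0, 1, 2, 3, 4, 5, 6, 0, 1, 2, 3, 4, 5, 6, 2, 3, 4, 6, 2, 3, 2], 2, [], [], 0⟩,
  ⟨false, [0, 1, 2, 3, 4, 5, 6, 0, 1, 2, 3, 4, 5, 6, 0, 1, 2, 3, 4, 5, 6, 0, 1, 2, 3, 4, 5, 6, 0, 1, 2, 3, 4, 5, 6, 0, 1, 2, 3, 4, 5, 6, 0, 1, 2, 3, 4, 5, 6, 0, 1, 2, 3, 4, 5, 6, 0, 1, 2, 3, 4, 5, 6, 0, 2, 3, 4, 6, 0, 2, 3, 0, 2, 0], 0, [], [], 0⟩,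
  ⟨true, [], 0, [([0, 2, 3, 4, 5, 6, 1, 3, 4, 5, 2, 3, 4, 1, 3, 2], 0), ([5, 6, 4, 5, 3, 4, 2, 3], 1)], [5, 4, 3, 1, 2, 3, 4, 5], 1⟩,
  ⟨false, [0, 1, 2, 3, 4, 5, 6, 0, 1, 2, 3, 4, 5, 6, 0, 1, 2, 3, 4, 5, 6, 0, 1, 2, 3, 4, 5, 6, 0, 1, 2, 3, 4, 5, 6, 0, 1, 2, 3, 4, 5, 6, 0, 1, 2, 3, 4, 5, 6, 0, 1, 2, 3, 4, 5, 6, 0, 1, 2, 3, 4, 5, 6, 0, 1, 2, 3, 4, 6, 0, 1, 2, 3, 4, 0, 1, 2, 3, 4, 0, 1, 2, 3, 1], 1, [], [], 0⟩,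
  ⟨false, [0, 1, 2, 3, 4, 5, 6, 0, 1, 2, 3, 4, 5, 6, 0, 1, 2, 3, 4, 5, 6, 0, 1, 2, 3, 4, 5, 6, 0, 1, 2, 3, 4, 5, 6, 0, 1, 2, 3, 4, 5, 6, 0, 1, 2, 3, 4, 5, 6, 0, 1, 2, 3, 4, 5, 6, 0, 1, 2, 3, 4, 5, 6, 5, 6, 5], 5, [], [], 0⟩,
  ⟨false, [0, 1, 2, 3, 4, 5, 6, 0, 1, 2, 3, 4, 5, 6, 0, 1, 2, 3, 4, 5, 6, 0, 1, 2, 3, 4, 5, 6, 0, 1, 2, 3, 4, 5, 6, 0, 1, 2, 3, 4, 5, 6, 0, 1, 2, 3, 4, 5, 6, 0, 1, 2, 3, 4, 5, 6, 0, 1, 2, 3, 4, 5, 6, 0, 5, 6, 5], 5, [], [], 0⟩,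
  ⟨false, [0, 1, 2, 3, 4, 5, 6, 0, 1, 2, 3, 4, 5, 6, 0, 1, 2, 3, 4, 5, 6, 0, 1, 2, 3, 4, 5, 6, 0, 1, 2, 3, 4, 5, 6, 0, 1, 2, 3, 4, 5, 6, 0, 1, 2, 3, 4, 5, 6, 0, 1, 2, 3, 4, 5, 6, 0, 1, 2, 3, 4, 5, 6, 1, 5, 6, 5], 5, [], [], 0⟩,
  ⟨false, [0, 1, 2, 3, 4, 5, 6, 0, 1, 2, 3, 4, 5, 6, 0, 1, 2, 3, 4, 5, 6, 0, 1, 2, 3, 4, 5, 6, 0, 1, 2, 3, 4, 5, 6, 0, 1, 2, 3, 4, 5, 6, 0, 1, 2, 3, 4, 5, 6, 0, 1, 2, 3, 4, 5, 6, 0, 1, 2, 3, 4, 5, 6, 0, 1, 5, 6, 5], 5, [], [], 0⟩,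
  ⟨false, [0, 1, 2, 3, 4, 5, 6, 0, 1, 2, 3, 4, 5, 6, 0, 1, 2, 3, 4, 5, 6, 0, 1, 2, 3, 4, 5, 6, 0, 1, 2, 3, 4, 5, 6, 0, 1, 2, 3, 4, 5, 6, 0, 1, 2, 3, 4, 5, 6, 0, 1, 2, 3, 4, 5, 6, 0, 1, 2, 3, 4, 5, 6, 2, 5, 6, 5], 5, [], [], 0⟩,
  ⟨false, [0, 1, 2, 3, 4, 5, 6, 0, 1, 2, 3, 4, 5, 6, 0, 1, 2, 3, 4, 5, 6, 0, 1, 2, 3, 4, 5, 6, 0, 1, 2, 3, 4, 5, 6, 0, 1, 2, 3, 4, 5, 6, 0, 1, 2, 3, 4, 5, 6, 0, 1, 2, 3, 4, 5, 6, 0, 1, 2, 3, 4, 5, 6, 0, 2, 5, 6, 0, 5], 0, [], [], 0⟩,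
  ⟨false, [0, 1, 2, 3, 4, 5, 6, 0, 1, 2, 3, 4, 5, 6, 0, 1, 2, 3, 4, 5, 6, 0, 1, 2, 3, 4, 5, 6, 0, 1, 2, 3, 4, 5, 6, 0, 1, 2, 3, 4, 5, 6, 0, 1, 2, 3, 4, 5, 6, 0, 1, 2, 3, 4, 5, 6, 0, 1, 2, 3, 4, 5, 6, 1, 2, 5, 6, 5], 5, [], [], 0⟩,
  ⟨false, [0, 1, 2, 3, 4, 5, 6, 0, 1, 2, 3, 4, 5, 6, 0, 1, 2, 3, 4, 5, 6, 0, 1, 2, 3, 4, 5, 6, 0, 1, 2, 3, 4, 5, 6, 0, 1, 2, 3, 4, 5, 6, 0, 1, 2, 3, 4, 5, 6, 0, 1, 2, 3, 4, 5, 6, 0, 1, 2, 3, 4, 5, 6, 0, 1, 2, 5, 6, 0, 5], 0, [], [], 0⟩,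
  ⟨false, [0, 1, 2, 3, 4, 5, 6, 0, 1, 2, 3, 4, 5, 6, 0, 1, 2, 3, 4, 5, 6, 0, 1, 2, 3, 4, 5, 6, 0, 1, 2, 3, 4, 5, 6, 0, 1, 2, 3, 4, 5, 6, 0, 1, 2, 3, 4, 5, 6, 0, 1, 2, 3, 4, 5, 6, 0, 1, 2, 3, 4, 5, 6, 3, 5, 6, 5], 5, [], [], 0⟩,
  ⟨false, [0, 1, 2, 3, 4, 5, 6, 0, 1, 2, 3, 4, 5, 6, 0, 1, 2, 3, 4, 5, 6, 0, 1, 2, 3, 4, 5, 6, 0, 1, 2, 3, 4, 5, 6, 0, 1, 2, 3, 4, 5, 6, 0, 1, 2, 3, 4, 5, 6, 0, 1, 2, 3, 4, 5, 6, 0, 1, 2, 3, 4, 5, 6, 0, 3, 5, 6, 5], 5, [], [], 0⟩,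
  ⟨false, [0, 1, 2, 3, 4, 5, 6, 0, 1, 2, 3, 4, 5, 6, 0, 1, 2, 3, 4, 5, 6, 0, 1, 2, 3, 4, 5, 6, 0, 1, 2, 3, 4, 5, 6, 0, 1, 2, 3, 4, 5, 6, 0, 1, 2, 3, 4, 5, 6, 0, 1, 2, 3, 4, 5, 6, 0, 1, 2, 3, 4, 5, 6, 1, 3, 5, 6, 1, 5], 1, [], [], 0⟩,
  ⟨false, [0, 1, 2, 3, 4, 5, 6, 0, 1, 2, 3, 4, 5, 6, 0, 1, 2, 3, 4, 5, 6, 0, 1, 2, 3, 4, 5, 6, 0, 1, 2, 3, 4, 5, 6, 0, 1, 2, 3, 4, 5, 6, 0, 1, 2, 3, 4, 5, 6, 0, 1, 2, 3, 4, 5, 6, 0, 1, 2, 3, 4, 5, 6, 0, 1, 3, 5, 6, 1, 5], 1, [], [], 0⟩,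
  ⟨false, [0, 1, 2, 3, 4, 5, 6, 0, 1, 2, 3, 4, 5, 6, 0, 1, 2, 3, 4, 5, 6, 0, 1, 2, 3, 4, 5, 6, 0, 1, 2, 3, 4, 5, 6, 0, 1, 2, 3, 4, 5, 6, 0, 1, 2, 3, 4, 5, 6, 0, 1, 2, 3, 4, 5, 6, 0, 1, 2, 3, 4, 5, 6, 2, 3, 5, 6, 2, 5], 2, [], [], 0⟩,
  ⟨false, [0, 1, 2, 3, 4, 5, 6, 0, 1, 2, 3, 4, 5, 6, 0, 1, 2, 3, 4, 5, 6, 0, 1, 2, 3, 4, 5, 6, 0, 1, 2, 3, 4, 5, 6, 0, 1, 2, 3, 4, 5, 6, 0, 1, 2, 3, 4, 5, 6, 0, 1, 2, 3, 4, 5, 6, 0, 1, 2, 3, 4, 5, 6, 0, 2, 3, 5, 6, 0, 2, 5, 0], 0, [], [], 0⟩,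
  ⟨false, [0, 1, 2, 3, 4, 5, 6, 0, 1, 2, 3, 4, 5, 6, 0, 1, 2, 3, 4, 5, 6, 0, 1, 2, 3, 4, 5, 6, 0, 1, 2, 3, 4, 5, 6, 0, 1, 2, 3, 4, 5, 6, 0, 1, 2, 3, 4, 5, 6, 0, 1, 2, 3, 4, 5, 6, 0, 1, 2, 3, 4, 5, 6, 1, 2, 3, 5, 6, 1, 2, 3, 5], 1, [], [], 0⟩,
  ⟨false, [0, 1, 2, 3, 4, 5, 6, 0, 1, 2, 3, 4, 5, 6, 0, 1, 2, 3, 4, 5, 6, 0, 1, 2, 3, 4, 5, 6, 0, 1, 2, 3, 4, 5, 6, 0, 1, 2, 3, 4, 5, 6, 0, 1, 2, 3, 4, 5, 6, 0, 1, 2, 3, 4, 5, 6, 0, 1, 2, 3, 4, 5, 6, 0, 1, 2, 3, 5, 6, 0, 1, 2, 3, 5, 0, 2], 0, [], [], 0⟩,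
  ⟨false, [0, 1, 2, 3, 4, 5, 6, 0, 1, 2, 3, 4, 5, 6, 0, 1, 2, 3, 4, 5, 6, 0, 1, 2, 3, 4, 5, 6, 0, 1, 2, 3, 4, 5, 6, 0, 1, 2, 3, 4, 5, 6, 0, 1, 2, 3, 4, 5, 6, 0, 1, 2, 3, 4, 5, 6, 0, 1, 2, 3, 4, 5, 6, 4, 5, 6, 4, 5, 4], 4, [], [], 0⟩,
  ⟨false, [0, 1, 2, 3, 4, 5, 6, 0, 1, 2, 3, 4, 5, 6, 0, 1, 2, 3, 4, 5, 6, 0, 1, 2, 3, 4, 5, 6, 0, 1, 2, 3, 4, 5, 6, 0, 1, 2, 3, 4, 5, 6, 0, 1, 2, 3, 4, 5, 6, 0, 1, 2, 3, 4, 5, 6, 0, 1, 2, 3, 4, 5, 6, 0, 4, 5, 6, 4, 5, 4], 4, [], [], 0⟩,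
  ⟨false, [0, 1, 2, 3, 4, 5, 6, 0, 1, 2, 3, 4, 5, 6, 0, 1, 2, 3, 4, 5, 6, 0, 1, 2, 3, 4, 5, 6, 0, 1, 2, 3, 4, 5, 6, 0, 1, 2, 3, 4, 5, 6, 0, 1, 2, 3, 4, 5, 6, 0, 1, 2, 3, 4, 5, 6, 0, 1, 2, 3, 4, 5, 6, 1, 4, 5, 6, 4, 5, 4], 4, [], [], 0⟩,
  ⟨false, [0, 1, 2, 3, 4, 5, 6, 0, 1, 2, 3, 4, 5, 6, 0, 1, 2, 3, 4, 5, 6, 0, 1, 2, 3, 4, 5, 6, 0, 1, 2, 3, 4, 5, 6, 0, 1, 2, 3, 4, 5, 6, 0, 1, 2, 3, 4, 5, 6, 0, 1, 2, 3, 4, 5, 6, 0, 1, 2, 3, 4, 5, 6, 0, 1, 4, 5, 6, 4, 5, 4], 4, [], [], 0⟩,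
  ⟨false, [0, 1, 2, 3, 4, 5, 6, 0, 1, 2, 3, 4, 5, 6, 0, 1, 2, 3, 4, 5, 6, 0, 1, 2, 3, 4, 5, 6, 0, 1, 2, 3, 4, 5, 6, 0, 1, 2, 3, 4, 5, 6, 0, 1, 2, 3, 4, 5, 6, 0, 1, 2, 3, 4, 5, 6, 0, 1, 2, 3, 4, 5, 6, 2, 4, 5, 6, 4, 5, 4], 4, [], [], 0⟩,
  ⟨false, [0, 1, 2, 3, 4, 5, 6, 0, 1, 2, 3, 4, 5, 6, 0, 1, 2, 3, 4, 5, 6, 0, 1, 2, 3, 4, 5, 6, 0, 1, 2, 3, 4, 5, 6, 0, 1, 2, 3, 4, 5, 6, 0, 1, 2, 3, 4, 5, 6, 0, 1, 2, 3, 4, 5, 6, 0, 1, 2, 3, 4, 5, 6, 0, 2, 4, 5, 6, 0, 4, 5, 4], 0, [], [], 0⟩,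
  ⟨false, [0, 1, 2, 3, 4, 5, 6, 0, 1, 2, 3, 4, 5, 6, 0, 1, 2, 3, 4, 5, 6, 0, 1, 2, 3, 4, 5, 6, 0, 1, 2, 3, 4, 5, 6, 0, 1, 2, 3, 4, 5, 6, 0, 1, 2, 3, 4, 5, 6, 0, 1, 2, 3, 4, 5, 6, 0, 1, 2, 3, 4, 5, 6, 1, 2, 4, 5, 6, 4, 5, 4], 4, [], [], 0⟩,
  ⟨false, [0, 1, 2, 3, 4, 5, 6, 0, 1, 2, 3, 4, 5, 6, 0, 1, 2, 3, 4, 5, 6, 0, 1, 2, 3, 4, 5, 6, 0, 1, 2, 3, 4, 5, 6, 0, 1, 2, 3, 4, 5, 6, 0, 1, 2, 3, 4, 5, 6, 0, 1, 2, 3, 4, 5, 6, 0, 1, 2, 3, 4, 5, 6, 0, 1, 2, 4, 5, 6, 0, 4, 5, 4], 0, [], [], 0⟩,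
  ⟨false, [0, 1, 2, 3, 4, 5, 6, 0, 1, 2, 3, 4, 5, 6, 0, 1, 2, 3, 4, 5, 6, 0, 1, 2, 3, 4, 5, 6, 0, 1, 2, 3, 4, 5, 6, 0, 1, 2, 3, 4, 5, 6, 0, 1, 2, 3, 4, 5, 6, 0, 1, 2, 3, 4, 5, 6, 0, 1, 2, 3, 4, 5, 6, 3, 4, 5, 6, 3, 4, 5, 3, 4, 3], 3, [], [], 0⟩,
  ⟨false, [0, 1, 2, 3, 4, 5, 6, 0, 1, 2, 3, 4, 5, 6, 0, 1, 2, 3, 4, 5, 6, 0, 1, 2, 3, 4, 5, 6, 0, 1, 2, 3, 4, 5, 6, 0, 1, 2, 3, 4, 5, 6, 0, 1, 2, 3, 4, 5, 6, 0, 1, 2, 3, 4, 5, 6, 0, 1, 2, 3, 4, 5, 6, 0, 3, 4, 5, 6, 3, 4, 5, 3, 4, 3], 3, [], [], 0⟩,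
  ⟨false, [0, 1, 2, 3, 4, 5, 6, 0, 1, 2, 3, 4, 5, 6, 0, 1, 2, 3, 4, 5, 6, 0, 1, 2, 3, 4, 5, 6, 0, 1, 2, 3, 4, 5, 6, 0, 1, 2, 3, 4, 5, 6, 0, 1, 2, 3, 4, 5, 6, 0, 1, 2, 3, 4, 5, 6, 0, 1, 2, 3, 4, 5, 6, 1, 3, 4, 5, 6, 1, 3, 4, 5, 1, 3, 4, 1, 3, 1], 1, [], [], 0⟩,
  ⟨false, [0, 1, 2, 3, 4, 5, 6, 0, 1, 2, 3, 4, 5, 6, 0, 1, 2, 3, 4, 5, 6, 0, 1, 2, 3, 4, 5, 6, 0, 1, 2, 3, 4, 5, 6, 0, 1, 2, 3, 4, 5, 6, 0, 1, 2, 3, 4, 5, 6, 0, 1, 2, 3, 4, 5, 6, 0, 1, 2, 3, 4, 5, 6, 0, 1, 3, 4, 5, 6, 1, 3, 4, 5, 1, 3, 4, 1, 3, 1], 1, [], [], 0⟩,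
  ⟨false, [0, 1, 2, 3, 4, 5, 6, 0, 1, 2, 3, 4, 5, 6, 0, 1, 2, 3, 4, 5, 6, 0, 1, 2, 3, 4, 5, 6, 0, 1, 2, 3, 4, 5, 6, 0, 1, 2, 3, 4, 5, 6, 0, 1, 2, 3, 4, 5, 6, 0, 1, 2, 3, 4, 5, 6, 0, 1, 2, 3, 4, 5, 6, 2, 3, 4, 5, 6, 2, 3, 4, 5, 2, 3, 4, 2, 3, 2], 2, [], [], 0⟩,
  ⟨false, [0, 1, 2, 3, 4, 5, 6, 0, 1, 2, 3, 4, 5, 6, 0, 1, 2, 3, 4, 5, 6, 0, 1, 2, 3, 4, 5, 6, 0, 1, 2, 3, 4, 5, 6, 0, 1, 2, 3, 4, 5, 6, 0, 1, 2, 3, 4, 5, 6, 0, 1, 2, 3, 4, 5, 6, 0, 1, 2, 3, 4, 5, 6, 0, 2, 3, 4, 5, 6, 0, 2, 3, 4, 5, 0, 2, 3, 4, 0, 2, 3, 0, 2, 0], 0, [], [], 0⟩,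
  ⟨true, [], 0, [([0, 2, 3, 4, 5, 6, 1, 3, 4, 5, 2, 3, 4, 1, 3, 2], 0)], [], 0⟩,
  ⟨true, [], 0, [], [], 9⟩
]

/-- the table as a function -/
def e7Tab (k : ℕ) : JEntry := e7TabL.getD k ⟨false, [], 0, [], [], 0⟩

set_option maxRecDepth 100000 in
theorem e7_chk : ∀ k < 2 ^ fdE7.l, chk fdE7 fxE7 e7Std (e7Tab k) k = true := by decide +kernel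

end Cfsg.Agent.Lib.H27.E7Inv
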