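import Mathlib

/-!
# Counting conjugacy classes of elements of order two from a list of representatives
-/

set_option autoImplicit false

namespace Cfsg.Agent.Lib.H27.E7Inv

/-- if `y 0, …, y (k-1)` are pairwise non-conjugate elements of order two and every element of order two is conjugate
to one of them, then there are exactly `k` classes of elements of order two -/
theorem ncard_classes_of_reps {G : Type*} [Group G] (k : ℕ) (y : Fin k → G) (hy : ∀ i, orderOf (y i) = 2)
    (hne : ∀ i j, IsConj (y i) (y j) → i = j) (hall : ∀ g : G, orderOf g = 2 → ∃ i, IsConj g (y i)) :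
    (ConjClasses.mk '' {g : G | orderOf g = 2}).ncard = k := by
  have e : ConjClasses.mk '' {g : G | orderOf g = 2} = Set.range fun i : Fin k => ConjClasses.mk (y i) := by
    ext c
    constructor
    · rintro ⟨g, hg, rfl⟩
      obtain ⟨i, hi⟩ := hall g hg
      exact ⟨i, (ConjClasses.mk_eq_mk_iff_isConj.mpr hi).symm⟩
    · rintro ⟨i, rfl⟩
      exact ⟨y i, hy i, rfl⟩
  have hinj : Function.Injective fun i : Fin k => ConjClasses.mk (y i) := by
    intro i j h
    exact hne i j (ConjClasses.mk_eq_mk_iff_isConj.mp h)
  rw [e, ← Set.image_univ, Set.ncard_image_of_injective _ hinj, Set.ncard_univ, Nat.card_eq_fintype_card,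
    Fintype.card_fin]

end Cfsg.Agent.Lib.H27.E7Inv
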