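import Mathlib
import Cfsg.Prelude.Def_LieChev
import Cfsg.Agent.Lib.H27.E7InvFus
import Cfsg.Agent.Lib.H27.E7InvTab
import Cfsg.Agent.Lib.H27.NcardClasses
import Cfsg.Agent.Lib.H29.ChevDiagOrd
import Cfsg.Agent.Lib.H12.InvCell4
import Cfsg.Agent.Lib.H10.ICCOMB

/-!
# `E₇(F)`, `F` finite of characteristic two: exactly five classes of involutions

By the generic maximal-cell argument (helper12, `InvCell.exists_conj_monomial`) every involution of the group is
conjugate to an involution `m` of the monomial subgroup whose permutation of the roots fixes or makes negative each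
fundamental root. The table `e7Tab`, the fusions and the ranks then give the count of the classes.
-/

set_option autoImplicit false
set_option linter.unusedSectionVars false
set_option linter.unusedSimpArgs false
set_option linter.unusedVariables false

namespace Cfsg.Agent.Lib.H27.E7Inv

open Cfsg Cfsg.Lie Matrix Cfsg.Agent.Lib.H29.Chev Cfsg.Agent.Lib.H6.Inv Cfsg.Agent.Lib.H27.InvTab

variable (F : Type*) [Field F]

variable [Fintype F] [CharP F 2]

theorem e7_diag_odd : Odd (Nat.card (chevE7.diagonalSubgroup F)) := by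
  have h := card_diag_E7 (F := F)
  have hq : Nat.card F % 2 = 0 := by
    rw [Nat.card_eq_fintype_card]
    exact FiniteField.even_card_iff_char_two.mp (ringChar.eq F 2)
  have hpos : 0 < Nat.card F := Nat.card_pos
  have hodd : Odd ((Nat.card F - 1) ^ 7) := by
    apply Odd.pow
    rw [Nat.odd_iff]; omega
  rw [← h] at hodd
  exact (Nat.odd_mul.mp hodd).2

/-- an involution of `N` satisfying the maximal cell conditions is trivial or conjugate to one of the five
representatives -/
theorem e7_conj_rep (m : GL chevE7.Idx F) (hm : m ∈ chevE7.monomialSubgroup F) (π : ℕ → ℕ)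
    (hπ : cert12_E7.c6.c2.Perm m π) (hm2 : m * m = 1)
    (hJ : ∀ i < fdE7.l, π (fdE7.simples.getD i 0) < fdE7.n / 2 ∨
      π (fdE7.simples.getD i 0) = fdE7.simples.getD i 0)
    (hcomb : ∀ r, r < fdE7.n → fdE7.n / 2 ≤ r → fdE7.n / 2 ≤ π r →
      ∀ j < fdE7.l, π (fdE7.simples.getD j 0) < fdE7.n / 2 → fdE7.rcZ fxE7 r j = 0) :
    m = 1 ∨ ∃ i : Fin 5, ∃ h ∈ chevE7.group F, h * m * h⁻¹ = e7Y F i := by
  obtain ⟨τ, h, hh, hc⟩ := conj_std (F := F) cert12_E7 (e7_diag_odd F) e7Std e7Tab e7_chk m hm π hπ hm2 hJ hcomb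
  have fuse : ∀ (S : List ℕ) (i : Fin 5), h * m * h⁻¹ = wordG cert12_E7.c6.c2 F S →
      (∃ k ∈ chevE7.group F, k * wordG cert12_E7.c6.c2 F S * k⁻¹ = e7Y F i) →
      ∃ i : Fin 5, ∃ h ∈ chevE7.group F, h * m * h⁻¹ = e7Y F i := by
    intro S i h1 h2
    obtain ⟨k, hk, h2⟩ := h2
    refine ⟨i, k * h, mul_mem hk hh, ?_⟩
    have : k * h * m * (k * h)⁻¹ = k * (h * m * h⁻¹) * k⁻¹ := by group
    rw [this, h1, h2]
  by_cases hτ : τ < 9
  · right
    interval_cases τ
    · exact ⟨0, h, hh, hc⟩
    · exact ⟨1, h, hh, hc⟩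
    · exact ⟨2, h, hh, hc⟩
    · exact ⟨3, h, hh, hc⟩
    · exact fuse _ 3 hc (e7_fus_4p F)
    · exact ⟨4, h, hh, hc⟩
    · exact fuse _ 4 hc (e7_fus_5 F)
    · exact fuse _ 4 hc (e7_fus_6 F)
    · exact fuse _ 4 hc (e7_fus_7 F)
  · left
    have e : e7Std.getD τ [] = [] := List.getD_eq_default _ _ (by simp [e7Std]; omega)
    rw [e, wordG_nil] at hc
    have : m = h⁻¹ * (h * m * h⁻¹) * h := by group
    rw [this, hc]
    group

set_option maxRecDepth 100000 in
/-- the tables of `E₇`: a positive root which is not fundamental is lowered by a fundamental reflection -/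
theorem e7_lowStmt : Cfsg.Agent.Lib.H12.InvCell.LowStmt fdE7 fxE7 := by
  unfold Cfsg.Agent.Lib.H12.InvCell.LowStmt
  decide +kernel

/-- the count of the classes of involutions of `E₇(F)` -/
theorem e7_ncard :
    (ConjClasses.mk '' {g : ↥(chevE7.group F) | orderOf g = 2}).ncard = 5 := by
  apply ncard_classes_of_reps 5 (fun i => (⟨e7Y F i, e7Y_mem F i⟩ : ↥(chevE7.group F)))
  · intro i
    rw [Subgroup.orderOf_mk]
    exact e7Y_orderOf F i
  · intro i j hij
    obtain ⟨c, hc⟩ := isConj_iff.mp hij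
    have := congrArg Subtype.val hc
    simp only [Subgroup.coe_mul, Subgroup.coe_inv] at this
    exact e7Y_not_conj F i j c.1 this
  · intro g hg
    have hg2 : g.1 * g.1 = 1 := by
      have h := pow_orderOf_eq_one g
      rw [hg, sq] at h
      have := congrArg Subtype.val h
      simpa using this
    obtain ⟨h, hh, m, hm, hc, π, hπ, hlin, hinv, hJ, hcomb⟩ :=
      Cfsg.Agent.Lib.H12.InvCell.exists_conj_monomial (F := F) cert12_E7
        (Cfsg.Agent.Lib.H12.InvCell.suppStmt cert12_E7)
        (fun π hlin hlt hinv hJ r hr hpos hπr => Cfsg.Agent.Lib.H10.IC.comb cert12_E7 π hlin hlt hinv hJ r hr hpos hπr)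
        e7_lowStmt g.1 g.2 hg2
    have hm2 : m * m = 1 := by
      rw [← hc]
      calc h * g.1 * h⁻¹ * (h * g.1 * h⁻¹) = h * (g.1 * g.1) * h⁻¹ := by group
        _ = 1 := by rw [hg2]; group
    rcases e7_conj_rep F m hm π hπ hm2 hJ (fun r hr hpos hπr => (hcomb r hr hpos hπr).2) with h1 | ⟨i, k, hk, hki⟩
    · exfalso
      rw [h1] at hc
      have : g.1 = 1 := by
        have e : g.1 = h⁻¹ * (h * g.1 * h⁻¹) * h := by group
        rw [e, hc]; group
      have hg1 : g = 1 := Subtype.ext this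
      rw [hg1, orderOf_one] at hg
      omega
    · refine ⟨i, isConj_iff.mpr ⟨⟨k * h, mul_mem hk hh⟩, ?_⟩⟩
      apply Subtype.ext
      simp only [Subgroup.coe_mul, Subgroup.coe_inv]
      rw [← hki, ← hc]
      group

end Cfsg.Agent.Lib.H27.E7Inv
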