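import Mathlib
import Cfsg.Agent.S4023
import Cfsg.Agent.S0215

/-!
# S4020, piece TWO (architect helper19)

The 2-part of an element `m` of a subgroup generated by two elements of odd prime order `p` whose square
inverts an element of order `p`: impossible when the `2`-subgroups and the `p`-subgroups of equal order are
conjugate.
-/

set_option autoImplicit false

namespace Cfsg.Agent.Lib.H27.EQC

/-- the unique involution of the quaternion group of order 8 -/
theorem q8_unique_involution :
    ∀ w : QuaternionGroup 2, w ^ 2 = 1 → w ≠ 1 → w = QuaternionGroup.a 2 := by decide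

theorem q8_pow_four : ∀ w : QuaternionGroup 2, w ^ 4 = 1 := by decide

/-- a `2`-element of a subgroup of odd order is trivial -/
theorem eq_one_of_two_pow_of_odd {G : Type*} [Group G] [Finite G] (N : Subgroup G)
    (hN : Odd (Nat.card N)) {w : G} (hw : w ∈ N) {t : ℕ} (hwt : w ^ 2 ^ t = 1) : w = 1 := by
  have h1 : orderOf w ∣ 2 ^ t := orderOf_dvd_of_pow_eq_one hwt
  have h2 : orderOf w ∣ Nat.card N := by
    have := orderOf_dvd_natCard (⟨w, hw⟩ : N)
    rwa [Subgroup.orderOf_mk] at this
  have h3 : Nat.Coprime (2 ^ t) (Nat.card N) :=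
    Nat.Coprime.pow_left t (Nat.coprime_two_left.mpr hN)
  have h4 : orderOf w = 1 := Nat.eq_one_of_dvd_coprimes h3 h1 h2
  exact orderOf_eq_one_iff.mp h4

/-- **TWO**. -/
theorem two_contra {G : Type*} [Group G] [Finite G] {p : ℕ} [Fact p.Prime] (hp2 : p ≠ 2)
    (hC2 : ∀ H K : Subgroup G, IsPGroup 2 H → IsPGroup 2 K → Nat.card H = Nat.card K →
      ∃ g : G, K = H.map (MulAut.conj g).toMonoidHom)
    (hCp : ∀ H K : Subgroup G, IsPGroup p H → IsPGroup p K → Nat.card H = Nat.card K →
      ∃ g : G, K = H.map (MulAut.conj g).toMonoidHom)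
    (x y z m : G) (hx : x ^ p = 1) (hy : y ^ p = 1) (hz1 : z ≠ 1) (hz : z ^ p = 1)
    (hm : m ∈ Subgroup.closure ({x, y} : Set G))
    (hmz : (m * m) * z * (m * m)⁻¹ = z⁻¹) : False := by
  have hpp : p.Prime := Fact.out
  have hpodd : Odd p := hpp.odd_of_ne_two hp2
  -- the 2-part of `m`
  obtain ⟨s, r, hr, hsr⟩ := Nat.exists_eq_two_pow_mul_odd (orderOf_pos m).ne'
  obtain ⟨m', hm'⟩ : ∃ m' : G, m' = m ^ r := ⟨_, rfl⟩
  have hm'2 : m' ^ 2 ^ s = 1 := by
    rw [hm', ← pow_mul, mul_comm, ← hsr, pow_orderOf_eq_one]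
  have hm'mem : m' ∈ Subgroup.closure ({x, y} : Set G) := by rw [hm']; exact pow_mem hm r
  obtain ⟨c, hc⟩ : ∃ c : G, c = m * m := ⟨_, rfl⟩
  have hcz : c * z * c⁻¹ = z⁻¹ := by rw [hc]; exact hmz
  have hu : m' * m' = c ^ r := by
    rw [hm', hc, (Commute.refl m).mul_pow]
  -- `c * c` commutes with `z`
  have hcc : (c * c) * z = z * (c * c) := by
    have h1 : c * z = z⁻¹ * c := by
      have := hcz
      rw [mul_inv_eq_iff_eq_mul] at this
      exact this
    have h2 : c * z⁻¹ = z * c := by
      have : c * z⁻¹ * c⁻¹ = z := by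
        have := congrArg (fun t => t⁻¹) hcz
        simp only [mul_inv_rev, inv_inv] at this
        rw [← mul_assoc] at this
        exact this
      rw [mul_inv_eq_iff_eq_mul] at this
      exact this
    calc c * c * z = c * (c * z) := by rw [mul_assoc]
      _ = c * (z⁻¹ * c) := by rw [h1]
      _ = (c * z⁻¹) * c := by rw [mul_assoc]
      _ = z * c * c := by rw [h2]
      _ = z * (c * c) := by rw [mul_assoc]
  obtain ⟨j, hj⟩ := hr
  have huz : (m' * m') * z * (m' * m')⁻¹ = z⁻¹ := by
    have hcomm : Commute ((c * c) ^ j) z := (show Commute (c * c) z from hcc).pow_left j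
    have e : c ^ r = (c * c) ^ j * c := by
      rw [hj, pow_succ, pow_mul, pow_two]
    rw [hu, e]
    calc (c * c) ^ j * c * z * ((c * c) ^ j * c)⁻¹
        = (c * c) ^ j * (c * z * c⁻¹) * ((c * c) ^ j)⁻¹ := by group
      _ = (c * c) ^ j * z⁻¹ * ((c * c) ^ j)⁻¹ := by rw [hcz]
      _ = z⁻¹ := by
        rw [(hcomm.inv_right).eq, mul_assoc, mul_inv_cancel, mul_one]
  -- `z ≠ z⁻¹`
  have hzz : z⁻¹ ≠ z := by
    intro h
    have h2 : z ^ 2 = 1 := by
      rw [pow_two]
      nth_rewrite 1 [← h]
      exact inv_mul_cancel z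
    have h3 : z ^ Nat.gcd 2 p = 1 := pow_gcd_eq_one.mpr ⟨h2, hz⟩
    have h4 : Nat.gcd 2 p = 1 := Nat.coprime_two_left.mpr hpodd
    rw [h4, pow_one] at h3
    exact hz1 h3
  have hu1 : m' * m' ≠ 1 := by
    intro h
    rw [h, one_mul, inv_one, mul_one] at huz
    exact hzz huz.symm
  have hm'1 : m' ≠ 1 := by
    intro h
    rw [h, one_mul] at hu1
    exact hu1 rfl
  -- a Sylow 2-subgroup containing `m'`
  have hzp : IsPGroup 2 (Subgroup.zpowers m') := by
    obtain ⟨t, -, ht⟩ := (Nat.dvd_prime_pow Nat.prime_two).mp (orderOf_dvd_of_pow_eq_one hm'2)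
    exact IsPGroup.of_card (n := t) (by rw [Nat.card_zpowers, ht])
  obtain ⟨S, hS⟩ := hzp.exists_le_sylow
  have hm'S : m' ∈ S := hS (Subgroup.mem_zpowers m')
  -- elements of order dividing `p` lie in a normal subgroup `N` as soon as `z` does
  have key : ∀ N : Subgroup G, N.Normal → Odd (Nat.card N) →
      (∀ w : G, w ^ p = 1 → w ∈ N) → False := by
    intro N _ hodd hN
    have hle : Subgroup.closure ({x, y} : Set G) ≤ N := by
      rw [Subgroup.closure_le]
      intro w hw
      rcases hw with rfl | rfl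
      · exact hN _ hx
      · exact hN _ hy
    exact hm'1 (eq_one_of_two_pow_of_odd N hodd (hle hm'mem) hm'2)
  rcases Cfsg.Agent.S4023.result hC2 S with hcyc | hel | ⟨-, ⟨e⟩⟩ | ⟨h22, -⟩
  · -- cyclic Sylow 2-subgroup: normal 2-complement
    have h2G : 2 ∣ Nat.card G := by
      have h1 : orderOf m' ∣ Nat.card G := orderOf_dvd_natCard m'
      obtain ⟨t, -, ht⟩ := (Nat.dvd_prime_pow Nat.prime_two).mp (orderOf_dvd_of_pow_eq_one hm'2)
      have ht0 : t ≠ 0 := by
        intro h0
        rw [h0, pow_zero] at ht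
        exact hm'1 (orderOf_eq_one_iff.mp ht)
      exact dvd_trans (dvd_trans (dvd_pow_self 2 ht0) (by rw [ht])) h1
    have hmin : (Nat.card G).minFac = 2 := (Nat.minFac_eq_two_iff _).mpr h2G
    have hNC := hcyc.normalizer_le_centralizer hmin
    have hKodd : Odd (Nat.card (MonoidHom.transferSylow S hNC).ker) := by
      have := MonoidHom.not_dvd_card_ker_transferSylow S hNC
      exact Nat.odd_iff.mpr (Nat.two_dvd_ne_zero.mp this)
    refine key (MonoidHom.transferSylow S hNC).ker inferInstance hKodd ?_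
    intro w hw
    rw [MonoidHom.mem_ker]
    have h1 : (MonoidHom.transferSylow S hNC w) ^ p = 1 := by rw [← map_pow, hw, map_one]
    obtain ⟨k, hk⟩ := (IsPGroup.iff_orderOf.mp S.2) (MonoidHom.transferSylow S hNC w)
    have h2 : orderOf (MonoidHom.transferSylow S hNC w) ∣ p := orderOf_dvd_of_pow_eq_one h1
    have h3 : Nat.Coprime (2 ^ k) p :=
      Nat.Coprime.pow_left k (Nat.coprime_two_left.mpr hpodd)
    have h4 : orderOf (MonoidHom.transferSylow S hNC w) = 1 :=
      Nat.eq_one_of_dvd_coprimes h3 (by rw [hk]) h2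
    exact orderOf_eq_one_iff.mp h4
  · -- elementary abelian
    have := hel.2 m' hm'S
    rw [pow_two] at this
    exact hu1 this
  · -- quaternion of order 8
    have huS : m' * m' ∈ S := S.mul_mem hm'S hm'S
    have hm'4 : m' ^ 4 = 1 := by
      have h := q8_pow_four (e ⟨m', hm'S⟩)
      rw [← map_pow, MulEquiv.map_eq_one_iff] at h
      have := congrArg Subtype.val h
      rwa [Subgroup.coe_pow, Subgroup.coe_one] at this
    have hu2 : (m' * m') ^ 2 = 1 := by
      rw [← pow_two, ← pow_mul]
      exact hm'4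
    have hord : orderOf (m' * m') = 2 := orderOf_eq_prime hu2 hu1
    -- the unique involution of `S`
    have huniq : ∀ w : G, w ∈ S → w ^ 2 = 1 → w ≠ 1 → w = m' * m' := by
      have hinv : ∀ w : G, ∀ hw : w ∈ S, w ^ 2 = 1 → w ≠ 1 →
          e ⟨w, hw⟩ = QuaternionGroup.a 2 := by
        intro w hw hw2 hw1
        apply q8_unique_involution
        · rw [← map_pow, MulEquiv.map_eq_one_iff]
          apply Subtype.ext
          rw [Subgroup.coe_pow, Subgroup.coe_one]
          exact hw2
        · intro h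
          rw [MulEquiv.map_eq_one_iff] at h
          exact hw1 (congrArg Subtype.val h)
      intro w hw hw2 hw1
      have h1 := hinv w hw hw2 hw1
      have h2 := hinv (m' * m') huS hu2 hu1
      have := e.injective (h1.trans h2.symm)
      exact congrArg Subtype.val this
    have hiso : ∀ g : G, g * (m' * m') * g⁻¹ ∈ S → g * (m' * m') * g⁻¹ = m' * m' := by
      intro g hg
      apply huniq _ hg
      · rw [pow_two]
        calc g * (m' * m') * g⁻¹ * (g * (m' * m') * g⁻¹)
            = g * ((m' * m') * (m' * m')) * g⁻¹ := by group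
          _ = 1 := by rw [← pow_two, hu2, mul_one, mul_inv_cancel]
      · intro h
        apply hu1
        have : m' * m' = g⁻¹ * (g * (m' * m') * g⁻¹) * g := by group
        rw [this, h, mul_one, inv_mul_cancel]
    obtain ⟨N, hNn, hNodd, hN⟩ := Cfsg.Agent.S0215.result S (m' * m') hord huS hiso
    -- `z ∈ N`
    have hzN2 : z⁻¹ * z⁻¹ ∈ N := by
      have := hN z
      rwa [huz] at this
    have hzN : z ∈ N := by
      obtain ⟨k, hk⟩ := hpodd
      have e1 : (z⁻¹ * z⁻¹) ^ k = z := by
        have h1 : (z⁻¹ * z⁻¹) ^ k = (z ^ (2 * k))⁻¹ := by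
          rw [← pow_two, ← pow_mul, inv_pow]
        have h2 : z ^ (2 * k) * z = 1 := by
          rw [← pow_succ, ← hk]; exact hz
        rw [h1]
        exact inv_eq_of_mul_eq_one_right h2
      rw [← e1]
      exact pow_mem hzN2 k
    refine key N hNn hNodd ?_
    intro w hw
    rcases eq_or_ne w 1 with rfl | hw1
    · exact N.one_mem
    have ow : orderOf w = p := orderOf_eq_prime hw hw1
    have oz : orderOf z = p := orderOf_eq_prime hz hz1
    have hpz : IsPGroup p (Subgroup.zpowers z) :=
      IsPGroup.of_card (n := 1) (by rw [Nat.card_zpowers, oz, pow_one])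
    have hpw : IsPGroup p (Subgroup.zpowers w) :=
      IsPGroup.of_card (n := 1) (by rw [Nat.card_zpowers, ow, pow_one])
    obtain ⟨g, hg⟩ := hCp _ _ hpz hpw (by rw [Nat.card_zpowers, Nat.card_zpowers, oz, ow])
    have hwm : w ∈ (Subgroup.zpowers z).map (MulAut.conj g).toMonoidHom := by
      rw [← hg]; exact Subgroup.mem_zpowers w
    obtain ⟨v, hv, hvw⟩ := Subgroup.mem_map.mp hwm
    have hvN : v ∈ N := by
      obtain ⟨i, rfl⟩ := Subgroup.mem_zpowers_iff.mp hv
      exact zpow_mem hzN i
    rw [← hvw]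
    change g * v * g⁻¹ ∈ N
    exact hNn.conj_mem v hvN g
  · exact h22 rfl

end Cfsg.Agent.Lib.H27.EQC
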