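import Mathlib
import Cfsg.Prelude.Def_Transfer
import Cfsg.Agent.Lib.H1.PGroupBasic

/-!
helper27 library: the quadratic form `x ↦ x²` and the commutator pairing of an extraspecial
2-group, with values in `ZMod 2`.
-/

set_option autoImplicit false

namespace Cfsg.Agent.Lib.H27.ExtraQuad

open Cfsg
open scoped commutatorElement

variable {R : Type*} [Group R]

/-- indicator of being non-trivial -/
noncomputable def chi (x : R) : ZMod 2 := by
  classical exact if x = 1 then 0 else 1

theorem chi_eq_zero_iff (x : R) : chi x = 0 ↔ x = 1 := by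
  classical
  unfold chi
  by_cases h : x = 1
  · simp [h]
  · simp [h]

theorem chi_one : chi (1 : R) = 0 := (chi_eq_zero_iff 1).2 rfl

/-- squares -/
noncomputable def s (x : R) : ZMod 2 := chi (x ^ 2)

/-- commutators -/
noncomputable def b (x y : R) : ZMod 2 := chi ⁅x, y⁆

theorem chi_congr {R' : Type*} [Group R'] {x : R} {y : R'} (h : x = 1 ↔ y = 1) : chi x = chi y := by
  classical
  unfold chi
  by_cases hx : x = 1
  · rw [if_pos hx, if_pos (h.1 hx)]
  · rw [if_neg hx, if_neg (fun hy => hx (h.2 hy))]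

theorem b_symm (x y : R) : b x y = b y x := by
  unfold b
  apply chi_congr
  rw [commutatorElement_eq_one_iff_mul_comm, commutatorElement_eq_one_iff_mul_comm]
  exact eq_comm

section
variable [Finite R] (hR : IsExtraspecial 2 R)
include hR

theorem sq_mem_center (x : R) : x ^ 2 ∈ Subgroup.center R := by
  haveI : Fact (Nat.Prime 2) := ⟨Nat.prime_two⟩
  obtain ⟨⟨hp, hfr, hcomm⟩, hcard⟩ := hR
  have h1 := Cfsg.Agent.Lib.H1.isPGroup_pow_mem_frattini hp x
  rwa [hfr] at h1

theorem comm_mem_center (x y : R) : ⁅x, y⁆ ∈ Subgroup.center R := by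
  obtain ⟨⟨hp, hfr, hcomm⟩, hcard⟩ := hR
  rw [← hcomm]
  exact Subgroup.commutator_mem_commutator (Subgroup.mem_top x) (Subgroup.mem_top y)

theorem center_sq {ζ : R} (hζ : ζ ∈ Subgroup.center R) : ζ ^ 2 = 1 := by
  obtain ⟨⟨hp, hfr, hcomm⟩, hcard⟩ := hR
  have h := pow_card_eq_one' (G := Subgroup.center R) (x := ⟨ζ, hζ⟩)
  rw [hcard] at h
  exact congrArg Subtype.val h

theorem center_cases : ∃ c : R, c ∈ Subgroup.center R ∧ c ≠ 1 ∧
    ∀ ζ ∈ Subgroup.center R, ζ = 1 ∨ ζ = c := by
  classical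
  obtain ⟨⟨hp, hfr, hcomm⟩, hcard⟩ := hR
  have h2 : Nat.card (Subgroup.center R) = 2 := hcard
  obtain ⟨⟨c, hc⟩, hc1, hall⟩ := (Nat.card_eq_two_iff' (1 : Subgroup.center R)).1 h2
  refine ⟨c, hc, fun h => hc1 (Subtype.ext h), ?_⟩
  intro ζ hζ
  by_cases h1 : ζ = 1
  · exact Or.inl h1
  · right
    have := hall ⟨ζ, hζ⟩ (fun h => h1 (congrArg Subtype.val h))
    exact congrArg Subtype.val this

theorem chi_mul {x y : R} (hx : x ∈ Subgroup.center R) (hy : y ∈ Subgroup.center R) :
    chi (x * y) = chi x + chi y := by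
  obtain ⟨c, hc, hc1, hall⟩ := center_cases hR
  have hcc : c * c = 1 := by
    have := center_sq hR hc
    rwa [pow_two] at this
  have hchic : chi c = 1 := by
    classical
    unfold chi
    simp [hc1]
  rcases hall x hx with rfl | rfl <;> rcases hall y hy with rfl | rfl
  · simp [chi_one]
  · simp [chi_one]
  · simp [chi_one]
  · rw [hcc, chi_one, hchic]; decide

theorem s_mul (x y : R) : s (x * y) = b y x + s x + s y := by
  unfold s b
  have hk := comm_mem_center hR y x
  have hx := sq_mem_center hR x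
  have hy := sq_mem_center hR y
  have : (x * y) ^ 2 = ⁅y, x⁆ * x ^ 2 * y ^ 2 := by
    have hcomm : ∀ g : R, g * ⁅y, x⁆ = ⁅y, x⁆ * g := fun g => (Subgroup.mem_center_iff.1 hk g)
    calc (x * y) ^ 2 = x * (y * x) * y := by rw [pow_two]; group
      _ = x * (⁅y, x⁆ * (x * y)) * y := by
          congr 2
          rw [commutatorElement_def]; group
      _ = (x * ⁅y, x⁆) * x * y * y := by group
      _ = (⁅y, x⁆ * x) * x * y * y := by rw [hcomm x]
      _ = ⁅y, x⁆ * x ^ 2 * y ^ 2 := by rw [pow_two, pow_two]; group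
  rw [this, chi_mul hR (Subgroup.mul_mem _ hk hx) hy, chi_mul hR hk hx]

theorem comm_mul_left (x x' y : R) : ⁅x * x', y⁆ = ⁅x, y⁆ * ⁅x', y⁆ := by
  have hk := comm_mem_center hR x' y
  have hcomm : ∀ g : R, g * ⁅x', y⁆ = ⁅x', y⁆ * g := fun g => (Subgroup.mem_center_iff.1 hk g)
  calc ⁅x * x', y⁆ = x * (⁅x', y⁆ * y) * x⁻¹ * y⁻¹ := by
        rw [commutatorElement_def, commutatorElement_def]; group
    _ = (x * ⁅x', y⁆) * y * x⁻¹ * y⁻¹ := by group
    _ = (⁅x', y⁆ * x) * y * x⁻¹ * y⁻¹ := by rw [hcomm x]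
    _ = ⁅x', y⁆ * ⁅x, y⁆ := by rw [commutatorElement_def x y]; group
    _ = ⁅x, y⁆ * ⁅x', y⁆ := (hcomm _).symm

theorem b_mul_left (x x' y : R) : b (x * x') y = b x y + b x' y := by
  unfold b
  rw [comm_mul_left hR, chi_mul hR (comm_mem_center hR x y) (comm_mem_center hR x' y)]

theorem s_mul_center (x : R) {ζ : R} (hζ : ζ ∈ Subgroup.center R) : s (x * ζ) = s x := by
  unfold s
  have hc : x * ζ = ζ * x := (Subgroup.mem_center_iff.1 hζ x)
  have : (x * ζ) ^ 2 = x ^ 2 := by
    rw [pow_two, pow_two]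
    calc x * ζ * (x * ζ) = x * (ζ * x) * ζ := by group
      _ = x * (x * ζ) * ζ := by rw [hc]
      _ = x * x * (ζ * ζ) := by group
      _ = x * x := by
          have := center_sq hR hζ
          rw [pow_two] at this
          rw [this, mul_one]
  rw [this]

theorem b_mul_center_left (x y : R) {ζ : R} (hζ : ζ ∈ Subgroup.center R) :
    b (x * ζ) y = b x y := by
  rw [b_mul_left hR]
  have : b ζ y = 0 := by
    unfold b
    rw [chi_eq_zero_iff, commutatorElement_eq_one_iff_mul_comm]
    exact (Subgroup.mem_center_iff.1 hζ y).symm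
  rw [this, add_zero]

/-- representatives of the same class modulo the centre have the same square-indicator. -/
theorem s_congr {x y : R}
    (h : (QuotientGroup.mk x : R ⧸ Subgroup.center R) = QuotientGroup.mk y) : s x = s y := by
  rw [QuotientGroup.eq] at h
  have : y = x * (x⁻¹ * y) := by group
  rw [this, s_mul_center hR x h]

theorem b_congr_left {x y : R} (w : R)
    (h : (QuotientGroup.mk x : R ⧸ Subgroup.center R) = QuotientGroup.mk y) : b x w = b y w := by
  rw [QuotientGroup.eq] at h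
  have : y = x * (x⁻¹ * y) := by group
  rw [this, b_mul_center_left hR x w h]

end

end Cfsg.Agent.Lib.H27.ExtraQuad
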