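import Mathlib
import Cfsg.Prelude.Def_Blocks
import Cfsg.Agent.Lib.H23.CharGalois
import Cfsg.Agent.Lib.H24.CharOrth
import Cfsg.Agent.Lib.H6.FVBRIDGE
import Cfsg.Agent.Lib.H5.FVQUAD

/-! S4923 piece FVGEN (helper27): the field of values at `g` equals `ℚ(ζ + ζ^ε)` iff the Galois
stabiliser `{k : g^k ~ g}` is `{1, ε}`.  BRIDGE (helper6) + QUAD (helper5). -/

set_option autoImplicit false

namespace Cfsg.Agent.Lib.H27.FV

open Cfsg.Agent.Lib.H23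

/-- **FVGEN** (= BRIDGE + QUAD + `exists_cyc_preimage`). -/
theorem fv_gen {G : Type*} [Group G] [Finite G] (m : ℕ) [NeZero m] (hm : Even m) (g : G)
    (hg : g ^ m = 1) (ζ : ℂ) (hζ : IsPrimitiveRoot ζ m) (ε : (ZMod m)ˣ) (hε : ε * ε = 1)
    (hq : (ζ * ζ ^ (ε : ZMod m).val) ^ 2 = 1) :
    IntermediateField.adjoin ℚ {z : ℂ | ∃ χ : Cfsg.IrrCharacter G, (χ : G → ℂ) g = z} =
        IntermediateField.adjoin ℚ ({ζ + ζ ^ (ε : ZMod m).val} : Set ℂ) ↔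
      ∀ k : (ZMod m)ˣ, IsConj (g ^ (k : ZMod m).val) g ↔ (k = 1 ∨ k = ε) := by
  obtain ⟨η, hη1, hηζ⟩ := exists_cyc_preimage m ζ hζ.pow_eq_one
  have hηprim : IsPrimitiveRoot η m := by
    apply IsPrimitiveRoot.of_map_of_injective (f := cycEmb m) _ (cycEmb_injective m)
    rw [hηζ]; exact hζ
  have hw : cycEmb m (η + η ^ (ε : ZMod m).val) = ζ + ζ ^ (ε : ZMod m).val := by
    rw [map_add, map_pow, hηζ]
  have hqη : (η * η ^ (ε : ZMod m).val) ^ 2 = 1 := by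
    apply cycEmb_injective m
    rw [map_pow, map_mul, map_pow, hηζ, hq, map_one]
  rw [← hw, Cfsg.Agent.Lib.H6.FV.bridge m g hg]
  constructor
  · intro H k
    obtain ⟨σ, rfl⟩ := (cycGalEquiv m).surjective k
    have h1 := H σ
    rw [Cfsg.Agent.Lib.H5.FV.quad m hm η hηprim ε hε hqη σ] at h1
    exact h1.symm
  · intro H σ
    rw [Cfsg.Agent.Lib.H5.FV.quad m hm η hηprim ε hε hqη σ]
    exact (H (cycGalEquiv m σ)).symm

end Cfsg.Agent.Lib.H27.FV
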