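import Mathlib
import Cfsg.Prelude.Def_LieExceptional

/-!
# S4068, piece SYL (architect helper28)

In a non-solvable CN-group (with the odd-order CN theorem and the quotient theorem as hypotheses) a Sylow
`2`-subgroup is neither cyclic nor normal.
-/

set_option autoImplicit false

universe u

namespace Cfsg.Agent.Lib.H27.FourOrb

/-- Nilpotency pulls back along injective homomorphisms. -/
theorem isNilpotent_of_inj {A B : Type*} [Group A] [Group B] [Group.IsNilpotent B] (f : A →* B)
    (hf : Function.Injective f) : Group.IsNilpotent A :=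
  Group.nilpotent_of_mulEquiv (MonoidHom.ofInjective hf).symm

/-- A subgroup of a CN-group is a CN-group. -/
theorem isCNGroup_subgroup {G : Type*} [Group G] (hcn : Cfsg.IsCNGroup G) (K : Subgroup G) :
    Cfsg.IsCNGroup K := by
  intro k hk
  have hk' : (k : G) ≠ 1 := fun h => hk (Subtype.ext h)
  have := hcn (k : G) hk'
  let f : Subgroup.centralizer ({k} : Set K) →* Subgroup.centralizer ({(k : G)} : Set G) :=
    { toFun := fun x => ⟨((x : K) : G), by
        have hx := x.2
        rw [Subgroup.mem_centralizer_iff] at hx ⊢
        intro y hy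
        rw [Set.mem_singleton_iff] at hy
        subst hy
        have := hx k (Set.mem_singleton k)
        exact congrArg Subtype.val this⟩
      map_one' := rfl
      map_mul' := fun _ _ => rfl }
  have hf : Function.Injective f := by
    intro x y hxy
    apply Subtype.ext
    apply Subtype.ext
    exact congrArg (fun z : Subgroup.centralizer ({(k : G)} : Set G) => (z : G)) hxy
  exact isNilpotent_of_inj f hf

/-- **SYL**. -/
theorem sylow_two {G : Type u} [Group G] [Finite G]
    (hepo : ∀ g : G, g ≠ 1 → (orderOf g).Prime) (hcn : Cfsg.IsCNGroup G)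
    (hodd : ∀ (K : Type u) [Group K] [Finite K], Odd (Nat.card K) → Cfsg.IsCNGroup K →
      Group.IsSolvable K)
    (hquot : ∀ (H : Subgroup G) [H.Normal], Group.IsSolvable H → Cfsg.IsCNGroup (G ⧸ H))
    (hns : ¬ Group.IsSolvable G) (T : Sylow 2 G) :
    ¬ IsCyclic (T : Subgroup G) ∧ ¬ (T : Subgroup G).Normal := by
  have heven : 2 ∣ Nat.card G := by
    by_contra h
    exact hns (hodd G (Nat.odd_iff.mpr (Nat.two_dvd_ne_zero.mp h)) hcn)
  have hTsolv : Group.IsSolvable (T : Subgroup G) := by
    have := T.2.isNilpotent
    infer_instance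
  constructor
  · intro hcyc
    have hmin : (Nat.card G).minFac = 2 := (Nat.minFac_eq_two_iff _).mpr heven
    have hNC := hcyc.normalizer_le_centralizer hmin
    let K : Subgroup G := (MonoidHom.transferSylow T hNC).ker
    have hKodd : Odd (Nat.card K) := by
      have := MonoidHom.not_dvd_card_ker_transferSylow T hNC
      exact Nat.odd_iff.mpr (Nat.two_dvd_ne_zero.mp this)
    have hKsolv : Group.IsSolvable K := hodd K hKodd (isCNGroup_subgroup hcn K)
    apply hns
    exact Group.isSolvable_of_ker_le_range K.subtype (MonoidHom.transferSylow T hNC)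
      (by rw [Subgroup.range_subtype])
  · intro hnorm
    have hq : Cfsg.IsCNGroup (G ⧸ (T : Subgroup G)) := hquot (T : Subgroup G) hTsolv
    have hqodd : Odd (Nat.card (G ⧸ (T : Subgroup G))) := by
      have := T.not_dvd_index
      rw [Subgroup.index_eq_card] at this
      exact Nat.odd_iff.mpr (Nat.two_dvd_ne_zero.mp this)
    have hqsolv : Group.IsSolvable (G ⧸ (T : Subgroup G)) := hodd _ hqodd hq
    apply hns
    exact Group.isSolvable_of_ker_le_range (T : Subgroup G).subtype (QuotientGroup.mk' (T : Subgroup G))
      (by rw [QuotientGroup.ker_mk', Subgroup.range_subtype])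

end Cfsg.Agent.Lib.H27.FourOrb
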