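/-
helper27 library: vectors and matrices over the field with two elements encoded by natural numbers
(bit masks), for kernel-checked computations in small matrix groups.
-/
import Mathlib

set_option autoImplicit false
set_option linter.unusedSectionVars false

namespace Cfsg.Agent.Lib.H27

namespace H1Van

variable {ι : Type} [Fintype ι] [DecidableEq ι] {n : ℕ} (e : ι ≃ Fin n)

/-- The vector with the bits of `x`. -/
def dec (x : ℕ) : ι → ZMod 2 := fun i => if x.testBit (e i) then 1 else 0

/-- The parity of the low `k` bits. -/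
def par : ℕ → ℕ → Bool
  | 0, _ => false
  | k + 1, m => xor (m.testBit k) (par k m)

/-- The product of the matrix with rows `rows` and the vector `x`. -/
def appR (n : ℕ) (rows : List ℕ) (x : ℕ) : ℕ :=
  Nat.ofBits (fun k : Fin n => par n (rows.getD k 0 &&& x))

/-- The matrix with rows `rows`. -/
def toMat (rows : List ℕ) : Matrix ι ι (ZMod 2) :=
  fun i j => if (rows.getD (e i) 0).testBit (e j) then 1 else 0

theorem zmod2_cases (c : ZMod 2) : c = 0 ∨ c = 1 := by
  revert c; decide

theorem one_add_one_zmod2 : (1 : ZMod 2) + 1 = 0 := by decide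

theorem par_aux (a b : Bool) :
    ((if b = true then (1 : ZMod 2) else 0) + if a = true then 1 else 0)
      = if (xor a b) = true then 1 else 0 := by
  cases a <;> cases b <;> simp [one_add_one_zmod2]

theorem sum_par (k m : ℕ) :
    (∑ j : Fin k, (if m.testBit j then (1 : ZMod 2) else 0)) = if par k m then 1 else 0 := by
  induction k with
  | zero => simp [par]
  | succ k ih =>
    rw [Fin.sum_univ_castSucc]
    simp only [Fin.val_castSucc, Fin.val_last]
    rw [ih]
    have hp : par (k + 1) m = xor (m.testBit k) (par k m) := rfl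
    rw [hp]
    exact par_aux _ _

theorem mulVec_dec (rows : List ℕ) (x : ℕ) :
    (toMat e rows).mulVec (dec e x) = dec e (appR n rows x) := by
  funext i
  show ∑ j, toMat e rows i j * dec e x j = dec e (appR n rows x) i
  have h : ∀ j, toMat e rows i j * dec e x j
      = if (rows.getD (e i) 0 &&& x).testBit (e j) then 1 else 0 := by
    intro j
    unfold toMat dec
    rw [Nat.testBit_and]
    cases (rows.getD (e i) 0).testBit (e j) <;> cases x.testBit (e j) <;> simp
  rw [Finset.sum_congr rfl (fun j _ => h j)]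
  rw [Equiv.sum_comp e (fun k : Fin n => if (rows.getD (e i) 0 &&& x).testBit k then (1 : ZMod 2) else 0)]
  rw [sum_par]
  unfold dec appR
  rw [Nat.testBit_ofBits_lt _ _ (e i).2]

theorem appR_lt (rows : List ℕ) (x : ℕ) : appR n rows x < 2 ^ n := Nat.ofBits_lt_two_pow _

theorem dec_inj {x y : ℕ} (hx : x < 2 ^ n) (hy : y < 2 ^ n) (h : dec e x = dec e y) : x = y := by
  apply Nat.eq_of_testBit_eq
  intro k
  by_cases hk : k < n
  · have h1 := congrFun h (e.symm ⟨k, hk⟩)
    unfold dec at h1
    rw [Equiv.apply_symm_apply] at h1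
    cases hxk : x.testBit k <;> cases hyk : y.testBit k
    · rfl
    · rw [hxk, hyk] at h1; simp at h1
    · rw [hxk, hyk] at h1; simp at h1
    · rfl
  · have hle : 2 ^ n ≤ 2 ^ k := Nat.pow_le_pow_right (by norm_num) (by omega)
    rw [Nat.testBit_lt_two_pow (lt_of_lt_of_le hx hle), Nat.testBit_lt_two_pow (lt_of_lt_of_le hy hle)]

/-- The number with the bits of the vector. -/
def encV (v : ι → ZMod 2) : ℕ := Nat.ofBits (fun k : Fin n => decide (v (e.symm k) = 1))

theorem encV_lt (v : ι → ZMod 2) : encV e v < 2 ^ n := Nat.ofBits_lt_two_pow _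

theorem dec_encV (v : ι → ZMod 2) : dec e (encV e v) = v := by
  funext i
  unfold dec encV
  rw [Nat.testBit_ofBits_lt _ _ (e i).2]
  simp only [Fin.eta, Equiv.symm_apply_apply]
  rcases zmod2_cases (v i) with h | h <;> rw [h] <;> simp

theorem dec_xor (x y : ℕ) : dec e (x ^^^ y) = dec e x + dec e y := by
  funext i
  unfold dec
  rw [Pi.add_apply, Nat.testBit_xor]
  cases x.testBit (e i) <;> cases y.testBit (e i) <;> simp [one_add_one_zmod2]

theorem dec_zero : dec e 0 = 0 := by
  funext i
  unfold dec
  simp

theorem par_xor (k m m' : ℕ) : par k (m ^^^ m') = xor (par k m) (par k m') := by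
  induction k with
  | zero => rfl
  | succ k ih =>
    unfold par
    rw [ih, Nat.testBit_xor]
    cases m.testBit k <;> cases m'.testBit k <;> cases par k m <;> cases par k m' <;> rfl

theorem ofBits_xor (F G : Fin n → Bool) :
    Nat.ofBits (fun k => xor (F k) (G k)) = Nat.ofBits F ^^^ Nat.ofBits G := by
  apply Nat.eq_of_testBit_eq
  intro k
  rw [Nat.testBit_xor, Nat.testBit_ofBits, Nat.testBit_ofBits, Nat.testBit_ofBits]
  by_cases hk : k < n
  · rw [dif_pos hk, dif_pos hk, dif_pos hk]
  · rw [dif_neg hk, dif_neg hk, dif_neg hk]; rfl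

theorem appR_xor (rows : List ℕ) (x y : ℕ) :
    appR n rows (x ^^^ y) = appR n rows x ^^^ appR n rows y := by
  unfold appR
  rw [← ofBits_xor]
  congr 1
  funext k
  rw [Nat.and_xor_distrib_left, par_xor]

theorem appR_zero (rows : List ℕ) : appR n rows 0 = 0 := by
  have h := appR_xor (n := n) rows 0 0
  rw [Nat.xor_self] at h
  have h2 : appR n rows 0 ^^^ appR n rows 0 = 0 := Nat.xor_self _
  rw [h2] at h
  exact h

/-- Matrices agreeing on all vectors are equal. -/
theorem mat_ext {A B : Matrix ι ι (ZMod 2)}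
    (h : ∀ x < 2 ^ n, A.mulVec (dec e x) = B.mulVec (dec e x)) : A = B := by
  have h' : ∀ v : ι → ZMod 2, A.mulVec v = B.mulVec v := by
    intro v
    have := h (encV e v) (encV_lt e v)
    rwa [dec_encV] at this
  ext i j
  have := congrFun (h' (Pi.single j 1)) i
  simpa [Matrix.mulVec_single_one] using this

theorem dec_two_pow (k : ℕ) (hk : k < n) : dec e (2 ^ k) = Pi.single (e.symm ⟨k, hk⟩) 1 := by
  funext i
  unfold dec
  rw [Nat.testBit_two_pow, Pi.single_apply]
  by_cases h : k = (e i : ℕ)
  · have hi : i = e.symm ⟨k, hk⟩ := by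
      apply e.injective
      rw [Equiv.apply_symm_apply]
      exact Fin.ext h.symm
    rw [if_pos hi]
    simp [h]
  · have hi : ¬ i = e.symm ⟨k, hk⟩ := by
      intro hi
      apply h
      rw [hi, Equiv.apply_symm_apply]
    rw [if_neg hi]
    simp [h]

/-- Matrices agreeing on the basis vectors are equal. -/
theorem mat_ext_basis {A B : Matrix ι ι (ZMod 2)}
    (h : ∀ k < n, A.mulVec (dec e (2 ^ k)) = B.mulVec (dec e (2 ^ k))) : A = B := by
  ext i j
  have h1 := congrFun (h (e j) (e j).2) i
  rw [dec_two_pow e _ (e j).2] at h1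
  simpa [Matrix.mulVec_single_one] using h1

/-- Induction along the bits. -/
theorem table_induction (n : ℕ) (P : ℕ → Prop) (h0 : P 0)
    (hstep : ∀ k < n, ∀ a' < 2 ^ k, P a' → P (2 ^ k ^^^ a')) : ∀ a < 2 ^ n, P a := by
  induction n with
  | zero =>
    intro a ha
    have : a = 0 := by omega
    rw [this]; exact h0
  | succ n ih =>
    intro a ha
    by_cases hlt : a < 2 ^ n
    · exact ih (fun k hk => hstep k (by omega)) a hlt
    · have hge : 2 ^ n ≤ a := by omega
      have hbit : a.testBit n = true := by
        rw [Nat.testBit_eq_decide_div_mod_eq, decide_eq_true_eq]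
        have : a / 2 ^ n = 1 := by
          apply Nat.div_eq_of_lt_le
          · rw [one_mul]; exact hge
          · rw [pow_succ] at ha; omega
        rw [this]
      have hy : a ^^^ 2 ^ n < 2 ^ n := by
        apply Nat.lt_pow_two_of_testBit
        intro i hi
        rw [Nat.testBit_xor, Nat.testBit_two_pow]
        by_cases hin : i = n
        · subst hin
          rw [hbit]; simp
        · have hi' : n + 1 ≤ i := by omega
          have : a.testBit i = false :=
            Nat.testBit_lt_two_pow (lt_of_lt_of_le ha (Nat.pow_le_pow_right (by norm_num) hi'))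
          rw [this]
          simp [Ne.symm hin]
      have hPy := ih (fun k hk => hstep k (by omega)) _ hy
      have := hstep n (by omega) _ hy hPy
      have e : 2 ^ n ^^^ (a ^^^ 2 ^ n) = a := by
        rw [Nat.xor_comm a, ← Nat.xor_assoc, Nat.xor_self, Nat.zero_xor]
      rwa [e] at this

/-- Additive maps agreeing on the powers of two agree. -/
theorem lin_ext (n : ℕ) (F G : ℕ → ℕ) (hF : ∀ x y, F (x ^^^ y) = F x ^^^ F y)
    (hG : ∀ x y, G (x ^^^ y) = G x ^^^ G y) (h : ∀ k < n, F (2 ^ k) = G (2 ^ k)) :
    ∀ x < 2 ^ n, F x = G x := by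
  have z : ∀ H : ℕ → ℕ, (∀ x y, H (x ^^^ y) = H x ^^^ H y) → H 0 = 0 := by
    intro H hH
    have h1 := hH 0 0
    rw [Nat.xor_self, Nat.xor_self] at h1
    exact h1
  apply table_induction n (fun x => F x = G x)
  · show F 0 = G 0
    rw [z F hF, z G hG]
  · intro k hk a' _ ha'
    show F (2 ^ k ^^^ a') = G (2 ^ k ^^^ a')
    rw [hF, hG, h k hk, ha']

/-- The action of a word in a list of matrices. -/
def actW (n : ℕ) (gs : List (List ℕ)) (w : List ℕ) (x : ℕ) : ℕ :=
  w.foldr (fun s acc => appR n (gs.getD s []) acc) x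

theorem actW_nil (gs : List (List ℕ)) (x : ℕ) : actW n gs [] x = x := rfl

theorem actW_cons (gs : List (List ℕ)) (s : ℕ) (w : List ℕ) (x : ℕ) :
    actW n gs (s :: w) x = appR n (gs.getD s []) (actW n gs w x) := rfl

end H1Van

end Cfsg.Agent.Lib.H27
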