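/-
helper27 library: crossed homomorphisms of `Ω(Q)` (over the field with two elements) into the
natural module: zero sets, principal crossed homomorphisms, evaluation on words, and an
orbit-stabilizer chain for lower bounds of orders of subgroups.
-/
import Mathlib
import Cfsg.Prelude.Def_Classical
import Cfsg.Agent.Lib.H27.H1VanBits
import Cfsg.Agent.Lib.H27.StabTools

set_option autoImplicit false
set_option linter.unusedSectionVars false

namespace Cfsg.Agent.Lib.H27

namespace H1Van

open Cfsg MulAction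

section Grp

variable {ι : Type} [Fintype ι] [DecidableEq ι] (Q : (ι → ZMod 2) → ZMod 2)

/-- The matrix of an element of `Ω(Q)`. -/
def matOf (g : ↥(Omega (ZMod 2) Q)) : Matrix ι ι (ZMod 2) :=
  ((g : ↥(isometryGroup (ZMod 2) Q)) : Matrix.GeneralLinearGroup ι (ZMod 2))

theorem matOf_mul (g h : ↥(Omega (ZMod 2) Q)) : matOf Q (g * h) = matOf Q g * matOf Q h := rfl

theorem matOf_one : matOf Q 1 = 1 := rfl

theorem matOf_inj {g h : ↥(Omega (ZMod 2) Q)} (hgh : matOf Q g = matOf Q h) : g = h :=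
  Subtype.ext (Subtype.ext (Units.ext hgh))

theorem matOf_inv_mul (g : ↥(Omega (ZMod 2) Q)) : matOf Q g⁻¹ * matOf Q g = 1 := by
  rw [← matOf_mul, inv_mul_cancel, matOf_one]

/-- Crossed homomorphisms. -/
def IsCoc (f : ↥(Omega (ZMod 2) Q) → (ι → ZMod 2)) : Prop :=
  ∀ g h, f (g * h) = f g + (matOf Q g).mulVec (f h)

variable {Q}

theorem IsCoc.one {f : ↥(Omega (ZMod 2) Q) → (ι → ZMod 2)} (hf : IsCoc Q f) : f 1 = 0 := by
  have h := hf 1 1
  rw [mul_one, matOf_one, Matrix.one_mulVec] at h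
  exact left_eq_add.mp h

/-- The zero set of a crossed homomorphism. -/
def zeroSub {f : ↥(Omega (ZMod 2) Q) → (ι → ZMod 2)} (hf : IsCoc Q f) :
    Subgroup ↥(Omega (ZMod 2) Q) where
  carrier := {g | f g = 0}
  mul_mem' := by
    intro a b ha hb
    show f (a * b) = 0
    rw [hf, show f a = 0 from ha, show f b = 0 from hb, Matrix.mulVec_zero, add_zero]
  one_mem' := hf.one
  inv_mem' := by
    intro a ha
    show f a⁻¹ = 0
    have h := hf a⁻¹ a
    rw [inv_mul_cancel, hf.one, show f a = 0 from ha, Matrix.mulVec_zero, add_zero] at h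
    exact h.symm

/-- A crossed homomorphism which is principal on a generating set is principal. -/
theorem principal_of_gens {f : ↥(Omega (ZMod 2) Q) → (ι → ZMod 2)} (hf : IsCoc Q f)
    (v : ι → ZMod 2) (S : Set ↥(Omega (ZMod 2) Q)) (hS : Subgroup.closure S = ⊤)
    (h : ∀ s ∈ S, f s = (matOf Q s).mulVec v - v) :
    ∀ g, f g = (matOf Q g).mulVec v - v := by
  let f' : ↥(Omega (ZMod 2) Q) → (ι → ZMod 2) := fun g => f g - ((matOf Q g).mulVec v - v)
  have hf' : IsCoc Q f' := by
    intro g k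
    show f (g * k) - ((matOf Q (g * k)).mulVec v - v)
      = (f g - ((matOf Q g).mulVec v - v)) + (matOf Q g).mulVec (f k - ((matOf Q k).mulVec v - v))
    rw [hf, matOf_mul, Matrix.mulVec_sub, Matrix.mulVec_sub, Matrix.mulVec_mulVec]
    abel
  have hle : Subgroup.closure S ≤ zeroSub hf' := by
    rw [Subgroup.closure_le]
    intro s hs
    show f s - ((matOf Q s).mulVec v - v) = 0
    rw [h s hs, sub_self]
  intro g
  have hg : g ∈ zeroSub hf' := hle (by rw [hS]; trivial)
  have : f g - ((matOf Q g).mulVec v - v) = 0 := hg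
  exact sub_eq_zero.1 this

/-! ### Evaluation on words -/

/-- The value of a word in the elements `G s`. -/
def evalW (G : ℕ → ↥(Omega (ZMod 2) Q)) (w : List ℕ) : ↥(Omega (ZMod 2) Q) := (w.map G).prod

theorem evalW_cons (G : ℕ → ↥(Omega (ZMod 2) Q)) (s : ℕ) (w : List ℕ) :
    evalW G (s :: w) = G s * evalW G w := by
  unfold evalW
  rw [List.map_cons, List.prod_cons]

/-- The value of a crossed homomorphism on a word, computed from its values on the letters. -/
def foxW (f : ↥(Omega (ZMod 2) Q) → (ι → ZMod 2)) (G : ℕ → ↥(Omega (ZMod 2) Q)) (w : List ℕ) :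
    ι → ZMod 2 :=
  w.foldr (fun s acc => f (G s) + (matOf Q (G s)).mulVec acc) 0

theorem foxW_eq {f : ↥(Omega (ZMod 2) Q) → (ι → ZMod 2)} (hf : IsCoc Q f)
    (G : ℕ → ↥(Omega (ZMod 2) Q)) (w : List ℕ) : f (evalW G w) = foxW f G w := by
  induction w with
  | nil => exact hf.one
  | cons s w ih =>
    rw [evalW_cons, hf, ih]
    rfl

variable {n : ℕ} (e : ι ≃ Fin n)

/-- The matrix of a word. -/
theorem matOf_evalW (G : ℕ → ↥(Omega (ZMod 2) Q)) (gs : List (List ℕ))
    (w : List ℕ) (hw : ∀ s ∈ w, matOf Q (G s) = toMat e (gs.getD s [])) (x : ℕ) :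
    (matOf Q (evalW G w)).mulVec (dec e x) = dec e (actW n gs w x) := by
  induction w with
  | nil =>
    show (matOf Q 1).mulVec (dec e x) = dec e x
    rw [matOf_one, Matrix.one_mulVec]
  | cons s w ih =>
    rw [evalW_cons, matOf_mul, ← Matrix.mulVec_mulVec,
      ih (fun t ht => hw t (List.mem_cons_of_mem _ ht)), hw s List.mem_cons_self, mulVec_dec,
      actW_cons]

/-- The value of a crossed homomorphism on a word, on bit masks. -/
def foxN (n : ℕ) (gs : List (List ℕ)) (xs : List ℕ) (w : List ℕ) : ℕ :=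
  w.foldr (fun s acc => xs.getD s 0 ^^^ appR n (gs.getD s []) acc) 0

theorem foxN_cons (gs : List (List ℕ)) (xs : List ℕ) (s : ℕ) (w : List ℕ) :
    foxN n gs xs (s :: w) = xs.getD s 0 ^^^ appR n (gs.getD s []) (foxN n gs xs w) := rfl

theorem foxN_lt (gs : List (List ℕ)) (xs : List ℕ) (hxs : ∀ s, xs.getD s 0 < 2 ^ n) (w : List ℕ) :
    foxN n gs xs w < 2 ^ n := by
  induction w with
  | nil => exact Nat.pos_of_ne_zero (by positivity)
  | cons s w _ =>
    rw [foxN_cons]
    exact Nat.xor_lt_two_pow (hxs s) (appR_lt _ _)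

theorem foxN_eq (f : ↥(Omega (ZMod 2) Q) → (ι → ZMod 2)) (G : ℕ → ↥(Omega (ZMod 2) Q))
    (gs : List (List ℕ)) (xs : List ℕ) (w : List ℕ)
    (hw : ∀ s ∈ w, matOf Q (G s) = toMat e (gs.getD s []) ∧ dec e (xs.getD s 0) = f (G s)) :
    dec e (foxN n gs xs w) = foxW f G w := by
  induction w with
  | nil => exact dec_zero e
  | cons s w ih =>
    rw [foxN_cons, dec_xor, ← mulVec_dec, ih (fun t ht => hw t (List.mem_cons_of_mem _ ht)),
      (hw s List.mem_cons_self).2, ← (hw s List.mem_cons_self).1]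
    rfl

/-- Additivity in the values on the letters. -/
theorem foxN_add (gs : List (List ℕ)) (xs ys zs : List ℕ)
    (h : ∀ s, zs.getD s 0 = xs.getD s 0 ^^^ ys.getD s 0) (w : List ℕ) :
    foxN n gs zs w = foxN n gs xs w ^^^ foxN n gs ys w := by
  induction w with
  | nil =>
    show (0 : ℕ) = 0 ^^^ 0
    decide
  | cons s w ih =>
    rw [foxN_cons, foxN_cons, foxN_cons, ih, appR_xor, h s]
    ac_rfl

/-- A word acting trivially is a relator. -/
theorem evalW_eq_one (G : ℕ → ↥(Omega (ZMod 2) Q)) (gs : List (List ℕ))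
    (w : List ℕ) (hw : ∀ s ∈ w, matOf Q (G s) = toMat e (gs.getD s []))
    (hx : ∀ k < n, actW n gs w (2 ^ k) = 2 ^ k) : evalW G w = 1 := by
  apply matOf_inj
  rw [matOf_one]
  apply mat_ext_basis e
  intro k hk
  rw [matOf_evalW e G gs w hw, hx k hk, Matrix.one_mulVec]

end Grp

end H1Van

end Cfsg.Agent.Lib.H27
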