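/-
helper27 library: straight-line programs of matrices over the field with two elements and a
kernel-checkable orbit-stabilizer chain giving a lower bound for the order of a subgroup of `Ω(Q)`
generated by explicit matrices.
-/
import Mathlib
import Cfsg.Prelude.Def_Classical
import Cfsg.Agent.Lib.H27.H1VanGrp

set_option autoImplicit false
set_option linter.unusedSectionVars false

namespace Cfsg.Agent.Lib.H27

namespace H1Van

open Cfsg MulAction

/-! ### The checkers -/

/-- The rows of a node of a straight-line program. -/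
def rowsOf (slp : List (List ℕ × ℕ × List ℕ)) (j : ℕ) : List ℕ := (slp.getD j ([], 0, [])).1

/-- The kind of a node: `0` generator, `1` product, otherwise inverse. -/
def kindOf (slp : List (List ℕ × ℕ × List ℕ)) (j : ℕ) : ℕ := (slp.getD j ([], 0, [])).2.1

/-- The arguments of a node. -/
def argsOf (slp : List (List ℕ × ℕ × List ℕ)) (j : ℕ) : List ℕ := (slp.getD j ([], 0, [])).2.2

/-- The check of a node. -/
def nodeOK (n : ℕ) (gs : List (List ℕ)) (slp : List (List ℕ × ℕ × List ℕ)) (i : ℕ) : Bool :=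
  if kindOf slp i = 0 then
    decide ((argsOf slp i).getD 0 0 < gs.length) &&
      (rowsOf slp i == gs.getD ((argsOf slp i).getD 0 0) [])
  else if kindOf slp i = 1 then
    (argsOf slp i).all (fun j => decide (j < i)) &&
      (List.range n).all (fun k => appR n (rowsOf slp i) (2 ^ k) ==
        (argsOf slp i).foldr (fun j acc => appR n (rowsOf slp j) acc) (2 ^ k))
  else
    decide ((argsOf slp i).getD 0 0 < i) &&
      (List.range n).all (fun k =>
        appR n (rowsOf slp i) (appR n (rowsOf slp ((argsOf slp i).getD 0 0)) (2 ^ k)) == 2 ^ k)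

/-- The check of a straight-line program. -/
def slpOK (n : ℕ) (gs : List (List ℕ)) (slp : List (List ℕ × ℕ × List ℕ)) : Bool :=
  (List.range slp.length).all (nodeOK n gs slp)

/-- The check of a level: a Schreier tree of the orbit of `bN` under elements fixing `bsN`. -/
def levelOK (n : ℕ) (slp : List (List ℕ × ℕ × List ℕ)) (bsN : List ℕ) (bN : ℕ)
    (tr : List (ℕ × ℕ × ℕ)) : Bool :=
  decide ((tr.getD 0 (0, 0, 0)).1 = bN) &&
  (List.range tr.length).all (fun j => (j == 0) ||
    (decide ((tr.getD j (0, 0, 0)).2.1 < j) && decide ((tr.getD j (0, 0, 0)).2.2 < slp.length) &&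
      bsN.all (fun b' => appR n (rowsOf slp (tr.getD j (0, 0, 0)).2.2) b' == b') &&
      (appR n (rowsOf slp (tr.getD j (0, 0, 0)).2.2) (tr.getD (tr.getD j (0, 0, 0)).2.1 (0, 0, 0)).1
        == (tr.getD j (0, 0, 0)).1))) &&
  decide ((tr.map (fun t => t.1)).Nodup) && tr.all (fun t => decide (t.1 < 2 ^ n)) &&
  bsN.all (fun b' => decide (b' < 2 ^ n)) && decide (0 < tr.length)

/-- The check of all levels. -/
def levelsOK (n : ℕ) (slp : List (List ℕ × ℕ × List ℕ)) :
    List ℕ → List (ℕ × List (ℕ × ℕ × ℕ)) → Bool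
  | _, [] => true
  | bs, (b, tr) :: rest => levelOK n slp bs b tr && levelsOK n slp (b :: bs) rest

/-- The product of the orbit lengths. -/
def levelsProd : List (ℕ × List (ℕ × ℕ × ℕ)) → ℕ
  | [] => 1
  | (_, tr) :: rest => tr.length * levelsProd rest

section Grp

variable {ι : Type} [Fintype ι] [DecidableEq ι] {Q : (ι → ZMod 2) → ZMod 2} {n : ℕ} (e : ι ≃ Fin n)

/-- The subgroup generated by the first `k` of the elements `G s`. -/
def genSub (G : ℕ → ↥(Omega (ZMod 2) Q)) (k : ℕ) : Subgroup ↥(Omega (ZMod 2) Q) :=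
  Subgroup.closure {g | ∃ s < k, g = G s}

theorem prod_sound (H : Subgroup ↥(Omega (ZMod 2) Q)) (rows : ℕ → List ℕ) (js : List ℕ)
    (hjs : ∀ j ∈ js, ∃ g ∈ H, matOf Q g = toMat e (rows j)) :
    ∃ g ∈ H, ∀ x, (matOf Q g).mulVec (dec e x)
      = dec e (js.foldr (fun j acc => appR n (rows j) acc) x) := by
  induction js with
  | nil =>
    refine ⟨1, H.one_mem, fun x => ?_⟩
    rw [matOf_one, Matrix.one_mulVec]
    rfl
  | cons j js ih =>
    obtain ⟨g1, hg1, hm1⟩ := hjs j List.mem_cons_self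
    obtain ⟨g2, hg2, hm2⟩ := ih (fun t ht => hjs t (List.mem_cons_of_mem _ ht))
    refine ⟨g1 * g2, H.mul_mem hg1 hg2, fun x => ?_⟩
    rw [matOf_mul, ← Matrix.mulVec_mulVec, hm2 x, hm1, mulVec_dec]
    rfl

theorem slp_sound (G : ℕ → ↥(Omega (ZMod 2) Q)) (gs : List (List ℕ))
    (hG : ∀ s < gs.length, matOf Q (G s) = toMat e (gs.getD s []))
    (slp : List (List ℕ × ℕ × List ℕ)) (h : slpOK n gs slp = true) :
    ∀ i < slp.length, ∃ g ∈ genSub G gs.length, matOf Q g = toMat e (rowsOf slp i) := by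
  intro i
  induction i using Nat.strong_induction_on with
  | _ i ih =>
    intro hi
    have hi' := List.all_eq_true.1 h i (List.mem_range.2 hi)
    unfold nodeOK at hi'
    split_ifs at hi' with h0 h1
    · rw [Bool.and_eq_true, decide_eq_true_eq, beq_iff_eq] at hi'
      refine ⟨G ((argsOf slp i).getD 0 0), Subgroup.subset_closure ⟨_, hi'.1, rfl⟩, ?_⟩
      rw [hG _ hi'.1, hi'.2]
    · rw [Bool.and_eq_true, List.all_eq_true, List.all_eq_true] at hi'
      obtain ⟨ha, hx⟩ := hi'
      have hjs : ∀ j ∈ argsOf slp i, ∃ g ∈ genSub G gs.length,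
          matOf Q g = toMat e (rowsOf slp j) := by
        intro j hj
        have hji : j < i := by
          have := ha j hj
          rwa [decide_eq_true_eq] at this
        exact ih j hji (lt_trans hji hi)
      obtain ⟨g, hg, hm⟩ := prod_sound e (genSub G gs.length) (rowsOf slp) (argsOf slp i) hjs
      refine ⟨g, hg, ?_⟩
      apply mat_ext_basis e
      intro k hk
      have := hx k (List.mem_range.2 hk)
      rw [beq_iff_eq] at this
      rw [hm (2 ^ k), ← this, mulVec_dec]
    · rw [Bool.and_eq_true, decide_eq_true_eq, List.all_eq_true] at hi'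
      obtain ⟨hji, hx⟩ := hi'
      obtain ⟨g, hg, hm⟩ := ih _ hji (lt_trans hji hi)
      refine ⟨g⁻¹, (genSub G gs.length).inv_mem hg, ?_⟩
      have hprod : toMat e (rowsOf slp i) * toMat e (rowsOf slp ((argsOf slp i).getD 0 0)) = 1 := by
        apply mat_ext_basis e
        intro k hk
        have := hx k (List.mem_range.2 hk)
        rw [beq_iff_eq] at this
        rw [← Matrix.mulVec_mulVec, mulVec_dec, mulVec_dec, this, Matrix.one_mulVec]
      have h2 : matOf Q g * matOf Q g⁻¹ = 1 := by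
        rw [← matOf_mul, mul_inv_cancel, matOf_one]
      calc matOf Q g⁻¹ = 1 * matOf Q g⁻¹ := (Matrix.one_mul _).symm
        _ = toMat e (rowsOf slp i) * toMat e (rowsOf slp ((argsOf slp i).getD 0 0)) * matOf Q g⁻¹ := by
            rw [hprod]
        _ = toMat e (rowsOf slp i) * (matOf Q g * matOf Q g⁻¹) := by
            rw [hm, Matrix.mul_assoc]
        _ = toMat e (rowsOf slp i) := by rw [h2, Matrix.mul_one]

/-! ### The chain -/

/-- The action on vectors. -/
@[reducible] def omAct (Q : (ι → ZMod 2) → ZMod 2) :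
    MulAction ↥(Omega (ZMod 2) Q) (ι → ZMod 2) where
  smul g v := (matOf Q g).mulVec v
  one_smul v := by
    show (matOf Q 1).mulVec v = v
    rw [matOf_one, Matrix.one_mulVec]
  mul_smul g h v := by
    show (matOf Q (g * h)).mulVec v = (matOf Q g).mulVec ((matOf Q h).mulVec v)
    rw [matOf_mul, Matrix.mulVec_mulVec]

/-- The elements fixing all vectors of a list. -/
def fixL (Q : (ι → ZMod 2) → ZMod 2) (bs : List (ι → ZMod 2)) :
    Subgroup ↥(Omega (ZMod 2) Q) where
  carrier := {g | ∀ b ∈ bs, (matOf Q g).mulVec b = b}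
  mul_mem' := by
    intro a c ha hc b hb
    rw [matOf_mul, ← Matrix.mulVec_mulVec, hc b hb, ha b hb]
  one_mem' := by
    intro b _
    rw [matOf_one, Matrix.one_mulVec]
  inv_mem' := by
    intro a ha b hb
    have h1 := ha b hb
    calc (matOf Q a⁻¹).mulVec b = (matOf Q a⁻¹).mulVec ((matOf Q a).mulVec b) := by rw [h1]
      _ = b := by rw [Matrix.mulVec_mulVec, matOf_inv_mul, Matrix.one_mulVec]

theorem mem_fixL {bs : List (ι → ZMod 2)} {g : ↥(Omega (ZMod 2) Q)} :
    g ∈ fixL Q bs ↔ ∀ b ∈ bs, (matOf Q g).mulVec b = b := Iff.rfl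

theorem chain_step [Finite ↥(Omega (ZMod 2) Q)] (H : Subgroup ↥(Omega (ZMod 2) Q))
    (bs : List (ι → ZMod 2)) (b : ι → ZMod 2) (pts : List (ι → ZMod 2)) (hnd : pts.Nodup)
    (h : ∀ p ∈ pts, ∃ g ∈ H ⊓ fixL Q bs, (matOf Q g).mulVec b = p) :
    pts.length * Nat.card ↥(H ⊓ fixL Q (b :: bs)) ≤ Nat.card ↥(H ⊓ fixL Q bs) := by
  letI := omAct Q
  have h1 := index_stabilizer ↥(H ⊓ fixL Q bs) b
  have h2 := (stabilizer ↥(H ⊓ fixL Q bs) b).card_mul_index
  have h3 : Nat.card (stabilizer ↥(H ⊓ fixL Q bs) b)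
      = Nat.card ↥((H ⊓ fixL Q bs) ⊓ stabilizer ↥(Omega (ZMod 2) Q) b) :=
    Nat.card_congr (stabSubEquiv (H ⊓ fixL Q bs) b).toEquiv
  have h4 : (H ⊓ fixL Q bs) ⊓ stabilizer ↥(Omega (ZMod 2) Q) b = H ⊓ fixL Q (b :: bs) := by
    ext g
    rw [Subgroup.mem_inf, Subgroup.mem_inf, Subgroup.mem_inf, mem_stabilizer_iff, mem_fixL, mem_fixL]
    constructor
    · rintro ⟨⟨hH, hf⟩, hb⟩
      refine ⟨hH, ?_⟩
      intro b' hb'
      rcases List.mem_cons.1 hb' with rfl | hb''
      · exact hb
      · exact hf b' hb''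
    · rintro ⟨hH, hf⟩
      exact ⟨⟨hH, fun b' hb' => hf b' (List.mem_cons_of_mem _ hb')⟩, hf b List.mem_cons_self⟩
  have h5 : pts.length ≤ (orbit ↥(H ⊓ fixL Q bs) b).ncard := by
    rw [← List.toFinset_card_of_nodup hnd, ← Set.ncard_coe_finset]
    apply Set.ncard_le_ncard _ (Set.toFinite _)
    intro p hp
    rw [Finset.mem_coe, List.mem_toFinset] at hp
    obtain ⟨g, hg, hgp⟩ := h p hp
    exact ⟨⟨g, hg⟩, hgp⟩
  rw [h3, h4, h1] at h2
  calc pts.length * Nat.card ↥(H ⊓ fixL Q (b :: bs))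
      ≤ (orbit ↥(H ⊓ fixL Q bs) b).ncard * Nat.card ↥(H ⊓ fixL Q (b :: bs)) :=
        Nat.mul_le_mul_right _ h5
    _ = Nat.card ↥(H ⊓ fixL Q bs) := by rw [mul_comm]; exact h2

theorem level_sound (G : ℕ → ↥(Omega (ZMod 2) Q)) (gs : List (List ℕ))
    (hG : ∀ s < gs.length, matOf Q (G s) = toMat e (gs.getD s []))
    (slp : List (List ℕ × ℕ × List ℕ)) (hslp : slpOK n gs slp = true)
    (bsN : List ℕ) (bN : ℕ) (tr : List (ℕ × ℕ × ℕ)) (h : levelOK n slp bsN bN tr = true) :
    ∀ j < tr.length, ∃ g ∈ genSub G gs.length ⊓ fixL Q (bsN.map (dec e)),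
      (matOf Q g).mulVec (dec e bN) = dec e (tr.getD j (0, 0, 0)).1 := by
  unfold levelOK at h
  simp only [Bool.and_eq_true, decide_eq_true_eq] at h
  obtain ⟨⟨⟨⟨⟨h0, htree⟩, _⟩, _⟩, _⟩, _⟩ := h
  intro j
  induction j using Nat.strong_induction_on with
  | _ j ih =>
    intro hj
    by_cases hj0 : j = 0
    · subst hj0
      refine ⟨1, Subgroup.one_mem _, ?_⟩
      rw [matOf_one, Matrix.one_mulVec, h0]
    · have hjj := List.all_eq_true.1 htree j (List.mem_range.2 hj)
      rw [Bool.or_eq_true, beq_iff_eq] at hjj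
      rcases hjj with hjj | hjj
      · exact absurd hjj hj0
      · simp only [Bool.and_eq_true, decide_eq_true_eq, beq_iff_eq, List.all_eq_true] at hjj
        obtain ⟨⟨⟨hp, hlab⟩, hfix⟩, himg⟩ := hjj
        obtain ⟨gp, hgp, hgpm⟩ := ih _ hp (lt_trans hp hj)
        obtain ⟨s, hs, hsm⟩ := slp_sound e G gs hG slp hslp _ hlab
        have hsfix : s ∈ fixL Q (bsN.map (dec e)) := by
          rw [mem_fixL]
          intro b hb
          rw [List.mem_map] at hb
          obtain ⟨b', hb', rfl⟩ := hb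
          rw [hsm, mulVec_dec, hfix b' hb']
        refine ⟨s * gp, Subgroup.mul_mem _ (Subgroup.mem_inf.2 ⟨hs, hsfix⟩) hgp, ?_⟩
        rw [matOf_mul, ← Matrix.mulVec_mulVec, hgpm, hsm, mulVec_dec, himg]

theorem chain_all [Finite ↥(Omega (ZMod 2) Q)] (G : ℕ → ↥(Omega (ZMod 2) Q)) (gs : List (List ℕ))
    (hG : ∀ s < gs.length, matOf Q (G s) = toMat e (gs.getD s []))
    (slp : List (List ℕ × ℕ × List ℕ)) (hslp : slpOK n gs slp = true)
    (lv : List (ℕ × List (ℕ × ℕ × ℕ))) :
    ∀ bs : List ℕ, levelsOK n slp bs lv = true →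
      levelsProd lv ≤ Nat.card ↥(genSub G gs.length ⊓ fixL Q (bs.map (dec e))) := by
  induction lv with
  | nil =>
    intro bs _
    exact Nat.card_pos
  | cons a rest ih =>
    obtain ⟨b, tr⟩ := a
    intro bs h
    unfold levelsOK at h
    rw [Bool.and_eq_true] at h
    obtain ⟨hl, hr⟩ := h
    have h1 := ih (b :: bs) hr
    have hls := level_sound e G gs hG slp hslp bs b tr hl
    unfold levelOK at hl
    simp only [Bool.and_eq_true, decide_eq_true_eq, List.all_eq_true] at hl
    obtain ⟨⟨⟨⟨⟨_, _⟩, hnd⟩, hlt⟩, _⟩, _⟩ := hl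
    have hnd' : ((tr.map (fun t => t.1)).map (dec e)).Nodup := by
      apply List.Nodup.map_on _ hnd
      intro x hx y hy hxy
      rw [List.mem_map] at hx hy
      obtain ⟨tx, htx, rfl⟩ := hx
      obtain ⟨ty, hty, rfl⟩ := hy
      exact dec_inj e (hlt tx htx) (hlt ty hty) hxy
    have hstep := chain_step (genSub G gs.length) (bs.map (dec e)) (dec e b)
      ((tr.map (fun t => t.1)).map (dec e)) hnd' (by
        intro p hp
        rw [List.mem_map] at hp
        obtain ⟨x, hx, rfl⟩ := hp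
        rw [List.mem_map] at hx
        obtain ⟨t, ht, rfl⟩ := hx
        obtain ⟨j, hj, rfl⟩ := List.getElem_of_mem ht
        have := hls j hj
        rw [List.getD_eq_getElem _ _ hj] at this
        exact this)
    rw [List.length_map, List.length_map] at hstep
    show tr.length * levelsProd rest ≤ _
    calc tr.length * levelsProd rest
        ≤ tr.length * Nat.card ↥(genSub G gs.length ⊓ fixL Q ((b :: bs).map (dec e))) :=
          Nat.mul_le_mul_left _ h1
      _ ≤ _ := hstep

theorem card_genSub_ge [Finite ↥(Omega (ZMod 2) Q)] (G : ℕ → ↥(Omega (ZMod 2) Q))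
    (gs : List (List ℕ)) (hG : ∀ s < gs.length, matOf Q (G s) = toMat e (gs.getD s []))
    (slp : List (List ℕ × ℕ × List ℕ)) (hslp : slpOK n gs slp = true)
    (lv : List (ℕ × List (ℕ × ℕ × ℕ))) (hlv : levelsOK n slp [] lv = true) :
    levelsProd lv ≤ Nat.card ↥(genSub G gs.length) := by
  have h := chain_all e G gs hG slp hslp lv [] hlv
  exact le_trans h (Subgroup.card_le_of_le inf_le_left)

end Grp

end H1Van

end Cfsg.Agent.Lib.H27
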