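/-
helper27 library: vanishing of the first cohomology of `Ω(Q)` on the natural module over the field
with two elements, from a kernel-checkable certificate: two generators of odd order, a
straight-line program with an orbit-stabilizer chain showing that they generate `Ω(Q)`, and a set
of relators for which every solution of the Fox equations is a coboundary.
-/
import Mathlib
import Cfsg.Prelude.Def_Classical
import Cfsg.Agent.Lib.H27.H1VanChain

set_option autoImplicit false
set_option linter.unusedSectionVars false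

namespace Cfsg.Agent.Lib.H27

namespace H1Van

open Cfsg MulAction

section Grp

variable {ι : Type} [Fintype ι] [DecidableEq ι] {n : ℕ} (e : ι ≃ Fin n)
  (Q : (ι → ZMod 2) → ZMod 2)

/-- The data of a generator: rows, rows of the inverse, an odd number `m` with `g ^ m = 1`. -/
structure GenData where
  r : List ℕ
  r' : List ℕ
  m : ℕ
  hm : Odd m
  h1 : ∀ k < n, appR n r (appR n r' (2 ^ k)) = 2 ^ k
  h2 : ∀ k < n, appR n r' (appR n r (2 ^ k)) = 2 ^ k
  hiso : ∀ x < 2 ^ n, Q (dec e (appR n r x)) = Q (dec e x)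
  hord : ∀ k < n, (appR n r)^[m] (2 ^ k) = 2 ^ k

variable {e Q}

theorem toMat_mul_eq_one {r r' : List ℕ} (h1 : ∀ k < n, appR n r (appR n r' (2 ^ k)) = 2 ^ k) :
    toMat e r * toMat e r' = 1 := by
  apply mat_ext_basis e
  intro k hk
  rw [← Matrix.mulVec_mulVec, mulVec_dec, mulVec_dec, h1 k hk, Matrix.one_mulVec]

/-- The element of the general linear group. -/
def GenData.gl (A : GenData e Q) : Matrix.GeneralLinearGroup ι (ZMod 2) where
  val := toMat e A.r
  inv := toMat e A.r'
  val_inv := toMat_mul_eq_one A.h1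
  inv_val := toMat_mul_eq_one A.h2

theorem GenData.gl_mem (A : GenData e Q) : A.gl ∈ isometryGroup (ZMod 2) Q := by
  intro u _
  show Q ((toMat e A.r).mulVec u) = Q u
  have h := A.hiso (encV e u) (encV_lt e u)
  rw [← mulVec_dec, dec_encV] at h
  exact h

/-- The element of the isometry group. -/
def GenData.og (A : GenData e Q) : ↥(isometryGroup (ZMod 2) Q) := ⟨A.gl, A.gl_mem⟩

theorem pow_mulVec_dec (r : List ℕ) (m x : ℕ) :
    ((toMat e r) ^ m).mulVec (dec e x) = dec e ((appR n r)^[m] x) := by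
  induction m generalizing x with
  | zero => rw [pow_zero, Matrix.one_mulVec]; rfl
  | succ m ih =>
    rw [pow_succ, ← Matrix.mulVec_mulVec, mulVec_dec, ih, Function.iterate_succ_apply]

theorem GenData.og_pow (A : GenData e Q) : A.og ^ A.m = 1 := by
  apply Subtype.ext
  apply Units.ext
  show (toMat e A.r) ^ A.m = 1
  apply mat_ext_basis e
  intro k hk
  rw [pow_mulVec_dec, A.hord k hk, Matrix.one_mulVec]

theorem mem_of_odd_pow {G : Type*} [Group G] (H : Subgroup G) (hidx : H.index = 2) (g : G) (m : ℕ)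
    (hm : Odd m) (hg : g ^ m = 1) : g ∈ H := by
  obtain ⟨k, rfl⟩ := hm
  have h2 : (g ^ 2) ^ k ∈ H := H.pow_mem (Subgroup.sq_mem_of_index_two hidx g) k
  have h3 : g * (g ^ 2) ^ k = 1 := by
    rw [← pow_mul, ← pow_succ']
    exact hg
  have h4 : g = ((g ^ 2) ^ k)⁻¹ := eq_inv_of_mul_eq_one_left h3
  rw [h4]
  exact H.inv_mem h2

/-- The element of `Ω(Q)`. -/
def GenData.om (A : GenData e Q) (hidx : (Omega (ZMod 2) Q).index = 2) : ↥(Omega (ZMod 2) Q) :=
  ⟨A.og, mem_of_odd_pow _ hidx A.og A.m A.hm A.og_pow⟩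

theorem GenData.matOf_om (A : GenData e Q) (hidx : (Omega (ZMod 2) Q).index = 2) :
    matOf Q (A.om hidx) = toMat e A.r := rfl

theorem add_eq_sub_zmod2 (u w : ι → ZMod 2) : u + w = u - w := by
  funext i
  rw [Pi.add_apply, Pi.sub_apply]
  rcases zmod2_cases (w i) with h | h <;> rw [h]
  · rw [add_zero, sub_zero]
  · rcases zmod2_cases (u i) with h' | h' <;> rw [h'] <;> decide

/-- A combination of the values of the Fox derivatives of the relators. -/
def mixF (n : ℕ) (gs : List (List ℕ)) : List (List ℕ) → List (List ℕ) → ℕ → ℕ → ℕ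
  | r :: rs, M :: Ms, a, b => appR n M (foxN n gs [a, b] r) ^^^ mixF n gs rs Ms a b
  | [], _, _, _ => 0
  | _ :: _, [], _, _ => 0

theorem foxN_pair_add (gs : List (List ℕ)) (a b a' b' : ℕ) (r : List ℕ) :
    foxN n gs [a ^^^ a', b ^^^ b'] r = foxN n gs [a, b] r ^^^ foxN n gs [a', b'] r := by
  apply foxN_add
  intro s
  rcases s with _ | _ | s
  · rfl
  · rfl
  · show (0 : ℕ) = 0 ^^^ 0
    decide

theorem mixF_add (gs : List (List ℕ)) (rels Ms : List (List ℕ)) (a b a' b' : ℕ) :
    mixF n gs rels Ms (a ^^^ a') (b ^^^ b')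
      = mixF n gs rels Ms a b ^^^ mixF n gs rels Ms a' b' := by
  induction rels generalizing Ms with
  | nil =>
    show (0 : ℕ) = 0 ^^^ 0
    decide
  | cons r rs ih =>
    cases Ms with
    | nil =>
      show (0 : ℕ) = 0 ^^^ 0
      decide
    | cons M Ms =>
      show appR n M (foxN n gs [a ^^^ a', b ^^^ b'] r) ^^^ mixF n gs rs Ms (a ^^^ a') (b ^^^ b')
        = (appR n M (foxN n gs [a, b] r) ^^^ mixF n gs rs Ms a b)
          ^^^ (appR n M (foxN n gs [a', b'] r) ^^^ mixF n gs rs Ms a' b')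
      rw [ih, foxN_pair_add, appR_xor]
      ac_rfl

theorem mixF_zero (gs : List (List ℕ)) (rels Ms : List (List ℕ)) (a b : ℕ)
    (h : ∀ r ∈ rels, foxN n gs [a, b] r = 0) : mixF n gs rels Ms a b = 0 := by
  induction rels generalizing Ms with
  | nil => rfl
  | cons r rs ih =>
    cases Ms with
    | nil => rfl
    | cons M Ms =>
      show appR n M (foxN n gs [a, b] r) ^^^ mixF n gs rs Ms a b = 0
      rw [h r List.mem_cons_self, appR_zero, ih Ms (fun r' hr' => h r' (List.mem_cons_of_mem _ hr'))]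
      rfl

/-- The residue: for a cocycle `(a, b)` it is the coboundary of `LA a + LB b` (first entry for
`g = 0`, second for `g = 1`). -/
def resid (n : ℕ) (gs : List (List ℕ)) (rels : List (List ℕ)) (LA LB : List ℕ)
    (Ms : List (List ℕ)) (g : ℕ) (a b : ℕ) : ℕ :=
  (appR n (gs.getD g []) (appR n LA a ^^^ appR n LB b) ^^^ (appR n LA a ^^^ appR n LB b))
    ^^^ mixF n gs rels Ms a b

theorem resid_add (gs : List (List ℕ)) (rels : List (List ℕ)) (LA LB : List ℕ)
    (Ms : List (List ℕ)) (g : ℕ) (a b a' b' : ℕ) :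
    resid n gs rels LA LB Ms g (a ^^^ a') (b ^^^ b')
      = resid n gs rels LA LB Ms g a b ^^^ resid n gs rels LA LB Ms g a' b' := by
  unfold resid
  have h : appR n LA (a ^^^ a') ^^^ appR n LB (b ^^^ b')
      = (appR n LA a ^^^ appR n LB b) ^^^ (appR n LA a' ^^^ appR n LB b') := by
    rw [appR_xor, appR_xor]
    ac_rfl
  rw [mixF_add, h, appR_xor]
  ac_rfl

/-- The residue is the identity, given this on the basis. -/
theorem resid_eq (gs : List (List ℕ)) (rels : List (List ℕ)) (LA LB : List ℕ)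
    (Ms : List (List ℕ)) (g : ℕ)
    (hA : ∀ k < n, resid n gs rels LA LB Ms g (2 ^ k) 0 = if g = 0 then 2 ^ k else 0)
    (hB : ∀ k < n, resid n gs rels LA LB Ms g 0 (2 ^ k) = if g = 0 then 0 else 2 ^ k)
    (a b : ℕ) (ha : a < 2 ^ n) (hb : b < 2 ^ n) :
    resid n gs rels LA LB Ms g a b = if g = 0 then a else b := by
  have h1 : resid n gs rels LA LB Ms g a b
      = resid n gs rels LA LB Ms g a 0 ^^^ resid n gs rels LA LB Ms g 0 b := by
    rw [← resid_add, Nat.xor_zero, Nat.zero_xor]
  have hz : ∀ x y : ℕ, (0 : ℕ) = 0 ^^^ 0 := fun _ _ => by decide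
  have h2 : resid n gs rels LA LB Ms g a 0 = if g = 0 then a else 0 := by
    by_cases hg : g = 0
    · rw [if_pos hg]
      refine lin_ext n (fun x => resid n gs rels LA LB Ms g x 0) (fun x => x) ?_ (fun _ _ => rfl)
        ?_ a ha
      · intro x y
        show resid n gs rels LA LB Ms g (x ^^^ y) 0 = _
        rw [← resid_add, Nat.xor_zero]
      · intro k hk
        show resid n gs rels LA LB Ms g (2 ^ k) 0 = 2 ^ k
        rw [hA k hk, if_pos hg]
    · rw [if_neg hg]
      refine lin_ext n (fun x => resid n gs rels LA LB Ms g x 0) (fun _ => 0) ?_ hz ?_ a ha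
      · intro x y
        show resid n gs rels LA LB Ms g (x ^^^ y) 0 = _
        rw [← resid_add, Nat.xor_zero]
      · intro k hk
        show resid n gs rels LA LB Ms g (2 ^ k) 0 = 0
        rw [hA k hk, if_neg hg]
  have h3 : resid n gs rels LA LB Ms g 0 b = if g = 0 then 0 else b := by
    by_cases hg : g = 0
    · rw [if_pos hg]
      refine lin_ext n (fun x => resid n gs rels LA LB Ms g 0 x) (fun _ => 0) ?_ hz ?_ b hb
      · intro x y
        show resid n gs rels LA LB Ms g 0 (x ^^^ y) = _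
        rw [← resid_add, Nat.xor_zero]
      · intro k hk
        show resid n gs rels LA LB Ms g 0 (2 ^ k) = 0
        rw [hB k hk, if_pos hg]
    · rw [if_neg hg]
      refine lin_ext n (fun x => resid n gs rels LA LB Ms g 0 x) (fun x => x) ?_ (fun _ _ => rfl)
        ?_ b hb
      · intro x y
        show resid n gs rels LA LB Ms g 0 (x ^^^ y) = _
        rw [← resid_add, Nat.xor_zero]
      · intro k hk
        show resid n gs rels LA LB Ms g 0 (2 ^ k) = 2 ^ k
        rw [hB k hk, if_neg hg]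
  rw [h1, h2, h3]
  by_cases hg : g = 0
  · rw [if_pos hg, if_pos hg, if_pos hg, Nat.xor_zero]
  · rw [if_neg hg, if_neg hg, if_neg hg, Nat.zero_xor]

/-- The main theorem: every crossed homomorphism is principal. -/
theorem h1_vanish (hidx : (Omega (ZMod 2) Q).index = 2) (N : ℕ) (hN0 : N ≠ 0)
    (hcard : Nat.card ↥(Omega (ZMod 2) Q) = N) (A B : GenData e Q)
    (slp : List (List ℕ × ℕ × List ℕ)) (hslp : slpOK n [A.r, B.r] slp = true)
    (lv : List (ℕ × List (ℕ × ℕ × ℕ))) (hlv : levelsOK n slp [] lv = true)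
    (hNle : N ≤ levelsProd lv)
    (rels : List (List ℕ)) (hrl : ∀ r ∈ rels, ∀ s ∈ r, s < 2)
    (hrels : ∀ r ∈ rels, ∀ k < n, actW n [A.r, B.r] r (2 ^ k) = 2 ^ k)
    (LA LB : List ℕ) (MA MB : List (List ℕ))
    (hkA0 : ∀ k < n, resid n [A.r, B.r] rels LA LB MA 0 (2 ^ k) 0 = 2 ^ k)
    (hkA1 : ∀ k < n, resid n [A.r, B.r] rels LA LB MA 0 0 (2 ^ k) = 0)
    (hkB0 : ∀ k < n, resid n [A.r, B.r] rels LA LB MB 1 (2 ^ k) 0 = 0)
    (hkB1 : ∀ k < n, resid n [A.r, B.r] rels LA LB MB 1 0 (2 ^ k) = 2 ^ k)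
    (f : ↥(Omega (ZMod 2) Q) → (ι → ZMod 2)) (hf : IsCoc Q f) :
    ∃ v : ι → ZMod 2, ∀ g, f g = (matOf Q g).mulVec v - v := by
  have hfin : Finite ↥(Omega (ZMod 2) Q) := Nat.finite_of_card_ne_zero (by rw [hcard]; exact hN0)
  let G : ℕ → ↥(Omega (ZMod 2) Q) := fun s => if s = 0 then A.om hidx else B.om hidx
  have hG : ∀ s < [A.r, B.r].length, matOf Q (G s) = toMat e ([A.r, B.r].getD s []) := by
    intro s hs
    have hs2 : s < 2 := hs
    interval_cases s
    · exact A.matOf_om hidx
    · exact B.matOf_om hidx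
  -- generation
  have hge := card_genSub_ge e G [A.r, B.r] hG slp hslp lv hlv
  have htop : genSub G 2 = ⊤ := by
    apply Subgroup.eq_top_of_le_card
    rw [hcard]
    exact le_trans hNle hge
  -- the values on the generators
  set a := encV e (f (G 0)) with ha
  set b := encV e (f (G 1)) with hb
  have ha_lt : a < 2 ^ n := encV_lt e _
  have hb_lt : b < 2 ^ n := encV_lt e _
  have hxs : ∀ s, [a, b].getD s 0 < 2 ^ n := by
    intro s
    rcases s with _ | _ | s
    · exact ha_lt
    · exact hb_lt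
    · exact Nat.pos_of_ne_zero (by positivity)
  have hrel0 : ∀ r ∈ rels, foxN n [A.r, B.r] [a, b] r = 0 := by
    intro r hr
    have hw : ∀ s ∈ r, matOf Q (G s) = toMat e ([A.r, B.r].getD s []) :=
      fun s hs => hG s (hrl r hr s hs)
    have h1 := evalW_eq_one e G [A.r, B.r] r hw (hrels r hr)
    have h2 := foxW_eq hf G r
    rw [h1, hf.one] at h2
    have h3 := foxN_eq e f G [A.r, B.r] [a, b] r (by
      intro s hs
      refine ⟨hw s hs, ?_⟩
      have hs2 := hrl r hr s hs
      interval_cases s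
      · exact dec_encV e _
      · exact dec_encV e _)
    rw [← h2] at h3
    apply dec_inj e (foxN_lt _ _ hxs r) (Nat.pos_of_ne_zero (by positivity))
    rw [h3, dec_zero]
  set v := appR n LA a ^^^ appR n LB b with hv
  have hva : a = appR n A.r v ^^^ v := by
    have h1 := resid_eq [A.r, B.r] rels LA LB MA 0 (fun k hk => by rw [hkA0 k hk]; rfl)
      (fun k hk => by rw [hkA1 k hk]; rfl) a b ha_lt hb_lt
    unfold resid at h1
    rw [mixF_zero _ _ _ _ _ hrel0, Nat.xor_zero] at h1
    exact h1.symm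
  have hvb : b = appR n B.r v ^^^ v := by
    have h1 := resid_eq [A.r, B.r] rels LA LB MB 1 (fun k hk => by rw [hkB0 k hk]; rfl)
      (fun k hk => by rw [hkB1 k hk]; rfl) a b ha_lt hb_lt
    unfold resid at h1
    rw [mixF_zero _ _ _ _ _ hrel0, Nat.xor_zero] at h1
    exact h1.symm
  refine ⟨dec e v, ?_⟩
  apply principal_of_gens hf (dec e v) {g | ∃ s < 2, g = G s} htop
  rintro _ ⟨s, hs, rfl⟩
  interval_cases s
  · have h1 : f (G 0) = dec e a := (dec_encV e _).symm
    rw [h1, hva, dec_xor, ← mulVec_dec, add_eq_sub_zmod2]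
    rfl
  · have h1 : f (G 1) = dec e b := (dec_encV e _).symm
    rw [h1, hvb, dec_xor, ← mulVec_dec, add_eq_sub_zmod2]
    rfl

end Grp

end H1Van

end Cfsg.Agent.Lib.H27
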