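/-
helper27 library: vanishing of the first cohomology of `Ω_4^-(2)` on its natural module
(certificate data generated by a script, checked by the kernel).
-/
import Mathlib
import Cfsg.Prelude.Def_Classical
import Cfsg.Agent.Lib.H27.H1VanMain
import Cfsg.Agent.S0288
import Cfsg.Agent.S0824

set_option autoImplicit false

namespace Cfsg.Agent.Lib.H27

namespace H1Van

namespace M4

open Cfsg

/-- The index type. -/
abbrev I4 : Type := (Fin 1 ⊕ Fin 1) ⊕ Fin 2

/-- The numbering of the coordinates. -/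
def e4 : I4 ≃ Fin 4 := (Equiv.sumCongr finSumFinEquiv (Equiv.refl (Fin 2))).trans finSumFinEquiv

/-- The quadratic form. -/
abbrev Q4 : (I4 → ZMod 2) → ZMod 2 := quadFormMinus 1 (ZMod 2) 1 1

theorem hab : ∀ z₁ z₂ : ZMod 2, z₁ ^ 2 + 1 * z₁ * z₂ + 1 * z₂ ^ 2 = 0 → z₁ = 0 ∧ z₂ = 0 := by decide

theorem card_O4 : Nat.card ↥(isometryGroup (ZMod 2) Q4) = 120 := by
  have h := Cfsg.Agent.S0288.result (F := ZMod 2) (q := 2) (ZMod.card 2) 2 (by norm_num) 1 1 hab
  exact h.trans (by decide)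

/-- An isomorphism carries the commutator subgroup onto the commutator subgroup. -/
theorem map_commutator_equiv {G H : Type*} [Group G] [Group H] (e : G ≃* H) :
    (commutator G).map (e : G →* H) = commutator H := by
  rw [commutator_def, commutator_def, Subgroup.map_commutator]
  have : (⊤ : Subgroup G).map (e : G →* H) = ⊤ := by
    rw [← MonoidHom.range_eq_map]
    exact MonoidHom.range_eq_top.2 e.surjective
  rw [this]

theorem index_Om4 : (Omega (ZMod 2) Q4).index = 2 := by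
  obtain ⟨e⟩ := Cfsg.Agent.S0824.result (F := ZMod 2) (ZMod.card 2)
  have h5 : 5 ≤ Nat.card (Fin 5) := by simp
  have hmap : (Omega (ZMod 2) Q4).map (e : _ →* Equiv.Perm (Fin 5)) = alternatingGroup (Fin 5) := by
    rw [← alternatingGroup.commutator_perm_eq h5]
    exact map_commutator_equiv e
  rw [← Subgroup.index_map_equiv _ e, hmap]
  exact alternatingGroup.index_eq_two

theorem card_Om4 : Nat.card ↥(Omega (ZMod 2) Q4) = 60 := by
  have h := Subgroup.card_mul_index (Omega (ZMod 2) Q4)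
  rw [index_Om4, card_O4] at h
  omega

def rA : List ℕ := [15, 2, 12, 6]

def rAi : List ℕ := [7, 2, 10, 14]

def rB : List ℕ := [11, 1, 13, 8]

def rBi : List ℕ := [2, 11, 14, 8]

def ordA : ℕ := 3

def ordB : ℕ := 3

def slp : List (List ℕ × ℕ × List ℕ) := [
  ([15, 2, 12, 6], 0, [0]),
  ([11, 1, 13, 8], 0, [1]),
  ([1, 11, 8, 13], 1, [0, 1, 0, 0, 0, 1, 0, 0]),
  ([15, 11, 6, 5], 1, [0, 1, 1]),
  ([1, 7, 13, 4], 2, [2]),
  ([15, 2, 12, 6], 1, [4, 3]),
  ([1, 7, 13, 4], 1, [2, 2]),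
  ([1, 15, 9, 12], 1, [0, 0, 1, 0]),
  ([1, 11, 8, 13], 2, [6]),
  ([1, 2, 12, 4], 1, [8, 7])]

def lv : List (ℕ × List (ℕ × ℕ × ℕ)) := [
  (1, [(1, 0, 0), (11, 0, 2), (7, 1, 2), (15, 1, 5), (2, 3, 5)]),
  (2, [(2, 0, 0), (11, 0, 5), (15, 1, 5), (7, 1, 9)]),
  (4, [(4, 0, 0), (12, 0, 9), (8, 1, 9)])]

def rels : List (List ℕ) := [[0, 0, 0], [1, 1, 1]]

def LA : List ℕ := [4, 4, 8, 4]

def LB : List ℕ := [4, 6, 6, 0]

def MA : List (List ℕ) := [[1, 4, 0, 0], [0, 0, 0, 0]]

def MB : List (List ℕ) := [[0, 0, 0, 0], [4, 0, 0, 8]]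

/-- The first generator. -/
def datA : GenData e4 Q4 where
  r := rA
  r' := rAi
  m := ordA
  hm := by decide
  h1 := by decide +kernel
  h2 := by decide +kernel
  hiso := by decide +kernel
  hord := by decide +kernel

/-- The second generator. -/
def datB : GenData e4 Q4 where
  r := rB
  r' := rBi
  m := ordB
  hm := by decide
  h1 := by decide +kernel
  h2 := by decide +kernel
  hiso := by decide +kernel
  hord := by decide +kernel

theorem slp_ok : slpOK 4 [rA, rB] slp = true := by decide +kernel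

theorem lv_ok : levelsOK 4 slp [] lv = true := by decide +kernel

theorem lv_prod : 60 ≤ levelsProd lv := by decide +kernel

theorem rels_letters : ∀ r ∈ rels, ∀ s ∈ r, s < 2 := by decide +kernel

theorem rels_ok : ∀ r ∈ rels, ∀ k < 4, actW 4 [rA, rB] r (2 ^ k) = 2 ^ k := by decide +kernel

theorem kerA0 : ∀ k < 4, resid 4 [rA, rB] rels LA LB MA 0 (2 ^ k) 0 = 2 ^ k := by
  decide +kernel

theorem kerA1 : ∀ k < 4, resid 4 [rA, rB] rels LA LB MA 0 0 (2 ^ k) = 0 := by
  decide +kernel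

theorem kerB0 : ∀ k < 4, resid 4 [rA, rB] rels LA LB MB 1 (2 ^ k) 0 = 0 := by
  decide +kernel

theorem kerB1 : ∀ k < 4, resid 4 [rA, rB] rels LA LB MB 1 0 (2 ^ k) = 2 ^ k := by
  decide +kernel

/-- Every crossed homomorphism into the natural module is principal. -/
theorem vanish (f : ↥(Omega (ZMod 2) Q4) → (I4 → ZMod 2)) (hf : IsCoc Q4 f) :
    ∃ v : I4 → ZMod 2, ∀ g, f g = (matOf Q4 g).mulVec v - v :=
  h1_vanish (e := e4) index_Om4 60 (by norm_num) card_Om4 datA datB slp slp_ok lv lv_ok lv_prod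
    rels rels_letters rels_ok LA LB MA MB kerA0 kerA1 kerB0 kerB1 f hf

end M4

end H1Van

end Cfsg.Agent.Lib.H27
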