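/-
helper27 library: vanishing of the first cohomology of an orthogonal group over the field with two
elements on its natural module (certificate data generated by a script, checked by the kernel).
-/
import Mathlib
import Cfsg.Prelude.Def_Classical
import Cfsg.Agent.Lib.H27.H1VanMain
import Cfsg.Agent.S0288
import Cfsg.Agent.S0789
import Cfsg.Agent.Lib.H27.CentOOrth

set_option autoImplicit false

namespace Cfsg.Agent.Lib.H27

namespace H1Van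

namespace M6

open Cfsg

/-- The index type. -/
abbrev II : Type := (Fin 2 ⊕ Fin 2) ⊕ Fin 2

/-- The numbering of the coordinates. -/
def ee : II ≃ Fin 6 := (Equiv.sumCongr finSumFinEquiv (Equiv.refl (Fin 2))).trans finSumFinEquiv

/-- The quadratic form. -/
abbrev QQ : (II → ZMod 2) → ZMod 2 := quadFormMinus 2 (ZMod 2) 1 1

open Cfsg.Agent.Lib.H11.IsoReindex

theorem hab : ∀ z₁ z₂ : ZMod 2, z₁ ^ 2 + 1 * z₁ * z₂ + 1 * z₂ ^ 2 = 0 → z₁ = 0 ∧ z₂ = 0 := by decide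

theorem card_OQ : Nat.card ↥(isometryGroup (ZMod 2) QQ) = 51840 := by
  have h := Cfsg.Agent.S0288.result (F := ZMod 2) (q := 2) (ZMod.card 2) 3 (by norm_num) 1 1 hab
  exact h.trans (by decide)

theorem card6 : Fintype.card II = 6 := by decide

theorem index_tr : (Cfsg.Omega (ZMod 2)
    ⇑(trQF (Fintype.equivFin II) (Cfsg.Agent.Lib.H13.minusQF (ZMod 2) 2 1 1))).index = 2 := by
  have hnd := Cfsg.Agent.S0288.nondeg (F := ZMod 2) 1 1 hab 2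
  exact Cfsg.Agent.S0789.result (by rw [card6]; norm_num) _ (nondeg_trQF _ _ hnd)
    (Or.inr (by rw [card6]; norm_num))

theorem index_OmQ : (Omega (ZMod 2) QQ).index = 2 := by
  have h := index_tr
  rw [coe_trQF] at h
  have h2 := CentO.index_commutator_congr
    (isoEquiv (Fintype.equivFin II) ⇑(Cfsg.Agent.Lib.H13.minusQF (ZMod 2) 2 1 1))
  unfold Cfsg.Omega at h
  rw [h2, Cfsg.Agent.S0288.coe_minusQF] at h
  exact h

theorem card_OmQ : Nat.card ↥(Omega (ZMod 2) QQ) = 25920 := by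
  have h := Subgroup.card_mul_index (Omega (ZMod 2) QQ)
  rw [index_OmQ, card_OQ] at h
  omega

def rA : List ℕ := [30, 4, 62, 3, 34, 44]

def rAi : List ℕ := [29, 21, 2, 39, 49, 5]

def rB : List ℕ := [1, 58, 29, 42, 19, 11]

def rBi : List ℕ := [1, 27, 53, 58, 10, 41]

def ordA : ℕ := 9

def ordB : ℕ := 5

def slp : List (List ℕ × ℕ × List ℕ) := [
  ([30, 4, 62, 3, 34, 44], 0, [0]),
  ([1, 58, 29, 42, 19, 11], 0, [1]),
  ([21, 62, 4, 26, 10, 38], 1, [0, 1, 0, 0, 0, 1, 0, 0]),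
  ([30, 37, 15, 9, 25, 47], 1, [0, 1, 1]),
  ([8, 21, 15, 53, 44, 5], 1, [2, 3]),
  ([43, 6, 15, 12, 32, 31], 1, [2, 4]),
  ([4, 58, 15, 42, 10, 22], 1, [2, 5]),
  ([4, 2, 55, 26, 50, 38], 1, [0, 0, 1, 0]),
  ([21, 43, 1, 59, 10, 24], 2, [6]),
  ([1, 58, 4, 8, 24, 40], 1, [8, 7]),
  ([27, 12, 4, 46, 36, 28], 1, [2, 2]),
  ([59, 30, 4, 6, 34, 20], 1, [2, 10]),
  ([29, 42, 4, 58, 24, 14], 1, [2, 11]),
  ([29, 30, 53, 58, 44, 63], 1, [0, 0, 0, 1, 0, 0, 0, 0, 1, 1, 0, 0]),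
  ([21, 62, 4, 26, 10, 38], 2, [12]),
  ([4, 2, 53, 8, 36, 20], 1, [14, 13]),
  ([8, 21, 15, 53, 44, 5], 1, [2, 3]),
  ([8, 29, 58, 1, 49, 24], 1, [1, 0, 0, 0, 1, 0, 0, 0, 0, 1, 1, 1]),
  ([59, 37, 27, 1, 34, 10], 2, [16]),
  ([61, 42, 37, 8, 5, 28], 1, [18, 17]),
  ([27, 12, 4, 46, 36, 28], 1, [2, 2]),
  ([59, 30, 4, 6, 34, 20], 1, [2, 20]),
  ([29, 42, 4, 58, 24, 14], 1, [2, 21]),
  ([61, 59, 37, 8, 13, 20], 1, [9, 19]),
  ([29, 55, 53, 58, 5, 19], 1, [1, 1, 1, 0, 0, 0, 0, 1, 1, 1]),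
  ([21, 62, 4, 26, 10, 38], 2, [22]),
  ([45, 46, 53, 8, 13, 17], 1, [25, 24]),
  ([53, 46, 45, 8, 13, 28], 2, [23]),
  ([4, 2, 1, 8, 16, 48], 1, [27, 26]),
  ([53, 2, 1, 8, 33, 17], 2, [15]),
  ([37, 2, 4, 8, 52, 20], 1, [29, 28]),
  ([27, 12, 4, 46, 36, 28], 1, [2, 2]),
  ([61, 59, 37, 8, 13, 20], 1, [9, 19]),
  ([9, 39, 12, 8, 24, 32], 1, [19, 32]),
  ([30, 4, 12, 3, 60, 44], 1, [1, 0, 0, 1, 0, 1, 0, 1, 1, 0]),
  ([59, 30, 4, 6, 34, 20], 2, [31]),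
  ([9, 55, 12, 8, 40, 48], 1, [35, 34]),
  ([9, 39, 12, 8, 24, 32], 2, [33]),
  ([1, 2, 4, 8, 32, 48], 1, [37, 36])]

def lv : List (ℕ × List (ℕ × ℕ × ℕ)) := [
  (2, [(2, 0, 0), (58, 0, 2), (37, 0, 3), (9, 1, 2), (43, 1, 3), (8, 1, 9), (15, 1, 19), (26, 1, 38), (4, 2, 2), (59, 2, 3), (39, 2, 9), (53, 2, 38), (27, 3, 2), (3, 3, 3), (12, 3, 15), (62, 3, 19), (61, 5, 3), (6, 6, 2), (1, 6, 3), (42, 7, 9), (46, 7, 15), (21, 9, 3), (30, 10, 3), (55, 10, 38), (29, 12, 19), (23, 13, 19), (45, 16, 19)]),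
  (8, [(8, 0, 0), (58, 0, 9), (43, 0, 19), (15, 1, 19), (26, 1, 38), (27, 2, 9), (59, 2, 19), (61, 3, 9), (9, 3, 19), (62, 3, 30), (42, 4, 9), (46, 4, 15), (29, 5, 19), (45, 7, 19), (12, 8, 15), (30, 9, 30)]),
  (1, [(1, 0, 0), (4, 0, 15), (53, 1, 15), (21, 2, 30), (37, 3, 38)]),
  (4, [(4, 0, 0), (53, 0, 30), (21, 1, 30), (37, 2, 38)]),
  (16, [(16, 0, 0), (32, 0, 38), (48, 1, 38)])]

def rels : List (List ℕ) := [[1, 1, 1, 1, 1], [0, 0, 1, 0, 0, 1, 0, 0, 1, 0, 0, 1, 0, 0, 1, 0, 0, 1], [0, 0, 0, 1, 0, 0, 0, 1, 0, 0, 0, 1, 0, 0, 0, 1, 0, 0, 0, 1]]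

def LA : List ℕ := [8, 8, 40, 8, 0, 8]

def LB : List ℕ := [56, 40, 16, 16, 44, 32]

def MA : List (List ℕ) := [[4, 36, 0, 0, 36, 0], [16, 32, 48, 0, 48, 0], [0, 0, 34, 0, 2, 0]]

def MB : List (List ℕ) := [[32, 4, 0, 0, 0, 0], [0, 0, 0, 0, 0, 0], [0, 0, 0, 0, 0, 0]]

/-- The first generator. -/
def datA : GenData ee QQ where
  r := rA
  r' := rAi
  m := ordA
  hm := by decide
  h1 := by decide +kernel
  h2 := by decide +kernel
  hiso := by decide +kernel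
  hord := by decide +kernel

/-- The second generator. -/
def datB : GenData ee QQ where
  r := rB
  r' := rBi
  m := ordB
  hm := by decide
  h1 := by decide +kernel
  h2 := by decide +kernel
  hiso := by decide +kernel
  hord := by decide +kernel

theorem slp_ok : slpOK 6 [rA, rB] slp = true := by decide +kernel

theorem lv_ok : levelsOK 6 slp [] lv = true := by decide +kernel

theorem lv_prod : 25920 ≤ levelsProd lv := by decide +kernel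

theorem rels_letters : ∀ r ∈ rels, ∀ s ∈ r, s < 2 := by decide +kernel

theorem rels_ok : ∀ r ∈ rels, ∀ k < 6, actW 6 [rA, rB] r (2 ^ k) = 2 ^ k := by decide +kernel

theorem kerA0 : ∀ k < 6, resid 6 [rA, rB] rels LA LB MA 0 (2 ^ k) 0 = 2 ^ k := by
  decide +kernel

theorem kerA1 : ∀ k < 6, resid 6 [rA, rB] rels LA LB MA 0 0 (2 ^ k) = 0 := by
  decide +kernel

theorem kerB0 : ∀ k < 6, resid 6 [rA, rB] rels LA LB MB 1 (2 ^ k) 0 = 0 := by
  decide +kernel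

theorem kerB1 : ∀ k < 6, resid 6 [rA, rB] rels LA LB MB 1 0 (2 ^ k) = 2 ^ k := by
  decide +kernel

/-- Every crossed homomorphism into the natural module is principal. -/
theorem vanish (f : ↥(Omega (ZMod 2) QQ) → (II → ZMod 2)) (hf : IsCoc QQ f) :
    ∃ v : II → ZMod 2, ∀ g, f g = (matOf QQ g).mulVec v - v :=
  h1_vanish (e := ee) index_OmQ 25920 (by norm_num) card_OmQ datA datB slp slp_ok lv lv_ok lv_prod
    rels rels_letters rels_ok LA LB MA MB kerA0 kerA1 kerB0 kerB1 f hf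

end M6

end H1Van

end Cfsg.Agent.Lib.H27
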