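/-
helper27 library: vanishing of the first cohomology of an orthogonal group over the field with two
elements on its natural module (certificate data generated by a script, checked by the kernel).
-/
import Mathlib
import Cfsg.Prelude.Def_Classical
import Cfsg.Agent.Lib.H27.H1VanMain
import Cfsg.Agent.Lib.H27.CentOOrth

set_option autoImplicit false

namespace Cfsg.Agent.Lib.H27

namespace H1Van

namespace P8

open Cfsg

/-- The index type. -/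
abbrev II : Type := Fin 4 ⊕ Fin 4

/-- The numbering of the coordinates. -/
def ee : II ≃ Fin 8 := finSumFinEquiv

/-- The quadratic form. -/
abbrev QQ : (II → ZMod 2) → ZMod 2 := quadFormPlus 4 (ZMod 2)

theorem index_OmQ : (Omega (ZMod 2) QQ).index = 2 := CentO.index_Om

theorem card_OmQ : Nat.card ↥(Omega (ZMod 2) QQ) = 174182400 := CentO.card_Om

def rA : List ℕ := [153, 102, 204, 75, 74, 133, 36, 60]

def rAi : List ℕ := [24, 44, 225, 82, 146, 161, 110, 217]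

def rB : List ℕ := [36, 13, 157, 9, 15, 110, 1, 207]

def rBi : List ℕ := [64, 18, 10, 72, 237, 11, 123, 235]

def ordA : ℕ := 15

def ordB : ℕ := 9

def slp : List (List ℕ × ℕ × List ℕ) := [
  ([153, 102, 204, 75, 74, 133, 36, 60], 0, [0]),
  ([36, 13, 157, 9, 15, 110, 1, 207], 0, [1]),
  ([150, 87, 96, 65, 73, 9, 67, 249], 1, [0, 1, 0, 0, 0, 1, 0, 0]),
  ([16, 18, 10, 74, 185, 240, 134, 22], 1, [0, 1, 1]),
  ([135, 171, 74, 213, 148, 215, 130, 45], 1, [2, 2]),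
  ([148, 63, 126, 252, 60, 236, 204, 117], 1, [3, 4]),
  ([8, 37, 32, 88, 164, 104, 103, 1], 1, [2, 5]),
  ([164, 129, 125, 26, 157, 170, 4, 161], 1, [3, 6]),
  ([72, 133, 245, 24, 155, 66, 2, 75], 1, [0, 0, 1, 0]),
  ([193, 90, 64, 59, 105, 130, 85, 195], 2, [7]),
  ([1, 4, 2, 12, 16, 206, 36, 132], 1, [9, 8]),
  ([150, 96, 87, 33, 73, 204, 105, 153], 1, [10, 2]),
  ([150, 87, 96, 118, 73, 230, 155, 206], 1, [10, 11]),
  ([176, 115, 125, 13, 123, 224, 90, 26], 1, [2, 12]),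
  ([14, 189, 171, 175, 41, 174, 206, 126], 1, [0, 0, 0, 1, 0, 0, 0, 0, 1, 1, 0, 0]),
  ([125, 115, 103, 18, 225, 45, 192, 205], 2, [13]),
  ([67, 250, 120, 148, 16, 164, 176, 186], 1, [15, 14]),
  ([150, 96, 87, 33, 73, 204, 105, 153], 1, [10, 2]),
  ([73, 41, 65, 40, 171, 117, 174, 126], 1, [3, 17]),
  ([73, 65, 41, 105, 171, 144, 52, 63], 1, [10, 18]),
  ([33, 118, 246, 150, 16, 72, 90, 82], 1, [16, 10]),
  ([13, 176, 148, 180, 16, 236, 10, 234], 1, [16, 20]),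
  ([183, 24, 66, 110, 16, 146, 22, 18], 1, [16, 21]),
  ([185, 240, 250, 64, 16, 194, 144, 230], 1, [16, 22]),
  ([185, 250, 240, 186, 16, 60, 56, 28], 1, [10, 23]),
  ([123, 72, 174, 252, 16, 208, 48, 112], 1, [16, 24]),
  ([87, 195, 67, 115, 51, 8, 90, 85], 1, [1, 0, 0, 0, 1, 0, 0, 0, 0, 1, 1, 1]),
  ([14, 205, 176, 3, 249, 9, 12, 217], 2, [19]),
  ([243, 104, 110, 148, 16, 36, 48, 24], 1, [27, 26]),
  ([159, 220, 186, 194, 16, 80, 192, 240], 2, [25]),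
  ([105, 194, 208, 64, 16, 32, 40, 28], 1, [29, 28]),
  ([135, 171, 74, 213, 148, 215, 130, 45], 1, [2, 2]),
  ([148, 63, 126, 252, 60, 236, 204, 117], 1, [3, 31]),
  ([33, 118, 246, 150, 16, 72, 90, 82], 1, [16, 10]),
  ([165, 126, 24, 90, 16, 72, 222, 112], 1, [30, 33]),
  ([105, 208, 190, 222, 16, 72, 18, 82], 1, [30, 34]),
  ([105, 190, 208, 96, 16, 240, 246, 236], 1, [10, 35]),
  ([72, 67, 148, 150, 128, 134, 230, 231], 1, [1, 1, 1, 0, 0, 0, 0, 1, 1, 1]),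
  ([249, 235, 206, 150, 40, 96, 255, 231], 2, [32]),
  ([217, 26, 64, 176, 16, 96, 14, 24], 1, [38, 37]),
  ([103, 190, 222, 110, 16, 36, 44, 56], 2, [36]),
  ([237, 130, 236, 132, 16, 32, 144, 192], 1, [40, 39]),
  ([48, 4, 32, 28, 185, 240, 175, 144], 1, [41, 3]),
  ([195, 240, 26, 176, 16, 164, 48, 252], 1, [30, 16]),
  ([231, 60, 220, 48, 16, 164, 20, 186], 1, [30, 43]),
  ([33, 246, 36, 40, 16, 32, 96, 128], 1, [30, 30]),
  ([237, 118, 204, 164, 16, 32, 144, 224], 1, [41, 45]),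
  ([4, 40, 20, 8, 73, 10, 9, 186], 1, [1, 0, 0, 1, 0, 1, 0, 1, 1, 0]),
  ([155, 87, 2, 15, 5, 4, 164, 133], 2, [42]),
  ([215, 120, 40, 48, 16, 20, 164, 170], 1, [48, 47]),
  ([237, 186, 80, 90, 16, 24, 118, 104], 2, [44]),
  ([213, 230, 180, 252, 16, 32, 240, 128], 1, [50, 49]),
  ([37, 186, 120, 220, 16, 32, 240, 80], 2, [46]),
  ([65, 170, 60, 40, 16, 32, 64, 224], 1, [52, 51]),
  ([183, 55, 118, 150, 220, 90, 132, 131], 1, [2, 3]),
  ([255, 48, 219, 132, 220, 90, 204, 60], 1, [30, 54]),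
  ([1, 64, 66, 194, 16, 164, 170, 10], 1, [41, 16]),
  ([235, 150, 220, 88, 16, 236, 190, 60], 1, [16, 56]),
  ([217, 210, 64, 144, 16, 32, 164, 120], 1, [30, 41]),
  ([245, 170, 44, 56, 16, 32, 104, 220], 1, [41, 58]),
  ([117, 118, 128, 240, 16, 32, 204, 180], 1, [41, 59]),
  ([95, 56, 111, 88, 150, 220, 134, 44], 1, [1, 1, 1, 1]),
  ([123, 56, 87, 213, 80, 82, 157, 95], 2, [55]),
  ([243, 18, 24, 12, 16, 40, 210, 64], 1, [62, 61]),
  ([237, 30, 210, 118, 16, 52, 110, 222], 2, [57]),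
  ([93, 22, 144, 224, 16, 32, 252, 132], 1, [64, 63]),
  ([185, 186, 180, 204, 16, 32, 60, 4], 2, [60]),
  ([9, 66, 36, 8, 16, 32, 64, 144], 1, [66, 65]),
  ([150, 96, 87, 33, 73, 204, 105, 153], 1, [10, 2]),
  ([150, 87, 96, 118, 73, 230, 155, 206], 1, [10, 68]),
  ([157, 2, 28, 155, 73, 230, 144, 95], 1, [30, 69]),
  ([231, 164, 176, 36, 16, 206, 194, 30], 1, [30, 10]),
  ([97, 186, 134, 174, 16, 206, 14, 220], 1, [41, 71]),
  ([65, 190, 160, 96, 16, 32, 40, 20], 1, [53, 30]),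
  ([157, 170, 220, 180, 16, 32, 4, 60], 1, [41, 73]),
  ([41, 174, 252, 180, 16, 32, 4, 44], 1, [67, 74]),
  ([9, 6, 4, 1, 129, 32, 96, 153], 1, [1, 0, 0, 1, 1, 0, 0, 1, 1, 1, 1, 1]),
  ([220, 2, 11, 150, 153, 170, 90, 217], 2, [70]),
  ([125, 6, 14, 26, 16, 190, 230, 112], 1, [77, 76]),
  ([41, 176, 26, 234, 16, 230, 206, 174], 2, [72]),
  ([217, 222, 12, 52, 16, 32, 132, 220], 1, [79, 78]),
  ([193, 250, 64, 224, 16, 32, 236, 120], 2, [75]),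
  ([129, 130, 132, 120, 16, 32, 64, 128], 1, [81, 80]),
  ([157, 237, 243, 67, 73, 9, 72, 104], 1, [30, 2]),
  ([4, 133, 153, 155, 73, 9, 33, 32], 1, [41, 83]),
  ([33, 118, 246, 150, 16, 72, 90, 82], 1, [16, 10]),
  ([13, 176, 148, 180, 16, 236, 10, 234], 1, [16, 85]),
  ([13, 148, 176, 32, 16, 112, 120, 126], 1, [10, 86]),
  ([237, 222, 132, 204, 16, 32, 12, 52], 1, [41, 30]),
  ([225, 6, 120, 236, 16, 32, 12, 24], 1, [53, 88]),
  ([40, 243, 235, 155, 237, 125, 73, 20], 1, [1, 1, 0]),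
  ([192, 12, 1, 224, 231, 128, 48, 195], 2, [84]),
  ([93, 112, 40, 32, 16, 20, 144, 134], 1, [91, 90]),
  ([111, 206, 14, 96, 16, 8, 56, 28], 2, [87]),
  ([161, 110, 120, 132, 16, 32, 36, 24], 1, [93, 92]),
  ([73, 210, 208, 144, 16, 32, 164, 204], 2, [89]),
  ([1, 66, 44, 8, 16, 32, 64, 192], 1, [95, 94]),
  ([130, 236, 66, 208, 73, 144, 185, 175], 1, [16, 2]),
  ([45, 67, 237, 176, 73, 144, 185, 175], 1, [82, 97]),
  ([231, 164, 176, 36, 16, 206, 194, 30], 1, [30, 10]),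
  ([129, 130, 56, 190, 16, 96, 192, 64], 1, [16, 99]),
  ([245, 66, 24, 44, 16, 32, 208, 80], 1, [41, 41]),
  ([105, 234, 28, 40, 16, 32, 64, 240], 1, [67, 53]),
  ([105, 170, 20, 40, 16, 32, 64, 176], 1, [96, 102]),
  ([207, 135, 159, 48, 131, 240, 3, 133], 1, [0, 1, 0, 0, 1, 0, 0, 1, 1, 1, 0, 0]),
  ([134, 220, 97, 206, 125, 40, 88, 93], 2, [98]),
  ([157, 170, 60, 174, 16, 192, 176, 224], 1, [105, 104]),
  ([193, 194, 14, 180, 16, 160, 128, 192], 2, [100]),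
  ([205, 250, 56, 12, 16, 32, 224, 80], 1, [107, 106]),
  ([93, 146, 60, 20, 16, 32, 144, 192], 2, [101]),
  ([9, 186, 4, 40, 16, 32, 64, 176], 1, [109, 108]),
  ([73, 186, 20, 40, 16, 32, 64, 176], 2, [103]),
  ([97, 18, 20, 8, 16, 32, 64, 128], 1, [111, 110]),
  ([215, 20, 105, 65, 73, 9, 67, 176], 1, [67, 2]),
  ([5, 164, 210, 217, 73, 9, 249, 243], 1, [41, 113]),
  ([13, 32, 204, 12, 16, 206, 36, 148], 1, [67, 10]),
  ([235, 144, 160, 36, 16, 206, 194, 208], 1, [30, 115]),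
  ([117, 222, 204, 88, 16, 32, 40, 28], 1, [82, 30]),
  ([245, 194, 128, 208, 16, 32, 12, 52], 1, [41, 117]),
  ([225, 146, 148, 120, 16, 32, 64, 128], 1, [112, 82]),
  ([75, 22, 102, 189, 213, 111, 87, 67], 1, [1, 1, 0, 1, 1, 1, 1, 1, 0, 0]),
  ([204, 44, 205, 236, 159, 72, 48, 135], 2, [114]),
  ([207, 180, 132, 160, 16, 234, 186, 120], 1, [121, 120]),
  ([41, 208, 30, 126, 16, 22, 130, 18], 2, [116]),
  ([133, 210, 128, 208, 16, 32, 204, 164], 1, [123, 122]),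
  ([153, 26, 176, 240, 16, 32, 28, 4], 2, [118]),
  ([225, 18, 148, 88, 16, 32, 64, 128], 1, [125, 124]),
  ([225, 146, 148, 120, 16, 32, 64, 128], 2, [119]),
  ([1, 130, 4, 40, 16, 32, 64, 128], 1, [127, 126]),
  ([73, 30, 22, 85, 110, 250, 206, 126], 1, [3, 2]),
  ([73, 22, 30, 67, 110, 237, 236, 104], 1, [10, 129]),
  ([14, 195, 1, 165, 230, 10, 179, 13], 1, [2, 130]),
  ([33, 118, 246, 150, 16, 72, 90, 82], 1, [16, 10]),
  ([237, 222, 132, 204, 16, 32, 12, 52], 1, [41, 30]),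
  ([189, 234, 80, 176, 16, 32, 36, 56], 1, [41, 133]),
  ([97, 210, 220, 104, 16, 32, 40, 28], 1, [41, 134]),
  ([190, 63, 225, 65, 52, 20, 125, 217], 1, [0, 0, 0, 0]),
  ([4, 133, 33, 165, 236, 55, 153, 26], 2, [131]),
  ([225, 134, 170, 146, 16, 64, 18, 74], 1, [137, 136]),
  ([237, 112, 110, 192, 16, 236, 224, 6], 2, [132]),
  ([193, 66, 236, 88, 16, 32, 24, 44], 1, [139, 138]),
  ([105, 150, 240, 96, 16, 32, 72, 204], 2, [135]),
  ([161, 146, 4, 56, 16, 32, 64, 128], 1, [141, 140]),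
  ([150, 174, 96, 72, 73, 9, 67, 249], 1, [128, 2]),
  ([13, 32, 204, 12, 16, 206, 36, 148], 1, [67, 10]),
  ([245, 66, 24, 44, 16, 32, 208, 80], 1, [41, 41]),
  ([217, 146, 56, 44, 16, 32, 208, 64], 1, [67, 145]),
  ([105, 234, 28, 40, 16, 32, 64, 240], 1, [67, 53]),
  ([105, 170, 20, 40, 16, 32, 64, 176], 1, [96, 147]),
  ([44, 150, 102, 204, 105, 1, 237, 111], 1, [1, 0, 1]),
  ([24, 104, 205, 56, 15, 52, 48, 171], 2, [143]),
  ([165, 32, 4, 164, 16, 14, 104, 24], 1, [150, 149]),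
  ([9, 36, 66, 74, 16, 2, 222, 210], 2, [144]),
  ([1, 10, 72, 236, 16, 32, 224, 64], 1, [152, 151]),
  ([117, 194, 28, 52, 16, 32, 128, 208], 2, [146]),
  ([153, 170, 180, 120, 16, 32, 64, 176], 1, [154, 153]),
  ([73, 186, 20, 40, 16, 32, 64, 176], 2, [148]),
  ([161, 82, 164, 88, 16, 32, 64, 128], 1, [156, 155]),
  ([161, 146, 4, 56, 16, 32, 64, 128], 2, [142]),
  ([1, 194, 164, 104, 16, 32, 64, 128], 1, [158, 157]),
  ([220, 30, 41, 65, 73, 9, 67, 249], 1, [112, 2]),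
  ([73, 87, 95, 28, 36, 250, 206, 126], 1, [3, 160]),
  ([33, 118, 246, 150, 16, 72, 90, 82], 1, [16, 10]),
  ([1, 36, 32, 164, 16, 72, 66, 8], 1, [41, 162]),
  ([11, 52, 48, 164, 16, 72, 66, 8], 1, [112, 163]),
  ([237, 222, 132, 204, 16, 32, 12, 52], 1, [41, 30]),
  ([13, 230, 40, 12, 16, 32, 236, 88], 1, [30, 165]),
  ([1, 66, 164, 72, 16, 32, 64, 128], 1, [159, 128]),
  ([157, 245, 165, 112, 208, 222, 30, 194], 1, [0, 0, 1, 1, 1, 0, 0]),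
  ([234, 11, 126, 6, 112, 110, 237, 222], 2, [161]),
  ([135, 24, 48, 80, 16, 224, 74, 44], 1, [169, 168]),
  ([97, 224, 6, 128, 16, 20, 160, 26], 2, [164]),
  ([45, 134, 40, 44, 16, 32, 204, 88], 1, [171, 170]),
  ([9, 102, 44, 36, 16, 32, 180, 220], 2, [166]),
  ([1, 66, 36, 8, 16, 32, 64, 128], 1, [173, 172]),
  ([1, 66, 164, 72, 16, 32, 64, 128], 2, [167]),
  ([1, 2, 132, 72, 16, 32, 64, 128], 1, [175, 174])]

def lv : List (ℕ × List (ℕ × ℕ × ℕ)) := [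
  (1, [(1, 0, 0), (250, 0, 2), (16, 0, 3), (171, 1, 2), (9, 1, 3), (220, 1, 10), (208, 1, 16), (63, 1, 30), (56, 1, 41), (245, 1, 53), (125, 1, 67), (120, 1, 96), (252, 1, 112), (240, 1, 128), (246, 1, 176), (131, 2, 2), (179, 2, 3), (222, 2, 16), (148, 2, 30), (80, 2, 41), (20, 2, 53), (144, 2, 67), (24, 2, 82), (22, 2, 112), (26, 2, 142), (12, 3, 2), (130, 3, 3), (237, 3, 10), (8, 3, 16), (165, 3, 30), (236, 3, 41), (33, 3, 53), (174, 3, 67), (164, 3, 82), (170, 3, 112), (161, 3, 128), (175, 3, 176), (74, 4, 2), (41, 4, 10), (135, 4, 16), (192, 4, 30), (4, 4, 41), (15, 4, 53), (13, 4, 96), (111, 5, 2), (55, 5, 3), (82, 5, 10), (157, 5, 16), (18, 5, 41), (93, 5, 53), (95, 5, 67), (219, 5, 82), (90, 5, 96), (213, 5, 142), (235, 6, 3), (51, 6, 16), (87, 6, 53), (215, 6, 82), (210, 6, 128), (217, 6, 142), (129, 7, 3), (183, 7, 10), (126, 7, 41), (186, 7, 67), (60, 7, 142), (159, 8,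 3), (190, 8, 16), (52, 8, 30), (112, 8, 41), (180, 8, 53), (189, 8, 67), (48, 8, 128), (59, 8, 142), (11, 9, 3), (115, 9, 67), (243, 9, 112), (255, 9, 128), (249, 9, 176), (103, 10, 3), (117, 10, 82), (123, 10, 112), (105, 11, 2), (88, 11, 10), (185, 11, 16), (7, 12, 3), (118, 13, 67), (30, 14, 10), (133, 15, 10), (104, 15, 16), (5, 15, 30), (204, 15, 41), (132, 15, 82), (128, 15, 142), (45, 16, 3), (44, 17, 2), (3, 18, 3), (28, 18, 16), (146, 18, 41), (155, 18, 82), (150, 18, 128), (2, 21, 2), (195, 21, 3), (176, 21, 10), (153, 21, 142), (85, 22, 30), (97, 24, 3), (194, 25, 10), (65, 25, 30), (10, 25, 53), (205, 26, 41), (134, 26, 176), (40, 27, 30), (102, 27, 41), (230, 27, 53), (234, 27, 67), (231, 27, 128), (225, 27, 176), (193, 28, 30), (14, 28, 53), (37, 29, 16), (110, 30, 96), (224, 30, 176), (32, 31, 3), (96, 31, 30), (36, 31, 41), (6, 32, 10), (160, 33, 67), (66, 36, 3),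 (73, 37, 67), (75, 37, 112), (64, 37, 159), (206, 38, 2), (67, 40, 53), (207, 40, 82), (72, 88, 10)]),
  (2, [(2, 0, 0), (36, 0, 10), (131, 0, 16), (170, 1, 10), (206, 1, 16), (225, 1, 30), (40, 1, 41), (32, 1, 67), (44, 1, 82), (37, 1, 112), (45, 1, 142), (133, 2, 10), (104, 2, 16), (5, 2, 30), (204, 2, 41), (129, 2, 53), (132, 2, 82), (128, 2, 142), (135, 2, 176), (236, 3, 10), (9, 3, 16), (164, 3, 30), (237, 3, 41), (175, 3, 67), (165, 3, 82), (171, 3, 112), (160, 3, 128), (174, 3, 176), (102, 4, 10), (192, 4, 16), (74, 4, 30), (64, 4, 41), (75, 4, 53), (205, 4, 67), (193, 4, 82), (72, 4, 96), (207, 4, 112), (194, 4, 159), (10, 5, 16), (105, 5, 30), (110, 5, 41), (231, 5, 67), (230, 5, 82), (103, 5, 96), (235, 5, 128), (96, 6, 16), (41, 6, 112), (33, 6, 142), (97, 7, 30), (130, 8, 10), (224, 9, 30), (73, 10, 16), (195, 11, 16), (134, 11, 142), (111, 12, 67), (234, 12, 96), (12,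 13, 41), (66, 14, 10), (67, 14, 16), (161, 15, 10), (7, 15, 30), (6, 17, 30), (4, 20, 41), (15, 20, 53), (8, 20, 67), (13, 20, 96), (3, 22, 10), (11, 24, 10), (65, 31, 112), (14, 38, 96)]),
  (4, [(4, 0, 0), (128, 0, 30), (13, 0, 41), (6, 1, 30), (207, 1, 41), (130, 1, 53), (135, 1, 82), (131, 1, 142), (134, 1, 159), (132, 1, 176), (64, 2, 30), (9, 2, 41), (11, 2, 53), (12, 2, 67), (15, 3, 41), (75, 4, 30), (65, 4, 41), (74, 4, 53), (204, 4, 67), (192, 4, 82), (73, 4, 96), (206, 4, 112), (205, 4, 128), (195, 4, 159), (133, 5, 82), (129, 5, 142), (193, 6, 41), (5, 7, 30), (194, 9, 41), (66, 10, 67), (72, 10, 82), (8, 11, 67), (10, 12, 67), (14, 14, 67), (67, 15, 82), (7, 25, 30)]),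
  (8, [(8, 0, 0), (14, 0, 53), (9, 0, 67), (12, 0, 96), (15, 1, 67), (10, 1, 96), (13, 2, 96), (11, 4, 96)]),
  (16, [(16, 0, 0), (24, 0, 82), (22, 0, 112), (26, 0, 142), (30, 1, 112), (18, 1, 142), (28, 2, 142), (20, 4, 142)]),
  (32, [(32, 0, 0), (40, 0, 128), (44, 0, 159), (36, 1, 159)]),
  (64, [(64, 0, 0), (72, 0, 176)])]

def rels : List (List ℕ) := [[0, 0, 0, 0, 0, 0, 0, 0, 0, 0, 0, 0, 0, 0, 0], [1, 1, 1, 1, 1, 1, 1, 1, 1], [0, 0, 1, 0, 0, 1, 0, 0, 1, 0, 0, 1, 0, 0, 1, 0, 0, 1, 0, 0, 1, 0, 0, 1, 0, 0, 1, 0, 0, 1, 0, 0, 1, 0, 0, 1], [0, 0, 0, 0, 1, 0, 0, 0, 0, 1, 0, 0, 0, 0, 1, 0, 0, 0, 0, 1, 0, 0, 0, 0, 1, 0, 0, 0, 0, 1, 0, 0, 0, 0, 1, 0, 0, 0, 0, 1, 0, 0, 0, 0, 1, 0, 0, 0, 0, 1], [0, 0, 0, 1, 1, 0, 0, 0, 1, 1, 0, 0, 0, 1, 1, 0, 0, 0, 1, 1, 0, 0, 0, 1, 1, 0, 0, 0, 1, 1, 0, 0, 0, 1, 1, 0, 0, 0, 1, 1, 0, 0, 0, 1, 1, 0, 0, 0, 1, 1, 0, 0, 0, 1, 1, 0, 0, 0, 1, 1, 0, 0, 0, 1, 1,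 0, 0, 0, 1, 1, 0, 0, 0, 1, 1]]

def LA : List ℕ := [0, 48, 16, 32, 0, 16, 0, 32]

def LB : List ℕ := [160, 69, 80, 213, 112, 241, 224, 1]

def MA : List (List ℕ) := [[128, 0, 32, 32, 0, 0, 128, 0], [128, 128, 0, 128, 0, 0, 128, 128], [0, 128, 0, 0, 0, 0, 128, 0], [96, 0, 0, 64, 0, 0, 0, 64], [32, 128, 32, 128, 0, 0, 128, 128]]

def MB : List (List ℕ) := [[0, 0, 0, 0, 0, 0, 0, 0], [0, 128, 0, 128, 0, 0, 0, 0], [0, 0, 0, 0, 0, 0, 0, 0], [0, 0, 0, 64, 0, 0, 0, 0], [0, 0, 0, 32, 0, 0, 0, 0]]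

/-- The first generator. -/
def datA : GenData ee QQ where
  r := rA
  r' := rAi
  m := ordA
  hm := by decide
  h1 := by decide +kernel
  h2 := by decide +kernel
  hiso := by decide +kernel
  hord := by decide +kernel

/-- The second generator. -/
def datB : GenData ee QQ where
  r := rB
  r' := rBi
  m := ordB
  hm := by decide
  h1 := by decide +kernel
  h2 := by decide +kernel
  hiso := by decide +kernel
  hord := by decide +kernel

theorem slp_ok : slpOK 8 [rA, rB] slp = true := by decide +kernel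

theorem lv_ok : levelsOK 8 slp [] lv = true := by decide +kernel

theorem lv_prod : 174182400 ≤ levelsProd lv := by decide +kernel

theorem rels_letters : ∀ r ∈ rels, ∀ s ∈ r, s < 2 := by decide +kernel

theorem rels_ok : ∀ r ∈ rels, ∀ k < 8, actW 8 [rA, rB] r (2 ^ k) = 2 ^ k := by decide +kernel

theorem kerA0 : ∀ k < 8, resid 8 [rA, rB] rels LA LB MA 0 (2 ^ k) 0 = 2 ^ k := by
  decide +kernel

theorem kerA1 : ∀ k < 8, resid 8 [rA, rB] rels LA LB MA 0 0 (2 ^ k) = 0 := by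
  decide +kernel

theorem kerB0 : ∀ k < 8, resid 8 [rA, rB] rels LA LB MB 1 (2 ^ k) 0 = 0 := by
  decide +kernel

theorem kerB1 : ∀ k < 8, resid 8 [rA, rB] rels LA LB MB 1 0 (2 ^ k) = 2 ^ k := by
  decide +kernel

/-- Every crossed homomorphism into the natural module is principal. -/
theorem vanish (f : ↥(Omega (ZMod 2) QQ) → (II → ZMod 2)) (hf : IsCoc QQ f) :
    ∃ v : II → ZMod 2, ∀ g, f g = (matOf QQ g).mulVec v - v :=
  h1_vanish (e := ee) index_OmQ 174182400 (by norm_num) card_OmQ datA datB slp slp_ok lv lv_ok lv_prod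
    rels rels_letters rels_ok LA LB MA MB kerA0 kerA1 kerB0 kerB1 f hf

end P8

end H1Van

end Cfsg.Agent.Lib.H27
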