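import Cfsg.Agent.Lib.H13.HSDefs2
import Cfsg.Agent.Lib.H13.HSMain
import Cfsg.Agent.Lib.H1.HSD13
import Cfsg.Agent.Lib.H2.HSA0

/-!
# S2534, piece F3 (architect helper13): the final assembly `S2534_main`

`A_n` (`n ≥ 5`) is a `D_π`-group iff at most one prime of `π` divides its order or all primes dividing its
order lie in `π`.  Core statement `S2534_main_of` with the stage-2 black boxes that were not yet landed
(`alt_main`, `struct8`, the three `D4` counterexamples) as explicit hypotheses, specialised to `Fin n`.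
-/

namespace Cfsg.Agent.Lib.H27.HS
open Equiv MulAction Cfsg.Agent.Lib.H13.HS
open scoped Pointwise

/-- if all `g σ g⁻¹` (`σ ∈ X`) fix `y`, then `X` fixes `g⁻¹ • y`. -/
theorem f3_conj_le_stabilizer {G β : Type*} [Group G] [MulAction G β] (X : Subgroup G) (g : G) (y : β)
    (h : ∀ σ ∈ X, g * σ * g⁻¹ ∈ stabilizer G y) : X ≤ stabilizer G (g⁻¹ • y) := by
  intro σ hσ
  have h1 := h σ hσ
  rw [mem_stabilizer_iff] at h1 ⊢
  calc σ • g⁻¹ • y = g⁻¹ • ((g * σ * g⁻¹) • y) := by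
        rw [smul_smul, smul_smul]
        congr 1
        group
    _ = g⁻¹ • y := by rw [h1]

/-- a prime dividing `|A_n|` is at most `n`. -/
theorem f3_prime_le {n r : ℕ} (hr : r.Prime)
    (h : r ∣ Nat.card ↥(alternatingGroup (Fin n))) : r ≤ n := by
  have h1 : Nat.card ↥(alternatingGroup (Fin n)) ∣ Nat.card (Perm (Fin n)) :=
    Subgroup.card_subgroup_dvd_card _
  have h2 : Nat.card (Perm (Fin n)) = n.factorial := by
    rw [Nat.card_eq_fintype_card, Fintype.card_perm, Fintype.card_fin]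
  rw [h2] at h1
  exact (hr.dvd_factorial).mp (dvd_trans h h1)

/-- **F3 core**: `S2534_main` from the black boxes `alt_main`, `struct8`, `D4`. -/
theorem S2534_main_of (n : ℕ) (_hn : 5 ≤ n) (π : Set ℕ)
    (h_alt_main : ∀ M : Subgroup (Perm (Fin n)), Cfsg.IsPiHallOf π M (altSub (Fin n)) →
      ∃ M₀ : Subgroup (Perm (Fin n)), Cfsg.IsPiHall π M₀ ∧ M = M₀ ⊓ altSub (Fin n))
    (h_struct8 : n = 8 → TwoThree π 8 → ∀ H : Subgroup (Perm (Fin n)), Cfsg.IsPiHall π H →
      ∃ s : Set (Fin n), s.ncard = 4 ∧ H = partStab s)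
    (h_d4a : (∀ r : ℕ, r.Prime → r + 2 ≤ n → r ∈ π) →
      ∃ X : Subgroup (Perm (Fin n)), X ≤ altSub (Fin n) ∧ PiNum π (Nat.card X) ∧
        ∀ x : Fin n, ¬ X ≤ stabilizer (Perm (Fin n)) x)
    (h_d4b : n = 7 → 2 ∈ π → 3 ∈ π →
      ∃ X : Subgroup (Perm (Fin n)), X ≤ altSub (Fin n) ∧ PiNum π (Nat.card X) ∧
        ∀ s : Set (Fin n), s.ncard = 3 → ¬ X ≤ stabilizer (Perm (Fin n)) s)
    (h_d4c : n = 8 → 2 ∈ π → 3 ∈ π →
      ∃ X : Subgroup (Perm (Fin n)), X ≤ altSub (Fin n) ∧ PiNum π (Nat.card X) ∧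
        ∀ s : Set (Fin n), s.ncard = 4 → ¬ X ≤ partStab s) :
    Cfsg.IsDPiGroup π ↥(alternatingGroup (Fin n)) ↔
      ((∀ r s : ℕ, r.Prime → s.Prime → r ∈ π → s ∈ π →
          r ∣ Nat.card ↥(alternatingGroup (Fin n)) → s ∣ Nat.card ↥(alternatingGroup (Fin n)) → r = s) ∨
        ∀ r : ℕ, r.Prime → r ∣ Nat.card ↥(alternatingGroup (Fin n)) → r ∈ π) := by
  constructor
  · intro hD
    by_cases hfew : Few π n
    · left
      intro r s hr hs hrπ hsπ hrd hsd
      exact hfew r s hr hs hrπ hsπ (f3_prime_le hr hrd) (f3_prime_le hs hsd)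
    by_cases hfull : Full π n
    · right
      intro r hr hrd
      exact hfull r hr (f3_prime_le hr hrd)
    exfalso
    obtain ⟨H, hH, hcont⟩ := Cfsg.Agent.Lib.H1.HS.hall_of_dpi hD
    have hAeq : altSub (Fin n) = alternatingGroup (Fin n) := altSub_eq (Fin n)
    have hcardn : Nat.card (Fin n) = n := Nat.card_fin n
    -- the Hall subgroup of `A_n`, inside `S_n`
    have hM : Cfsg.IsPiHallOf π (H.map (alternatingGroup (Fin n)).subtype) (altSub (Fin n)) := by
      rw [hAeq, Cfsg.Agent.Lib.H2.HS.hallOf_iff]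
      refine ⟨Subgroup.map_subtype_le H, ?_⟩
      have e : (H.map (alternatingGroup (Fin n)).subtype).subgroupOf (alternatingGroup (Fin n)) = H :=
        Subgroup.comap_map_eq_self_of_injective (alternatingGroup (Fin n)).subtype_injective H
      rw [e]
      exact hH
    obtain ⟨M₀, hM₀, hMM₀⟩ := h_alt_main _ hM
    have hMle : H.map (alternatingGroup (Fin n)).subtype ≤ M₀ := by
      rw [hMM₀]; exact inf_le_left
    -- every `π`-subgroup of `A_n` has a conjugate inside `M₀`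
    have hkey : ∀ X : Subgroup (Perm (Fin n)), X ≤ altSub (Fin n) → PiNum π (Nat.card X) →
        ∃ g : Perm (Fin n), ∀ σ ∈ X, g * σ * g⁻¹ ∈ M₀ := by
      intro X hXA hXπ
      rw [hAeq] at hXA
      have hcard : Nat.card (X.subgroupOf (alternatingGroup (Fin n))) = Nat.card X :=
        Nat.card_congr (Subgroup.subgroupOfEquivOfLe hXA).toEquiv
      have hX' : Cfsg.IsPiSubgroup π (X.subgroupOf (alternatingGroup (Fin n))) := by
        intro p hp hpd
        rw [hcard] at hpd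
        exact hXπ p hp hpd
      obtain ⟨g, hg⟩ := hcont _ hX'
      refine ⟨(g : Perm (Fin n)), ?_⟩
      intro σ hσ
      apply hMle
      have h1 : (MulAut.conj g).toMonoidHom ⟨σ, hXA hσ⟩ ∈ H :=
        hg (Subgroup.mem_map_of_mem _ (Subgroup.mem_subgroupOf.mpr hσ))
      have h2 := Subgroup.mem_map_of_mem (alternatingGroup (Fin n)).subtype h1
      simpa using h2
    have hC := Cfsg.Agent.Lib.H13.HS.main_aux n (Fin n) hcardn π M₀ hM₀
    rcases hC with h | h | ⟨hB, x, hx⟩ | ⟨h7, h23, s, hs, hHs⟩ | ⟨h8, h23⟩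
    · rw [hcardn] at h
      exact hfew h
    · rw [hcardn] at h
      exact hfull h
    · -- `M₀` is a point stabilizer
      rw [hcardn] at hB
      have hπ : ∀ r : ℕ, r.Prime → r + 2 ≤ n → r ∈ π := fun r hr h =>
        (hB.2 r hr (by omega)).mpr (by omega)
      obtain ⟨X, hXA, hXπ, hXfix⟩ := h_d4a hπ
      obtain ⟨g, hg⟩ := hkey X hXA hXπ
      refine hXfix (g⁻¹ • x) (f3_conj_le_stabilizer X g x ?_)
      intro σ hσ
      rw [← hx]
      exact hg σ hσ
    · -- `n = 7`, `M₀` the stabilizer of a `3`-set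
      rw [hcardn] at h7
      have h2 : 2 ∈ π := (h23 2 Nat.prime_two (by norm_num)).mpr (Or.inl rfl)
      have h3 : 3 ∈ π := (h23 3 Nat.prime_three (by norm_num)).mpr (Or.inr rfl)
      obtain ⟨X, hXA, hXπ, hXs⟩ := h_d4b h7 h2 h3
      obtain ⟨g, hg⟩ := hkey X hXA hXπ
      refine hXs (g⁻¹ • s) ?_ (f3_conj_le_stabilizer X g s ?_)
      · rw [Set.ncard_smul_set]
        exact hs
      · intro σ hσ
        rw [← hHs]
        exact hg σ hσ
    · -- `n = 8`, `M₀` the stabilizer of a `4|4` partition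
      rw [hcardn] at h8
      have h2 : 2 ∈ π := (h23 2 Nat.prime_two (by norm_num)).mpr (Or.inl rfl)
      have h3 : 3 ∈ π := (h23 3 Nat.prime_three (by norm_num)).mpr (Or.inr rfl)
      obtain ⟨s, hs, hHs⟩ := h_struct8 h8 h23 M₀ hM₀
      obtain ⟨X, hXA, hXπ, hXp⟩ := h_d4c h8 h2 h3
      obtain ⟨g, hg⟩ := hkey X hXA hXπ
      have h1 : X ≤ stabilizer (Perm (Fin n)) (g⁻¹ • ({s, sᶜ} : Set (Set (Fin n)))) := by
        refine f3_conj_le_stabilizer X g ({s, sᶜ} : Set (Set (Fin n))) ?_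
        intro σ hσ
        have := hg σ hσ
        rw [hHs] at this
        exact this
      have e : g⁻¹ • ({s, sᶜ} : Set (Set (Fin n))) = {g⁻¹ • s, (g⁻¹ • s)ᶜ} := by
        rw [Set.smul_set_insert, Set.smul_set_singleton, Set.smul_set_compl]
      rw [e] at h1
      refine hXp (g⁻¹ • s) ?_ h1
      rw [Set.ncard_smul_set]
      exact hs
  · rintro (h | h)
    · exact Cfsg.Agent.Lib.H1.HS.dpi_of_few h
    · exact Cfsg.Agent.Lib.H1.HS.dpi_of_full h

end Cfsg.Agent.Lib.H27.HS
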