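/-
helper27 library: relations in the Higman–Sims group `HC ≤ Co0` between the generators `s = wD`, `d = wU`,
`v = wVh`, `c = wCh`, their images under conjugation by the monomial involution `t = wT` (coordinate permutation
`x ↦ -1/x` with all signs changed, interchanging `V` and `-(V + U')`), and the relators pinning down the images
of the generators under an automorphism; the words of the candidate images.
-/
import Mathlib
import Cfsg.Prelude.Def_Spor_Conway
import Cfsg.Agent.Lib.H27.HSOutCent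

set_option autoImplicit false

namespace Cfsg.Agent.Lib.H27

open Cfsg MulAction Cfsg.Agent.Lib.H28 Cfsg.Agent.Lib.H27.Eng

namespace HSOut

open Co3GenData HSOutData OutM Co3Out AutRigid

/-! ### Relations -/

theorem wordCo0_wDi : wordCo0 wDi = (wordCo0 wD)⁻¹ := by
  rw [eq_inv_iff_mul_eq_one, ← wordCo0_wmul]
  exact wordCo0_eq_oneF (wmul_ok wDi_ok wD_ok) (by decide +kernel)

theorem wordCo0_wChi : wordCo0 wChi = (wordCo0 wCh)⁻¹ := by
  rw [eq_inv_iff_mul_eq_one, ← wordCo0_wmul]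
  exact wordCo0_eq_oneF (wmul_ok wChi_ok wC_ok) (by decide +kernel)

theorem c_pow5 : wordCo0 wCh ^ 5 = 1 := by
  rw [← wordCo0_wpow]
  exact wordCo0_eq_oneF (wpow_ok wC_ok 5) (by decide +kernel)

theorem vu_rel : wordCo0 wVh * wordCo0 wU = wordCo0 wU ^ 2 * wordCo0 wVh := by
  rw [← wordCo0_wpow, ← wordCo0_wmul, ← wordCo0_wmul]
  exact wordCo0_eq_of_wordEq (wmul_ok wV_ok wU_ok) (wmul_ok (wpow_ok wU_ok 2) wV_ok) (by decide +kernel)

theorem t_sq : wordCo0 wT ^ 2 = 1 := by
  rw [← wordCo0_wpow]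
  exact wordCo0_eq_oneF (wpow_ok wT_ok 2) (by decide +kernel)

/-- `t s t⁻¹ = s⁻¹`. -/
theorem ts_rel : wordCo0 wT * wordCo0 wD = (wordCo0 wD)⁻¹ * wordCo0 wT := by
  rw [← wordCo0_wDi, ← wordCo0_wmul, ← wordCo0_wmul]
  exact wordCo0_eq_of_wordEq (wmul_ok wT_ok wD_ok) (wmul_ok wDi_ok wT_ok) (by decide +kernel)

theorem td_comm : wordCo0 wT * wordCo0 wU = wordCo0 wU * wordCo0 wT := by
  rw [← wordCo0_wmul, ← wordCo0_wmul]
  exact wordCo0_eq_of_wordEq (wmul_ok wT_ok wU_ok) (wmul_ok wU_ok wT_ok) (by decide +kernel)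

theorem tv_comm : wordCo0 wT * wordCo0 wVh = wordCo0 wVh * wordCo0 wT := by
  rw [← wordCo0_wmul, ← wordCo0_wmul]
  exact wordCo0_eq_of_wordEq (wmul_ok wT_ok wV_ok) (wmul_ok wV_ok wT_ok) (by decide +kernel)

/-- `t c t⁻¹ = c⁻¹`. -/
theorem tc_rel : wordCo0 wT * wordCo0 wCh = (wordCo0 wCh)⁻¹ * wordCo0 wT := by
  rw [← wordCo0_wChi, ← wordCo0_wmul, ← wordCo0_wmul]
  exact wordCo0_eq_of_wordEq (wmul_ok wT_ok wC_ok) (wmul_ok wChi_ok wT_ok) (by decide +kernel)

theorem t_smul_V : wordCo0 wT • Spor.leechV = WH := by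
  rw [← mkL_v3, ← mkL_whL, mkL_of_mem v3_mem, mkL_of_mem whL_L]
  apply Subtype.ext
  rw [← actWord_spec wT wT_ok v3 v3_mem]
  have : actWord wT v3 = whL := by decide +kernel
  rw [this]

theorem t_smul_WH : wordCo0 wT • WH = Spor.leechV := by
  rw [← mkL_v3, ← mkL_whL, mkL_of_mem v3_mem, mkL_of_mem whL_L]
  apply Subtype.ext
  rw [← actWord_spec wT wT_ok whL whL_L]
  have : actWord wT whL = v3 := by decide +kernel
  rw [this]

theorem t_smul_U : wordCo0 wT • Spor.leechU' = Spor.leechU' := by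
  rw [← mkL_upL, mkL_of_mem upL_L]
  apply Subtype.ext
  rw [← actWord_spec wT wT_ok upL upL_L]
  have : actWord wT upL = upL := by decide +kernel
  rw [this]

/-! ### The relators -/

/-- Short words for the powers of `c`. -/
def cpowW : ℕ → List Gen
  | 0 => []
  | 1 => wCh
  | 2 => wmul wCh wCh
  | 3 => wmul wChi wChi
  | 4 => wChi
  | _ => []

theorem cpowW_ok (a : ℕ) : (cpowW a).all Gen.ok = true := by
  match a with
  | 0 => rfl
  | 1 => exact wC_ok
  | 2 => exact wmul_ok wC_ok wC_ok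
  | 3 => exact wmul_ok wChi_ok wChi_ok
  | 4 => exact wChi_ok
  | (a + 5) => rfl

theorem wordCo0_cpowW (a : ℕ) (ha : a < 5) : wordCo0 (cpowW a) = wordCo0 wCh ^ a := by
  have h5 := c_pow5
  interval_cases a
  · rfl
  · show wordCo0 wCh = _
    rw [pow_one]
  · show wordCo0 (wmul wCh wCh) = _
    rw [wordCo0_wmul, pow_two]
  · show wordCo0 (wmul wChi wChi) = _
    rw [wordCo0_wmul, wordCo0_wChi, ← mul_inv_rev, ← pow_two, inv_eq_iff_eq_inv, eq_inv_iff_mul_eq_one, ← pow_add]
    exact h5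
  · show wordCo0 wChi = _
    rw [wordCo0_wChi, inv_eq_iff_eq_inv, eq_inv_iff_mul_eq_one, ← pow_succ']
    exact h5

/-- The relators: `(s v v s v v d)^2`, `(s s v d)^5` and `(s v c)^3`. -/
def relsH : List (List ℕ × ℕ) := [([0, 2, 2, 0, 2, 2, 1], 2), ([0, 0, 2, 1], 5), ([0, 2, 3], 3)]

/-- The words of the candidate images: `s` or `s⁻¹`, `d`, `v c^a d^b`, `c^i d^j`. -/
def valsH (e : Bool) (a b i j : ℕ) (n : ℕ) : List Gen :=
  match n with
  | 0 => if e then wD else wDi
  | 1 => wU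
  | 2 => wmul wVh (wmul (cpowW a) (wpow wU b))
  | 3 => wmul (cpowW i) (wpow wU j)
  | _ => []

theorem valsH_ok (e : Bool) (a b i j : ℕ) (n : ℕ) : (valsH e a b i j n).all Gen.ok = true := by
  match n with
  | 0 =>
    cases e
    · exact wDi_ok
    · exact wD_ok
  | 1 => exact wU_ok
  | 2 => exact wmul_ok wV_ok (wmul_ok (cpowW_ok a) (wpow_ok wU_ok b))
  | 3 => exact wmul_ok (cpowW_ok i) (wpow_ok wU_ok j)
  | (n + 4) => rfl

theorem wordCo0_valsH (e : Bool) (a b i j : ℕ) (ha : a < 5) (hi : i < 5) (n : ℕ) :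
    wordCo0 (valsH e a b i j n) = [if e then wordCo0 wD else (wordCo0 wD)⁻¹, wordCo0 wU,
      wordCo0 wVh * (wordCo0 wCh ^ a * wordCo0 wU ^ b), wordCo0 wCh ^ i * wordCo0 wU ^ j].getD n 1 := by
  match n with
  | 0 =>
    cases e
    · exact wordCo0_wDi
    · rfl
  | 1 => rfl
  | 2 =>
    show wordCo0 (wmul wVh (wmul (cpowW a) (wpow wU b))) = _
    rw [wordCo0_wmul, wordCo0_wmul, wordCo0_wpow, wordCo0_cpowW a ha]
    rfl
  | 3 =>
    show wordCo0 (wmul (cpowW i) (wpow wU j)) = _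
    rw [wordCo0_wmul, wordCo0_wpow, wordCo0_cpowW i hi]
    rfl
  | (n + 4) => rfl

/-- The word of a relator at a candidate. -/
def relH (e : Bool) (a b i j : ℕ) (r : List ℕ × ℕ) : List Gen := wpow (patW (valsH e a b i j) r.1) r.2

theorem relH_ok (e : Bool) (a b i j : ℕ) (r : List ℕ × ℕ) : (relH e a b i j r).all Gen.ok = true :=
  wpow_ok (patW_ok (valsH_ok e a b i j) r.1) r.2

theorem wordCo0_relH (e : Bool) (a b i j : ℕ) (ha : a < 5) (hi : i < 5) (r : List ℕ × ℕ) :
    wordCo0 (relH e a b i j r) = (evalPat (fun n => [if e then wordCo0 wD else (wordCo0 wD)⁻¹, wordCo0 wU,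
      wordCo0 wVh * (wordCo0 wCh ^ a * wordCo0 wU ^ b), wordCo0 wCh ^ i * wordCo0 wU ^ j].getD n 1) r.1) ^ r.2 := by
  unfold relH
  rw [wordCo0_wpow, wordCo0_patW]
  congr 2
  funext n
  exact wordCo0_valsH e a b i j ha hi n

theorem tvec_L : toFn tvec ∈ leechLattice := mem_of_inLeech tvec_mem

theorem ne_one_of_moves {w : List Gen} (hok : w.all Gen.ok = true) (h : moves w tvec = true) :
    wordCo0 w ≠ 1 := by
  intro h1
  unfold moves at h
  rw [forceList_eq, actWordF_eq, List.any_eq_true] at h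
  obtain ⟨k, hk, hne⟩ := h
  rw [List.mem_range] at hk
  rw [decide_eq_true_eq] at hne
  apply hne
  have h2 := actWord_spec w hok tvec tvec_L
  rw [h1, one_smul] at h2
  exact nth_of_toFn_eq h2 hk

/-- First stage: the pairs `(a, b)` that survive the relators without `c`. -/
def goodA (a b : ℕ) : Bool := a == 0 && b == 0

def candA (e : Bool) (a b : ℕ) : Bool :=
  goodA a b || moves (relH e a b 0 0 ([0, 2, 2, 0, 2, 2, 1], 2)) tvec ||
    moves (relH e a b 0 0 ([0, 0, 2, 1], 5)) tvec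

/-- Second stage: the candidates that survive the third relator. -/
def goodB (e : Bool) (a b i j : ℕ) : Bool :=
  (a == 0 && b == 0) && ((e && i == 1 && j == 0) || (!e && i == 4 && j == 0))

def candB (e : Bool) (a b i j : ℕ) : Bool :=
  goodB e a b i j || moves (relH e a b i j ([0, 2, 3], 3)) tvec

def chkA (e : Bool) (a : ℕ) : Bool := (List.range 5).all fun b => candA e a b

def chkB (e : Bool) (a b : ℕ) : Bool :=
  (List.range 5).all fun i => (List.range 5).all fun j => candB e a b i j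

end HSOut

end Cfsg.Agent.Lib.H27
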