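/-
helper27 library: the outer automorphism group of the Higman–Sims group has order two.  Rigidity argument with
the Frobenius subgroup `11 : 5 = ⟨s, d⟩` of `M22 ≤ HS`, the element `v ∈ M22` of order 4 normalizing `⟨d⟩`, the
element `c` of order 5 with `C(d) = ⟨c⟩ × ⟨d⟩`, and the monomial involution `t` inverting `s` and centralizing
`d` and `v`, which interchanges `V` and `-(V + U')` and induces the outer automorphism.
-/
import Mathlib
import Cfsg.Prelude.Def_Spor_Conway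
import Cfsg.Prelude.Def_KGroupFacts
import Cfsg.Agent.Lib.H27.HSOutRel2
import Cfsg.Agent.Lib.H27.AutRigid4

set_option autoImplicit false

namespace Cfsg.Agent.Lib.H27

open Cfsg MulAction Cfsg.Agent.Lib.H28 Cfsg.Agent.Lib.H27.Eng

namespace HSOut

open Co3GenData HSOutData OutM Co3Out AutRigid

/-- The elements as members of `HC`. -/
noncomputable def sE : ↥HC := ⟨wordCo0 wD, wD_mem⟩
noncomputable def dE : ↥HC := ⟨wordCo0 wU, wU_mem⟩
noncomputable def vE : ↥HC := ⟨wordCo0 wVh, wV_mem⟩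
noncomputable def cE : ↥HC := ⟨wordCo0 wCh, wC_mem⟩

theorem sE_coe : (sE : Co0) = wordCo0 wD := rfl
theorem dE_coe : (dE : Co0) = wordCo0 wU := rfl
theorem vE_coe : (vE : Co0) = wordCo0 wVh := rfl
theorem cE_coe : (cE : Co0) = wordCo0 wCh := rfl

theorem orderOf_sE : orderOf sE = 11 := by
  rw [← Subgroup.orderOf_coe, sE_coe, ← pCo0_dM]
  have h1 : orderOf (permHom Co3Out.dM) = orderOf Co3Out.dM :=
    orderOf_injective permHom permHom_injective Co3Out.dM
  have h2 : orderOf Co3Out.dM = orderOf (wordPerm dw) := (Subgroup.orderOf_coe Co3Out.dM).symm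
  show orderOf (permHom Co3Out.dM) = 11
  rw [h1, h2, d_order]

theorem s_pow11 : sE ^ 11 = 1 := Subtype.ext (by rw [Subgroup.coe_pow, sE_coe, Co3Out.d_pow11, Subgroup.coe_one])
theorem d_pow5 : dE ^ 5 = 1 := Subtype.ext (by rw [Subgroup.coe_pow, dE_coe, Co3Out.u_pow5, Subgroup.coe_one])
theorem c_pow5M : cE ^ 5 = 1 := Subtype.ext (by rw [Subgroup.coe_pow, cE_coe, c_pow5, Subgroup.coe_one])

theorem hds : dE * sE * dE⁻¹ = sE ^ 3 := by
  rw [mul_inv_eq_iff_eq_mul]
  apply Subtype.ext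
  simp only [Subgroup.coe_mul, Subgroup.coe_pow, sE_coe, dE_coe]
  exact ud_rel

theorem hvd : vE * dE * vE⁻¹ = dE ^ 2 := by
  rw [mul_inv_eq_iff_eq_mul]
  apply Subtype.ext
  simp only [Subgroup.coe_mul, Subgroup.coe_pow, vE_coe, dE_coe]
  exact vu_rel

theorem hcd : cE * dE = dE * cE := Subtype.ext cu_comm

theorem hc0 : sE ^ (7 + 3) = sE ^ (3 * 7) := by
  have : sE ^ (3 * 7) = sE ^ (7 + 3) * sE ^ 11 := by rw [← pow_add]
  rw [this, s_pow11, mul_one]

/-- Conjugacy of the elements of order 11. -/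
theorem hA1 (x : ↥HC) (hx : orderOf x = orderOf sE) :
    ∃ k : ↥HC, k * x * k⁻¹ = sE ∨ k * x * k⁻¹ = sE⁻¹ := by
  refine conj_pm_of_sylow (p := 11) (a := 3) (by norm_num) ?_ orderOf_sE hds ?_ x hx
  · rw [card_HC]
    norm_num
  · have h : ∀ i < 11, i ≠ 0 → ∃ m < 5, (i * 3 ^ m) % 11 = 1 ∨ (i * 3 ^ m) % 11 = 11 - 1 := by decide
    intro i hi hi0
    obtain ⟨m, -, hm⟩ := h i hi hi0
    exact ⟨m, hm⟩

/-- The centralizer of `s`. -/
theorem hA2 (x : ↥HC) (hx : x * sE = sE * x) : ∃ m : ℤ, x = sE ^ m := by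
  have hx' : (x : Co0) * wordCo0 wD = wordCo0 wD * (x : Co0) := congrArg Subtype.val hx
  obtain ⟨j, -, hj⟩ := centralizer_sH x.2 hx'
  refine ⟨(j : ℤ), Subtype.ext ?_⟩
  rw [zpow_natCast, Subgroup.coe_pow]
  exact hj

/-- The list of the elements centralizing `d`. -/
noncomputable def LH : List ↥HC :=
  (List.range 5).flatMap (fun k => (List.range 5).map (fun j => cE ^ k * dE ^ j))

theorem mem_LH {x : ↥HC} : x ∈ LH ↔ ∃ k < 5, ∃ j < 5, x = cE ^ k * dE ^ j := by
  unfold LH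
  rw [List.mem_flatMap]
  constructor
  · rintro ⟨k, hk, hx⟩
    rw [List.mem_map] at hx
    obtain ⟨j, hj, rfl⟩ := hx
    exact ⟨k, List.mem_range.1 hk, j, List.mem_range.1 hj, rfl⟩
  · rintro ⟨k, hk, j, hj, rfl⟩
    exact ⟨k, List.mem_range.2 hk, List.mem_map.2 ⟨j, List.mem_range.2 hj, rfl⟩⟩

/-- The centralizer of `d`. -/
theorem hA3 (x : ↥HC) (hx : x * dE = dE * x) : x ∈ LH := by
  have hx' : (x : Co0) * wordCo0 wU = wordCo0 wU * (x : Co0) := congrArg Subtype.val hx
  obtain ⟨k, hk, j, hj, hkj⟩ := centralizer_dH x.2 hx'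
  rw [mem_LH]
  refine ⟨k, hk, j, hj, Subtype.ext ?_⟩
  rw [Subgroup.coe_mul, Subgroup.coe_pow, Subgroup.coe_pow]
  exact hkj

/-- Generation: an automorphism fixing `s`, `d`, `v`, `c` is trivial. -/
theorem hgen (ψ : MulAut ↥HC) (hs : ψ sE = sE) (hd : ψ dE = dE) (hv : ψ vE = vE) (hc : ψ cE = cE) :
    ψ = 1 := by
  have key : ∀ y : Co0, y ∈ K4H → ∀ hy : y ∈ HC, ψ ⟨y, hy⟩ = ⟨y, hy⟩ := by
    intro y hy
    unfold K4H at hy
    induction hy using Subgroup.closure_induction with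
    | mem x hx =>
      intro hxM
      rcases hx with rfl | rfl | rfl | rfl
      · exact hs
      · exact hd
      · exact hv
      · exact hc
    | one =>
      intro h1
      exact map_one ψ
    | mul a b ha hb iha ihb =>
      intro hab
      have haM : a ∈ HC := K4H_le ha
      have hbM : b ∈ HC := K4H_le hb
      have : (⟨a * b, hab⟩ : ↥HC) = ⟨a, haM⟩ * ⟨b, hbM⟩ := rfl
      rw [this, map_mul, iha haM, ihb hbM]
    | inv a ha iha =>
      intro hai
      have haM : a ∈ HC := K4H_le ha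
      have : (⟨a⁻¹, hai⟩ : ↥HC) = (⟨a, haM⟩ : ↥HC)⁻¹ := rfl
      rw [this, map_inv, iha haM]
  ext x : 1
  have hx : (x : Co0) ∈ K4H := by rw [K4H_eq]; exact x.2
  have := key x.1 hx x.2
  rw [MulAut.one_apply]
  exact this

/-! ### The outer automorphism -/

theorem t_inv : (wordCo0 wT)⁻¹ = wordCo0 wT := by
  rw [inv_eq_iff_mul_eq_one, ← pow_two]
  exact t_sq

theorem t_normalizes : ∀ g ∈ HC, wordCo0 wT * g * (wordCo0 wT)⁻¹ ∈ HC := by
  intro g hg
  rw [t_inv]
  refine ⟨mem_stabilizer_iff.2 ?_, mem_stabilizer_iff.2 ?_⟩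
  · rw [mul_smul, mul_smul, t_smul_V, smul_WH hg, t_smul_WH]
  · rw [mul_smul, mul_smul, t_smul_U, smul_U hg, t_smul_U]

theorem t_normalizes' : ∀ g ∈ HC, (wordCo0 wT)⁻¹ * g * wordCo0 wT ∈ HC := by
  intro g hg
  have := t_normalizes g hg
  rw [t_inv] at this ⊢
  exact this

/-- The automorphism of `HC` induced by `t`. -/
noncomputable def tAut : MulAut ↥HC := conjAut HC (wordCo0 wT) t_normalizes t_normalizes'

theorem tAut_coe (g : ↥HC) : ((tAut g : ↥HC) : Co0) = wordCo0 wT * g * (wordCo0 wT)⁻¹ := rfl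

theorem tAut_s : tAut sE = sE⁻¹ := by
  apply Subtype.ext
  rw [tAut_coe, sE_coe, ts_rel, mul_inv_cancel_right]
  rfl

theorem tAut_d : tAut dE = dE := by
  apply Subtype.ext
  rw [tAut_coe, dE_coe, td_comm, mul_inv_cancel_right]

theorem tAut_v : tAut vE = vE := by
  apply Subtype.ext
  rw [tAut_coe, vE_coe, tv_comm, mul_inv_cancel_right]

theorem tAut_c : tAut cE = cE ^ 4 := by
  apply Subtype.ext
  rw [tAut_coe, cE_coe, tc_rel, mul_inv_cancel_right]
  have h : (cE⁻¹ : ↥HC) = cE ^ 4 := by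
    rw [inv_eq_iff_mul_eq_one, ← pow_succ']
    exact c_pow5M
  have := congrArg (fun x : ↥HC => (x : Co0)) h
  simpa only [Subgroup.coe_inv, Subgroup.coe_pow, cE_coe] using this

theorem tAut_not_inner : tAut ∉ (MulAut.conj : ↥HC →* MulAut ↥HC).range := by
  rintro ⟨g, hg⟩
  have h1 : g * sE * g⁻¹ = sE⁻¹ := by
    have := congrArg (fun φ : MulAut ↥HC => φ sE) hg
    simp only [MulAut.conj_apply] at this
    rw [this, tAut_s]
  have h2 : g * dE * g⁻¹ = dE := by
    have := congrArg (fun φ : MulAut ↥HC => φ dE) hg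
    simp only [MulAut.conj_apply] at this
    rw [this, tAut_d]
  have hgL := hA3 g (mul_inv_eq_iff_eq_mul.1 h2)
  rw [mem_LH] at hgL
  obtain ⟨k, -, j, -, hkj⟩ := hgL
  have hg5 : g ^ 5 = 1 := by
    have hcomm : Commute (cE ^ k) (dE ^ j) := ((show Commute cE dE from hcd).pow_pow k j)
    rw [hkj, hcomm.mul_pow, ← pow_mul, ← pow_mul, mul_comm k, mul_comm j, pow_mul, pow_mul, c_pow5M, d_pow5,
      one_pow, one_pow, one_mul]
  have h3 : g ^ 2 * sE * (g ^ 2)⁻¹ = sE := by
    have e : g ^ 2 * sE * (g ^ 2)⁻¹ = g * (g * sE * g⁻¹) * g⁻¹ := by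
      rw [pow_two, mul_inv_rev]
      simp only [mul_assoc]
    rw [e, h1]
    have e2 : g * sE⁻¹ * g⁻¹ = (g * sE * g⁻¹)⁻¹ := by group
    rw [e2, h1, inv_inv]
  obtain ⟨m, hm⟩ := hA2 (g ^ 2) (mul_inv_eq_iff_eq_mul.1 h3)
  have hg22 : g ^ 22 = 1 := by
    have : g ^ 22 = (g ^ 2) ^ 11 := by rw [← pow_mul]
    rw [this, hm, ← zpow_natCast, ← zpow_mul, mul_comm, zpow_mul, zpow_natCast, s_pow11, one_zpow]
  have hg1 : g = 1 := by
    have : g = (g ^ 5) ^ 9 * ((g ^ 22) ^ 2)⁻¹ := by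
      rw [← pow_mul, ← pow_mul]
      group
    rw [this, hg22, hg5, one_pow, one_pow, inv_one, one_mul]
  rw [hg1, one_mul, inv_one, mul_one] at h1
  have h4 : sE ^ 2 = 1 := by
    rw [pow_two]
    nth_rewrite 1 [h1]
    exact inv_mul_cancel sE
  have h5 := orderOf_dvd_of_pow_eq_one h4
  rw [orderOf_sE] at h5
  revert h5
  norm_num

theorem coe_evalPatH (vals : ℕ → ↥HC) (w : List ℕ) :
    ((evalPat vals w : ↥HC) : Co0) = evalPat (fun i => ((vals i : ↥HC) : Co0)) w :=
  map_evalPat (Subgroup.subtype HC) vals w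

/-- The inner automorphisms of `HC` have index two. -/
theorem card_out_HC : Nat.card (MulAut ↥HC ⧸ (MulAut.conj : ↥HC →* MulAut ↥HC).range) = 2 := by
  apply card_out_eq_two4 sE dE vE cE 3 7 2 LH hgen hA1 hA2 hA3 hds hc0 hvd hcd relsH _ tAut tAut_d
    tAut_not_inner
  · -- the relators pin down the images
    intro s' hs' y hy c' hc' h
    rw [mem_LH] at hy hc'
    obtain ⟨a, ha, b, hb, rfl⟩ := hy
    obtain ⟨i, hi, j, hj, rfl⟩ := hc'
    have key : ∀ e : Bool, s' = (if e then sE else sE⁻¹) → goodB e a b i j = true := by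
      intro e he
      apply relH_pin e a b i j ha hb hi hj
      intro r hr
      have h1 := congrArg (fun x : ↥HC => (x : Co0)) (h r hr)
      simp only [Subgroup.coe_pow, coe_evalPatH, Subgroup.coe_one] at h1
      have hf : (fun n => (([s', dE, vE * (cE ^ a * dE ^ b), cE ^ i * dE ^ j].getD n 1 : ↥HC) : Co0)) =
          (fun n => [if e then wordCo0 wD else (wordCo0 wD)⁻¹, wordCo0 wU,
            wordCo0 wVh * (wordCo0 wCh ^ a * wordCo0 wU ^ b), wordCo0 wCh ^ i * wordCo0 wU ^ j].getD n 1) := by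
        funext n
        match n with
        | 0 =>
          rw [he]
          cases e
          · rfl
          · rfl
        | 1 => rfl
        | 2 => rfl
        | 3 => rfl
        | (n + 4) => rfl
      rw [hf] at h1
      exact h1
    have fin : ∀ e : Bool, s' = (if e then sE else sE⁻¹) → goodB e a b i j = true →
        (s' = sE ∧ vE * (cE ^ a * dE ^ b) = vE ∧ cE ^ i * dE ^ j = cE) ∨
        (s' = tAut sE ∧ vE * (cE ^ a * dE ^ b) = tAut vE ∧ cE ^ i * dE ^ j = tAut cE) := by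
      intro e he hgood
      unfold goodB at hgood
      simp only [Bool.and_eq_true, Bool.or_eq_true, beq_iff_eq, Bool.not_eq_true'] at hgood
      obtain ⟨⟨rfl, rfl⟩, hcase⟩ := hgood
      rcases hcase with ⟨⟨rfl, rfl⟩, rfl⟩ | ⟨⟨rfl, rfl⟩, rfl⟩
      · left
        rw [if_pos rfl] at he
        exact ⟨he, by rw [pow_zero, pow_zero, one_mul, mul_one], by rw [pow_one, pow_zero, mul_one]⟩
      · right
        rw [if_neg (by decide)] at he
        refine ⟨by rw [tAut_s]; exact he, ?_, ?_⟩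
        · rw [tAut_v, pow_zero, pow_zero, one_mul, mul_one]
        · rw [tAut_c, pow_zero, mul_one]
    rcases hs' with rfl | rfl
    · exact fin true rfl (key true rfl)
    · exact fin false rfl (key false rfl)
  · -- the relators hold
    intro r hr
    apply Subtype.ext
    rw [Subgroup.coe_pow, coe_evalPatH, Subgroup.coe_one]
    have h0 := relH_0 r hr
    have hf : (fun n => (([sE, dE, vE, cE].getD n 1 : ↥HC) : Co0)) =
        (fun n => [wordCo0 wD, wordCo0 wU, wordCo0 wVh, wordCo0 wCh].getD n 1) := by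
      funext n
      match n with
      | 0 => rfl
      | 1 => rfl
      | 2 => rfl
      | 3 => rfl
      | (n + 4) => rfl
    rw [hf]
    exact h0

/-! ### Transfer to `Spor.HS` -/

/-- The group `HC` is the Higman–Sims group of the Prelude. -/
def hcEquiv : ↥HC ≃* ↥Spor.HS where
  toFun g := ⟨((g : Co0) : Equiv.Perm leechLattice),
    ⟨⟨(g : Co0).2, mem_stabilizer_iff.2 (smul_V g.2)⟩, mem_stabilizer_iff.2 (smul_U g.2)⟩⟩
  invFun h := ⟨⟨h.1, h.2.1.1⟩, ⟨mem_stabilizer_iff.2 (mem_stabilizer_iff.1 h.2.1.2),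
    mem_stabilizer_iff.2 (mem_stabilizer_iff.1 h.2.2)⟩⟩
  left_inv := fun _ => rfl
  right_inv := fun _ => rfl
  map_mul' := fun _ _ => rfl

/-- The outer automorphism group of `HS` has order two. -/
theorem card_out_HS : Nat.card (Cfsg.Out ↥Spor.HS) = 2 := by
  rw [← card_out_HC]
  exact (card_out_congr hcEquiv).symm

end HSOut

end Cfsg.Agent.Lib.H27
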