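/-
helper27 library: the Higman–Sims group `HC = Stab(V) ⊓ Stab(U')` in `Co0` is generated by the coordinate
permutations `s = wD`, `d = wU`, `v = wVh` generating `M22` and the element `c = wCh` of order 5 centralizing `d`.
The subgroup they generate contains `M22`, which fixes `(-4, -4, 0^22)`, and the orbit of that vector has 100
points.
-/
import Mathlib
import Cfsg.Prelude.Def_Spor_Conway
import Cfsg.Agent.Lib.H27.HSOutData
import Cfsg.Agent.Lib.H27.Co3Rel
import Cfsg.Agent.Lib.H27.OutM22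
import Cfsg.Agent.Lib.H27.HSTrans
import Cfsg.Agent.Lib.H27.ConwayOrders

set_option autoImplicit false

namespace Cfsg.Agent.Lib.H27

open Cfsg MulAction Cfsg.Agent.Lib.H28 Cfsg.Agent.Lib.H27.Eng

namespace HSOut

open Co3GenData HSOutData OutM Co3Out AutRigid

/-- The group `HS` as a subgroup of `Co0`. -/
abbrev HC : Subgroup Co0 := stabilizer Co0 Spor.leechV ⊓ stabilizer Co0 Spor.leechU'

/-- The third side of the triangle. -/
def WH : leechLattice := -(Spor.leechV + Spor.leechU')

theorem HC_le_C3 : HC ≤ C3 := inf_le_left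

theorem smul_V {g : Co0} (hg : g ∈ HC) : g • Spor.leechV = Spor.leechV := mem_stabilizer_iff.1 hg.1

theorem smul_U {g : Co0} (hg : g ∈ HC) : g • Spor.leechU' = Spor.leechU' := mem_stabilizer_iff.1 hg.2

theorem smul_WH {g : Co0} (hg : g ∈ HC) : g • WH = WH := by
  unfold WH
  rw [Co0_smul_neg, Co0_smul_add, smul_U hg, smul_V hg]

theorem toFn_upL : toFn upL = Spor.vecU' := by
  funext p
  revert p
  decide +kernel

theorem upL_L : toFn upL ∈ leechLattice := by
  rw [toFn_upL]
  exact Spor.leechU'.2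

theorem mkL_upL : mkL upL = Spor.leechU' := by
  rw [mkL_of_mem upL_L]
  exact Subtype.ext toFn_upL

theorem toFn_whL : toFn whL = (WH : GolayPt → ℤ) := by
  funext p
  show _ = -(Spor.vecV p + Spor.vecU' p)
  revert p
  decide +kernel

theorem whL_L : toFn whL ∈ leechLattice := by
  rw [toFn_whL]
  exact WH.2

theorem mkL_whL : mkL whL = WH := by
  rw [mkL_of_mem whL_L]
  exact Subtype.ext toFn_whL

theorem sqNorm_V : sqNorm ((Spor.leechV : leechLattice) : GolayPt → ℤ) = 48 := by
  show sqNorm Spor.vecV = 48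
  decide +kernel

theorem sqNorm_WH : sqNorm ((WH : leechLattice) : GolayPt → ℤ) = 48 := by
  rw [← toFn_whL, ← sqNorm_spec]
  decide +kernel

theorem dot_V_WH : dotInt ((Spor.leechV : leechLattice) : GolayPt → ℤ) ((WH : leechLattice) : GolayPt → ℤ) = -32 := by
  rw [← toFn_whL]
  show dotInt Spor.vecV _ = -32
  rw [← toFn_v3, ← dotL_spec]
  decide +kernel

theorem HC_eq : HC = stabilizer Co0 Spor.leechV ⊓ stabilizer Co0 WH := by
  unfold WH
  rw [← stab_pair48_eq]

theorem card_HC : Nat.card ↥HC = 44352000 := by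
  rw [HC_eq]
  exact card_stabHS _ _ sqNorm_V sqNorm_WH dot_V_WH

instance : Finite ↥HC := Nat.finite_of_card_ne_zero (by rw [card_HC]; norm_num)

/-! ### The third coordinate permutation -/

theorem vw_mem : wordPerm vw22 ∈ M24 := wordPerm_mem_M24 _

theorem pCo0_v : pCo0 ⟨wordPerm vw22, vw_mem⟩ = wordCo0 wVh :=
  pCo0_wordPerm vw22 vw_mem _ _ (by decide +kernel) (by decide +kernel)

/-! ### The subgroup generated by the four elements -/

/-- The subgroup generated by `s`, `d`, `v`, `c`. -/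
noncomputable def K4H : Subgroup Co0 :=
  Subgroup.closure {wordCo0 wD, wordCo0 wU, wordCo0 wVh, wordCo0 wCh}

theorem sgH_mem_K4H : ∀ w ∈ sgH, wordCo0 w ∈ K4H := by
  intro w hw
  unfold sgH at hw
  simp only [List.mem_cons, List.not_mem_nil, or_false] at hw
  unfold K4H
  rcases hw with rfl | rfl | rfl | rfl
  · exact Subgroup.subset_closure (by simp)
  · exact Subgroup.subset_closure (by simp)
  · exact Subgroup.subset_closure (by simp)
  · exact Subgroup.subset_closure (by simp)

theorem word_fixH {w : List Gen} (hw : w ∈ sgH) :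
    wordCo0 w • Spor.leechV = Spor.leechV ∧ wordCo0 w • Spor.leechU' = Spor.leechU' := by
  have h1 := sgH_ok
  have h2 := sgH_fix
  unfold sgOK at h1
  unfold fixOK at h2
  rw [List.all_eq_true] at h1 h2
  have hok := h1 w hw
  have hfix := h2 w hw
  rw [List.all_eq_true] at hfix
  have e1 := hfix v3 (by simp)
  have e2 := hfix upL (by simp)
  rw [decide_eq_true_eq] at e1 e2
  constructor
  · rw [← mkL_v3, mkL_of_mem v3_mem]
    apply Subtype.ext
    rw [← actWord_spec w hok v3 v3_mem, e1]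
  · rw [← mkL_upL, mkL_of_mem upL_L]
    apply Subtype.ext
    rw [← actWord_spec w hok upL upL_L, e2]

theorem word_memH {w : List Gen} (hw : w ∈ sgH) : wordCo0 w ∈ HC :=
  ⟨mem_stabilizer_iff.2 (word_fixH hw).1, mem_stabilizer_iff.2 (word_fixH hw).2⟩

theorem K4H_le : K4H ≤ HC := by
  unfold K4H
  rw [Subgroup.closure_le]
  rintro x (rfl | rfl | rfl | rfl)
  · exact word_memH (by simp [sgH])
  · exact word_memH (by simp [sgH])
  · exact word_memH (by simp [sgH])
  · exact word_memH (by simp [sgH])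

/-- The coordinate permutations of `M22` lie in the subgroup. -/
theorem pCo0_mem_K4H (σ : Equiv.Perm GolayPt) (hσ : σ ∈ Spor.M22) :
    pCo0 ⟨σ, (mem_M22.1 hσ).1⟩ ∈ K4H := by
  have key : ∀ y : Equiv.Perm GolayPt, y ∈ wordsClosure [dw, uw, vw22] → ∀ hy : y ∈ M24, pCo0 ⟨y, hy⟩ ∈ K4H := by
    intro y hy
    have hle : ∀ z ∈ wordsClosure [dw, uw, vw22], z ∈ M24 := by
      intro z hz
      rw [closure22.1] at hz
      exact (mem_M22.1 hz).1
    unfold wordsClosure at hy
    induction hy using Subgroup.closure_induction with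
    | mem x hx =>
      intro hxM
      unfold K4H
      obtain ⟨w, hw, rfl⟩ := hx
      simp only [List.mem_cons, List.not_mem_nil, or_false] at hw
      rcases hw with rfl | rfl | rfl
      · rw [pCo0_d]; exact Subgroup.subset_closure (by simp)
      · rw [pCo0_u]; exact Subgroup.subset_closure (by simp)
      · rw [pCo0_v]; exact Subgroup.subset_closure (by simp)
    | one =>
      intro h1
      have : pCo0 ⟨1, h1⟩ = 1 := pCo0_one
      rw [this]
      exact Subgroup.one_mem _
    | mul a b ha hb iha ihb =>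
      intro hab
      have haM : a ∈ M24 := hle a ha
      have hbM : b ∈ M24 := hle b hb
      have : pCo0 ⟨a * b, hab⟩ = pCo0 ⟨a, haM⟩ * pCo0 ⟨b, hbM⟩ := pCo0_mul ⟨a, haM⟩ ⟨b, hbM⟩
      rw [this]
      exact Subgroup.mul_mem _ (iha haM) (ihb hbM)
    | inv a ha iha =>
      intro hai
      have haM : a ∈ M24 := hle a ha
      have : pCo0 ⟨a⁻¹, hai⟩ = (pCo0 ⟨a, haM⟩)⁻¹ := by
        rw [eq_inv_iff_mul_eq_one]
        have h2 : pCo0 (⟨a⁻¹, hai⟩ * ⟨a, haM⟩) = pCo0 ⟨a⁻¹, hai⟩ * pCo0 ⟨a, haM⟩ := pCo0_mul _ _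
        rw [← h2]
        have h3 : (⟨a⁻¹, hai⟩ * ⟨a, haM⟩ : ↥M24) = 1 := Subtype.ext (inv_mul_cancel a)
        rw [h3]
        exact pCo0_one
      rw [this]
      exact Subgroup.inv_mem _ (iha haM)
  exact key σ (by rw [closure22.1]; exact hσ) _

theorem xroot_L : toFn xroot ∈ leechLattice := mem_of_inLeech xroot_mem

/-- A permutation fixing `∞` and `0` fixes the vector `(-4, -4, 0^22)`. -/
theorem pCo0_fix_xroot (σ : Equiv.Perm GolayPt) (hσ : σ ∈ Spor.M22) :
    pCo0 ⟨σ, (mem_M22.1 hσ).1⟩ • mkL xroot = mkL xroot := by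
  rw [mkL_of_mem xroot_L]
  apply Subtype.ext
  funext i
  rw [pCo0_smul]
  show toFn xroot (σ.symm i) = toFn xroot i
  obtain ⟨-, hn, h0⟩ := mem_M22.1 hσ
  have hn' : σ.symm none = none := by rw [Equiv.symm_apply_eq, hn]
  have h0' : σ.symm (some 0) = some 0 := by rw [Equiv.symm_apply_eq, h0]
  have key : ∀ p : GolayPt, toFn xroot p = if p = none then -4 else if p = some 0 then -4 else 0 := by
    decide +kernel
  rw [key, key]
  by_cases hi : i = none
  · rw [hi, hn']
  · have h1 : σ.symm i ≠ none := by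
      intro h
      apply hi
      rw [← hn'] at h
      exact σ.symm.injective h
    rw [if_neg hi, if_neg h1]
    by_cases hi0 : i = some 0
    · rw [hi0, h0']
    · have h2 : σ.symm i ≠ some 0 := by
        intro h
        apply hi0
        rw [← h0'] at h
        exact σ.symm.injective h
      rw [if_neg hi0, if_neg h2]

/-- The stabilizer of `(-4, -4, 0^22)` in the subgroup contains a copy of `M22`. -/
theorem card_stab_xroot_ge : 443520 ≤ Nat.card (stabilizer ↥K4H (mkL xroot)) := by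
  haveI : Finite ↥K4H := Finite.of_injective (fun x : ↥K4H => (⟨x.1, K4H_le x.2⟩ : ↥HC))
    (fun a b h => Subtype.ext (congrArg (fun z : ↥HC => (z : Co0)) h))
  have hfin : Finite (stabilizer ↥K4H (mkL xroot)) := inferInstance
  let f : ↥Spor.M22 → stabilizer ↥K4H (mkL xroot) := fun σ =>
    ⟨⟨pCo0 ⟨σ.1, (mem_M22.1 σ.2).1⟩, pCo0_mem_K4H σ.1 σ.2⟩, by
      rw [mem_stabilizer_iff]
      exact pCo0_fix_xroot σ.1 σ.2⟩
  have hinj : Function.Injective f := by
    intro a b hab
    have h1 : pCo0 ⟨a.1, (mem_M22.1 a.2).1⟩ = pCo0 ⟨b.1, (mem_M22.1 b.2).1⟩ :=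
      congrArg (fun x : stabilizer ↥K4H (mkL xroot) => ((x : ↥K4H) : Co0)) hab
    have h2 : (⟨a.1, (mem_M22.1 a.2).1⟩ : ↥M24) = ⟨b.1, (mem_M22.1 b.2).1⟩ := permHom_injective h1
    have h3 : (a : Equiv.Perm GolayPt) = b := congrArg (fun x : ↥M24 => (x : Equiv.Perm GolayPt)) h2
    exact Subtype.ext h3
  have h := Nat.card_le_card_of_injective f hinj
  have h2 := closure22.2
  omega

/-- `HS` is generated by `s`, `d`, `v`, `c`. -/
theorem K4H_eq : K4H = HC := by
  apply Subgroup.eq_of_le_of_card_ge K4H_le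
  haveI : Finite Co0 := inferInstance
  have h1 := forest_card_le (K := K4H) sgH_ok sgH_mem_K4H xroot_L hall_ok hlink_ok hmerge_ok
  have h2 := card_stab_xroot_ge
  rw [card_HC]
  calc 44352000 = 100 * 443520 := by norm_num
    _ ≤ 100 * Nat.card (stabilizer ↥K4H (mkL xroot)) := Nat.mul_le_mul_left _ h2
    _ ≤ Nat.card ↥K4H := h1

end HSOut

end Cfsg.Agent.Lib.H27
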