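/-
helper27 library: centralizers in the Higman–Sims group `HC ≤ Co0` of the element `s = wD` of order 11 (it is
`⟨s⟩`) and of the element `d = wU` of order 5 (it is `⟨c⟩ × ⟨d⟩` of order 25).
-/
import Mathlib
import Cfsg.Prelude.Def_Spor_Conway
import Cfsg.Agent.Lib.H27.HSOutGen

set_option autoImplicit false

namespace Cfsg.Agent.Lib.H27

open Cfsg MulAction Cfsg.Agent.Lib.H28 Cfsg.Agent.Lib.H27.Eng

namespace HSOut

open Co3GenData HSOutData OutM Co3Out AutRigid

theorem wC_ok : wCh.all Gen.ok = true := by decide +kernel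
theorem wV_ok : wVh.all Gen.ok = true := by decide +kernel

/-! ### The centralizer of `s` -/

theorem z_moves_U : wordCo0 wZ • Spor.leechU' ≠ Spor.leechU' := by
  intro h
  rw [← mkL_upL, mkL_of_mem upL_L] at h
  have h1 := actWord_spec wZ wZ_ok upL upL_L
  rw [h] at h1
  have h2 : actWord wZ upL = zupL := by decide +kernel
  rw [h2] at h1
  have h3 := nth_of_toFn_eq h1 (k := 0) (by norm_num)
  revert h3
  decide +kernel

theorem wD_mem : wordCo0 wD ∈ HC := word_memH (by simp [sgH])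
theorem wU_mem : wordCo0 wU ∈ HC := word_memH (by simp [sgH])
theorem wV_mem : wordCo0 wVh ∈ HC := word_memH (by simp [sgH])
theorem wC_mem : wordCo0 wCh ∈ HC := word_memH (by simp [sgH])

/-- The centralizer of `s` in `HC` is `⟨s⟩`. -/
theorem centralizer_sH {g : Co0} (hg : g ∈ HC) (hc : g * wordCo0 wD = wordCo0 wD * g) :
    ∃ j < 11, g = wordCo0 wD ^ j := by
  rcases centralizer_dC (HC_le_C3 hg) hc with h | ⟨j, hj, hjg⟩
  · exact h
  · exfalso
    have h1 : g • Spor.leechU' = Spor.leechU' := smul_U hg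
    have h2 : wordCo0 wD ^ j • Spor.leechU' = Spor.leechU' := smul_U (Subgroup.pow_mem _ wD_mem j)
    rw [hjg, mul_smul, h2] at h1
    exact z_moves_U h1

/-! ### The points fixed by `d` -/

/-- The 100 points. -/
abbrev XH : Set leechLattice := hsSet Spor.leechV WH

theorem ncard_XH : XH.ncard = 100 := ncard_hsSet _ _ sqNorm_V sqNorm_WH dot_V_WH

theorem xroot_memX : mkL xroot ∈ XH := by
  rw [mkL_of_mem xroot_L]
  refine ⟨?_, ?_, ?_⟩
  · show sqNorm (toFn xroot) = 32
    rw [← sqNorm_spec]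
    decide +kernel
  · show dotInt Spor.vecV (toFn xroot) = 24
    rw [← toFn_v3, ← dotL_spec]
    decide +kernel
  · show dotInt (WH : GolayPt → ℤ) (toFn xroot) = -24
    rw [← toFn_whL, ← dotL_spec]
    decide +kernel

theorem smul_memX {g : Co0} (hg : g ∈ HC) {x : leechLattice} (hx : x ∈ XH) : g • x ∈ XH := by
  have := smul_mem_hsSet g hx
  rwa [smul_V hg, smul_WH hg] at this

theorem mem_HC_of_fixes {g : Co0} (hg : Fixes g [v3, upL]) : g ∈ HC := by
  refine ⟨mem_stabilizer_iff.2 ?_, mem_stabilizer_iff.2 ?_⟩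
  · rw [← mkL_v3, mkL_of_mem v3_mem]
    exact hg v3 (by simp) v3_mem
  · rw [← mkL_upL, mkL_of_mem upL_L]
    exact hg upL (by simp) upL_L

/-- The forest enumerates the 2025 points. -/
theorem orbListH : OrbList [v3, upL] xroot (forestList sgH hchunks) ∧ (forestList sgH hchunks).length = 100 := by
  obtain ⟨hnd, hall, hlen⟩ := forest_listK (K := K4H) sgH_ok sgH_mem_K4H xroot_L hall_ok hlink_ok hmerge_ok
  refine ⟨⟨hnd, fun y hy => (hall y hy).1, ?_⟩, hlen⟩
  intro y hy
  obtain ⟨g, hg, hx0, hgy⟩ := (hall y hy).2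
  have hgM : g ∈ HC := K4H_le hg
  refine ⟨g, ?_, hx0, hgy⟩
  intro t ht htL
  simp only [List.mem_cons, List.not_mem_nil, or_false] at ht
  rcases ht with rfl | rfl
  · have := smul_V hgM
    rw [← mkL_v3, mkL_of_mem v3_mem] at this
    exact this
  · have := smul_U hgM
    rw [← mkL_upL, mkL_of_mem upL_L] at this
    exact this

theorem coverH : ∀ x ∈ XH, ∃ y ∈ forestList sgH hchunks, mkL y = x := by
  apply orbListH.1.cover XH xroot_memX
  · intro g hg x hx
    exact smul_memX (mem_HC_of_fixes hg) hx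
  · rw [orbListH.2]; norm_num
  · rw [orbListH.2]; exact ncard_XH

theorem u_fix_xroot : wordCo0 wU • mkL xroot = mkL xroot := by
  rw [← fixedBy_iff wU wU_ok xroot xroot_L]
  decide +kernel

/-- The points fixed by `d` are the images of the root under the powers of `c`. -/
theorem fixed_points {x : leechLattice} (hx : x ∈ XH) (hfix : wordCo0 wU • x = x) :
    ∃ k < 5, x = wordCo0 wCh ^ k • mkL xroot := by
  obtain ⟨y, hy, rfl⟩ := coverH x hx
  have hyL : toFn y ∈ leechLattice := (orbListH.1.inOrb y hy).mem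
  have hp : fixedBy wU y = true := (fixedBy_iff wU wU_ok y hyL).2 hfix
  have hmem : y ∈ (forestList sgH hchunks).filter (fixedBy wU) := List.mem_filter.2 ⟨hy, hp⟩
  have h5 := fix_filter
  rw [List.all_eq_true] at h5
  have h6 := h5 y hmem
  rw [List.contains_iff_mem] at h6
  rw [fix5_eq] at h6
  simp only [List.mem_cons, List.not_mem_nil, or_false] at h6
  have hact : ∀ w : List Gen, w.all Gen.ok = true → mkL (actWord w xroot) = wordCo0 w • mkL xroot := by
    intro w hw
    have h1 := actWord_spec w hw xroot xroot_L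
    have h2 : toFn (actWord w xroot) ∈ leechLattice := by
      rw [h1]; exact (wordCo0 w • (⟨toFn xroot, xroot_L⟩ : leechLattice)).2
    rw [mkL_of_mem h2, mkL_of_mem xroot_L]
    exact Subtype.ext h1
  have hok2 : (wCh ++ wCh).all Gen.ok = true := by rw [List.all_append, wC_ok]; rfl
  have hok3 : (wCh ++ wCh ++ wCh).all Gen.ok = true := by rw [List.all_append, hok2, wC_ok]; rfl
  have hok4 : (wCh ++ wCh ++ wCh ++ wCh).all Gen.ok = true := by rw [List.all_append, hok3, wC_ok]; rfl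
  rcases h6 with rfl | rfl | rfl | rfl | rfl
  · exact ⟨0, by norm_num, by rw [pow_zero, one_smul]⟩
  · exact ⟨1, by norm_num, by rw [hact wCh wC_ok, pow_one]⟩
  · refine ⟨2, by norm_num, ?_⟩
    rw [hact _ hok2, wordCo0_append, ← pow_two]
  · refine ⟨3, by norm_num, ?_⟩
    rw [hact _ hok3, wordCo0_append, wordCo0_append, ← pow_two, ← pow_succ']
  · refine ⟨4, by norm_num, ?_⟩
    rw [hact _ hok4, wordCo0_append, wordCo0_append, wordCo0_append, ← pow_two, ← pow_succ', ← pow_succ']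

/-! ### The centralizer of `d` -/

theorem cu_comm : wordCo0 wCh * wordCo0 wU = wordCo0 wU * wordCo0 wCh := by
  rw [← wordCo0_wmul, ← wordCo0_wmul]
  exact wordCo0_eq_of_wordEq (wmul_ok wC_ok wU_ok) (wmul_ok wU_ok wC_ok) (by decide +kernel)

noncomputable def uM : ↥M24 := ⟨wordPerm uw, wordPerm_mem_M24 uw⟩

theorem pCo0_uM : pCo0 uM = wordCo0 wU := pCo0_u

theorem u8_eq : u8 none = Spor.leechU' - mkL xroot := by
  rw [mkL_of_mem xroot_L]
  apply Subtype.ext
  funext p
  show (Pi.single none 8 : GolayPt → ℤ) p = Spor.vecU' p - toFn xroot p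
  revert p
  decide +kernel

/-- An element of `HC` fixing the root is a coordinate permutation of `M22`. -/
theorem perm_of_fix_xroot {g : Co0} (hg : g ∈ HC) (hfix : g • mkL xroot = mkL xroot) :
    ∃ σ : ↥M24, σ.1 ∈ Spor.M22 ∧ g = pCo0 σ := by
  have h8 : g • u8 none = u8 none := by rw [u8_eq, Co0_smul_sub, smul_U hg, hfix]
  obtain ⟨σ, hσ, rfl⟩ := perm_of_fix_u8 (HC_le_C3 hg) h8
  refine ⟨σ, ?_, rfl⟩
  rw [mem_M22]
  refine ⟨σ.2, hσ, ?_⟩
  have hU := smul_U hg
  have h1 := congrArg (fun x : leechLattice => (x : GolayPt → ℤ) (some 0)) hU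
  simp only [pCo0_smul] at h1
  have hn' : σ.1.symm none = none := by rw [Equiv.symm_apply_eq, hσ]
  have key : ∀ p : GolayPt, Spor.vecU' p = Spor.vecU' (some 0) → p = some 0 := by decide +kernel
  have h2 : σ.1.symm (some 0) = some 0 := key _ h1
  rw [Equiv.symm_apply_eq] at h2
  exact h2.symm

/-- The centralizer of `d` in `HC` consists of the elements `c ^ k d ^ j`. -/
theorem centralizer_dH {g : Co0} (hg : g ∈ HC) (hc : g * wordCo0 wU = wordCo0 wU * g) :
    ∃ k < 5, ∃ j < 5, g = wordCo0 wCh ^ k * wordCo0 wU ^ j := by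
  have hfix : wordCo0 wU • (g • mkL xroot) = g • mkL xroot :=
    smul_fixed_of_comm hc u_fix_xroot
  obtain ⟨k, hk, hgk⟩ := fixed_points (smul_memX hg xroot_memX) hfix
  set h := (wordCo0 wCh ^ k)⁻¹ * g with hh
  have hhM : h ∈ HC := Subgroup.mul_mem _ (Subgroup.inv_mem _ (Subgroup.pow_mem _ wC_mem k)) hg
  have hhfix : h • mkL xroot = mkL xroot := by
    rw [hh, mul_smul, hgk, inv_smul_smul]
  have hhc : h * wordCo0 wU = wordCo0 wU * h := by
    have e1 : Commute (wordCo0 wCh ^ k) (wordCo0 wU) := (show Commute (wordCo0 wCh) (wordCo0 wU) from cu_comm).pow_left k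
    have e2 : Commute ((wordCo0 wCh ^ k)⁻¹) (wordCo0 wU) := e1.inv_left
    rw [hh, mul_assoc, hc, ← mul_assoc, e2.eq, mul_assoc]
  obtain ⟨σ, hσ, hσg⟩ := perm_of_fix_xroot hhM hhfix
  rw [hσg, ← pCo0_uM] at hhc
  have h1 := comm_of_pCo0_comm hhc
  obtain ⟨j, hj, hjc⟩ := data22.hA3 ⟨σ.1, hσ⟩ (Subtype.ext h1)
  refine ⟨k, hk, j, hj, ?_⟩
  have h2 : σ = uM ^ j := by
    apply Subtype.ext
    have := congrArg (fun x : ↥Spor.M22 => (x : Equiv.Perm GolayPt)) hjc
    simp only [Subgroup.coe_pow] at this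
    rw [Subgroup.coe_pow]
    exact this
  have h3 : h = wordCo0 wU ^ j := by rw [hσg, h2, pCo0_pow, pCo0_uM]
  rw [← h3, hh, mul_inv_cancel_left]

end HSOut

end Cfsg.Agent.Lib.H27
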