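import Mathlib
import Cfsg.Agent.Lib.H15.HigBasic
import Cfsg.Agent.Lib.H15.HigOPS
import Cfsg.Agent.Lib.H15.Nat2
import Cfsg.Agent.Lib.H15.Nat5
import Cfsg.Agent.Lib.H29.HigACT
import Cfsg.Agent.Lib.H29.HigFIELD
import Cfsg.Agent.Lib.H24.HigCOORD
import Cfsg.Agent.Lib.H27.HigHF
import Cfsg.Prelude.Def_BaumannBlocks

/-!
# S3050 piece FIN1 (helper27): equivariant coordinates on the abelian kernel.
-/

set_option autoImplicit false

namespace Cfsg.Agent.Lib.H27.Hig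

open Matrix Cfsg.Agent.Lib.H2.SL2 Cfsg.Agent.Lib.H15.Nat Cfsg.Agent.Lib.H15.Hig
open Cfsg.Agent.Lib.H29.Hig
open scoped IsMulCommutative

theorem exists_group_coords {K : Type*} [Field K] [Fintype K] {n : ℕ} (hn : 2 ≤ n)
    (hK : Fintype.card K = 2 ^ n) {G : Type*} [Group G] [Finite G]
    (π : G →* SpecialLinearGroup (Fin 2) K) (hπ : Function.Surjective π)
    (hQ : IsPGroup 2 ↥π.ker) (x : G) (hx3 : x ^ 3 = 1) (hx1 : π x ≠ 1)
    (hfpf : ∀ q ∈ π.ker, x * q * x⁻¹ = q → q = 1)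
    (hcomm : ∀ a ∈ π.ker, ∀ b ∈ π.ker, a * b = b * a) :
    ∃ (k : ℕ) (Φ : ↥π.ker ≃* Multiplicative (Fin k → Fin 2 → K)),
      ∀ (g : G) (q q' : ↥π.ker), (q' : G) = g * q * g⁻¹ → ∀ i,
        Multiplicative.toAdd (Φ q') i =
          ((π g : SpecialLinearGroup (Fin 2) K) : Matrix (Fin 2) (Fin 2) K).mulVec
            (Multiplicative.toAdd (Φ q) i) := by
  obtain ⟨hchar, hbig, hsq⟩ := field_facts hn hK
  haveI := hchar
  haveI instMC : IsMulCommutative ↥π.ker :=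
    ⟨⟨fun a b => Subtype.ext (hcomm a a.2 b b.2)⟩⟩
  have hcen : ∀ q ∈ π.ker, ∀ a ∈ π.ker, q * a = a * q := fun q hq a ha => hcomm q hq a ha
  have hF := act_hF π hπ hsq π.ker hcen x hx3 hx1 hfpf
  have hg : Good K (Additive ↥π.ker) := good_additive hbig hsq hQ
  obtain ⟨k, Φ, hU, hW⟩ :=
    Cfsg.Agent.Lib.H24.Hig.exists_coords (opsOf (act π hπ π.ker hcen) hF) hg
  have heq := coords_equivariant (act π hπ π.ker hcen) Φ
    (fun a m i => by rw [← hU a m i]; rfl) (fun m i => by rw [← hW m i]; rfl)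
  refine ⟨k, AddEquiv.toMultiplicativeRight Φ, ?_⟩
  intro g q q' hq' i
  show Φ (Additive.ofMul q') i = _
  have h1 : Additive.ofMul q' = act π hπ π.ker hcen (π g) (Additive.ofMul q) := by
    apply Additive.toMul.injective
    apply Subtype.ext
    rw [act_apply π hπ π.ker hcen g q]
    exact hq'
  rw [h1, heq (π g) (Additive.ofMul q) i]
  rfl

end Cfsg.Agent.Lib.H27.Hig
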