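/-
helper27 library: checking helper3's listed-conjugates certificates in chunks (one kernel evaluation per chunk
keeps the memory of each evaluation small).
-/
import Mathlib
import Cfsg.Agent.Lib.H3.ConjList

set_option autoImplicit false

namespace Cfsg.Agent.Lib.H27.J1Out

open Cfsg.Agent.Lib.H3.DC

/-- A loop over `n` indices from loops over `m` chunks of `c` indices and a last chunk of `r` indices. -/
theorem allLt_of_chunks (n : ℕ) (f : ℕ → Bool) (c m r : ℕ)
    (h : ∀ k < m, allLt c (fun i => f (k * c + i)) = true)
    (hr : allLt r (fun i => f (m * c + i)) = true) (hn : n ≤ m * c + r) : allLt n f = true := by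
  rw [allLt_iff]
  intro i hi
  by_cases him : i < m * c
  · have hc : 0 < c := by
      rcases Nat.eq_zero_or_pos c with h0 | h0
      · subst h0; omega
      · exact h0
    have hk : i / c < m := by
      rw [Nat.div_lt_iff_lt_mul hc]
      exact him
    have h1 := (allLt_iff _ _).1 (h (i / c) hk) (i % c) (Nat.mod_lt _ hc)
    have h2 : i / c * c + i % c = i := by
      rw [mul_comm]
      exact Nat.div_add_mod i c
    rw [h2] at h1
    exact h1
  · have h1 := (allLt_iff _ _).1 hr (i - m * c) (by omega)
    have h2 : m * c + (i - m * c) = i := by omega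
    rw [h2] at h1
    exact h1

variable {G : Type} [Group G] {P : Type} [MulAction G P]

/-- The body of `ListedConj.check3`. -/
def body3 (L : ListedConj) (i : ℕ) : Bool := Nat.blt (keyF (L.elt i)) (keyF (L.elt (i + 1)))

/-- The body of `ListedConj.check4`. -/
def body4 (M : Model G P) (L : ListedConj) (i : ℕ) : Bool :=
  Nat.beq i L.i1 ||
    (Nat.blt (L.par i) L.n && Nat.blt (L.pg i) L.ng && Nat.blt (L.dep (L.par i)) (L.dep i) &&
      beqL (M.mulE (M.mulE (L.gen (L.pg i)) (L.elt (L.par i))) (L.geni (L.pg i))) (L.elt i))

/-- One chunk of `check3`. -/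
def chunk3 (L : ListedConj) (c k : ℕ) : Bool := allLt c (fun i => body3 L (k * c + i))

/-- One chunk of `check4`. -/
def chunk4 (M : Model G P) (L : ListedConj) (c k : ℕ) : Bool := allLt c (fun i => body4 M L (k * c + i))

theorem check3_of_chunks (L : ListedConj) (c m r : ℕ) (h : ∀ k < m, chunk3 L c k = true)
    (hr : allLt r (fun i => body3 L (m * c + i)) = true)
    (hn : L.n - 1 ≤ m * c + r) : L.check3 = true :=
  allLt_of_chunks (L.n - 1) (body3 L) c m r h hr hn

theorem check4_of_chunks (M : Model G P) (L : ListedConj) (c m r : ℕ) (h : ∀ k < m, chunk4 M L c k = true)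
    (hr : allLt r (fun i => body4 M L (m * c + i)) = true)
    (hn : L.n ≤ m * c + r) : L.check4 M = true :=
  allLt_of_chunks L.n (body4 M L) c m r h hr hn

end Cfsg.Agent.Lib.H27.J1Out
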