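/-
helper27 library: kernel checks of the listed conjugacy class `CLX7` of `J₁`, in chunks (generated).
-/
import Mathlib
import Cfsg.Agent.Lib.H3.J1Cent2
import Cfsg.Agent.Lib.H27.J1ClsX7
import Cfsg.Agent.Lib.H27.J1Chunk

set_option autoImplicit false
set_option maxRecDepth 100000

namespace Cfsg.Agent.Lib.H27.J1Out

open Cfsg.Agent.Lib.H3.DC Cfsg.Agent.Lib.H3 Cfsg.Agent.Lib.H3.J1

theorem CLX7_c3_0 : chunk3 CLX7 2048 0 = true := by decide +kernel
theorem CLX7_c3_1 : chunk3 CLX7 2048 1 = true := by decide +kernel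
theorem CLX7_c3_2 : chunk3 CLX7 2048 2 = true := by decide +kernel
theorem CLX7_c3_3 : chunk3 CLX7 2048 3 = true := by decide +kernel
theorem CLX7_c3_4 : chunk3 CLX7 2048 4 = true := by decide +kernel
theorem CLX7_c3_5 : chunk3 CLX7 2048 5 = true := by decide +kernel
theorem CLX7_c3_6 : chunk3 CLX7 2048 6 = true := by decide +kernel
theorem CLX7_c3_7 : chunk3 CLX7 2048 7 = true := by decide +kernel
theorem CLX7_c3_8 : chunk3 CLX7 2048 8 = true := by decide +kernel
theorem CLX7_c3_9 : chunk3 CLX7 2048 9 = true := by decide +kernel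
theorem CLX7_c3_10 : chunk3 CLX7 2048 10 = true := by decide +kernel
theorem CLX7_c3_11 : chunk3 CLX7 2048 11 = true := by decide +kernel
theorem CLX7_c3_r : allLt 503 (fun i => body3 CLX7 (12 * 2048 + i)) = true := by decide +kernel
theorem CLX7_c4_0 : chunk4 ModP.model CLX7 2048 0 = true := by decide +kernel
theorem CLX7_c4_1 : chunk4 ModP.model CLX7 2048 1 = true := by decide +kernel
theorem CLX7_c4_2 : chunk4 ModP.model CLX7 2048 2 = true := by decide +kernel
theorem CLX7_c4_3 : chunk4 ModP.model CLX7 2048 3 = true := by decide +kernel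
theorem CLX7_c4_4 : chunk4 ModP.model CLX7 2048 4 = true := by decide +kernel
theorem CLX7_c4_5 : chunk4 ModP.model CLX7 2048 5 = true := by decide +kernel
theorem CLX7_c4_6 : chunk4 ModP.model CLX7 2048 6 = true := by decide +kernel
theorem CLX7_c4_7 : chunk4 ModP.model CLX7 2048 7 = true := by decide +kernel
theorem CLX7_c4_8 : chunk4 ModP.model CLX7 2048 8 = true := by decide +kernel
theorem CLX7_c4_9 : chunk4 ModP.model CLX7 2048 9 = true := by decide +kernel
theorem CLX7_c4_10 : chunk4 ModP.model CLX7 2048 10 = true := by decide +kernel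
theorem CLX7_c4_11 : chunk4 ModP.model CLX7 2048 11 = true := by decide +kernel
theorem CLX7_c4_r : allLt 504 (fun i => body4 ModP.model CLX7 (12 * 2048 + i)) = true := by decide +kernel

theorem CLX7_check1 : CLX7.check1 zX7E = true := by decide +kernel

theorem CLX7_check3 : CLX7.check3 = true := by
  apply check3_of_chunks CLX7 2048 12 503
  · intro k hk
    interval_cases k
    · exact CLX7_c3_0
    · exact CLX7_c3_1
    · exact CLX7_c3_2
    · exact CLX7_c3_3
    · exact CLX7_c3_4
    · exact CLX7_c3_5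
    · exact CLX7_c3_6
    · exact CLX7_c3_7
    · exact CLX7_c3_8
    · exact CLX7_c3_9
    · exact CLX7_c3_10
    · exact CLX7_c3_11
  · exact CLX7_c3_r
  · decide

theorem CLX7_check4 : CLX7.check4 ModP.model = true := by
  apply check4_of_chunks ModP.model CLX7 2048 12 504
  · intro k hk
    interval_cases k
    · exact CLX7_c4_0
    · exact CLX7_c4_1
    · exact CLX7_c4_2
    · exact CLX7_c4_3
    · exact CLX7_c4_4
    · exact CLX7_c4_5
    · exact CLX7_c4_6
    · exact CLX7_c4_7
    · exact CLX7_c4_8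
    · exact CLX7_c4_9
    · exact CLX7_c4_10
    · exact CLX7_c4_11
  · exact CLX7_c4_r
  · decide

end Cfsg.Agent.Lib.H27.J1Out
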