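/-
helper27 library: the centralizers in `J₁` of an element `s` of order 11 and of an element `d` of order 10
normalizing `⟨s⟩` have at most 11 and 10 elements (listed conjugacy classes, helper3's certificate format).
-/
import Mathlib
import Cfsg.Agent.Lib.H3.J1Cent2
import Cfsg.Agent.Lib.H27.J1ChkS
import Cfsg.Agent.Lib.H27.J1ChkD

set_option autoImplicit false
set_option maxRecDepth 100000

namespace Cfsg.Agent.Lib.H27.J1Out

open Cfsg.Agent.Lib.H3.DC Cfsg.Agent.Lib.H3 Cfsg.Agent.Lib.H3.J1 Cfsg.Spor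

/-- Words in the letters `0 ↦ X, 1 ↦ Y, 2 ↦ X⁻¹, 3 ↦ Y⁻¹`. -/
def wS : List ℕ := [0, 1, 1]
def wD : List ℕ := [2, 3, 3, 0, 3, 0, 3, 2, 2, 3, 0, 1]
def wU : List ℕ := [0, 0, 1, 2, 1, 0, 3, 0]

theorem codeW_s : codeW wS = zSE := by decide +kernel
theorem codeW_d : codeW wD = zDE := by decide +kernel

theorem conj_exists_gen (L : ListedConj) (hng : L.ng = 2)
    (hgen : L.gen = fun k => cond (Nat.beq k 0) xE yE)
    (hgeni : L.geni = fun k => cond (Nat.beq k 0) xiE yiE)
    (w : List ℕ) (zE : List ℕ) (hz : codeW w = zE)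
    (h1 : L.check1 zE = true) (h4 : L.check4 ModP.model = true) :
    ∀ i < L.n, ∃ g ∈ JJ, ModP.model.code (g * wp w * g⁻¹) = L.elt i := by
  intro i hi
  obtain ⟨g, hg, hgi⟩ := ListedConj.exists_of_lt ModP.model L gsC (wp w) zE
    (by
      intro k hk
      rw [hng] at hk
      rw [hgen]
      interval_cases k
      · rw [gsC_zero]; exact code_x
      · rw [gsC_one]; exact code_y)
    (by
      intro k hk
      rw [hng] at hk
      rw [hgeni]
      interval_cases k
      · rw [gsC_zero]; exact code_xi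
      · rw [gsC_one]; exact code_yi)
    (by rw [code_wp, hz]) h1 h4 i hi
  refine ⟨g, ?_, hgi⟩
  have hle : Subgroup.closure (ListedConj.genSet L gsC) ≤ JJ := by
    rw [Subgroup.closure_le]
    rintro x ⟨k, hk, rfl⟩
    rw [hng] at hk
    interval_cases k
    · rw [gsC_zero]; exact Subgroup.subset_closure (by simp)
    · rw [gsC_one]; exact Subgroup.subset_closure (by simp)
  exact hle hg

theorem card_centralizer_le_gen (L : ListedConj) (hng : L.ng = 2)
    (hgen : L.gen = fun k => cond (Nat.beq k 0) xE yE)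
    (hgeni : L.geni = fun k => cond (Nat.beq k 0) xiE yiE)
    (w : List ℕ) (zE : List ℕ) (hz : codeW w = zE)
    (h1 : L.check1 zE = true) (h3 : L.check3 = true) (h4 : L.check4 ModP.model = true) :
    L.n * Nat.card (Subgroup.centralizer ({(⟨wp w, wp_mem w⟩ : JJ)} : Set JJ)) ≤ 175560 := by
  classical
  choose g hg hgc using fun i : Fin L.n => conj_exists_gen L hng hgen hgeni w zE hz h1 h4 i i.2
  have h := mul_card_centralizer_le_sub JJ (⟨wp w, wp_mem w⟩ : JJ) L.n g hg (by
    intro i j hij
    have h2 : L.elt i = L.elt j := by rw [← hgc i, ← hgc j, hij]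
    exact Fin.ext (ListedConj.elt_injOn L h3 i j i.2 j.2 h2))
  rw [card_JJ] at h
  exact h

/-- The centralizer of `s` has at most 11 elements. -/
theorem card_centralizer_s : Nat.card (Subgroup.centralizer ({(⟨wp wS, wp_mem wS⟩ : JJ)} : Set JJ)) ≤ 11 := by
  have h := card_centralizer_le_gen CLS rfl rfl rfl wS zSE codeW_s CLS_check1 CLS_check3 CLS_check4
  have hn : CLS.n = 15960 := rfl
  rw [hn] at h
  omega

/-- The centralizer of `d` has at most 10 elements. -/
theorem card_centralizer_d : Nat.card (Subgroup.centralizer ({(⟨wp wD, wp_mem wD⟩ : JJ)} : Set JJ)) ≤ 10 := by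
  have h := card_centralizer_le_gen CLD rfl rfl rfl wD zDE codeW_d CLD_check1 CLD_check3 CLD_check4
  have hn : CLD.n = 17556 := rfl
  rw [hn] at h
  omega

end Cfsg.Agent.Lib.H27.J1Out
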