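/-
helper27 library: the centralizers in `J₁` of the element `x7 = X` of order 7 and of the element
`x19 = X Y X X` of order 19 have at most 7 and 19 elements (listed conjugacy classes, helper3's certificate
format; same pattern as `J1Cls`).
-/
import Mathlib
import Cfsg.Agent.Lib.H27.J1Cls
import Cfsg.Agent.Lib.H27.J1ChkX7
import Cfsg.Agent.Lib.H27.J1ChkX19

set_option autoImplicit false
set_option maxRecDepth 100000

namespace Cfsg.Agent.Lib.H27.J1Out

open Cfsg.Agent.Lib.H3.DC Cfsg.Agent.Lib.H3 Cfsg.Agent.Lib.H3.J1 Cfsg.Spor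

/-- Words in the letters `0 ↦ X, 1 ↦ Y, 2 ↦ X⁻¹, 3 ↦ Y⁻¹`. -/
def wX7 : List ℕ := [0]
def wX19 : List ℕ := [0, 1, 0, 0]

theorem codeW_x7 : codeW wX7 = zX7E := by decide +kernel
theorem codeW_x19 : codeW wX19 = zX19E := by decide +kernel

/-- The centralizer of `x7 = X` (of order 7) has at most 7 elements. -/
theorem card_centralizer_x7 :
    Nat.card (Subgroup.centralizer ({(⟨wp wX7, wp_mem wX7⟩ : JJ)} : Set JJ)) ≤ 7 := by
  have h := card_centralizer_le_gen CLX7 rfl rfl rfl wX7 zX7E codeW_x7 CLX7_check1 CLX7_check3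
    CLX7_check4
  have hn : CLX7.n = 25080 := rfl
  rw [hn] at h
  omega

/-- The centralizer of `x19 = X Y X X` (of order 19) has at most 19 elements. -/
theorem card_centralizer_x19 :
    Nat.card (Subgroup.centralizer ({(⟨wp wX19, wp_mem wX19⟩ : JJ)} : Set JJ)) ≤ 19 := by
  have h := card_centralizer_le_gen CLX19 rfl rfl rfl wX19 zX19E codeW_x19 CLX19_check1 CLX19_check3
    CLX19_check4
  have hn : CLX19.n = 9240 := rfl
  rw [hn] at h
  omega

end Cfsg.Agent.Lib.H27.J1Out
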