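import Mathlib
import Cfsg.Agent.Lib.H5.Ord.GenTests3

/-!
# S4274 (helper28's farm-out): a list-valued packaging of helper5's `prime_data_explicit`

`sylOpts n p m q` lists all pairs `(n_p, e_p)` allowed by the Sylow numerology for a prime `p` with
`n = p * m`, `p ∤ m`, in a non-abelian simple group of order `n` (`q` a prime divisor of `n`, used
for `q ≤ n_p`).
-/

set_option autoImplicit false

namespace Cfsg.Agent.Lib.H27.J1Ord

open Subgroup Cfsg.Agent.Lib.H5 Cfsg.Agent.Lib.H5.GenTests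

/-- all pairs `(n_p, e_p)` allowed by the numerology -/
def sylOpts (n p m q : ℕ) : List (ℕ × ℕ) :=
  ((List.range (m + 1)).filter fun d =>
      decide (d ∣ m) && decide (d % p = 1) && decide (d ≠ 1) && decide (q ≤ d)).flatMap fun d =>
    ((List.range p).filter fun e =>
      decide (e ∣ p - 1) && decide (e ≠ 1) && decide (p * e * d ∣ n)).map fun e => (d, e)

variable {G : Type*} [Group G] [Finite G] [IsSimpleGroup G]

theorem sylOpts_mem (hnc : ¬ IsMulCommutative G) {n p m q : ℕ} [Fact p.Prime] (hq : q.Prime)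
    (hqn : q ∣ n) (hn : Nat.card G = n) (hnk : n = p * m) (hpm : ¬ p ∣ m) (hm : m ≠ 1)
    (hm0 : m ≠ 0) (P : Sylow p G) :
    ∃ d e c : ℕ, Nat.card (Sylow p G) = d ∧
      Nat.card (centralizer ((P : Subgroup G) : Set G)) = c ∧
      Nat.card (normalizer ((P : Subgroup G) : Set G)) = c * e ∧ c * e * d = n ∧ p ∣ c ∧
      Nat.card (P : Subgroup G) = p ∧ (d, e) ∈ sylOpts n p m q := by
  have hp : p.Prime := Fact.out
  obtain ⟨h1, h2, h3, h4, h5, h6, h7, h8, hP, hNd, hNtop, -, hcr, -⟩ :=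
    prime_data_explicit hnc hn hnk hpm hm P
  refine ⟨_, _, _, rfl, rfl, hcr.symm, h7, h8, hP, ?_⟩
  unfold sylOpts
  rw [List.mem_flatMap]
  refine ⟨Nat.card (Sylow p G), ?_, ?_⟩
  · rw [List.mem_filter, List.mem_range]
    refine ⟨Nat.lt_succ_of_le (Nat.le_of_dvd (Nat.pos_of_ne_zero hm0) h1), ?_⟩
    have hq' : q ≤ Nat.card (Sylow p G) := by
      apply (hq.dvd_factorial).mp
      exact dvd_trans (dvd_trans hqn (Dvd.intro_left 2 rfl)) h4
    simp only [Bool.and_eq_true, decide_eq_true_eq]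
    exact ⟨⟨⟨h1, h2⟩, h3⟩, hq'⟩
  · rw [List.mem_map]
    refine ⟨_, ?_, rfl⟩
    rw [List.mem_filter, List.mem_range]
    have hp1 : 0 < p - 1 := by have := hp.two_le; omega
    refine ⟨by have := Nat.le_of_dvd hp1 h5; omega, ?_⟩
    simp only [Bool.and_eq_true, decide_eq_true_eq]
    refine ⟨⟨h5, h6⟩, ?_⟩
    obtain ⟨c', hc'⟩ := h8
    rw [← h7, hc']
    exact ⟨c', by ring⟩

end Cfsg.Agent.Lib.H27.J1Ord
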