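import Mathlib
import Cfsg.Agent.Lib.H27.J1OrdNum
import Cfsg.Agent.Lib.H28.J1OrdTools

/-!
# S4274, piece O35112 (helper28's farm-out): no simple group of order `35112 = 2^3.3.7.11.19`
-/

set_option autoImplicit false

namespace Cfsg.Agent.Lib.H27.J1Ord

open Subgroup Cfsg.Agent.Lib.H5 Cfsg.Agent.Lib.H5.GenTests Cfsg.Agent.Lib.H28.J1Ord

variable {G : Type*} [Group G] [Finite G] [IsSimpleGroup G]

/-- in a non-abelian simple group the centralizer of a non-trivial element is proper -/
theorem centralizer_singleton_ne_top (hnc : ¬ IsMulCommutative G) (z : G) (hz : z ≠ 1) :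
    centralizer ({z} : Set G) ≠ ⊤ := by
  intro h
  have hzc : z ∈ center G := by
    rw [Subgroup.mem_center_iff]
    intro g
    have : g ∈ centralizer ({z} : Set G) := by rw [h]; exact mem_top g
    rw [mem_centralizer_singleton_iff] at this
    exact this
  rcases IsSimpleGroup.eq_bot_or_eq_top_of_normal (center G) inferInstance with h0 | h0
  · rw [h0, mem_bot] at hzc
    exact hz hzc
  · apply hnc
    refine ⟨⟨fun a b => ?_⟩⟩
    have : b ∈ center G := by rw [h0]; exact mem_top b
    rw [Subgroup.mem_center_iff] at this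
    exact this a

/-- Step 4 of O35112: an involution with centralizer of order `616` is impossible -/
theorem no_616 (hnc : ¬ IsMulCommutative G) (hn : Nat.card G = 35112) (z : G)
    (hz : orderOf z = 2) (hC : Nat.card (centralizer ({z} : Set G)) = 616) : False := by
  haveI : Fact (Nat.Prime 11) := ⟨by norm_num⟩
  set C := centralizer ({z} : Set G) with hCdef
  let Q' : Sylow 11 C := default
  have hQ'c : Nat.card (Q' : Subgroup C) = 11 := by
    have := (sylow_card_and_index Q' (k := 1) (m := 56) (by rw [hC]; norm_num) (by norm_num)).1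
    simpa using this
  have hzC : z ∈ C := by rw [hCdef, mem_centralizer_singleton_iff]
  let z' : C := ⟨z, hzC⟩
  have hz'c : ∀ c : C, z' * c = c * z' := by
    intro c
    apply Subtype.ext
    have h2 : (c : G) ∈ centralizer ({z} : Set G) := c.2
    rw [mem_centralizer_singleton_iff] at h2
    exact h2.symm
  have hz'N : z' ∈ normalizer ((Q' : Subgroup C) : Set C) := by
    rw [mem_normalizer_iff]
    intro h
    rw [hz'c h, mul_inv_cancel_right]
  have hz'o : orderOf z' = 2 := by
    rw [← hz]
    exact (Subgroup.orderOf_coe z').symm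
  set N' := normalizer ((Q' : Subgroup C) : Set C) with hN'
  have h2 : 2 ∣ Nat.card N' := by
    rw [← hz'o]; exact Subgroup.orderOf_dvd_natCard N' hz'N
  have h11 : 11 ∣ Nat.card N' := by
    rw [← hQ'c]; exact card_dvd_of_le le_normalizer
  have h22 : 22 ∣ Nat.card N' :=
    Nat.Coprime.mul_dvd_of_dvd_of_dvd (by norm_num : Nat.Coprime 2 11) h2 h11
  have hmul : Nat.card N' * Nat.card (Sylow 11 C) = 616 := by
    rw [← hC]; exact card_normalizer_mul_card_sylow Q'
  have hmod : Nat.card (Sylow 11 C) % 11 = 1 := by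
    have := card_sylow_modEq_one 11 C
    rw [Nat.ModEq] at this
    simpa using this
  have hs1 : Nat.card (Sylow 11 C) = 1 := by
    obtain ⟨t, ht⟩ := h22
    rw [ht] at hmul
    set s := Nat.card (Sylow 11 C)
    have hs28 : t * s = 28 := by nlinarith
    have hs : s ≤ 28 := by
      rcases Nat.eq_zero_or_pos t with h0 | h0
      · rw [h0] at hs28; omega
      · nlinarith
    interval_cases s <;> omega
  have hnorm : N' = ⊤ := by
    have := Sylow.card_eq_index_normalizer Q'
    rw [hs1] at this
    exact index_eq_one.mp this.symm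
  -- the image in G
  set Q : Subgroup G := (Q' : Subgroup C).map C.subtype with hQ
  have hQc : Nat.card Q = 11 := by
    rw [hQ, Subgroup.card_map_of_injective C.subtype_injective, hQ'c]
  have hCN : C ≤ normalizer (Q : Set G) := by
    have h1 := le_normalizer_map (H := (Q' : Subgroup C)) C.subtype
    rw [← hN', hnorm, ← MonoidHom.range_eq_map, Subgroup.range_subtype] at h1
    exact h1
  have hQp : IsPGroup 11 Q := IsPGroup.of_card (n := 1) (by rw [hQc]; norm_num)
  obtain ⟨P, hQP⟩ := hQp.exists_le_sylow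
  have hPc : Nat.card (P : Subgroup G) = 11 := by
    have := (sylow_card_and_index P (k := 1) (m := 3192) (by rw [hn]; norm_num) (by norm_num)).1
    simpa using this
  have hQeq : Q = (P : Subgroup G) := eq_of_le_of_card_ge hQP (by rw [hPc, hQc])
  rw [hQeq] at hCN
  obtain ⟨d, e, c, hd, hc, hN, hced, hpc, hP, hmem⟩ :=
    sylOpts_mem hnc (q := 19) (by norm_num) (by norm_num) hn (p := 11) (m := 3192) (by norm_num)
      (by norm_num) (by norm_num) (by norm_num) P
  have hl : sylOpts 35112 11 3192 19 = [(133, 2), (1596, 2)] := by decide +kernel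
  rw [hl] at hmem
  have hdvd : 616 ∣ c * e := by
    rw [← hN, ← hC]; exact card_dvd_of_le hCN
  simp only [List.mem_cons, Prod.mk.injEq, List.not_mem_nil, or_false] at hmem
  rcases hmem with ⟨rfl, rfl⟩ | ⟨rfl, rfl⟩ <;> omega

theorem ne_35112 : Nat.card G ≠ 35112 := by
  intro hn
  have hnc : ¬ IsMulCommutative G :=
    not_isMulCommutative_of_card_not_prime (by rw [hn]; norm_num)
  haveI : Fact (Nat.Prime 19) := ⟨by norm_num⟩
  haveI : Fact (Nat.Prime 7) := ⟨by norm_num⟩
  haveI : Fact (Nat.Prime 11) := ⟨by norm_num⟩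
  let P19 : Sylow 19 G := default
  let P7 : Sylow 7 G := default
  let P11 : Sylow 11 G := default
  obtain ⟨d19, e19, c19, hd19, hc19, hN19, hced19, hpc19, hP19, hmem19⟩ :=
    sylOpts_mem hnc (q := 19) (by norm_num) (by norm_num) hn (p := 19) (m := 1848) (by norm_num)
      (by norm_num) (by norm_num) (by norm_num) P19
  obtain ⟨d7, e7, c7, hd7, hc7, hN7, hced7, hpc7, hP7, hmem7⟩ :=
    sylOpts_mem hnc (q := 19) (by norm_num) (by norm_num) hn (p := 7) (m := 5016) (by norm_num)
      (by norm_num) (by norm_num) (by norm_num) P7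
  obtain ⟨d11, e11, c11, hd11, hc11, hN11, hced11, hpc11, hP11, hmem11⟩ :=
    sylOpts_mem hnc (q := 19) (by norm_num) (by norm_num) hn (p := 11) (m := 3192) (by norm_num)
      (by norm_num) (by norm_num) (by norm_num) P11
  have hl19 : sylOpts 35112 19 1848 19 = [(77, 2), (77, 3), (77, 6)] := by decide +kernel
  have hl7 : sylOpts 35112 7 5016 19 = [(22, 2), (22, 3), (22, 6), (57, 2), (1254, 2)] := by
    decide +kernel
  have hl11 : sylOpts 35112 11 3192 19 = [(133, 2), (1596, 2)] := by decide +kernel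
  rw [hl19] at hmem19
  rw [hl7] at hmem7
  rw [hl11] at hmem11
  simp only [List.mem_cons, Prod.mk.injEq, List.not_mem_nil, or_false] at hmem19 hmem7 hmem11
  -- step 1: 7 ∤ |C(P19)|
  have h7c19 : ¬ 7 ∣ c19 := by
    rcases hmem19 with ⟨rfl, rfl⟩ | ⟨rfl, rfl⟩ | ⟨rfl, rfl⟩ <;> omega
  -- (X) 19 ∣ |C(P7)| is impossible
  have hX19 : ¬ 19 ∣ c7 := by
    intro h
    have := dvd_card_centralizer_symm P7 P19 hP19 (by rw [hc7]; exact h)
    rw [hP7, hc19] at this
    exact h7c19 this
  -- (X) 11 ∣ |C(P7)| is impossible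
  have h7c11 : ¬ 7 ∣ c11 := by
    rcases hmem11 with ⟨rfl, rfl⟩ | ⟨rfl, rfl⟩ <;> omega
  have hX11 : ¬ 11 ∣ c7 := by
    intro h
    have := dvd_card_centralizer_symm P7 P11 hP11 (by rw [hc7]; exact h)
    rw [hP7, hc11] at this
    exact h7c11 this
  -- step 2: n_7 = 1254, |C(P7)| = 14, |N(P7)| = 28
  have h7 : c7 = 14 ∧ e7 = 2 := by
    rcases hmem7 with ⟨rfl, rfl⟩ | ⟨rfl, rfl⟩ | ⟨rfl, rfl⟩ | ⟨rfl, rfl⟩ | ⟨rfl, rfl⟩
    · exact absurd (by omega : 19 ∣ c7) hX19
    · exact absurd (by omega : 19 ∣ c7) hX19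
    · exact absurd (by omega : 19 ∣ c7) hX19
    · exact absurd (by omega : 11 ∣ c7) hX11
    · exact ⟨by omega, rfl⟩
  obtain ⟨rfl, rfl⟩ := h7
  -- step 3: (CZ)
  obtain ⟨z, k, hz, hNz, hCz, hk⟩ :=
    exists_invol_of_card_centralizer (p := 7) (by norm_num) P7 hP7 (by rw [hc7])
  rw [hN7] at hCz
  have hz1 : z ≠ 1 := by
    intro h; rw [h, orderOf_one] at hz; omega
  have hdvd : 14 * 2 * k ∣ 35112 := by
    rw [← hCz, ← hn]; exact card_subgroup_dvd_card _
  have hk1254 : k ∣ 1254 := by
    have h28 : 28 * k ∣ 28 * 1254 := by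
      rw [show 28 * 1254 = 35112 by norm_num, show 28 * k = 14 * 2 * k by ring]
      exact hdvd
    exact Nat.dvd_of_mul_dvd_mul_left (by norm_num) h28
  have hkmem : k ∈ (List.range 1255).filter fun k => decide (k ∣ 1254) && decide (k % 7 = 1) := by
    rw [List.mem_filter, List.mem_range]
    refine ⟨Nat.lt_succ_of_le (Nat.le_of_dvd (by norm_num) hk1254), ?_⟩
    simp only [Bool.and_eq_true, decide_eq_true_eq]
    exact ⟨hk1254, hk⟩
  have hkl : ((List.range 1255).filter fun k => decide (k ∣ 1254) && decide (k % 7 = 1)) =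
      [1, 22, 57, 1254] := by decide +kernel
  rw [hkl] at hkmem
  simp only [List.mem_cons, List.not_mem_nil, or_false] at hkmem
  -- the Sylow 2-subgroup has order 8
  let S : Sylow 2 G := default
  have hS : Nat.card (S : Subgroup G) = 8 := by
    have := (sylow_card_and_index S (k := 3) (m := 4389) (by rw [hn]; norm_num) (by norm_num)).1
    simpa using this
  have h8 := eight_dvd_card_centralizer_invol hnc S hS z hz
  rw [hCz] at h8
  rcases hkmem with rfl | rfl | rfl | rfl
  · omega
  · exact no_616 hnc hn z hz (by rw [hCz])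
  · omega
  · apply centralizer_singleton_ne_top hnc z hz1
    rw [← card_eq_iff_eq_top, hCz, hn]

end Cfsg.Agent.Lib.H27.J1Ord
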