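import Mathlib
import Cfsg.Agent.Lib.H27.J1OrdNum
import Cfsg.Agent.Lib.H28.J1OrdTools

/-!
# S4274, piece O87780 (helper28's farm-out): no simple group of order `87780 = 2^2.3.5.7.11.19`
-/

set_option autoImplicit false
set_option maxHeartbeats 1000000

namespace Cfsg.Agent.Lib.H27.J1Ord

open Subgroup Cfsg.Agent.Lib.H5 Cfsg.Agent.Lib.H5.GenTests Cfsg.Agent.Lib.H28.J1Ord

variable {G : Type*} [Group G] [Finite G] [IsSimpleGroup G]

theorem ne_87780 : Nat.card G ≠ 87780 := by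
  intro hn
  have hnc : ¬ IsMulCommutative G :=
    not_isMulCommutative_of_card_not_prime (by rw [hn]; norm_num)
  haveI : Fact (Nat.Prime 19) := ⟨by norm_num⟩
  haveI : Fact (Nat.Prime 11) := ⟨by norm_num⟩
  haveI : Fact (Nat.Prime 7) := ⟨by norm_num⟩
  haveI : Fact (Nat.Prime 5) := ⟨by norm_num⟩
  haveI : Fact (Nat.Prime 3) := ⟨by norm_num⟩
  let P19 : Sylow 19 G := default
  let P11 : Sylow 11 G := default
  let P7 : Sylow 7 G := default
  let P5 : Sylow 5 G := default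
  obtain ⟨d19, e19, c19, hd19, hc19, hN19, hced19, hpc19, hP19, hmem19⟩ :=
    sylOpts_mem hnc (q := 19) (by norm_num) (by norm_num) hn (p := 19) (m := 4620) (by norm_num)
      (by norm_num) (by norm_num) (by norm_num) P19
  obtain ⟨d11, e11, c11, hd11, hc11, hN11, hced11, hpc11, hP11, hmem11⟩ :=
    sylOpts_mem hnc (q := 19) (by norm_num) (by norm_num) hn (p := 11) (m := 7980) (by norm_num)
      (by norm_num) (by norm_num) (by norm_num) P11
  obtain ⟨d7, e7, c7, hd7, hc7, hN7, hced7, hpc7, hP7, hmem7⟩ :=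
    sylOpts_mem hnc (q := 19) (by norm_num) (by norm_num) hn (p := 7) (m := 12540) (by norm_num)
      (by norm_num) (by norm_num) (by norm_num) P7
  obtain ⟨d5, e5, c5, hd5, hc5, hN5, hced5, hpc5, hP5, hmem5⟩ :=
    sylOpts_mem hnc (q := 19) (by norm_num) (by norm_num) hn (p := 5) (m := 17556) (by norm_num)
      (by norm_num) (by norm_num) (by norm_num) P5
  have hl19 : sylOpts 87780 19 4620 19 =
      [(20, 3), (77, 2), (77, 3), (77, 6), (210, 2), (1540, 3)] := by decide +kernel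
  have hl11 : sylOpts 87780 11 7980 19 =
      [(133, 2), (133, 5), (133, 10), (210, 2), (1596, 5)] := by decide +kernel
  have hl7 : sylOpts 87780 7 12540 19 =
      [(22, 2), (22, 3), (22, 6), (57, 2), (190, 2), (190, 3), (190, 6), (330, 2), (1254, 2),
        (4180, 3)] := by decide +kernel
  have hl5 : sylOpts 87780 5 17556 19 =
      [(21, 2), (21, 4), (66, 2), (231, 2), (231, 4), (266, 2), (2926, 2)] := by decide +kernel
  rw [hl19] at hmem19
  rw [hl11] at hmem11
  rw [hl7] at hmem7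
  rw [hl5] at hmem5
  simp only [List.mem_cons, Prod.mk.injEq, List.not_mem_nil, or_false] at hmem19 hmem11 hmem7 hmem5
  -- the orders of all Sylow subgroups
  have hS19 : ∀ Q : Sylow 19 G, Nat.card (Q : Subgroup G) = 19 := fun Q => by
    have := (sylow_card_and_index Q (k := 1) (m := 4620) (by rw [hn]; norm_num) (by norm_num)).1
    simpa using this
  have hS11 : ∀ Q : Sylow 11 G, Nat.card (Q : Subgroup G) = 11 := fun Q => by
    have := (sylow_card_and_index Q (k := 1) (m := 7980) (by rw [hn]; norm_num) (by norm_num)).1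
    simpa using this
  have hS7 : ∀ Q : Sylow 7 G, Nat.card (Q : Subgroup G) = 7 := fun Q => by
    have := (sylow_card_and_index Q (k := 1) (m := 12540) (by rw [hn]; norm_num) (by norm_num)).1
    simpa using this
  have hS5 : ∀ Q : Sylow 5 G, Nat.card (Q : Subgroup G) = 5 := fun Q => by
    have := (sylow_card_and_index Q (k := 1) (m := 17556) (by rw [hn]; norm_num) (by norm_num)).1
    simpa using this
  have ho19 := card_orderOf_eq_prime hS19
  have ho11 := card_orderOf_eq_prime hS11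
  have ho7 := card_orderOf_eq_prime hS7
  have ho5 := card_orderOf_eq_prime hS5
  rw [hd19] at ho19
  rw [hd11] at ho11
  rw [hd7] at ho7
  rw [hd5] at ho5
  -- (X)
  have X19_11 : 11 ∣ c19 → 19 ∣ c11 := fun h => by
    have := dvd_card_centralizer_symm P19 P11 hP11 (by rw [hc19]; exact h)
    rwa [hP19, hc11] at this
  have X19_5 : 5 ∣ c19 → 19 ∣ c5 := fun h => by
    have := dvd_card_centralizer_symm P19 P5 hP5 (by rw [hc19]; exact h)
    rwa [hP19, hc5] at this
  have X5_19 : 19 ∣ c5 → 5 ∣ c19 := fun h => by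
    have := dvd_card_centralizer_symm P5 P19 hP19 (by rw [hc5]; exact h)
    rwa [hP5, hc19] at this
  have X5_11 : 11 ∣ c5 → 5 ∣ c11 := fun h => by
    have := dvd_card_centralizer_symm P5 P11 hP11 (by rw [hc5]; exact h)
    rwa [hP5, hc11] at this
  have X7_19 : 19 ∣ c7 → 7 ∣ c19 := fun h => by
    have := dvd_card_centralizer_symm P7 P19 hP19 (by rw [hc7]; exact h)
    rwa [hP7, hc19] at this
  have X7_11 : 11 ∣ c7 → 7 ∣ c11 := fun h => by
    have := dvd_card_centralizer_symm P7 P11 hP11 (by rw [hc7]; exact h)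
    rwa [hP7, hc11] at this
  have X7_5 : 5 ∣ c7 → 7 ∣ c5 := fun h => by
    have := dvd_card_centralizer_symm P7 P5 hP5 (by rw [hc7]; exact h)
    rwa [hP7, hc5] at this
  have h7c11 : ¬ 7 ∣ c11 := by
    rcases hmem11 with ⟨rfl, rfl⟩ | ⟨rfl, rfl⟩ | ⟨rfl, rfl⟩ | ⟨rfl, rfl⟩ | ⟨rfl, rfl⟩ <;> omega
  -- case B
  have caseB : d19 = 77 → 5 ∣ c19 → False := by
    intro hd h5
    have h19 := X19_5 h5
    have hq2 : ¬ 19 ^ 2 ∣ Nat.card G := by rw [hn]; norm_num
    have hNS : ∀ v : ℕ, c5 = v → (∀ m : ℕ, m ∣ v / (5 * 19) → m % 19 = 1 → m = 1) →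
        ∃ k : ℕ, d5 = 77 * k ∧ k % 5 = 1 := by
      intro v hv hnum
      obtain ⟨k, hk, hk1⟩ := ns_numeric (p := 5) (q := 19) (by norm_num) P5 hP5 hq2
        (by rw [hc5]; exact h19) (by rw [hc5, hv]; exact hnum)
      rw [hd5, hd19, hd] at hk
      exact ⟨k, hk, hk1⟩
    rcases hmem5 with ⟨rfl, rfl⟩ | ⟨rfl, rfl⟩ | ⟨rfl, rfl⟩ | ⟨rfl, rfl⟩ | ⟨rfl, rfl⟩ |
      ⟨rfl, rfl⟩ | ⟨rfl, rfl⟩
    · obtain ⟨k, hk, hk1⟩ := hNS 2090 (by omega) (by
        intro m hm hm1
        norm_num at hm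
        have : m ≤ 22 := Nat.le_of_dvd (by norm_num) hm
        interval_cases m <;> omega)
      omega
    · obtain ⟨k, hk, hk1⟩ := hNS 1045 (by omega) (by
        intro m hm hm1
        norm_num at hm
        have : m ≤ 11 := Nat.le_of_dvd (by norm_num) hm
        interval_cases m <;> omega)
      omega
    · obtain ⟨k, hk, hk1⟩ := hNS 665 (by omega) (by
        intro m hm hm1
        norm_num at hm
        have : m ≤ 7 := Nat.le_of_dvd (by norm_num) hm
        interval_cases m <;> omega)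
      omega
    · obtain ⟨k, hk, hk1⟩ := hNS 190 (by omega) (by
        intro m hm hm1
        norm_num at hm
        have : m ≤ 2 := Nat.le_of_dvd (by norm_num) hm
        interval_cases m <;> omega)
      omega
    · obtain ⟨k, hk, hk1⟩ := hNS 95 (by omega) (by
        intro m hm hm1
        norm_num at hm
        exact hm)
      omega
    · omega
    · omega
  -- case C
  have caseC : d19 = 210 → c19 = 209 → False := by
    intro hd hc
    have h11 : d11 = 210 ∧ c11 = 209 := by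
      have h19 := X19_11 (by rw [hc]; norm_num)
      rcases hmem11 with ⟨rfl, rfl⟩ | ⟨rfl, rfl⟩ | ⟨rfl, rfl⟩ | ⟨rfl, rfl⟩ | ⟨rfl, rfl⟩ <;>
        first
          | exact ⟨rfl, by omega⟩
          | omega
    obtain ⟨hd11v, hc11v⟩ := h11
    have h5 : d5 = 2926 ∧ c5 = 15 := by
      have hn19 : ¬ 19 ∣ c5 := fun h => by have := X5_19 h; omega
      have hn11 : ¬ 11 ∣ c5 := fun h => by have := X5_11 h; omega
      rcases hmem5 with ⟨rfl, rfl⟩ | ⟨rfl, rfl⟩ | ⟨rfl, rfl⟩ | ⟨rfl, rfl⟩ | ⟨rfl, rfl⟩ |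
        ⟨rfl, rfl⟩ | ⟨rfl, rfl⟩ <;>
        first
          | exact ⟨rfl, by omega⟩
          | exact absurd (by omega : 19 ∣ c5) hn19
          | exact absurd (by omega : 11 ∣ c5) hn11
    obtain ⟨hd5v, hc5v⟩ := h5
    have h7 : d7 = 4180 := by
      have hn19 : ¬ 19 ∣ c7 := fun h => by have := X7_19 h; omega
      have hn11 : ¬ 11 ∣ c7 := fun h => by have := X7_11 h; omega
      have hn5 : ¬ 5 ∣ c7 := fun h => by have := X7_5 h; omega
      rcases hmem7 with ⟨rfl, rfl⟩ | ⟨rfl, rfl⟩ | ⟨rfl, rfl⟩ | ⟨rfl, rfl⟩ | ⟨rfl, rfl⟩ |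
        ⟨rfl, rfl⟩ | ⟨rfl, rfl⟩ | ⟨rfl, rfl⟩ | ⟨rfl, rfl⟩ | ⟨rfl, rfl⟩ <;>
        first
          | rfl
          | exact absurd (by omega : 19 ∣ c7) hn19
          | exact absurd (by omega : 11 ∣ c7) hn11
          | exact absurd (by omega : 5 ∣ c7) hn5
    have ho209 := card_orderOf_mul_ge (p := 19) (q := 11) (by norm_num) P19 hP19
      (by rw [hc19, hc]; norm_num)
    have ho15 := card_orderOf_mul_ge (p := 5) (q := 3) (by norm_num) P5 hP5
      (by rw [hc5, hc5v]; norm_num)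
    rw [hd19, hd] at ho209
    rw [hd5, hd5v] at ho15
    have hsum := sum_card_orderOf_le (G := G) [19, 11, 19 * 11, 5, 5 * 3, 7] (by decide)
    simp only [List.map_cons, List.map_nil, List.sum_cons, List.sum_nil] at hsum
    rw [hn, ho19, ho11, ho5, ho7, hd, hd11v, hd5v, h7] at hsum
    omega
  -- case D
  have caseD : d19 = 1540 → c19 = 19 → False := by
    intro hd hc
    have hn19_5 : ¬ 19 ∣ c5 := fun h => by have := X5_19 h; omega
    have hn19_7 : ¬ 19 ∣ c7 := fun h => by have := X7_19 h; omega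
    have h5 : (d5 = 2926 ∧ c5 = 15) ∨ (d5 = 266 ∧ c5 = 165) := by
      rcases hmem5 with ⟨rfl, rfl⟩ | ⟨rfl, rfl⟩ | ⟨rfl, rfl⟩ | ⟨rfl, rfl⟩ | ⟨rfl, rfl⟩ |
        ⟨rfl, rfl⟩ | ⟨rfl, rfl⟩ <;>
        first
          | exact Or.inl ⟨rfl, by omega⟩
          | exact Or.inr ⟨rfl, by omega⟩
          | exact absurd (by omega : 19 ∣ c5) hn19_5
    rcases h5 with ⟨hd5v, hc5v⟩ | ⟨hd5v, hc5v⟩
    · -- D1
      have h7 : d7 = 4180 := by
        have hn11 : ¬ 11 ∣ c7 := fun h => h7c11 (X7_11 h)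
        have hn5 : ¬ 5 ∣ c7 := fun h => by have := X7_5 h; omega
        rcases hmem7 with ⟨rfl, rfl⟩ | ⟨rfl, rfl⟩ | ⟨rfl, rfl⟩ | ⟨rfl, rfl⟩ | ⟨rfl, rfl⟩ |
          ⟨rfl, rfl⟩ | ⟨rfl, rfl⟩ | ⟨rfl, rfl⟩ | ⟨rfl, rfl⟩ | ⟨rfl, rfl⟩ <;>
          first
            | rfl
            | exact absurd (by omega : 19 ∣ c7) hn19_7
            | exact absurd (by omega : 11 ∣ c7) hn11
            | exact absurd (by omega : 5 ∣ c7) hn5
      have ho15 := card_orderOf_mul_ge (p := 5) (q := 3) (by norm_num) P5 hP5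
        (by rw [hc5, hc5v]; norm_num)
      rw [hd5, hd5v] at ho15
      have hsum := sum_card_orderOf_le (G := G) [19, 5, 5 * 3, 7] (by decide)
      simp only [List.map_cons, List.map_nil, List.sum_cons, List.sum_nil] at hsum
      rw [hn, ho19, ho5, ho7, hd, hd5v, h7] at hsum
      omega
    · -- D2
      obtain ⟨k, hk, hk1⟩ := ns_numeric (p := 5) (q := 11) (by norm_num) P5 hP5
        (by rw [hn]; norm_num) (by rw [hc5, hc5v]; norm_num) (by
          rw [hc5, hc5v]
          intro m hm hm1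
          norm_num at hm
          have : m ≤ 3 := Nat.le_of_dvd (by norm_num) hm
          interval_cases m <;> omega)
      rw [hd5, hd11, hd5v] at hk
      rcases hmem11 with ⟨rfl, rfl⟩ | ⟨rfl, rfl⟩ | ⟨rfl, rfl⟩ | ⟨rfl, rfl⟩ | ⟨rfl, rfl⟩ <;> omega
  -- the six options for the Sylow 19-subgroups
  rcases hmem19 with ⟨rfl, rfl⟩ | ⟨rfl, rfl⟩ | ⟨rfl, rfl⟩ | ⟨rfl, rfl⟩ | ⟨rfl, rfl⟩ | ⟨rfl, rfl⟩
  · -- case A
    have hc : c19 = 1463 := by omega
    obtain ⟨k, hk, hk1⟩ := ns_numeric (p := 19) (q := 11) (by norm_num) P19 hP19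
      (by rw [hn]; norm_num) (by rw [hc19, hc]; norm_num) (by
        rw [hc19, hc]
        intro m hm hm1
        norm_num at hm
        have : m ≤ 7 := Nat.le_of_dvd (by norm_num) hm
        interval_cases m <;> omega)
    rw [hd19, hd11] at hk
    rcases hmem11 with ⟨rfl, rfl⟩ | ⟨rfl, rfl⟩ | ⟨rfl, rfl⟩ | ⟨rfl, rfl⟩ | ⟨rfl, rfl⟩ <;> omega
  · exact caseB rfl (by omega)
  · exact caseB rfl (by omega)
  · exact caseB rfl (by omega)
  · exact caseC rfl (by omega)
  · exact caseD rfl (by omega)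

end Cfsg.Agent.Lib.H27.J1Ord
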