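/-
helper27 library: every automorphism of the Janko group `J₁` is inner.  Rigidity argument with a Frobenius
subgroup `11 : 10 = ⟨s, d⟩` and an involution `u` inverting `d`; the centralizers of `s` and `d` are bounded by
listed conjugacy classes (helper3's model of `GL₇(11)` and certificate format).
-/
import Mathlib
import Cfsg.Agent.Lib.H27.J1Cls
import Cfsg.Agent.Lib.H27.AutRigid3

set_option autoImplicit false
set_option maxRecDepth 100000

namespace Cfsg.Agent.Lib.H27.J1Out

open Cfsg.Agent.Lib.H3.DC Cfsg.Agent.Lib.H3 Cfsg.Agent.Lib.H3.J1 Cfsg.Spor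

/-- The element `s` of order 11. -/
def sJ : JJ := ⟨wp wS, wp_mem wS⟩
/-- The element `d` of order 10 with `d s d⁻¹ = s²`. -/
def dJ : JJ := ⟨wp wD, wp_mem wD⟩
/-- The involution `u` inverting `d`. -/
def uJ : JJ := ⟨wp wU, wp_mem wU⟩

theorem sJ_coe : (sJ : GG) = wp wS := rfl
theorem dJ_coe : (dJ : GG) = wp wD := rfl
theorem uJ_coe : (uJ : GG) = wp wU := rfl

/-! ### Relations, by evaluation of codes -/

theorem s_pow : wp wS ^ 11 = 1 := by
  apply ModP.model.code_inj
  rw [wp_pow, code_wp, ModP.model.code_one]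
  decide +kernel

theorem s_ne : wp wS ≠ 1 := by
  intro h
  have := congrArg ModP.model.code h
  rw [code_wp, ModP.model.code_one] at this
  revert this
  decide +kernel

theorem d_pow : wp wD ^ 10 = 1 := by
  apply ModP.model.code_inj
  rw [wp_pow, code_wp, ModP.model.code_one]
  decide +kernel

theorem d_pow5_ne : wp wD ^ 5 ≠ 1 := by
  intro h
  have := congrArg ModP.model.code h
  rw [wp_pow, code_wp, ModP.model.code_one] at this
  revert this
  decide +kernel

theorem d_pow2_ne : wp wD ^ 2 ≠ 1 := by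
  intro h
  have := congrArg ModP.model.code h
  rw [wp_pow, code_wp, ModP.model.code_one] at this
  revert this
  decide +kernel

theorem ds_rel : wp wD * wp wS = wp wS ^ 2 * wp wD := by
  apply ModP.model.code_inj
  simp only [wp_pow, ← wp_append]
  rw [code_wp, code_wp]
  decide +kernel

theorem ud_rel : wp wU * wp wD = wp wD ^ 9 * wp wU := by
  apply ModP.model.code_inj
  simp only [wp_pow, ← wp_append]
  rw [code_wp, code_wp]
  decide +kernel

theorem hs_rel : wp wD ^ 5 * wp wS = wp wS ^ 10 * wp wD ^ 5 := by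
  apply ModP.model.code_inj
  simp only [wp_pow, ← wp_append]
  rw [code_wp, code_wp]
  decide +kernel

theorem su_rel : (wp wS * wp wU) ^ 15 = 1 := by
  apply ModP.model.code_inj
  simp only [wp_pow, ← wp_append]
  rw [code_wp, ModP.model.code_one]
  decide +kernel

theorem su_ne (j : ℕ) (h1 : 1 ≤ j) (h2 : j < 10) : (wp wS * (wp wU * wp wD ^ j)) ^ 15 ≠ 1 := by
  intro h
  have := congrArg ModP.model.code h
  simp only [wp_pow, ← wp_append] at this
  rw [code_wp, ModP.model.code_one] at this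
  revert this
  interval_cases j <;> decide +kernel

theorem x_eq : (jankoX : GG) =
    wp wS ^ 10 * wp wU * wp wS ^ 10 * wp wD * wp wU * wp wS ^ 10 * wp wD := by
  have hx : ModP.model.code jankoX = xE := code_x
  apply ModP.model.code_inj
  rw [hx]
  simp only [wp_pow, ← wp_append]
  rw [code_wp]
  decide +kernel

theorem y_eq : (jankoY : GG) =
    wp wD * wp wS ^ 10 * wp wS ^ 10 * wp wU * wp wS * wp wU * wp wS * wp wU * wp wS * wp wD ^ 9 * wp wS := by
  have hy : ModP.model.code jankoY = yE := code_y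
  apply ModP.model.code_inj
  rw [hy]
  simp only [wp_pow, ← wp_append]
  rw [code_wp]
  decide +kernel

/-! ### The hypotheses of the rigidity theorem -/

theorem orderOf_sJ : orderOf sJ = 11 := by
  haveI : Fact (Nat.Prime 11) := ⟨by norm_num⟩
  apply orderOf_eq_prime
  · apply Subtype.ext
    rw [Subgroup.coe_pow, sJ_coe, s_pow, Subgroup.coe_one]
  · intro h
    have h1 := congrArg Subtype.val h
    rw [sJ_coe, Subgroup.coe_one] at h1
    exact s_ne h1

theorem orderOf_dJ : orderOf dJ = 10 := by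
  have hpow : dJ ^ 10 = 1 := by
    apply Subtype.ext
    rw [Subgroup.coe_pow, dJ_coe, d_pow, Subgroup.coe_one]
  have h5 : dJ ^ 5 ≠ 1 := by
    intro h
    apply d_pow5_ne
    have := congrArg Subtype.val h
    rwa [Subgroup.coe_pow, dJ_coe, Subgroup.coe_one] at this
  have h2 : dJ ^ 2 ≠ 1 := by
    intro h
    apply d_pow2_ne
    have := congrArg Subtype.val h
    rwa [Subgroup.coe_pow, dJ_coe, Subgroup.coe_one] at this
  apply orderOf_eq_of_pow_and_pow_div_prime (by norm_num) hpow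
  intro p hp hdvd
  have hp' : p = 2 ∨ p = 5 := by
    have hle : p ≤ 10 := Nat.le_of_dvd (by norm_num) hdvd
    interval_cases p <;> simp_all (config := {decide := true})
  rcases hp' with rfl | rfl
  · exact h5
  · exact h2

theorem hds : dJ * sJ * dJ⁻¹ = sJ ^ 2 := by
  rw [mul_inv_eq_iff_eq_mul]
  apply Subtype.ext
  simp only [Subgroup.coe_mul, Subgroup.coe_pow, sJ_coe, dJ_coe]
  exact ds_rel

theorem hud : uJ * dJ * uJ⁻¹ = dJ ^ 9 := by
  rw [mul_inv_eq_iff_eq_mul]
  apply Subtype.ext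
  simp only [Subgroup.coe_mul, Subgroup.coe_pow, uJ_coe, dJ_coe]
  exact ud_rel

theorem sJ_inv : sJ⁻¹ = sJ ^ 10 := by
  rw [inv_eq_iff_mul_eq_one, ← pow_succ']
  have := pow_orderOf_eq_one sJ
  rwa [orderOf_sJ] at this

theorem dJ_inv : dJ⁻¹ = dJ ^ 9 := by
  rw [inv_eq_iff_mul_eq_one, ← pow_succ']
  have := pow_orderOf_eq_one dJ
  rwa [orderOf_dJ] at this

theorem hhs : dJ ^ 5 * sJ * (dJ ^ 5)⁻¹ = sJ⁻¹ := by
  rw [mul_inv_eq_iff_eq_mul, sJ_inv]
  apply Subtype.ext
  simp only [Subgroup.coe_mul, Subgroup.coe_pow, sJ_coe, dJ_coe]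
  exact hs_rel

theorem hhd : dJ ^ 5 * dJ * (dJ ^ 5)⁻¹ = dJ := by
  rw [mul_inv_eq_iff_eq_mul, ← pow_succ, ← pow_succ']

theorem card_J : Nat.card JJ = 175560 := card_JJ

theorem hA1 (x : JJ) (hx : orderOf x = orderOf sJ) : ∃ k : JJ, k * x * k⁻¹ = sJ ∨ k * x * k⁻¹ = sJ⁻¹ := by
  refine AutRigid.conj_pm_of_sylow (p := 11) (a := 2) (by norm_num) ?_ orderOf_sJ hds ?_ x hx
  · rw [card_J]
    norm_num
  · intro i hi hi0
    interval_cases i
    · exact absurd rfl hi0
    · exact ⟨0, by decide⟩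
    · exact ⟨4, by decide⟩
    · exact ⟨2, by decide⟩
    · exact ⟨3, by decide⟩
    · exact ⟨1, by decide⟩
    · exact ⟨1, by decide⟩
    · exact ⟨3, by decide⟩
    · exact ⟨2, by decide⟩
    · exact ⟨4, by decide⟩
    · exact ⟨0, by decide⟩

theorem hA2 (c : JJ) (hc : c * sJ = sJ * c) : ∃ m : ℤ, c = sJ ^ m := by
  have h := AutRigid.mem_zpowers_of_card_centralizer_le sJ
    (by rw [orderOf_sJ]; exact card_centralizer_s) c hc
  obtain ⟨m, hm⟩ := Subgroup.mem_zpowers_iff.1 h
  exact ⟨m, hm.symm⟩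

theorem hA3 (c : JJ) (hc : c * dJ = dJ * c) : ∃ j < 10, c = dJ ^ j :=
  AutRigid.exists_pow_of_card_centralizer_le dJ 10 orderOf_dJ card_centralizer_d c hc

theorem hgen (ψ : MulAut JJ) (hs : ψ sJ = sJ) (hd : ψ dJ = dJ) (hu : ψ uJ = uJ) : ψ = 1 := by
  apply AutRigid.mulAut_closure_eq_one
  intro t ht ht'
  rcases ht with rfl | ht
  · have e : (⟨jankoX, ht'⟩ : JJ) = sJ ^ 10 * uJ * sJ ^ 10 * dJ * uJ * sJ ^ 10 * dJ := by
      apply Subtype.ext
      simp only [Subgroup.coe_mul, Subgroup.coe_pow, sJ_coe, dJ_coe, uJ_coe]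
      exact x_eq
    rw [e]
    simp only [map_mul, map_pow, hs, hd, hu]
  · rw [Set.mem_singleton_iff] at ht
    subst ht
    have e : (⟨jankoY, ht'⟩ : JJ) =
        dJ * sJ ^ 10 * sJ ^ 10 * uJ * sJ * uJ * sJ * uJ * sJ * dJ ^ 9 * sJ := by
      apply Subtype.ext
      simp only [Subgroup.coe_mul, Subgroup.coe_pow, sJ_coe, dJ_coe, uJ_coe]
      exact y_eq
    rw [e]
    simp only [map_mul, map_pow, hs, hd, hu]

/-- Every automorphism of `J₁` is inner. -/
theorem all_inner (φ : MulAut JJ) : ∃ g : JJ, φ = MulAut.conj g := by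
  refine AutRigid.inner_of_pin_inv sJ dJ uJ dJ (dJ ^ 5) 10 2 2 9 hgen hA1 hA2 hA3 hds rfl hud hhs hhd
    [([0, 2], 15)] ?_ ?_ φ
  · intro r hr
    rw [List.mem_singleton] at hr
    subst hr
    apply Subtype.ext
    simp only [AutRigid.evalPat, List.map_cons, List.map_nil, List.prod_cons, List.prod_nil, mul_one,
      List.getD_cons_zero, List.getD_cons_succ, Subgroup.coe_pow, Subgroup.coe_mul, sJ_coe, uJ_coe]
    exact su_rel
  · intro j hj h
    rcases Nat.eq_zero_or_pos j with rfl | hpos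
    · rw [pow_zero, mul_one]
    · exfalso
      have h1 := h ([0, 2], 15) (List.mem_singleton.2 rfl)
      apply su_ne j hpos hj
      have h2 := congrArg Subtype.val h1
      simp only [AutRigid.evalPat, List.map_cons, List.map_nil, List.prod_cons, List.prod_nil, mul_one,
        List.getD_cons_zero, List.getD_cons_succ, Subgroup.coe_pow, Subgroup.coe_mul, sJ_coe, uJ_coe,
        dJ_coe] at h2
      exact h2

end Cfsg.Agent.Lib.H27.J1Out
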