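import Mathlib
import Cfsg.Prelude.Def_CaseTheorems
import Cfsg.Prelude.Def_TwoFusion
import Cfsg.Agent.Lib.H24.JRXFER
import Cfsg.Agent.Lib.H16.JRCOMB

/-!
# S3206, piece COVER2 (architect helper16): assemble XFER + COMB

No perfect central extension with kernel of order `2` of a group whose Sylow `2`-subgroup `S` is elementary
abelian of order `8` with `N_G(S)` transitive on `S ∖ 1`.
-/

set_option autoImplicit false

namespace Cfsg.Agent.Lib.H27.JRCOVER2

theorem COVER2 {G : Type*} [Group G] [Finite G] (S : Sylow 2 G)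
    (hcard : Nat.card ↥(S : Subgroup G) = 8) (hexp : ∀ s ∈ (S : Subgroup G), s * s = 1)
    (htr : ∀ a ∈ (S : Subgroup G), ∀ b ∈ (S : Subgroup G), a ≠ 1 → b ≠ 1 →
      ∃ n ∈ Subgroup.normalizer ((S : Subgroup G) : Set G), n * a * n⁻¹ = b)
    {L : Type*} [Group L] [Finite L] (hperf : commutator L = ⊤) (f : L →* G)
    (hf : Function.Surjective f) (hkc : f.ker ≤ Subgroup.center L) (hk2 : Nat.card ↥f.ker = 2) :
    False := by
  -- the kernel is `{1, z}`
  obtain ⟨z', hz'1, hz'u⟩ := (Nat.card_eq_two_iff' (1 : f.ker)).mp hk2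
  obtain ⟨z, hzk⟩ := z'
  have hz1 : z ≠ 1 := by
    intro e
    exact hz'1 (Subtype.ext e)
  have hfz : f z = 1 := MonoidHom.mem_ker.mp hzk
  have hker : ∀ k : L, f k = 1 ↔ k = 1 ∨ k = z := by
    intro k
    constructor
    · intro hk
      by_cases hk1 : k = 1
      · exact Or.inl hk1
      · right
        have hkk : k ∈ f.ker := MonoidHom.mem_ker.mpr hk
        have := hz'u ⟨k, hkk⟩ (fun e => hk1 (congrArg Subtype.val e))
        exact congrArg Subtype.val this
    · rintro (rfl | rfl)
      · exact map_one f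
      · exact hfz
  have hcen : ∀ k : L, f k = 1 → ∀ x : L, k * x = x * k := by
    intro k hk x
    have hkc' : k ∈ Subgroup.center L := hkc (MonoidHom.mem_ker.mpr hk)
    exact ((Subgroup.mem_center_iff.mp hkc') x).symm
  have hzc : ∀ x : L, z * x = x * z := hcen z hfz
  have hsqk : ∀ k : L, f k = 1 → k * k = 1 := by
    intro k hk
    rcases (hker k).mp hk with rfl | rfl
    · exact mul_one 1
    · have h1 : f (k * k) = 1 := by rw [map_mul, hk, mul_one]
      rcases (hker _).mp h1 with h | h
      · exact h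
      · exfalso
        apply hz1
        calc k = k⁻¹ * (k * k) := by group
          _ = k⁻¹ * k := by rw [h]
          _ = 1 := inv_mul_cancel k
  -- squares are constant on the preimage of `S ∖ 1`
  have hsq : ∀ a b : L, f a ∈ (S : Subgroup G) → f b ∈ (S : Subgroup G) → f a ≠ 1 → f b ≠ 1 →
      a * a = b * b := by
    intro a b ha hb ha1 hb1
    obtain ⟨n, -, hn⟩ := htr (f a) ha (f b) hb ha1 hb1
    obtain ⟨m, rfl⟩ := hf n
    -- `m * a * m⁻¹ = k * b` with `k` in the kernel
    have hk : f (m * a * m⁻¹ * b⁻¹) = 1 := by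
      rw [map_mul, map_mul, map_mul, map_inv, map_inv, hn, mul_inv_cancel]
    obtain ⟨k, hkdef⟩ : ∃ k : L, k = m * a * m⁻¹ * b⁻¹ := ⟨_, rfl⟩
    rw [← hkdef] at hk
    have hmab : m * a * m⁻¹ = k * b := by rw [hkdef]; group
    have hkc' := hcen k hk
    have hkk := hsqk k hk
    -- `a * a` is central
    have haa : f (a * a) = 1 := by rw [map_mul]; exact hexp _ ha
    have haac := hcen (a * a) haa
    have e1 : m * (a * a) * m⁻¹ = a * a := by
      rw [← haac m, mul_assoc, mul_inv_cancel, mul_one]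
    have e2 : m * (a * a) * m⁻¹ = (m * a * m⁻¹) * (m * a * m⁻¹) := by group
    rw [← e1, e2, hmab]
    calc k * b * (k * b) = k * (b * k) * b := by group
      _ = k * (k * b) * b := by rw [hkc' b]
      _ = (k * k) * (b * b) := by group
      _ = b * b := by rw [hkk, one_mul]
  -- the transfer
  have hTodd : Odd ((S : Subgroup G).comap f).index := by
    rw [Subgroup.index_comap_of_surjective _ hf]
    have h := S.not_dvd_index
    exact Nat.odd_iff.mpr (Nat.two_dvd_ne_zero.mp h)
  have hzT : z ∈ ⁅(S : Subgroup G).comap f, (S : Subgroup G).comap f⁆ := by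
    refine Cfsg.Agent.Lib.H24.JRXFER.XFER hperf _ hTodd z (hkc hzk) ?_ (hsqk z hfz)
    rw [Subgroup.mem_comap, hfz]
    exact Subgroup.one_mem _
  exact Cfsg.Agent.Lib.H16.JRCOMB.COMB f hf (S : Subgroup G) (by rw [hcard]; norm_num) hexp z hz1 hker hzc
    hsq hzT

end Cfsg.Agent.Lib.H27.JRCOVER2
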