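import Mathlib
import Cfsg.Prelude.Def_CaseTheorems
import Cfsg.Prelude.Def_TwoFusion
import Cfsg.Agent.Lib.H5.PSL2KleinNorm

/-!
# S3206, piece PSL2F (architect helper16)

Facts on `PSL₂(F)`, `|F|` odd `> 3`, all `2`-subgroups abelian: trivial centre, trivial odd core, and a
self-centralizing Sylow `2`-subgroup of order `4` and exponent `2`.
-/

set_option autoImplicit false

namespace Cfsg.Agent.Lib.H27.JRPSL2F

theorem PSL2F {F : Type*} [Field F] [Fintype F] (hFo : Odd (Fintype.card F)) (hF3 : 3 < Fintype.card F)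
    (hab : ∀ Q : Subgroup (Matrix.ProjectiveSpecialLinearGroup (Fin 2) F), IsPGroup 2 ↥Q →
      ∀ a ∈ Q, ∀ b ∈ Q, a * b = b * a) :
    Subgroup.center (Matrix.ProjectiveSpecialLinearGroup (Fin 2) F) = ⊥ ∧
    Cfsg.pPrimeCore 2 (Matrix.ProjectiveSpecialLinearGroup (Fin 2) F) = ⊥ ∧
    ∃ P : Sylow 2 (Matrix.ProjectiveSpecialLinearGroup (Fin 2) F),
      Nat.card ↥(P : Subgroup (Matrix.ProjectiveSpecialLinearGroup (Fin 2) F)) = 4 ∧
      (∀ v ∈ (P : Subgroup (Matrix.ProjectiveSpecialLinearGroup (Fin 2) F)), v * v = 1) ∧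
      Subgroup.centralizer ((P : Subgroup (Matrix.ProjectiveSpecialLinearGroup (Fin 2) F)) :
        Set (Matrix.ProjectiveSpecialLinearGroup (Fin 2) F)) ≤
        (P : Subgroup (Matrix.ProjectiveSpecialLinearGroup (Fin 2) F)) := by
  classical
  have h2 : (2 : F) ≠ 0 := Cfsg.Agent.Lib.H12.two_ne_zero_of_odd hFo
  have hsimple : IsSimpleGroup (Matrix.ProjectiveSpecialLinearGroup (Fin 2) F) :=
    Matrix.ProjectiveSpecialLinearGroup.rank_two_simple (by rw [Nat.card_eq_fintype_card]; omega)
  obtain ⟨V, hV⟩ := Cfsg.Agent.Lib.H5.PSL2KleinNorm.exists_klein hFo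
  have hVcard : Nat.card V = 4 := hV.card_four
  have hVexp : ∀ v ∈ V, v * v = 1 := by
    intro v hv
    have h := Monoid.pow_exponent_eq_one (⟨v, hv⟩ : V)
    rw [hV.exponent_two, pow_two] at h
    exact congrArg Subtype.val h
  have hcen := Cfsg.Agent.Lib.H5.PSL2KleinNorm.centralizer_klein_le h2 V hV
  have h4 : 4 ∣ Nat.card (Matrix.ProjectiveSpecialLinearGroup (Fin 2) F) := by
    rw [← hVcard]
    exact Subgroup.card_subgroup_dvd_card V
  -- a normal subgroup of order prime to `2` is trivial
  have hodd : ∀ N : Subgroup (Matrix.ProjectiveSpecialLinearGroup (Fin 2) F), N.Normal →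
      (Nat.card N).Coprime 2 → N = ⊥ := by
    intro N hN hco
    rcases hN.eq_bot_or_eq_top with h | h
    · exact h
    · exfalso
      rw [h, Subgroup.card_top] at hco
      have h2' : 2 ∣ Nat.card (Matrix.ProjectiveSpecialLinearGroup (Fin 2) F) :=
        dvd_trans (by norm_num) h4
      have := Nat.Coprime.eq_one_of_dvd hco.symm h2'
      omega
  refine ⟨?_, ?_, ?_⟩
  · -- the centre
    rcases (inferInstance : (Subgroup.center (Matrix.ProjectiveSpecialLinearGroup (Fin 2) F)).Normal).eq_bot_or_eq_top
      with h | h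
    · exact h
    · exfalso
      -- then `V = ⊤`
      have hVtop : V = ⊤ := by
        rw [eq_top_iff]
        refine le_trans ?_ hcen
        intro g _
        rw [Subgroup.mem_centralizer_iff]
        intro v _
        have hg : g ∈ Subgroup.center (Matrix.ProjectiveSpecialLinearGroup (Fin 2) F) := by
          rw [h]; exact Subgroup.mem_top g
        exact (Subgroup.mem_center_iff.mp hg v)
      -- a subgroup of order `2` is normal, proper and nontrivial
      obtain ⟨v, hv1⟩ : ∃ v : V, v ≠ 1 := by
        have : Nontrivial V := by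
          rw [← Finite.one_lt_card_iff_nontrivial, hVcard]
          norm_num
        exact exists_ne 1
      have hvv : (v : Matrix.ProjectiveSpecialLinearGroup (Fin 2) F) *
          (v : Matrix.ProjectiveSpecialLinearGroup (Fin 2) F) = 1 := hVexp v v.2
      have hvne : (v : Matrix.ProjectiveSpecialLinearGroup (Fin 2) F) ≠ 1 := by
        intro e
        exact hv1 (Subtype.ext e)
      have hord : orderOf (v : Matrix.ProjectiveSpecialLinearGroup (Fin 2) F) = 2 :=
        orderOf_eq_prime (by rw [pow_two]; exact hvv) hvne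
      have hKn : (Subgroup.zpowers (v : Matrix.ProjectiveSpecialLinearGroup (Fin 2) F)).Normal := by
        refine ⟨fun x hx g => ?_⟩
        have hxc : x ∈ Subgroup.center (Matrix.ProjectiveSpecialLinearGroup (Fin 2) F) := by
          rw [h]; exact Subgroup.mem_top x
        have e : g * x * g⁻¹ = x := by
          rw [(Subgroup.mem_center_iff.mp hxc g), mul_assoc, mul_inv_cancel, mul_one]
        rw [e]
        exact hx
      rcases hKn.eq_bot_or_eq_top with hK | hK
      · exact hvne (Subgroup.zpowers_eq_bot.mp hK)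
      · have hc : Nat.card (Subgroup.zpowers (v : Matrix.ProjectiveSpecialLinearGroup (Fin 2) F)) = 2 := by
          rw [Nat.card_zpowers, hord]
        rw [hK, Subgroup.card_top] at hc
        rw [hc] at h4
        omega
  · -- the odd core
    unfold Cfsg.pPrimeCore
    rw [eq_bot_iff]
    apply sSup_le
    rintro N ⟨hN, hco⟩
    rw [hodd N hN hco]
  · -- the Sylow subgroup
    have hVp : IsPGroup 2 V := IsPGroup.of_card (n := 2) (by rw [hVcard]; norm_num)
    obtain ⟨P, hVP⟩ := hVp.exists_le_sylow
    have hPV : (P : Subgroup (Matrix.ProjectiveSpecialLinearGroup (Fin 2) F)) ≤ V := by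
      refine le_trans ?_ hcen
      intro g hg
      rw [Subgroup.mem_centralizer_iff]
      intro v hv
      exact hab P P.2 v (hVP hv) g hg
    have hPeq : (P : Subgroup (Matrix.ProjectiveSpecialLinearGroup (Fin 2) F)) = V := le_antisymm hPV hVP
    refine ⟨P, ?_, ?_, ?_⟩
    · rw [hPeq]; exact hVcard
    · rw [hPeq]; exact hVexp
    · rw [hPeq]; exact hcen

end Cfsg.Agent.Lib.H27.JRPSL2F
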