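/-
S3805 (architect helper7), piece **ALG1**: an integer vector of norm 3 is supported on three points with values ±1.
Exact statement of tools/blueprints/S3805_sigs.lean.
-/
import Mathlib

set_option autoImplicit false

namespace Cfsg.Agent.Lib.H27.K4

/-- ALG1.  An integer vector of norm 3 is supported on three points, with values `±1`. -/
theorem support_of_norm_three {I : Type*} [Fintype I] [DecidableEq I] (a : I → ℤ)
    (ha : ∑ i, a i ^ 2 = 3) :
    ∃ i1 i2 i3 : I, i1 ≠ i2 ∧ i1 ≠ i3 ∧ i2 ≠ i3 ∧ a i1 ^ 2 = 1 ∧ a i2 ^ 2 = 1 ∧ a i3 ^ 2 = 1 ∧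
      ∀ i, i ≠ i1 → i ≠ i2 → i ≠ i3 → a i = 0 := by
  classical
  have hnn : ∀ i, 0 ≤ a i ^ 2 := fun i => sq_nonneg _
  -- every entry has square ≤ 1 or ... first: each square ≤ 3, so ∈ {0, 1} (no integer with square 2 or 3)
  have hle : ∀ i, a i ^ 2 ≤ 3 := by
    intro i
    rw [← ha]
    exact Finset.single_le_sum (fun j _ => hnn j) (Finset.mem_univ i)
  have h01 : ∀ i, a i = 0 ∨ a i ^ 2 = 1 := by
    intro i
    have h1 := hle i
    have h2 : -1 ≤ a i := by nlinarith
    have h3 : a i ≤ 1 := by nlinarith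
    have : a i = -1 ∨ a i = 0 ∨ a i = 1 := by omega
    rcases this with h | h | h
    · right; rw [h]; norm_num
    · left; exact h
    · right; rw [h]; norm_num
  -- the support has exactly 3 elements
  set S : Finset I := Finset.univ.filter (fun i => a i ≠ 0) with hS
  have hsum : ∑ i, a i ^ 2 = ∑ i ∈ S, a i ^ 2 := by
    rw [hS, Finset.sum_filter]
    apply Finset.sum_congr rfl
    intro i _
    by_cases h : a i = 0
    · rw [if_neg (not_not.2 h), h]; norm_num
    · rw [if_pos h]
  have hsum1 : ∑ i ∈ S, a i ^ 2 = ∑ i ∈ S, (1 : ℤ) := by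
    apply Finset.sum_congr rfl
    intro i hi
    rw [hS, Finset.mem_filter] at hi
    rcases h01 i with h | h
    · exact absurd h hi.2
    · exact h
  rw [hsum, hsum1, Finset.sum_const, nsmul_eq_mul, mul_one] at ha
  have hcard : S.card = 3 := by exact_mod_cast ha
  obtain ⟨i1, i2, i3, h12, h13, h23, hSeq⟩ := Finset.card_eq_three.1 hcard
  have hmem : ∀ i, i ∈ S → a i ^ 2 = 1 := by
    intro i hi
    rw [hS, Finset.mem_filter] at hi
    rcases h01 i with h | h
    · exact absurd h hi.2
    · exact h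
  refine ⟨i1, i2, i3, h12, h13, h23, hmem i1 (by rw [hSeq]; simp), hmem i2 (by rw [hSeq]; simp),
    hmem i3 (by rw [hSeq]; simp), ?_⟩
  intro i hi1 hi2 hi3
  by_contra h
  have : i ∈ S := by rw [hS, Finset.mem_filter]; exact ⟨Finset.mem_univ i, h⟩
  rw [hSeq] at this
  simp at this
  rcases this with h | h | h
  · exact hi1 h
  · exact hi2 h
  · exact hi3 h

end Cfsg.Agent.Lib.H27.K4
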