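/-
S3805 (architect helper7), piece **ALG2** (`alg3`): the arithmetic of three characters.
Exact statement of tools/blueprints/S3805_sigs.lean.  Route: tau_k = a_k t_k, beta_k = a_k b_k, s_k = a_k u_k;
`alg3_core` enumerates the 42 integer cases, each closed by `linarith`.
-/
import Mathlib

set_option autoImplicit false

namespace Cfsg.Agent.Lib.H27.K4

set_option maxHeartbeats 4000000 in
theorem alg3_core (τ1 τ2 τ3 β1 β2 β3 : ℤ) (s1 s2 s3 κ : ℝ)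
    (hτ : τ1 + τ2 + τ3 = 3) (hττ : τ1 ^ 2 + τ2 ^ 2 + τ3 ^ 2 ≤ 8)
    (hβ : β1 + β2 + β3 = 1) (hβ1 : β1 ^ 2 ≤ 1) (hβ2 : β2 ^ 2 ≤ 1) (hβ3 : β3 ^ 2 ≤ 1)
    (E1 : ((τ1 : ℝ) - 3 * β1) ^ 2 * s1 + ((τ2 : ℝ) - 3 * β2) ^ 2 * s2 + ((τ3 : ℝ) - 3 * β3) ^ 2 * s3 = 0)
    (E2 : ((τ1 : ℝ) - 3) * (τ1 - 3 * β1) * s1 + ((τ2 : ℝ) - 3) * (τ2 - 3 * β2) * s2 +
      ((τ3 : ℝ) - 3) * (τ3 - 3 * β3) * s3 = 2 * κ / 3)
    (E3 : ((τ1 : ℝ) - 3) * τ1 * s1 + ((τ2 : ℝ) - 3) * τ2 * s2 + ((τ3 : ℝ) - 3) * τ3 * s3 = κ / 3)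
    (E4 : ((τ1 : ℝ) - 3 * β1) * τ1 * s1 + ((τ2 : ℝ) - 3 * β2) * τ2 * s2 + ((τ3 : ℝ) - 3 * β3) * τ3 * s3 = -κ / 3) :
    s1 = κ / 18 ∨ s1 = κ / 27 ∨ s2 = κ / 18 ∨ s2 = κ / 27 ∨ s3 = κ / 18 ∨ s3 = κ / 27 := by
  have b1l : -2 ≤ τ1 := by nlinarith [sq_nonneg τ2, sq_nonneg τ3]
  have b1u : τ1 ≤ 2 := by nlinarith [sq_nonneg τ2, sq_nonneg τ3]
  have b2l : -2 ≤ τ2 := by nlinarith [sq_nonneg τ1, sq_nonneg τ3]
  have b2u : τ2 ≤ 2 := by nlinarith [sq_nonneg τ1, sq_nonneg τ3]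
  have c1l : -1 ≤ β1 := by nlinarith
  have c1u : β1 ≤ 1 := by nlinarith
  have c2l : -1 ≤ β2 := by nlinarith
  have c2u : β2 ≤ 1 := by nlinarith
  have h3 : τ3 = 3 - τ1 - τ2 := by omega
  have h3' : β3 = 1 - β1 - β2 := by omega
  subst h3 h3'
  clear hτ hβ
  interval_cases τ1 <;> interval_cases τ2 <;> (try (exfalso; norm_num at hττ; done)) <;>
  interval_cases β1 <;> interval_cases β2 <;> (try (exfalso; norm_num at hβ3; done)) <;>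
  (norm_num at E1 E2 E3 E4) <;>
  first
  | (exfalso; linarith)
  | (left; linarith)
  | (right; left; linarith)
  | (right; right; left; linarith)
  | (right; right; right; left; linarith)
  | (right; right; right; right; left; linarith)
  | (right; right; right; right; right; linarith)

theorem pos_case (a : ℤ) (ha : a ^ 2 = 1) (u c : ℝ) (hu : 0 < u) (hc : 0 < c) (h : (a : ℝ) * u = c) :
    u = c := by
  have h1 : a = 1 ∨ a = -1 := by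
    have : (a - 1) * (a + 1) = 0 := by ring_nf; linarith
    rcases mul_eq_zero.1 this with h | h
    · left; linarith
    · right; linarith
  rcases h1 with rfl | rfl
  · simpa using h
  · push_cast at h
    linarith

/-- ALG2.  Three characters. -/
theorem alg3 (a1 a2 a3 t1 t2 t3 b1 b2 b3 : ℤ) (u1 u2 u3 κ : ℝ)
    (ha1 : a1 ^ 2 = 1) (ha2 : a2 ^ 2 = 1) (ha3 : a3 ^ 2 = 1)
    (hu1 : 0 < u1) (hu2 : 0 < u2) (hu3 : 0 < u3) (hκ : 0 < κ)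
    (hta : a1 * t1 + a2 * t2 + a3 * t3 = 3) (htt : t1 ^ 2 + t2 ^ 2 + t3 ^ 2 ≤ 8)
    (hab : a1 * b1 + a2 * b2 + a3 * b3 = 1)
    (hb1 : b1 ^ 2 ≤ 1) (hb2 : b2 ^ 2 ≤ 1) (hb3 : b3 ^ 2 ≤ 1)
    (E1 : (a1 : ℝ) * (t1 - 3 * b1) ^ 2 * u1 + a2 * (t2 - 3 * b2) ^ 2 * u2 +
      a3 * (t3 - 3 * b3) ^ 2 * u3 = 0)
    (E2 : (a1 : ℝ) * (t1 - 3 * a1) * (t1 - 3 * b1) * u1 + a2 * (t2 - 3 * a2) * (t2 - 3 * b2) * u2 +
      a3 * (t3 - 3 * a3) * (t3 - 3 * b3) * u3 = 2 * κ / 3)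
    (E3 : (a1 : ℝ) * (t1 - 3 * a1) * t1 * u1 + a2 * (t2 - 3 * a2) * t2 * u2 +
      a3 * (t3 - 3 * a3) * t3 * u3 = κ / 3)
    (E4 : (a1 : ℝ) * (t1 - 3 * b1) * t1 * u1 + a2 * (t2 - 3 * b2) * t2 * u2 +
      a3 * (t3 - 3 * b3) * t3 * u3 = -κ / 3) :
    u1 = κ / 18 ∨ u1 = κ / 27 ∨ u2 = κ / 18 ∨ u2 = κ / 27 ∨ u3 = κ / 18 ∨ u3 = κ / 27 := by
  have h1 : (a1 : ℝ) ^ 2 = 1 := by exact_mod_cast ha1
  have h2 : (a2 : ℝ) ^ 2 = 1 := by exact_mod_cast ha2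
  have h3 : (a3 : ℝ) ^ 2 = 1 := by exact_mod_cast ha3
  have sq1 : ∀ a x : ℤ, a ^ 2 = 1 → (a * x) ^ 2 = x ^ 2 := by
    intro a x ha
    rw [mul_pow, ha, one_mul]
  have hres := alg3_core (a1 * t1) (a2 * t2) (a3 * t3) (a1 * b1) (a2 * b2) (a3 * b3)
    ((a1 : ℝ) * u1) ((a2 : ℝ) * u2) ((a3 : ℝ) * u3) κ hta
    (by rw [sq1 a1 t1 ha1, sq1 a2 t2 ha2, sq1 a3 t3 ha3]; exact htt) hab
    (by rw [sq1 a1 b1 ha1]; exact hb1) (by rw [sq1 a2 b2 ha2]; exact hb2) (by rw [sq1 a3 b3 ha3]; exact hb3)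
    (by
      push_cast
      linear_combination E1 + (((t1 : ℝ) - 3 * b1) ^ 2 * a1 * u1) * h1 + (((t2 : ℝ) - 3 * b2) ^ 2 * a2 * u2) * h2 +
        (((t3 : ℝ) - 3 * b3) ^ 2 * a3 * u3) * h3)
    (by
      push_cast
      linear_combination E2 + (((t1 : ℝ) - 3 * b1) * u1 * a1 * t1) * h1 + (((t2 : ℝ) - 3 * b2) * u2 * a2 * t2) * h2 +
        (((t3 : ℝ) - 3 * b3) * u3 * a3 * t3) * h3)
    (by
      push_cast
      linear_combination E3 + ((t1 : ℝ) * u1 * a1 * t1) * h1 + ((t2 : ℝ) * u2 * a2 * t2) * h2 +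
        ((t3 : ℝ) * u3 * a3 * t3) * h3)
    (by
      push_cast
      linear_combination E4 + ((a1 : ℝ) * (t1 - 3 * b1) * t1 * u1) * h1 + ((a2 : ℝ) * (t2 - 3 * b2) * t2 * u2) * h2 +
        ((a3 : ℝ) * (t3 - 3 * b3) * t3 * u3) * h3)
  have hκ18 : 0 < κ / 18 := by positivity
  have hκ27 : 0 < κ / 27 := by positivity
  rcases hres with h | h | h | h | h | h
  · exact Or.inl (pos_case a1 ha1 u1 _ hu1 hκ18 h)
  · exact Or.inr (Or.inl (pos_case a1 ha1 u1 _ hu1 hκ27 h))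
  · exact Or.inr (Or.inr (Or.inl (pos_case a2 ha2 u2 _ hu2 hκ18 h)))
  · exact Or.inr (Or.inr (Or.inr (Or.inl (pos_case a2 ha2 u2 _ hu2 hκ27 h))))
  · exact Or.inr (Or.inr (Or.inr (Or.inr (Or.inl (pos_case a3 ha3 u3 _ hu3 hκ18 h)))))
  · exact Or.inr (Or.inr (Or.inr (Or.inr (Or.inr (pos_case a3 ha3 u3 _ hu3 hκ27 h)))))

end Cfsg.Agent.Lib.H27.K4
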