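/-
S3805 (architect helper7), piece **ALG** (`alg`): from the seven class equations to one degree `= |G|/18` or `|G|/27`.
Exact statement of tools/blueprints/S3805_sigs.lean.  On ALG1 (`support_of_norm_three`) and ALG2 (`alg3`).
-/
import Mathlib
import Cfsg.Agent.Lib.H27.K4ALG1
import Cfsg.Agent.Lib.H27.K4ALG2

set_option autoImplicit false

namespace Cfsg.Agent.Lib.H27.K4

/-- ALG. -/
theorem alg {I : Type*} [Fintype I] [DecidableEq I] (t a b : I → ℤ) (u : I → ℝ) (κ : ℝ)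
    (hκ : 0 < κ) (hu : ∀ i, 0 < u i) (i1 : I) (ht1 : t i1 = 1) (ha1 : a i1 = 0)
    (htt : ∑ i, t i ^ 2 = 9) (haa : ∑ i, a i ^ 2 = 3) (hbb : ∑ i, b i ^ 2 = 3)
    (hab : ∑ i, a i * b i = 1) (hta : ∑ i, t i * a i = 3)
    (e1 : ∑ i, ((t i - 3 * a i : ℤ) : ℝ) * ((t i - 3 * a i : ℤ) : ℝ) * ((t i - 3 * b i : ℤ) : ℝ) * u i = 0)
    (e2 : ∑ i, ((t i - 3 * b i : ℤ) : ℝ) * ((t i - 3 * b i : ℤ) : ℝ) * ((t i - 3 * a i : ℤ) : ℝ) * u i = 0)
    (e3 : ∑ i, ((t i - 3 * a i : ℤ) : ℝ) * ((t i - 3 * a i : ℤ) : ℝ) * ((t i : ℤ) : ℝ) * u i = 0)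
    (e4 : ∑ i, ((t i - 3 * b i : ℤ) : ℝ) * ((t i - 3 * b i : ℤ) : ℝ) * ((t i : ℤ) : ℝ) * u i = 0)
    (e5 : ∑ i, ((t i - 3 * a i : ℤ) : ℝ) * ((t i - 3 * b i : ℤ) : ℝ) * ((t i : ℤ) : ℝ) * u i = 2 * κ)
    (e6 : ∑ i, ((t i - 3 * a i : ℤ) : ℝ) * ((t i : ℤ) : ℝ) * ((t i : ℤ) : ℝ) * u i = κ)
    (e7 : ∑ i, ((t i - 3 * b i : ℤ) : ℝ) * ((t i : ℤ) : ℝ) * ((t i : ℤ) : ℝ) * u i = κ) :
    ∃ i, i ≠ i1 ∧ (u i = κ / 18 ∨ u i = κ / 27) := by
  classical
  obtain ⟨j1, j2, j3, h12, h13, h23, hj1, hj2, hj3, hoff⟩ := support_of_norm_three a haa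
  have hne1 : j1 ≠ i1 := fun h => by rw [h, ha1] at hj1; norm_num at hj1
  have hne2 : j2 ≠ i1 := fun h => by rw [h, ha1] at hj2; norm_num at hj2
  have hne3 : j3 ≠ i1 := fun h => by rw [h, ha1] at hj3; norm_num at hj3
  -- sums of functions vanishing off the support of `a`
  have keyR : ∀ f : I → ℝ, (∀ i, a i = 0 → f i = 0) → ∑ i, f i = f j1 + f j2 + f j3 := by
    intro f hf
    have hsub : ({j1, j2, j3} : Finset I) ⊆ Finset.univ := Finset.subset_univ _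
    rw [← Finset.sum_subset hsub]
    · rw [Finset.sum_insert (by simp [h12, h13]), Finset.sum_insert (by simp [h23]), Finset.sum_singleton]
      ring
    · intro i _ hi
      simp only [Finset.mem_insert, Finset.mem_singleton, not_or] at hi
      exact hf i (hoff i hi.1 hi.2.1 hi.2.2)
  have keyZ : ∀ f : I → ℤ, (∀ i, a i = 0 → f i = 0) → ∑ i, f i = f j1 + f j2 + f j3 := by
    intro f hf
    have hsub : ({j1, j2, j3} : Finset I) ⊆ Finset.univ := Finset.subset_univ _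
    rw [← Finset.sum_subset hsub]
    · rw [Finset.sum_insert (by simp [h12, h13]), Finset.sum_insert (by simp [h23]), Finset.sum_singleton]
      ring
    · intro i _ hi
      simp only [Finset.mem_insert, Finset.mem_singleton, not_or] at hi
      exact hf i (hoff i hi.1 hi.2.1 hi.2.2)
  -- the integer conditions
  have hta' : a j1 * t j1 + a j2 * t j2 + a j3 * t j3 = 3 := by
    have := keyZ (fun i => a i * t i) (fun i hi => by simp only [hi, zero_mul])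
    rw [← this, ← hta]
    exact Finset.sum_congr rfl (fun i _ => mul_comm _ _)
  have hab' : a j1 * b j1 + a j2 * b j2 + a j3 * b j3 = 1 := by
    have := keyZ (fun i => a i * b i) (fun i hi => by simp only [hi, zero_mul])
    rw [← this, ← hab]
  have htt' : t j1 ^ 2 + t j2 ^ 2 + t j3 ^ 2 ≤ 8 := by
    have hsub : ({i1, j1, j2, j3} : Finset I) ⊆ Finset.univ := Finset.subset_univ _
    have h := Finset.sum_le_sum_of_subset_of_nonneg (f := fun i => t i ^ 2) hsub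
      (fun i _ _ => sq_nonneg (t i))
    rw [Finset.sum_insert (by simp [Ne.symm hne1, Ne.symm hne2, Ne.symm hne3]),
      Finset.sum_insert (by simp [h12, h13]), Finset.sum_insert (by simp [h23]),
      Finset.sum_singleton, htt, ht1] at h
    linarith
  have hbsq : ∀ i, b i ^ 2 ≤ 1 := by
    intro i
    have h1 : b i ^ 2 ≤ 3 := by
      rw [← hbb]
      exact Finset.single_le_sum (f := fun j => b j ^ 2) (fun j _ => sq_nonneg (b j)) (Finset.mem_univ i)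
    have h2 : -1 ≤ b i := by nlinarith
    have h3 : b i ≤ 1 := by nlinarith
    nlinarith
  -- the four real equations
  have E1 : ∑ i, (a i : ℝ) * ((t i : ℝ) - 3 * (b i : ℝ)) ^ 2 * u i = 0 := by
    have h : ∑ i, (a i : ℝ) * ((t i : ℝ) - 3 * (b i : ℝ)) ^ 2 * u i =
        (-1 / 3) * (∑ i, ((t i - 3 * b i : ℤ) : ℝ) * ((t i - 3 * b i : ℤ) : ℝ) * ((t i - 3 * a i : ℤ) : ℝ) * u i -
          ∑ i, ((t i - 3 * b i : ℤ) : ℝ) * ((t i - 3 * b i : ℤ) : ℝ) * ((t i : ℤ) : ℝ) * u i) := by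
      rw [← Finset.sum_sub_distrib, Finset.mul_sum]
      apply Finset.sum_congr rfl
      intro i _
      push_cast
      ring
    rw [h, e2, e4]
    ring
  have E2 : ∑ i, (a i : ℝ) * ((t i : ℝ) - 3 * (a i : ℝ)) * ((t i : ℝ) - 3 * (b i : ℝ)) * u i = 2 * κ / 3 := by
    have h : ∑ i, (a i : ℝ) * ((t i : ℝ) - 3 * (a i : ℝ)) * ((t i : ℝ) - 3 * (b i : ℝ)) * u i =
        (-1 / 3) * (∑ i, ((t i - 3 * a i : ℤ) : ℝ) * ((t i - 3 * a i : ℤ) : ℝ) * ((t i - 3 * b i : ℤ) : ℝ) * u i -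
          ∑ i, ((t i - 3 * a i : ℤ) : ℝ) * ((t i - 3 * b i : ℤ) : ℝ) * ((t i : ℤ) : ℝ) * u i) := by
      rw [← Finset.sum_sub_distrib, Finset.mul_sum]
      apply Finset.sum_congr rfl
      intro i _
      push_cast
      ring
    rw [h, e1, e5]
    ring
  have E3 : ∑ i, (a i : ℝ) * ((t i : ℝ) - 3 * (a i : ℝ)) * (t i : ℝ) * u i = κ / 3 := by
    have h : ∑ i, (a i : ℝ) * ((t i : ℝ) - 3 * (a i : ℝ)) * (t i : ℝ) * u i =
        (-1 / 3) * (∑ i, ((t i - 3 * a i : ℤ) : ℝ) * ((t i - 3 * a i : ℤ) : ℝ) * ((t i : ℤ) : ℝ) * u i -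
          ∑ i, ((t i - 3 * a i : ℤ) : ℝ) * ((t i : ℤ) : ℝ) * ((t i : ℤ) : ℝ) * u i) := by
      rw [← Finset.sum_sub_distrib, Finset.mul_sum]
      apply Finset.sum_congr rfl
      intro i _
      push_cast
      ring
    rw [h, e3, e6]
    ring
  have E4 : ∑ i, (a i : ℝ) * ((t i : ℝ) - 3 * (b i : ℝ)) * (t i : ℝ) * u i = -κ / 3 := by
    have h : ∑ i, (a i : ℝ) * ((t i : ℝ) - 3 * (b i : ℝ)) * (t i : ℝ) * u i =
        (-1 / 3) * (∑ i, ((t i - 3 * a i : ℤ) : ℝ) * ((t i - 3 * b i : ℤ) : ℝ) * ((t i : ℤ) : ℝ) * u i -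
          ∑ i, ((t i - 3 * b i : ℤ) : ℝ) * ((t i : ℤ) : ℝ) * ((t i : ℤ) : ℝ) * u i) := by
      rw [← Finset.sum_sub_distrib, Finset.mul_sum]
      apply Finset.sum_congr rfl
      intro i _
      push_cast
      ring
    rw [h, e5, e7]
    ring
  rw [keyR _ (fun i hi => by simp only [hi, Int.cast_zero, zero_mul])] at E1 E2 E3 E4
  have hres := alg3 (a j1) (a j2) (a j3) (t j1) (t j2) (t j3) (b j1) (b j2) (b j3) (u j1) (u j2) (u j3) κ
    hj1 hj2 hj3 (hu j1) (hu j2) (hu j3) hκ hta' htt' hab' (hbsq j1) (hbsq j2) (hbsq j3) E1 E2 E3 E4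
  rcases hres with h | h | h | h | h | h
  · exact ⟨j1, hne1, Or.inl h⟩
  · exact ⟨j1, hne1, Or.inr h⟩
  · exact ⟨j2, hne2, Or.inl h⟩
  · exact ⟨j2, hne2, Or.inr h⟩
  · exact ⟨j3, hne3, Or.inl h⟩
  · exact ⟨j3, hne3, Or.inr h⟩

end Cfsg.Agent.Lib.H27.K4
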