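import Mathlib

/-!
# S4539 piece RED: reduction of positive definite integral binary quadratic forms

`exists_reduced`: a positive definite integral binary form `a x² + 2 b x y + c y²` is carried by a
unimodular change of variables to a form `α x² + 2 β x y + γ y²` with `0 ≤ 2 β ≤ α ≤ γ`.
(Architect of S4539: helper28; exact signature of `tools/blueprints/S4539_sigs.lean`.)
-/

set_option autoImplicit false

namespace Cfsg.Agent.Lib.H27.KB

/-- a minimal vector of a positive definite integral binary form -/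
theorem red_exists_min (a b c : ℤ)
    (hpos : ∀ x y : ℤ, (x ≠ 0 ∨ y ≠ 0) → 0 < a * x * x + 2 * b * x * y + c * y * y) :
    ∃ s u : ℤ, (s ≠ 0 ∨ u ≠ 0) ∧ ∀ x y : ℤ, (x ≠ 0 ∨ y ≠ 0) →
      a * s * s + 2 * b * s * u + c * u * u ≤ a * x * x + 2 * b * x * y + c * y * y := by
  classical
  let S : Set ℕ := {n | ∃ x y : ℤ, (x ≠ 0 ∨ y ≠ 0) ∧
    a * x * x + 2 * b * x * y + c * y * y = (n : ℤ)}
  have hS : S.Nonempty := by
    refine ⟨(a * 1 * 1 + 2 * b * 1 * 0 + c * 0 * 0).toNat, 1, 0, Or.inl one_ne_zero, ?_⟩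
    have := hpos 1 0 (Or.inl one_ne_zero)
    rw [Int.toNat_of_nonneg this.le]
  obtain ⟨s, u, hsu, hmin_eq⟩ := Nat.sInf_mem hS
  refine ⟨s, u, hsu, ?_⟩
  intro x y hxy
  have hp := hpos x y hxy
  have hm : (a * x * x + 2 * b * x * y + c * y * y).toNat ∈ S :=
    ⟨x, y, hxy, by rw [Int.toNat_of_nonneg hp.le]⟩
  have h1 : sInf S ≤ (a * x * x + 2 * b * x * y + c * y * y).toNat := Nat.sInf_le hm
  have h2 : ((sInf S : ℕ) : ℤ) ≤ ((a * x * x + 2 * b * x * y + c * y * y).toNat : ℤ) := by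
    exact_mod_cast h1
  rw [Int.toNat_of_nonneg hp.le] at h2
  rw [hmin_eq]
  exact h2

/-- a minimal vector is primitive -/
theorem red_gcd_eq_one (a b c : ℤ)
    (hpos : ∀ x y : ℤ, (x ≠ 0 ∨ y ≠ 0) → 0 < a * x * x + 2 * b * x * y + c * y * y)
    (s u : ℤ) (hsu : s ≠ 0 ∨ u ≠ 0)
    (hmin : ∀ x y : ℤ, (x ≠ 0 ∨ y ≠ 0) →
      a * s * s + 2 * b * s * u + c * u * u ≤ a * x * x + 2 * b * x * y + c * y * y) :
    Int.gcd s u = 1 := by
  by_contra hne
  have hg0 : Int.gcd s u ≠ 0 := by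
    intro h0
    rw [Int.gcd_eq_zero_iff] at h0
    rcases hsu with h | h
    · exact h h0.1
    · exact h h0.2
  have hg2 : (2 : ℤ) ≤ (Int.gcd s u : ℤ) := by
    have : 2 ≤ Int.gcd s u := by omega
    exact_mod_cast this
  obtain ⟨s', hs'⟩ := Int.gcd_dvd_left s u
  obtain ⟨u', hu'⟩ := Int.gcd_dvd_right s u
  set g : ℤ := (Int.gcd s u : ℤ) with hg
  have hsu' : s' ≠ 0 ∨ u' ≠ 0 := by
    rcases hsu with h | h
    · left
      intro h0
      apply h
      rw [hs', h0, mul_zero]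
    · right
      intro h0
      apply h
      rw [hu', h0, mul_zero]
  have hp' := hpos s' u' hsu'
  have hm := hmin s' u' hsu'
  have e : a * s * s + 2 * b * s * u + c * u * u =
      g * g * (a * s' * s' + 2 * b * s' * u' + c * u' * u') := by
    rw [hs', hu']
    ring
  rw [e] at hm
  have hgg : (4 : ℤ) ≤ g * g := by nlinarith
  nlinarith

theorem exists_reduced (a b c : ℤ)
    (hpos : ∀ x y : ℤ, (x ≠ 0 ∨ y ≠ 0) → 0 < a * x * x + 2 * b * x * y + c * y * y) :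
    ∃ s t u v : ℤ, (s * v - t * u = 1 ∨ s * v - t * u = -1) ∧
      0 < a * s * s + 2 * b * s * u + c * u * u ∧
      0 ≤ 2 * (a * s * t + b * (s * v + t * u) + c * u * v) ∧
      2 * (a * s * t + b * (s * v + t * u) + c * u * v) ≤ a * s * s + 2 * b * s * u + c * u * u ∧
      a * s * s + 2 * b * s * u + c * u * u ≤ a * t * t + 2 * b * t * v + c * v * v := by
  obtain ⟨s, u, hsu, hmin⟩ := red_exists_min a b c hpos
  have hg := red_gcd_eq_one a b c hpos s u hsu hmin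
  have hα := hpos s u hsu
  -- Bezout
  have hbez : (1 : ℤ) = s * Int.gcdA s u + u * Int.gcdB s u := by
    have := Int.gcd_eq_gcd_ab s u
    rw [hg] at this
    exact_mod_cast this
  obtain ⟨v0, hv0⟩ : ∃ v0 : ℤ, v0 = Int.gcdA s u := ⟨_, rfl⟩
  obtain ⟨t0, ht0⟩ : ∃ t0 : ℤ, t0 = - Int.gcdB s u := ⟨_, rfl⟩
  have hdet0 : s * v0 - t0 * u = 1 := by
    rw [ht0, hv0, hbez]; ring
  obtain ⟨α, hαdef⟩ : ∃ α : ℤ, α = a * s * s + 2 * b * s * u + c * u * u := ⟨_, rfl⟩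
  obtain ⟨β0, hβ0⟩ : ∃ β0 : ℤ, β0 = a * s * t0 + b * (s * v0 + t0 * u) + c * u * v0 := ⟨_, rfl⟩
  rw [← hαdef] at hα hmin
  -- division with remainder
  have h2α : (0 : ℤ) < 2 * α := by linarith
  obtain ⟨q, r, hdiv, hr0, hr1⟩ : ∃ q r : ℤ, 2 * α * q + r = 2 * β0 + α ∧ 0 ≤ r ∧ r < 2 * α :=
    ⟨(2 * β0 + α) / (2 * α), (2 * β0 + α) % (2 * α), Int.mul_ediv_add_emod _ _,
      Int.emod_nonneg _ h2α.ne', Int.emod_lt_of_pos _ h2α⟩
  obtain ⟨t1, ht1⟩ : ∃ t1 : ℤ, t1 = t0 - q * s := ⟨_, rfl⟩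
  obtain ⟨v1, hv1⟩ : ∃ v1 : ℤ, v1 = v0 - q * u := ⟨_, rfl⟩
  have hdet1 : s * v1 - t1 * u = 1 := by
    rw [ht1, hv1]
    linear_combination hdet0
  have hβ1 : 2 * (a * s * t1 + b * (s * v1 + t1 * u) + c * u * v1) = r - α := by
    have e : a * s * t1 + b * (s * v1 + t1 * u) + c * u * v1 = β0 - q * α := by
      rw [ht1, hv1, hβ0, hαdef]; ring
    rw [e]
    linear_combination (-1 : ℤ) * hdiv
  have hne1 : t1 ≠ 0 ∨ v1 ≠ 0 := by
    by_contra hcon
    push Not at hcon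
    rw [hcon.1, hcon.2] at hdet1
    simp at hdet1
  by_cases hsign : 0 ≤ r - α
  · refine ⟨s, t1, u, v1, Or.inl hdet1, ?_, ?_, ?_, ?_⟩
    · rw [← hαdef]; exact hα
    · rw [hβ1]; exact hsign
    · rw [hβ1, ← hαdef]; linarith
    · rw [← hαdef]; exact hmin t1 v1 hne1
  · push Not at hsign
    have hne2 : -t1 ≠ 0 ∨ -v1 ≠ 0 := by
      rcases hne1 with h | h
      · exact Or.inl (neg_ne_zero.mpr h)
      · exact Or.inr (neg_ne_zero.mpr h)
    have hβ2 : 2 * (a * s * (-t1) + b * (s * (-v1) + (-t1) * u) + c * u * (-v1)) = α - r := by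
      linear_combination (-1 : ℤ) * hβ1
    refine ⟨s, -t1, u, -v1, Or.inr ?_, ?_, ?_, ?_, ?_⟩
    · linear_combination (-1 : ℤ) * hdet1
    · rw [← hαdef]; exact hα
    · rw [hβ2]; linarith
    · rw [hβ2, ← hαdef]; linarith
    · rw [← hαdef]; exact hmin (-t1) (-v1) hne2

end Cfsg.Agent.Lib.H27.KB
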