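import Mathlib
import Cfsg.Prelude.Def_Blocks
import Cfsg.Agent.Lib.H24.CharOrth
import Cfsg.Agent.Lib.H23.BlockDefect
import Cfsg.Agent.Lib.H23.BlockNormalizer
import Cfsg.Agent.Lib.H23.BlockExtFirstMain
import Cfsg.Agent.Lib.H23.ContribM

/-!
helper27 library (S4640, piece (NV) of `tools/blueprints/S4640_sigs.lean`): non-vanishing on the major sections.
`B` a block with ABELIAN defect group `P`, `χ ∈ B`, `u ∈ P` ⟹ `χ (u s) ≠ 0` for some `p`-regular `s`.
Proof: `L = P C_G(P)`, a root `θ` of `B` in `L` with defect group `P` (helper23's extended first main theorem),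
`u` central in `L`, `ψ₀ ∈ B` of height zero; helper23's `contrib_ne_zero_of_height_zero` and the definition of `contrib`.
-/

set_option autoImplicit false

namespace Cfsg.Agent.Lib.H27.KK

open Cfsg Cfsg.Agent.Lib.H23 Cfsg.Agent.Lib.H24
open scoped ComplexConjugate

variable {G : Type*} [Group G] [Fintype G] {p : ℕ} [Fact p.Prime] {M : Ideal Cfsg.AlgInt}

omit [Fintype G] [Fact p.Prime] in
/-- a nonempty set of irreducible characters contains one of height zero -/
theorem exists_height_zero_nv (B : Set (Cfsg.IrrCharacter G)) (χ : Cfsg.IrrCharacter G) (hχ : χ ∈ B) :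
    ∃ ψ₀ ∈ B, Cfsg.blockHeight p B (ψ₀ : G → ℂ) = 0 := by
  have hne : ((fun ψ : Cfsg.IrrCharacter G =>
      (Cfsg.charDegree (ψ : G → ℂ)).factorization p) '' B).Nonempty := ⟨_, ⟨χ, hχ, rfl⟩⟩
  obtain ⟨ψ₀, hψ₀, h⟩ := Nat.sInf_mem hne
  refine ⟨ψ₀, hψ₀, ?_⟩
  unfold Cfsg.blockHeight
  rw [← h]
  exact Nat.sub_self _

/-- (NV) -/
theorem exists_apply_ne_zero (hM : Cfsg.IsPModular p M) (B : Set (Cfsg.IrrCharacter G))
    (hB : Cfsg.IsPBlock M B) (P : Subgroup G) (hPD : Cfsg.IsDefectGroup p M B P)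
    (hPab : ∀ x ∈ P, ∀ y ∈ P, x * y = y * x) (χ : Cfsg.IrrCharacter G) (hχ : χ ∈ B) (u : G)
    (hu : u ∈ P) : ∃ s : G, ¬ p ∣ orderOf s ∧ (χ : G → ℂ) (u * s) ≠ 0 := by
  classical
  have hp : p.Prime := Fact.out
  obtain ⟨χ₀, rfl⟩ := hB
  have hPN : P ≤ Subgroup.normalizer (P : Set G) := Subgroup.le_normalizer
  have hCN : Subgroup.centralizer (P : Set G) ≤ Subgroup.normalizer (P : Set G) :=
    Subgroup.centralizer_le_normalizer _
  have hPL : P ≤ P ⊔ Subgroup.centralizer (P : Set G) := le_sup_left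
  have hCL : Subgroup.centralizer (P : Set G) ≤ P ⊔ Subgroup.centralizer (P : Set G) := le_sup_right
  have hLN : P ⊔ Subgroup.centralizer (P : Set G) ≤ Subgroup.normalizer (P : Set G) :=
    sup_le hPN hCN
  have : Fintype ↥(P ⊔ Subgroup.centralizer (P : Set G)) := Fintype.ofFinite _
  have : Fintype ↥(Subgroup.normalizer (P : Set G)) := Fintype.ofFinite _
  have : Fintype ↥((P ⊔ Subgroup.centralizer (P : Set G)).subgroupOf
    (Subgroup.normalizer (P : Set G))) := Fintype.ofFinite _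
  have hn : ((P ⊔ Subgroup.centralizer (P : Set G)).subgroupOf
      (Subgroup.normalizer (P : Set G))).Normal := by
    rw [Subgroup.subgroupOf_sup hPN hCN]
    have h1 : (P.subgroupOf (Subgroup.normalizer (P : Set G))).Normal :=
      Subgroup.normal_subgroupOf_of_le_normalizer le_rfl
    have h2 : ((Subgroup.centralizer (P : Set G)).subgroupOf
        (Subgroup.normalizer (P : Set G))).Normal :=
      Subgroup.normal_subgroupOf_centralizer_normalizer _
    exact Subgroup.sup_normal _ _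
  obtain ⟨θ, hθD, hind⟩ := exists_root P (P ⊔ Subgroup.centralizer (P : Set G))
    (Subgroup.normalizer (P : Set G)) hM rfl hPL hCL hLN χ₀ hPD
  -- equal defects
  have hdef : Cfsg.blockDefect p (Cfsg.blockOf M (θ : ↥(P ⊔ Subgroup.centralizer (P : Set G)) → ℂ))
      = Cfsg.blockDefect p (Cfsg.blockOf M (χ₀ : G → ℂ)) := by
    have h1 := card_defectGroup hM θ _ hθD
    have h2 := card_defectGroup hM χ₀ P hPD
    have h3 : Nat.card ↥(P.subgroupOf (P ⊔ Subgroup.centralizer (P : Set G))) = Nat.card P :=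
      Nat.card_congr (Subgroup.subgroupOfEquivOfLe hPL).toEquiv
    rw [h3, h2] at h1
    exact (Nat.pow_right_injective hp.two_le h1).symm
  -- the central element
  have hLc : P ⊔ Subgroup.centralizer (P : Set G) ≤ Subgroup.centralizer ({u} : Set G) := by
    refine sup_le ?_ ?_
    · intro x hx
      rw [Subgroup.mem_centralizer_iff]
      intro y hy
      rw [Set.mem_singleton_iff] at hy
      subst hy
      exact hPab y hu x hx
    · intro c hc
      rw [Subgroup.mem_centralizer_iff]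
      intro y hy
      rw [Set.mem_singleton_iff] at hy
      subst hy
      exact (Subgroup.mem_centralizer_iff.1 hc y hu)
  have hzc : (⟨u, hPL hu⟩ : ↥(P ⊔ Subgroup.centralizer (P : Set G))) ∈
      Subgroup.center ↥(P ⊔ Subgroup.centralizer (P : Set G)) := by
    rw [Subgroup.mem_center_iff]
    intro l
    have h := Subgroup.mem_centralizer_iff.1 (hLc l.2) u rfl
    apply Subtype.ext
    exact h.symm
  have hz : ∃ k : ℕ, orderOf (⟨u, hPL hu⟩ : ↥(P ⊔ Subgroup.centralizer (P : Set G))) = p ^ k := by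
    have hPp : IsPGroup p P := isPGroup_of_isDefectGroup hPD
    obtain ⟨k, hk⟩ := IsPGroup.iff_orderOf.1 hPp ⟨u, hu⟩
    refine ⟨k, ?_⟩
    rw [← hk, ← Subgroup.orderOf_coe, ← Subgroup.orderOf_coe]
  obtain ⟨ψ₀, hψ₀, h0⟩ := exists_height_zero_nv (p := p) (Cfsg.blockOf M (χ₀ : G → ℂ)) χ hχ
  have : Fintype (Cfsg.IrrCharacter ↥(P ⊔ Subgroup.centralizer (P : Set G))) := Fintype.ofFinite _
  have : Fintype (Cfsg.IrrCharacter G) := Fintype.ofFinite _
  have hne := Contrib.contrib_ne_zero_of_height_zero (P ⊔ Subgroup.centralizer (P : Set G)) θ hM hind hdef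
    hzc hz hψ₀ h0 hχ
  unfold Contrib.contrib at hne
  have hsum := right_ne_zero_of_mul hne
  obtain ⟨s, -, hs⟩ := Finset.exists_ne_zero_of_sum_ne_zero hsum
  by_cases hps : p ∣ orderOf s
  · rw [if_pos hps] at hs
    exact absurd rfl hs
  · rw [if_neg hps] at hs
    refine ⟨(s : G), ?_, ?_⟩
    · rwa [Subgroup.orderOf_coe]
    · have h2 := right_ne_zero_of_mul hs
      intro h3
      apply h2
      have h4 : (((⟨u, hPL hu⟩ : ↥(P ⊔ Subgroup.centralizer (P : Set G))) * s :
          ↥(P ⊔ Subgroup.centralizer (P : Set G))) : G) = u * (s : G) := rfl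
      rw [h4, h3, map_zero]

end Cfsg.Agent.Lib.H27.KK
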