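import Mathlib
import Cfsg.Agent.Lib.H24.CoprimeAbove
import Cfsg.Agent.Lib.H24.CharKer
import Cfsg.Agent.Lib.H23.DegreeDvd
import Cfsg.Agent.Lib.L0.CharIndChar
import Cfsg.Agent.Lib.L0.CharDegree
import Cfsg.Agent.Lib.H20.KPPDefs

/-!
# S4591 pieces D1 and SYLP (cores): with PPC and RESK as hypotheses.
-/

set_option autoImplicit false

namespace Cfsg.Agent.Lib.H27.KPP

open Cfsg Cfsg.Agent.Lib.L0 Cfsg.Agent.Lib.H23 Cfsg.Agent.Lib.H24 Cfsg.Agent.Lib.H20.KPP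
open scoped ComplexConjugate

variable {G : Type*} [Group G] [Fintype G] (p : ℕ) [hp : Fact p.Prime]

/-- D1 from PPC -/
theorem exists_pprime_over_linear_aux
    (hPPC : ∀ (ψ : G → ℂ), IsCharacter G ψ → ∀ d : ℕ, ψ 1 = d → ¬ p ∣ d →
      ∃ χ : IrrCharacter G, ¬ p ∣ charDegree (χ : G → ℂ) ∧ classInner ψ (χ : G → ℂ) ≠ 0)
    (P : Sylow p G) [Fintype ↥(P : Subgroup G)]
    (lam : ↥(P : Subgroup G) → ℂ) (hlam : IsIrrCharacter ↥(P : Subgroup G) lam) (h1 : lam 1 = 1) :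
    ∃ χ : IrrCharacter G, ¬ p ∣ charDegree (χ : G → ℂ) ∧
      classInner (fun x : ↥(P : Subgroup G) => (χ : G → ℂ) x) lam ≠ 0 := by
  have hψ : IsCharacter G (indFun (P : Subgroup G) lam) :=
    isCharacter_indFun (P : Subgroup G) (isCharacter_of_irr hlam)
  have hdeg : indFun (P : Subgroup G) lam 1 = ((P : Subgroup G).index : ℂ) := by
    rw [indFun_apply_one, h1, mul_one]
  have hnd : ¬ p ∣ (P : Subgroup G).index := P.not_dvd_index
  obtain ⟨χ, hχd, hχ⟩ := hPPC _ hψ _ hdeg hnd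
  refine ⟨χ, hχd, ?_⟩
  rw [frobenius_reciprocity (P : Subgroup G) lam _
    (isClassFunction_of_isCharacter (isCharacter_of_irr χ.2))] at hχ
  rw [← classInner_conj_symm]
  intro h0
  apply hχ
  have := congrArg conj h0
  rwa [Complex.conj_conj, map_zero] at this

/-- SYLP from D1 and RESK -/
theorem kerPP_inf_sylow_le_aux
    (hD1 : ∀ (P : Sylow p G) [Fintype ↥(P : Subgroup G)] (lam : ↥(P : Subgroup G) → ℂ),
      IsIrrCharacter ↥(P : Subgroup G) lam → lam 1 = 1 →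
      ∃ χ : IrrCharacter G, ¬ p ∣ charDegree (χ : G → ℂ) ∧
        classInner (fun x : ↥(P : Subgroup G) => (χ : G → ℂ) x) lam ≠ 0)
    (hRESK : ∀ (H : Subgroup G) [Fintype H] (χ : G → ℂ), IsCharacter G χ →
      ∀ (μ : H → ℂ), IsIrrCharacter H μ → classInner (fun x : H => χ x) μ ≠ 0 →
      ∀ x : H, χ x = χ 1 → μ x = μ 1)
    (P : Sylow p G) :
    kerPP p ⊓ (P : Subgroup G) ≤ ⁅(P : Subgroup G), (P : Subgroup G)⁆ := by
  classical
  intro x hx
  obtain ⟨hxK, hxP⟩ := hx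
  by_contra hnot
  rw [← Subgroup.map_subtype_commutator] at hnot
  have hm : (⟨x, hxP⟩ : ↥(P : Subgroup G)) ∉ commutator ↥(P : Subgroup G) := by
    intro hin
    exact hnot ⟨⟨x, hxP⟩, hin, rfl⟩
  obtain ⟨μ, -, hμx⟩ := exists_hom_ne_one_of_not_mem (commutator ↥(P : Subgroup G)) le_rfl hm
  have hlam : IsIrrCharacter ↥(P : Subgroup G) (fun g => (μ g : ℂ)) := isIrrCharacter_of_hom μ
  have h1 : (fun g : ↥(P : Subgroup G) => (μ g : ℂ)) 1 = 1 := by simp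
  obtain ⟨χ, hχd, hcon⟩ := hD1 P _ hlam h1
  have hχx : (χ : G → ℂ) x = (χ : G → ℂ) 1 := (mem_kerPP p x).mp hxK χ hχd
  have := hRESK (P : Subgroup G) (χ : G → ℂ) (isCharacter_of_irr χ.2) _ hlam hcon ⟨x, hxP⟩ hχx
  simp only [map_one, Units.val_one] at this
  exact hμx (Units.ext this)

end Cfsg.Agent.Lib.H27.KPP
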