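import Mathlib
import Cfsg.Agent.Lib.H14.KPPPPC
import Cfsg.Agent.Lib.H27.KPPSYLPa

/-!
# S4591 piece D1: every linear character of `P` lies under a `p'`-degree irreducible character of `G`
(on PPC by helper14).
-/

set_option autoImplicit false

namespace Cfsg.Agent.Lib.H27.KPP

open Cfsg Cfsg.Agent.Lib.L0 Cfsg.Agent.Lib.H23 Cfsg.Agent.Lib.H24 Cfsg.Agent.Lib.H20.KPP

variable {G : Type*} [Group G] [Fintype G] (p : ℕ) [hp : Fact p.Prime]

/-- D1: every linear character of `P` lies under some `χ ∈ Irr(G)` of `p'`-degree. -/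
theorem exists_pprime_over_linear (P : Sylow p G) [Fintype ↥(P : Subgroup G)]
    (lam : ↥(P : Subgroup G) → ℂ) (hlam : IsIrrCharacter ↥(P : Subgroup G) lam) (h1 : lam 1 = 1) :
    ∃ χ : IrrCharacter G, ¬ p ∣ charDegree (χ : G → ℂ) ∧
      classInner (fun x : ↥(P : Subgroup G) => (χ : G → ℂ) x) lam ≠ 0 :=
  exists_pprime_over_linear_aux p
    (fun ψ hψ d hd hpd => Cfsg.Agent.Lib.H14.KPP.exists_pprime_constituent p ψ hψ d hd hpd)
    P lam hlam h1

end Cfsg.Agent.Lib.H27.KPP
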