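import Mathlib
import Cfsg.Agent.Lib.H14.KPPRESK
import Cfsg.Agent.Lib.H27.KPPD1

/-!
# S4591 piece SYLP: `kerPP p ⊓ P ≤ P'` (on D1, and RESK by helper14).
-/

set_option autoImplicit false

namespace Cfsg.Agent.Lib.H27.KPP

open Cfsg Cfsg.Agent.Lib.L0 Cfsg.Agent.Lib.H23 Cfsg.Agent.Lib.H24 Cfsg.Agent.Lib.H20.KPP

variable {G : Type*} [Group G] [Fintype G] (p : ℕ) [hp : Fact p.Prime]

/-- SYLP = D1 + RESK + separation of `P/P'` by linear characters. -/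
theorem kerPP_inf_sylow_le (P : Sylow p G) :
    kerPP p ⊓ (P : Subgroup G) ≤ ⁅(P : Subgroup G), (P : Subgroup G)⁆ :=
  kerPP_inf_sylow_le_aux p
    (fun P _ lam hlam h1 => exists_pprime_over_linear p P lam hlam h1)
    (fun H _ χ hχ μ hμ hcon x hx =>
      Cfsg.Agent.Lib.H14.KPP.constituent_apply_eq H χ hχ μ hμ hcon x hx)
    P

end Cfsg.Agent.Lib.H27.KPP
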