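import Mathlib
import Cfsg.Agent.Lib.H23.FullyRamified
import Cfsg.Agent.Lib.H24.CharBasic
import Cfsg.Agent.Lib.H20.KPPDefs

/-!
# S4591 piece TRIV: a normal subgroup on which `χ` has the trivial constituent lies in the kernel.
-/

set_option autoImplicit false

namespace Cfsg.Agent.Lib.H27.KPP

open Cfsg Cfsg.Agent.Lib.L0 Cfsg.Agent.Lib.H23 Cfsg.Agent.Lib.H24 Cfsg.Agent.Lib.H20.KPP

variable {G : Type*} [Group G] [Fintype G] (p : ℕ) [hp : Fact p.Prime]

/-- TRIV: a normal subgroup on which the irreducible `χ` has the trivial constituent is in the kernel. -/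
theorem eq_of_trivial_constituent (L : Subgroup G) [L.Normal] [Fintype L] (χ : G → ℂ)
    (hχ : IsIrrCharacter G χ)
    (h : classInner (fun n : L => χ n) (fun _ : L => (1 : ℂ)) ≠ 0) : ∀ x ∈ L, χ x = χ 1 := by
  intro x hx
  have h1 := Cfsg.Agent.Lib.H23.restrict_eq_smul_of_invariant L χ hχ (fun _ => 1)
    Cfsg.Agent.Lib.H24.isIrrCharacter_one h (fun _ _ => rfl)
  have hx' := congrFun h1 ⟨x, hx⟩
  have h1' := congrFun h1 ⟨1, L.one_mem⟩
  simp only [Pi.smul_apply, smul_eq_mul, mul_one] at hx' h1'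
  rw [hx', h1']

end Cfsg.Agent.Lib.H27.KPP
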