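import Cfsg.Agent.Lib.H27.AbstractCross

/-!
# S0406, piece LC-FRAME: a frame of 24 mutually orthogonal vectors of norm 8, congruent modulo 2 (helper27)
-/

set_option autoImplicit false

namespace Cfsg.Agent.Lib.H27.LC

open Matrix Cfsg.Agent.Lib.H27.AbstractCross

/-- positivity for the lexicographic order: used to pick one vector of each pair `±y` -/
def LexPos (y : Fin 24 → ℤ) : Prop := (0 : Lex (Fin 24 → ℤ)) < toLex y

theorem lexPos_or {y : Fin 24 → ℤ} (hy : y ≠ 0) : LexPos y ∨ LexPos (-y) := by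
  unfold LexPos
  rcases lt_trichotomy (0 : Lex (Fin 24 → ℤ)) (toLex y) with h | h | h
  · exact Or.inl h
  · exfalso
    apply hy
    have h' : toLex y = toLex (0 : Fin 24 → ℤ) := h.symm
    exact toLex.injective h'
  · right
    have e : toLex (-y) = - toLex y := rfl
    rw [e]
    exact neg_pos.mpr h

theorem not_lexPos_neg {y : Fin 24 → ℤ} (h : LexPos y) : ¬ LexPos (-y) := by
  unfold LexPos at *
  have e : toLex (-y) = - toLex y := rfl
  rw [e, neg_pos]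
  exact not_lt.mpr h.le

theorem exists_frame (B : Matrix (Fin 24) (Fin 24) ℤ) (hsymm : B.IsSymm)
    (hpos : ∀ x : Fin 24 → ℤ, x ≠ 0 → 0 < x ⬝ᵥ (B *ᵥ x))
    (heven : ∀ x : Fin 24 → ℤ, (2 : ℤ) ∣ x ⬝ᵥ (B *ᵥ x)) (h2 : ∀ x : Fin 24 → ℤ, x ⬝ᵥ (B *ᵥ x) ≠ 2)
    (h4 : {x : Fin 24 → ℤ | x ⬝ᵥ (B *ᵥ x) = 4}.ncard = 196560)
    (h6 : {x : Fin 24 → ℤ | x ⬝ᵥ (B *ᵥ x) = 6}.ncard = 16773120)
    (h8 : {x : Fin 24 → ℤ | x ⬝ᵥ (B *ᵥ x) = 8}.ncard = 398034000) :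
    ∃ X : Fin 24 → (Fin 24 → ℤ), (∀ i, X i ⬝ᵥ (B *ᵥ X i) = 8) ∧
      (∀ i j, i ≠ j → X i ⬝ᵥ (B *ᵥ X j) = 0) ∧ ∀ i j k, (2 : ℤ) ∣ (X i - X j) k := by
  classical
  have hne : {x : Fin 24 → ℤ | x ⬝ᵥ (B *ᵥ x) = 8}.Nonempty := by
    apply Set.nonempty_of_ncard_ne_zero
    rw [h8]; norm_num
  obtain ⟨x₀, hx₀⟩ := hne
  have hx₀' : x₀ ⬝ᵥ (B *ᵥ x₀) = 8 := hx₀
  set S : Set (Fin 24 → ℤ) := {y | y ⬝ᵥ (B *ᵥ y) = 8 ∧ ∀ i, (2 : ℤ) ∣ (x₀ - y) i} with hS
  have hS48 : S.ncard = 48 := ncard_cross B hsymm hpos heven h2 h4 h6 h8 x₀ hx₀'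
  have hSfin : S.Finite := Set.finite_of_ncard_ne_zero (by rw [hS48]; norm_num)
  have hneg : ∀ y ∈ S, -y ∈ S := by
    rintro y ⟨hy, hc⟩
    refine ⟨?_, fun i => ?_⟩
    · have := qneg B y
      unfold q at this
      rw [this]; exact hy
    · have := hc i
      simp only [Pi.sub_apply, Pi.neg_apply] at *
      omega
  have hS0 : ∀ y ∈ S, y ≠ 0 := by
    rintro y ⟨hy, _⟩ rfl
    simp at hy
  set Sp : Set (Fin 24 → ℤ) := {y | y ∈ S ∧ LexPos y} with hSp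
  set Sn : Set (Fin 24 → ℤ) := {y | y ∈ S ∧ ¬ LexPos y} with hSn
  have hunion : S = Sp ∪ Sn := by
    ext y
    simp only [hSp, hSn, Set.mem_union, Set.mem_setOf_eq]
    tauto
  have hdisj : Disjoint Sp Sn := by
    rw [Set.disjoint_left]
    rintro y ⟨_, h1⟩ ⟨_, h2'⟩
    exact h2' h1
  have hSpfin : Sp.Finite := hSfin.subset (by rw [hunion]; exact Set.subset_union_left)
  have hSnfin : Sn.Finite := hSfin.subset (by rw [hunion]; exact Set.subset_union_right)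
  have himg : Sn = (fun y : Fin 24 → ℤ => -y) '' Sp := by
    ext y
    simp only [hSp, hSn, Set.mem_image, Set.mem_setOf_eq]
    constructor
    · rintro ⟨hyS, hyn⟩
      refine ⟨-y, ⟨hneg y hyS, ?_⟩, neg_neg y⟩
      rcases lexPos_or (hS0 y hyS) with h | h
      · exact absurd h hyn
      · exact h
    · rintro ⟨z, ⟨hzS, hzp⟩, rfl⟩
      exact ⟨hneg z hzS, not_lexPos_neg hzp⟩
  have hcard : Sn.ncard = Sp.ncard := by
    rw [himg, Set.ncard_image_of_injective _ neg_injective]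
  have h24 : Sp.ncard = 24 := by
    have := Set.ncard_union_eq hdisj hSpfin hSnfin
    rw [← hunion, hS48, hcard] at this
    omega
  haveI : Finite Sp := hSpfin.to_subtype
  have hcard' : Nat.card Sp = 24 := by rw [Nat.card_coe_set_eq]; exact h24
  let e : Sp ≃ Fin 24 := Finite.equivFinOfCardEq hcard'
  have hmemS : ∀ i, ((e.symm i : Sp) : Fin 24 → ℤ) ∈ S := fun i => (e.symm i).2.1
  have hcongr : ∀ i j k, (2 : ℤ) ∣ (((e.symm i : Sp) : Fin 24 → ℤ) - ((e.symm j : Sp) : Fin 24 → ℤ)) k := by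
    intro i j k
    have h1 := (hmemS i).2 k
    have h2' := (hmemS j).2 k
    simp only [Pi.sub_apply] at *
    omega
  refine ⟨fun i => ((e.symm i : Sp) : Fin 24 → ℤ), fun i => (hmemS i).1, ?_, hcongr⟩
  intro i j hij
  have hne' : ((e.symm i : Sp) : Fin 24 → ℤ) ≠ ((e.symm j : Sp) : Fin 24 → ℤ) := by
    intro h
    exact hij (e.symm.injective (Subtype.ext h))
  have hqi : q B ((e.symm i : Sp) : Fin 24 → ℤ) = 8 := (hmemS i).1
  have hqj : q B ((e.symm j : Sp) : Fin 24 → ℤ) = 8 := (hmemS j).1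
  rcases short_congr B hsymm hpos heven h2 _ _ (le_of_eq hqi) (le_of_eq hqj) hne' (hcongr i j) with h | ⟨_, _, h⟩
  · exfalso
    have h1 : LexPos ((e.symm i : Sp) : Fin 24 → ℤ) := (e.symm i).2.2
    have h2' : LexPos ((e.symm j : Sp) : Fin 24 → ℤ) := (e.symm j).2.2
    rw [h] at h1
    exact not_lexPos_neg h2' h1
  · exact h

end Cfsg.Agent.Lib.H27.LC
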