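import Cfsg.Agent.Lib.H27.LCDefs
import Cfsg.Agent.Lib.H27.AbstractCross

/-!
# S0406: the coordinate lattice of a frame is `LeechLike` (helper27)
-/

set_option autoImplicit false

namespace Cfsg.Agent.Lib.H27.LC

open Matrix Cfsg.Agent.Lib.H27.AbstractCross

/-- coordinates with respect to the frame `X` -/
def coord (B : Matrix (Fin 24) (Fin 24) ℤ) (X : Fin 24 → (Fin 24 → ℤ)) :
    (Fin 24 → ℤ) →+ (Fin 24 → ℤ) where
  toFun v := fun i => v ⬝ᵥ (B *ᵥ X i)
  map_zero' := by funext i; simp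
  map_add' v w := by funext i; simp [add_dotProduct]

theorem coord_apply (B : Matrix (Fin 24) (Fin 24) ℤ) (X : Fin 24 → (Fin 24 → ℤ)) (v : Fin 24 → ℤ)
    (i : Fin 24) : coord B X v i = v ⬝ᵥ (B *ᵥ X i) := rfl

section

variable (B : Matrix (Fin 24) (Fin 24) ℤ) (hsymm : B.IsSymm)
  (hpos : ∀ x : Fin 24 → ℤ, x ≠ 0 → 0 < x ⬝ᵥ (B *ᵥ x))
  (heven : ∀ x : Fin 24 → ℤ, (2 : ℤ) ∣ x ⬝ᵥ (B *ᵥ x)) (h2 : ∀ x : Fin 24 → ℤ, x ⬝ᵥ (B *ᵥ x) ≠ 2)
  (X : Fin 24 → (Fin 24 → ℤ)) (hX8 : ∀ i, X i ⬝ᵥ (B *ᵥ X i) = 8)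
  (hX0 : ∀ i j, i ≠ j → X i ⬝ᵥ (B *ᵥ X j) = 0) (hXc : ∀ i j k, (2 : ℤ) ∣ (X i - X j) k)
  (hpars : ∀ v : Fin 24 → ℤ, ∑ i, (v ⬝ᵥ (B *ᵥ X i)) ^ 2 = 8 * (v ⬝ᵥ (B *ᵥ v)))

include hpars in
theorem nrm_coord (v : Fin 24 → ℤ) : nrm (coord B X v) = 8 * (v ⬝ᵥ (B *ᵥ v)) := by
  rw [← hpars v]; rfl

include hpos hpars in
theorem coord_injective : Function.Injective (coord B X) := by
  rw [injective_iff_map_eq_zero]
  intro v hv
  by_contra hne
  have h1 := hpos v hne
  have h2' := nrm_coord B X hpars v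
  rw [hv] at h2'
  have : nrm (0 : Fin 24 → ℤ) = 0 := by simp [nrm]
  rw [this] at h2'
  omega

include hX8 hX0 in
theorem coord_frame (i : Fin 24) : coord B X (X i) = Pi.single i 8 := by
  funext j
  rw [coord_apply]
  by_cases h : j = i
  · subst h; simp [hX8]
  · rw [Pi.single_eq_of_ne h]
    exact hX0 i j (Ne.symm h)

include hsymm hpos heven h2 hX8 hX0 hXc hpars in
theorem leechLike_range : LeechLike (coord B X).range := by
  refine ⟨?_, ?_, ?_, ?_, ?_⟩
  · rintro c ⟨v, rfl⟩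
    rw [nrm_coord B X hpars v]
    obtain ⟨k, hk⟩ := heven v
    rw [hk]
    exact ⟨k, by ring⟩
  · rintro c ⟨v, rfl⟩ hc
    have hv : v ≠ 0 := by
      rintro rfl
      exact hc (map_zero _)
    rw [nrm_coord B X hpars v]
    have := qge B hpos heven h2 v hv
    unfold q at this
    omega
  · intro i
    exact ⟨X i, coord_frame B X hX8 hX0 i⟩
  · intro i j hij
    choose z hz using hXc i j
    have hxy : X i + X j = (2 : ℤ) • (z + X j) := by
      funext k
      have := hz k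
      simp only [Pi.sub_apply, Pi.add_apply, Pi.smul_apply, smul_eq_mul] at *
      linarith
    refine ⟨z + X j, ?_⟩
    have h1 : coord B X (X i + X j) = Pi.single i 8 + Pi.single j 8 := by
      rw [map_add, coord_frame B X hX8 hX0, coord_frame B X hX8 hX0]
    rw [hxy, map_zsmul] at h1
    funext k
    have := congrFun h1 k
    simp only [Pi.smul_apply, smul_eq_mul, Pi.add_apply] at this ⊢
    by_cases hki : k = i
    · subst hki
      have hkj : k ≠ j := hij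
      simp only [Pi.single_eq_same, Pi.single_eq_of_ne hkj] at this ⊢
      omega
    · by_cases hkj : k = j
      · subst hkj
        simp only [Pi.single_eq_same, Pi.single_eq_of_ne hki] at this ⊢
        omega
      · simp only [Pi.single_eq_of_ne hki, Pi.single_eq_of_ne hkj] at this ⊢
        omega
  · rintro c ⟨v, rfl⟩ i j
    choose z hz using hXc i j
    have hxy : X i - X j = (2 : ℤ) • z := by
      funext k
      rw [hz k]; simp
    rw [coord_apply, coord_apply, ← dotProduct_sub, ← Matrix.mulVec_sub, hxy, Matrix.mulVec_smul,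
      dotProduct_smul, smul_eq_mul]
    exact dvd_mul_right 2 _

include hpos hpars in
theorem ncard_range_min (h4 : {x : Fin 24 → ℤ | x ⬝ᵥ (B *ᵥ x) = 4}.ncard = 196560) :
    {c : Fin 24 → ℤ | c ∈ (coord B X).range ∧ nrm c = 32}.ncard = 196560 := by
  rw [← h4, ← Set.ncard_image_of_injective {x : Fin 24 → ℤ | x ⬝ᵥ (B *ᵥ x) = 4}
    (coord_injective B hpos X hpars)]
  congr 1
  ext c
  constructor
  · rintro ⟨⟨v, rfl⟩, hn⟩
    refine ⟨v, ?_, rfl⟩
    rw [nrm_coord B X hpars v] at hn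
    show v ⬝ᵥ (B *ᵥ v) = 4
    omega
  · rintro ⟨v, hv, rfl⟩
    have hv' : v ⬝ᵥ (B *ᵥ v) = 4 := hv
    refine ⟨⟨v, rfl⟩, ?_⟩
    rw [nrm_coord B X hpars v, hv']
    norm_num

end

end Cfsg.Agent.Lib.H27.LC
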