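import Cfsg.Agent.Lib.H27.LatW

/-!
# Orders of subgroups from closed lists of signatures
-/

set_option autoImplicit false

namespace Cfsg.Agent.Lib.H27.LatW

variable {Γ : Type*} [Group Γ]

/-- the list of signatures `tsig 0, …, tsig (tlen - 1)` is closed under left multiplication by the
generators `gs` (the hint `nx n gi` is the position of the image) -/
def chkClosed (actS : Nat → Nat → Nat) (tsig : Nat → Nat) (tlen : Nat) (gs : List Nat)
    (nx : Nat → Nat → Nat) : Bool :=
  allLt tlen fun n => allLt gs.length fun gi =>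
    Nat.blt (nx n gi) tlen && Nat.beq (tsig (nx n gi)) (actS (gs.getD gi 0) (tsig n))

/-- every entry other than the root is the image of an entry of smaller depth -/
def chkTree (actS : Nat → Nat → Nat) (tsig : Nat → Nat) (tlen : Nat) (gs : List Nat) (root : Nat)
    (par pg dep : Nat → Nat) : Bool :=
  allLt tlen fun n => Nat.beq n root || (Nat.blt (par n) tlen && (Nat.blt (dep (par n)) (dep n) &&
    (Nat.blt (pg n) gs.length && Nat.beq (tsig n) (actS (gs.getD (pg n) 0) (tsig (par n))))))

/-- the signatures are strictly increasing -/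
def chkInc (tsig : Nat → Nat) (tlen : Nat) : Bool :=
  allLt (Nat.pred tlen) fun n => Nat.blt (tsig n) (tsig (Nat.succ n))

/-- the subgroup generated by a list of coded elements -/
def Ctx.cl (C : Ctx Γ) (gs : List Nat) : Subgroup Γ :=
  Subgroup.closure {σ | ∃ g ∈ gs, σ = C.ev g}

theorem Ctx.cl_le_G (C : Ctx Γ) (gs : List Nat) : C.cl gs ≤ C.G := by
  unfold Ctx.cl
  rw [Subgroup.closure_le]
  rintro σ ⟨g, _, rfl⟩
  exact C.ev_mem g

theorem closed_spec [Finite Γ] (C : Ctx Γ) {tsig : Nat → Nat} {tlen : Nat} {gs : List Nat}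
    {nx : Nat → Nat → Nat} {root : Nat} (hroot : root < tlen) (hr : tsig root = C.sigOf 1)
    (h : chkClosed C.actS tsig tlen gs nx = true) {y : Γ} (hy : y ∈ C.cl gs) :
    ∃ n < tlen, C.sigOf y = tsig n := by
  unfold Ctx.cl at hy
  rw [← Subgroup.mem_toSubmonoid, Subgroup.closure_toSubmonoid_of_finite] at hy
  refine Submonoid.closure_induction_left (motive := fun y _ => ∃ n < tlen, C.sigOf y = tsig n)
    ⟨root, hroot, hr.symm⟩ ?_ hy
  rintro x ⟨g, hg, rfl⟩ y _ ⟨n, hn, hyn⟩
  obtain ⟨gi, hgi, rfl⟩ := List.getElem_of_mem hg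
  have h1 := allLt_spec (allLt_spec h n hn) gi hgi
  simp only [Bool.and_eq_true] at h1
  have hget : gs.getD gi 0 = gs[gi] := by
    rw [List.getD_eq_getElem?_getD, List.getElem?_eq_getElem hgi]; rfl
  rw [hget] at h1
  refine ⟨nx n gi, Nat.le_of_ble_eq_true h1.1, ?_⟩
  rw [C.sig_act, hyn]
  exact (Nat.eq_of_beq_eq_true h1.2).symm

theorem card_le_of_closed [Finite Γ] (C : Ctx Γ) {tsig : Nat → Nat} {tlen : Nat} {gs : List Nat}
    {nx : Nat → Nat → Nat} {root : Nat} (hroot : root < tlen) (hr : tsig root = C.sigOf 1)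
    (h : chkClosed C.actS tsig tlen gs nx = true) : Nat.card (C.cl gs) ≤ tlen := by
  classical
  have key : ∀ y : C.cl gs, ∃ n : Fin tlen, C.sigOf (y : Γ) = tsig n := by
    intro y
    obtain ⟨n, hn, hyn⟩ := closed_spec C hroot hr h y.2
    exact ⟨⟨n, hn⟩, hyn⟩
  choose f hf using key
  have hinj : Function.Injective f := by
    intro y y' hyy
    apply Subtype.ext
    apply C.sig_inj _ (C.cl_le_G gs y.2) _ (C.cl_le_G gs y'.2)
    rw [hf y, hf y', hyy]
  have := Nat.card_le_card_of_injective f hinj
  simpa using this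

theorem inc_spec {tsig : Nat → Nat} {tlen : Nat} (h : chkInc tsig tlen = true) :
    ∀ n m, n < m → m < tlen → tsig n < tsig m := by
  have h1 : ∀ n, n + 1 < tlen → tsig n < tsig (n + 1) := by
    intro n hn
    have := allLt_spec h n (by
      show n < Nat.pred tlen
      rw [Nat.pred_eq_sub_one]; omega)
    exact Nat.le_of_ble_eq_true this
  intro n m hnm
  induction m with
  | zero => omega
  | succ m ih =>
    intro hm
    rcases Nat.lt_succ_iff_lt_or_eq.mp hnm with h2 | h2
    · exact lt_trans (ih h2 (by omega)) (h1 m hm)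
    · rw [h2]; exact h1 m hm

theorem tree_spec (C : Ctx Γ) {tsig : Nat → Nat} {tlen : Nat} {gs : List Nat}
    {root : Nat} {par pg dep : Nat → Nat} (hr : tsig root = C.sigOf 1)
    (h : chkTree C.actS tsig tlen gs root par pg dep = true) :
    ∀ n < tlen, ∃ y ∈ C.cl gs, C.sigOf y = tsig n := by
  have key : ∀ d n, dep n = d → n < tlen → ∃ y ∈ C.cl gs, C.sigOf y = tsig n := by
    intro d
    induction d using Nat.strong_induction_on with
    | _ d ih =>
      intro n hd hn
      have h1 := allLt_spec h n hn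
      simp only [Bool.or_eq_true, Bool.and_eq_true] at h1
      rcases h1 with h1 | ⟨h2, h3, h4, h5⟩
      · rw [Nat.eq_of_beq_eq_true h1]
        exact ⟨1, (C.cl gs).one_mem, hr.symm⟩
      · have h2 := Nat.le_of_ble_eq_true h2
        have h3 := Nat.le_of_ble_eq_true h3
        have h4 : pg n < gs.length := Nat.le_of_ble_eq_true h4
        have h5 := Nat.eq_of_beq_eq_true h5
        obtain ⟨y, hy, hys⟩ := ih (dep (par n)) (by omega) (par n) rfl h2
        have hget : gs.getD (pg n) 0 = gs[pg n] := by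
          rw [List.getD_eq_getElem?_getD, List.getElem?_eq_getElem h4]; rfl
        refine ⟨C.ev gs[pg n] * y, (C.cl gs).mul_mem
          (Subgroup.subset_closure ⟨_, List.getElem_mem h4, rfl⟩) hy, ?_⟩
        rw [C.sig_act, hys, h5, hget]
  intro n hn
  exact key _ n rfl hn

theorem le_card_of_tree [Finite Γ] (C : Ctx Γ) {tsig : Nat → Nat} {tlen : Nat} {gs : List Nat}
    {root : Nat} {par pg dep : Nat → Nat} (hr : tsig root = C.sigOf 1)
    (h : chkTree C.actS tsig tlen gs root par pg dep = true) (hinc : chkInc tsig tlen = true) :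
    tlen ≤ Nat.card (C.cl gs) := by
  classical
  have key : ∀ n : Fin tlen, ∃ y : C.cl gs, C.sigOf (y : Γ) = tsig n := by
    intro n
    obtain ⟨y, hy, hys⟩ := tree_spec C hr h n n.2
    exact ⟨⟨y, hy⟩, hys⟩
  choose f hf using key
  have hinj : Function.Injective f := by
    intro n m hnm
    have h1 : tsig n = tsig m := by rw [← hf n, ← hf m, hnm]
    apply Fin.ext
    by_contra hne
    rcases Nat.lt_or_gt_of_ne hne with h2 | h2
    · exact absurd h1 (ne_of_lt (inc_spec hinc _ _ h2 m.2))
    · exact absurd h1.symm (ne_of_lt (inc_spec hinc _ _ h2 n.2))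
  have := Nat.card_le_card_of_injective f hinj
  simpa using this

end Cfsg.Agent.Lib.H27.LatW
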