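import Cfsg.Agent.Lib.H27.LatWOrd

/-!
# Further tools for lattices of overgroups: splitting the enumeration check, the elements of `U`,
the groups of the lattice as closures of lists, and conjugation of Sylow subgroups into subgroups
-/

set_option autoImplicit false

namespace Cfsg.Agent.Lib.H27.LatW

variable {Γ : Type*} [Group Γ]

theorem allLt_intro {n : Nat} {f : Nat → Bool} (h : ∀ i < n, f i = true) : allLt n f = true := by
  induction n with
  | zero => rfl
  | succ n ih =>
    show (f n && allLt n f) = true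
    rw [Bool.and_eq_true]
    exact ⟨h n (by omega), ih fun i hi => h i (by omega)⟩

/-- the enumeration check can be split into chunks -/
theorem chkE_split {actS : Nat → Nat → Nat} {s1 : Nat} {L : LatD} {hE : Nat → Nat → Nat → Nat}
    {lo c1 c2 : Nat} (h1 : chkE actS s1 L hE lo c1 = true)
    (h2 : chkE actS s1 L hE (lo + c1) c2 = true) : chkE actS s1 L hE lo (c1 + c2) = true := by
  apply allLt_intro
  intro i hi
  by_cases hi1 : i < c1
  · exact allLt_spec h1 i hi1
  · have h3 := allLt_spec h2 (i - c1) (by omega)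
    have e : Nat.add (lo + c1) (i - c1) = Nat.add lo i := by
      show lo + c1 + (i - c1) = lo + i
      omega
    rw [e] at h3
    exact h3

/-- the elements of `ulist` are words in the generators of `U` -/
def chkU (actS : Nat → Nat → Nat) (s1 : Nat) (L : LatD) (uv : List Nat) : Bool :=
  Nat.beq uv.length L.ulist.length &&
    (List.zipWith (fun u v => Nat.beq (sigL actS s1 [u]) (sigL actS s1 (expand L.ugens 16 v [])))
      L.ulist uv).all id

theorem usub_of_chkU (C : Ctx Γ) {L : LatD} {uv : List Nat}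
    (h : chkU C.actS (C.sigOf 1) L uv = true) : ∀ u ∈ L.ulist, C.ev u ∈ L.U C := by
  unfold chkU at h
  simp only [Bool.and_eq_true, List.all_eq_true] at h
  obtain ⟨h1, h2⟩ := h
  have h1 : uv.length = L.ulist.length := Nat.eq_of_beq_eq_true h1
  intro u hu
  obtain ⟨k, hk, rfl⟩ := List.getElem_of_mem hu
  have hk' : k < uv.length := by rw [h1]; exact hk
  have hz : k < (List.zipWith (fun u v => Nat.beq (sigL C.actS (C.sigOf 1) [u])
      (sigL C.actS (C.sigOf 1) (expand L.ugens 16 v []))) L.ulist uv).length := by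
    rw [List.length_zipWith]; omega
  have := h2 _ (List.getElem_mem hz)
  rw [List.getElem_zipWith] at this
  have hp := C.prod_eq_of_sig (Nat.eq_of_beq_eq_true this)
  simp only [C.prodL_cons, C.prodL_nil, mul_one] at hp
  rw [hp]
  exact C.expand_mem (fun w hw => L.ugen_mem_U C hw) (by simp) _ _

theorem LatD.K_eq_cl (L : LatD) (C : Ctx Γ) (i : Nat) :
    L.K C i = C.cl (L.ugens ++ L.gens.getD i []) := by
  unfold LatD.K Ctx.cl
  congr 1
  ext σ
  simp only [Set.mem_union, Set.mem_ofPred_eq, List.mem_append]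
  constructor
  · rintro (⟨g, hg, rfl⟩ | ⟨g, hg, rfl⟩)
    · exact ⟨g, Or.inl hg, rfl⟩
    · exact ⟨g, Or.inr hg, rfl⟩
  · rintro ⟨g, hg | hg, rfl⟩
    · exact Or.inl ⟨g, hg, rfl⟩
    · exact Or.inr ⟨g, hg, rfl⟩

theorem LatD.K_zero_eq_U (L : LatD) (C : Ctx Γ) (h0 : L.gens.getD 0 [] = [0]) :
    L.K C 0 = L.U C := by
  apply le_antisymm
  · apply L.K_le C 0 le_rfl
    intro g hg
    rw [h0, List.mem_singleton] at hg
    rw [hg, C.ev_zero]
    exact (L.U C).one_mem
  · exact L.U_le_K C 0

/-- A subgroup `U` of `G` of prime power order `p ^ k`, where `p ^ (k + 1)` does not divide `|G|`,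
is contained in a `G`-conjugate of every subgroup `K ≤ G` whose order is divisible by `p ^ k`. -/
theorem exists_conj_ge {G U K : Subgroup Γ} [Finite Γ] {p k : ℕ} (hp : p.Prime)
    (hU : U ≤ G) (hK : K ≤ G) (hcU : Nat.card U = p ^ k) (hG : ¬ p ^ (k + 1) ∣ Nat.card G)
    (hdvd : p ^ k ∣ Nat.card K) :
    ∃ g ∈ G, U ≤ K.map (MulAut.conj g).toMonoidHom := by
  classical
  have : Fact p.Prime := ⟨hp⟩
  -- a subgroup `Q` of `K` of order `p ^ k`
  obtain ⟨Q0, hQ0⟩ := Sylow.exists_subgroup_card_pow_prime (G := K) p hdvd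
  set Q : Subgroup Γ := Q0.map K.subtype with hQ
  have hQK : Q ≤ K := by
    rw [hQ]
    exact Subgroup.map_subtype_le Q0
  have hcQ : Nat.card Q = p ^ k := by
    rw [hQ, Subgroup.card_map_of_injective K.subtype_injective]
    exact hQ0
  -- work in the group `G`
  have hfac : (Nat.card G).factorization p = k := by
    have hGpos : Nat.card G ≠ 0 := Nat.card_pos.ne'
    have h1 : p ^ k ∣ Nat.card G := by
      rw [← hcU]
      have := Subgroup.card_dvd_of_le hU
      exact this
    have h2 := (hp.pow_dvd_iff_le_factorization hGpos).mp h1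
    have h3 : ¬ k + 1 ≤ (Nat.card G).factorization p := fun h =>
      hG ((hp.pow_dvd_iff_le_factorization hGpos).mpr h)
    omega
  have hcU' : Nat.card (U.subgroupOf G) = p ^ (Nat.card G).factorization p := by
    rw [hfac, Nat.card_congr (Subgroup.subgroupOfEquivOfLe hU).toEquiv, hcU]
  have hcQ' : Nat.card (Q.subgroupOf G) = p ^ (Nat.card G).factorization p := by
    rw [hfac, Nat.card_congr (Subgroup.subgroupOfEquivOfLe (hQK.trans hK)).toEquiv, hcQ]
  set PU : Sylow p G := Sylow.ofCard (U.subgroupOf G) hcU' with hPU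
  set PQ : Sylow p G := Sylow.ofCard (Q.subgroupOf G) hcQ' with hPQ
  obtain ⟨g, hg⟩ := MulAction.exists_smul_eq G PQ PU
  refine ⟨g.1, g.2, ?_⟩
  intro y hy
  have hy' : (⟨y, hU hy⟩ : G) ∈ (PU : Subgroup G) := by
    rw [hPU]
    show (⟨y, hU hy⟩ : G) ∈ U.subgroupOf G
    rw [Subgroup.mem_subgroupOf]
    exact hy
  rw [← hg] at hy'
  rw [Sylow.coe_subgroup_smul, Subgroup.mem_pointwise_smul_iff_inv_smul_mem] at hy'
  have e : (MulAut.conj g)⁻¹ • (⟨y, hU hy⟩ : G) = g⁻¹ * ⟨y, hU hy⟩ * g := by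
    rw [MulAut.smul_def, MulAut.conj_inv_apply]
  rw [e] at hy'
  have hy2 : g⁻¹ * ⟨y, hU hy⟩ * g ∈ Q.subgroupOf G := hy'
  rw [Subgroup.mem_subgroupOf] at hy2
  have hy3 : (g.1)⁻¹ * y * g.1 ∈ Q := hy2
  rw [Subgroup.mem_map]
  refine ⟨(g.1)⁻¹ * y * g.1, hQK hy3, ?_⟩
  simp [MulAut.conj_apply, mul_assoc]

end Cfsg.Agent.Lib.H27.LatW
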