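import Mathlib
import Cfsg.Prelude.Def_Sporadic_a
import Cfsg.Agent.Lib.H27.LeechCountFinal
import Cfsg.Agent.Lib.H27.CountTabsER
import Cfsg.Agent.Lib.H27.CountTabsOR

/-!
helper27 library: the four shapes of lattice vectors of squared length 48.
-/

set_option autoImplicit false

namespace Cfsg.Agent.Lib.H27

open Cfsg Finset

theorem encard_Par_0_48_8 : (Par 0 48 8).encard = ((8384512 : ℕ) : ℕ∞) := by
  rw [ncard_Par_even_full, valE_0_48, valE_8_48, valE_12_48, valE_16_48, valE_24_48]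

theorem encard_Par_1_48_8 : (Par 1 48 8).encard = ((8388608 : ℕ) : ℕ∞) := by
  rw [ncard_Par_odd_full, valO_0_48, valO_8_48, valO_12_48, valO_16_48, valO_24_48]

theorem ncard_Par_even_restr (N : ℤ) :
    (Par 0 N 3).encard = ((cnt vals (stdL 6 4 0 24) 0 N + 759 * cnt vals (stdL 6 4 8 16) 0 N
      + 2576 * cnt vals (stdL 6 4 12 12) 0 N + 759 * cnt vals (stdL 6 4 16 8) 0 N
      + cnt vals (stdL 6 4 24 0) 0 N : ℕ) : ℕ∞) := by
  have h := encard_Par 0 4 3 (Or.inl rfl) (Or.inr ⟨rfl, rfl⟩) N 6 4 0 rfl rfl (by norm_num)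
  rw [sum_golayF (fun w => cnt vals (stdL 6 4 w (24 - w)) 0 N)] at h
  exact h

theorem ncard_Par_odd_restr (N : ℤ) :
    (Par 1 N 3).encard = ((cnt vals (stdL 7 5 0 24) 4 N + 759 * cnt vals (stdL 7 5 8 16) 4 N
      + 2576 * cnt vals (stdL 7 5 12 12) 4 N + 759 * cnt vals (stdL 7 5 16 8) 4 N
      + cnt vals (stdL 7 5 24 0) 4 N : ℕ) : ℕ∞) := by
  have h := encard_Par 1 4 3 (Or.inr rfl) (Or.inr ⟨rfl, rfl⟩) N 7 5 4 rfl rfl (by norm_num)
  rw [sum_golayF (fun w => cnt vals (stdL 7 5 w (24 - w)) 4 N)] at h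
  exact h

theorem encard_Par_0_48_3 : (Par 0 48 3).encard = ((5275648 : ℕ) : ℕ∞) := by
  rw [ncard_Par_even_restr, valER_0_48, valER_8_48, valER_12_48, valER_16_48, valER_24_48]

theorem encard_Par_1_48_3 : (Par 1 48 3).encard = ((8290304 : ℕ) : ℕ∞) := by
  rw [ncard_Par_odd_restr, valOR_0_48, valOR_8_48, valOR_12_48, valOR_16_48, valOR_24_48]

theorem Par_mono (m N : ℤ) {B B' : ℤ} (h : B ≤ B') : Par m N B ⊆ Par m N B' := by
  intro x hx
  simp only [Par, Set.mem_iUnion, exists_prop, Fib, Set.mem_ofPred_eq] at hx ⊢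
  obtain ⟨c, hc, hd, hn, hb⟩ := hx
  exact ⟨c, hc, hd, hn, fun i => ⟨by have := (hb i).1; omega, by have := (hb i).2; omega⟩⟩

theorem mem_Par_iff {m N B : ℤ} {x : GolayPt → ℤ} :
    x ∈ Par m N B ↔ (∃ c, LeechDesc x m c) ∧ sqNorm x = N ∧ ∀ i, -B ≤ x i ∧ x i ≤ B := by
  simp only [Par, Set.mem_iUnion, exists_prop, Fib, Set.mem_ofPred_eq]
  constructor
  · rintro ⟨c, _, hd, hn, hb⟩
    exact ⟨⟨c, hd⟩, hn, hb⟩
  · rintro ⟨⟨c, hd⟩, hn, hb⟩
    exact ⟨c, mem_golayF.2 hd.1, hd, hn, hb⟩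

theorem ncard_diff_of_encard {α : Type*} {s t : Set α} {a b : ℕ} (hst : s ⊆ t)
    (hs : s.encard = (a : ℕ∞)) (ht : t.encard = (b : ℕ∞)) : (t \ s).ncard = b - a := by
  have hsf : s.Finite := Set.finite_of_encard_eq_coe hs
  rw [Set.ncard_sdiff hst hsf, Set.ncard, Set.ncard, hs, ht]
  rfl

theorem parity_of_desc {x : GolayPt → ℤ} {m : ℤ} {c : GolayPt → ZMod 2} (h : LeechDesc x m c)
    (i : GolayPt) : x i % 2 = m % 2 := by
  have := h.2.1 i
  unfold Int.ModEq at this
  omega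

theorem bound8 {x : GolayPt → ℤ} (h : sqNorm x = 48) (i : GolayPt) : -6 ≤ x i ∧ x i ≤ 6 := by
  have := sqNorm_ge_single x i
  constructor <;> nlinarith

theorem sum_four_le (x : GolayPt → ℤ) (S : Finset GolayPt) : ∑ i ∈ S, x i ^ 2 ≤ sqNorm x := by
  unfold sqNorm
  exact sum_le_sum_of_subset_of_nonneg (subset_univ _) (fun i _ _ => sq_nonneg _)

/-- Shape `(2^12, 0^12)`. -/
theorem shape48_a :
    {x : GolayPt → ℤ | x ∈ leechLattice ∧ sqNorm x = 48 ∧ ∀ i, x i = 0 ∨ x i = 2 ∨ x i = -2}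
      = Par 0 48 3 := by
  ext x
  rw [mem_Par_iff]
  simp only [Set.mem_ofPred_eq]
  constructor
  · rintro ⟨hx, hn, hv⟩
    obtain ⟨m, c, hm, hd⟩ := exists_leechDesc_normal hx
    rcases hm with rfl | rfl
    · exact ⟨⟨c, hd⟩, hn, fun i => by rcases hv i with h | h | h <;> omega⟩
    · exfalso
      have := parity_of_desc hd none
      rcases hv none with h | h | h <;> omega
  · rintro ⟨⟨c, hd⟩, hn, hb⟩
    refine ⟨mem_leechLattice_of_leechDesc hd, hn, fun i => ?_⟩
    have := parity_of_desc hd i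
    have := hb i
    omega

/-- Shape `(±5, ±1^23)`. -/
theorem shape48_d :
    {x : GolayPt → ℤ | x ∈ leechLattice ∧ sqNorm x = 48 ∧ ∃ i, |x i| = 5}
      = Par 1 48 8 \ Par 1 48 3 := by
  ext x
  rw [Set.mem_sdiff, mem_Par_iff, mem_Par_iff]
  simp only [Set.mem_ofPred_eq]
  constructor
  · rintro ⟨hx, hn, i, hi⟩
    obtain ⟨m, c, hm, hd⟩ := exists_leechDesc_normal hx
    have hi' : x i = 5 ∨ x i = -5 := by
      rcases abs_cases (x i) with ⟨h, _⟩ | ⟨h, _⟩ <;> omega
    rcases hm with rfl | rfl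
    · exfalso
      have := parity_of_desc hd i
      omega
    · refine ⟨⟨⟨c, hd⟩, hn, fun j => by have := bound8 hn j; omega⟩, ?_⟩
      rintro ⟨_, _, hb⟩
      have := hb i
      omega
  · rintro ⟨⟨⟨c, hd⟩, hn, _⟩, hnot⟩
    refine ⟨mem_leechLattice_of_leechDesc hd, hn, ?_⟩
    by_contra hcon
    push Not at hcon
    apply hnot
    refine ⟨⟨c, hd⟩, hn, fun i => ?_⟩
    have h1 := parity_of_desc hd i
    have h2 := bound8 hn i
    have h3 := hcon i
    have h5 : x i ≠ 5 := fun h => h3 (by rw [h]; rfl)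
    have h5' : x i ≠ -5 := fun h => h3 (by rw [h]; rfl)
    omega

/-- Shape `(±4, ±2^8, 0^15)`. -/
theorem shape48_c :
    {x : GolayPt → ℤ | x ∈ leechLattice ∧ sqNorm x = 48 ∧ ∃ i, |x i| = 4}
      = Par 0 48 8 \ Par 0 48 3 := by
  ext x
  rw [Set.mem_sdiff, mem_Par_iff, mem_Par_iff]
  simp only [Set.mem_ofPred_eq]
  constructor
  · rintro ⟨hx, hn, i, hi⟩
    obtain ⟨m, c, hm, hd⟩ := exists_leechDesc_normal hx
    have hi' : x i = 4 ∨ x i = -4 := by
      rcases abs_cases (x i) with ⟨h, _⟩ | ⟨h, _⟩ <;> omega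
    rcases hm with rfl | rfl
    · refine ⟨⟨⟨c, hd⟩, hn, fun j => by have := bound8 hn j; omega⟩, ?_⟩
      rintro ⟨_, _, hb⟩
      have := hb i
      omega
    · exfalso
      have := parity_of_desc hd i
      omega
  · rintro ⟨⟨⟨c, hd⟩, hn, _⟩, hnot⟩
    refine ⟨mem_leechLattice_of_leechDesc hd, hn, ?_⟩
    by_contra hcon
    push Not at hcon
    apply hnot
    refine ⟨⟨c, hd⟩, hn, fun i => ?_⟩
    have h1 := parity_of_desc hd i
    have h2 := bound8 hn i
    have h3 := hcon i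
    have h4 : x i ≠ 4 := fun h => h3 (by rw [h]; rfl)
    have h4' : x i ≠ -4 := fun h => h3 (by rw [h]; rfl)
    -- exclude `±6`
    have h6 : x i ≠ 6 ∧ x i ≠ -6 := by
      by_contra h6
      have hx6 : x i ^ 2 = 36 := by
        have : x i = 6 ∨ x i = -6 := by omega
        rcases this with h | h <;> rw [h] <;> norm_num
      have hci : i ∈ support₂ c := by
        by_contra hci
        have := hd.2.1 i
        rw [val_of_not_mem_support₂ hci] at this
        unfold Int.ModEq at this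
        omega
      have hc0 : c ≠ 0 := by
        rintro rfl
        simp [support₂] at hci
      have hw := golay_min_weight c hd.1 hc0
      have hS : ∀ j ∈ (support₂ c).erase i, (4 : ℤ) ≤ x j ^ 2 := by
        intro j hj
        have hj' : j ∈ support₂ c := Finset.mem_of_mem_erase hj
        have := hd.2.1 j
        rw [val_of_mem_support₂ hj'] at this
        unfold Int.ModEq at this
        have h0 : x j ≠ 0 := by omega
        have h1 : x j ≠ 1 ∧ x j ≠ -1 := by omega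
        have h2 : x j ≤ -2 ∨ 2 ≤ x j := by omega
        rcases h2 with h2 | h2 <;> nlinarith
      have h1 : ∑ j ∈ (support₂ c).erase i, (4 : ℤ) ≤ ∑ j ∈ (support₂ c).erase i, x j ^ 2 :=
        Finset.sum_le_sum hS
      rw [Finset.sum_const, Finset.card_erase_of_mem hci, nsmul_eq_mul] at h1
      have h2 : ∑ j ∈ support₂ c, x j ^ 2 ≤ sqNorm x := sum_four_le x _
      rw [← Finset.add_sum_erase _ _ hci, hx6, hn] at h2
      have h7 : (7 : ℤ) ≤ (((support₂ c).card - 1 : ℕ) : ℤ) := by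
        have : 7 ≤ (support₂ c).card - 1 := by omega
        exact_mod_cast this
      nlinarith
    omega

/-- Shape `(±3^3, ±1^21)`. -/
theorem shape48_b :
    {x : GolayPt → ℤ | x ∈ leechLattice ∧ sqNorm x = 48 ∧
        ∃ i j k, i ≠ j ∧ j ≠ k ∧ i ≠ k ∧ |x i| = 3 ∧ |x j| = 3 ∧ |x k| = 3}
      = Par 1 48 3 := by
  ext x
  rw [mem_Par_iff]
  simp only [Set.mem_ofPred_eq]
  constructor
  · rintro ⟨hx, hn, i, j, k, hij, hjk, hik, hi, hj, hk⟩
    obtain ⟨m, c, hm, hd⟩ := exists_leechDesc_normal hx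
    have hi' : x i = 3 ∨ x i = -3 := by
      rcases abs_cases (x i) with ⟨h, _⟩ | ⟨h, _⟩ <;> omega
    rcases hm with rfl | rfl
    · exfalso
      have := parity_of_desc hd i
      omega
    · refine ⟨⟨c, hd⟩, hn, fun l => ?_⟩
      by_contra hl
      have h1 := parity_of_desc hd l
      have h25 : 25 ≤ x l ^ 2 := by
        have : x l ≤ -5 ∨ 5 ≤ x l := by omega
        rcases this with h | h <;> nlinarith
      have sq3 : ∀ t, |x t| = 3 → x t ^ 2 = 9 := by
        intro t ht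
        rw [← sq_abs, ht]; norm_num
      have hli : l ≠ i := by
        rintro rfl
        have := sq3 _ hi; omega
      have hlj : l ≠ j := by
        rintro rfl
        have := sq3 _ hj; omega
      have hlk : l ≠ k := by
        rintro rfl
        have := sq3 _ hk; omega
      have hsum := sum_four_le x ({l, i, j, k} : Finset GolayPt)
      rw [Finset.sum_insert (by simp [hli, hlj, hlk]), Finset.sum_insert (by simp [hij, hik]),
        Finset.sum_insert (by simp [hjk]), Finset.sum_singleton, sq3 _ hi, sq3 _ hj, sq3 _ hk,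
        hn] at hsum
      omega
  · rintro ⟨⟨c, hd⟩, hn, hb⟩
    refine ⟨mem_leechLattice_of_leechDesc hd, hn, ?_⟩
    classical
    set T : Finset GolayPt := Finset.univ.filter (fun i => |x i| = 3) with hT
    have hsq : ∀ i, x i ^ 2 = 1 + 8 * (if |x i| = 3 then 1 else 0) := by
      intro i
      have h1 := parity_of_desc hd i
      have h2 := hb i
      have : x i = -3 ∨ x i = -1 ∨ x i = 1 ∨ x i = 3 := by omega
      rcases this with h | h | h | h <;> rw [h] <;> norm_num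
    have hsum : sqNorm x = 24 + 8 * (T.card : ℤ) := by
      unfold sqNorm
      rw [Finset.sum_congr rfl (fun i _ => hsq i), Finset.sum_add_distrib, ← Finset.mul_sum,
        Finset.sum_boole, Finset.sum_const, Finset.card_univ, card_golayPt]
      simp [hT]
    have hT3 : T.card = 3 := by
      rw [hn] at hsum
      omega
    obtain ⟨i, j, k, hij, hik, hjk, hTe⟩ := Finset.card_eq_three.1 hT3
    have hmem : ∀ t, t ∈ T → |x t| = 3 := by
      intro t ht
      rw [hT, Finset.mem_filter] at ht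
      exact ht.2
    refine ⟨i, j, k, hij, hjk, hik, hmem i ?_, hmem j ?_, hmem k ?_⟩ <;> rw [hTe] <;> simp

theorem ncard_shape48_a :
    {x : GolayPt → ℤ | x ∈ leechLattice ∧ sqNorm x = 48 ∧ ∀ i, x i = 0 ∨ x i = 2 ∨ x i = -2}.ncard
      = 5275648 := by
  rw [shape48_a, Set.ncard, encard_Par_0_48_3]
  rfl

theorem ncard_shape48_b :
    {x : GolayPt → ℤ | x ∈ leechLattice ∧ sqNorm x = 48 ∧
        ∃ i j k, i ≠ j ∧ j ≠ k ∧ i ≠ k ∧ |x i| = 3 ∧ |x j| = 3 ∧ |x k| = 3}.ncard = 8290304 := by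
  rw [shape48_b, Set.ncard, encard_Par_1_48_3]
  rfl

theorem ncard_shape48_c :
    {x : GolayPt → ℤ | x ∈ leechLattice ∧ sqNorm x = 48 ∧ ∃ i, |x i| = 4}.ncard = 3108864 := by
  rw [shape48_c, ncard_diff_of_encard (Par_mono 0 48 (by norm_num)) encard_Par_0_48_3
    encard_Par_0_48_8]

theorem ncard_shape48_d :
    {x : GolayPt → ℤ | x ∈ leechLattice ∧ sqNorm x = 48 ∧ ∃ i, |x i| = 5}.ncard = 98304 := by
  rw [shape48_d, ncard_diff_of_encard (Par_mono 1 48 (by norm_num)) encard_Par_1_48_3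
    encard_Par_1_48_8]

end Cfsg.Agent.Lib.H27
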