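import Mathlib

set_option autoImplicit false

namespace Cfsg.Agent.Lib.H27.LinPoly

open Polynomial

variable {F : Type*} [Field F]

/-- the linearised polynomial with coefficients `a`. -/
noncomputable def linPoly {n : ℕ} (a : Fin n → F) : F[X] :=
  ∑ i : Fin n, C (a i) * X ^ (2 ^ (i : ℕ))

theorem linPoly_eval {n : ℕ} (a : Fin n → F) (x : F) :
    (linPoly a).eval x = ∑ i : Fin n, a i * x ^ (2 ^ (i : ℕ)) := by
  simp [linPoly, eval_finsetSum]

theorem linPoly_coeff {n : ℕ} (a : Fin n → F) (j : Fin n) :
    (linPoly a).coeff (2 ^ (j : ℕ)) = a j := by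
  classical
  unfold linPoly
  rw [finsetSum_coeff]
  rw [Finset.sum_eq_single j]
  · simp
  · intro i _ hij
    rw [coeff_C_mul, coeff_X_pow]
    have : (2:ℕ) ^ (j:ℕ) ≠ 2 ^ (i:ℕ) := by
      intro h
      have := Nat.pow_right_injective (le_refl 2) h
      exact hij (Fin.ext this.symm)
    simp [this]
  · intro h; exact absurd (Finset.mem_univ j) h

theorem linPoly_natDegree_lt {n : ℕ} (a : Fin n → F) (hn : 0 < n) :
    (linPoly a).natDegree < 2 ^ n := by
  unfold linPoly
  refine lt_of_le_of_lt (natDegree_sum_le_of_forall_le (n := 2 ^ (n - 1)) _ _ ?_) ?_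
  · intro i _
    refine le_trans (natDegree_C_mul_X_pow_le _ _) ?_
    exact Nat.pow_le_pow_right (by norm_num) (by omega)
  · exact Nat.pow_lt_pow_right (by norm_num) (by omega)

end Cfsg.Agent.Lib.H27.LinPoly

namespace Cfsg.Agent.Lib.H27.LinPoly

open Polynomial

variable {F : Type*} [Field F]

/-- (A) a linearised polynomial of "length" `n` vanishing on a field with `2 ^ n` elements has zero
coefficients. -/
theorem coeff_eq_zero_of_forall_eval [Finite F] {n : ℕ} (hn : Nat.card F = 2 ^ n)
    (a : Fin n → F) (h : ∀ x : F, ∑ i : Fin n, a i * x ^ (2 ^ (i : ℕ)) = 0) : a = 0 := by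
  classical
  haveI := Fintype.ofFinite F
  have hn0 : 0 < n := by
    rcases Nat.eq_zero_or_pos n with h0 | h0
    · subst h0
      have : 1 < Nat.card F := Finite.one_lt_card
      omega
    · exact h0
  have hP : linPoly a = 0 := by
    apply Polynomial.eq_zero_of_natDegree_lt_card_of_eval_eq_zero (linPoly a)
      (f := (id : F → F)) Function.injective_id
    · intro x
      rw [linPoly_eval]
      exact h x
    · rw [← Nat.card_eq_fintype_card, hn]
      exact linPoly_natDegree_lt a hn0
  funext j
  have := linPoly_coeff a j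
  rw [hP] at this
  simpa using this.symm

/-- the additive map attached to a coefficient vector (characteristic 2). -/
noncomputable def toAddHom [CharP F 2] {n : ℕ} (a : Fin n → F) : F →+ F where
  toFun x := ∑ i : Fin n, a i * x ^ (2 ^ (i : ℕ))
  map_zero' := by simp
  map_add' x y := by
    haveI : Fact (Nat.Prime 2) := ⟨Nat.prime_two⟩
    simp only [add_pow_char_pow, mul_add, Finset.sum_add_distrib]

@[simp] theorem toAddHom_apply [CharP F 2] {n : ℕ} (a : Fin n → F) (x : F) :
    toAddHom a x = ∑ i : Fin n, a i * x ^ (2 ^ (i : ℕ)) := rfl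

theorem toAddHom_add [CharP F 2] {n : ℕ} (a b : Fin n → F) :
    toAddHom (a + b) = toAddHom a + toAddHom b := by
  ext x
  simp [add_mul, Finset.sum_add_distrib]

theorem toAddHom_sub [CharP F 2] {n : ℕ} (a b : Fin n → F) :
    toAddHom (a - b) = toAddHom a - toAddHom b := by
  ext x
  simp [sub_mul, Finset.sum_sub_distrib]

theorem toAddHom_injective [CharP F 2] [Finite F] {n : ℕ} (hn : Nat.card F = 2 ^ n) :
    Function.Injective (toAddHom (F := F) (n := n)) := by
  intro a b hab
  have h0 : toAddHom (a - b) = 0 := by rw [toAddHom_sub, hab, sub_self]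
  have := coeff_eq_zero_of_forall_eval hn (a - b) (fun x => by
    have := DFunLike.congr_fun h0 x
    simpa using this)
  exact sub_eq_zero.mp this

theorem natCard_addHom [CharP F 2] [Finite F] {n : ℕ} (hn : Nat.card F = 2 ^ n) :
    Nat.card (F →+ F) = 2 ^ (n * n) := by
  letI : Algebra (ZMod 2) F := ZMod.algebra F 2
  haveI : Module.Finite (ZMod 2) F := Module.Finite.of_finite
  have hfr : Module.finrank (ZMod 2) F = n := by
    have h1 := Module.natCard_eq_pow_finrank (K := ZMod 2) (V := F)
    rw [hn, Nat.card_zmod] at h1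
    exact (Nat.pow_right_injective (le_refl 2) h1).symm
  rw [Nat.card_congr (AddMonoidHom.toZModLinearMapEquiv 2 (M := F) (M₁ := F)).toEquiv]
  have h2 := Module.natCard_eq_pow_finrank (K := ZMod 2) (V := F →ₗ[ZMod 2] F)
  rw [h2, Nat.card_zmod, Module.finrank_linearMap, hfr]

/-- (B) every additive endomorphism of a field with `2 ^ n` elements is a linearised polynomial
map, with unique coefficients. -/
theorem toAddHom_bijective [CharP F 2] [Finite F] {n : ℕ} (hn : Nat.card F = 2 ^ n) :
    Function.Bijective (toAddHom (F := F) (n := n)) := by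
  haveI : Finite (F →+ F) := by
    apply Nat.finite_of_card_ne_zero
    rw [natCard_addHom hn]
    positivity
  apply (toAddHom_injective hn).bijective_of_nat_card_le
  rw [natCard_addHom hn, Nat.card_fun, Nat.card_fin, hn, ← pow_mul]

theorem exists_unique_coeff [CharP F 2] [Finite F] {n : ℕ} (hn : Nat.card F = 2 ^ n)
    (φ : F →+ F) : ∃! a : Fin n → F, ∀ x : F, φ x = ∑ i : Fin n, a i * x ^ (2 ^ (i : ℕ)) := by
  obtain ⟨a, ha⟩ := (toAddHom_bijective hn).2 φ
  refine ⟨a, fun x => by rw [← ha]; rfl, ?_⟩
  intro b hb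
  apply toAddHom_injective hn
  rw [ha]
  ext x
  rw [toAddHom_apply, hb x]

end Cfsg.Agent.Lib.H27.LinPoly
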