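/-
helper27 library: the centralizer `C_Q(A)` of an odd-order group `A` of automorphisms of an
extraspecial 2-group `Q` with `C_G(Q) = Z(Q)`: `Z(C_Q(A)) = Z(Q)`, and `C_Q(A)` is `Z(Q)` or
extraspecial (no largeness hypothesis, `A = 1` allowed; the argument of S5434).
-/
import Mathlib
import Cfsg.Agent.Lib.H27.Extraspecial
import Cfsg.Agent.Lib.H1.CoprimeAction
import Cfsg.Agent.S5434

set_option autoImplicit false
set_option linter.style.haveILetI false

namespace Cfsg.Agent.Lib.H27

namespace LxS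

open Cfsg Cfsg.Agent.Lib.H1
open scoped commutatorElement

variable {G : Type*} [Group G]

theorem cent_odd [Finite G] (Q : Subgroup G) (hES : IsExtraspecial 2 ↥Q)
    (hcent : Subgroup.centralizer (Q : Set G) = (Subgroup.center ↥Q).map Q.subtype)
    (A : Subgroup G) (hA : A ≤ Subgroup.normalizer (Q : Set G)) (hAodd : Odd (Nat.card ↥A)) :
    (Q ⊓ Subgroup.centralizer (A : Set G)) ⊓
        Subgroup.centralizer ((Q ⊓ Subgroup.centralizer (A : Set G) : Subgroup G) : Set G) ≤
      (Subgroup.center ↥Q).map Q.subtype ∧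
    (Subgroup.center ↥Q).map Q.subtype ≤ Q ⊓ Subgroup.centralizer (A : Set G) ∧
    (Q ⊓ Subgroup.centralizer (A : Set G) = (Subgroup.center ↥Q).map Q.subtype ∨
      IsExtraspecial 2 ↥(Q ⊓ Subgroup.centralizer (A : Set G))) := by
  haveI : Fact (Nat.Prime 2) := ⟨Nat.prime_two⟩
  obtain ⟨hp, hZQ, hZcard, hZcen, hZcomm, hZpow⟩ := extraspecial_data 2 Q hES
  obtain ⟨Z, hZ⟩ : ∃ Z : Subgroup G, Z = (Subgroup.center ↥Q).map Q.subtype := ⟨_, rfl⟩
  rw [← hZ] at hcent hZQ hZcard hZcen hZcomm hZpow ⊢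
  -- coprime action
  have hcop : (Nat.card A).Coprime (Nat.card Q) := by
    obtain ⟨n, hn⟩ := hp.exists_card_eq
    rw [hn]
    exact Nat.Coprime.pow_right n (Nat.coprime_two_right.mpr hAodd)
  have hnil : Group.IsNilpotent ↥Q := hp.isNilpotent
  have hCA : CoprimeAction A Q := ⟨hA, hcop, Or.inr inferInstance⟩
  obtain ⟨C, hC⟩ : ∃ C : Subgroup G, C = Q ⊓ Subgroup.centralizer (A : Set G) := ⟨_, rfl⟩
  obtain ⟨R, hR⟩ : ∃ R : Subgroup G, R = ⁅Q, A⁆ := ⟨_, rfl⟩
  rw [← hC]
  have hRQ : R ≤ Q := by rw [hR]; exact hCA.commutator_le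
  have hCQ : C ≤ Q := by rw [hC]; exact inf_le_left
  have hsup : C ⊔ R = Q := by
    rw [hC, hR, sup_comm]; exact coprime_commutator_sup_centralizer hCA
  -- A centralizes Z
  have hAZ : ∀ a ∈ A, ∀ z ∈ Z, a * z = z * a := by
    intro a ha z hz
    have hconj : a * z * a⁻¹ ∈ Z := by
      rw [← hcent, Subgroup.mem_centralizer_iff]
      intro q hq
      have hq' : a⁻¹ * q * a ∈ Q := hCA.conj_mem' ha hq
      have hz' : z ∈ Subgroup.centralizer (Q : Set G) := by rw [hcent]; exact hz
      have := (Subgroup.mem_centralizer_iff.mp hz') _ hq'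
      calc q * (a * z * a⁻¹) = a * ((a⁻¹ * q * a) * z) * a⁻¹ := by group
        _ = a * (z * (a⁻¹ * q * a)) * a⁻¹ := by rw [this]
        _ = a * z * a⁻¹ * q := by group
    by_cases hz1 : z = 1
    · rw [hz1]; simp
    · obtain ⟨y, -, hy⟩ := (Nat.card_eq_two_iff' (1 : ↥Z)).mp hZcard
      have e1 : (⟨z, hz⟩ : ↥Z) = y := hy _ (by
        intro h; exact hz1 (congrArg Subtype.val h))
      have e2 : (⟨a * z * a⁻¹, hconj⟩ : ↥Z) = y := hy _ (by
        intro h
        have := congrArg Subtype.val h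
        simp only [Subgroup.coe_one] at this
        apply hz1
        have h3 : z = a⁻¹ * (a * z * a⁻¹) * a := by group
        rw [h3, this]; group)
      have := congrArg Subtype.val (e2.trans e1.symm)
      simp only at this
      calc a * z = (a * z * a⁻¹) * a := by group
        _ = z * a := by rw [this]
  have hZcA : Z ≤ Subgroup.centralizer (A : Set G) := by
    intro z hz
    rw [Subgroup.mem_centralizer_iff]
    intro a ha
    exact hAZ a ha z hz
  have hZA : ⁅Z, A⁆ = ⊥ := Subgroup.commutator_eq_bot_iff_le_centralizer.mpr hZcA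
  have hRC : ⁅R, C⁆ = ⊥ := by
    rw [hR]
    apply Subgroup.commutator_commutator_eq_bot_of_rotate
    · have : ⁅A, C⁆ = ⊥ := by
        rw [Subgroup.commutator_eq_bot_iff_le_centralizer, Subgroup.le_centralizer_iff, hC]
        exact inf_le_right
      rw [this, Subgroup.commutator_bot_left]
    · have h1 : ⁅C, Q⁆ ≤ Z := by
        rw [← hZcomm]; exact Subgroup.commutator_mono hCQ le_rfl
      have h2 : ⁅⁅C, Q⁆, A⁆ ≤ ⁅Z, A⁆ := Subgroup.commutator_mono h1 le_rfl
      rw [hZA] at h2
      exact le_bot_iff.mp h2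
  have hRcC : R ≤ Subgroup.centralizer (C : Set G) :=
    Subgroup.commutator_eq_bot_iff_le_centralizer.mp hRC
  have hCcR : C ≤ Subgroup.centralizer (R : Set G) := Subgroup.le_centralizer_iff.mp hRcC
  have hkey : ∀ x, x ∈ Subgroup.centralizer (C : Set G) → x ∈ Subgroup.centralizer (R : Set G) →
      x ∈ Z := by
    intro x hxC hxR
    rw [← hcent]
    have h1 : Subgroup.zpowers x ≤ Subgroup.centralizer (C : Set G) := by
      rw [Subgroup.zpowers_le]; exact hxC
    have h2 : Subgroup.zpowers x ≤ Subgroup.centralizer (R : Set G) := by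
      rw [Subgroup.zpowers_le]; exact hxR
    have h3 : Q ≤ Subgroup.centralizer (Subgroup.zpowers x : Set G) := by
      rw [← hsup]
      exact sup_le (Subgroup.le_centralizer_iff.mp h1) (Subgroup.le_centralizer_iff.mp h2)
    exact (Subgroup.le_centralizer_iff.mp h3) (Subgroup.mem_zpowers x)
  have hZcen' : Z ≤ Subgroup.centralizer (Q : Set G) := by rw [hcent]
  have hCcen_le : C ⊓ Subgroup.centralizer (C : Set G) ≤ Z := by
    intro x hx
    obtain ⟨hxC, hxc⟩ := Subgroup.mem_inf.mp hx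
    exact hkey x hxc (hCcR hxC)
  have hZC : Z ≤ C := by rw [hC]; exact le_inf hZQ hZcA
  refine ⟨hCcen_le, hZC, ?_⟩
  by_cases hCZ : C = Z
  · left; exact hCZ
  · right
    have hCC_le : ⁅C, C⁆ ≤ Z := by rw [← hZcomm]; exact Subgroup.commutator_mono hCQ hCQ
    have hCC : ⁅C, C⁆ = Z := by
      rcases Cfsg.Agent.S5434.eq_bot_or_eq_of_le_prime 2 _ Z hCC_le hZcard with h | h
      · exfalso
        have h1 : C ≤ Subgroup.centralizer (C : Set G) :=
          Subgroup.commutator_eq_bot_iff_le_centralizer.mp h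
        have h2 : C ≤ Z := fun x hx => hCcen_le (Subgroup.mem_inf.mpr ⟨hx, h1 hx⟩)
        exact hCZ (le_antisymm h2 hZC)
      · exact h
    apply isExtraspecial_subgroup 2 C Z (hp.to_le hCQ) hZC hZcard ?_ hCC
      (fun x hx => hZpow x (hCQ hx))
    apply le_antisymm hCcen_le
    exact le_inf hZC (hZcen'.trans (Subgroup.centralizer_le hCQ))

end LxS

end Cfsg.Agent.Lib.H27
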