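/-
helper27 library: large extraspecial 2-subgroups (Aschbacher, Sporadic Groups, section 8):
the fixed point lemmas (every non-trivial subgroup normalized by `Q` contains the central
involution `z`) and the case `O_2(G) ≠ 1` of the structure theorem for `⟨z^G⟩`.
-/
import Mathlib
import Cfsg.Agent.S5422
import Cfsg.Agent.Lib.H16.PGroupCenter
import Cfsg.Agent.Lib.H27.Basic
import Cfsg.Agent.Lib.H14.Subnormal
import Cfsg.Agent.Lib.H7.PLocal

set_option autoImplicit false
set_option linter.style.haveILetI false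

namespace Cfsg.Agent.Lib.H27

namespace LxS

open Cfsg Cfsg.Agent.Lib.H22.LargeExtra

variable {G : Type*} [Group G]

/-- The elementwise data of a large extraspecial subgroup with central involution `z`. -/
structure LCtx (Q : Subgroup G) (z : G) : Prop where
  lx : LX Q z
  two : IsPGroup 2 Q
  large : ∀ K : Subgroup G, Odd (Nat.card K) → Q ≤ Subgroup.normalizer (K : Set G) → K = ⊥

theorem mk_lctx [Finite G] (Q : Subgroup G) (hQ : IsLargeExtraspecial Q) (z : G)
    (hz : ((Subgroup.center ↥Q).map Q.subtype) = Subgroup.zpowers z) : LCtx Q z := by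
  obtain ⟨z0, hZmem, hLX0⟩ := Cfsg.Agent.S5422.lx_of_extraspecial Q hQ.1 hQ.2.1 hQ.2.2.1
  have hz0 : z0 ∈ Subgroup.zpowers z := by
    rw [← hz]
    exact (hZmem z0).mpr (Or.inr rfl)
  have hzz : z ∈ ((Subgroup.center ↥Q).map Q.subtype) := by
    rw [hz]
    exact Subgroup.mem_zpowers z
  have hzz0 : z = z0 := by
    rcases (hZmem z).mp hzz with h | h
    · exfalso
      rw [h, Subgroup.zpowers_one_eq_bot, Subgroup.mem_bot] at hz0
      exact hLX0.ne_one hz0
    · exact h
  refine ⟨by rw [hzz0]; exact hLX0, hQ.1.1.1, hQ.2.2.2⟩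

variable {Q : Subgroup G} {z : G}

theorem LCtx.zinv (h : LCtx Q z) : z⁻¹ = z := inv_eq_of_mul_eq_one_right h.lx.sq_one

/-- `Q` has exponent dividing four. -/
theorem LCtx.pow_four (h : LCtx Q z) {a : G} (ha : a ∈ Q) : a ^ 4 = 1 := by
  have h4 : a ^ 4 = (a * a) * (a * a) := by
    rw [show (4 : ℕ) = 2 + 2 from rfl, pow_add, pow_two]
  rw [h4]
  rcases h.lx.sq a ha with h1 | h1
  · rw [h1, one_mul]
  · rw [h1, h.lx.sq_one]

/-- An element centralizing `Q` is `1` or `z`. -/
theorem LCtx.eq_of_centralizes (h : LCtx Q z) {c : G} (hc : ∀ a ∈ Q, a * c = c * a) :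
    c = 1 ∨ c = z :=
  h.lx.center c (h.lx.cent c hc) hc

theorem le_normalizer_of_conj_mem {Q N : Subgroup G}
    (hc : ∀ v ∈ Q, ∀ n ∈ N, v * n * v⁻¹ ∈ N) : Q ≤ Subgroup.normalizer (N : Set G) := by
  intro v hv
  rw [Subgroup.mem_normalizer_iff]
  intro n
  constructor
  · exact hc v hv n
  · intro hn
    have := hc v⁻¹ (Q.inv_mem hv) _ hn
    have e : v⁻¹ * (v * n * v⁻¹) * v⁻¹⁻¹ = n := by group
    rwa [e] at this

theorem conj_mem_of_le_normalizer {Q N : Subgroup G} (hQN : Q ≤ Subgroup.normalizer (N : Set G))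
    {v n : G} (hv : v ∈ Q) (hn : n ∈ N) : v * n * v⁻¹ ∈ N :=
  (Subgroup.mem_normalizer_iff.mp (hQN hv) n).mp hn

/-- A non-trivial 2-subgroup normalized by `Q` contains `z`. -/
theorem LCtx.mem_of_two_group [Finite G] (h : LCtx Q z) {N : Subgroup G} (hN2 : IsPGroup 2 N)
    (hN1 : N ≠ ⊥) (hQN : Q ≤ Subgroup.normalizer (N : Set G)) : z ∈ N := by
  haveI : Fact (Nat.Prime 2) := ⟨Nat.prime_two⟩
  set P : Subgroup G := N ⊔ Q with hP
  have hP2 : IsPGroup 2 P := IsPGroup.to_sup_of_normal_left' hN2 h.two hQN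
  have hPN : P ≤ Subgroup.normalizer (N : Set G) := sup_le Subgroup.le_normalizer hQN
  haveI hnorm : (N.subgroupOf P).Normal := Subgroup.normal_subgroupOf_of_le_normalizer hPN
  have hne : N.subgroupOf P ≠ ⊥ := by
    intro hb
    apply hN1
    rw [eq_bot_iff]
    intro n hn
    have hnP : n ∈ P := (le_sup_left : N ≤ P) hn
    have : (⟨n, hnP⟩ : P) ∈ N.subgroupOf P := Subgroup.mem_subgroupOf.mpr hn
    rw [hb, Subgroup.mem_bot] at this
    rw [Subgroup.mem_bot]
    exact congrArg Subtype.val this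
  obtain ⟨x, hxN, hx1, hxc⟩ :=
    Cfsg.Agent.Lib.H16.exists_ne_one_mem_center_of_normal' Nat.prime_two hP2 (N.subgroupOf P) hne
  have hxN' : (x : G) ∈ N := Subgroup.mem_subgroupOf.mp hxN
  have hcomm : ∀ a ∈ Q, a * (x : G) = (x : G) * a := by
    intro a ha
    have haP : a ∈ P := (le_sup_right : Q ≤ P) ha
    have := Subgroup.mem_center_iff.mp hxc ⟨a, haP⟩
    exact congrArg Subtype.val this
  rcases h.eq_of_centralizes hcomm with h1 | h1
  · exfalso
    apply hx1
    exact Subtype.ext h1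
  · rw [← h1]
    exact hxN'

/-- A non-trivial subgroup normalized by `Q` contains `z`. -/
theorem LCtx.mem_of_normalized [Finite G] (h : LCtx Q z) {N : Subgroup G} (hN1 : N ≠ ⊥)
    (hQN : Q ≤ Subgroup.normalizer (N : Set G)) : z ∈ N := by
  by_cases hNQ : N ⊓ Q = ⊥
  · exfalso
    -- `z` acts without fixed points
    have hfpf : ∀ k ∈ N, z * k = k * z → k = 1 := by
      intro k hk hkz
      have hkz' : k * z = z * k := hkz.symm
      have hcomm : ∀ a ∈ Q, a * k = k * a := by
        intro a ha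
        have h1 : k * a * k⁻¹ * a⁻¹ ∈ N ⊓ Q := by
          refine Subgroup.mem_inf.mpr ⟨?_, ?_⟩
          · have h2 : a * k⁻¹ * a⁻¹ ∈ N := conj_mem_of_le_normalizer hQN ha (N.inv_mem hk)
            have e : k * a * k⁻¹ * a⁻¹ = k * (a * k⁻¹ * a⁻¹) := by group
            rw [e]
            exact N.mul_mem hk h2
          · exact Q.mul_mem (h.lx.normal k hkz' a ha) (Q.inv_mem ha)
        rw [hNQ, Subgroup.mem_bot] at h1
        calc a * k = (k * a * k⁻¹ * a⁻¹)⁻¹ * (k * a) := by group
          _ = k * a := by rw [h1, inv_one, one_mul]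
      have hkQ : k ∈ Q := h.lx.cent k hcomm
      have : k ∈ N ⊓ Q := Subgroup.mem_inf.mpr ⟨hk, hkQ⟩
      rwa [hNQ, Subgroup.mem_bot] at this
    have hnz : ∀ k ∈ N, z * k * z⁻¹ ∈ N := fun k hk => conj_mem_of_le_normalizer hQN h.lx.mem hk
    have hinv := inverts_of_fixedPointFree N z h.lx.sq_one hnz hfpf
    -- hence `N` has odd order
    have hodd : Odd (Nat.card N) := by
      by_contra hev
      rw [Nat.not_odd_iff_even, even_iff_two_dvd] at hev
      obtain ⟨k, hk⟩ := exists_prime_orderOf_dvd_card' 2 hev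
      have hk2 : (k : G) * k = 1 := by
        have : k ^ 2 = 1 := by rw [← hk]; exact pow_orderOf_eq_one k
        have := congrArg Subtype.val this
        simpa [pow_two] using this
      have hkinv : (k : G)⁻¹ = k := inv_eq_of_mul_eq_one_right hk2
      have h1 := hinv k k.2
      rw [hkinv] at h1
      have h2 : z * (k : G) = k * z := by
        calc z * (k : G) = (z * k * z⁻¹) * z := by group
          _ = k * z := by rw [h1]
      have h3 := hfpf k k.2 h2
      have h4 : k = 1 := Subtype.ext h3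
      rw [h4, orderOf_one] at hk
      omega
    exact hN1 (h.large N hodd hQN)
  · have h2 : IsPGroup 2 ↥(N ⊓ Q) := h.two.to_le inf_le_right
    have h3 : Q ≤ Subgroup.normalizer ((N ⊓ Q : Subgroup G) : Set G) := by
      apply le_normalizer_of_conj_mem
      intro v hv n hn
      rw [Subgroup.mem_inf] at hn ⊢
      exact ⟨conj_mem_of_le_normalizer hQN hv hn.1,
        Q.mul_mem (Q.mul_mem hv hn.2) (Q.inv_mem hv)⟩
    exact (Subgroup.mem_inf.mp (h.mem_of_two_group h2 hNQ h3)).1

/-- A non-trivial normal subgroup contains `z`. -/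
theorem LCtx.mem_of_normal [Finite G] (h : LCtx Q z) {N : Subgroup G} (hN : N.Normal)
    (hN1 : N ≠ ⊥) : z ∈ N := by
  apply h.mem_of_normalized hN1
  intro v _
  rw [Subgroup.normalizer_eq_top_iff.mpr hN]
  trivial

/-- A non-trivial normal subgroup contains the normal closure of `z`. -/
theorem LCtx.normalClosure_le [Finite G] (h : LCtx Q z) {N : Subgroup G} (hN : N.Normal)
    (hN1 : N ≠ ⊥) : Subgroup.normalClosure ({z} : Set G) ≤ N := by
  haveI := hN
  apply Subgroup.normalClosure_le_normal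
  intro x hx
  rw [Set.mem_singleton_iff] at hx
  rw [hx]
  exact h.mem_of_normal hN hN1

/-- Normal subgroups of odd order are trivial. -/
theorem LCtx.odd_normal_eq_bot (h : LCtx Q z) {N : Subgroup G} (hN : N.Normal)
    (hodd : Odd (Nat.card N)) : N = ⊥ := by
  apply h.large N hodd
  intro v _
  rw [Subgroup.normalizer_eq_top_iff.mpr hN]
  trivial

/-- The odd cores are trivial. -/
theorem LCtx.pCore_eq_bot [Finite G] (h : LCtx Q z) (p : ℕ) [hp : Fact p.Prime] (hp2 : p ≠ 2) :
    pCore p G = ⊥ := by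
  apply h.odd_normal_eq_bot (Cfsg.Agent.Lib.H1.pCore_normal p G)
  obtain ⟨n, hn⟩ := (Cfsg.Agent.Lib.H1.pCore_isPGroup p G).exists_card_eq
  rw [hn]
  exact Odd.pow (hp.out.odd_of_ne_two hp2)

end LxS

end Cfsg.Agent.Lib.H27
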