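/-
helper27 library: passing to the quotient by a central subgroup `N = {1, t}`.
If `R ≤ K` is a 2-group containing `t` and an involution `z`, with commutators and squares in
`{1, z}`, `Z(R) = {1, z, t, zt}`, and the obvious self-centralizing / normalizing conditions modulo
`N`, then the image of `R` in `K ⧸ N` is extraspecial with centre `⟨z̄⟩`, self-centralizing, and the
centralizer of `z̄` normalizes it. With one fusion `z ~ x ∈ R` it is a large extraspecial subgroup
(via S5422).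
-/
import Mathlib
import Cfsg.Agent.Lib.H27.Extraspecial
import Cfsg.Agent.Lib.H27.LxStructA
import Cfsg.Agent.S5422

set_option autoImplicit false
set_option linter.style.haveILetI false

namespace Cfsg.Agent.Lib.H27

namespace LxS

open Cfsg

variable {K : Type*} [Group K]

/-- Elementwise data for `R ≤ K` modulo `N = {1, t}`. -/
structure QCtx (N R : Subgroup K) (t z : K) : Prop where
  memN : ∀ k : K, k ∈ N ↔ k = 1 ∨ k = t
  t1 : t ≠ 1
  two : IsPGroup 2 R
  tR : t ∈ R
  zR : z ∈ R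
  z1 : z ≠ 1
  zt : z ≠ t
  zz : z * z = 1
  zc : ∀ a ∈ R, a * z = z * a
  comm : ∀ a ∈ R, ∀ b ∈ R, a * b * a⁻¹ * b⁻¹ = 1 ∨ a * b * a⁻¹ * b⁻¹ = z
  sq : ∀ a ∈ R, a * a = 1 ∨ a * a = z
  cen : ∀ a ∈ R, (∀ b ∈ R, a * b = b * a) → a = 1 ∨ a = z ∨ a = t ∨ a = z * t
  cent : ∀ c : K, (∀ b ∈ R, c * b * c⁻¹ * b⁻¹ = 1 ∨ c * b * c⁻¹ * b⁻¹ = t) → c ∈ R
  norm : ∀ c : K, (c * z * c⁻¹ * z⁻¹ = 1 ∨ c * z * c⁻¹ * z⁻¹ = t) → ∀ p ∈ R, c * p * c⁻¹ ∈ R
  nonab : ∃ a ∈ R, ∃ b ∈ R, a * b * a⁻¹ * b⁻¹ = z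

namespace QCtx

variable {N R : Subgroup K} {t z : K} [hN : N.Normal] (h : QCtx N R t z)
include h

theorem mk_eq_one_iff {k : K} : (QuotientGroup.mk' N k = 1) ↔ k = 1 ∨ k = t := by
  rw [QuotientGroup.mk'_apply, QuotientGroup.eq_one_iff, h.memN]

theorem mk_z_ne_one : QuotientGroup.mk' N z ≠ 1 := by
  intro h1
  rcases h.mk_eq_one_iff.mp h1 with h2 | h2
  · exact h.z1 h2
  · exact h.zt h2

theorem mk_z_sq : QuotientGroup.mk' N z * QuotientGroup.mk' N z = 1 := by
  rw [← map_mul, h.zz, map_one]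

theorem orderOf_mk_z : orderOf (QuotientGroup.mk' N z) = 2 := by
  apply orderOf_eq_prime
  · rw [pow_two]; exact h.mk_z_sq
  · exact h.mk_z_ne_one

theorem mem_zpowers_iff {y : K ⧸ N} :
    y ∈ Subgroup.zpowers (QuotientGroup.mk' N z) ↔ y = 1 ∨ y = QuotientGroup.mk' N z := by
  constructor
  · intro hy
    obtain ⟨k, rfl⟩ := Subgroup.mem_zpowers_iff.mp hy
    have h2 : (QuotientGroup.mk' N z) ^ (2 : ℤ) = 1 := by
      rw [zpow_ofNat, pow_two]; exact h.mk_z_sq
    rcases Int.emod_two_eq_zero_or_one k with hk | hk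
    · left
      rw [← Int.mul_ediv_add_emod k 2, hk, add_zero, zpow_mul, h2, one_zpow]
    · right
      rw [← Int.mul_ediv_add_emod k 2, hk, zpow_add, zpow_mul, h2, one_zpow, one_mul, zpow_one]
  · rintro (rfl | rfl)
    · exact Subgroup.one_mem _
    · exact Subgroup.mem_zpowers _

theorem zpowers_le : Subgroup.zpowers (QuotientGroup.mk' N z) ≤ R.map (QuotientGroup.mk' N) := by
  rw [Subgroup.zpowers_le]
  exact Subgroup.mem_map_of_mem _ h.zR

theorem comm_eq_one {a b : K} (ha : a ∈ R) (hb : b ∈ R)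
    (hab : a * b * a⁻¹ * b⁻¹ = 1 ∨ a * b * a⁻¹ * b⁻¹ = t) : a * b = b * a := by
  have h1 : a * b * a⁻¹ * b⁻¹ = 1 := by
    rcases hab with h1 | h1
    · exact h1
    · rcases h.comm a ha b hb with h2 | h2
      · exact h2
      · exfalso
        exact h.zt (h2.symm.trans h1)
  calc a * b = (a * b * a⁻¹ * b⁻¹) * (b * a) := by group
    _ = b * a := by rw [h1, one_mul]

theorem mk_comm_iff {c b : K} :
    QuotientGroup.mk' N c * QuotientGroup.mk' N b = QuotientGroup.mk' N b * QuotientGroup.mk' N c ↔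
      (c * b * c⁻¹ * b⁻¹ = 1 ∨ c * b * c⁻¹ * b⁻¹ = t) := by
  rw [← h.mk_eq_one_iff, map_mul, map_mul, map_mul, map_inv, map_inv]
  constructor
  · intro h1
    rw [h1]; group
  · intro h1
    calc QuotientGroup.mk' N c * QuotientGroup.mk' N b
        = (QuotientGroup.mk' N c * QuotientGroup.mk' N b * (QuotientGroup.mk' N c)⁻¹ *
            (QuotientGroup.mk' N b)⁻¹) * (QuotientGroup.mk' N b * QuotientGroup.mk' N c) := by group
      _ = QuotientGroup.mk' N b * QuotientGroup.mk' N c := by rw [h1, one_mul]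

/-- `R̄ ∩ C(R̄) = ⟨z̄⟩`. -/
theorem inf_centralizer_eq :
    R.map (QuotientGroup.mk' N) ⊓
      Subgroup.centralizer ((R.map (QuotientGroup.mk' N) : Subgroup (K ⧸ N)) : Set (K ⧸ N)) =
    Subgroup.zpowers (QuotientGroup.mk' N z) := by
  apply le_antisymm
  · intro y hy
    obtain ⟨hyR, hyC⟩ := Subgroup.mem_inf.mp hy
    obtain ⟨a, ha, rfl⟩ := Subgroup.mem_map.mp hyR
    rw [Subgroup.mem_centralizer_iff] at hyC
    have hcomm : ∀ b ∈ R, a * b = b * a := by
      intro b hb
      have h1 := hyC _ (Subgroup.mem_map_of_mem (QuotientGroup.mk' N) hb)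
      exact h.comm_eq_one ha hb (h.mk_comm_iff.mp h1.symm)
    rw [h.mem_zpowers_iff]
    rcases h.cen a ha hcomm with h1 | h1 | h1 | h1
    · left; rw [h1, map_one]
    · right; rw [h1]
    · left; rw [h.mk_eq_one_iff]; exact Or.inr h1
    · right
      rw [h1, map_mul]
      have : QuotientGroup.mk' N t = 1 := h.mk_eq_one_iff.mpr (Or.inr rfl)
      rw [this, mul_one]
  · apply le_inf h.zpowers_le
    rw [Subgroup.zpowers_le, Subgroup.mem_centralizer_iff]
    intro y hy
    obtain ⟨a, ha, rfl⟩ := Subgroup.mem_map.mp hy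
    rw [← map_mul, ← map_mul, h.zc a ha]

theorem commutator_eq :
    ⁅R.map (QuotientGroup.mk' N), R.map (QuotientGroup.mk' N)⁆ =
      Subgroup.zpowers (QuotientGroup.mk' N z) := by
  apply le_antisymm
  · rw [Subgroup.commutator_le]
    intro y hy w hw
    obtain ⟨a, ha, rfl⟩ := Subgroup.mem_map.mp hy
    obtain ⟨b, hb, rfl⟩ := Subgroup.mem_map.mp hw
    rw [h.mem_zpowers_iff, commutatorElement_def, ← map_inv, ← map_inv, ← map_mul, ← map_mul,
      ← map_mul]
    rcases h.comm a ha b hb with h1 | h1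
    · left; rw [h1, map_one]
    · right; rw [h1]
  · rw [Subgroup.zpowers_le]
    obtain ⟨a, ha, b, hb, hab⟩ := h.nonab
    have h1 := Subgroup.commutator_mem_commutator
      (Subgroup.mem_map_of_mem (QuotientGroup.mk' N) ha)
      (Subgroup.mem_map_of_mem (QuotientGroup.mk' N) hb)
    rw [commutatorElement_def, ← map_inv, ← map_inv, ← map_mul, ← map_mul, ← map_mul, hab] at h1
    exact h1

theorem extraspecial [Finite K] : IsExtraspecial 2 ↥(R.map (QuotientGroup.mk' N)) := by
  haveI : Fact (Nat.Prime 2) := ⟨Nat.prime_two⟩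
  refine isExtraspecial_subgroup 2 _ (Subgroup.zpowers (QuotientGroup.mk' N z))
    (h.two.map _) h.zpowers_le ?_ h.inf_centralizer_eq h.commutator_eq ?_
  · rw [Nat.card_zpowers, h.orderOf_mk_z]
  · intro y hy
    obtain ⟨a, ha, rfl⟩ := Subgroup.mem_map.mp hy
    rw [h.mem_zpowers_iff, pow_two, ← map_mul]
    rcases h.sq a ha with h1 | h1
    · left; rw [h1, map_one]
    · right; rw [h1]

theorem center_eq :
    (Subgroup.center ↥(R.map (QuotientGroup.mk' N))).map (R.map (QuotientGroup.mk' N)).subtype =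
      Subgroup.zpowers (QuotientGroup.mk' N z) := by
  rw [map_center_eq, h.inf_centralizer_eq]

theorem centralizer_le :
    Subgroup.centralizer ((R.map (QuotientGroup.mk' N) : Subgroup (K ⧸ N)) : Set (K ⧸ N)) ≤
      R.map (QuotientGroup.mk' N) := by
  intro y hy
  obtain ⟨c, rfl⟩ := QuotientGroup.mk'_surjective N y
  rw [Subgroup.mem_centralizer_iff] at hy
  apply Subgroup.mem_map_of_mem
  apply h.cent
  intro b hb
  have h1 := hy _ (Subgroup.mem_map_of_mem (QuotientGroup.mk' N) hb)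
  exact h.mk_comm_iff.mp h1.symm

theorem centralizer_eq :
    Subgroup.centralizer ((R.map (QuotientGroup.mk' N) : Subgroup (K ⧸ N)) : Set (K ⧸ N)) =
      (Subgroup.center ↥(R.map (QuotientGroup.mk' N))).map
        (R.map (QuotientGroup.mk' N)).subtype := by
  rw [h.center_eq, ← h.inf_centralizer_eq]
  exact (inf_eq_right.mpr h.centralizer_le).symm

theorem centralizer_center_le :
    Subgroup.centralizer (((Subgroup.center ↥(R.map (QuotientGroup.mk' N))).map
        (R.map (QuotientGroup.mk' N)).subtype : Subgroup (K ⧸ N)) : Set (K ⧸ N)) ≤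
      Subgroup.normalizer ((R.map (QuotientGroup.mk' N) : Subgroup (K ⧸ N)) : Set (K ⧸ N)) := by
  rw [h.center_eq]
  apply le_normalizer_of_conj_mem
  intro y hy n hn
  obtain ⟨c, rfl⟩ := QuotientGroup.mk'_surjective N y
  obtain ⟨p, hp, rfl⟩ := Subgroup.mem_map.mp hn
  rw [Subgroup.mem_centralizer_iff] at hy
  have h1 := hy _ (Subgroup.mem_zpowers (QuotientGroup.mk' N z))
  have h2 := h.norm c (h.mk_comm_iff.mp h1.symm) p hp
  rw [← map_inv, ← map_mul, ← map_mul]
  exact Subgroup.mem_map_of_mem _ h2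

theorem card_N [Finite K] : Nat.card N = 2 := by
  rw [Nat.card_eq_two_iff]
  refine ⟨⟨1, N.one_mem⟩, ⟨t, (h.memN t).mpr (Or.inr rfl)⟩, ?_, ?_⟩
  · intro h1
    exact h.t1 (congrArg Subtype.val h1).symm
  · ext ⟨k, hk⟩
    simp only [Set.mem_insert_iff, Set.mem_singleton_iff, Set.mem_univ, iff_true]
    rcases (h.memN k).mp hk with h1 | h1
    · left; exact Subtype.ext h1
    · right; exact Subtype.ext h1

theorem N_le : N ≤ R := by
  intro k hk
  rcases (h.memN k).mp hk with h1 | h1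
  · rw [h1]; exact R.one_mem
  · rw [h1]; exact h.tR

theorem card_eq [Finite K] : Nat.card R = 2 * Nat.card ↥(R.map (QuotientGroup.mk' N)) := by
  have h1 := Subgroup.relIndex_ker (QuotientGroup.mk' N) (K := R)
  rw [QuotientGroup.ker_mk'] at h1
  have h2 := Subgroup.relIndex_mul_relIndex ⊥ N R bot_le h.N_le
  rw [Subgroup.relIndex_bot_left, Subgroup.relIndex_bot_left, h1, h.card_N] at h2
  exact h2.symm

/-- With one fusion `z ~ x ∈ R`, `x ∉ {1, z, t, zt}`, the image of `R` is large extraspecial. -/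
theorem large [Finite K] (w : ℕ) (hw : 2 ≤ w) (hcard : Nat.card R = 2 ^ (2 * w + 2))
    (y x : K) (hx : x ∈ R) (hyx : y * z * y⁻¹ = x) (hx1 : x ≠ 1) (hxz : x ≠ z) (hxt : x ≠ t)
    (hxzt : x ≠ z * t) : IsLargeExtraspecial (R.map (QuotientGroup.mk' N)) := by
  have hc : Nat.card ↥(R.map (QuotientGroup.mk' N)) = 2 ^ (2 * w + 1) := by
    have := h.card_eq
    rw [hcard, pow_succ] at this
    omega
  have hx' : QuotientGroup.mk' N x ∉ Subgroup.zpowers (QuotientGroup.mk' N z) := by
    rw [h.mem_zpowers_iff]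
    rintro (h1 | h1)
    · rcases h.mk_eq_one_iff.mp h1 with h2 | h2
      · exact hx1 h2
      · exact hxt h2
    · have h2 : QuotientGroup.mk' N (z⁻¹ * x) = 1 := by
        rw [map_mul, map_inv, h1]; group
      have hzinv : z⁻¹ = z := inv_eq_of_mul_eq_one_right h.zz
      rcases h.mk_eq_one_iff.mp h2 with h3 | h3
      · apply hxz
        calc x = z * (z⁻¹ * x) := by group
          _ = z := by rw [h3, mul_one]
      · apply hxzt
        calc x = z * (z⁻¹ * x) := by group
          _ = z * t := by rw [h3]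
  have hconj : QuotientGroup.mk' N y * QuotientGroup.mk' N z * (QuotientGroup.mk' N y)⁻¹ =
      QuotientGroup.mk' N x := by
    rw [← map_inv, ← map_mul, ← map_mul, hyx]
  refine (Cfsg.Agent.S5422.result (R.map (QuotientGroup.mk' N)) h.extraspecial h.centralizer_eq
    h.centralizer_center_le w hw hc (QuotientGroup.mk' N y) ?_ ?_).2.2
  · rw [h.center_eq]
    intro hn
    have := (Subgroup.mem_normalizer_iff.mp hn (QuotientGroup.mk' N z)).mp
      (Subgroup.mem_zpowers _)
    rw [hconj] at this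
    exact hx' this
  · rw [h.center_eq]
    rintro _ ⟨v, hv, rfl⟩
    rcases h.mem_zpowers_iff.mp hv with rfl | rfl
    · simp
    · change QuotientGroup.mk' N y * QuotientGroup.mk' N z * (QuotientGroup.mk' N y)⁻¹ ∈ _
      rw [hconj]
      exact Subgroup.mem_map_of_mem _ hx

end QCtx

end LxS

end Cfsg.Agent.Lib.H27
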