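/-
helper27 library: the extraspecial-centralizer setting (`z` an involution, `F*(C_G(z)) = Q`
extraspecial): `z ∈ Q`, `Z(Q) = ⟨z⟩`, `C_G(Q) = Z(Q)`, `C_G(z)` normalizes `Q`, and `N_G(Q) = C_G(z)`.
-/
import Mathlib
import Cfsg.Agent.Lib.H27.LxStructA
import Cfsg.Agent.Lib.H7.FStar
import Cfsg.Agent.S1265

set_option autoImplicit false
set_option linter.style.haveILetI false

namespace Cfsg.Agent.Lib.H27

namespace LxS

open Cfsg

variable {G : Type*} [Group G]

/-- The extraspecial-centralizer setting. -/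
structure ESet (z : G) (Q : Subgroup G) : Prop where
  hz : orderOf z = 2
  hQC : Q ≤ Subgroup.centralizer ({z} : Set G)
  hF : (generalizedFittingSubgroup ↥(Subgroup.centralizer ({z} : Set G))).map
    (Subgroup.centralizer ({z} : Set G)).subtype = Q
  hQ : IsExtraspecial 2 ↥Q

namespace ESet

variable {z : G} {Q : Subgroup G} (e : ESet z Q)
include e

theorem z_ne_one : z ≠ 1 := by
  intro h
  have := e.hz
  rw [h, orderOf_one] at this
  omega

theorem z_sq : z * z = 1 := by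
  have := pow_orderOf_eq_one z
  rwa [e.hz, pow_two] at this

theorem comm_z {q : G} (hq : q ∈ Q) : q * z = z * q :=
  Subgroup.mem_centralizer_singleton_iff.mp (e.hQC hq)

theorem mem_Q_iff {x : G} : x ∈ Q ↔ ∃ hx : x ∈ Subgroup.centralizer ({z} : Set G),
    (⟨x, hx⟩ : ↥(Subgroup.centralizer ({z} : Set G)))
      ∈ generalizedFittingSubgroup ↥(Subgroup.centralizer ({z} : Set G)) := by
  rw [← e.hF]
  constructor
  · rintro ⟨y, hy, rfl⟩
    exact ⟨y.2, hy⟩
  · rintro ⟨hx, hy⟩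
    exact ⟨⟨x, hx⟩, hy, rfl⟩

/-- `C_G(z)` normalizes `Q`. -/
theorem conj_mem {c q : G} (hc : c * z = z * c) (hq : q ∈ Q) : c * q * c⁻¹ ∈ Q := by
  have hcC : c ∈ Subgroup.centralizer ({z} : Set G) :=
    Subgroup.mem_centralizer_singleton_iff.mpr hc
  obtain ⟨hqC, hqF⟩ := e.mem_Q_iff.mp hq
  rw [e.mem_Q_iff]
  have hn : (generalizedFittingSubgroup ↥(Subgroup.centralizer ({z} : Set G))).Normal :=
    inferInstance
  have := hn.conj_mem _ hqF ⟨c, hcC⟩
  exact ⟨(Subgroup.centralizer ({z} : Set G)).mul_mem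
    ((Subgroup.centralizer ({z} : Set G)).mul_mem hcC hqC)
    ((Subgroup.centralizer ({z} : Set G)).inv_mem hcC), this⟩

theorem z_mem [Finite G] : z ∈ Q := by
  haveI : Fact (Nat.Prime 2) := ⟨Nat.prime_two⟩
  set C := Subgroup.centralizer ({z} : Set G) with hC
  have hzC : z ∈ C := Subgroup.mem_centralizer_singleton_iff.mpr rfl
  rw [e.mem_Q_iff]
  refine ⟨hzC, ?_⟩
  have hcen : ∀ c : ↥C, c * ⟨z, hzC⟩ = ⟨z, hzC⟩ * c := by
    intro c
    apply Subtype.ext
    exact Subgroup.mem_centralizer_singleton_iff.mp c.2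
  have hN : (Subgroup.zpowers (⟨z, hzC⟩ : ↥C)).Normal := by
    constructor
    intro n hn g
    obtain ⟨k, rfl⟩ := Subgroup.mem_zpowers_iff.mp hn
    have hc : Commute g (⟨z, hzC⟩ : ↥C) := hcen g
    have : g * (⟨z, hzC⟩ : ↥C) ^ k * g⁻¹ = (⟨z, hzC⟩ : ↥C) ^ k := by
      rw [(hc.zpow_right k).eq]; group
    rw [this]
    exact Subgroup.zpow_mem_zpowers _ k
  have hord : orderOf (⟨z, hzC⟩ : ↥C) = 2 := by
    rw [← e.hz]
    exact Subgroup.orderOf_mk z hzC
  have hN2 : IsPGroup 2 (Subgroup.zpowers (⟨z, hzC⟩ : ↥C)) := by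
    apply IsPGroup.of_card (n := 1)
    rw [Nat.card_zpowers, hord, pow_one]
  have h1 := Cfsg.Agent.Lib.H1.le_pCore hN hN2
  have h2 : pCore 2 ↥C ≤ fittingSubgroup ↥C :=
    Cfsg.Agent.Lib.H1.le_fittingSubgroup (Cfsg.Agent.Lib.H1.pCore_normal 2 ↥C)
      (Cfsg.Agent.Lib.H1.pCore_isPGroup 2 ↥C).isNilpotent
  exact Cfsg.Agent.Lib.H7.fittingSubgroup_le_generalizedFittingSubgroup
    (h2 (h1 (Subgroup.mem_zpowers _)))

theorem center_eq [Finite G] : (Subgroup.center ↥Q).map Q.subtype = Subgroup.zpowers z := by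
  symm
  apply Subgroup.eq_of_le_of_card_ge
  · rw [Subgroup.zpowers_le]
    refine ⟨⟨z, e.z_mem⟩, ?_, rfl⟩
    rw [SetLike.mem_coe, Subgroup.mem_center_iff]
    intro q
    apply Subtype.ext
    exact e.comm_z q.2
  · rw [Subgroup.card_map_of_injective Q.subtype_injective, e.hQ.2, Nat.card_zpowers, e.hz]

theorem mem_center_iff [Finite G] {x : G} :
    x ∈ (Subgroup.center ↥Q).map Q.subtype ↔ x = 1 ∨ x = z := by
  rw [e.center_eq]
  constructor
  · intro hx
    obtain ⟨k, rfl⟩ := Subgroup.mem_zpowers_iff.mp hx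
    have h2 : z ^ (2 : ℤ) = 1 := by
      rw [zpow_ofNat, pow_two]; exact e.z_sq
    rcases Int.emod_two_eq_zero_or_one k with hk | hk
    · left
      rw [← Int.mul_ediv_add_emod k 2, hk, add_zero, zpow_mul, h2, one_zpow]
    · right
      rw [← Int.mul_ediv_add_emod k 2, hk, zpow_add, zpow_mul, h2, one_zpow, one_mul, zpow_one]
  · rintro (rfl | rfl)
    · exact Subgroup.one_mem _
    · exact Subgroup.mem_zpowers _

/-- `C_G(Q) = Z(Q)`. -/
theorem centralizer_eq [Finite G] :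
    Subgroup.centralizer (Q : Set G) = (Subgroup.center ↥Q).map Q.subtype := by
  apply le_antisymm
  · intro c hc
    rw [Subgroup.mem_centralizer_iff] at hc
    have hcz : c * z = z * c := (hc z e.z_mem).symm
    have hcC : c ∈ Subgroup.centralizer ({z} : Set G) :=
      Subgroup.mem_centralizer_singleton_iff.mpr hcz
    have hcF : (⟨c, hcC⟩ : ↥(Subgroup.centralizer ({z} : Set G))) ∈ Subgroup.centralizer
        ((generalizedFittingSubgroup ↥(Subgroup.centralizer ({z} : Set G)) :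
          Subgroup ↥(Subgroup.centralizer ({z} : Set G))) :
          Set ↥(Subgroup.centralizer ({z} : Set G))) := by
      rw [Subgroup.mem_centralizer_iff]
      intro f hf
      apply Subtype.ext
      have hfQ : (f : G) ∈ Q := e.mem_Q_iff.mpr ⟨f.2, hf⟩
      exact hc _ hfQ
    have hcQ : c ∈ Q :=
      e.mem_Q_iff.mpr ⟨hcC, Cfsg.Agent.S1265.result
        (G := ↥(Subgroup.centralizer ({z} : Set G))) hcF⟩
    refine ⟨⟨c, hcQ⟩, ?_, rfl⟩
    rw [SetLike.mem_coe, Subgroup.mem_center_iff]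
    intro q
    apply Subtype.ext
    exact hc q q.2
  · rintro _ ⟨x, hx, rfl⟩
    rw [Subgroup.mem_centralizer_iff]
    intro q hq
    have := Subgroup.mem_center_iff.mp hx ⟨q, hq⟩
    exact congrArg Subtype.val this

/-- `C_G(Z(Q)) ≤ N_G(Q)`. -/
theorem centralizer_center_le [Finite G] :
    Subgroup.centralizer (((Subgroup.center ↥Q).map Q.subtype : Subgroup G) : Set G)
      ≤ Subgroup.normalizer (Q : Set G) := by
  apply le_normalizer_of_conj_mem
  intro c hc q hq
  rw [Subgroup.mem_centralizer_iff] at hc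
  have hcz : c * z = z * c := (hc z (e.mem_center_iff.mpr (Or.inr rfl))).symm
  exact e.conj_mem hcz hq

/-- `N_G(Q) ≤ C_G(z)`. -/
theorem comm_of_mem_normalizer [Finite G] {n : G} (hn : n ∈ Subgroup.normalizer (Q : Set G)) :
    n * z = z * n := by
  -- `n z n⁻¹` is central in `Q`
  have hnz : n * z * n⁻¹ ∈ Q := (Subgroup.mem_normalizer_iff.mp hn z).mp e.z_mem
  have hcen : n * z * n⁻¹ ∈ (Subgroup.center ↥Q).map Q.subtype := by
    refine ⟨⟨_, hnz⟩, ?_, rfl⟩
    rw [SetLike.mem_coe, Subgroup.mem_center_iff]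
    intro q
    apply Subtype.ext
    show (q : G) * (n * z * n⁻¹) = (n * z * n⁻¹) * q
    have hq' : n⁻¹ * (q : G) * n ∈ Q := by
      have := (Subgroup.mem_normalizer_iff.mp hn (n⁻¹ * (q : G) * n)).mpr
        (by
          have e1 : n * (n⁻¹ * (q : G) * n) * n⁻¹ = q := by group
          rw [e1]; exact q.2)
      exact this
    have := e.comm_z hq'
    calc (q : G) * (n * z * n⁻¹) = n * ((n⁻¹ * (q : G) * n) * z) * n⁻¹ := by group
      _ = n * (z * (n⁻¹ * (q : G) * n)) * n⁻¹ := by rw [this]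
      _ = (n * z * n⁻¹) * q := by group
  rcases e.mem_center_iff.mp hcen with h1 | h1
  · exfalso
    apply e.z_ne_one
    have : z = n⁻¹ * (n * z * n⁻¹) * n := by group
    rw [this, h1]; group
  · calc n * z = (n * z * n⁻¹) * n := by group
      _ = z * n := by rw [h1]

end ESet

end LxS

end Cfsg.Agent.Lib.H27
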