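/-
helper27 library: a non-central involution `t` of an extraspecial `Q = F*(C_G(z))`, lying in
`Q ∩ Q^g` where `x = g z g⁻¹ ∈ Q ∖ Z(Q)` and `t` is not conjugate to `z` (Aschbacher, Sporadic
Groups, Lemma 8.x): elementwise facts about `P = C_Q(t)` needed to pass to `C_G(t)/⟨t⟩`.
-/
import Mathlib
import Cfsg.Agent.Lib.H27.LxSimpleA
import Cfsg.Agent.Lib.H27.LxQuotA
import Cfsg.Agent.Lib.H25.LxXS
import Cfsg.Agent.S5422

set_option autoImplicit false
set_option linter.style.haveILetI false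

namespace Cfsg.Agent.Lib.H27

namespace LxS

open Cfsg Cfsg.Agent.Lib.H22.LargeExtra Cfsg.Agent.Lib.H15

variable {G : Type*} [Group G]

theorem mem_zpowers_iff_of_sq {t : G} (ht : t * t = 1) {y : G} :
    y ∈ Subgroup.zpowers t ↔ y = 1 ∨ y = t := by
  constructor
  · intro hy
    obtain ⟨k, rfl⟩ := Subgroup.mem_zpowers_iff.mp hy
    have h2 : t ^ (2 : ℤ) = 1 := by
      rw [zpow_ofNat, pow_two]; exact ht
    rcases Int.emod_two_eq_zero_or_one k with hk | hk
    · left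
      rw [← Int.mul_ediv_add_emod k 2, hk, add_zero, zpow_mul, h2, one_zpow]
    · right
      rw [← Int.mul_ediv_add_emod k 2, hk, zpow_add, zpow_mul, h2, one_zpow, one_mul, zpow_one]
  · rintro (rfl | rfl)
    · exact Subgroup.one_mem _
    · exact Subgroup.mem_zpowers _

theorem ESet.lx [Finite G] {z : G} {Q : Subgroup G} (e : ESet z Q) : LX Q z := by
  obtain ⟨z0, hZmem, hLX0⟩ :=
    Cfsg.Agent.S5422.lx_of_extraspecial Q e.hQ e.centralizer_eq e.centralizer_center_le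
  have h0 : z = z0 := by
    rcases (hZmem z).mp (e.mem_center_iff.mpr (Or.inr rfl)) with h | h
    · exact absurd h e.z_ne_one
    · exact h
  rw [h0]; exact hLX0

theorem xs_of_lx {Q : Subgroup G} {z : G} (h : LX Q z) : Cfsg.Agent.Lib.H25.Lx.XS Q z where
  z_ne := h.ne_one
  z_sq := h.sq_one
  z_mem := h.mem
  z_comm := h.cz
  cen := fun c hc hall => h.center c hc (fun a ha => (hall a ha).symm)
  comm := by
    intro a ha b hb
    rcases h.comm a ha b hb with h1 | h1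
    · left
      calc a * b = (a * b * a⁻¹ * b⁻¹) * (b * a) := by group
        _ = b * a := by rw [h1, one_mul]
    · right
      calc a * b = (a * b * a⁻¹ * b⁻¹) * (b * a) := by group
        _ = z * (b * a) := by rw [h1]
  sq := h.sq

/-- The setting. -/
structure TCtx (Q : Subgroup G) (z t g x : G) : Prop where
  lx : LX Q z
  two : IsPGroup 2 Q
  tQ : t ∈ Q
  tQg : t ∈ cj g Q
  tt : t * t = 1
  t1 : t ≠ 1
  ntz : ¬ IsConj z t
  xdef : g * z * g⁻¹ = x
  xQ : x ∈ Q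
  xz : x ≠ z
  zQg : z ∈ cj g Q
  hCP : ∀ c : G, c * z = z * c → c * t = t * c →
    (∀ p ∈ Q, p * t = t * p → c * p * c⁻¹ = p ∨ c * p * c⁻¹ = p * t) → c ∈ Q

namespace TCtx

variable {Q : Subgroup G} {z t g x : G} (c : TCtx Q z t g x)
include c

theorem tz : t ≠ z := fun h => c.ntz (h ▸ IsConj.refl z)

theorem x1 : x ≠ 1 := by
  intro h
  apply c.lx.ne_one
  have h1 := c.xdef
  rw [h] at h1
  calc z = g⁻¹ * (g * z * g⁻¹) * g := by group
    _ = 1 := by rw [h1]; group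

theorem xx : x * x = 1 := by
  rw [← c.xdef]
  calc g * z * g⁻¹ * (g * z * g⁻¹) = g * (z * z) * g⁻¹ := by group
    _ = 1 := by rw [c.lx.sq_one]; group

theorem lxg : LX (cj g Q) x := c.xdef ▸ c.lx.conj g

theorem tx : t * x = x * t := c.lxg.cz t c.tQg

theorem tzc : t * z = z * t := c.lx.cz t c.tQ

theorem xzc : x * z = z * x := c.lx.cz x c.xQ

theorem zinv : z⁻¹ = z := inv_eq_of_mul_eq_one_right c.lx.sq_one

theorem tinv : t⁻¹ = t := inv_eq_of_mul_eq_one_right c.tt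

theorem xinv : x⁻¹ = x := inv_eq_of_mul_eq_one_right c.xx

theorem isConj_zx : IsConj z x := isConj_iff.mpr ⟨g, c.xdef⟩

theorem exists_e0 : ∃ e₀ ∈ Q, e₀ * t ≠ t * e₀ := by
  by_contra hcon
  push Not at hcon
  rcases c.lx.center t c.tQ hcon with h1 | h1
  · exact c.t1 h1
  · exact c.tz h1

theorem exists_e0' : ∃ e₀ ∈ cj g Q, e₀ * t ≠ t * e₀ := by
  by_contra hcon
  push Not at hcon
  rcases c.lxg.center t c.tQg hcon with h1 | h1
  · exact c.t1 h1
  · exact c.ntz (h1 ▸ c.isConj_zx)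

theorem nconj_zt : ¬ IsConj z (z * t) := by
  intro h
  obtain ⟨e₀, he₀, h0⟩ := c.exists_e0
  have h1 := c.lx.conj_eq he₀ c.tQ h0
  have h2 : IsConj t (z * t) := isConj_iff.mpr ⟨e₀, h1⟩
  exact c.ntz (h.trans h2.symm)

theorem isConj_zzx : IsConj z (z * x) := by
  obtain ⟨q, _, hq⟩ := c.lx.exists_conj_mul c.xQ c.x1 c.xz
  exact c.isConj_zx.trans (isConj_iff.mpr ⟨q, hq⟩)

theorem x_ne_t : x ≠ t := fun h => c.ntz (h ▸ c.isConj_zx)

theorem x_ne_zt : x ≠ z * t := fun h => c.nconj_zt (h ▸ c.isConj_zx)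

theorem t_ne_zx : t ≠ z * x := fun h => c.ntz (h ▸ c.isConj_zzx)

theorem z_ne_xt : z ≠ x * t := by
  intro h
  apply c.t_ne_zx
  calc t = x * (x * t) := by rw [← mul_assoc, c.xx, one_mul]
    _ = x * z := by rw [← h]
    _ = z * x := c.xzc

/-- `C_Q(C_Q(t)) = {1, z, t, zt}`. -/
theorem dcent {y : G} (hy : y ∈ Q) (hyF : ∀ f ∈ Q, f * t = t * f → y * f = f * y) :
    y = 1 ∨ y = z ∨ y = t ∨ y = z * t := by
  obtain ⟨e₀, he₀, h0⟩ := c.exists_e0
  exact (xs_of_lx c.lx).centralizer_centralizer_in c.tQ c.tt he₀ h0 hy hyF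

theorem dcent' {y : G} (hy : y ∈ cj g Q) (hyF : ∀ f ∈ cj g Q, f * t = t * f → y * f = f * y) :
    y = 1 ∨ y = x ∨ y = t ∨ y = x * t := by
  obtain ⟨e₀, he₀, h0⟩ := c.exists_e0'
  exact (xs_of_lx c.lxg).centralizer_centralizer_in c.tQg c.tt he₀ h0 hy hyF

theorem exists_f : ∃ f ∈ Q, f * t = t * f ∧ f * x * f⁻¹ = z * x := by
  by_contra hcon
  push Not at hcon
  have hall : ∀ f ∈ Q, f * t = t * f → x * f = f * x := by
    intro f hf hft
    by_contra hne
    exact hcon f hf hft (c.lx.conj_eq hf c.xQ (fun h => hne h.symm))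
  rcases c.dcent c.xQ hall with h1 | h1 | h1 | h1
  · exact c.x1 h1
  · exact c.xz h1
  · exact c.x_ne_t h1
  · exact c.x_ne_zt h1

theorem exists_f' : ∃ f ∈ cj g Q, f * t = t * f ∧ f * z * f⁻¹ = x * z := by
  by_contra hcon
  push Not at hcon
  have hall : ∀ f ∈ cj g Q, f * t = t * f → z * f = f * z := by
    intro f hf hft
    by_contra hne
    exact hcon f hf hft (c.lxg.conj_eq hf c.zQg (fun h => hne h.symm))
  rcases c.dcent' c.zQg hall with h1 | h1 | h1 | h1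
  · exact c.lx.ne_one h1
  · exact c.xz h1.symm
  · exact c.tz h1.symm
  · exact c.z_ne_xt h1

/-- `x` is fused to `z` inside `⟨C_Q(t), C_{Q^g}(t)⟩`. -/
theorem exists_y : ∃ f ∈ Q, ∃ f' ∈ cj g Q, f * t = t * f ∧ f' * t = t * f' ∧
    (f' * f) * x * (f' * f)⁻¹ = z := by
  obtain ⟨f, hf, hft, hfx⟩ := c.exists_f
  obtain ⟨f', hf', hft', hfz⟩ := c.exists_f'
  refine ⟨f, hf, f', hf', hft, hft', ?_⟩
  have hf'x : f' * x * f'⁻¹ = x := by
    have := c.lxg.cz f' hf'
    rw [this]; group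
  calc (f' * f) * x * (f' * f)⁻¹ = f' * (f * x * f⁻¹) * f'⁻¹ := by group
    _ = f' * (z * x) * f'⁻¹ := by rw [hfx]
    _ = (f' * z * f'⁻¹) * (f' * x * f'⁻¹) := by group
    _ = (x * z) * x := by rw [hfz, hf'x]
    _ = (z * x) * x := by rw [c.xzc]
    _ = z := by rw [mul_assoc, c.xx, mul_one]

/-- an element of `C_G(t)` centralizing `z` modulo `⟨t⟩` centralizes `z`. -/
theorem comm_z_of_mod {k : G} (hk : k * z * k⁻¹ * z⁻¹ = 1 ∨ k * z * k⁻¹ * z⁻¹ = t) :
    k * z = z * k := by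
  rcases hk with h1 | h1
  · calc k * z = (k * z * k⁻¹ * z⁻¹) * (z * k) := by group
      _ = z * k := by rw [h1, one_mul]
  · exfalso
    apply c.nconj_zt
    rw [isConj_iff]
    refine ⟨k, ?_⟩
    calc k * z * k⁻¹ = (k * z * k⁻¹ * z⁻¹) * z := by group
      _ = t * z := by rw [h1]
      _ = z * t := c.tzc

/-- The group `P = C_Q(t)`. -/
theorem mem_P {p : G} : p ∈ Q ⊓ Subgroup.centralizer ({t} : Set G) ↔ p ∈ Q ∧ p * t = t * p := by
  rw [Subgroup.mem_inf, Subgroup.mem_centralizer_singleton_iff]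

theorem relIndex_P : (Q ⊓ Subgroup.centralizer ({t} : Set G)).relIndex Q = 2 := by
  obtain ⟨e₀, he₀, h0⟩ := c.exists_e0
  rw [Subgroup.relIndex_eq_two_iff_exists_notMem_and]
  refine ⟨e₀, he₀, fun h => h0 (c.mem_P.mp h).2, ?_⟩
  intro b hb
  by_cases hbt : b * t = t * b
  · right
    exact c.mem_P.mpr ⟨hb, hbt⟩
  · left
    refine c.mem_P.mpr ⟨Q.mul_mem hb he₀, ?_⟩
    have h1 := (xs_of_lx c.lx).inv_mul_comm_of_not_comm (Q.inv_mem hb) he₀ c.tQ ?_ h0
    · rwa [inv_inv] at h1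
    · intro h2
      apply hbt
      calc b * t = b * (t * b⁻¹) * b := by group
        _ = b * (b⁻¹ * t) * b := by rw [h2]
        _ = t * b := by group

theorem card_Q [Finite G] :
    Nat.card Q = 2 * Nat.card ↥(Q ⊓ Subgroup.centralizer ({t} : Set G)) := by
  have h2 := Subgroup.relIndex_mul_relIndex ⊥ (Q ⊓ Subgroup.centralizer ({t} : Set G)) Q bot_le
    inf_le_left
  rw [Subgroup.relIndex_bot_left, Subgroup.relIndex_bot_left, c.relIndex_P] at h2
  omega

end TCtx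

end LxS

end Cfsg.Agent.Lib.H27
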