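/-
helper27 library: `z` an involution with `F*(C_G(z)) = Q` extraspecial, `A ≤ C_G(z)` of odd order,
`R = C_Q(A)`, `x = g z g⁻¹ ∈ R ∖ Z(Q)` (Aschbacher, Sporadic Groups, 8.x): `x` is fused to `z` inside
`⟨R, C_{Q^g}(A)⟩`; and `C_G(AR) ⊆ A ∪ Az` when `4 ∤ |C_G(AR)|` and `O(C_G(AR)) ≤ A`.
-/
import Mathlib
import Cfsg.Agent.Lib.L0.CyclicSylowTwo
import Cfsg.Agent.Lib.H27.LxQuotB
import Cfsg.Agent.Lib.H27.LxOddA

set_option autoImplicit false
set_option linter.style.haveILetI false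

namespace Cfsg.Agent.Lib.H27

namespace LxS

open Cfsg Cfsg.Agent.Lib.H22.LargeExtra Cfsg.Agent.Lib.H15

/-- A finite group of order not divisible by 4 containing an involution `z` is `K ∪ Kz` for a normal
subgroup `K` of odd order. -/
theorem decomp_of_not_four_dvd {X : Type*} [Group X] [Finite X] (h4 : ¬ 4 ∣ Nat.card X) (z : X)
    (hz : orderOf z = 2) :
    ∃ K : Subgroup X, K.Normal ∧ (Nat.card K).Coprime 2 ∧ ∀ d : X, ∃ k ∈ K, d = k ∨ d = k * z := by
  haveI : Fact (Nat.Prime 2) := ⟨Nat.prime_two⟩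
  have h2 : 2 ∣ Nat.card X := hz ▸ orderOf_dvd_natCard z
  have hzz : z * z = 1 := by
    have := pow_orderOf_eq_one z
    rwa [hz, pow_two] at this
  have hzp : IsPGroup 2 (Subgroup.zpowers z) :=
    IsPGroup.of_card (n := 1) (by rw [Nat.card_zpowers, hz, pow_one])
  obtain ⟨S, hS⟩ := hzp.exists_le_sylow
  obtain ⟨k, hk⟩ := S.2.exists_card_eq
  have hk1 : k ≤ 1 := by
    by_contra hk2
    push Not at hk2
    apply h4
    have h5 : 2 ^ 2 ∣ 2 ^ k := pow_dvd_pow 2 hk2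
    have h6 : Nat.card (S : Subgroup X) ∣ Nat.card X := Subgroup.card_subgroup_dvd_card _
    rw [hk] at h6
    exact h5.trans h6
  have hcardS : Nat.card (S : Subgroup X) = 2 := by
    have h3 : Nat.card (Subgroup.zpowers z) ∣ Nat.card (S : Subgroup X) :=
      Subgroup.card_dvd_of_le hS
    rw [Nat.card_zpowers, hz, hk] at h3
    interval_cases k
    · simp at h3
    · rw [hk]; norm_num
  have hSeq : Subgroup.zpowers z = (S : Subgroup X) :=
    Subgroup.eq_of_le_of_card_ge hS (by rw [hcardS, Nat.card_zpowers, hz])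
  have hcyc : IsCyclic (S : Subgroup X) := isCyclic_of_prime_card hcardS
  obtain ⟨K, hKn, hcomp, hKmem⟩ :=
    Cfsg.Agent.Lib.L0.exists_odd_normal_complement_of_cyclic_sylow S hcyc h2
  refine ⟨K, hKn, ?_, ?_⟩
  · have h7 := hcomp.card_mul_card
    rw [hcardS] at h7
    rw [Nat.coprime_comm, Nat.Prime.coprime_iff_not_dvd Nat.prime_two]
    rintro ⟨m, hm⟩
    apply h4
    rw [← h7, hm]
    exact ⟨m, by ring⟩
  · intro d
    obtain ⟨⟨⟨k, hk⟩, ⟨s, hs⟩⟩, hks, -⟩ := (Subgroup.isComplement'_def.mp hcomp).existsUnique d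
    simp only at hks
    refine ⟨k, hk, ?_⟩
    have hs' : s ∈ Subgroup.zpowers z := by rw [hSeq]; exact hs
    rcases (mem_zpowers_iff_of_sq hzz).mp hs' with h8 | h8
    · left; rw [← hks, h8, mul_one]
    · right; rw [← hks, h8]

variable {G : Type*} [Group G]

/-- An odd-order element `u` commuting with a 2-element `b`, such that `u b` is a 2-element of the
same exponent, is trivial. -/
theorem eq_one_of_odd_of_two [Finite G] {A : Subgroup G} (hodd : Odd (Nat.card ↥A)) {u b : G}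
    (hu : u ∈ A) (hub : u * b = b * u) {k : ℕ} (hb : b ^ (2 ^ k) = 1)
    (hubk : (u * b) ^ (2 ^ k) = 1) : u = 1 := by
  have h1 : u ^ (2 ^ k) = 1 := by
    have h2 : (u * b) ^ (2 ^ k) = u ^ (2 ^ k) * b ^ (2 ^ k) := (Commute.mul_pow hub _)
    rw [h2, hb, mul_one] at hubk
    exact hubk
  have h3 : orderOf u ∣ 2 ^ k := orderOf_dvd_of_pow_eq_one h1
  have h4 : orderOf u ∣ Nat.card ↥A := by
    have := orderOf_dvd_natCard (⟨u, hu⟩ : ↥A)
    rwa [Subgroup.orderOf_mk] at this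
  have h5 : (2 ^ k).Coprime (Nat.card ↥A) :=
    Nat.Coprime.pow_left k (Nat.coprime_two_left.mpr hodd)
  have h6 : orderOf u = 1 := Nat.eq_one_of_dvd_coprimes h5 h3 h4
  exact orderOf_eq_one_iff.mp h6

/-- The setting. -/
structure ACtx (Q : Subgroup G) (z : G) (A : Subgroup G) (g x : G) : Prop where
  e : ESet z Q
  hA : A ≤ Subgroup.centralizer ({z} : Set G)
  odd : Odd (Nat.card ↥A)
  xdef : g * z * g⁻¹ = x
  xR : x ∈ Q ⊓ Subgroup.centralizer (A : Set G)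
  xz : x ≠ z

namespace ACtx

variable {Q : Subgroup G} {z : G} {A : Subgroup G} {g x : G} (c : ACtx Q z A g x)
include c

theorem comm_A_z {a : G} (ha : a ∈ A) : a * z = z * a :=
  Subgroup.mem_centralizer_singleton_iff.mp (c.hA ha)

theorem A_le_normalizer : A ≤ Subgroup.normalizer (Q : Set G) :=
  le_normalizer_of_conj_mem (fun _ ha _ hq => c.e.conj_mem (c.comm_A_z ha) hq)

theorem mem_R {r : G} : r ∈ Q ⊓ Subgroup.centralizer (A : Set G) ↔ r ∈ Q ∧ ∀ a ∈ A, a * r = r * a := by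
  rw [Subgroup.mem_inf, Subgroup.mem_centralizer_iff]
  exact Iff.rfl

theorem xQ : x ∈ Q := (c.mem_R.mp c.xR).1

theorem x1 : x ≠ 1 := by
  intro h
  apply c.e.z_ne_one
  have h1 := c.xdef
  rw [h] at h1
  calc z = g⁻¹ * (g * z * g⁻¹) * g := by group
    _ = 1 := by rw [h1]; group

theorem xx : x * x = 1 := by
  rw [← c.xdef]
  calc g * z * g⁻¹ * (g * z * g⁻¹) = g * (z * z) * g⁻¹ := by group
    _ = 1 := by rw [c.e.z_sq]; group

theorem z_mem_R [Finite G] : z ∈ Q ⊓ Subgroup.centralizer (A : Set G) :=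
  c.mem_R.mpr ⟨c.e.z_mem, fun _ ha => c.comm_A_z ha⟩

/-- `Z(C_Q(A)) = Z(Q)`, for any odd-order `B ≤ C_G(z)`. -/
theorem cen_general [Finite G] (B : Subgroup G) (hB : B ≤ Subgroup.centralizer ({z} : Set G))
    (hBodd : Odd (Nat.card ↥B)) {v : G} (hv : v ∈ Q ⊓ Subgroup.centralizer (B : Set G))
    (hall : ∀ r ∈ Q ⊓ Subgroup.centralizer (B : Set G), r * v = v * r) : v = 1 ∨ v = z := by
  have hBN : B ≤ Subgroup.normalizer (Q : Set G) :=
    le_normalizer_of_conj_mem (fun _ hb _ hq =>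
      c.e.conj_mem (Subgroup.mem_centralizer_singleton_iff.mp (hB hb)) hq)
  have h1 := (cent_odd Q c.e.hQ c.e.centralizer_eq B hBN hBodd).1
  apply c.e.mem_center_iff.mp
  apply h1
  refine Subgroup.mem_inf.mpr ⟨hv, ?_⟩
  rw [Subgroup.mem_centralizer_iff]
  exact hall

theorem cen [Finite G] {v : G} (hv : v ∈ Q ⊓ Subgroup.centralizer (A : Set G))
    (hall : ∀ r ∈ Q ⊓ Subgroup.centralizer (A : Set G), r * v = v * r) : v = 1 ∨ v = z :=
  c.cen_general A c.hA c.odd hv hall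

theorem lxg [Finite G] : LX (cj g Q) x := c.xdef ▸ c.e.lx.conj g

theorem exists_q [Finite G] : ∃ q ∈ Q ⊓ Subgroup.centralizer (A : Set G), q * x * q⁻¹ = z * x := by
  by_contra hcon
  push Not at hcon
  have hall : ∀ r ∈ Q ⊓ Subgroup.centralizer (A : Set G), r * x = x * r := by
    intro r hr
    by_contra hne
    exact hcon r hr (c.e.lx.conj_eq (c.mem_R.mp hr).1 c.xQ hne)
  rcases c.cen c.xR hall with h1 | h1
  · exact c.x1 h1
  · exact c.xz h1

theorem zQg [Finite G] : z ∈ cj g Q := by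
  apply LX.symm_core c.e.lx c.lxg c.xQ
  intro k hk a ha
  rw [mem_cj_iff]
  have hkz : (g⁻¹ * k) * z = z * (g⁻¹ * k) := by
    have h1 : k * z * k⁻¹ = g * z * g⁻¹ := hk.trans c.xdef.symm
    calc (g⁻¹ * k) * z = g⁻¹ * (k * z * k⁻¹) * k := by group
      _ = g⁻¹ * (g * z * g⁻¹) * k := by rw [h1]
      _ = z * (g⁻¹ * k) := by group
  have := c.e.lx.normal _ hkz a ha
  have e1 : g⁻¹ * (k * a * k⁻¹) * g = g⁻¹ * k * a * (g⁻¹ * k)⁻¹ := by group
  rw [e1]
  exact this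

theorem exists_q' [Finite G] :
    ∃ q ∈ cj g Q ⊓ Subgroup.centralizer (A : Set G), q * z * q⁻¹ = x * z := by
  -- the conjugate `B = g⁻¹ A g ≤ C_G(z)`
  have hBle : cj g⁻¹ A ≤ Subgroup.centralizer ({z} : Set G) := by
    intro b hb
    rw [mem_cj_iff, inv_inv] at hb
    rw [Subgroup.mem_centralizer_singleton_iff]
    have h1 : (g * b * g⁻¹) * x = x * (g * b * g⁻¹) := (c.mem_R.mp c.xR).2 _ hb
    rw [← c.xdef] at h1
    calc b * z = g⁻¹ * ((g * b * g⁻¹) * (g * z * g⁻¹)) * g := by group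
      _ = g⁻¹ * ((g * z * g⁻¹) * (g * b * g⁻¹)) * g := by rw [h1]
      _ = z * b := by group
  have hBodd : Odd (Nat.card ↥(cj g⁻¹ A)) := by
    have : Nat.card ↥(cj g⁻¹ A) = Nat.card ↥A :=
      Subgroup.card_map_of_injective (MulAut.conj g⁻¹).injective
    rw [this]; exact c.odd
  set z' : G := g⁻¹ * z * g with hz'
  have hz'Q : z' ∈ Q := mem_cj_iff.mp c.zQg
  have hz'R : z' ∈ Q ⊓ Subgroup.centralizer ((cj g⁻¹ A : Subgroup G) : Set G) := by
    refine Subgroup.mem_inf.mpr ⟨hz'Q, ?_⟩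
    rw [Subgroup.mem_centralizer_iff]
    intro b hb
    rw [SetLike.mem_coe, mem_cj_iff, inv_inv] at hb
    have h1 := c.comm_A_z hb
    calc b * z' = g⁻¹ * ((g * b * g⁻¹) * z) * g := by rw [hz']; group
      _ = g⁻¹ * (z * (g * b * g⁻¹)) * g := by rw [h1]
      _ = z' * b := by rw [hz']; group
  have hz'1 : z' ≠ 1 := by
    intro h
    apply c.e.z_ne_one
    calc z = g * z' * g⁻¹ := by rw [hz']; group
      _ = 1 := by rw [h]; group
  have hz'z : z' ≠ z := by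
    intro h
    apply c.xz
    rw [← c.xdef]
    have h2 : g * z' * g⁻¹ = z := by rw [hz']; group
    rw [h] at h2
    exact h2
  have hex : ∃ r ∈ Q ⊓ Subgroup.centralizer ((cj g⁻¹ A : Subgroup G) : Set G),
      r * z' ≠ z' * r := by
    by_contra hcon
    push Not at hcon
    rcases c.cen_general (cj g⁻¹ A) hBle hBodd hz'R hcon with h1 | h1
    · exact hz'1 h1
    · exact hz'z h1
  obtain ⟨r, hr, hrz⟩ := hex
  obtain ⟨hrQ, hrB⟩ := Subgroup.mem_inf.mp hr
  rw [Subgroup.mem_centralizer_iff] at hrB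
  have hqQ : g * r * g⁻¹ ∈ cj g Q := conj_mem_cj hrQ
  refine ⟨g * r * g⁻¹, Subgroup.mem_inf.mpr ⟨hqQ, ?_⟩, ?_⟩
  · rw [Subgroup.mem_centralizer_iff]
    intro a ha
    have haB : g⁻¹ * a * g ∈ cj g⁻¹ A := by
      rw [mem_cj_iff, inv_inv]
      have : g * (g⁻¹ * a * g) * g⁻¹ = a := by group
      rw [this]; exact ha
    have h1 := hrB _ haB
    calc a * (g * r * g⁻¹) = g * ((g⁻¹ * a * g) * r) * g⁻¹ := by group
      _ = g * (r * (g⁻¹ * a * g)) * g⁻¹ := by rw [h1]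
      _ = g * r * g⁻¹ * a := by group
  · apply c.lxg.conj_eq hqQ c.zQg
    intro h
    apply hrz
    calc r * z' = g⁻¹ * ((g * r * g⁻¹) * z) * g := by rw [hz']; group
      _ = g⁻¹ * (z * (g * r * g⁻¹)) * g := by rw [h]
      _ = z' * r := by rw [hz']; group

/-- `x` is fused to `z` inside `⟨C_Q(A), C_{Q^g}(A)⟩`. -/
theorem exists_y [Finite G] : ∃ q ∈ Q ⊓ Subgroup.centralizer (A : Set G),
    ∃ q' ∈ cj g Q ⊓ Subgroup.centralizer (A : Set G), (q' * q) * x * (q' * q)⁻¹ = z := by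
  obtain ⟨q, hq, hqx⟩ := c.exists_q
  obtain ⟨q', hq', hqz⟩ := c.exists_q'
  refine ⟨q, hq, q', hq', ?_⟩
  have hq'x : q' * x * q'⁻¹ = x := by
    have := c.lxg.cz q' (Subgroup.mem_inf.mp hq').1
    rw [this]; group
  have hxz : x * z = z * x := c.e.lx.cz x c.xQ
  calc (q' * q) * x * (q' * q)⁻¹ = q' * (q * x * q⁻¹) * q'⁻¹ := by group
    _ = q' * (z * x) * q'⁻¹ := by rw [hqx]
    _ = (q' * z * q'⁻¹) * (q' * x * q'⁻¹) := by group
    _ = (x * z) * x := by rw [hqz, hq'x]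
    _ = (z * x) * x := by rw [hxz]
    _ = z := by rw [mul_assoc, c.xx, mul_one]

/-- `C_G(AR) ⊆ A ∪ Az`. -/
theorem mem_D [Finite G]
    (hO : (oddCore ↥(Subgroup.centralizer
      ((A ⊔ (Q ⊓ Subgroup.centralizer (A : Set G)) : Subgroup G) : Set G))).map
      (Subgroup.centralizer
        ((A ⊔ (Q ⊓ Subgroup.centralizer (A : Set G)) : Subgroup G) : Set G)).subtype ≤ A)
    (h4 : ¬ 4 ∣ Nat.card ↥(Subgroup.centralizer
      ((A ⊔ (Q ⊓ Subgroup.centralizer (A : Set G)) : Subgroup G) : Set G)))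
    {d : G} (hd : d ∈ Subgroup.centralizer
      ((A ⊔ (Q ⊓ Subgroup.centralizer (A : Set G)) : Subgroup G) : Set G)) :
    ∃ a ∈ A, d = a ∨ d = a * z := by
  set D := Subgroup.centralizer
    ((A ⊔ (Q ⊓ Subgroup.centralizer (A : Set G)) : Subgroup G) : Set G) with hD
  have hle : A ⊔ (Q ⊓ Subgroup.centralizer (A : Set G)) ≤ Subgroup.centralizer ({z} : Set G) :=
    sup_le c.hA (inf_le_left.trans c.e.hQC)
  have hzD : z ∈ D := by
    rw [hD, Subgroup.mem_centralizer_iff]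
    intro h hh
    exact Subgroup.mem_centralizer_singleton_iff.mp (hle hh)
  have hord : orderOf (⟨z, hzD⟩ : ↥D) = 2 := by
    rw [Subgroup.orderOf_mk]; exact c.e.hz
  obtain ⟨K, hKn, hcop, hdec⟩ := decomp_of_not_four_dvd h4 (⟨z, hzD⟩ : ↥D) hord
  have hKO : K ≤ oddCore ↥D := le_sSup ⟨hKn, hcop⟩
  obtain ⟨k, hk, hdk⟩ := hdec ⟨d, hd⟩
  have hkA : (k : G) ∈ A := hO ⟨k, hKO hk, rfl⟩
  refine ⟨(k : G), hkA, ?_⟩
  rcases hdk with h1 | h1
  · left; exact congrArg Subtype.val h1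
  · right; exact congrArg Subtype.val h1

end ACtx

end LxS

end Cfsg.Agent.Lib.H27
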