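/-
helper27 library: passing to the quotient by a normal subgroup `N` meeting the 2-group `R` trivially.
If `R ≤ K` is extraspecial-like with central involution `z` (commutators and squares in `{1, z}`,
`Z(R) = {1, z}`), self-centralizing modulo `N`, and normalized modulo `N` by the centralizer of `z`
modulo `N`, then the image of `R` in `K ⧸ N` is extraspecial with centre `⟨z̄⟩`, self-centralizing,
and the centralizer of `z̄` normalizes it. With one fusion `z ~ x ∈ R` it is a large extraspecial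
subgroup (via S5422).
-/
import Mathlib
import Cfsg.Agent.Lib.H27.Extraspecial
import Cfsg.Agent.Lib.H27.LxStructA
import Cfsg.Agent.S5422

set_option autoImplicit false
set_option linter.style.haveILetI false

namespace Cfsg.Agent.Lib.H27

namespace LxS

open Cfsg

variable {K : Type*} [Group K]

/-- Elementwise data for `R ≤ K` modulo a normal subgroup `N` with `R ∩ N = 1`. -/
structure QCtx2 (N R : Subgroup K) (z : K) : Prop where
  two : IsPGroup 2 R
  disj : ∀ r ∈ R, r ∈ N → r = 1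
  zR : z ∈ R
  z1 : z ≠ 1
  zz : z * z = 1
  zc : ∀ a ∈ R, a * z = z * a
  comm : ∀ a ∈ R, ∀ b ∈ R, a * b * a⁻¹ * b⁻¹ = 1 ∨ a * b * a⁻¹ * b⁻¹ = z
  sq : ∀ a ∈ R, a * a = 1 ∨ a * a = z
  cen : ∀ a ∈ R, (∀ b ∈ R, a * b = b * a) → a = 1 ∨ a = z
  cent : ∀ c : K, (∀ b ∈ R, c * b * c⁻¹ * b⁻¹ ∈ N) → ∃ r ∈ R, r⁻¹ * c ∈ N
  norm : ∀ c : K, c * z * c⁻¹ * z⁻¹ ∈ N → ∀ p ∈ R, ∃ r ∈ R, r⁻¹ * (c * p * c⁻¹) ∈ N
  nonab : ∃ a ∈ R, ∃ b ∈ R, a * b * a⁻¹ * b⁻¹ = z

namespace QCtx2

variable {N R : Subgroup K} {z : K} [hN : N.Normal] (h : QCtx2 N R z)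
include h

theorem mk_eq_one_iff {k : K} : (QuotientGroup.mk' N k = 1) ↔ k ∈ N := by
  rw [QuotientGroup.mk'_apply, QuotientGroup.eq_one_iff]

theorem mk_eq_mk_iff {a b : K} : QuotientGroup.mk' N a = QuotientGroup.mk' N b ↔ a⁻¹ * b ∈ N := by
  rw [QuotientGroup.mk'_apply, QuotientGroup.mk'_apply, QuotientGroup.eq]

theorem mk_z_ne_one : QuotientGroup.mk' N z ≠ 1 := by
  intro h1
  exact h.z1 (h.disj z h.zR (h.mk_eq_one_iff.mp h1))

theorem mk_z_sq : QuotientGroup.mk' N z * QuotientGroup.mk' N z = 1 := by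
  rw [← map_mul, h.zz, map_one]

theorem orderOf_mk_z : orderOf (QuotientGroup.mk' N z) = 2 := by
  apply orderOf_eq_prime
  · rw [pow_two]; exact h.mk_z_sq
  · exact h.mk_z_ne_one

theorem mem_zpowers_iff {y : K ⧸ N} :
    y ∈ Subgroup.zpowers (QuotientGroup.mk' N z) ↔ y = 1 ∨ y = QuotientGroup.mk' N z := by
  constructor
  · intro hy
    obtain ⟨k, rfl⟩ := Subgroup.mem_zpowers_iff.mp hy
    have h2 : (QuotientGroup.mk' N z) ^ (2 : ℤ) = 1 := by
      rw [zpow_ofNat, pow_two]; exact h.mk_z_sq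
    rcases Int.emod_two_eq_zero_or_one k with hk | hk
    · left
      rw [← Int.mul_ediv_add_emod k 2, hk, add_zero, zpow_mul, h2, one_zpow]
    · right
      rw [← Int.mul_ediv_add_emod k 2, hk, zpow_add, zpow_mul, h2, one_zpow, one_mul, zpow_one]
  · rintro (rfl | rfl)
    · exact Subgroup.one_mem _
    · exact Subgroup.mem_zpowers _

theorem zpowers_le : Subgroup.zpowers (QuotientGroup.mk' N z) ≤ R.map (QuotientGroup.mk' N) := by
  rw [Subgroup.zpowers_le]
  exact Subgroup.mem_map_of_mem _ h.zR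

theorem comm_eq_one {a b : K} (ha : a ∈ R) (hb : b ∈ R)
    (hab : a * b * a⁻¹ * b⁻¹ ∈ N) : a * b = b * a := by
  have h1 : a * b * a⁻¹ * b⁻¹ = 1 :=
    h.disj _ (R.mul_mem (R.mul_mem (R.mul_mem ha hb) (R.inv_mem ha)) (R.inv_mem hb)) hab
  calc a * b = (a * b * a⁻¹ * b⁻¹) * (b * a) := by group
    _ = b * a := by rw [h1, one_mul]

theorem mk_comm_iff {c b : K} :
    QuotientGroup.mk' N c * QuotientGroup.mk' N b = QuotientGroup.mk' N b * QuotientGroup.mk' N c ↔
      c * b * c⁻¹ * b⁻¹ ∈ N := by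
  rw [← h.mk_eq_one_iff, map_mul, map_mul, map_mul, map_inv, map_inv]
  constructor
  · intro h1
    rw [h1]; group
  · intro h1
    calc QuotientGroup.mk' N c * QuotientGroup.mk' N b
        = (QuotientGroup.mk' N c * QuotientGroup.mk' N b * (QuotientGroup.mk' N c)⁻¹ *
            (QuotientGroup.mk' N b)⁻¹) * (QuotientGroup.mk' N b * QuotientGroup.mk' N c) := by group
      _ = QuotientGroup.mk' N b * QuotientGroup.mk' N c := by rw [h1, one_mul]

/-- `R̄ ∩ C(R̄) = ⟨z̄⟩`. -/
theorem inf_centralizer_eq :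
    R.map (QuotientGroup.mk' N) ⊓
      Subgroup.centralizer ((R.map (QuotientGroup.mk' N) : Subgroup (K ⧸ N)) : Set (K ⧸ N)) =
    Subgroup.zpowers (QuotientGroup.mk' N z) := by
  apply le_antisymm
  · intro y hy
    obtain ⟨hyR, hyC⟩ := Subgroup.mem_inf.mp hy
    obtain ⟨a, ha, rfl⟩ := Subgroup.mem_map.mp hyR
    rw [Subgroup.mem_centralizer_iff] at hyC
    have hcomm : ∀ b ∈ R, a * b = b * a := by
      intro b hb
      have h1 := hyC _ (Subgroup.mem_map_of_mem (QuotientGroup.mk' N) hb)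
      exact h.comm_eq_one ha hb (h.mk_comm_iff.mp h1.symm)
    rw [h.mem_zpowers_iff]
    rcases h.cen a ha hcomm with h1 | h1
    · left; rw [h1, map_one]
    · right; rw [h1]
  · apply le_inf h.zpowers_le
    rw [Subgroup.zpowers_le, Subgroup.mem_centralizer_iff]
    intro y hy
    obtain ⟨a, ha, rfl⟩ := Subgroup.mem_map.mp hy
    rw [← map_mul, ← map_mul, h.zc a ha]

theorem commutator_eq :
    ⁅R.map (QuotientGroup.mk' N), R.map (QuotientGroup.mk' N)⁆ =
      Subgroup.zpowers (QuotientGroup.mk' N z) := by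
  apply le_antisymm
  · rw [Subgroup.commutator_le]
    intro y hy w hw
    obtain ⟨a, ha, rfl⟩ := Subgroup.mem_map.mp hy
    obtain ⟨b, hb, rfl⟩ := Subgroup.mem_map.mp hw
    rw [h.mem_zpowers_iff, commutatorElement_def, ← map_inv, ← map_inv, ← map_mul, ← map_mul,
      ← map_mul]
    rcases h.comm a ha b hb with h1 | h1
    · left; rw [h1, map_one]
    · right; rw [h1]
  · rw [Subgroup.zpowers_le]
    obtain ⟨a, ha, b, hb, hab⟩ := h.nonab
    have h1 := Subgroup.commutator_mem_commutator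
      (Subgroup.mem_map_of_mem (QuotientGroup.mk' N) ha)
      (Subgroup.mem_map_of_mem (QuotientGroup.mk' N) hb)
    rw [commutatorElement_def, ← map_inv, ← map_inv, ← map_mul, ← map_mul, ← map_mul, hab] at h1
    exact h1

theorem extraspecial [Finite K] : IsExtraspecial 2 ↥(R.map (QuotientGroup.mk' N)) := by
  haveI : Fact (Nat.Prime 2) := ⟨Nat.prime_two⟩
  refine isExtraspecial_subgroup 2 _ (Subgroup.zpowers (QuotientGroup.mk' N z))
    (h.two.map _) h.zpowers_le ?_ h.inf_centralizer_eq h.commutator_eq ?_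
  · rw [Nat.card_zpowers, h.orderOf_mk_z]
  · intro y hy
    obtain ⟨a, ha, rfl⟩ := Subgroup.mem_map.mp hy
    rw [h.mem_zpowers_iff, pow_two, ← map_mul]
    rcases h.sq a ha with h1 | h1
    · left; rw [h1, map_one]
    · right; rw [h1]

theorem center_eq :
    (Subgroup.center ↥(R.map (QuotientGroup.mk' N))).map (R.map (QuotientGroup.mk' N)).subtype =
      Subgroup.zpowers (QuotientGroup.mk' N z) := by
  rw [map_center_eq, h.inf_centralizer_eq]

theorem centralizer_le :
    Subgroup.centralizer ((R.map (QuotientGroup.mk' N) : Subgroup (K ⧸ N)) : Set (K ⧸ N)) ≤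
      R.map (QuotientGroup.mk' N) := by
  intro y hy
  obtain ⟨c, rfl⟩ := QuotientGroup.mk'_surjective N y
  rw [Subgroup.mem_centralizer_iff] at hy
  obtain ⟨r, hr, hrc⟩ := h.cent c (fun b hb =>
    h.mk_comm_iff.mp (hy _ (Subgroup.mem_map_of_mem (QuotientGroup.mk' N) hb)).symm)
  rw [← h.mk_eq_mk_iff.mpr hrc]
  exact Subgroup.mem_map_of_mem _ hr

theorem centralizer_eq :
    Subgroup.centralizer ((R.map (QuotientGroup.mk' N) : Subgroup (K ⧸ N)) : Set (K ⧸ N)) =
      (Subgroup.center ↥(R.map (QuotientGroup.mk' N))).map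
        (R.map (QuotientGroup.mk' N)).subtype := by
  rw [h.center_eq, ← h.inf_centralizer_eq]
  exact (inf_eq_right.mpr h.centralizer_le).symm

theorem centralizer_center_le :
    Subgroup.centralizer (((Subgroup.center ↥(R.map (QuotientGroup.mk' N))).map
        (R.map (QuotientGroup.mk' N)).subtype : Subgroup (K ⧸ N)) : Set (K ⧸ N)) ≤
      Subgroup.normalizer ((R.map (QuotientGroup.mk' N) : Subgroup (K ⧸ N)) : Set (K ⧸ N)) := by
  rw [h.center_eq]
  apply le_normalizer_of_conj_mem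
  intro y hy n hn
  obtain ⟨c, rfl⟩ := QuotientGroup.mk'_surjective N y
  obtain ⟨p, hp, rfl⟩ := Subgroup.mem_map.mp hn
  rw [Subgroup.mem_centralizer_iff] at hy
  have h1 := hy _ (Subgroup.mem_zpowers (QuotientGroup.mk' N z))
  obtain ⟨r, hr, hrc⟩ := h.norm c (h.mk_comm_iff.mp h1.symm) p hp
  rw [← map_inv, ← map_mul, ← map_mul, ← h.mk_eq_mk_iff.mpr hrc]
  exact Subgroup.mem_map_of_mem _ hr

theorem card_eq [Finite K] : Nat.card ↥(R.map (QuotientGroup.mk' N)) = Nat.card R := by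
  have h1 := Subgroup.relIndex_ker (QuotientGroup.mk' N) (K := R)
  rw [QuotientGroup.ker_mk'] at h1
  rw [← h1, ← Subgroup.inf_relIndex_right]
  have h2 : N ⊓ R = ⊥ := by
    rw [eq_bot_iff]
    intro k hk
    obtain ⟨hkN, hkR⟩ := Subgroup.mem_inf.mp hk
    rw [Subgroup.mem_bot]
    exact h.disj k hkR hkN
  rw [h2, Subgroup.relIndex_bot_left]

/-- With one fusion `z ~ x ∈ R ∖ {1, z}`, the image of `R` is large extraspecial. -/
theorem large [Finite K] (w : ℕ) (hw : 2 ≤ w) (hcard : Nat.card R = 2 ^ (2 * w + 1))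
    (y x : K) (hx : x ∈ R) (hyx : y * z * y⁻¹ = x) (hx1 : x ≠ 1) (hxz : x ≠ z) :
    IsLargeExtraspecial (R.map (QuotientGroup.mk' N)) := by
  have hc : Nat.card ↥(R.map (QuotientGroup.mk' N)) = 2 ^ (2 * w + 1) := by
    rw [h.card_eq, hcard]
  have hx' : QuotientGroup.mk' N x ∉ Subgroup.zpowers (QuotientGroup.mk' N z) := by
    rw [h.mem_zpowers_iff]
    rintro (h1 | h1)
    · exact hx1 (h.disj x hx (h.mk_eq_one_iff.mp h1))
    · have h2 := h.mk_eq_mk_iff.mp h1.symm
      have h3 := h.disj _ (R.mul_mem (R.inv_mem h.zR) hx) h2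
      apply hxz
      calc x = z * (z⁻¹ * x) := by group
        _ = z := by rw [h3, mul_one]
  have hconj : QuotientGroup.mk' N y * QuotientGroup.mk' N z * (QuotientGroup.mk' N y)⁻¹ =
      QuotientGroup.mk' N x := by
    rw [← map_inv, ← map_mul, ← map_mul, hyx]
  refine (Cfsg.Agent.S5422.result (R.map (QuotientGroup.mk' N)) h.extraspecial h.centralizer_eq
    h.centralizer_center_le w hw hc (QuotientGroup.mk' N y) ?_ ?_).2.2
  · rw [h.center_eq]
    intro hn
    have := (Subgroup.mem_normalizer_iff.mp hn (QuotientGroup.mk' N z)).mp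
      (Subgroup.mem_zpowers _)
    rw [hconj] at this
    exact hx' this
  · rw [h.center_eq]
    rintro _ ⟨v, hv, rfl⟩
    rcases h.mem_zpowers_iff.mp hv with rfl | rfl
    · simp
    · change QuotientGroup.mk' N y * QuotientGroup.mk' N z * (QuotientGroup.mk' N y)⁻¹ ∈ _
      rw [hconj]
      exact Subgroup.mem_map_of_mem _ hx

end QCtx2

end LxS

end Cfsg.Agent.Lib.H27
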