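/-
helper27 library: in the setting `ACtx` of `LxOddB` (with `4 ∤ |C_G(AR)|`, `O(C_G(AR)) ≤ A`,
`|R| ≥ 32`), the image of `R = C_Q(A)` in `M/A`, `M = C_G(A) A`, is a large extraspecial subgroup.
-/
import Mathlib
import Cfsg.Agent.Lib.H27.LxOddB
import Cfsg.Agent.Lib.H27.LxQuotD
import Cfsg.Agent.S0095
import Cfsg.Agent.Lib.H22.LargeExtra4

set_option autoImplicit false
set_option linter.style.haveILetI false

namespace Cfsg.Agent.Lib.H27

namespace LxS

open Cfsg Cfsg.Agent.Lib.H22.LargeExtra Cfsg.Agent.Lib.H15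

variable {G : Type*} [Group G]

namespace ACtx

variable {Q : Subgroup G} {z : G} {A : Subgroup G} {g x : G} (c : ACtx Q z A g x)
include c

theorem decomp_M {m : G} (hm : m ∈ Subgroup.centralizer (A : Set G) ⊔ A) :
    ∃ c₀ ∈ Subgroup.centralizer (A : Set G), ∃ a ∈ A, m = c₀ * a := by
  refine exists_mul_of_mem_sup (fun a ha b hb => ?_) hm
  have h1 : a * b = b * a := Subgroup.mem_centralizer_iff.mp hb a ha
  have h2 : a * b * a⁻¹ = b := by rw [h1]; group
  rw [h2]; exact hb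

theorem exists_pow_two {b : G} (hb : b ∈ Q) : ∃ k : ℕ, b ^ (2 ^ k) = 1 := by
  obtain ⟨k, hk⟩ := c.e.hQ.1.1 ⟨b, hb⟩
  exact ⟨k, by simpa using congrArg Subtype.val hk⟩

/-- an element centralizing a 2-element `b ∈ C_G(A)` modulo `A` centralizes it. -/
theorem comm_of_comm_mem [Finite G] {k₀ b : G} (hb : b ∈ Subgroup.centralizer (A : Set G))
    {k : ℕ} (hbk : b ^ (2 ^ k) = 1) (hu : k₀ * b * k₀⁻¹ * b⁻¹ ∈ A) : k₀ * b = b * k₀ := by
  have hub : (k₀ * b * k₀⁻¹ * b⁻¹) * b = b * (k₀ * b * k₀⁻¹ * b⁻¹) :=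
    Subgroup.mem_centralizer_iff.mp hb _ hu
  have h1 : (k₀ * b * k₀⁻¹ * b⁻¹) * b = k₀ * b * k₀⁻¹ := by group
  have h2 : ((k₀ * b * k₀⁻¹ * b⁻¹) * b) ^ (2 ^ k) = 1 := by
    rw [h1, conj_pow, hbk]; group
  have h3 := eq_one_of_odd_of_two c.odd hu hub hbk h2
  calc k₀ * b = (k₀ * b * k₀⁻¹ * b⁻¹) * (b * k₀) := by group
    _ = b * k₀ := by rw [h3, one_mul]

theorem conj_mem_centralizer {m p : G} (hm : m ∈ Subgroup.centralizer (A : Set G) ⊔ A)
    (hp : p ∈ Subgroup.centralizer (A : Set G)) : m * p * m⁻¹ ∈ Subgroup.centralizer (A : Set G) := by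
  obtain ⟨c₀, hc₀, a, ha, rfl⟩ := c.decomp_M hm
  have h1 : a * p = p * a := Subgroup.mem_centralizer_iff.mp hp a ha
  have h2 : c₀ * a * p * (c₀ * a)⁻¹ = c₀ * p * c₀⁻¹ := by
    calc c₀ * a * p * (c₀ * a)⁻¹ = c₀ * (a * p) * a⁻¹ * c₀⁻¹ := by group
      _ = c₀ * (p * a) * a⁻¹ * c₀⁻¹ := by rw [h1]
      _ = c₀ * p * c₀⁻¹ := by group
  rw [h2]
  exact Subgroup.mul_mem _ (Subgroup.mul_mem _ hc₀ hp) (Subgroup.inv_mem _ hc₀)

theorem mem_R' {k : ↥(Subgroup.centralizer (A : Set G) ⊔ A)} :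
    k ∈ (Q ⊓ Subgroup.centralizer (A : Set G)).subgroupOf (Subgroup.centralizer (A : Set G) ⊔ A) ↔
      (k : G) ∈ Q ⊓ Subgroup.centralizer (A : Set G) := Subgroup.mem_subgroupOf

theorem R_le_M : Q ⊓ Subgroup.centralizer (A : Set G) ≤ Subgroup.centralizer (A : Set G) ⊔ A :=
  inf_le_right.trans le_sup_left

theorem qctx2 [Finite G]
    (hO : (oddCore ↥(Subgroup.centralizer
      ((A ⊔ (Q ⊓ Subgroup.centralizer (A : Set G)) : Subgroup G) : Set G))).map
      (Subgroup.centralizer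
        ((A ⊔ (Q ⊓ Subgroup.centralizer (A : Set G)) : Subgroup G) : Set G)).subtype ≤ A)
    (h4 : ¬ 4 ∣ Nat.card ↥(Subgroup.centralizer
      ((A ⊔ (Q ⊓ Subgroup.centralizer (A : Set G)) : Subgroup G) : Set G))) :
    QCtx2 (A.subgroupOf (Subgroup.centralizer (A : Set G) ⊔ A))
      ((Q ⊓ Subgroup.centralizer (A : Set G)).subgroupOf (Subgroup.centralizer (A : Set G) ⊔ A))
      (⟨z, c.R_le_M c.z_mem_R⟩ : ↥(Subgroup.centralizer (A : Set G) ⊔ A)) where
  two := by
    have h1 : IsPGroup 2 ↥(Q ⊓ Subgroup.centralizer (A : Set G)) := c.e.hQ.1.1.to_le inf_le_left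
    exact h1.comap_of_injective _ (Subgroup.subtype_injective _)
  disj := by
    intro r hr hrA
    rw [c.mem_R'] at hr
    rw [Subgroup.mem_subgroupOf] at hrA
    obtain ⟨k, hk⟩ := c.exists_pow_two (c.mem_R.mp hr).1
    apply Subtype.ext
    exact eq_one_of_odd_of_two c.odd hrA (by rw [mul_one, one_mul]) (one_pow _)
      (by rw [mul_one]; exact hk)
  zR := c.mem_R'.mpr c.z_mem_R
  z1 := fun h => c.e.z_ne_one (congrArg Subtype.val h)
  zz := Subtype.ext c.e.z_sq
  zc := by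
    intro a ha
    exact Subtype.ext (c.e.lx.cz a (c.mem_R.mp (c.mem_R'.mp ha)).1)
  comm := by
    intro a ha b hb
    rcases c.e.lx.comm a (c.mem_R.mp (c.mem_R'.mp ha)).1 b (c.mem_R.mp (c.mem_R'.mp hb)).1
      with h1 | h1
    · left; exact Subtype.ext h1
    · right; exact Subtype.ext h1
  sq := by
    intro a ha
    rcases c.e.lx.sq a (c.mem_R.mp (c.mem_R'.mp ha)).1 with h1 | h1
    · left; exact Subtype.ext h1
    · right; exact Subtype.ext h1
  cen := by
    intro a ha hall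
    have h1 : ∀ r ∈ Q ⊓ Subgroup.centralizer (A : Set G), r * (a : G) = (a : G) * r := by
      intro r hr
      have := hall ⟨r, c.R_le_M hr⟩ (c.mem_R'.mpr hr)
      exact (congrArg Subtype.val this).symm
    rcases c.cen (c.mem_R'.mp ha) h1 with h2 | h2
    · left; exact Subtype.ext h2
    · right; exact Subtype.ext h2
  cent := by
    intro k hk
    -- `k` centralizes `R`
    have hkR : ∀ b ∈ Q ⊓ Subgroup.centralizer (A : Set G), (k : G) * b = b * (k : G) := by
      intro b hb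
      obtain ⟨n, hn⟩ := c.exists_pow_two (c.mem_R.mp hb).1
      apply c.comm_of_comm_mem (Subgroup.mem_inf.mp hb).2 hn
      have := hk ⟨b, c.R_le_M hb⟩ (c.mem_R'.mpr hb)
      rw [Subgroup.mem_subgroupOf] at this
      exact this
    obtain ⟨c₀, hc₀, a, ha, hka⟩ := c.decomp_M k.2
    have hc₀R : ∀ b ∈ Q ⊓ Subgroup.centralizer (A : Set G), b * c₀ = c₀ * b := by
      intro b hb
      have h1 : a * b = b * a := (c.mem_R.mp hb).2 a ha
      have h2 := hkR b hb
      rw [hka] at h2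
      have h3 : a⁻¹ * b = b * a⁻¹ := by
        calc a⁻¹ * b = a⁻¹ * (b * a) * a⁻¹ := by group
          _ = a⁻¹ * (a * b) * a⁻¹ := by rw [h1]
          _ = b * a⁻¹ := by group
      calc b * c₀ = (b * (c₀ * a)) * a⁻¹ := by group
        _ = (c₀ * a * b) * a⁻¹ := by rw [h2]
        _ = c₀ * a * (b * a⁻¹) := by group
        _ = c₀ * a * (a⁻¹ * b) := by rw [h3]
        _ = c₀ * b := by group
    have hc₀D : c₀ ∈ Subgroup.centralizer
        ((A ⊔ (Q ⊓ Subgroup.centralizer (A : Set G)) : Subgroup G) : Set G) := by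
      have hle : A ⊔ (Q ⊓ Subgroup.centralizer (A : Set G)) ≤
          Subgroup.centralizer ({c₀} : Set G) := by
        apply sup_le
        · intro a' ha'
          exact Subgroup.mem_centralizer_singleton_iff.mpr
            (Subgroup.mem_centralizer_iff.mp hc₀ a' ha')
        · intro b hb
          exact Subgroup.mem_centralizer_singleton_iff.mpr (hc₀R b hb)
      rw [Subgroup.mem_centralizer_iff]
      intro h hh
      exact Subgroup.mem_centralizer_singleton_iff.mp (hle hh)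
    obtain ⟨a₁, ha₁, h5⟩ := c.mem_D hO h4 hc₀D
    rcases h5 with h5 | h5
    · refine ⟨1, Subgroup.one_mem _, ?_⟩
      rw [Subgroup.mem_subgroupOf]
      have : ((1⁻¹ * k : ↥(Subgroup.centralizer (A : Set G) ⊔ A)) : G) = a₁ * a := by
        rw [inv_one, one_mul, hka, h5]
      rw [this]
      exact A.mul_mem ha₁ ha
    · refine ⟨⟨z, c.R_le_M c.z_mem_R⟩, c.mem_R'.mpr c.z_mem_R, ?_⟩
      rw [Subgroup.mem_subgroupOf]
      have hzinv : z⁻¹ = z := inv_eq_of_mul_eq_one_right c.e.z_sq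
      have : (((⟨z, c.R_le_M c.z_mem_R⟩ : ↥(Subgroup.centralizer (A : Set G) ⊔ A))⁻¹ * k :
          ↥(Subgroup.centralizer (A : Set G) ⊔ A)) : G) = a₁ * a := by
        change z⁻¹ * (k : G) = a₁ * a
        rw [hka, h5, hzinv]
        calc z * (a₁ * z * a) = (z * a₁) * z * a := by group
          _ = (a₁ * z) * z * a := by rw [c.comm_A_z ha₁]
          _ = a₁ * (z * z) * a := by group
          _ = a₁ * a := by rw [c.e.z_sq, mul_one]
      rw [this]
      exact A.mul_mem ha₁ ha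
  norm := by
    intro k hk p hp
    have hkz : (k : G) * z = z * (k : G) := by
      apply c.comm_of_comm_mem (k := 1) (Subgroup.mem_inf.mp c.z_mem_R).2
      · rw [pow_one, pow_two]; exact c.e.z_sq
      · rw [Subgroup.mem_subgroupOf] at hk
        exact hk
    refine ⟨k * p * k⁻¹, ?_, ?_⟩
    · rw [c.mem_R', Subgroup.mem_inf]
      rw [c.mem_R', Subgroup.mem_inf] at hp
      exact ⟨c.e.conj_mem hkz hp.1, c.conj_mem_centralizer k.2 hp.2⟩
    · rw [inv_mul_cancel]
      exact Subgroup.one_mem _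
  nonab := by
    obtain ⟨q, hq, hqx⟩ := c.exists_q
    refine ⟨⟨q, c.R_le_M hq⟩, c.mem_R'.mpr hq, ⟨x, c.R_le_M c.xR⟩, c.mem_R'.mpr c.xR, ?_⟩
    apply Subtype.ext
    change q * x * q⁻¹ * x⁻¹ = z
    rw [hqx]; group

/-- The image of `R = C_Q(A)` in `M/A` is a large extraspecial subgroup. -/
theorem large [Finite G]
    [hn : (A.subgroupOf (Subgroup.centralizer (A : Set G) ⊔ A)).Normal]
    (hO : (oddCore ↥(Subgroup.centralizer
      ((A ⊔ (Q ⊓ Subgroup.centralizer (A : Set G)) : Subgroup G) : Set G))).map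
      (Subgroup.centralizer
        ((A ⊔ (Q ⊓ Subgroup.centralizer (A : Set G)) : Subgroup G) : Set G)).subtype ≤ A)
    (h4 : ¬ 4 ∣ Nat.card ↥(Subgroup.centralizer
      ((A ⊔ (Q ⊓ Subgroup.centralizer (A : Set G)) : Subgroup G) : Set G)))
    (hR32 : 32 ≤ Nat.card ↥(Q ⊓ Subgroup.centralizer (A : Set G))) :
    IsLargeExtraspecial
      (((Q ⊓ Subgroup.centralizer (A : Set G)).subgroupOf
        (Subgroup.centralizer (A : Set G) ⊔ A)).map
        (QuotientGroup.mk' (A.subgroupOf (Subgroup.centralizer (A : Set G) ⊔ A)))) := by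
  haveI : Fact (Nat.Prime 2) := ⟨Nat.prime_two⟩
  -- `R` is extraspecial of width at least 2
  have hRes : IsExtraspecial 2 ↥(Q ⊓ Subgroup.centralizer (A : Set G)) := by
    rcases (cent_odd Q c.e.hQ c.e.centralizer_eq A c.A_le_normalizer c.odd).2.2 with h1 | h1
    · exfalso
      rw [h1, Subgroup.card_map_of_injective Q.subtype_injective, c.e.hQ.2] at hR32
      omega
    · exact h1
  obtain ⟨n, hn1, hn⟩ := Cfsg.Agent.S0095.result hRes
  have hn2 : 2 ≤ n := by
    by_contra hlt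
    have : n = 1 := by omega
    rw [this] at hn
    rw [hn] at hR32
    norm_num at hR32
  have hcardR : Nat.card ↥((Q ⊓ Subgroup.centralizer (A : Set G)).subgroupOf
      (Subgroup.centralizer (A : Set G) ⊔ A)) = 2 ^ (2 * n + 1) := by
    rw [Nat.card_congr (Subgroup.subgroupOfEquivOfLe c.R_le_M).toEquiv, hn]
  obtain ⟨q, hq, q', hq', hy⟩ := c.exists_y
  have hyM : (q' * q)⁻¹ ∈ Subgroup.centralizer (A : Set G) ⊔ A := by
    apply Subgroup.inv_mem
    apply Subgroup.mul_mem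
    · exact Subgroup.mem_sup_left (Subgroup.mem_inf.mp hq').2
    · exact c.R_le_M hq
  refine (c.qctx2 hO h4).large n hn2 hcardR ⟨(q' * q)⁻¹, hyM⟩ ⟨x, c.R_le_M c.xR⟩
    (c.mem_R'.mpr c.xR) ?_ ?_ ?_
  · apply Subtype.ext
    change (q' * q)⁻¹ * z * (q' * q)⁻¹⁻¹ = x
    rw [← hy]; group
  · exact fun h => c.x1 (congrArg Subtype.val h)
  · exact fun h => c.xz (congrArg Subtype.val h)

end ACtx

end LxS

end Cfsg.Agent.Lib.H27
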