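/-
helper27 library: in the setting `TCtx` of `LxQuotB`, the image of `P = C_Q(t)` in `C_G(t)/⟨t⟩` is a
large extraspecial subgroup.
-/
import Mathlib
import Cfsg.Agent.Lib.H27.LxQuotB

set_option autoImplicit false
set_option linter.style.haveILetI false

namespace Cfsg.Agent.Lib.H27

namespace LxS

open Cfsg Cfsg.Agent.Lib.H22.LargeExtra Cfsg.Agent.Lib.H15

variable {G : Type*} [Group G]

namespace TCtx

variable {Q : Subgroup G} {z t g x : G} (c : TCtx Q z t g x)
include c

theorem t_mem_Ct : t ∈ Subgroup.centralizer ({t} : Set G) :=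
  Subgroup.mem_centralizer_singleton_iff.mpr rfl

theorem z_mem_Ct : z ∈ Subgroup.centralizer ({t} : Set G) :=
  Subgroup.mem_centralizer_singleton_iff.mpr c.tzc.symm

theorem x_mem_Ct : x ∈ Subgroup.centralizer ({t} : Set G) :=
  Subgroup.mem_centralizer_singleton_iff.mpr c.tx.symm

theorem mem_R {k : ↥(Subgroup.centralizer ({t} : Set G))} :
    k ∈ (Q ⊓ Subgroup.centralizer ({t} : Set G)).subgroupOf (Subgroup.centralizer ({t} : Set G)) ↔
      (k : G) ∈ Q := by
  rw [Subgroup.mem_subgroupOf, Subgroup.mem_inf]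
  exact ⟨fun h => h.1, fun h => ⟨h, k.2⟩⟩

theorem comm_t (k : ↥(Subgroup.centralizer ({t} : Set G))) : (k : G) * t = t * (k : G) :=
  Subgroup.mem_centralizer_singleton_iff.mp k.2

theorem qctx :
    QCtx ((Subgroup.zpowers t).subgroupOf (Subgroup.centralizer ({t} : Set G)))
      ((Q ⊓ Subgroup.centralizer ({t} : Set G)).subgroupOf (Subgroup.centralizer ({t} : Set G)))
      (⟨t, c.t_mem_Ct⟩ : ↥(Subgroup.centralizer ({t} : Set G))) ⟨z, c.z_mem_Ct⟩ where
  memN := by
    intro k
    rw [Subgroup.mem_subgroupOf, mem_zpowers_iff_of_sq c.tt, Subtype.ext_iff, Subtype.ext_iff]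
    rfl
  t1 := fun h => c.t1 (congrArg Subtype.val h)
  two := by
    have h1 : IsPGroup 2 ↥(Q ⊓ Subgroup.centralizer ({t} : Set G)) := c.two.to_le inf_le_left
    exact h1.comap_of_injective _ (Subgroup.subtype_injective _)
  tR := c.mem_R.mpr c.tQ
  zR := c.mem_R.mpr c.lx.mem
  z1 := fun h => c.lx.ne_one (congrArg Subtype.val h)
  zt := fun h => c.tz (congrArg Subtype.val h).symm
  zz := Subtype.ext c.lx.sq_one
  zc := by
    intro a ha
    exact Subtype.ext (c.lx.cz a (c.mem_R.mp ha))
  comm := by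
    intro a ha b hb
    rcases c.lx.comm a (c.mem_R.mp ha) b (c.mem_R.mp hb) with h1 | h1
    · left; exact Subtype.ext h1
    · right; exact Subtype.ext h1
  sq := by
    intro a ha
    rcases c.lx.sq a (c.mem_R.mp ha) with h1 | h1
    · left; exact Subtype.ext h1
    · right; exact Subtype.ext h1
  cen := by
    intro a ha hall
    have h1 : ∀ f ∈ Q, f * t = t * f → (a : G) * f = f * (a : G) := by
      intro f hf hft
      have hfC : f ∈ Subgroup.centralizer ({t} : Set G) :=
        Subgroup.mem_centralizer_singleton_iff.mpr hft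
      have := hall ⟨f, hfC⟩ (c.mem_R.mpr hf)
      exact congrArg Subtype.val this
    rcases c.dcent (c.mem_R.mp ha) h1 with h2 | h2 | h2 | h2
    · left; exact Subtype.ext h2
    · right; left; exact Subtype.ext h2
    · right; right; left; exact Subtype.ext h2
    · right; right; right; exact Subtype.ext h2
  cent := by
    intro k hk
    rw [c.mem_R]
    have hkz : (k : G) * z = z * (k : G) := by
      apply c.comm_z_of_mod
      rcases hk ⟨z, c.z_mem_Ct⟩ (c.mem_R.mpr c.lx.mem) with h1 | h1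
      · left; exact congrArg Subtype.val h1
      · right; exact congrArg Subtype.val h1
    apply c.hCP (k : G) hkz (c.comm_t k)
    intro p hp hpt
    have hpC : p ∈ Subgroup.centralizer ({t} : Set G) :=
      Subgroup.mem_centralizer_singleton_iff.mpr hpt
    rcases hk ⟨p, hpC⟩ (c.mem_R.mpr hp) with h1 | h1
    · left
      have h2 : (k : G) * p * (k : G)⁻¹ * p⁻¹ = 1 := congrArg Subtype.val h1
      calc (k : G) * p * (k : G)⁻¹ = ((k : G) * p * (k : G)⁻¹ * p⁻¹) * p := by group
        _ = p := by rw [h2, one_mul]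
    · right
      have h2 : (k : G) * p * (k : G)⁻¹ * p⁻¹ = t := congrArg Subtype.val h1
      calc (k : G) * p * (k : G)⁻¹ = ((k : G) * p * (k : G)⁻¹ * p⁻¹) * p := by group
        _ = t * p := by rw [h2]
        _ = p * t := hpt.symm
  norm := by
    intro k hk p hp
    rw [c.mem_R] at hp ⊢
    have hkz : (k : G) * z = z * (k : G) := by
      apply c.comm_z_of_mod
      rcases hk with h1 | h1
      · left; exact congrArg Subtype.val h1
      · right; exact congrArg Subtype.val h1
    exact c.lx.normal (k : G) hkz p hp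
  nonab := by
    obtain ⟨f, hf, hft, hfx⟩ := c.exists_f
    have hfC : f ∈ Subgroup.centralizer ({t} : Set G) :=
      Subgroup.mem_centralizer_singleton_iff.mpr hft
    refine ⟨⟨f, hfC⟩, c.mem_R.mpr hf, ⟨x, c.x_mem_Ct⟩, c.mem_R.mpr c.xQ, ?_⟩
    apply Subtype.ext
    change f * x * f⁻¹ * x⁻¹ = z
    rw [hfx]; group

/-- The image of `P = C_Q(t)` in `C_G(t)/⟨t⟩` is a large extraspecial subgroup. -/
theorem large [Finite G]
    [hn : ((Subgroup.zpowers t).subgroupOf (Subgroup.centralizer ({t} : Set G))).Normal]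
    (w : ℕ) (hw : 3 ≤ w) (hcard : Nat.card Q = 2 ^ (2 * w + 1)) :
    IsLargeExtraspecial
      (((Q ⊓ Subgroup.centralizer ({t} : Set G)).subgroupOf
        (Subgroup.centralizer ({t} : Set G))).map
        (QuotientGroup.mk' ((Subgroup.zpowers t).subgroupOf
          (Subgroup.centralizer ({t} : Set G))))) := by
  obtain ⟨f, hf, f', hf', hft, hft', hy⟩ := c.exists_y
  have hyC : (f' * f)⁻¹ ∈ Subgroup.centralizer ({t} : Set G) := by
    apply Subgroup.inv_mem
    apply Subgroup.mul_mem
    · exact Subgroup.mem_centralizer_singleton_iff.mpr hft'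
    · exact Subgroup.mem_centralizer_singleton_iff.mpr hft
  have hcardR : Nat.card ↥((Q ⊓ Subgroup.centralizer ({t} : Set G)).subgroupOf
      (Subgroup.centralizer ({t} : Set G))) = 2 ^ (2 * (w - 1) + 2) := by
    rw [Nat.card_congr (Subgroup.subgroupOfEquivOfLe
      (inf_le_right : Q ⊓ Subgroup.centralizer ({t} : Set G) ≤ _)).toEquiv]
    have h1 := c.card_Q
    rw [hcard] at h1
    have h2 : 2 * w + 1 = (2 * (w - 1) + 2) + 1 := by omega
    rw [h2, pow_succ] at h1
    omega
  refine c.qctx.large (w - 1) (by omega) hcardR ⟨(f' * f)⁻¹, hyC⟩ ⟨x, c.x_mem_Ct⟩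
    (c.mem_R.mpr c.xQ) ?_ ?_ ?_ ?_ ?_
  · apply Subtype.ext
    change (f' * f)⁻¹ * z * (f' * f)⁻¹⁻¹ = x
    rw [← hy]; group
  · exact fun h => c.x1 (congrArg Subtype.val h)
  · exact fun h => c.xz (congrArg Subtype.val h)
  · exact fun h => c.x_ne_t (congrArg Subtype.val h)
  · exact fun h => c.x_ne_zt (congrArg Subtype.val h)

end TCtx

end LxS

end Cfsg.Agent.Lib.H27
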