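/-
helper27 library: large extraspecial 2-subgroups, the case `O_2(G) ≠ 1` of the structure theorem:
the normal closure of `z` is abelian and `F*(G) = O_2(G)`.
-/
import Mathlib
import Cfsg.Agent.Lib.H27.LxStructA

set_option autoImplicit false
set_option linter.style.haveILetI false

namespace Cfsg.Agent.Lib.H27

namespace LxS

open Cfsg Cfsg.Agent.Lib.H22.LargeExtra

variable {G : Type*} [Group G] {Q : Subgroup G} {z : G}

theorem pow_conj_of_commute {d a w : G} (hw : d * a * d⁻¹ = w * a) (hdw : d * w = w * d) (j : ℕ) :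
    d ^ j * a * (d ^ j)⁻¹ = w ^ j * a := by
  induction j with
  | zero => simp
  | succ j ih =>
    have hdwj : d * w ^ j = w ^ j * d := by
      have : Commute d w := hdw
      exact (this.pow_right j).eq
    calc d ^ (j + 1) * a * (d ^ (j + 1))⁻¹ = d * (d ^ j * a * (d ^ j)⁻¹) * d⁻¹ := by
          rw [pow_succ']; group
      _ = d * (w ^ j * a) * d⁻¹ := by rw [ih]
      _ = (d * w ^ j) * a * d⁻¹ := by group
      _ = (w ^ j * d) * a * d⁻¹ := by rw [hdwj]
      _ = w ^ j * (d * a * d⁻¹) := by group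
      _ = w ^ j * (w * a) := by rw [hw]
      _ = w ^ (j + 1) * a := by rw [pow_succ]; group

theorem eq_one_of_pow_odd_of_pow_four {w : G} {m : ℕ} (hm : Odd m) (h1 : w ^ m = 1)
    (h4 : w ^ 4 = 1) : w = 1 := by
  have h := pow_gcd_eq_one.mpr ⟨h1, h4⟩
  have hc : Nat.Coprime m 4 := by
    have : Nat.Coprime m (2 ^ 2) := Nat.Coprime.pow_right 2 (Nat.coprime_two_right.mpr hm)
    exact this
  rw [hc, pow_one] at h
  exact h

/-- If `O_2(G) ≠ 1` then `z` lies in the centre of `O_2(G)`. -/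
theorem LCtx.mem_center_pCore [Finite G] (h : LCtx Q z) (hT : pCore 2 G ≠ ⊥) :
    z ∈ pCore 2 G ⊓ Subgroup.centralizer (pCore 2 G : Set G) := by
  haveI : Fact (Nat.Prime 2) := ⟨Nat.prime_two⟩
  haveI hTn : (pCore 2 G).Normal := Cfsg.Agent.Lib.H1.pCore_normal 2 G
  have hT2 : IsPGroup 2 (pCore 2 G) := Cfsg.Agent.Lib.H1.pCore_isPGroup 2 G
  have hWn : (pCore 2 G ⊓ Subgroup.centralizer (pCore 2 G : Set G)).Normal := inferInstance
  apply h.mem_of_normal hWn
  haveI hnt : Nontrivial (pCore 2 G) := (Subgroup.nontrivial_iff_ne_bot _).mpr hT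
  have hc : Nontrivial (Subgroup.center (pCore 2 G)) := hT2.center_nontrivial
  obtain ⟨c, hc1⟩ := exists_ne (1 : Subgroup.center (pCore 2 G))
  intro hb
  have hcW : ((c : pCore 2 G) : G) ∈ pCore 2 G ⊓ Subgroup.centralizer (pCore 2 G : Set G) := by
    refine Subgroup.mem_inf.mpr ⟨(c : pCore 2 G).2, ?_⟩
    rw [Subgroup.mem_centralizer_iff]
    intro t ht
    have := Subgroup.mem_center_iff.mp c.2 ⟨t, ht⟩
    exact congrArg Subtype.val this
  rw [hb, Subgroup.mem_bot] at hcW
  apply hc1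
  apply Subtype.ext
  apply Subtype.ext
  simpa using hcW

/-- If `O_2(G) ≠ 1` then the normal closure of `z` is abelian. -/
theorem LCtx.comm_of_pCore_ne_bot [Finite G] (h : LCtx Q z) (hT : pCore 2 G ≠ ⊥)
    {a b : G} (ha : a ∈ Subgroup.normalClosure ({z} : Set G))
    (hb : b ∈ Subgroup.normalClosure ({z} : Set G)) : a * b = b * a := by
  haveI hTn : (pCore 2 G).Normal := Cfsg.Agent.Lib.H1.pCore_normal 2 G
  have hWn : (pCore 2 G ⊓ Subgroup.centralizer (pCore 2 G : Set G)).Normal := inferInstance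
  have hz := h.mem_center_pCore hT
  have hle : Subgroup.normalClosure ({z} : Set G)
      ≤ pCore 2 G ⊓ Subgroup.centralizer (pCore 2 G : Set G) := by
    apply Subgroup.normalClosure_le_normal
    intro x hx
    rw [Set.mem_singleton_iff] at hx
    rw [hx]
    exact hz
  have ha' := (Subgroup.mem_inf.mp (hle ha)).1
  have hb' := (Subgroup.mem_inf.mp (hle hb)).2
  rw [Subgroup.mem_centralizer_iff] at hb'
  exact hb' a ha'

/-- If `O_2(G) ≠ 1` then `C_G(O_2(G)) ≤ O_2(G)`. -/
theorem LCtx.centralizer_pCore_le [Finite G] (h : LCtx Q z) (hT : pCore 2 G ≠ ⊥) :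
    Subgroup.centralizer (pCore 2 G : Set G) ≤ pCore 2 G := by
  haveI : Fact (Nat.Prime 2) := ⟨Nat.prime_two⟩
  haveI hTn : (pCore 2 G).Normal := Cfsg.Agent.Lib.H1.pCore_normal 2 G
  have hz := Subgroup.mem_inf.mp (h.mem_center_pCore hT)
  set C : Subgroup G := Subgroup.centralizer (pCore 2 G : Set G) with hC
  have hCn : C.Normal := inferInstance
  have hCz : ∀ c ∈ C, c * z = z * c := by
    intro c hc
    rw [hC, Subgroup.mem_centralizer_iff] at hc
    exact (hc z hz.1).symm
  -- `C ⊓ Q` lies in `O_2(G)`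
  have hCQ : C ⊓ Q ≤ pCore 2 G := by
    apply Cfsg.Agent.Lib.H14.le_pCore_of_isSubnormal_of_isPGroup 2
    · refine Subgroup.IsSubnormal.step (C ⊓ Q) C inf_le_left hCn.isSubnormal ?_
      apply Subgroup.normal_subgroupOf_of_le_normalizer
      apply le_normalizer_of_conj_mem
      intro v hv n hn
      rw [Subgroup.mem_inf] at hn ⊢
      exact ⟨C.mul_mem (C.mul_mem hv hn.1) (C.inv_mem hv), h.lx.normal v (hCz v hv) n hn.2⟩
    · exact h.two.to_le inf_le_right
  -- elements of odd order of `C` are trivial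
  have hodd : ∀ d ∈ C, ∀ m : ℕ, Odd m → d ^ m = 1 → d = 1 := by
    intro d hd m hm hdm
    have hcomm : ∀ a ∈ Q, a * d = d * a := by
      intro a ha
      set w := d * a * d⁻¹ * a⁻¹ with hw
      have hwQ : w ∈ Q := Q.mul_mem (h.lx.normal d (hCz d hd) a ha) (Q.inv_mem ha)
      have hwC : w ∈ C := by
        have e : w = d * (a * d⁻¹ * a⁻¹) := by rw [hw]; group
        rw [e]
        exact C.mul_mem hd (hCn.conj_mem _ (C.inv_mem hd) a)
      have hwT : w ∈ pCore 2 G := hCQ (Subgroup.mem_inf.mpr ⟨hwC, hwQ⟩)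
      have hdw : d * w = w * d := by
        have := hd
        rw [hC, Subgroup.mem_centralizer_iff] at this
        exact (this w hwT).symm
      have hconj : d * a * d⁻¹ = w * a := by rw [hw]; group
      have h1 := pow_conj_of_commute hconj hdw m
      rw [hdm, one_mul, inv_one, mul_one] at h1
      have hwm : w ^ m = 1 := by
        have : w ^ m * a = 1 * a := by rw [one_mul]; exact h1.symm
        exact mul_right_cancel this
      have hw1 : w = 1 := eq_one_of_pow_odd_of_pow_four hm hwm (h.pow_four hwQ)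
      rw [hw1, one_mul] at hconj
      calc a * d = (d * a * d⁻¹) * d := by rw [hconj]
        _ = d * a := by group
    rcases h.eq_of_centralizes hcomm with h1 | h1
    · exact h1
    · exfalso
      rw [h1] at hdm
      have h2 : z ^ 2 = 1 := by rw [pow_two]; exact h.lx.sq_one
      have h3 := pow_gcd_eq_one.mpr ⟨hdm, h2⟩
      have hc : Nat.Coprime m 2 := Nat.coprime_two_right.mpr hm
      rw [hc, pow_one] at h3
      exact h.lx.ne_one h3
  have hC2 : IsPGroup 2 C := by
    intro g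
    have hn0 : orderOf (g : G) ≠ 0 := (orderOf_pos (g : G)).ne'
    obtain ⟨k, m, hm, hkm⟩ := Nat.exists_eq_two_pow_mul_odd hn0
    refine ⟨k, ?_⟩
    have hd : ((g : G) ^ 2 ^ k) ^ m = 1 := by
      rw [← pow_mul, ← hkm]
      exact pow_orderOf_eq_one _
    have := hodd _ (C.pow_mem g.2 _) m hm hd
    apply Subtype.ext
    simpa using this
  exact Cfsg.Agent.Lib.H1.le_pCore hCn hC2

/-- If `O_2(G) ≠ 1` then `F*(G) = O_2(G)`. -/
theorem LCtx.fstar_eq_pCore [Finite G] (h : LCtx Q z) (hT : pCore 2 G ≠ ⊥) :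
    generalizedFittingSubgroup G = pCore 2 G := by
  haveI : Fact (Nat.Prime 2) := ⟨Nat.prime_two⟩
  exact Cfsg.Agent.Lib.H7.generalizedFittingSubgroup_eq_pCore_of_centralizer_le 2
    (h.centralizer_pCore_le hT)

end LxS

end Cfsg.Agent.Lib.H27
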