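/-
helper27 library: large extraspecial 2-subgroups, the case `O_2(G) = 1` of the structure theorem:
the normal closure `M` of `z` is the unique minimal normal subgroup, is non-abelian, and equals
`F*(G)`.
-/
import Mathlib
import Cfsg.Agent.Lib.H27.LxStructB
import Cfsg.Agent.Lib.H4.Der.Struct
import Cfsg.Agent.S1325
import Cfsg.Agent.S1265

set_option autoImplicit false
set_option linter.style.haveILetI false

namespace Cfsg.Agent.Lib.H27

namespace LxS

open Cfsg Cfsg.Agent.Lib.H22.LargeExtra Cfsg.Agent.Lib.H4.Der

variable {G : Type*} [Group G] {Q : Subgroup G} {z : G}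

/-- The elements of square one of an abelian subgroup. -/
def sqOne (M : Subgroup G) (hab : ∀ a ∈ M, ∀ b ∈ M, a * b = b * a) : Subgroup G where
  carrier := {m | m ∈ M ∧ m * m = 1}
  mul_mem' := by
    rintro a b ⟨ha, ha2⟩ ⟨hb, hb2⟩
    refine ⟨M.mul_mem ha hb, ?_⟩
    calc a * b * (a * b) = a * (b * a) * b := by group
      _ = a * (a * b) * b := by rw [hab b hb a ha]
      _ = (a * a) * (b * b) := by group
      _ = 1 := by rw [ha2, hb2, one_mul]
  one_mem' := ⟨M.one_mem, by rw [one_mul]⟩
  inv_mem' := by
    rintro a ⟨ha, ha2⟩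
    refine ⟨M.inv_mem ha, ?_⟩
    rw [← mul_inv_rev, ha2, inv_one]

/-- If `O_2(G) = 1` then the normal closure of `z` is not abelian. -/
theorem LCtx.not_comm [Finite G] (h : LCtx Q z) (hT : pCore 2 G = ⊥) :
    ¬ ∀ a ∈ Subgroup.normalClosure ({z} : Set G), ∀ b ∈ Subgroup.normalClosure ({z} : Set G),
      a * b = b * a := by
  intro hab
  set M := Subgroup.normalClosure ({z} : Set G) with hM
  have hMn : M.Normal := Subgroup.normalClosure_normal
  have hzM : z ∈ M := Subgroup.subset_normalClosure (Set.mem_singleton z)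
  have hN : (sqOne M hab).Normal := by
    constructor
    rintro n ⟨hn, hn2⟩ g
    refine ⟨hMn.conj_mem n hn g, ?_⟩
    calc g * n * g⁻¹ * (g * n * g⁻¹) = g * (n * n) * g⁻¹ := by group
      _ = 1 := by rw [hn2]; group
  have hN2 : IsPGroup 2 (sqOne M hab) := by
    intro g
    refine ⟨1, ?_⟩
    apply Subtype.ext
    have := g.2.2
    simpa [pow_two] using this
  have hle := Cfsg.Agent.Lib.H1.le_pCore hN hN2
  rw [hT] at hle
  have hz : z ∈ sqOne M hab := ⟨hzM, h.lx.sq_one⟩
  have := hle hz
  rw [Subgroup.mem_bot] at this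
  exact h.lx.ne_one this

/-- If `O_2(G) = 1` then the normal closure of `z` is a minimal normal subgroup. -/
theorem LCtx.minNormal [Finite G] (h : LCtx Q z) :
    MinNormal (Subgroup.normalClosure ({z} : Set G)) := by
  refine ⟨Subgroup.normalClosure_normal, ?_, ?_⟩
  · intro hb
    have hzM : z ∈ Subgroup.normalClosure ({z} : Set G) :=
      Subgroup.subset_normalClosure (Set.mem_singleton z)
    rw [hb, Subgroup.mem_bot] at hzM
    exact h.lx.ne_one hzM
  · intro N hN hN1 hle
    exact le_antisymm hle (h.normalClosure_le hN hN1)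

/-- The Fitting subgroup is trivial if `O_2(G) = 1`. -/
theorem LCtx.fitting_eq_bot [Finite G] (h : LCtx Q z) (hT : pCore 2 G = ⊥) :
    fittingSubgroup G = ⊥ := by
  rw [Cfsg.Agent.Lib.H1.fittingSubgroup_eq_iSup_pCore, eq_bot_iff]
  apply iSup_le
  intro q
  haveI : Fact (q : ℕ).Prime := ⟨q.2⟩
  by_cases hq : (q : ℕ) = 2
  · rw [hq, hT]
  · rw [h.pCore_eq_bot (q : ℕ) hq]

/-- If `O_2(G) = 1` then the normal closure of `z` is `F*(G)`. -/
theorem LCtx.fstar_eq [Finite G] (h : LCtx Q z) (hT : pCore 2 G = ⊥) :
    Subgroup.normalClosure ({z} : Set G) = generalizedFittingSubgroup G := by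
  set M := Subgroup.normalClosure ({z} : Set G) with hM
  haveI hMn : M.Normal := Subgroup.normalClosure_normal
  have hzM : z ∈ M := Subgroup.subset_normalClosure (Set.mem_singleton z)
  apply le_antisymm
  · have hFn : (generalizedFittingSubgroup G).Normal := inferInstance
    apply h.normalClosure_le hFn
    intro hb
    have h1 := Cfsg.Agent.S1265.result (G := G)
    rw [hb] at h1
    have : z ∈ Subgroup.centralizer ((⊥ : Subgroup G) : Set G) := by
      rw [Subgroup.mem_centralizer_iff]
      intro x hx
      have : x = 1 := hx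
      rw [this, one_mul, mul_one]
    have := h1 this
    rw [Subgroup.mem_bot] at this
    exact h.lx.ne_one this
  · apply Cfsg.Agent.S1325.result M
    · rw [h.fitting_eq_bot hT]
      exact bot_le
    · have hCn : (Subgroup.centralizer (M : Set G)).Normal := inferInstance
      by_cases hC : Subgroup.centralizer (M : Set G) = ⊥
      · rw [hC]
        exact bot_le
      · exfalso
        have hle := h.normalClosure_le hCn hC
        apply h.not_comm hT
        intro a ha b hb
        have := hle hb
        rw [Subgroup.mem_centralizer_iff] at this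
        exact this a ha

end LxS

end Cfsg.Agent.Lib.H27
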