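/-
helper27 library: large extraspecial 2-subgroups, the case `O_2(G) = 1`: minimal invariant
subgroups `T` of the minimal normal subgroup `M = ⟨z^G⟩` (the components): they are simple,
`z` centralizes none of their conjugates, and `Q` permutes these conjugates transitively.
-/
import Mathlib
import Cfsg.Agent.Lib.H27.LxStructC
import Cfsg.Agent.Lib.H2.SmallSimple

set_option autoImplicit false
set_option linter.style.haveILetI false

namespace Cfsg.Agent.Lib.H27

namespace LxS

open Cfsg Cfsg.Agent.Lib.H22.LargeExtra Cfsg.Agent.Lib.H4.Der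

/-- A finite non-abelian simple group has no element `t₀ ≠ 1` whose centralizer is `{1, t₀}`. -/
theorem no_small_centralizer {T : Type*} [Group T] [Finite T] [IsSimpleGroup T]
    (hna : ¬ ∀ a b : T, a * b = b * a) (t0 : T) (ht0 : t0 ≠ 1)
    (hcent : ∀ x : T, x * t0 = t0 * x → x = 1 ∨ x = t0) : False := by
  haveI : Fact (Nat.Prime 2) := ⟨Nat.prime_two⟩
  have hsq : t0 * t0 = 1 := by
    rcases hcent (t0 * t0) (by group) with h | h
    · exact h
    · exfalso
      apply ht0
      calc t0 = t0⁻¹ * (t0 * t0) := by group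
        _ = t0⁻¹ * t0 := by rw [h]
        _ = 1 := by group
  have hord : orderOf t0 = 2 := orderOf_eq_prime (by rw [pow_two]; exact hsq) ht0
  have hZ2 : IsPGroup 2 (Subgroup.zpowers t0) := by
    apply IsPGroup.of_card (n := 1)
    rw [Nat.card_zpowers, hord, pow_one]
  obtain ⟨P, hP⟩ := hZ2.exists_le_sylow
  have ht0P : t0 ∈ (P : Subgroup T) := hP (Subgroup.mem_zpowers t0)
  haveI hnt : Nontrivial (P : Subgroup T) := by
    refine ⟨⟨⟨t0, ht0P⟩, 1, ?_⟩⟩
    intro h
    exact ht0 (congrArg Subtype.val h)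
  have hc : Nontrivial (Subgroup.center (P : Subgroup T)) := P.isPGroup'.center_nontrivial
  obtain ⟨c, hc1⟩ := exists_ne (1 : Subgroup.center (P : Subgroup T))
  have hct0 : ((c : (P : Subgroup T)) : T) = t0 := by
    have h1 := Subgroup.mem_center_iff.mp c.2 ⟨t0, ht0P⟩
    have h2 : t0 * ((c : (P : Subgroup T)) : T) = ((c : (P : Subgroup T)) : T) * t0 :=
      congrArg Subtype.val h1
    rcases hcent _ h2.symm with h | h
    · exfalso
      apply hc1
      apply Subtype.ext
      apply Subtype.ext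
      exact h
    · exact h
  have hPle : (P : Subgroup T) ≤ Subgroup.zpowers t0 := by
    intro p hp
    have h1 := Subgroup.mem_center_iff.mp c.2 ⟨p, hp⟩
    have h2 : p * ((c : (P : Subgroup T)) : T) = ((c : (P : Subgroup T)) : T) * p :=
      congrArg Subtype.val h1
    rw [hct0] at h2
    rcases hcent p h2 with h | h
    · rw [h]; exact Subgroup.one_mem _
    · rw [h]; exact Subgroup.mem_zpowers t0
  have hPeq : (P : Subgroup T) = Subgroup.zpowers t0 := le_antisymm hPle hP
  have hPcard : Nat.card (P : Subgroup T) = 2 := by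
    rw [hPeq, Nat.card_zpowers, hord]
  have hidx : Odd (P : Subgroup T).index := by
    rw [← Nat.not_even_iff_odd, even_iff_two_dvd]
    exact P.not_dvd_index
  have hcard : Nat.card T = 2 * (P : Subgroup T).index := by
    have := (P : Subgroup T).card_mul_index
    rw [hPcard] at this
    exact this.symm
  obtain ⟨K, hK⟩ := Cfsg.Agent.Lib.H2.exists_index_two_of_card _ hidx hcard
  have hKn : K.Normal := Subgroup.normal_of_index_eq_two hK
  rcases hKn.eq_bot_or_eq_top with h | h
  · rw [h, Subgroup.index_bot] at hK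
    have hcyc : IsCyclic T := isCyclic_of_prime_card hK
    apply hna
    intro a b
    letI := hcyc.commGroup
    exact mul_comm a b
  · rw [h, Subgroup.index_top] at hK
    omega

variable {G : Type*} [Group G] {Q : Subgroup G} {z : G} {M T : Subgroup G}

/-- Elements of `M` normalize `T`. -/
theorem cj_eq_of_mem (c : Ctx M T) {m : G} (hm : m ∈ M) : cj m T = T := by
  ext x
  rw [mem_cj]
  constructor
  · intro hx
    have := c.hT.norm m hm _ hx
    have e : m * (m⁻¹ * x * m) * m⁻¹ = x := by group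
    rwa [e] at this
  · intro hx
    have := c.hT.norm m⁻¹ (M.inv_mem hm) x hx
    rwa [inv_inv] at this

/-- `T` is a simple group. -/
theorem isSimpleGroup_T (c : Ctx M T) : IsSimpleGroup ↥T := by
  haveI : Nontrivial ↥T := (Subgroup.nontrivial_iff_ne_bot T).mpr c.hT.ne_bot
  refine ⟨fun N hN => ?_⟩
  by_cases hNb : N = ⊥
  · exact Or.inl hNb
  · right
    have hle : N.map T.subtype ≤ T := by
      rintro _ ⟨n, _, rfl⟩
      exact n.2
    have hne : N.map T.subtype ≠ ⊥ := by
      intro hb
      apply hNb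
      rw [eq_bot_iff]
      intro n hn
      have : (n : G) ∈ N.map T.subtype := ⟨n, hn, rfl⟩
      rw [hb, Subgroup.mem_bot] at this
      rw [Subgroup.mem_bot]
      exact Subtype.ext this
    have hinv : ∀ m ∈ M, ∀ s ∈ N.map T.subtype, m * s * m⁻¹ ∈ N.map T.subtype := by
      rintro m hm _ ⟨n, hn, rfl⟩
      obtain ⟨t, ht, d, hd, rfl⟩ := c.decomp hm
      have hdn := (mem_cen.mp hd).2 (n : G) n.2
      refine ⟨⟨t, ht⟩ * n * ⟨t, ht⟩⁻¹, hN.conj_mem n hn ⟨t, ht⟩, ?_⟩
      show t * (n : G) * t⁻¹ = t * d * (n : G) * (t * d)⁻¹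
      calc t * (n : G) * t⁻¹ = t * ((n : G) * d) * d⁻¹ * t⁻¹ := by group
        _ = t * (d * (n : G)) * d⁻¹ * t⁻¹ := by rw [hdn]
        _ = t * d * (n : G) * (t * d)⁻¹ := by group
    have hNT := c.hT.min _ hle hne hinv
    rw [eq_top_iff]
    intro x _
    have : (x : G) ∈ N.map T.subtype := by rw [hNT]; exact x.2
    obtain ⟨n, hn, hnx⟩ := this
    have : n = x := Subtype.ext hnx
    rwa [← this]

theorem not_comm_T (c : Ctx M T) : ¬ ∀ a b : ↥T, a * b = b * a := by
  intro hab
  apply c.T_nonab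
  intro a ha b hb
  exact congrArg Subtype.val (hab ⟨a, ha⟩ ⟨b, hb⟩)

/-- Uniqueness of the decomposition `M = T × C_M(T)`. -/
theorem decomp_unique (c : Ctx M T) {x x' w w' : G} (hx : x ∈ T) (hx' : x' ∈ T)
    (hw : w ∈ cen M T) (hw' : w' ∈ cen M T) (h : x * w = x' * w') : x = x' ∧ w = w' := by
  have h1 : x'⁻¹ * x = w' * w⁻¹ := by
    calc x'⁻¹ * x = x'⁻¹ * (x * w) * w⁻¹ := by group
      _ = x'⁻¹ * (x' * w') * w⁻¹ := by rw [h]
      _ = w' * w⁻¹ := by group
  have h2 : x'⁻¹ * x ∈ T := T.mul_mem (T.inv_mem hx') hx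
  have h3 : x'⁻¹ * x ∈ cen M T := by
    rw [h1]
    exact Subgroup.mul_mem _ hw' (Subgroup.inv_mem _ hw)
  have h4 := c.inter_cen h2 h3
  have hxx : x = x' := by
    calc x = x' * (x'⁻¹ * x) := by group
      _ = x' := by rw [h4, mul_one]
  refine ⟨hxx, ?_⟩
  rw [hxx] at h
  exact mul_left_cancel h

/-- A subgroup generated by conjugates different from `cj g T` centralizes `cj g T`. -/
theorem closure_le_centralizer (c : Ctx M T) (S : Set G) (g : G)
    (hS : ∀ x ∈ S, ∃ g', cj g' T ≠ cj g T ∧ x ∈ cj g' T) :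
    Subgroup.closure S ≤ Subgroup.centralizer ((cj g T : Subgroup G) : Set G) := by
  rw [Subgroup.closure_le]
  intro x hx
  obtain ⟨g', hne, hx'⟩ := hS x hx
  show x ∈ Subgroup.centralizer ((cj g T : Subgroup G) : Set G)
  rw [Subgroup.mem_centralizer_iff]
  intro b hb
  exact (c.commute' hne hx' hb).symm

/-- An element centralizing all conjugates of `T` centralizes `M`. -/
theorem comm_of_centralizes_all (c : Ctx M T) {x : G}
    (hx : ∀ g, x ∈ Subgroup.centralizer ((cj g T : Subgroup G) : Set G)) :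
    ∀ m ∈ M, m * x = x * m := by
  intro m hm
  rw [← c.normalClosure_eq] at hm
  have hle : Subgroup.normalClosure (T : Set G) ≤ Subgroup.centralizer ({x} : Set G) := by
    unfold Subgroup.normalClosure
    rw [Subgroup.closure_le]
    intro y hy
    rw [Group.mem_conjugatesOfSet_iff] at hy
    obtain ⟨t, ht, hconj⟩ := hy
    obtain ⟨g, rfl⟩ := isConj_iff.mp hconj
    show g * t * g⁻¹ ∈ Subgroup.centralizer ({x} : Set G)
    rw [Subgroup.mem_centralizer_singleton_iff]
    have := hx g
    rw [Subgroup.mem_centralizer_iff] at this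
    exact this _ (conj_mem_cj ht)
  have := hle hm
  rw [Subgroup.mem_centralizer_singleton_iff] at this
  exact this

end LxS

end Cfsg.Agent.Lib.H27
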