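/-
helper27 library: large extraspecial 2-subgroups, the case `O_2(G) = 1`: `z` centralizes no
conjugate of a minimal invariant subgroup `T` of `M = ⟨z^G⟩`, `Q` is transitive on these conjugates,
and there are at most two of them.
-/
import Mathlib
import Cfsg.Agent.Lib.H27.LxStructD

set_option autoImplicit false
set_option linter.style.haveILetI false

namespace Cfsg.Agent.Lib.H27

namespace LxS

open Cfsg Cfsg.Agent.Lib.H22.LargeExtra Cfsg.Agent.Lib.H4.Der

variable {G : Type*} [Group G] {Q : Subgroup G} {z : G} {M T : Subgroup G}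

/-- The subgroup generated by a family of conjugates of `T` permuted by `Q` is normalized
by `Q`. -/
theorem le_normalizer_closure_cj (B : Set G) (hB : ∀ v ∈ Q, ∀ g ∈ B, v * g ∈ B) :
    Q ≤ Subgroup.normalizer
      ((Subgroup.closure {x | ∃ g ∈ B, x ∈ cj g T} : Subgroup G) : Set G) := by
  apply le_normalizer_of_conj_mem
  intro v hv n hn
  induction hn using Subgroup.closure_induction with
  | mem x hx =>
    obtain ⟨g, hg, hxg⟩ := hx
    apply Subgroup.subset_closure
    refine ⟨v * g, hB v hv g hg, ?_⟩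
    rw [← cj_cj]
    exact conj_mem_cj hxg
  | one =>
    have e : v * 1 * v⁻¹ = (1 : G) := by group
    rw [e]
    exact Subgroup.one_mem _
  | mul x y _ _ hx hy =>
    have e : v * (x * y) * v⁻¹ = (v * x * v⁻¹) * (v * y * v⁻¹) := by group
    rw [e]
    exact Subgroup.mul_mem _ hx hy
  | inv x _ hx =>
    have e : v * x⁻¹ * v⁻¹ = (v * x * v⁻¹)⁻¹ := by group
    rw [e]
    exact Subgroup.inv_mem _ hx

theorem closure_cj_ne_bot (c : Ctx M T) (B : Set G) {g0 : G} (hg0 : g0 ∈ B) :
    (Subgroup.closure {x | ∃ g ∈ B, x ∈ cj g T} : Subgroup G) ≠ ⊥ := by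
  intro hb
  apply cj_ne_bot c.hT.ne_bot g0
  rw [eq_bot_iff, ← hb]
  intro x hx
  exact Subgroup.subset_closure ⟨g0, hg0, hx⟩

/-- `z` centralizes no conjugate of `T`. -/
theorem not_centralizes [Finite G] (h : LCtx Q z) (c : Ctx M T) (hzM : z ∈ M) (g0 : G) :
    z ∉ Subgroup.centralizer ((cj g0 T : Subgroup G) : Set G) := by
  intro hg0
  set B : Set G := {g | z ∈ Subgroup.centralizer ((cj g T : Subgroup G) : Set G)} with hB
  set N : Subgroup G := Subgroup.closure {x | ∃ g ∈ B, x ∈ cj g T} with hN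
  have hBQ : ∀ v ∈ Q, ∀ g ∈ B, v * g ∈ B := by
    intro v hv g hg
    show z ∈ Subgroup.centralizer ((cj (v * g) T : Subgroup G) : Set G)
    have h1 : v * z * v⁻¹ = z := by
      rw [h.lx.cz v hv]; group
    have h2 := conj_mem_centralizer_cj (x := v) (d := z) (S := cj g T) hg
    rwa [h1, cj_cj] at h2
  have hzN : z ∈ N :=
    h.mem_of_normalized (closure_cj_ne_bot c B hg0) (le_normalizer_closure_cj B hBQ)
  have hall : ∀ g', g' ∈ B := by
    intro g'
    by_contra hg'
    have hle : N ≤ Subgroup.centralizer ((cj g' T : Subgroup G) : Set G) := by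
      apply closure_le_centralizer c
      rintro x ⟨g, hg, hx⟩
      refine ⟨g, ?_, hx⟩
      intro heq
      apply hg'
      show z ∈ Subgroup.centralizer ((cj g' T : Subgroup G) : Set G)
      rw [← heq]
      exact hg
    exact hg' (hle hzN)
  have hcomm := comm_of_centralizes_all c hall
  exact h.lx.ne_one (c.center_M hzM hcomm)

/-- `Q` is transitive on the conjugates of `T`. -/
theorem exists_conj_Q [Finite G] (h : LCtx Q z) (c : Ctx M T) (hzM : z ∈ M) (g : G) :
    ∃ u ∈ Q, cj g T = cj u T := by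
  by_contra hcon
  push Not at hcon
  set N : Subgroup G := Subgroup.closure {x | ∃ u ∈ (Q : Set G), x ∈ cj u T} with hN
  have hBQ : ∀ v ∈ Q, ∀ u ∈ (Q : Set G), v * u ∈ (Q : Set G) := fun v hv u hu => Q.mul_mem hv hu
  have hzN : z ∈ N :=
    h.mem_of_normalized (closure_cj_ne_bot c (Q : Set G) (g0 := 1) Q.one_mem)
      (le_normalizer_closure_cj (Q : Set G) hBQ)
  have hle : N ≤ Subgroup.centralizer ((cj g T : Subgroup G) : Set G) := by
    apply closure_le_centralizer c
    rintro x ⟨u, hu, hx⟩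
    exact ⟨u, fun heq => hcon u hu heq.symm, hx⟩
  exact not_centralizes h c hzM g (hle hzN)

/-- Inverses of elements of `Q` give the same conjugate. -/
theorem cj_inv_eq (h : LCtx Q z) (c : Ctx M T) (hzM : z ∈ M) {v : G} (hv : v ∈ Q) :
    cj v⁻¹ T = cj v T := by
  have hvv : v * v ∈ M := by
    rcases h.lx.sq v hv with h1 | h1
    · rw [h1]; exact M.one_mem
    · rw [h1]; exact hzM
  have e : v⁻¹ = v * (v * v)⁻¹ := by group
  rw [e, ← cj_cj, cj_eq_of_mem c (M.inv_mem hvv)]

/-- Elements of other conjugates lie in `C_M(T)`. -/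
theorem mem_cen_of_mem_cj (c : Ctx M T) {g x : G} (hne : cj g T ≠ T) (hx : x ∈ cj g T) :
    x ∈ cen M T := by
  rw [mem_cen]
  exact ⟨cj_le c.hM.normal c.hT.le g hx, fun t ht => c.commute hne ht hx⟩

/-- There are no three distinct conjugates of `T` under `Q`. -/
theorem three_conj_false [Finite G] (h : LCtx Q z) (c : Ctx M T) (hzM : z ∈ M) {u v : G}
    (hu : u ∈ Q) (hv : v ∈ Q) (h1 : cj u T ≠ T) (h2 : cj v T ≠ T) (h3 : cj u T ≠ cj v T) :
    False := by
  obtain ⟨t0, ht0, c0, hc0, hz⟩ := c.decomp hzM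
  have hc0T := (mem_cen.mp hc0).2
  -- the third conjugate
  have h4 : cj (v * u) T ≠ T := by
    intro heq
    apply h3
    rw [← cj_cj] at heq
    have := congrArg (cj v⁻¹) heq
    rw [cj_inv_cj, cj_inv_eq h c hzM hv] at this
    exact this
  have key : ∀ x ∈ T, x * z = z * x → x = 1 ∨ x = t0⁻¹ := by
    intro x hx hxz
    set y := u * x⁻¹ * u⁻¹ with hy
    have hyu : y ∈ cj u T := conj_mem_cj (T.inv_mem hx)
    have haQ : x * y ∈ Q := by
      have e : x * y = (x * u * x⁻¹) * u⁻¹ := by rw [hy]; group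
      rw [e]
      exact Q.mul_mem (h.lx.normal x hxz u hu) (Q.inv_mem hu)
    have hp1 : v * x * v⁻¹ ∈ cj v T := conj_mem_cj hx
    have hp2 : v * y * v⁻¹ ∈ cj (v * u) T := by
      rw [← cj_cj]
      exact conj_mem_cj hyu
    set w := (v * x * v⁻¹) * (v * y * v⁻¹) * y⁻¹ with hw
    have hwc : w ∈ cen M T :=
      Subgroup.mul_mem _ (Subgroup.mul_mem _ (mem_cen_of_mem_cj c h2 hp1)
        (mem_cen_of_mem_cj c h4 hp2)) (Subgroup.inv_mem _ (mem_cen_of_mem_cj c h1 hyu))
    have hcc : v * (x * y) * v⁻¹ * (x * y)⁻¹ = x⁻¹ * w := by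
      have e : v * (x * y) * v⁻¹ * (x * y)⁻¹ = w * x⁻¹ := by rw [hw]; group
      rw [e]
      exact ((mem_cen.mp hwc).2 x⁻¹ (T.inv_mem hx)).symm
    rcases h.lx.comm v hv (x * y) haQ with hc1 | hc1
    · left
      rw [hcc] at hc1
      have := decomp_unique c (T.inv_mem hx) T.one_mem hwc (Subgroup.one_mem _)
        (by rw [hc1, one_mul])
      exact inv_eq_one.mp this.1
    · right
      rw [hcc, hz] at hc1
      have := decomp_unique c (T.inv_mem hx) ht0 hwc hc0 hc1
      rw [← this.1, inv_inv]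
  have ht0z : t0 * z = z * t0 := by
    rw [hz]
    calc t0 * (t0 * c0) = t0 * (c0 * t0) := by rw [hc0T t0 ht0]
      _ = t0 * c0 * t0 := by group
  have ht01 : t0 ≠ 1 := by
    intro h0
    apply not_centralizes h c hzM 1
    rw [cj_one, Subgroup.mem_centralizer_iff]
    intro t ht
    rw [hz, h0, one_mul]
    exact hc0T t ht
  have ht0inv : t0⁻¹ = t0 := by
    rcases key t0 ht0 ht0z with h0 | h0
    · exact absurd h0 ht01
    · exact h0.symm
  haveI := isSimpleGroup_T c
  apply no_small_centralizer (not_comm_T c) (⟨t0, ht0⟩ : ↥T)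
  · intro h0
    exact ht01 (congrArg Subtype.val h0)
  · intro x hx
    have hx' : (x : G) * t0 = t0 * x := congrArg Subtype.val hx
    have hxz : (x : G) * z = z * x := by
      rw [hz]
      calc (x : G) * (t0 * c0) = ((x : G) * t0) * c0 := by group
        _ = (t0 * x) * c0 := by rw [hx']
        _ = t0 * ((x : G) * c0) := by group
        _ = t0 * (c0 * x) := by rw [hc0T x x.2]
        _ = t0 * c0 * x := by group
    rcases key x x.2 hxz with h0 | h0
    · left; exact Subtype.ext h0
    · right; apply Subtype.ext; rw [h0, ht0inv]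

/-- Either `T` is normal in `G`, or there is `u ∈ Q` such that `T` and `cj u T` are the only
conjugates of `T`. -/
theorem conj_dichotomy [Finite G] (h : LCtx Q z) (c : Ctx M T) (hzM : z ∈ M) :
    (∀ g, cj g T = T) ∨ ∃ u ∈ Q, cj u T ≠ T ∧ ∀ g, cj g T = T ∨ cj g T = cj u T := by
  by_cases hex : ∃ u ∈ Q, cj u T ≠ T
  · right
    obtain ⟨u, hu, hne⟩ := hex
    refine ⟨u, hu, hne, fun g => ?_⟩
    obtain ⟨v, hv, hgv⟩ := exists_conj_Q h c hzM g
    rw [hgv]
    by_contra hcon
    push Not at hcon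
    exact three_conj_false h c hzM hu hv hne hcon.1 (fun heq => hcon.2 heq.symm)
  · left
    push Not at hex
    intro g
    obtain ⟨v, hv, hgv⟩ := exists_conj_Q h c hzM g
    rw [hgv]
    exact hex v hv

end LxS

end Cfsg.Agent.Lib.H27
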