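/-
helper27 library: large extraspecial 2-subgroups, the case `O_2(G) = 1` with two components
`T` and `cj u T` (`u ∈ Q`): `M = T × cj u T`, `z = t₀ (u t₀ u⁻¹)`, squares and commutators of
`C_T(t₀)` lie in `⟨t₀⟩`.
-/
import Mathlib
import Cfsg.Agent.Lib.H27.LxStructE

set_option autoImplicit false
set_option linter.style.haveILetI false

namespace Cfsg.Agent.Lib.H27

namespace LxS

open Cfsg Cfsg.Agent.Lib.H22.LargeExtra Cfsg.Agent.Lib.H4.Der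

variable {G : Type*} [Group G] {Q : Subgroup G} {z : G} {M T : Subgroup G} {u : G}

/-- The situation with two components. -/
structure Two (Q : Subgroup G) (z : G) (M T : Subgroup G) (u : G) : Prop where
  h : LCtx Q z
  c : Ctx M T
  hzM : z ∈ M
  hu : u ∈ Q
  hne : cj u T ≠ T
  hall : ∀ g, cj g T = T ∨ cj g T = cj u T

namespace Two

variable (w : Two Q z M T u)
include w

theorem comm_TT' {a b : G} (ha : a ∈ T) (hb : b ∈ cj u T) : a * b = b * a :=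
  w.c.commute w.hne ha hb

theorem mem_cen_iff {x : G} : x ∈ cen M T ↔ x ∈ cj u T := by
  constructor
  · intro hx
    have c' := w.c.cjctx u
    obtain ⟨t', ht', d', hd', rfl⟩ := c'.decomp (mem_cen.mp hx).1
    have hd'T : d' ∈ cen M T := by
      have e : d' = t'⁻¹ * (t' * d') := by group
      rw [e]
      exact Subgroup.mul_mem _ (Subgroup.inv_mem _ (mem_cen_of_mem_cj w.c w.hne ht')) hx
    have hall' : ∀ g, d' ∈ Subgroup.centralizer ((cj g T : Subgroup G) : Set G) := by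
      intro g
      rw [Subgroup.mem_centralizer_iff]
      rcases w.hall g with hg | hg
      · rw [hg]
        exact (mem_cen.mp hd'T).2
      · rw [hg]
        exact (mem_cen.mp hd').2
    have hd1 : d' = 1 := w.c.center_M (mem_cen.mp hd').1 (comm_of_centralizes_all w.c hall')
    rw [hd1, mul_one]
    exact ht'
  · exact mem_cen_of_mem_cj w.c w.hne

/-- Every element of `M` is a product `x y` with `x ∈ T`, `y ∈ cj u T`. -/
theorem decomp2 {m : G} (hm : m ∈ M) : ∃ x ∈ T, ∃ y ∈ cj u T, m = x * y := by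
  obtain ⟨t, ht, d, hd, rfl⟩ := w.c.decomp hm
  exact ⟨t, ht, d, w.mem_cen_iff.mp hd, rfl⟩

theorem unique2 {x x' y y' : G} (hx : x ∈ T) (hx' : x' ∈ T) (hy : y ∈ cj u T)
    (hy' : y' ∈ cj u T) (heq : x * y = x' * y') : x = x' ∧ y = y' :=
  decomp_unique w.c hx hx' (w.mem_cen_iff.mpr hy) (w.mem_cen_iff.mpr hy') heq

theorem sup_eq : T ⊔ cj u T = M := by
  apply le_antisymm
  · exact sup_le w.c.hT.le (cj_le w.c.hM.normal w.c.hT.le u)
  · intro m hm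
    obtain ⟨x, hx, y, hy, rfl⟩ := w.decomp2 hm
    exact Subgroup.mul_mem_sup hx hy

theorem inf_eq_bot : T ⊓ cj u T = ⊥ := w.c.inf_eq_bot w.hne

/-- `u` maps `cj u T` back to `T`. -/
theorem conj_mem_T {y : G} (hy : y ∈ cj u T) : u * y * u⁻¹ ∈ T := by
  have h1 : u * y * u⁻¹ ∈ cj u (cj u T) := conj_mem_cj hy
  rw [cj_cj] at h1
  have huu : u * u ∈ M := by
    rcases w.h.lx.sq u w.hu with h2 | h2
    · rw [h2]; exact M.one_mem
    · rw [h2]; exact w.hzM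
  rwa [cj_eq_of_mem w.c huu] at h1

theorem inv_conj_mem_T {y : G} (hy : y ∈ cj u T) : u⁻¹ * y * u ∈ T := mem_cj.mp hy

/-- The decomposition of `z`. -/
theorem exists_z1 : ∃ t0 ∈ T, z = t0 * (u * t0 * u⁻¹) := by
  obtain ⟨t0, ht0, c0, hc0, hz⟩ := w.decomp2 w.hzM
  refine ⟨t0, ht0, ?_⟩
  have h1 : u * z * u⁻¹ = z := by
    rw [w.h.lx.cz u w.hu]; group
  have h2 : u * z * u⁻¹ = (u * c0 * u⁻¹) * (u * t0 * u⁻¹) := by
    rw [hz]
    have e : u * (t0 * c0) * u⁻¹ = (u * t0 * u⁻¹) * (u * c0 * u⁻¹) := by group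
    rw [e]
    exact (w.comm_TT' (w.conj_mem_T hc0) (conj_mem_cj ht0)).symm
  have h3 : t0 * c0 = (u * c0 * u⁻¹) * (u * t0 * u⁻¹) := by
    rw [← hz, ← h2, h1]
  have := w.unique2 ht0 (w.conj_mem_T hc0) hc0 (conj_mem_cj ht0) h3
  rw [hz, this.2]

end Two

/-- The data with the decomposition of `z` fixed. -/
structure Two' (Q : Subgroup G) (z : G) (M T : Subgroup G) (u t0 : G) : Prop
    extends Two Q z M T u where
  ht0 : t0 ∈ T
  hz : z = t0 * (u * t0 * u⁻¹)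

namespace Two'

variable {t0 : G} (w : Two' Q z M T u t0)
include w

theorem c0_mem : u * t0 * u⁻¹ ∈ cj u T := conj_mem_cj w.ht0

theorem t0_sq : t0 * t0 = 1 := by
  have h1 := w.h.lx.sq_one
  have hc := w.toTwo.comm_TT' w.ht0 w.c0_mem
  have h2 : z * z = (t0 * t0) * ((u * t0 * u⁻¹) * (u * t0 * u⁻¹)) := by
    rw [w.hz]
    calc t0 * (u * t0 * u⁻¹) * (t0 * (u * t0 * u⁻¹))
        = t0 * ((u * t0 * u⁻¹) * t0) * (u * t0 * u⁻¹) := by group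
      _ = t0 * (t0 * (u * t0 * u⁻¹)) * (u * t0 * u⁻¹) := by rw [hc]
      _ = _ := by group
  rw [h1] at h2
  have := w.toTwo.unique2 T.one_mem (T.mul_mem w.ht0 w.ht0) (Subgroup.one_mem _)
    (Subgroup.mul_mem _ w.c0_mem w.c0_mem) (by rw [one_mul]; exact h2)
  exact this.1.symm

theorem t0_ne_one [Finite G] : t0 ≠ 1 := by
  intro h0
  apply not_centralizes w.h w.c w.hzM 1
  rw [cj_one, Subgroup.mem_centralizer_iff]
  intro t ht
  have hz := w.hz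
  rw [h0] at hz
  have hz' : z = 1 := by rw [hz]; group
  rw [hz', mul_one, one_mul]

/-- For `x ∈ T`: `x` commutes with `z` iff it commutes with `t₀`. -/
theorem comm_z_iff {x : G} (hx : x ∈ T) : x * z = z * x ↔ x * t0 = t0 * x := by
  have hc := w.toTwo.comm_TT' hx w.c0_mem
  rw [w.hz]
  constructor
  · intro h1
    have h2 : (x * t0) * (u * t0 * u⁻¹) = (t0 * x) * (u * t0 * u⁻¹) := by
      calc (x * t0) * (u * t0 * u⁻¹) = x * (t0 * (u * t0 * u⁻¹)) := by group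
        _ = t0 * (u * t0 * u⁻¹) * x := h1
        _ = t0 * ((u * t0 * u⁻¹) * x) := by group
        _ = t0 * (x * (u * t0 * u⁻¹)) := by rw [hc]
        _ = _ := by group
    exact mul_right_cancel h2
  · intro h1
    calc x * (t0 * (u * t0 * u⁻¹)) = (x * t0) * (u * t0 * u⁻¹) := by group
      _ = (t0 * x) * (u * t0 * u⁻¹) := by rw [h1]
      _ = t0 * (x * (u * t0 * u⁻¹)) := by group
      _ = t0 * ((u * t0 * u⁻¹) * x) := by rw [hc]
      _ = _ := by group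

/-- The element of `Q` attached to `x ∈ C_T(t₀)`. -/
theorem mul_conj_mem_Q {x : G} (hx : x ∈ T) (hxt : x * t0 = t0 * x) :
    x * (u * x⁻¹ * u⁻¹) ∈ Q := by
  have hxz := (w.comm_z_iff hx).mpr hxt
  have e : x * (u * x⁻¹ * u⁻¹) = (x * u * x⁻¹) * u⁻¹ := by group
  rw [e]
  exact Q.mul_mem (w.h.lx.normal x hxz u w.hu) (Q.inv_mem w.hu)

/-- Squares of elements of `C_T(t₀)`. -/
theorem sq_mem {x : G} (hx : x ∈ T) (hxt : x * t0 = t0 * x) : x * x = 1 ∨ x * x = t0 := by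
  set y := u * x⁻¹ * u⁻¹ with hy
  have hyu : y ∈ cj u T := conj_mem_cj (T.inv_mem hx)
  have hc := w.toTwo.comm_TT' hx hyu
  have h2 : (x * y) * (x * y) = (x * x) * (y * y) := by
    calc (x * y) * (x * y) = x * (y * x) * y := by group
      _ = x * (x * y) * y := by rw [hc]
      _ = _ := by group
  rcases w.h.lx.sq _ (w.mul_conj_mem_Q hx hxt) with h1 | h1
  · left
    rw [h2] at h1
    exact (w.toTwo.unique2 (T.mul_mem hx hx) T.one_mem (Subgroup.mul_mem _ hyu hyu)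
      (Subgroup.one_mem _) (by rw [h1, one_mul])).1
  · right
    rw [h2, w.hz] at h1
    exact (w.toTwo.unique2 (T.mul_mem hx hx) w.ht0 (Subgroup.mul_mem _ hyu hyu) w.c0_mem h1).1

/-- Commutators of elements of `C_T(t₀)`. -/
theorem comm_mem {x1 x2 : G} (hx1 : x1 ∈ T) (hxt1 : x1 * t0 = t0 * x1) (hx2 : x2 ∈ T)
    (hxt2 : x2 * t0 = t0 * x2) :
    x1 * x2 * x1⁻¹ * x2⁻¹ = 1 ∨ x1 * x2 * x1⁻¹ * x2⁻¹ = t0 := by
  set y1 := u * x1⁻¹ * u⁻¹ with hy1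
  set y2 := u * x2⁻¹ * u⁻¹ with hy2
  have hy1u : y1 ∈ cj u T := conj_mem_cj (T.inv_mem hx1)
  have hy2u : y2 ∈ cj u T := conj_mem_cj (T.inv_mem hx2)
  have hX : x1 * x2 * x1⁻¹ * x2⁻¹ ∈ T :=
    T.mul_mem (T.mul_mem (T.mul_mem hx1 hx2) (T.inv_mem hx1)) (T.inv_mem hx2)
  have hY : y1 * y2 * y1⁻¹ * y2⁻¹ ∈ cj u T :=
    Subgroup.mul_mem _ (Subgroup.mul_mem _ (Subgroup.mul_mem _ hy1u hy2u)
      (Subgroup.inv_mem _ hy1u)) (Subgroup.inv_mem _ hy2u)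
  have c12 := w.toTwo.comm_TT' hx1 hy2u
  have c21 := w.toTwo.comm_TT' hx2 hy1u
  have c11 := w.toTwo.comm_TT' hx1 hy1u
  have c22 := w.toTwo.comm_TT' hx2 hy2u
  have e : (x1 * y1) * (x2 * y2) * (x1 * y1)⁻¹ * (x2 * y2)⁻¹
      = (x1 * x2 * x1⁻¹ * x2⁻¹) * (y1 * y2 * y1⁻¹ * y2⁻¹) := by
    have i1 : y1 * x2 = x2 * y1 := c21.symm
    have i2 : y1⁻¹ * x1⁻¹ = x1⁻¹ * y1⁻¹ := by
      rw [← mul_inv_rev, ← mul_inv_rev, c11]
    have i3 : y2⁻¹ * x2⁻¹ = x2⁻¹ * y2⁻¹ := by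
      rw [← mul_inv_rev, ← mul_inv_rev, c22]
    have i4 : y2 * x1⁻¹ = x1⁻¹ * y2 := by
      have := c12
      calc y2 * x1⁻¹ = x1⁻¹ * (x1 * y2) * x1⁻¹ := by group
        _ = x1⁻¹ * (y2 * x1) * x1⁻¹ := by rw [this]
        _ = x1⁻¹ * y2 := by group
    have i5 : y1⁻¹ * x2⁻¹ = x2⁻¹ * y1⁻¹ := by
      rw [← mul_inv_rev, ← mul_inv_rev, c21]
    have i6 : y1 * x1⁻¹ = x1⁻¹ * y1 := by
      calc y1 * x1⁻¹ = x1⁻¹ * (x1 * y1) * x1⁻¹ := by group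
        _ = x1⁻¹ * (y1 * x1) * x1⁻¹ := by rw [c11]
        _ = x1⁻¹ * y1 := by group
    have i7 : y2 * x2⁻¹ = x2⁻¹ * y2 := by
      calc y2 * x2⁻¹ = x2⁻¹ * (x2 * y2) * x2⁻¹ := by group
        _ = x2⁻¹ * (y2 * x2) * x2⁻¹ := by rw [c22]
        _ = x2⁻¹ * y2 := by group
    calc (x1 * y1) * (x2 * y2) * (x1 * y1)⁻¹ * (x2 * y2)⁻¹
        = x1 * (y1 * x2) * y2 * (y1⁻¹ * x1⁻¹) * (y2⁻¹ * x2⁻¹) := by group
      _ = x1 * (x2 * y1) * y2 * (x1⁻¹ * y1⁻¹) * (x2⁻¹ * y2⁻¹) := by rw [i1, i2, i3]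
      _ = x1 * x2 * y1 * (y2 * x1⁻¹) * (y1⁻¹ * x2⁻¹) * y2⁻¹ := by group
      _ = x1 * x2 * y1 * (x1⁻¹ * y2) * (x2⁻¹ * y1⁻¹) * y2⁻¹ := by rw [i4, i5]
      _ = x1 * x2 * (y1 * x1⁻¹) * (y2 * x2⁻¹) * y1⁻¹ * y2⁻¹ := by group
      _ = x1 * x2 * (x1⁻¹ * y1) * (x2⁻¹ * y2) * y1⁻¹ * y2⁻¹ := by rw [i6, i7]
      _ = x1 * x2 * x1⁻¹ * (y1 * x2⁻¹) * y2 * y1⁻¹ * y2⁻¹ := by group
      _ = x1 * x2 * x1⁻¹ * (x2⁻¹ * y1) * y2 * y1⁻¹ * y2⁻¹ := by
          have i8 : y1 * x2⁻¹ = x2⁻¹ * y1 := by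
            calc y1 * x2⁻¹ = x2⁻¹ * (x2 * y1) * x2⁻¹ := by group
              _ = x2⁻¹ * (y1 * x2) * x2⁻¹ := by rw [c21]
              _ = x2⁻¹ * y1 := by group
          rw [i8]
      _ = _ := by group
  rcases w.h.lx.comm _ (w.mul_conj_mem_Q hx1 hxt1) _ (w.mul_conj_mem_Q hx2 hxt2) with h1 | h1
  · left
    rw [e] at h1
    exact (w.toTwo.unique2 hX T.one_mem hY (Subgroup.one_mem _) (by rw [h1, one_mul])).1
  · right
    rw [e, w.hz] at h1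
    exact (w.toTwo.unique2 hX w.ht0 hY w.c0_mem h1).1

theorem pow_four_eq_one {x : G} (hx : x ∈ T) (hxt : x * t0 = t0 * x) : x ^ 4 = 1 := by
  have h4 : x ^ 4 = (x * x) * (x * x) := by
    rw [show (4 : ℕ) = 2 + 2 from rfl, pow_add, pow_two]
  rw [h4]
  rcases w.sq_mem hx hxt with h1 | h1
  · rw [h1, one_mul]
  · rw [h1, w.t0_sq]

end Two'

end LxS

end Cfsg.Agent.Lib.H27
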