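/-
helper27 library: large extraspecial 2-subgroups, the case `O_2(G) = 1` with two components:
`C_T(t₀)` is a Sylow 2-subgroup of `T` with Frattini subgroup inside `⟨t₀⟩`, and `Q` is not
`O_2(C_G(z))`.
-/
import Mathlib
import Cfsg.Agent.Lib.H27.LxStructF
import Cfsg.Agent.Lib.H19.SylowAux
import Cfsg.Agent.Lib.H1.PGroupBasic

set_option autoImplicit false
set_option linter.style.haveILetI false

namespace Cfsg.Agent.Lib.H27

namespace LxS

open Cfsg Cfsg.Agent.Lib.H22.LargeExtra Cfsg.Agent.Lib.H4.Der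

variable {G : Type*} [Group G] {Q : Subgroup G} {z : G} {M T : Subgroup G} {u t0 : G}

namespace Two'

variable (w : Two' Q z M T u t0)
include w

/-- The decomposition of an element of `C_M(z)`. -/
theorem decomp_cent {m : G} (hm : m ∈ M) (hmz : m * z = z * m) :
    ∃ x ∈ T, x * t0 = t0 * x ∧ ∃ y ∈ T, y * t0 = t0 * y ∧ m = x * (u * y * u⁻¹) := by
  obtain ⟨x, hx, y, hy, rfl⟩ := w.toTwo.decomp2 hm
  have c1 := w.toTwo.comm_TT' w.ht0 hy
  have c2 := w.toTwo.comm_TT' hx w.c0_mem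
  have h1 : (x * t0) * (y * (u * t0 * u⁻¹)) = (t0 * x) * ((u * t0 * u⁻¹) * y) := by
    calc (x * t0) * (y * (u * t0 * u⁻¹)) = x * (t0 * y) * (u * t0 * u⁻¹) := by group
      _ = x * (y * t0) * (u * t0 * u⁻¹) := by rw [c1]
      _ = (x * y) * (t0 * (u * t0 * u⁻¹)) := by group
      _ = (x * y) * z := by rw [← w.hz]
      _ = z * (x * y) := hmz
      _ = t0 * (u * t0 * u⁻¹) * (x * y) := by rw [← w.hz]
      _ = t0 * ((u * t0 * u⁻¹) * x) * y := by group
      _ = t0 * (x * (u * t0 * u⁻¹)) * y := by rw [c2]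
      _ = _ := by group
  have h2 := w.toTwo.unique2 (T.mul_mem hx w.ht0) (T.mul_mem w.ht0 hx)
    (Subgroup.mul_mem _ hy w.c0_mem) (Subgroup.mul_mem _ w.c0_mem hy) h1
  refine ⟨x, hx, h2.1, u⁻¹ * y * u, w.toTwo.inv_conj_mem_T hy, ?_, by group⟩
  calc u⁻¹ * y * u * t0 = u⁻¹ * (y * (u * t0 * u⁻¹)) * u := by group
    _ = u⁻¹ * ((u * t0 * u⁻¹) * y) * u := by rw [h2.2]
    _ = t0 * (u⁻¹ * y * u) := by group

/-- `C_M(z)` has exponent dividing four. -/
theorem pow_four_cent {m : G} (hm : m ∈ M) (hmz : m * z = z * m) : m ^ 4 = 1 := by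
  obtain ⟨x, hx, hxt, y, hy, hyt, rfl⟩ := w.decomp_cent hm hmz
  have hc : Commute x (u * y * u⁻¹) := w.toTwo.comm_TT' hx (conj_mem_cj hy)
  rw [hc.mul_pow, w.pow_four_eq_one hx hxt]
  have e : (u * y * u⁻¹) ^ 4 = u * y ^ 4 * u⁻¹ := by
    rw [conj_pow]
  rw [e, w.pow_four_eq_one hy hyt]
  group

/-- A 2-subgroup of `T` containing `C_T(t₀)` centralizes `t₀`. -/
theorem comm_of_two_group [Finite G] {S : Subgroup G} (hS2 : IsPGroup 2 S) (hST : S ≤ T)
    (hDS : ∀ x ∈ T, x * t0 = t0 * x → x ∈ S) : ∀ s ∈ S, s * t0 = t0 * s := by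
  haveI : Fact (Nat.Prime 2) := ⟨Nat.prime_two⟩
  haveI hMn : M.Normal := w.c.hM.normal
  obtain ⟨P, hQP⟩ := w.h.two.exists_le_sylow
  -- `z` is central in `P`
  have hzP : z ∈ (P : Subgroup G) := hQP w.h.lx.mem
  haveI hnt : Nontrivial (P : Subgroup G) := by
    refine ⟨⟨⟨z, hzP⟩, 1, ?_⟩⟩
    intro h0
    exact w.h.lx.ne_one (congrArg Subtype.val h0)
  have hcn : Nontrivial (Subgroup.center (P : Subgroup G)) := P.isPGroup'.center_nontrivial
  obtain ⟨c, hc1⟩ := exists_ne (1 : Subgroup.center (P : Subgroup G))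
  have hcz : ((c : (P : Subgroup G)) : G) = z := by
    have hcomm : ∀ a ∈ Q, a * ((c : (P : Subgroup G)) : G) = ((c : (P : Subgroup G)) : G) * a := by
      intro a ha
      have := Subgroup.mem_center_iff.mp c.2 ⟨a, hQP ha⟩
      exact congrArg Subtype.val this
    rcases w.h.eq_of_centralizes hcomm with h1 | h1
    · exfalso
      apply hc1
      apply Subtype.ext
      apply Subtype.ext
      exact h1
    · exact h1
  have hPz : ∀ p ∈ (P : Subgroup G), p * z = z * p := by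
    intro p hp
    have := Subgroup.mem_center_iff.mp c.2 ⟨p, hp⟩
    have h2 : p * ((c : (P : Subgroup G)) : G) = ((c : (P : Subgroup G)) : G) * p :=
      congrArg Subtype.val this
    rwa [hcz] at h2
  set CM : Subgroup G := M ⊓ Subgroup.centralizer ({z} : Set G) with hCM
  have hPM : (P : Subgroup G) ⊓ M ≤ CM := by
    intro x hx
    rw [Subgroup.mem_inf] at hx
    exact Subgroup.mem_inf.mpr ⟨hx.2, Subgroup.mem_centralizer_singleton_iff.mpr (hPz x hx.1)⟩
  have hodd1 : ¬ 2 ∣ ((P : Subgroup G) ⊓ M).relIndex M :=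
    Cfsg.Agent.Lib.H19.not_dvd_relIndex_inf_normal P M
  have hodd2 : ¬ 2 ∣ CM.relIndex M :=
    fun hd => hodd1 (dvd_trans hd (Subgroup.relIndex_dvd_of_le_left M hPM))
  set W : Subgroup G := S ⊔ cj u S with hW
  have hSu : cj u S ≤ cj u T := by
    intro x hx
    rw [mem_cj] at hx ⊢
    exact hST hx
  have hW2 : IsPGroup 2 W := by
    apply IsPGroup.to_sup_of_normal_right' hS2 (hS2.map _)
    apply le_normalizer_of_conj_mem
    intro v hv n hn
    have hc := w.toTwo.comm_TT' (hST hv) (hSu hn)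
    have e : v * n * v⁻¹ = n := by
      rw [hc]; group
    rw [e]
    exact hn
  have hCMW : CM ≤ W := by
    intro m hm
    rw [hCM, Subgroup.mem_inf, Subgroup.mem_centralizer_singleton_iff] at hm
    obtain ⟨x, hx, hxt, y, hy, hyt, rfl⟩ := w.decomp_cent hm.1 hm.2
    exact Subgroup.mul_mem_sup (hDS x hx hxt) (conj_mem_cj (hDS y hy hyt))
  have hWM : W ≤ M :=
    sup_le (hST.trans w.c.hT.le) (hSu.trans (cj_le w.c.hM.normal w.c.hT.le u))
  obtain ⟨n, hn⟩ := hW2.index (CM.subgroupOf W)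
  have hn' : CM.relIndex W = 2 ^ n := hn
  have hdvd : CM.relIndex W ∣ CM.relIndex M :=
    Dvd.intro _ (Subgroup.relIndex_mul_relIndex CM W M hCMW hWM)
  have hn0 : n = 0 := by
    by_contra hne
    apply hodd2
    exact dvd_trans (hn' ▸ dvd_pow_self 2 hne) hdvd
  rw [hn0, pow_zero, Subgroup.relIndex_eq_one] at hn'
  intro s hs
  have hsCM : s ∈ CM := hn' ((le_sup_left : S ≤ W) hs)
  rw [hCM, Subgroup.mem_inf, Subgroup.mem_centralizer_singleton_iff] at hsCM
  exact (w.comm_z_iff (hST hs)).mp hsCM.2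

/-- `C_T(t₀)` is a Sylow 2-subgroup of `T`. -/
theorem exists_sylow [Finite G] : ∃ R : Sylow 2 ↥T,
    (R : Subgroup ↥T) = (Subgroup.centralizer ({t0} : Set G)).subgroupOf T := by
  haveI : Fact (Nat.Prime 2) := ⟨Nat.prime_two⟩
  have hD2 : IsPGroup 2 ((Subgroup.centralizer ({t0} : Set G)).subgroupOf T) := by
    intro g
    refine ⟨2, ?_⟩
    have hg : ((g : ↥T) : G) * t0 = t0 * ((g : ↥T) : G) :=
      Subgroup.mem_centralizer_singleton_iff.mp (Subgroup.mem_subgroupOf.mp g.2)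
    have := w.pow_four_eq_one (g : ↥T).2 hg
    apply Subtype.ext
    apply Subtype.ext
    simpa using this
  obtain ⟨R, hR⟩ := hD2.exists_le_sylow
  refine ⟨R, le_antisymm ?_ hR⟩
  have hS2 : IsPGroup 2 ((R : Subgroup ↥T).map T.subtype) := R.isPGroup'.map _
  have hST : (R : Subgroup ↥T).map T.subtype ≤ T := by
    rintro _ ⟨x, _, rfl⟩
    exact x.2
  have hDS : ∀ x ∈ T, x * t0 = t0 * x → x ∈ (R : Subgroup ↥T).map T.subtype := by
    intro x hx hxt
    refine ⟨⟨x, hx⟩, hR ?_, rfl⟩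
    rw [Subgroup.mem_subgroupOf]
    exact Subgroup.mem_centralizer_singleton_iff.mpr hxt
  have hcomm := w.comm_of_two_group hS2 hST hDS
  intro x hx
  rw [Subgroup.mem_subgroupOf, Subgroup.mem_centralizer_singleton_iff]
  exact hcomm _ ⟨x, hx, rfl⟩

/-- The Frattini subgroup of `C_T(t₀)` lies in `⟨t₀⟩`. -/
theorem frattini_le [Finite G] (R : Sylow 2 ↥T)
    (hR : (R : Subgroup ↥T) = (Subgroup.centralizer ({t0} : Set G)).subgroupOf T) :
    (frattini ↥(R : Subgroup ↥T)).map ((T.subtype).comp (R : Subgroup ↥T).subtype)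
      ≤ Subgroup.zpowers t0 := by
  haveI : Fact (Nat.Prime 2) := ⟨Nat.prime_two⟩
  rw [Subgroup.map_le_iff_le_comap]
  have hmem : ∀ x : ↥(R : Subgroup ↥T), (((x : ↥T) : G)) * t0 = t0 * ((x : ↥T) : G) := by
    intro x
    have h0 : (x : ↥T) ∈ (Subgroup.centralizer ({t0} : Set G)).subgroupOf T := hR ▸ x.2
    rw [Subgroup.mem_subgroupOf] at h0
    exact Subgroup.mem_centralizer_singleton_iff.mp h0
  have h1t : ∀ y : G, (y = 1 ∨ y = t0) → y ∈ Subgroup.zpowers t0 := by
    rintro y (rfl | rfl)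
    · exact Subgroup.one_mem _
    · exact Subgroup.mem_zpowers _
  apply Cfsg.Agent.Lib.H1.frattini_le_of_commutator_le_of_pow_mem (p := 2)
  · rw [commutator_def, Subgroup.commutator_le]
    intro a _ b _
    rw [Subgroup.mem_comap, commutatorElement_def]
    apply h1t
    have := w.comm_mem (a : ↥T).2 (hmem a) (b : ↥T).2 (hmem b)
    simpa using this
  · intro x
    rw [Subgroup.mem_comap]
    apply h1t
    have := w.sq_mem (x : ↥T).2 (hmem x)
    simpa [pow_two] using this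

/-- `Q` is not the largest normal 2-subgroup of `C_G(z)`. -/
theorem ne_pCore [Finite G] :
    Q ≠ (pCore 2 ↥(Subgroup.centralizer ({z} : Set G))).map
      (Subgroup.centralizer ({z} : Set G)).subtype := by
  intro hQeq
  haveI : Fact (Nat.Prime 2) := ⟨Nat.prime_two⟩
  haveI hMn : M.Normal := w.c.hM.normal
  set H : Subgroup G := Subgroup.centralizer ({z} : Set G) with hH
  -- `M ∩ H` is a normal 2-subgroup of `H`
  have hn : (M.subgroupOf H).Normal := inferInstance
  have h2 : IsPGroup 2 (M.subgroupOf H) := by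
    intro g
    refine ⟨2, ?_⟩
    have hgM : ((g : ↥H) : G) ∈ M := Subgroup.mem_subgroupOf.mp g.2
    have hgz : ((g : ↥H) : G) * z = z * ((g : ↥H) : G) :=
      Subgroup.mem_centralizer_singleton_iff.mp (g : ↥H).2
    have := w.pow_four_cent hgM hgz
    apply Subtype.ext
    apply Subtype.ext
    simpa using this
  have hle := Cfsg.Agent.Lib.H1.le_pCore hn h2
  have hDQ : ∀ x ∈ T, x * t0 = t0 * x → x ∈ Q := by
    intro x hx hxt
    have hxz := (w.comm_z_iff hx).mpr hxt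
    have hxH : x ∈ H := Subgroup.mem_centralizer_singleton_iff.mpr hxz
    have : (⟨x, hxH⟩ : ↥H) ∈ M.subgroupOf H := Subgroup.mem_subgroupOf.mpr (w.c.hT.le hx)
    rw [hQeq]
    exact ⟨⟨x, hxH⟩, hle this, rfl⟩
  have key : ∀ x ∈ T, x * t0 = t0 * x → x = 1 ∨ x = t0 := by
    intro x hx hxt
    have hxQ := hDQ x hx hxt
    have hyu : u * x⁻¹ * u⁻¹ ∈ cj u T := conj_mem_cj (T.inv_mem hx)
    have e : x * u * x⁻¹ * u⁻¹ = x * (u * x⁻¹ * u⁻¹) := by group
    rcases w.h.lx.comm x hxQ u w.hu with h1 | h1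
    · left
      rw [e] at h1
      exact (w.toTwo.unique2 hx T.one_mem hyu (Subgroup.one_mem _) (by rw [h1, one_mul])).1
    · right
      rw [e, w.hz] at h1
      exact (w.toTwo.unique2 hx w.ht0 hyu w.c0_mem h1).1
  haveI := isSimpleGroup_T w.c
  apply no_small_centralizer (not_comm_T w.c) (⟨t0, w.ht0⟩ : ↥T)
  · intro h0
    exact w.t0_ne_one (congrArg Subtype.val h0)
  · intro x hx
    have hx' : (x : G) * t0 = t0 * x := congrArg Subtype.val hx
    rcases key x x.2 hx' with h0 | h0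
    · left; exact Subtype.ext h0
    · right; exact Subtype.ext h0

end Two'

end LxS

end Cfsg.Agent.Lib.H27
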