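/-
helper27 library: in the extraspecial-centralizer setting with `Q` large extraspecial, if
`C_G(z) ≤ ⟨z^G⟩` then `G` is simple (Aschbacher, Sporadic Groups, 8.10).
-/
import Mathlib
import Cfsg.Agent.Lib.H27.LxSimpleA
import Cfsg.Agent.S5426
import Cfsg.Agent.S5433
import Cfsg.Agent.Lib.H22.LargeExtra4

set_option autoImplicit false
set_option linter.style.haveILetI false

namespace Cfsg.Agent.Lib.H27

namespace LxS

open Cfsg

variable {G : Type*} [Group G]

namespace ESet

variable {z : G} {Q : Subgroup G}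

/-- A 2-group `C` has `O_2(C) = C` and `F*(C) = C`. -/
theorem pCore_eq_top_of_isPGroup {C : Type*} [Group C] (hC : IsPGroup 2 C) : pCore 2 C = ⊤ := by
  rw [eq_top_iff]
  exact Cfsg.Agent.Lib.H1.le_pCore inferInstance (hC.to_subgroup ⊤)

theorem fstar_eq_top_of_isPGroup {C : Type*} [Group C] [Finite C] (hC : IsPGroup 2 C) :
    generalizedFittingSubgroup C = ⊤ := by
  haveI : Fact (Nat.Prime 2) := ⟨Nat.prime_two⟩
  rw [eq_top_iff]
  refine le_trans ?_ Cfsg.Agent.Lib.H7.fittingSubgroup_le_generalizedFittingSubgroup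
  exact Cfsg.Agent.Lib.H1.le_fittingSubgroup inferInstance (hC.to_subgroup ⊤).isNilpotent

theorem simple_of_le_normalClosure [Finite G] (e : ESet z Q) (hL : IsLargeExtraspecial Q)
    (hQ2 : 2 < Nat.card Q)
    (hgen : Subgroup.centralizer ({z} : Set G) ≤ Subgroup.normalClosure ({z} : Set G)) :
    IsSimpleGroup G := by
  haveI : Fact (Nat.Prime 2) := ⟨Nat.prime_two⟩
  set M := Subgroup.normalClosure ({z} : Set G) with hM
  haveI hMn : M.Normal := Subgroup.normalClosure_normal
  have hQM : Q ≤ M := e.hQC.trans hgen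
  -- `M = G`
  have hMtop : M = ⊤ := by
    have h1 := Cfsg.Agent.S5433.result Q hL M hQM
    rw [eq_top_iff, ← h1]
    apply sup_le le_rfl
    intro n hn
    exact hgen (Subgroup.mem_centralizer_singleton_iff.mpr (e.comm_of_mem_normalizer hn))
  have hnc : ¬ ∀ a ∈ Q, ∀ b ∈ Q, a * b = b * a := by
    intro hab
    have : Subgroup.center ↥Q = ⊤ := by
      rw [eq_top_iff]
      intro q _
      rw [Subgroup.mem_center_iff]
      intro g
      exact Subtype.ext (hab g g.2 q q.2)
    have h2 := e.hQ.2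
    rw [this, Subgroup.card_top] at h2
    omega
  rcases Cfsg.Agent.S5426.result Q hL z e.center_eq M rfl with h1 | h1 | h1 | h1
  · -- `Q` normal
    exfalso
    have hcen : ∀ g : G, g * z = z * g := by
      intro g
      apply e.comm_of_mem_normalizer
      rw [Subgroup.normalizer_eq_top_iff.mpr h1]
      trivial
    have hZn : (Subgroup.zpowers z).Normal := by
      constructor
      intro n hn g
      obtain ⟨k, rfl⟩ := Subgroup.mem_zpowers_iff.mp hn
      have hc : Commute g z := hcen g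
      have : g * z ^ k * g⁻¹ = z ^ k := by
        rw [(hc.zpow_right k).eq]; group
      rw [this]
      exact Subgroup.zpow_mem_zpowers _ k
    have hle : M ≤ Subgroup.zpowers z := by
      apply Subgroup.normalClosure_le_normal
      intro x hx
      rw [Set.mem_singleton_iff] at hx
      rw [hx]
      exact Subgroup.mem_zpowers z
    have h3 : Nat.card Q ≤ Nat.card (Subgroup.zpowers z) :=
      Subgroup.card_le_of_le (hQM.trans hle)
    rw [Nat.card_zpowers, e.hz] at h3
    omega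
  · -- `M` abelian
    exfalso
    apply hnc
    intro a ha b hb
    have := isMulCommutative_iff.mp h1.1 ⟨a, hQM ha⟩ ⟨b, hQM hb⟩
    exact congrArg Subtype.val this
  · -- `M` simple
    obtain ⟨_, hs, _⟩ := h1
    have eqv : ↥M ≃* G := (MulEquiv.subgroupCongr hMtop).trans Subgroup.topEquiv
    exact eqv.symm.isSimpleGroup
  · -- two components
    exfalso
    obtain ⟨_, L, u, _, _, _, hinf, hcomm, hsup, z₁, hz₁L, hzz, ⟨R, hR, _⟩, hne⟩ := h1
    apply hne
    set L' := L.map (MulAut.conj u).toMonoidHom with hL'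
    set C := Subgroup.centralizer ({z} : Set G) with hC
    have hz₁' : u * z₁ * u⁻¹ ∈ L' := ⟨z₁, hz₁L, rfl⟩
    -- elements of `L` centralizing `z₁` are 2-elements
    have h2el : ∀ x ∈ L, x * z₁ = z₁ * x → ∃ k : ℕ, x ^ 2 ^ k = 1 := by
      intro x hx hxz
      have hxR : (⟨x, hx⟩ : ↥L) ∈ (R : Subgroup ↥L) := by
        rw [hR, Subgroup.mem_subgroupOf]
        exact Subgroup.mem_centralizer_singleton_iff.mpr hxz
      obtain ⟨k, hk⟩ := R.isPGroup' ⟨⟨x, hx⟩, hxR⟩
      refine ⟨k, ?_⟩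
      have := congrArg (fun t : ↥(R : Subgroup ↥L) => ((t : ↥L) : G)) hk
      simpa using this
    have hC2 : IsPGroup 2 ↥C := by
      intro c
      have hcM : (c : G) ∈ L ⊔ L' := by
        rw [hsup, hMtop]; trivial
      have hn : ∀ a ∈ L', ∀ b ∈ L, a * b * a⁻¹ ∈ L := by
        intro a ha b hb
        have := hcomm b hb a ha
        have e1 : a * b * a⁻¹ = b := by
          rw [← this]; group
        rw [e1]; exact hb
      obtain ⟨x, hx, y, hy, hcxy⟩ :=
        Cfsg.Agent.Lib.H22.LargeExtra.exists_mul_of_mem_sup hn hcM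
      have hcz : (c : G) * z = z * c := Subgroup.mem_centralizer_singleton_iff.mp c.2
      have c1 := hcomm z₁ hz₁L y hy
      have c2 := hcomm x hx _ hz₁'
      have h3 : (x * z₁) * (y * (u * z₁ * u⁻¹)) = (z₁ * x) * ((u * z₁ * u⁻¹) * y) := by
        calc (x * z₁) * (y * (u * z₁ * u⁻¹)) = x * (z₁ * y) * (u * z₁ * u⁻¹) := by group
          _ = x * (y * z₁) * (u * z₁ * u⁻¹) := by rw [c1]
          _ = (x * y) * (z₁ * (u * z₁ * u⁻¹)) := by group
          _ = (c : G) * z := by rw [← hzz, ← hcxy]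
          _ = z * c := hcz
          _ = z₁ * (u * z₁ * u⁻¹) * (x * y) := by rw [← hzz, ← hcxy]
          _ = z₁ * ((u * z₁ * u⁻¹) * x) * y := by group
          _ = z₁ * (x * (u * z₁ * u⁻¹)) * y := by rw [c2]
          _ = _ := by group
      have h4 : (z₁ * x)⁻¹ * (x * z₁) = ((u * z₁ * u⁻¹) * y) * (y * (u * z₁ * u⁻¹))⁻¹ := by
        calc (z₁ * x)⁻¹ * (x * z₁)
            = (z₁ * x)⁻¹ * ((x * z₁) * (y * (u * z₁ * u⁻¹))) * (y * (u * z₁ * u⁻¹))⁻¹ := by group
          _ = (z₁ * x)⁻¹ * ((z₁ * x) * ((u * z₁ * u⁻¹) * y)) * (y * (u * z₁ * u⁻¹))⁻¹ := by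
              rw [h3]
          _ = _ := by group
      have h5 : (z₁ * x)⁻¹ * (x * z₁) ∈ L ⊓ L' := by
        refine Subgroup.mem_inf.mpr ⟨?_, ?_⟩
        · exact L.mul_mem (L.inv_mem (L.mul_mem hz₁L hx)) (L.mul_mem hx hz₁L)
        · rw [h4]
          exact L'.mul_mem (L'.mul_mem hz₁' hy) (L'.inv_mem (L'.mul_mem hy hz₁'))
      rw [hinf, Subgroup.mem_bot] at h5
      have hxz : x * z₁ = z₁ * x := by
        calc x * z₁ = (z₁ * x) * ((z₁ * x)⁻¹ * (x * z₁)) := by group
          _ = z₁ * x := by rw [h5, mul_one]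
      have hyz : y * (u * z₁ * u⁻¹) = (u * z₁ * u⁻¹) * y := by
        rw [hxz] at h3
        exact mul_left_cancel h3
      obtain ⟨x', hx', hyx'⟩ := hy
      have hyx'' : y = u * x' * u⁻¹ := by
        rw [← hyx']; rfl
      have hx'z : x' * z₁ = z₁ * x' := by
        rw [hyx''] at hyz
        have : u * (x' * z₁) * u⁻¹ = u * (z₁ * x') * u⁻¹ := by
          calc u * (x' * z₁) * u⁻¹ = (u * x' * u⁻¹) * (u * z₁ * u⁻¹) := by group
            _ = (u * z₁ * u⁻¹) * (u * x' * u⁻¹) := hyz
            _ = _ := by group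
        exact mul_left_cancel (mul_right_cancel this)
      obtain ⟨k, hk⟩ := h2el x hx hxz
      obtain ⟨k', hk'⟩ := h2el x' hx' hx'z
      have hyk : y ^ 2 ^ k' = 1 := by
        rw [hyx'', conj_pow, hk']; group
      refine ⟨k + k', ?_⟩
      apply Subtype.ext
      have hcomxy : Commute x y := hcomm x hx y ⟨x', hx', hyx'⟩
      show ((c ^ 2 ^ (k + k') : ↥C) : G) = 1
      rw [Subgroup.coe_pow, hcxy, hcomxy.mul_pow, pow_add, pow_mul, hk, one_pow, one_mul,
        mul_comm (2 ^ k) (2 ^ k'), pow_mul, hyk, one_pow]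
    rw [← e.hF, fstar_eq_top_of_isPGroup hC2, pCore_eq_top_of_isPGroup hC2]

end ESet

end LxS

end Cfsg.Agent.Lib.H27
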