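import Mathlib
import Cfsg.Prelude.Def_Characters
import Cfsg.Prelude.Def_Blocks
import Cfsg.Agent.Lib.H24.CharOrth
import Cfsg.Agent.Lib.H24.CharBasic
import Cfsg.Agent.Lib.H24.CodegreeDvd
import Cfsg.Agent.Lib.H23.DegreeDvd
import Cfsg.Agent.Lib.H23.DefectZero
import Cfsg.Agent.Lib.H22.M7920F9
import Cfsg.Agent.Lib.H12.M7920F10
import Cfsg.Agent.Lib.H4.M7920F11
import Cfsg.Agent.Lib.H28.M7920F12b
import Cfsg.Agent.Lib.H21.M7920F12a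

/-!
S4429 piece (CASEA) `caseA` (helper27): pattern (A) of the 11-block gives the ten characters.
-/
set_option autoImplicit false
namespace Cfsg.Agent.Lib.H27.M7920
open Cfsg
open scoped BigOperators ComplexConjugate
universe u

/-- conjugate elements have the same order -/
theorem casea_orderOf_eq_of_isConj {G : Type u} [Group G] {a b : G} (h : IsConj a b) :
    orderOf a = orderOf b := by
  obtain ⟨c, hc⟩ := h
  exact SemiconjBy.orderOf_eq _ hc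

/-- an irreducible character of degree divisible by 5 of a group of order 7920 vanishes at elements of order 5 -/
theorem casea_vanish5 {G : Type u} [Group G] [Fintype G] (hG : Nat.card G = 7920) (ψ : IrrCharacter G)
    (d : ℕ) (hd : (ψ : G → ℂ) 1 = d) (h5 : 5 ∣ d) (y : G) (hy : orderOf y = 5) :
    (ψ : G → ℂ) y = 0 := by
  classical
  obtain ⟨n, ρ, hρ, hρχ⟩ := ψ.2
  have := hρ
  have hn5 : n = d := by
    have h1 : ρ.character 1 = (n : ℂ) := by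
      rw [Representation.char_one]; simp
    rw [hρχ, hd] at h1
    exact_mod_cast h1.symm
  rw [← hρχ]
  apply Cfsg.Agent.Lib.H23.char_eq_zero_of_defect_zero ρ 5 1 (by norm_num)
  · rw [hG]; norm_num
  · rw [Module.finrank_fin_fun, hn5]; simpa using h5
  · rw [hy]

theorem casea_ne_of_one_ne {G : Type u} [Group G] {a b : IrrCharacter G}
    (h : (a : G → ℂ) 1 ≠ (b : G → ℂ) 1) : a ≠ b := fun hab => h (by rw [hab])

set_option maxHeartbeats 1600000 in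
/-- (CASEA) -/
theorem caseA {G : Type u} [Group G] [Fintype G] [IsSimpleGroup G] (hG : Nat.card G = 7920)
    {x : G} (hx : orderOf x = 11) (η : ℂ)
    (χ₁ χ₂ ψ₁ ψ₂ ψ₃ ψ₄ : IrrCharacter G) (hne : χ₁ ≠ χ₂)
    (hx1 : (χ₁ : G → ℂ) x = -(1 + η)) (hx2 : (χ₂ : G → ℂ) x = η)
    (h12 : ψ₁ ≠ ψ₂) (h13 : ψ₁ ≠ ψ₃) (h14 : ψ₁ ≠ ψ₄) (h23 : ψ₂ ≠ ψ₃) (h24 : ψ₂ ≠ ψ₄) (h34 : ψ₃ ≠ ψ₄)
    (hd1 : (χ₁ : G → ℂ) 1 = 16) (hd2 : (χ₂ : G → ℂ) 1 = 16)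
    (he1 : (ψ₁ : G → ℂ) 1 = 10) (he2 : (ψ₂ : G → ℂ) 1 = 10) (he3 : (ψ₃ : G → ℂ) 1 = 10) (he4 : (ψ₄ : G → ℂ) 1 = 45)
    (hvan : ∀ ψ : IrrCharacter G, (ψ : G → ℂ) ≠ 1 → ψ ≠ χ₁ → ψ ≠ χ₂ → ψ ≠ ψ₁ → ψ ≠ ψ₂ → ψ ≠ ψ₃ → ψ ≠ ψ₄ →
      (ψ : G → ℂ) x = 0 ∧ ∃ c : ℕ, (ψ : G → ℂ) 1 = 11 * c)
    (hrel : ∀ g : G, ¬ IsConj g x → ¬ IsConj g x⁻¹ → (χ₁ : G → ℂ) g = (χ₂ : G → ℂ) g ∧
      1 - (ψ₁ : G → ℂ) g - (ψ₂ : G → ℂ) g - (ψ₃ : G → ℂ) g + (ψ₄ : G → ℂ) g - (χ₁ : G → ℂ) g = 0) :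
    Nat.card (Cfsg.IrrCharacter G) = 10 ∧ ∀ n : ℕ,
      Nat.card {χ : Cfsg.IrrCharacter G // Cfsg.charDegree (χ : G → ℂ) = n} =
        (if n = 1 ∨ n = 11 ∨ n = 44 ∨ n = 45 ∨ n = 55 then 1 else if n = 10 then 3 else if n = 16 then 2 else 0) := by
  classical
  haveI : Fintype (IrrCharacter G) := Fintype.ofFinite _
  haveI : Fact (Nat.Prime 5) := ⟨by norm_num⟩
  -- an element of order 5
  obtain ⟨y, hy⟩ := exists_prime_orderOf_dvd_card' (G := G) 5 (by rw [hG]; norm_num)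
  have hxi : orderOf x⁻¹ = 11 := by rw [orderOf_inv, hx]
  have hyx : ¬ IsConj y x := fun h => by
    have := casea_orderOf_eq_of_isConj h; rw [hy, hx] at this; omega
  have hyxi : ¬ IsConj y x⁻¹ := fun h => by
    have := casea_orderOf_eq_of_isConj h; rw [hy, hxi] at this; omega
  have hy1 : y ≠ 1 := fun h => by rw [h, orderOf_one] at hy; omega
  -- values at y of the block characters
  have hv1 : (ψ₁ : G → ℂ) y = 0 := casea_vanish5 hG ψ₁ 10 (by rw [he1]; norm_num) (by norm_num) y hy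
  have hv2 : (ψ₂ : G → ℂ) y = 0 := casea_vanish5 hG ψ₂ 10 (by rw [he2]; norm_num) (by norm_num) y hy
  have hv3 : (ψ₃ : G → ℂ) y = 0 := casea_vanish5 hG ψ₃ 10 (by rw [he3]; norm_num) (by norm_num) y hy
  have hv4 : (ψ₄ : G → ℂ) y = 0 := casea_vanish5 hG ψ₄ 45 (by rw [he4]; norm_num) (by norm_num) y hy
  obtain ⟨hc12, hrely⟩ := hrel y hyx hyxi
  rw [hv1, hv2, hv3, hv4] at hrely
  have hc1 : (χ₁ : G → ℂ) y = 1 := by linear_combination -hrely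
  have hc2 : (χ₂ : G → ℂ) y = 1 := by rw [← hc12, hc1]
  -- the trivial character
  obtain ⟨t0, ht0⟩ : ∃ t : IrrCharacter G, t = Cfsg.Agent.Lib.H24.trivialIrr G := ⟨_, rfl⟩
  have ht0v : ∀ g, (t0 : G → ℂ) g = 1 := fun g => by rw [ht0]; rfl
  have ht0one : (t0 : G → ℂ) = 1 := by rw [ht0]; rfl
  -- distinctness
  have n01 : t0 ≠ χ₁ := casea_ne_of_one_ne (by rw [ht0v, hd1]; norm_num)
  have n02 : t0 ≠ χ₂ := casea_ne_of_one_ne (by rw [ht0v, hd2]; norm_num)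
  have n03 : t0 ≠ ψ₁ := casea_ne_of_one_ne (by rw [ht0v, he1]; norm_num)
  have n04 : t0 ≠ ψ₂ := casea_ne_of_one_ne (by rw [ht0v, he2]; norm_num)
  have n05 : t0 ≠ ψ₃ := casea_ne_of_one_ne (by rw [ht0v, he3]; norm_num)
  have n06 : t0 ≠ ψ₄ := casea_ne_of_one_ne (by rw [ht0v, he4]; norm_num)
  have n13 : χ₁ ≠ ψ₁ := casea_ne_of_one_ne (by rw [hd1, he1]; norm_num)
  have n14 : χ₁ ≠ ψ₂ := casea_ne_of_one_ne (by rw [hd1, he2]; norm_num)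
  have n15 : χ₁ ≠ ψ₃ := casea_ne_of_one_ne (by rw [hd1, he3]; norm_num)
  have n16 : χ₁ ≠ ψ₄ := casea_ne_of_one_ne (by rw [hd1, he4]; norm_num)
  have n23 : χ₂ ≠ ψ₁ := casea_ne_of_one_ne (by rw [hd2, he1]; norm_num)
  have n24 : χ₂ ≠ ψ₂ := casea_ne_of_one_ne (by rw [hd2, he2]; norm_num)
  have n25 : χ₂ ≠ ψ₃ := casea_ne_of_one_ne (by rw [hd2, he3]; norm_num)
  have n26 : χ₂ ≠ ψ₄ := casea_ne_of_one_ne (by rw [hd2, he4]; norm_num)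
  have hχ1ne : (χ₁ : G → ℂ) ≠ 1 := fun h => n01 (Subtype.ext (by rw [h, ht0one]))
  have hχ2ne : (χ₂ : G → ℂ) ≠ 1 := fun h => n02 (Subtype.ext (by rw [h, ht0one]))
  -- (F11): |C(y)| divides 15
  have hC15 : Nat.card (Subgroup.centralizer ({y} : Set G)) ∣ 15 := by
    refine Cfsg.Agent.Lib.H4.M7920.cent5_caseA hG η χ₁ χ₂ hne hχ1ne hχ2ne hx1 hx2 hd1 hd2 hc1 hc2 ?_
    intro ψ hψ1 hψ2 hψ3
    by_cases e1 : ψ = ψ₁
    · left; rw [e1, hv1]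
    by_cases e2 : ψ = ψ₂
    · left; rw [e2, hv2]
    by_cases e3 : ψ = ψ₃
    · left; rw [e3, hv3]
    by_cases e4 : ψ = ψ₄
    · left; rw [e4, hv4]
    right
    exact (hvan ψ hψ1 hψ2 hψ3 e1 e2 e3 e4).1
  -- (F9)
  obtain ⟨hC5, hconj2⟩ := Cfsg.Agent.Lib.H22.M7920.sylow5_data hG y hy hC15
  -- (F10)
  choose B c hB hBc using fun ψ : IrrCharacter G => Cfsg.Agent.Lib.H12.M7920.values5 ψ y hy hconj2
  set d : IrrCharacter G → ℕ := fun ψ => Cfsg.charDegree (ψ : G → ℂ) with hddef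
  have hdψ : ∀ ψ : IrrCharacter G, (ψ : G → ℂ) 1 = (d ψ : ℂ) := fun ψ =>
    (Cfsg.Agent.Lib.H24.charDegree_irr ψ).symm
  have hdB : ∀ ψ : IrrCharacter G, (d ψ : ℤ) = B ψ + 5 * c ψ := by
    intro ψ
    have h := hBc ψ
    rw [hdψ ψ] at h
    exact_mod_cast h
  -- second orthogonality (y,y)
  have hso1 := Cfsg.Agent.Lib.H24.second_orthogonality (G := G) y y
  rw [if_pos (IsConj.refl y), hC5] at hso1
  have h5c : ((5 : ℕ) : ℂ) = 5 := by norm_num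
  rw [h5c] at hso1
  have hsumB2 : ∑ ψ : IrrCharacter G, B ψ ^ 2 = 5 := by
    have h : ((∑ ψ : IrrCharacter G, B ψ ^ 2 : ℤ) : ℂ) = ((5 : ℤ) : ℂ) := by
      push_cast
      rw [← hso1]
      refine Finset.sum_congr rfl (fun ψ _ => ?_)
      rw [hB ψ, map_intCast]; ring
    exact_mod_cast h
  -- second orthogonality (y,1)
  have hso2 := Cfsg.Agent.Lib.H24.second_orthogonality (G := G) y 1
  have hy1c : ¬ IsConj y 1 := fun h => hy1 (isConj_one_left.mp h)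
  rw [if_neg hy1c] at hso2
  have hsumdB : ∑ ψ : IrrCharacter G, (d ψ : ℤ) * B ψ = 0 := by
    have h : ((∑ ψ : IrrCharacter G, (d ψ : ℤ) * B ψ : ℤ) : ℂ) = ((0 : ℤ) : ℂ) := by
      push_cast
      rw [← hso2]
      refine Finset.sum_congr rfl (fun ψ _ => ?_)
      rw [hB ψ, hdψ ψ, Complex.conj_natCast]; ring
    exact_mod_cast h
  have hsumd2 : ∑ ψ : IrrCharacter G, d ψ ^ 2 = 7920 := by
    rw [← hG]; exact Cfsg.Agent.Lib.H24.sum_charDegree_sq (G := G)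
  -- known values
  have toInt : ∀ (ψ : IrrCharacter G) (k : ℤ), (ψ : G → ℂ) y = (k : ℂ) → B ψ = k := by
    intro ψ k h
    have := hB ψ
    rw [h] at this
    exact_mod_cast this.symm
  have toNat : ∀ (ψ : IrrCharacter G) (k : ℕ), (ψ : G → ℂ) 1 = (k : ℂ) → d ψ = k := by
    intro ψ k h
    exact Cfsg.Agent.Lib.H23.charDegree_eq_of_apply_one h
  have B0 : B t0 = 1 := toInt t0 1 (by rw [ht0v]; norm_num)
  have B1 : B χ₁ = 1 := toInt χ₁ 1 (by rw [hc1]; norm_num)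
  have B2 : B χ₂ = 1 := toInt χ₂ 1 (by rw [hc2]; norm_num)
  have B3 : B ψ₁ = 0 := toInt ψ₁ 0 (by rw [hv1]; norm_num)
  have B4 : B ψ₂ = 0 := toInt ψ₂ 0 (by rw [hv2]; norm_num)
  have B5 : B ψ₃ = 0 := toInt ψ₃ 0 (by rw [hv3]; norm_num)
  have B6 : B ψ₄ = 0 := toInt ψ₄ 0 (by rw [hv4]; norm_num)
  have D0 : d t0 = 1 := toNat t0 1 (by rw [ht0v]; norm_num)
  have D1 : d χ₁ = 16 := toNat χ₁ 16 (by rw [hd1]; norm_num)
  have D2 : d χ₂ = 16 := toNat χ₂ 16 (by rw [hd2]; norm_num)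
  have D3 : d ψ₁ = 10 := toNat ψ₁ 10 (by rw [he1]; norm_num)
  have D4 : d ψ₂ = 10 := toNat ψ₂ 10 (by rw [he2]; norm_num)
  have D5 : d ψ₃ = 10 := toNat ψ₃ 10 (by rw [he3]; norm_num)
  have D6 : d ψ₄ = 45 := toNat ψ₄ 45 (by rw [he4]; norm_num)
  -- the block and its complement
  obtain ⟨L, hL⟩ : ∃ L : Finset (IrrCharacter G), L = {t0, χ₁, χ₂, ψ₁, ψ₂, ψ₃, ψ₄} := ⟨_, rfl⟩
  obtain ⟨T, hT⟩ : ∃ T : Finset (IrrCharacter G), T = Finset.univ \ L := ⟨_, rfl⟩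
  have hLsum : ∀ F : IrrCharacter G → ℤ, ∑ ψ ∈ L, F ψ =
      F t0 + F χ₁ + F χ₂ + F ψ₁ + F ψ₂ + F ψ₃ + F ψ₄ := by
    intro F
    rw [hL]
    rw [Finset.sum_insert (by simp [n01, n02, n03, n04, n05, n06]),
      Finset.sum_insert (by simp [hne, n13, n14, n15, n16]),
      Finset.sum_insert (by simp [n23, n24, n25, n26]),
      Finset.sum_insert (by simp [h12, h13, h14]),
      Finset.sum_insert (by simp [h23, h24]),
      Finset.sum_insert (by simp [h34]), Finset.sum_singleton]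
    ring
  have hLsumN : ∀ F : IrrCharacter G → ℕ, ∑ ψ ∈ L, F ψ =
      F t0 + F χ₁ + F χ₂ + F ψ₁ + F ψ₂ + F ψ₃ + F ψ₄ := by
    intro F
    rw [hL]
    rw [Finset.sum_insert (by simp [n01, n02, n03, n04, n05, n06]),
      Finset.sum_insert (by simp [hne, n13, n14, n15, n16]),
      Finset.sum_insert (by simp [n23, n24, n25, n26]),
      Finset.sum_insert (by simp [h12, h13, h14]),
      Finset.sum_insert (by simp [h23, h24]),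
      Finset.sum_insert (by simp [h34]), Finset.sum_singleton]
    ring
  have hsplit : ∀ F : IrrCharacter G → ℤ, ∑ ψ : IrrCharacter G, F ψ =
      ∑ ψ ∈ T, F ψ + (F t0 + F χ₁ + F χ₂ + F ψ₁ + F ψ₂ + F ψ₃ + F ψ₄) := by
    intro F
    rw [← hLsum F, hT]
    exact (Finset.sum_sdiff (Finset.subset_univ L)).symm
  have hsplitN : ∀ F : IrrCharacter G → ℕ, ∑ ψ : IrrCharacter G, F ψ =
      ∑ ψ ∈ T, F ψ + (F t0 + F χ₁ + F χ₂ + F ψ₁ + F ψ₂ + F ψ₃ + F ψ₄) := by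
    intro F
    rw [← hLsumN F, hT]
    exact (Finset.sum_sdiff (Finset.subset_univ L)).symm
  have hTB2 : ∑ ψ ∈ T, B ψ ^ 2 = 2 := by
    have h := hsplit (fun ψ => B ψ ^ 2)
    simp only [B0, B1, B2, B3, B4, B5, B6] at h
    rw [hsumB2] at h
    linarith
  have hTdB : ∑ ψ ∈ T, (d ψ : ℤ) * B ψ = -33 := by
    have h := hsplit (fun ψ => (d ψ : ℤ) * B ψ)
    simp only [B0, B1, B2, B3, B4, B5, B6, D0, D1, D2, D3, D4, D5, D6] at h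
    rw [hsumdB] at h
    push_cast at h
    linarith
  have hTd2 : ∑ ψ ∈ T, d ψ ^ 2 = 5082 := by
    have h := hsplitN (fun ψ => d ψ ^ 2)
    simp only [D0, D1, D2, D3, D4, D5, D6] at h
    rw [hsumd2] at h
    omega
  -- membership in T
  have hTmem : ∀ ψ : IrrCharacter G, ψ ∈ T ↔ (ψ ≠ t0 ∧ ψ ≠ χ₁ ∧ ψ ≠ χ₂ ∧ ψ ≠ ψ₁ ∧ ψ ≠ ψ₂ ∧ ψ ≠ ψ₃ ∧ ψ ≠ ψ₄) := by
    intro ψ
    rw [hT, hL]
    simp only [Finset.mem_sdiff, Finset.mem_univ, true_and, Finset.mem_insert, Finset.mem_singleton, not_or]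
  have hT11 : ∀ ψ ∈ T, 11 ∣ d ψ := by
    intro ψ hψ
    obtain ⟨m0, m1, m2, m3, m4, m5, m6⟩ := (hTmem ψ).1 hψ
    have hne1 : (ψ : G → ℂ) ≠ 1 := fun h => m0 (Subtype.ext (by rw [h, ht0one]))
    obtain ⟨-, cc, hcc⟩ := hvan ψ hne1 m1 m2 m3 m4 m5 m6
    have : d ψ = 11 * cc := toNat ψ (11 * cc) (by rw [hcc]; push_cast; ring)
    rw [this]
    exact dvd_mul_right 11 cc
  have hTdvd : ∀ ψ ∈ T, d ψ ∣ 7920 := by
    intro ψ _
    rw [← hG]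
    exact Cfsg.Agent.Lib.H23.charDegree_dvd_card (ψ : G → ℂ) ψ.2
  have hTpos : ∀ ψ ∈ T, 0 < d ψ := fun ψ _ => Cfsg.Agent.Lib.H23.charDegree_pos (ψ : G → ℂ) ψ.2
  obtain ⟨t₁, t₂, t₃, ht1, ht2, ht3, t12, t13, t23, dt1, dt2, dt3, hall⟩ :=
    Cfsg.Agent.Lib.H21.M7920.extra11 T B d hT11 hTdvd hTpos (fun ψ _ => ⟨c ψ, hdB ψ⟩) hTB2 hTdB hTd2
  obtain ⟨a0, a1, a2, a3, a4, a5, a6⟩ := (hTmem t₁).1 ht1
  obtain ⟨b0, b1, b2, b3, b4, b5, b6⟩ := (hTmem t₂).1 ht2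
  obtain ⟨c0, c1, c2, c3, c4, c5, c6⟩ := (hTmem t₃).1 ht3
  -- the list
  obtain ⟨f, hf⟩ : ∃ f : Fin 10 → IrrCharacter G, f = ![t0, ψ₁, ψ₂, ψ₃, t₁, χ₁, χ₂, t₂, ψ₄, t₃] := ⟨_, rfl⟩
  have hdeg : ∀ i, Cfsg.charDegree (f i : G → ℂ) = ![1, 10, 10, 10, 11, 16, 16, 44, 45, 55] i := by
    intro i
    rw [hf]
    fin_cases i
    · exact D0
    · exact D3
    · exact D4
    · exact D5
    · exact dt1
    · exact D1
    · exact D2
    · exact dt2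
    · exact D6
    · exact dt3
  have hpairs : ∀ i j : Fin 10, (![1, 10, 10, 10, 11, 16, 16, 44, 45, 55] : Fin 10 → ℕ) i =
      (![1, 10, 10, 10, 11, 16, 16, 44, 45, 55] : Fin 10 → ℕ) j → i ≠ j →
      (i = 1 ∧ j = 2) ∨ (i = 2 ∧ j = 1) ∨ (i = 1 ∧ j = 3) ∨ (i = 3 ∧ j = 1) ∨ (i = 2 ∧ j = 3) ∨
      (i = 3 ∧ j = 2) ∨ (i = 5 ∧ j = 6) ∨ (i = 6 ∧ j = 5) := by
    decide
  have hinj : Function.Injective f := by
    intro i j hij
    by_contra hne'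
    have hv : (![1, 10, 10, 10, 11, 16, 16, 44, 45, 55] : Fin 10 → ℕ) i =
        (![1, 10, 10, 10, 11, 16, 16, 44, 45, 55] : Fin 10 → ℕ) j := by
      rw [← hdeg i, ← hdeg j, hij]
    rcases hpairs i j hv hne' with ⟨rfl, rfl⟩ | ⟨rfl, rfl⟩ | ⟨rfl, rfl⟩ | ⟨rfl, rfl⟩ | ⟨rfl, rfl⟩ |
      ⟨rfl, rfl⟩ | ⟨rfl, rfl⟩ | ⟨rfl, rfl⟩
    all_goals rw [hf] at hij
    · exact h12 hij
    · exact h12 hij.symm
    · exact h13 hij
    · exact h13 hij.symm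
    · exact h23 hij
    · exact h23 hij.symm
    · exact hne hij
    · exact hne hij.symm
  exact Cfsg.Agent.Lib.H28.M7920.count_final hG f hinj hdeg

end Cfsg.Agent.Lib.H27.M7920
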