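import Cfsg.Agent.Lib.H27.McLData

set_option autoImplicit false

namespace Cfsg.Agent.Lib.H27.McL3Data

open Cfsg.Agent.Lib.H27.Eng

def y8 : V := [2, 2, 0, 0, 0, 0, 0, 0, 0, 0, 0, 0, 0, 2, 0, 2, 0, 2, 2, 2, 0, 0, 0, 2]
def y16 : V := [4, 0, 0, 4, 0, 0, 0, 0, 0, 0, 0, 0, 0, 0, 0, 0, 0, 0, 0, 0, 0, 0, 0, 0]

def sg : List (List Gen) := [
  [Gen.mono [0, 1, 2, 19, 9, 7, 12, 18, 16, 17, 5, 22, 4, 10, 21, 3, 15, 6, 13, 8, 14, 11, 20, 23] [0, 1, 2, 15, 12, 10, 17, 5, 19, 4, 13, 21, 6, 18, 20, 16, 8, 9, 7, 3, 22, 14, 11, 23] 0],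
  [Gen.mono [0, 1, 2, 20, 3, 23, 11, 21, 22, 5, 13, 7, 18, 8, 9, 12, 19, 10, 14, 17, 6, 4, 16, 15] [0, 1, 2, 4, 21, 9, 20, 11, 13, 14, 17, 6, 15, 10, 18, 23, 22, 19, 12, 16, 3, 7, 8, 5] 0],
  [Gen.xi, Gen.mono [7, 1, 2, 3, 12, 9, 22, 4, 13, 20, 0, 23, 10, 19, 21, 16, 14, 15, 18, 6, 11, 17, 8, 5] [10, 1, 2, 3, 7, 23, 19, 0, 22, 5, 12, 20, 4, 8, 16, 17, 15, 21, 18, 13, 9, 14, 6, 11] 0, Gen.xi],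
  [Gen.xi, Gen.mono [8, 1, 2, 3, 10, 0, 13, 14, 12, 5, 18, 4, 9, 7, 16, 17, 6, 19, 22, 21, 20, 23, 11, 15] [5, 1, 2, 3, 11, 9, 16, 13, 0, 12, 4, 22, 8, 6, 7, 23, 14, 15, 10, 17, 20, 19, 18, 21] 0, Gen.xi]]

theorem sg_ok : sgOK sg = true := by decide +kernel
theorem fix_ok : fixOK sg [McLData.u0, McLData.v0, McLData.x0] = true := by decide +kernel

def ins8 : List ℕ := [1, 1, 1, 1, 3, 0, 0, 2, 4, 0, 0, 0, 0, 2, 1, 1, 1, 2, 0, 0, 2, 0, 0, 2, 2, 2, 1, 0, 0, 0, 0, 4, 2, 0, 0, 0, 2, 1, 1, 1, 0, 2, 0, 0, 2, 2, 1, 0, 0, 0, 0, 2, 2, 1, 1, 0, 0, 0, 0, 0, 0, 4, 1, 1, 0, 0, 2, 1, 2, 2, 0, 0, 0, 2, 2, 0, 0, 0, 0, 0, 2, 1, 1, 1, 4, 0, 0, 2, 1, 0, 2, 0, 0, 0, 2, 1, 1, 1, 0, 2, 0, 0, 2, 0, 0, 2, 2, 1, 0, 0, 4, 0,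 0, 3, 1, 0, 2, 2, 0, 0, 0, 4, 1, 0, 2, 1, 0, 0, 0, 0, 3, 1, 0, 2, 1, 0, 2, 0, 0, 0, 0, 2, 1, 1, 2, 0, 0, 0, 2, 1, 1, 1, 1, 0, 0, 2, 0, 0, 2, 1, 0, 0, 0, 0, 0, 4, 1, 1, 0, 2, 1, 0, 0, 0, 2, 2, 2, 0, 0, 0, 0, 0, 4, 1, 1, 1, 1, 2, 0, 0, 2, 0, 0, 2, 1, 0, 0, 0, 2, 2, 1, 0, 0, 0, 0, 2, 1, 2, 1, 0, 0, 0, 2, 1, 2, 0, 0, 2, 0, 0, 0, 0]
theorem check_ok8 : orbCheck sg ins8 y8 112 = true := by decide +kernel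

def ins16 : List ℕ := [1, 1, 1, 1, 0, 3, 1, 0, 2, 0, 0, 4, 1, 1, 1, 0, 0, 2, 0, 0, 2, 2, 0, 0, 0, 0, 2, 3, 1, 0, 2, 1, 0, 2, 0, 0, 0, 4, 1, 1, 0, 0, 2, 0, 0, 0, 3, 1, 0, 2, 2, 0, 0, 0, 4, 1, 1, 1, 0, 0, 0, 2, 1, 0, 2, 2, 0, 0, 0, 0, 0, 2, 2, 1, 2, 0, 4, 2, 2, 1, 0, 0, 0, 0, 0, 2, 4, 1, 0, 0, 0, 3, 1, 1, 2, 1, 1, 0, 0, 2, 0, 0, 0, 2, 1, 1, 0, 2, 0, 0, 2, 0, 0, 0, 2, 1, 0, 2, 1, 0, 2, 0, 0, 0, 0, 4, 0, 0, 3, 1, 1, 1, 0, 2, 0, 0, 2, 0, 0, 2, 2, 1, 0, 0, 0, 0, 0, 3, 1, 1, 0, 0, 0, 4, 1, 1, 2, 0, 0, 2, 1, 1, 0, 0, 0, 0, 2, 1, 1, 2, 0, 0, 2, 0, 0, 0, 0, 0, 2, 1, 1, 2, 4, 1, 1, 0, 2, 0, 0, 2, 0, 0, 0, 3, 2, 1, 1, 0, 0, 0, 0, 4, 2, 1, 0, 2, 2, 0, 0, 0, 0, 0, 2, 4, 2, 0, 0, 0, 3, 1, 1, 0, 0, 2, 1, 2, 0, 0,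 2, 1, 0, 2, 0, 0, 0, 0, 0, 2, 1, 2, 3, 0, 0, 0, 2, 2, 4, 0, 0, 4, 0, 0, 3, 1, 1, 1, 0, 0, 2, 2, 0, 0, 0, 2, 1, 1, 0, 0, 0, 0, 4, 2, 1, 0, 0, 0, 0, 3, 2, 2, 2, 0, 0, 0, 0, 4, 1, 1, 1, 0, 2, 2, 0, 0, 0, 2, 1, 0, 0, 0, 2, 1, 1, 0, 2, 0, 0, 2, 1, 1, 0, 2, 0, 0, 2, 2, 0, 0, 0, 0, 0, 0]
theorem check_ok16 : orbCheck sg ins16 y16 162 = true := by decide +kernel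

theorem y8_mem : inLeech (toFn y8) = true := by decide +kernel
theorem y16_mem : inLeech (toFn y16) = true := by decide +kernel
theorem dots_ok : dotL y8 y8 = 32 ∧ dotL McLData.u0 y8 = 24 ∧ dotL McLData.v0 y8 = 16 ∧ dotL McLData.x0 y8 = 8 ∧
    dotL y16 y16 = 32 ∧ dotL McLData.u0 y16 = 24 ∧ dotL McLData.v0 y16 = 16 ∧ dotL McLData.x0 y16 = 16 := by decide +kernel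

end Cfsg.Agent.Lib.H27.McL3Data
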