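import Mathlib
import Cfsg.Prelude.Def_Sporadic_a
import Cfsg.Agent.Lib.H27.McLTrans
import Cfsg.Agent.Lib.H27.McL3Data
import Cfsg.Agent.Lib.H27.Engine3

/-!
helper27 library: the McLaughlin graph has rank 3: the stabiliser of `u, v, x` has orbits of
lengths 112 and 162 on the remaining 274 points.
-/

set_option autoImplicit false

namespace Cfsg.Agent.Lib.H27

open Cfsg Finset Cfsg.Agent.Lib.H28 Cfsg.Agent.Lib.H27.Eng

/-- Neighbours at inner product 8. -/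
def mclSet8 (u v x : leechLattice) : Set leechLattice :=
  {y : leechLattice | y ∈ mclSet u v ∧ dotInt (x : GolayPt → ℤ) (y : GolayPt → ℤ) = 8}

/-- Neighbours at inner product 16. -/
def mclSet16 (u v x : leechLattice) : Set leechLattice :=
  {y : leechLattice | y ∈ mclSet u v ∧ y ≠ x ∧ dotInt (x : GolayPt → ℤ) (y : GolayPt → ℤ) = 16}

theorem smul_mem_mclSet8 (g : Co0) {u v x y : leechLattice} (hy : y ∈ mclSet8 u v x) :
    g • y ∈ mclSet8 (g • u) (g • v) (g • x) :=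
  ⟨smul_mem_mclSet g hy.1, by rw [Co0_dot]; exact hy.2⟩

theorem smul_mem_mclSet16 (g : Co0) {u v x y : leechLattice} (hy : y ∈ mclSet16 u v x) :
    g • y ∈ mclSet16 (g • u) (g • v) (g • x) :=
  ⟨smul_mem_mclSet g hy.1, fun h => hy.2.1 (MulAction.injective g h), by rw [Co0_dot]; exact hy.2.2⟩

theorem image_mclSet8 (g : Co0) (u v x : leechLattice) :
    (fun y : leechLattice => g • y) '' mclSet8 u v x = mclSet8 (g • u) (g • v) (g • x) := by
  ext y
  constructor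
  · rintro ⟨z, hz, rfl⟩
    exact smul_mem_mclSet8 g hz
  · intro hy
    refine ⟨g⁻¹ • y, ?_, smul_inv_smul g y⟩
    have := smul_mem_mclSet8 g⁻¹ hy
    rwa [inv_smul_smul, inv_smul_smul, inv_smul_smul] at this

theorem image_mclSet16 (g : Co0) (u v x : leechLattice) :
    (fun y : leechLattice => g • y) '' mclSet16 u v x = mclSet16 (g • u) (g • v) (g • x) := by
  ext y
  constructor
  · rintro ⟨z, hz, rfl⟩
    exact smul_mem_mclSet16 g hz
  · intro hy
    refine ⟨g⁻¹ • y, ?_, smul_inv_smul g y⟩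
    have := smul_mem_mclSet16 g⁻¹ hy
    rwa [inv_smul_smul, inv_smul_smul, inv_smul_smul] at this

namespace McL3Data

open McLData

def Y8 : leechLattice := ⟨toFn y8, mem_of_inLeech y8_mem⟩
def Y16 : leechLattice := ⟨toFn y16, mem_of_inLeech y16_mem⟩

theorem Y8_mem : Y8 ∈ mclSet8 U0 V0 X0 := by
  obtain ⟨d1, d2, d3, d4, -⟩ := dots_ok
  have a1 : sqNorm (Y8 : GolayPt → ℤ) = 32 := by
    show sqNorm (toFn y8) = 32
    rw [← sqNorm_spec]; exact d1
  have a2 : dotInt (U0 : GolayPt → ℤ) (Y8 : GolayPt → ℤ) = 24 := by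
    show dotInt (toFn u0) (toFn y8) = 24
    rw [← dotL_spec]; exact d2
  have a3 : dotInt (V0 : GolayPt → ℤ) (Y8 : GolayPt → ℤ) = 16 := by
    show dotInt (toFn McLData.v0) (toFn y8) = 16
    rw [← dotL_spec]; exact d3
  have a4 : dotInt (X0 : GolayPt → ℤ) (Y8 : GolayPt → ℤ) = 8 := by
    show dotInt (toFn x0) (toFn y8) = 8
    rw [← dotL_spec]; exact d4
  exact ⟨⟨a1, sqNorm_sub_of_dot sqNorm_U0 a1 a2, a3⟩, a4⟩

theorem Y16_mem : Y16 ∈ mclSet16 U0 V0 X0 := by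
  obtain ⟨-, -, -, -, d1, d2, d3, d4⟩ := dots_ok
  have a1 : sqNorm (Y16 : GolayPt → ℤ) = 32 := by
    show sqNorm (toFn y16) = 32
    rw [← sqNorm_spec]; exact d1
  have a2 : dotInt (U0 : GolayPt → ℤ) (Y16 : GolayPt → ℤ) = 24 := by
    show dotInt (toFn u0) (toFn y16) = 24
    rw [← dotL_spec]; exact d2
  have a3 : dotInt (V0 : GolayPt → ℤ) (Y16 : GolayPt → ℤ) = 16 := by
    show dotInt (toFn McLData.v0) (toFn y16) = 16
    rw [← dotL_spec]; exact d3
  have a4 : dotInt (X0 : GolayPt → ℤ) (Y16 : GolayPt → ℤ) = 16 := by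
    show dotInt (toFn x0) (toFn y16) = 16
    rw [← dotL_spec]; exact d4
  refine ⟨⟨a1, sqNorm_sub_of_dot sqNorm_U0 a1 a2, a3⟩, ?_, a4⟩
  intro h
  rw [h] at a4
  have : dotInt (X0 : GolayPt → ℤ) (X0 : GolayPt → ℤ) = 32 := sqNorm_X0
  omega

theorem fixes3_iff (g : Co0) :
    Fixes g [u0, McLData.v0, x0] ↔ g • U0 = U0 ∧ g • V0 = V0 ∧ g • X0 = X0 := by
  constructor
  · intro h
    exact ⟨h u0 (by simp) _, h McLData.v0 (by simp) _, h x0 (by simp) _⟩
  · rintro ⟨h1, h2, h3⟩ t ht htL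
    simp only [List.mem_cons, List.mem_singleton, List.not_mem_nil, or_false] at ht
    rcases ht with rfl | rfl | rfl
    · exact h1
    · exact h2
    · exact h3

theorem inv8 (g : Co0) (hg : Fixes g [u0, McLData.v0, x0]) : ∀ y ∈ mclSet8 U0 V0 X0,
    g • y ∈ mclSet8 U0 V0 X0 := by
  intro y hy
  rw [fixes3_iff] at hg
  have := smul_mem_mclSet8 g hy
  rwa [hg.1, hg.2.1, hg.2.2] at this

theorem inv16 (g : Co0) (hg : Fixes g [u0, McLData.v0, x0]) : ∀ y ∈ mclSet16 U0 V0 X0,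
    g • y ∈ mclSet16 U0 V0 X0 := by
  intro y hy
  rw [fixes3_iff] at hg
  have := smul_mem_mclSet16 g hy
  rwa [hg.1, hg.2.1, hg.2.2] at this

theorem ncard_mclSet_std : (mclSet U0 V0).ncard = 275 := ncard_mcl U0 V0 sqNorm_U0 V0_summand

theorem mclSet_finite : (mclSet U0 V0).Finite :=
  Set.finite_of_ncard_pos (by rw [ncard_mclSet_std]; norm_num)

theorem counts : (mclSet8 U0 V0 X0).ncard = 112 ∧ (mclSet16 U0 V0 X0).ncard = 162 := by
  have hsub8 : mclSet8 U0 V0 X0 ⊆ mclSet U0 V0 := fun y hy => hy.1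
  have hsub16 : mclSet16 U0 V0 X0 ⊆ mclSet U0 V0 := fun y hy => hy.1
  have hf8 := mclSet_finite.subset hsub8
  have hf16 := mclSet_finite.subset hsub16
  have l8 : 112 ≤ (mclSet8 U0 V0 X0).ncard :=
    orbit_lower _ hf8 (ts := [u0, McLData.v0, x0]) (x0 := y8) sg_ok fix_ok (mem_of_inLeech y8_mem)
      (by rw [mkL_of_mem (mem_of_inLeech y8_mem)]; exact Y8_mem) inv8 check_ok8
  have l16 : 162 ≤ (mclSet16 U0 V0 X0).ncard :=
    orbit_lower _ hf16 (ts := [u0, McLData.v0, x0]) (x0 := y16) sg_ok fix_ok (mem_of_inLeech y16_mem)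
      (by rw [mkL_of_mem (mem_of_inLeech y16_mem)]; exact Y16_mem) inv16 check_ok16
  have hdisj : Disjoint (mclSet8 U0 V0 X0) (mclSet16 U0 V0 X0) := by
    rw [Set.disjoint_left]
    intro y h8 h16
    have := h8.2
    have := h16.2.2
    omega
  have hunion : mclSet8 U0 V0 X0 ∪ mclSet16 U0 V0 X0 ⊆ mclSet U0 V0 \ {X0} := by
    rintro y (hy | hy)
    · refine ⟨hy.1, ?_⟩
      intro h
      rw [Set.mem_singleton_iff] at h
      have h2 := hy.2
      rw [h] at h2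
      have : dotInt (X0 : GolayPt → ℤ) (X0 : GolayPt → ℤ) = 32 := sqNorm_X0
      omega
    · exact ⟨hy.1, hy.2.1⟩
  have hc := Set.ncard_union_eq hdisj hf8 hf16
  have hle := Set.ncard_le_ncard hunion (mclSet_finite.subset Set.sdiff_subset)
  have h274 : (mclSet U0 V0 \ {X0}).ncard = 274 := by
    rw [Set.ncard_sdiff_singleton_of_mem X0_mem, ncard_mclSet_std]
  omega

theorem trans8 : ∀ y ∈ mclSet8 U0 V0 X0, ∀ y' ∈ mclSet8 U0 V0 X0,
    ∃ g : Co0, g • U0 = U0 ∧ g • V0 = V0 ∧ g • X0 = X0 ∧ g • y = y' := by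
  have h := orbit_trans' (mclSet8 U0 V0 X0) (ts := [u0, McLData.v0, x0]) (x0 := y8) sg_ok fix_ok
    (mem_of_inLeech y8_mem) (by rw [mkL_of_mem (mem_of_inLeech y8_mem)]; exact Y8_mem)
    inv8 check_ok8 counts.1
  intro y hy y' hy'
  obtain ⟨g, hg, hgy⟩ := h y hy y' hy'
  rw [fixes3_iff] at hg
  exact ⟨g, hg.1, hg.2.1, hg.2.2, hgy⟩

theorem trans16 : ∀ y ∈ mclSet16 U0 V0 X0, ∀ y' ∈ mclSet16 U0 V0 X0,
    ∃ g : Co0, g • U0 = U0 ∧ g • V0 = V0 ∧ g • X0 = X0 ∧ g • y = y' := by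
  have h := orbit_trans' (mclSet16 U0 V0 X0) (ts := [u0, McLData.v0, x0]) (x0 := y16) sg_ok fix_ok
    (mem_of_inLeech y16_mem) (by rw [mkL_of_mem (mem_of_inLeech y16_mem)]; exact Y16_mem)
    inv16 check_ok16 counts.2
  intro y hy y' hy'
  obtain ⟨g, hg, hgy⟩ := h y hy y' hy'
  rw [fixes3_iff] at hg
  exact ⟨g, hg.1, hg.2.1, hg.2.2, hgy⟩

end McL3Data

open McLData McL3Data

/-- Triples `(u, v, x)` of the McLaughlin configuration are conjugate to the standard one. -/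
theorem exists_std_triple (u v x : leechLattice) (hu : sqNorm (u : GolayPt → ℤ) = 48)
    (hv : sqNorm (v : GolayPt → ℤ) = 32 ∧ sqNorm ((u - v : leechLattice) : GolayPt → ℤ) = 32)
    (hx : x ∈ mclSet u v) : ∃ h : Co0, h • u = U0 ∧ h • v = V0 ∧ h • x = X0 := by
  obtain ⟨h0, hhu, hhv⟩ := exists_std_pair u v U0 V0 hu hv sqNorm_U0 V0_summand
  have h1 := smul_mem_mclSet h0 hx
  rw [hhu, hhv] at h1
  obtain ⟨g, hg1, hg2, hg3⟩ := trans_std _ h1 _ X0_mem
  exact ⟨g * h0, by rw [mul_smul, hhu, hg1], by rw [mul_smul, hhv, hg2], by rw [mul_smul, hg3]⟩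

/-- Rank 3 of the McLaughlin graph: counts. -/
theorem mcl_counts (u v x : leechLattice) (hu : sqNorm (u : GolayPt → ℤ) = 48)
    (hv : sqNorm (v : GolayPt → ℤ) = 32 ∧ sqNorm ((u - v : leechLattice) : GolayPt → ℤ) = 32)
    (hx : x ∈ mclSet u v) : (mclSet8 u v x).ncard = 112 ∧ (mclSet16 u v x).ncard = 162 := by
  obtain ⟨h, h1, h2, h3⟩ := exists_std_triple u v x hu hv hx
  have e8 := image_mclSet8 h u v x
  have e16 := image_mclSet16 h u v x
  rw [h1, h2, h3] at e8 e16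
  have c8 := ncard_smul_image h (mclSet8 u v x)
  have c16 := ncard_smul_image h (mclSet16 u v x)
  rw [e8] at c8
  rw [e16] at c16
  rw [← c8, ← c16]
  exact counts

/-- Rank 3 of the McLaughlin graph: transitivity on the neighbours at inner product 8. -/
theorem mcl_trans8 (u v x : leechLattice) (hu : sqNorm (u : GolayPt → ℤ) = 48)
    (hv : sqNorm (v : GolayPt → ℤ) = 32 ∧ sqNorm ((u - v : leechLattice) : GolayPt → ℤ) = 32)
    (hx : x ∈ mclSet u v) : ∀ y ∈ mclSet8 u v x, ∀ y' ∈ mclSet8 u v x,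
    ∃ g : Co0, g • u = u ∧ g • v = v ∧ g • x = x ∧ g • y = y' := by
  obtain ⟨h, h1, h2, h3⟩ := exists_std_triple u v x hu hv hx
  intro y hy y' hy'
  have m1 := smul_mem_mclSet8 h hy
  have m2 := smul_mem_mclSet8 h hy'
  rw [h1, h2, h3] at m1 m2
  obtain ⟨g, g1, g2, g3, g4⟩ := trans8 _ m1 _ m2
  refine ⟨h⁻¹ * g * h, ?_, ?_, ?_, ?_⟩
  · rw [mul_smul, mul_smul, h1, g1, ← h1, inv_smul_smul]
  · rw [mul_smul, mul_smul, h2, g2, ← h2, inv_smul_smul]
  · rw [mul_smul, mul_smul, h3, g3, ← h3, inv_smul_smul]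
  · rw [mul_smul, mul_smul, g4, inv_smul_smul]

/-- Rank 3 of the McLaughlin graph: transitivity on the neighbours at inner product 16. -/
theorem mcl_trans16 (u v x : leechLattice) (hu : sqNorm (u : GolayPt → ℤ) = 48)
    (hv : sqNorm (v : GolayPt → ℤ) = 32 ∧ sqNorm ((u - v : leechLattice) : GolayPt → ℤ) = 32)
    (hx : x ∈ mclSet u v) : ∀ y ∈ mclSet16 u v x, ∀ y' ∈ mclSet16 u v x,
    ∃ g : Co0, g • u = u ∧ g • v = v ∧ g • x = x ∧ g • y = y' := by
  obtain ⟨h, h1, h2, h3⟩ := exists_std_triple u v x hu hv hx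
  intro y hy y' hy'
  have m1 := smul_mem_mclSet16 h hy
  have m2 := smul_mem_mclSet16 h hy'
  rw [h1, h2, h3] at m1 m2
  obtain ⟨g, g1, g2, g3, g4⟩ := trans16 _ m1 _ m2
  refine ⟨h⁻¹ * g * h, ?_, ?_, ?_, ?_⟩
  · rw [mul_smul, mul_smul, h1, g1, ← h1, inv_smul_smul]
  · rw [mul_smul, mul_smul, h2, g2, ← h2, inv_smul_smul]
  · rw [mul_smul, mul_smul, h3, g3, ← h3, inv_smul_smul]
  · rw [mul_smul, mul_smul, g4, inv_smul_smul]

/-- Two distinct points of the McLaughlin graph have inner product 8 or 16. -/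
theorem mcl_dot_cases (u v x y : leechLattice) (hu : sqNorm (u : GolayPt → ℤ) = 48)
    (hv : sqNorm (v : GolayPt → ℤ) = 32 ∧ sqNorm ((u - v : leechLattice) : GolayPt → ℤ) = 32)
    (hx : x ∈ mclSet u v) (hy : y ∈ mclSet u v) (hne : y ≠ x) :
    dotInt (x : GolayPt → ℤ) (y : GolayPt → ℤ) = 8 ∨
      dotInt (x : GolayPt → ℤ) (y : GolayPt → ℤ) = 16 := by
  obtain ⟨c8, c16⟩ := mcl_counts u v x hu hv hx
  have h275 : (mclSet u v).ncard = 275 := ncard_mcl u v hu hv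
  have hfin : (mclSet u v).Finite := Set.finite_of_ncard_pos (by rw [h275]; norm_num)
  have hsub8 : mclSet8 u v x ⊆ mclSet u v := fun y hy => hy.1
  have hsub16 : mclSet16 u v x ⊆ mclSet u v := fun y hy => hy.1
  have hf8 := hfin.subset hsub8
  have hf16 := hfin.subset hsub16
  have hdisj : Disjoint (mclSet8 u v x) (mclSet16 u v x) := by
    rw [Set.disjoint_left]
    intro y h8 h16
    have := h8.2
    have := h16.2.2
    omega
  have hxx : dotInt (x : GolayPt → ℤ) (x : GolayPt → ℤ) = 32 := by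
    rw [dotInt_self]; exact hx.1
  have hunion : mclSet8 u v x ∪ mclSet16 u v x ⊆ mclSet u v \ {x} := by
    rintro z (hz | hz)
    · refine ⟨hz.1, ?_⟩
      intro h
      rw [Set.mem_singleton_iff] at h
      have h2 := hz.2
      rw [h] at h2
      omega
    · exact ⟨hz.1, hz.2.1⟩
  have hc := Set.ncard_union_eq hdisj hf8 hf16
  have h274 : (mclSet u v \ {x}).ncard = 274 := by
    rw [Set.ncard_sdiff_singleton_of_mem hx, h275]
  have heq : mclSet8 u v x ∪ mclSet16 u v x = mclSet u v \ {x} :=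
    Set.eq_of_subset_of_ncard_le hunion (by rw [hc, h274, c8, c16]) (hfin.subset Set.sdiff_subset)
  have hmem : y ∈ mclSet u v \ {x} := ⟨hy, by rw [Set.mem_singleton_iff]; exact hne⟩
  rw [← heq] at hmem
  rcases hmem with h | h
  · exact Or.inl h.2
  · exact Or.inr h.2.2

end Cfsg.Agent.Lib.H27
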