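/-
S2140 (architect helper26) piece EX (helper27): the stabiliser of a point of `ℙ(V)` in `SL(V)` has index `|ℙ(V)|`.
-/
import Cfsg.Agent.Lib.H26.MinIdxDefs

set_option autoImplicit false

namespace Cfsg.Agent.Lib.H27.MinIdx

open Module MulAction Cfsg.Agent.Lib.H26.MinIdx
open scoped LinearAlgebra.Projectivization

variable {F V : Type*} [Field F] [AddCommGroup V] [Module F V]

/-- **S2140-EX**.  The stabiliser of a point has index `|P(V)|`. -/
theorem exists_index_eq [Finite F] [Module.Finite F V] (hn : 2 ≤ finrank F V) :
    ∃ H : Subgroup (SpecialLinearGroup F V), H.index = Nat.card (ℙ F V) := by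
  have hpos : 0 < finrank F V := by omega
  obtain ⟨v, hv⟩ := (Module.finrank_pos_iff_exists_ne_zero (R := F) (M := V)).mp hpos
  have : IsPretransitive (SpecialLinearGroup F V) (ℙ F V) :=
    MulAction.isPretransitive_of_is_two_pretransitive
  exact ⟨stabilizer (SpecialLinearGroup F V) (Projectivization.mk F v hv),
    MulAction.index_stabilizer_of_transitive _ _⟩

end Cfsg.Agent.Lib.H27.MinIdx
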