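/-
S2140 (architect helper26) piece PSL (helper27): transfer of `index_ge` (for `SpecialLinearGroup F (Fin n → F)`)
to the statement of S2140 about `Matrix.ProjectiveSpecialLinearGroup (Fin n) F`.
-/
import Cfsg.Agent.Lib.H26.MinIdxDefs

set_option autoImplicit false

namespace Cfsg.Agent.Lib.H27.MinIdx

open Module MulAction Cfsg.Agent.Lib.H26.MinIdx
open scoped LinearAlgebra.Projectivization

/-- `|ℙ(F^n)| = (q^n - 1)/(q - 1)` -/
theorem card_proj {F : Type*} [Field F] [Fintype F] {q : ℕ} (hF : Fintype.card F = q) (n : ℕ) :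
    Nat.card (ℙ F (Fin n → F)) = (q ^ n - 1) / (q - 1) := by
  rw [Projectivization.card'' F (Fin n → F), Nat.card_eq_fintype_card, Nat.card_eq_fintype_card,
    Fintype.card_pi_const, hF]

/-- **S2140-PSL**, conditional on `index_ge` for `V = Fin n → F`. -/
theorem psl_min_index_of {F : Type*} [Field F] [Fintype F] {q : ℕ} (hF : Fintype.card F = q) (n : ℕ)
    (hn : 3 ≤ n)
    (hge : ∀ H : Subgroup (SpecialLinearGroup F (Fin n → F)), H ≠ ⊤ →
      Nat.card (ℙ F (Fin n → F)) ≤ H.index) :
    (∀ H : Subgroup (Matrix.ProjectiveSpecialLinearGroup (Fin n) F), H ≠ ⊤ → (q ^ n - 1) / (q - 1) ≤ H.index) ∧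
    (∃ H : Subgroup (Matrix.ProjectiveSpecialLinearGroup (Fin n) F), H.index = (q ^ n - 1) / (q - 1)) := by
  haveI : NeZero n := ⟨by omega⟩
  constructor
  · intro H hH
    rw [← card_proj hF n]
    -- pull `H` back to `SL(V)`
    let π : Matrix.SpecialLinearGroup (Fin n) F →* Matrix.ProjectiveSpecialLinearGroup (Fin n) F :=
      QuotientGroup.mk' _
    have hπ : Function.Surjective π := QuotientGroup.mk'_surjective _
    let e : SpecialLinearGroup F (Fin n → F) ≃* Matrix.SpecialLinearGroup (Fin n) F :=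
      (Matrix.SpecialLinearGroup.toLin'_equiv (n := Fin n) (R := F)).symm
    let φ : SpecialLinearGroup F (Fin n → F) →* Matrix.ProjectiveSpecialLinearGroup (Fin n) F :=
      π.comp e.toMonoidHom
    have hφ : Function.Surjective φ := hπ.comp e.surjective
    have hidx : (H.comap φ).index = H.index := Subgroup.index_comap_of_surjective H hφ
    have hne : H.comap φ ≠ ⊤ := by
      intro htop
      apply hH
      have : H.comap φ = (⊤ : Subgroup _).comap φ := by rw [htop, Subgroup.comap_top]
      exact Subgroup.comap_injective hφ this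
    rw [← hidx]
    exact hge _ hne
  · -- the stabiliser of a point in the action of `PSL` on the projective space
    have : IsPretransitive (Matrix.ProjectiveSpecialLinearGroup (Fin n) F) (ℙ F (Fin n → F)) :=
      IsPreprimitive.toIsPretransitive
    have hv : (Pi.single (0 : Fin n) (1 : F) : Fin n → F) ≠ 0 := by
      intro h0
      have := congrFun h0 0
      simp at this
    refine ⟨stabilizer (Matrix.ProjectiveSpecialLinearGroup (Fin n) F)
      (Projectivization.mk F (Pi.single (0 : Fin n) (1 : F) : Fin n → F) hv), ?_⟩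
    rw [MulAction.index_stabilizer_of_transitive, card_proj hF n]

/-- **S2140-PSL**, conditional on the MAIN theorem `index_ge` at `V = Fin n → F`, hypotheses in the shape of
`tools/blueprints/S2140_sigs.lean`:
`psl_min_index hF n hn hexc = psl_min_index_of_main hF n hn hexc (fun H h3 hne hH => index_ge h3 hne H hH)`. -/
theorem psl_min_index_of_main {F : Type*} [Field F] [Fintype F] {q : ℕ} (hF : Fintype.card F = q) (n : ℕ)
    (hn : 3 ≤ n) (hexc : ¬ (n = 4 ∧ q = 2))
    (hmain : ∀ H : Subgroup (SpecialLinearGroup F (Fin n → F)), 3 ≤ finrank F (Fin n → F) →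
      ¬ (finrank F (Fin n → F) = 4 ∧ Nat.card F = 2) → H ≠ ⊤ →
      Nat.card (ℙ F (Fin n → F)) ≤ H.index) :
    (∀ H : Subgroup (Matrix.ProjectiveSpecialLinearGroup (Fin n) F), H ≠ ⊤ → (q ^ n - 1) / (q - 1) ≤ H.index) ∧
    (∃ H : Subgroup (Matrix.ProjectiveSpecialLinearGroup (Fin n) F), H.index = (q ^ n - 1) / (q - 1)) := by
  refine psl_min_index_of hF n hn (fun H hH => hmain H ?_ ?_ hH)
  · rw [Module.finrank_fin_fun]; exact hn
  · rw [Module.finrank_fin_fun, Nat.card_eq_fintype_card, hF]; exact hexc

end Cfsg.Agent.Lib.H27.MinIdx
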