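import Mathlib

/-!
S0980 piece (E3) `arith_three` (helper27), exact signature of `tools/blueprints/S0980_sigs.lean`.
PURE Mathlib.  Route: with `f = 2A² - 2Am + 3m² ≥ 0` and `N = A² - Am - m²`, remove `i₁`; the rest has
`∑ f = 8`, `∑ N = -1`; peel off `j₁` (`N < 0`, `f ≤ 8`), `j₂` (`f - 2N > 0`, `f ≤ 5`), `i₀` (`0 < f ≤ 2`);
what is left has `∑ f = 0`.
-/
set_option autoImplicit false
namespace Cfsg.Agent.Lib.H27.O5760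
open scoped BigOperators
universe u

theorem e3_f_nonneg (a b : ℤ) : 0 ≤ 2 * a ^ 2 - 2 * a * b + 3 * b ^ 2 := by
  nlinarith [sq_nonneg (a - b), sq_nonneg a, sq_nonneg b]

theorem e3_bound (a b : ℤ) (h : 2 * a ^ 2 - 2 * a * b + 3 * b ^ 2 ≤ 8) :
    -2 ≤ a ∧ a ≤ 2 ∧ -2 ≤ b ∧ b ≤ 2 := by
  refine ⟨?_, ?_, ?_, ?_⟩
  · by_contra hc
    push_neg at hc
    nlinarith [sq_nonneg (a - b), sq_nonneg b]
  · by_contra hc
    push_neg at hc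
    nlinarith [sq_nonneg (a - b), sq_nonneg b]
  · by_contra hc
    push_neg at hc
    nlinarith [sq_nonneg (a - b), sq_nonneg a, sq_nonneg (2 * a - b)]
  · by_contra hc
    push_neg at hc
    nlinarith [sq_nonneg (a - b), sq_nonneg a, sq_nonneg (2 * a - b)]

/-- `f ≤ 8` and `N < 0`: one of the four points with `f = 3`. -/
theorem e3_pt_neg (a b : ℤ) (h : 2 * a ^ 2 - 2 * a * b + 3 * b ^ 2 ≤ 8)
    (hn : a ^ 2 - a * b - b ^ 2 < 0) :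
    ((a = 0 ∧ b = 1) ∨ (a = 0 ∧ b = -1) ∨ (a = 1 ∧ b = 1) ∨ (a = -1 ∧ b = -1)) := by
  obtain ⟨h1, h2, h3, h4⟩ := e3_bound a b h
  interval_cases a <;> interval_cases b <;> simp_all

/-- `f ≤ 5` and `f - 2N > 0`: one of the four points with `f = 3`. -/
theorem e3_pt_five (a b : ℤ) (h : 2 * a ^ 2 - 2 * a * b + 3 * b ^ 2 ≤ 5)
    (hn : 0 < (2 * a ^ 2 - 2 * a * b + 3 * b ^ 2) - 2 * (a ^ 2 - a * b - b ^ 2)) :
    ((a = 0 ∧ b = 1) ∨ (a = 0 ∧ b = -1) ∨ (a = 1 ∧ b = 1) ∨ (a = -1 ∧ b = -1)) := by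
  obtain ⟨h1, h2, h3, h4⟩ := e3_bound a b (by linarith)
  interval_cases a <;> interval_cases b <;> simp_all

/-- `0 < f ≤ 2`: `(±1, 0)`. -/
theorem e3_pt_two (a b : ℤ) (h : 2 * a ^ 2 - 2 * a * b + 3 * b ^ 2 ≤ 2)
    (hn : 0 < 2 * a ^ 2 - 2 * a * b + 3 * b ^ 2) :
    ((a = 1 ∧ b = 0) ∨ (a = -1 ∧ b = 0)) := by
  obtain ⟨h1, h2, h3, h4⟩ := e3_bound a b (by linarith)
  interval_cases a <;> interval_cases b <;> simp_all

/-- `f ≤ 0`: `(0, 0)`. -/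
theorem e3_pt_zero (a b : ℤ) (h : 2 * a ^ 2 - 2 * a * b + 3 * b ^ 2 ≤ 0) : a = 0 ∧ b = 0 := by
  obtain ⟨h1, h2, h3, h4⟩ := e3_bound a b (by linarith)
  interval_cases a <;> interval_cases b <;> simp_all

/-- (E3) -/
theorem arith_three {ι : Type u} [Fintype ι] [DecidableEq ι] (A m : ι → ℤ) (i₁ : ι) (hA1 : A i₁ = 1) (hm1 : m i₁ = 0)
    (hf : ∑ i, (2 * A i ^ 2 - 2 * A i * m i + 3 * m i ^ 2) = 10)
    (hN : ∑ i, (A i ^ 2 - A i * m i - m i ^ 2) = 0) :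
    ∃ i₀ j₁ j₂ : ι, i₀ ≠ i₁ ∧ j₁ ≠ i₁ ∧ j₂ ≠ i₁ ∧ i₀ ≠ j₁ ∧ i₀ ≠ j₂ ∧ j₁ ≠ j₂ ∧
      ((A i₀ = 1 ∧ m i₀ = 0) ∨ (A i₀ = -1 ∧ m i₀ = 0)) ∧
      ((A j₁ = 0 ∧ m j₁ = 1) ∨ (A j₁ = 0 ∧ m j₁ = -1) ∨ (A j₁ = 1 ∧ m j₁ = 1) ∨ (A j₁ = -1 ∧ m j₁ = -1)) ∧
      ((A j₂ = 0 ∧ m j₂ = 1) ∨ (A j₂ = 0 ∧ m j₂ = -1) ∨ (A j₂ = 1 ∧ m j₂ = 1) ∨ (A j₂ = -1 ∧ m j₂ = -1)) ∧
      ∀ i, i ≠ i₁ → i ≠ i₀ → i ≠ j₁ → i ≠ j₂ → A i = 0 ∧ m i = 0 := by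
  classical
  set f : ι → ℤ := fun i => 2 * A i ^ 2 - 2 * A i * m i + 3 * m i ^ 2 with hfdef
  set N : ι → ℤ := fun i => A i ^ 2 - A i * m i - m i ^ 2 with hNdef
  have hfnn : ∀ i, 0 ≤ f i := fun i => e3_f_nonneg (A i) (m i)
  have hf' : ∑ i, f i = 10 := hf
  have hN' : ∑ i, N i = 0 := hN
  -- remove i₁
  set S1 : Finset ι := Finset.univ.erase i₁ with hS1
  have hfi1 : f i₁ = 2 := by simp only [hfdef, hA1, hm1]; norm_num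
  have hNi1 : N i₁ = 1 := by simp only [hNdef, hA1, hm1]; norm_num
  have hf1 : ∑ i ∈ S1, f i = 8 := by
    have := Finset.add_sum_erase Finset.univ f (Finset.mem_univ i₁)
    rw [hS1]; linarith
  have hN1 : ∑ i ∈ S1, N i = -1 := by
    have := Finset.add_sum_erase Finset.univ N (Finset.mem_univ i₁)
    rw [hS1]; linarith
  -- j₁
  obtain ⟨j₁, hj1S, hj1N⟩ : ∃ j ∈ S1, N j < 0 := by
    by_contra hc
    push_neg at hc
    have : 0 ≤ ∑ i ∈ S1, N i := Finset.sum_nonneg hc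
    linarith
  have hj1f : f j₁ ≤ 8 := by
    have := Finset.single_le_sum (f := f) (s := S1) (fun i _ => hfnn i) hj1S
    linarith
  have hj1pt := e3_pt_neg (A j₁) (m j₁) hj1f hj1N
  have hj1f3 : f j₁ = 3 := by
    simp only [hfdef]
    rcases hj1pt with ⟨h1, h2⟩ | ⟨h1, h2⟩ | ⟨h1, h2⟩ | ⟨h1, h2⟩ <;> rw [h1, h2] <;> norm_num
  have hj1N1 : N j₁ = -1 := by
    simp only [hNdef]
    rcases hj1pt with ⟨h1, h2⟩ | ⟨h1, h2⟩ | ⟨h1, h2⟩ | ⟨h1, h2⟩ <;> rw [h1, h2] <;> norm_num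
  set S2 : Finset ι := S1.erase j₁ with hS2
  have hf2 : ∑ i ∈ S2, f i = 5 := by
    have := Finset.add_sum_erase S1 f hj1S
    rw [hS2]; linarith
  have hN2 : ∑ i ∈ S2, N i = 0 := by
    have := Finset.add_sum_erase S1 N hj1S
    rw [hS2]; linarith
  -- j₂
  obtain ⟨j₂, hj2S, hj2h⟩ : ∃ j ∈ S2, 0 < f j - 2 * N j := by
    by_contra hc
    push_neg at hc
    have h0 : ∑ i ∈ S2, (f i - 2 * N i) ≤ 0 := Finset.sum_nonpos hc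
    rw [Finset.sum_sub_distrib, ← Finset.mul_sum] at h0
    linarith
  have hj2f : f j₂ ≤ 5 := by
    have := Finset.single_le_sum (f := f) (s := S2) (fun i _ => hfnn i) hj2S
    linarith
  have hj2pt := e3_pt_five (A j₂) (m j₂) hj2f hj2h
  have hj2f3 : f j₂ = 3 := by
    simp only [hfdef]
    rcases hj2pt with ⟨h1, h2⟩ | ⟨h1, h2⟩ | ⟨h1, h2⟩ | ⟨h1, h2⟩ <;> rw [h1, h2] <;> norm_num
  set S3 : Finset ι := S2.erase j₂ with hS3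
  have hf3 : ∑ i ∈ S3, f i = 2 := by
    have := Finset.add_sum_erase S2 f hj2S
    rw [hS3]; linarith
  -- i₀
  obtain ⟨i₀, hi0S, hi0f⟩ : ∃ j ∈ S3, 0 < f j := by
    by_contra hc
    push_neg at hc
    have h0 : ∑ i ∈ S3, f i ≤ 0 := Finset.sum_nonpos hc
    linarith
  have hi0f2 : f i₀ ≤ 2 := by
    have := Finset.single_le_sum (f := f) (s := S3) (fun i _ => hfnn i) hi0S
    linarith
  have hi0pt := e3_pt_two (A i₀) (m i₀) hi0f2 hi0f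
  have hi0f2' : f i₀ = 2 := by
    simp only [hfdef]
    rcases hi0pt with ⟨h1, h2⟩ | ⟨h1, h2⟩ <;> rw [h1, h2] <;> norm_num
  set S4 : Finset ι := S3.erase i₀ with hS4
  have hf4 : ∑ i ∈ S4, f i = 0 := by
    have := Finset.add_sum_erase S3 f hi0S
    rw [hS4]; linarith
  have hrest : ∀ i ∈ S4, f i = 0 :=
    (Finset.sum_eq_zero_iff_of_nonneg (fun i _ => hfnn i)).1 hf4
  -- memberships
  have hj1S' := hj1S
  have hj2S' := hj2S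
  have hi0S' := hi0S
  simp only [hS1, hS2, hS3, Finset.mem_erase, Finset.mem_univ, and_true] at hj1S' hj2S' hi0S'
  refine ⟨i₀, j₁, j₂, hi0S'.2.2, hj1S', hj2S'.2, hi0S'.2.1, hi0S'.1, fun h => hj2S'.1 h.symm,
    hi0pt, hj1pt, hj2pt, ?_⟩
  intro i h1 h2 h3 h4
  have hi : i ∈ S4 := by
    simp only [hS4, hS3, hS2, hS1, Finset.mem_erase, Finset.mem_univ, and_true]
    exact ⟨h2, h4, h3, h1⟩
  have := hrest i hi
  exact e3_pt_zero (A i) (m i) (le_of_eq this)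

end Cfsg.Agent.Lib.H27.O5760
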