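import Mathlib
import Cfsg.Agent.Lib.H5.Ord.GenTests
import Cfsg.Agent.S0985
import Cfsg.Agent.Lib.L0.CyclicSylowTwo

set_option autoImplicit false

/-! # No simple group of order 5400 (helper27, piece of S0983) -/

namespace Cfsg.Agent.Lib.H27.O983

open Subgroup MulAction Cfsg.Agent.Lib.H5

/-- Arithmetic of the centralizer of a "multi" subgroup of order 5. -/
theorem o5400_arith (c i k f nn : ℕ) (h1 : c * i = 5400) (h2 : 25 * k = c) (h3 : nn * f = c)
    (h4 : f ∣ k) (h5 : f % 5 = 1) (h6 : f ≠ 1) (h7 : 3 ∣ nn) (h8 : 10 ≤ i) : c = 450 := by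
  subst h2
  have hki : k * i = 216 := by nlinarith
  have hk21 : k ≤ 21 := by nlinarith
  have hkpos : 0 < k := by
    rcases Nat.eq_zero_or_pos k with h | h
    · subst h; simp at hki
    · exact h
  have hfk : f ≤ k := Nat.le_of_dvd hkpos h4
  interval_cases k <;> first | omega | (interval_cases f <;> omega)

/-- Two Sylow 5-subgroups of order 25 inside a subgroup of order 450 coincide. -/
theorem o5400_sylow_eq_of_le_card450 {G : Type*} [Group G] [Finite G] [Fact (Nat.Prime 5)]
    (P R : Sylow 5 G) (hP : Nat.card (P : Subgroup G) = 25) (hR : Nat.card (R : Subgroup G) = 25)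
    (H : Subgroup G) (hH : Nat.card H = 450) (hPH : (P : Subgroup G) ≤ H)
    (hRH : (R : Subgroup G) ≤ H) : P = R := by
  have : Fact (Nat.Prime 2) := ⟨Nat.prime_two⟩
  let Q : Sylow 2 H := default
  have hQ : Nat.card (Q : Subgroup H) = 2 ^ 1 :=
    (sylow_card_and_index Q (k := 1) (m := 225) (by rw [hH]; norm_num) (by norm_num)).1
  have hcyc : IsCyclic (Q : Subgroup H) := isCyclic_of_prime_card (p := 2) (by rw [hQ]; norm_num)
  obtain ⟨K, hKn, hKc, hKmem⟩ :=
    Cfsg.Agent.Lib.L0.exists_odd_normal_complement_of_cyclic_sylow Q hcyc (by rw [hH]; norm_num)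
  have hKcard : Nat.card K = 225 := by
    have := hKc.card_mul_card
    rw [hQ, hH] at this
    omega
  set K' : Subgroup G := K.map H.subtype with hK'
  have hK'card : Nat.card K' = 5 ^ 2 * 9 := by
    rw [hK', Subgroup.card_map_of_injective H.subtype_injective, hKcard]; norm_num
  have hle : ∀ S : Sylow 5 G, Nat.card (S : Subgroup G) = 25 → (S : Subgroup G) ≤ H →
      (S : Subgroup G) ≤ K' := by
    intro S hS hSH g hg
    refine ⟨⟨g, hSH hg⟩, ?_, rfl⟩
    rw [SetLike.mem_coe, hKmem]
    have h1 : orderOf (⟨g, hg⟩ : (S : Subgroup G)) ∣ 25 := hS ▸ orderOf_dvd_natCard _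
    rw [Subgroup.orderOf_mk] at h1
    rw [Subgroup.orderOf_mk]
    exact Nat.Coprime.coprime_dvd_left h1 (by norm_num)
  have hPK := hle P hP hPH
  have hRK := hle R hR hRH
  have hidx := (sylow_card_and_index (P.subtype hPK) (k := 2) (m := 9) hK'card (by norm_num)).2
  have h1 := Sylow.card_dvd_index (P.subtype hPK)
  rw [hidx] at h1
  have h2 : Nat.card (Sylow 5 K') % 5 = 1 := card_sylow_modEq_one 5 K'
  have hone : Nat.card (Sylow 5 K') = 1 := by
    have hle9 : Nat.card (Sylow 5 K') ≤ 9 := Nat.le_of_dvd (by norm_num) h1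
    generalize Nat.card (Sylow 5 K') = n5 at h1 h2 hle9 ⊢
    interval_cases n5 <;> omega
  have : Subsingleton (Sylow 5 K') := (Nat.card_eq_one_iff_unique.mp hone).1
  exact Sylow.subtype_injective (Subsingleton.elim (P.subtype hPK) (R.subtype hRK))

/-- An element of order dividing 3 normalizing a subgroup of order 5 centralizes it. -/
theorem o5400_conj_eq_of_pow_three {G : Type*} [Group G] (D : Subgroup G)
    (hD : Nat.card D = 5) (y : G) (hy : y ∈ normalizer (D : Set G)) (hy3 : y ^ 3 = 1)
    (x : G) (hx : x ∈ D) : y * x * y⁻¹ = x := by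
  have : Fact (Nat.Prime 5) := ⟨by norm_num⟩
  have : Finite D := Nat.finite_of_card_ne_zero (by rw [hD]; norm_num)
  have hcyc : IsCyclic D := isCyclic_of_prime_card hD
  set φ := D.normalizerMonoidHom ⟨y, hy⟩ with hφ
  have h4 : φ ^ 4 = 1 := by
    have hc : Nat.card (MulAut D) = 4 := by
      rw [IsCyclic.card_mulAut, hD]; exact Nat.totient_prime (by norm_num)
    have := pow_card_eq_one' (G := MulAut D) (x := φ)
    rwa [hc] at this
  have h3 : φ ^ 3 = 1 := by
    rw [hφ, ← map_pow]
    have : (⟨y, hy⟩ : normalizer (D : Set G)) ^ 3 = 1 := by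
      apply Subtype.ext
      simp [hy3]
    rw [this, map_one]
  have h1 : φ = 1 := by
    have : φ ^ 4 = φ ^ 3 * φ := pow_succ φ 3
    rw [h4, h3, one_mul] at this
    exact this.symm
  have := congrArg (fun ψ : MulAut D => ((ψ ⟨x, hx⟩ : D) : G)) h1
  simpa [hφ] using this

/-- KEY LEMMA: no element of order 3 normalizes two distinct Sylow 5-subgroups with a nontrivial
intersection. -/
theorem o5400_key {G : Type*} [Group G] [Finite G] [IsSimpleGroup G] (hn : Nat.card G = 5400)
    (hnc : ¬ IsMulCommutative G) [Fact (Nat.Prime 5)] (P R : Sylow 5 G) (hPR : R ≠ P)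
    (x : G) (hx1 : x ≠ 1) (hxP : x ∈ (P : Subgroup G)) (hxR : x ∈ (R : Subgroup G))
    (y : G) (hyP : y ∈ normalizer ((P : Subgroup G) : Set G))
    (hyR : y ∈ normalizer ((R : Subgroup G) : Set G)) (hy3 : orderOf y = 3) : False := by
  have hG : Nat.card G = 5 ^ 2 * 216 := by rw [hn]; norm_num
  have hPc : Nat.card (P : Subgroup G) = 25 := by
    have := (sylow_card_and_index P (k := 2) (m := 216) hG (by norm_num)).1
    rw [this]; norm_num
  have hRc : Nat.card (R : Subgroup G) = 25 := by
    have := (sylow_card_and_index R (k := 2) (m := 216) hG (by norm_num)).1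
    rw [this]; norm_num
  have hab : ∀ S : Sylow 5 G, Nat.card (S : Subgroup G) = 25 →
      ∀ a ∈ (S : Subgroup G), ∀ b ∈ (S : Subgroup G), a * b = b * a := by
    intro S hS a ha b hb
    have := (IsPGroup.isMulCommutative_of_card_eq_prime_sq (p := 5) (G := (S : Subgroup G))
      (by rw [hS]; norm_num)).is_comm.comm ⟨a, ha⟩ ⟨b, hb⟩
    exact congrArg Subtype.val this
  set D : Subgroup G := (P : Subgroup G) ⊓ (R : Subgroup G) with hD
  have hxD : x ∈ D := ⟨hxP, hxR⟩
  have hDc : Nat.card D = 5 := by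
    have h1 : Nat.card D ∣ 25 := hPc ▸ Subgroup.card_dvd_of_le inf_le_left
    have h2 : Nat.card D ≠ 1 := by
      intro h
      have := Subgroup.card_eq_one.mp h
      rw [this, Subgroup.mem_bot] at hxD
      exact hx1 hxD
    have h3 : Nat.card D ≠ 25 := by
      intro h
      have hDP : D = (P : Subgroup G) :=
        Subgroup.eq_of_le_of_card_ge inf_le_left (by rw [h, hPc])
      have hPR' : (P : Subgroup G) ≤ (R : Subgroup G) := hDP ▸ inf_le_right
      exact hPR (Sylow.ext (P.3 R.2 hPR'))
    have h4 : Nat.card D ≤ 25 := Nat.le_of_dvd (by norm_num) h1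
    generalize Nat.card D = d at h1 h2 h3 h4 ⊢
    interval_cases d <;> omega
  have hyD : y ∈ normalizer (D : Set G) := by
    rw [mem_normalizer_iff] at hyP hyR ⊢
    intro h
    rw [hD, Subgroup.mem_inf, Subgroup.mem_inf, ← hyP h, ← hyR h]
  have hcent : ∀ d ∈ D, y * d * y⁻¹ = d := fun d hd =>
    o5400_conj_eq_of_pow_three D hDc y hyD (by rw [← hy3]; exact pow_orderOf_eq_one y) d hd
  set H : Subgroup G := centralizer (D : Set G) with hH
  have hleH : ∀ S : Sylow 5 G, Nat.card (S : Subgroup G) = 25 → D ≤ (S : Subgroup G) →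
      (S : Subgroup G) ≤ H := by
    intro S hS hDS a ha
    rw [hH, mem_centralizer_iff]
    intro d hd
    exact hab S hS d (hDS hd) a ha
  have hPH : (P : Subgroup G) ≤ H := hleH P hPc inf_le_left
  have hRH : (R : Subgroup G) ≤ H := hleH R hRc inf_le_right
  have hyH : y ∈ H := by
    rw [hH, mem_centralizer_iff]
    intro d hd
    have := hcent d hd
    calc d * y = (y * d * y⁻¹) * y := by rw [this]
      _ = y * d := by group
  have hHtop : H ≠ ⊤ := by
    intro htop
    have hxc : x ∈ center G := by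
      rw [Subgroup.mem_center_iff]
      intro g
      have hg : g ∈ H := htop ▸ mem_top g
      rw [hH, mem_centralizer_iff] at hg
      exact (hg x hxD).symm
    rcases (center G).normal_of_characteristic.eq_bot_or_eq_top with hb | ht
    · rw [hb, mem_bot] at hxc; exact hx1 hxc
    · exact hnc ⟨⟨fun a b => by
        have : a ∈ center G := ht ▸ mem_top a
        exact (mem_center_iff.mp this b).symm⟩⟩
  have hfact := two_mul_card_dvd_factorial_index hnc H hHtop
  rw [hn] at hfact
  have hidx := H.card_mul_index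
  rw [hn] at hidx
  set PH : Sylow 5 H := P.subtype hPH with hPHdef
  set RH : Sylow 5 H := R.subtype hRH with hRHdef
  have hPHc : Nat.card (PH : Subgroup H) = 25 := by
    rw [hPHdef, Sylow.coe_subtype, Nat.card_congr (Subgroup.subgroupOfEquivOfLe hPH).toEquiv, hPc]
  have hPHi := (PH : Subgroup H).card_mul_index
  rw [hPHc] at hPHi
  have hf1 : Nat.card (Sylow 5 H) % 5 = 1 := card_sylow_modEq_one 5 H
  have hf2 := Sylow.card_dvd_index PH
  have hf3 : Nat.card (Sylow 5 H) ≠ 1 := by
    intro h1
    have : Subsingleton (Sylow 5 H) := (Nat.card_eq_one_iff_unique.mp h1).1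
    exact hPR (Sylow.subtype_injective (Subsingleton.elim RH PH))
  have hf4 := card_normalizer_mul_card_sylow PH
  have hy' : (⟨y, hyH⟩ : H) ∈ normalizer ((PH : Subgroup H) : Set H) := by
    rw [mem_normalizer_iff]
    intro h
    rw [hPHdef, Sylow.coe_subtype, mem_subgroupOf, mem_subgroupOf]
    have := mem_normalizer_iff.mp hyP (h : G)
    simpa using this
  have h3dvd : 3 ∣ Nat.card (normalizer ((PH : Subgroup H) : Set H)) := by
    have := orderOf_dvd_natCard (⟨⟨y, hyH⟩, hy'⟩ : normalizer ((PH : Subgroup H) : Set H))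
    rwa [Subgroup.orderOf_mk, Subgroup.orderOf_mk, hy3] at this
  have hi10 : 10 ≤ H.index := by
    by_contra hlt
    push Not at hlt
    have h9 : (H.index).factorial ∣ Nat.factorial 9 := Nat.factorial_dvd_factorial (by omega)
    have := hfact.trans h9
    norm_num [Nat.factorial] at this
  have hc450 : Nat.card H = 450 :=
    o5400_arith (Nat.card H) H.index (PH : Subgroup H).index (Nat.card (Sylow 5 H))
      (Nat.card (normalizer ((PH : Subgroup H) : Set H))) hidx hPHi hf4 hf2 hf1 hf3 h3dvd hi10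
  exact hPR (o5400_sylow_eq_of_le_card450 P R hPc hRc H hc450 hPH hRH).symm

/-- The `N(P)`-invariant set of Sylow 5-subgroups meeting `P` nontrivially. -/
def o5400_SA {G : Type*} [Group G] [Fact (Nat.Prime 5)] (P : Sylow 5 G) :
    SubMulAction (normalizer ((P : Subgroup G) : Set G)) (Sylow 5 G) where
  carrier := {R | R ≠ P ∧ ∃ x : G, x ≠ 1 ∧ x ∈ (P : Subgroup G) ∧ x ∈ (R : Subgroup G)}
  smul_mem' := by
    rintro n R ⟨hRP, x, hx1, hxP, hxR⟩
    have hnP : (n : G) • P = P := Sylow.smul_eq_iff_mem_normalizer.mpr n.2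
    refine ⟨?_, (n : G) * x * (n : G)⁻¹, ?_, ?_, ?_⟩
    · intro h
      apply hRP
      have h' : (n : G) • R = (n : G) • P := by rw [hnP]; exact h
      exact smul_left_cancel _ h'
    · intro h
      apply hx1
      have := congrArg (fun z => (n : G)⁻¹ * z * (n : G)) h
      simpa [mul_assoc] using this
    · exact (mem_normalizer_iff.mp n.2 x).mp hxP
    · show (n : G) * x * (n : G)⁻¹ ∈ ((n : G) • R : Sylow 5 G)
      rw [← SetLike.mem_coe, Sylow.coe_smul]
      exact ⟨x, hxR, by simp [MulAut.smul_def]⟩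

theorem o5400_mem_SA {G : Type*} [Group G] [Fact (Nat.Prime 5)] (P R : Sylow 5 G) :
    R ∈ o5400_SA P ↔
      (R ≠ P ∧ ∃ x : G, x ≠ 1 ∧ x ∈ (P : Subgroup G) ∧ x ∈ (R : Subgroup G)) := Iff.rfl

theorem not_simple_5400 {G : Type*} [Group G] [Finite G] [IsSimpleGroup G] :
    Nat.card G ≠ 5400 := by
  intro hn
  have hnc : ¬ IsMulCommutative G :=
    not_isMulCommutative_of_card_not_prime (by rw [hn]; norm_num)
  have : Fact (Nat.Prime 5) := ⟨by norm_num⟩
  have : Fact (Nat.Prime 3) := ⟨by norm_num⟩
  have hG : Nat.card G = 5 ^ 2 * 216 := by rw [hn]; norm_num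
  have hcard25 : ∀ S : Sylow 5 G, Nat.card (S : Subgroup G) = 25 := by
    intro S
    have := (sylow_card_and_index S (k := 2) (m := 216) hG (by norm_num)).1
    rw [this]; norm_num
  have hab : ∀ S : Sylow 5 G,
      ∀ a ∈ (S : Subgroup G), ∀ b ∈ (S : Subgroup G), a * b = b * a := by
    intro S a ha b hb
    have := (IsPGroup.isMulCommutative_of_card_eq_prime_sq (p := 5) (G := (S : Subgroup G))
      (by rw [hcard25 S]; norm_num)).is_comm.comm ⟨a, ha⟩ ⟨b, hb⟩
    exact congrArg Subtype.val this
  -- the Sylow data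
  have hdata : ∀ P : Sylow 5 G, Nat.card (Sylow 5 G) = 36 ∧
      Nat.card (normalizer ((P : Subgroup G) : Set G)) = 150 := by
    intro P
    obtain ⟨h1, h2, h3, h4, h5, h6, h7⟩ := GenTests.sylow_data hnc hn (p := 5) (k := 2) (m := 216)
      (by norm_num) (by norm_num) (by norm_num) (by norm_num) P
    have hmem : Nat.card (Sylow 5 G) ∈ (Nat.divisors 216).filter (fun d => d % 5 = 1) := by
      rw [Finset.mem_filter, Nat.mem_divisors]
      exact ⟨⟨h1, by norm_num⟩, h2⟩
    have hfil : (Nat.divisors 216).filter (fun d => d % 5 = 1) = {1, 6, 36, 216} := by decide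
    rw [hfil] at hmem
    simp only [Finset.mem_insert, Finset.mem_singleton] at hmem
    rcases hmem with h | h | h | h
    · exact absurd h h3
    · rw [h] at h4
      norm_num [Nat.factorial] at h4
    · rw [h] at h5
      exact ⟨h, by omega⟩
    · exfalso
      rw [h] at h5
      have hN25 : Nat.card (normalizer ((P : Subgroup G) : Set G)) = 25 := by omega
      have hNP : (P : Subgroup G) = normalizer ((P : Subgroup G) : Set G) :=
        Subgroup.eq_of_le_of_card_ge le_normalizer (by rw [hN25, hcard25 P])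
      have hnp : ¬ IsPGroup 5 G :=
        Cfsg.Agent.S0493.not_isPGroup_of_card hn (p := 5) (k := 2) (m := 216) (by norm_num)
          (by norm_num) (by norm_num)
      apply not_normalizer_le_centralizer_of_simple (p := 5) (by rw [hn]; norm_num) hnp P
      intro a ha
      have ha' : a ∈ (P : Subgroup G) := by rw [hNP]; exact ha
      rw [mem_centralizer_iff]
      intro b hb
      exact hab P b hb a ha'
  have h36 : Nat.card (Sylow 5 G) = 36 := (hdata default).1
  obtain ⟨P, R0, hPR0, hle⟩ := Cfsg.Agent.S0985.result (G := G) 5 2 (by rw [h36]; decide)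
  have hPc := hcard25 P
  set N := normalizer ((P : Subgroup G) : Set G) with hN
  have hNcard : Nat.card N = 150 := (hdata P).2
  obtain ⟨y, hy3⟩ := exists_prime_orderOf_dvd_card' (G := N) 3 (by rw [hNcard]; norm_num)
  -- the two congruences
  have h5A : 5 ∣ Nat.card (o5400_SA P) := by
    have hp5 : IsPGroup 5 ((P : Subgroup G).subgroupOf N) := P.2.comap_subtype
    have hmod := hp5.card_modEq_card_fixedPoints (o5400_SA P)
    have hemp : IsEmpty (fixedPoints ((P : Subgroup G).subgroupOf N) (o5400_SA P)) := by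
      constructor
      rintro ⟨⟨R, hR⟩, hfix⟩
      have hPleR : (P : Subgroup G) ≤ R := by
        rw [← P.2.sylow_mem_fixedPoints_iff]
        intro u
        have hu : (u : G) ∈ N := le_normalizer u.2
        have h1 := hfix ⟨⟨u, hu⟩, mem_subgroupOf.mpr u.2⟩
        exact congrArg Subtype.val h1
      exact hR.1 (Sylow.ext (P.3 R.2 hPleR))
    have h0 : Nat.card (fixedPoints ((P : Subgroup G).subgroupOf N) (o5400_SA P)) = 0 :=
      Nat.card_of_isEmpty
    rw [h0] at hmod
    exact (Nat.modEq_zero_iff_dvd).mp hmod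
  have h3A : 3 ∣ Nat.card (o5400_SA P) := by
    have hp3 : IsPGroup 3 (zpowers y) := IsPGroup.of_card (n := 1) (by rw [Nat.card_zpowers, hy3]; norm_num)
    have hmod := hp3.card_modEq_card_fixedPoints (o5400_SA P)
    have hemp : IsEmpty (fixedPoints (zpowers y) (o5400_SA P)) := by
      constructor
      rintro ⟨⟨R, hR⟩, hfix⟩
      obtain ⟨hRP, x, hx1, hxP, hxR⟩ := hR
      have h1 := hfix ⟨y, mem_zpowers y⟩
      have h2 : (y : G) • R = R := congrArg Subtype.val h1
      have hyR : (y : G) ∈ normalizer ((R : Subgroup G) : Set G) :=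
        Sylow.smul_eq_iff_mem_normalizer.mp h2
      exact o5400_key hn hnc P R hRP x hx1 hxP hxR (y : G) y.2 hyR
        (by rw [Subgroup.orderOf_coe]; exact hy3)
    have h0 : Nat.card (fixedPoints (zpowers y) (o5400_SA P)) = 0 := Nat.card_of_isEmpty
    rw [h0] at hmod
    exact (Nat.modEq_zero_iff_dvd).mp hmod
  -- `R0` lies in `A`
  have hR0 : R0 ∈ o5400_SA P := by
    refine ⟨fun h => hPR0 h.symm, ?_⟩
    have hci := ((R0 : Subgroup G).subgroupOf (P : Subgroup G)).card_mul_index
    rw [hPc] at hci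
    have hle' : ((R0 : Subgroup G).subgroupOf (P : Subgroup G)).index ≤ 5 := by simpa using hle
    have h1lt : 1 < Nat.card ((R0 : Subgroup G).subgroupOf (P : Subgroup G)) := by
      by_contra hlt
      push Not at hlt
      have : Nat.card ((R0 : Subgroup G).subgroupOf (P : Subgroup G)) *
          ((R0 : Subgroup G).subgroupOf (P : Subgroup G)).index ≤ 1 * 5 :=
        Nat.mul_le_mul hlt hle'
      omega
    have hnt : Nontrivial ((R0 : Subgroup G).subgroupOf (P : Subgroup G)) :=
      (Finite.one_lt_card_iff_nontrivial).mp h1lt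
    obtain ⟨a, ha⟩ := exists_ne (1 : (R0 : Subgroup G).subgroupOf (P : Subgroup G))
    refine ⟨((a : (P : Subgroup G)) : G), ?_, (a : (P : Subgroup G)).2, mem_subgroupOf.mp a.2⟩
    intro h
    apply ha
    apply Subtype.ext
    apply Subtype.ext
    simpa using h
  have hApos : 0 < Nat.card (o5400_SA P) := by
    have : Nonempty (o5400_SA P) := ⟨⟨R0, hR0⟩⟩
    exact Nat.card_pos
  have hA15 : 15 ≤ Nat.card (o5400_SA P) := by omega
  have hAn : Nat.card (o5400_SA P) = ((o5400_SA P : Set (Sylow 5 G))).ncard :=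
    _root_.Nat.card_coe_set_eq _
  by_cases hB : ∃ R1 : Sylow 5 G, ∀ x : G, x ∈ (P : Subgroup G) → x ∈ (R1 : Subgroup G) → x = 1
  · obtain ⟨R1, hR1⟩ := hB
    have hbot : (R1 : Subgroup G).subgroupOf (P : Subgroup G) = ⊥ := by
      rw [eq_bot_iff]
      intro u hu
      rw [mem_subgroupOf] at hu
      rw [Subgroup.mem_bot]
      exact Subtype.ext (hR1 u u.2 hu)
    have hO : Nat.card (orbit (P : Subgroup G) R1) = 25 := by
      rw [Cfsg.Agent.S0985.card_orbit_sylow, hbot, Subgroup.index_bot, hPc]
    have hOn : (orbit (P : Subgroup G) R1).ncard = 25 := by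
      rw [← _root_.Nat.card_coe_set_eq]; exact hO
    -- elements of the orbit meet `P` trivially
    have hOtriv : ∀ R ∈ orbit (P : Subgroup G) R1, ∀ x : G, x ∈ (P : Subgroup G) →
        x ∈ (R : Subgroup G) → x = 1 := by
      rintro R ⟨u, rfl⟩ x hxP hxR
      have hxR' : x ∈ ((u : G) • R1 : Sylow 5 G) := hxR
      rw [← SetLike.mem_coe, Sylow.coe_smul] at hxR'
      obtain ⟨z, hz, hzx⟩ := hxR'
      have hzx' : (u : G) * z * (u : G)⁻¹ = x := by simpa [MulAut.smul_def] using hzx
      have hzP : z ∈ (P : Subgroup G) := by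
        have : z = (u : G)⁻¹ * x * (u : G) := by rw [← hzx']; group
        rw [this]
        exact (P : Subgroup G).mul_mem ((P : Subgroup G).mul_mem ((P : Subgroup G).inv_mem u.2) hxP) u.2
      have hz1 := hR1 z hzP hz
      rw [← hzx', hz1]; group
    have hdisj : Disjoint ((o5400_SA P : Set (Sylow 5 G))) (orbit (P : Subgroup G) R1) := by
      rw [Set.disjoint_left]
      rintro R ⟨-, x, hx1, hxP, hxR⟩ hRO
      exact hx1 (hOtriv R hRO x hxP hxR)
    have hPnot : P ∉ ((o5400_SA P : Set (Sylow 5 G))) ∪ orbit (P : Subgroup G) R1 := by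
      rintro (h | h)
      · exact h.1 rfl
      · have hall : ∀ x ∈ (P : Subgroup G), x = 1 := fun x hx => hOtriv P h x hx hx
        have : Nat.card (P : Subgroup G) = 1 := by
          rw [Subgroup.card_eq_one, eq_bot_iff]
          intro x hx
          rw [Subgroup.mem_bot]; exact hall x hx
        omega
    have hle36 := Set.ncard_le_card (insert P (((o5400_SA P : Set (Sylow 5 G))) ∪ orbit (P : Subgroup G) R1))
    rw [Set.ncard_insert_of_notMem hPnot, Set.ncard_union_eq hdisj, ← hAn, hOn, h36] at hle36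
    omega
  · push Not at hB
    have hAeq : ((o5400_SA P : Set (Sylow 5 G))) = {P}ᶜ := by
      ext R
      constructor
      · rintro ⟨hRP, -⟩
        exact hRP
      · intro hRP
        obtain ⟨x, hxP, hxR, hx1⟩ := hB R
        exact ⟨hRP, x, hx1, hxP, hxR⟩
    have h35 : Nat.card (o5400_SA P) = 35 := by
      rw [hAn, hAeq, Set.ncard_compl, Set.ncard_singleton, h36]
    omega

end Cfsg.Agent.Lib.H27.O983
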