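import Cfsg.Agent.Lib.H11.OSpMax2

/-!
S5789-OSP (helper9 farm-out): helper11's `OSpMax.osp_maximal` (maximality of `O(Q)` in `Sp_2m(F)`,
characteristic two) with the weaker hypotheses `4 ≤ m + m` and `4 ≤ |F|`.
Only `move` and `exists_Q_B` needed new proofs; the rest is helper11's proof verbatim.
-/

set_option autoImplicit false
set_option linter.unusedSimpArgs false
set_option linter.unusedSectionVars false
set_option linter.unusedVariables false

namespace Cfsg.Agent.Lib.H27.OSpSmall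

open Matrix Module
open Cfsg.Agent.Lib.H28 Cfsg.Agent.Lib.H11.SubspMax Cfsg.Agent.Lib.H11.OSpMax
open Cfsg.Agent.Lib.H4 (sympForm_self sympForm_add_left sympForm_add_right sympForm_smul_left
  sympForm_smul_right sympForm_swap)

variable {F : Type*} [Field F] {m : ℕ}

local notation "VV" => (Fin m ⊕ Fin m → F)
local notation "GG" => GL (Fin m ⊕ Fin m) F
local notation "MM" => Matrix (Fin m ⊕ Fin m) (Fin m ⊕ Fin m) F

/-- a field with at least four elements has an element avoiding three given values -/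
theorem exists_avoid3 [Fintype F] (h4 : 4 ≤ Fintype.card F) (a b c : F) :
    ∃ t : F, t ≠ a ∧ t ≠ b ∧ t ≠ c := by
  classical
  by_contra hcon
  push Not at hcon
  have hsub : (Finset.univ : Finset F) ⊆ {a, b, c} := by
    intro t _
    by_cases h1 : t = a
    · simp [h1]
    by_cases h2 : t = b
    · simp [h2]
    have := hcon t h1 h2
    simp [this]
  have h1 := Finset.card_le_card hsub
  have h3 : ({a, b, c} : Finset F).card ≤ 3 := Finset.card_le_three
  rw [Finset.card_univ] at h1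
  omega

variable {Q : (Fin m ⊕ Fin m → F) → F}

section qd
variable (hQ : QData Q)
include hQ

theorem add_self_eq_zero' (x : VV) : x + x = 0 := by
  rw [← two_smul F x, hQ.two, zero_smul]

/-- the orthogonal group is transitive on the non-zero vectors of given `Q`-value: any `m`,
at least four field elements -/
theorem move_small [Fintype F] (h4 : 4 ≤ Fintype.card F) (u w : VV) (hu0 : u ≠ 0) (hw0 : w ≠ 0)
    (hQuw : Q u = Q w) :
    ∃ g ∈ Cfsg.Geo.quadSimilarityGroup Q ⊓ Cfsg.spGL m F, (g : MM) *ᵥ u = w := by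
  have h2 := hQ.two
  by_cases hB : Cfsg.sympForm m F u w = 0
  · by_cases huw : u = w
    · refine ⟨1, Subgroup.one_mem _, ?_⟩
      rw [Units.val_one, Matrix.one_mulVec, huw]
    have ha0 : u + w ≠ 0 := by
      intro h0
      apply huw
      have h1 : u + w + w = w := by rw [h0, zero_add]
      rw [add_assoc, add_self_eq_zero' hQ w, add_zero] at h1
      exact h1
    have hQa : Q (u + w) = 0 := by
      rw [hQ.add, hB, hQuw]
      linear_combination (Q w) * h2
    -- `y0` with the three products non-zero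
    obtain ⟨y0, hy0u, hy0w, hy0a⟩ : ∃ y0 : VV, Cfsg.sympForm m F y0 u ≠ 0 ∧
        Cfsg.sympForm m F y0 w ≠ 0 ∧ Cfsg.sympForm m F y0 (u + w) ≠ 0 := by
      obtain ⟨y1, hy1, hy2⟩ := Cfsg.Agent.Lib.H11.SimMax.exists_common
        (Cfsg.Agent.Lib.H11.SimMax.sympForm_isSymplectic F m) u w hu0 hw0
      have hy1u : Cfsg.sympForm m F y1 u ≠ 0 := sympForm_ne_swap hy1
      have hy1w : Cfsg.sympForm m F y1 w ≠ 0 := sympForm_ne_swap hy2
      by_cases hy1a : Cfsg.sympForm m F y1 (u + w) = 0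
      · obtain ⟨z, hz⟩ := exists_sympForm_ne (u + w) ha0
        have hza : Cfsg.sympForm m F z (u + w) ≠ 0 := sympForm_ne_swap hz
        obtain ⟨t, ht0, htu, htw⟩ := exists_avoid3 h4 (0 : F)
          (- Cfsg.sympForm m F y1 u / Cfsg.sympForm m F z u)
          (- Cfsg.sympForm m F y1 w / Cfsg.sympForm m F z w)
        refine ⟨y1 + t • z, ?_, ?_, ?_⟩
        · rw [sympForm_add_left, sympForm_smul_left]
          by_cases hzu : Cfsg.sympForm m F z u = 0
          · rw [hzu, mul_zero, add_zero]; exact hy1u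
          · intro h0
            apply htu
            field_simp
            linear_combination h0
        · rw [sympForm_add_left, sympForm_smul_left]
          by_cases hzw : Cfsg.sympForm m F z w = 0
          · rw [hzw, mul_zero, add_zero]; exact hy1w
          · intro h0
            apply htw
            field_simp
            linear_combination h0
        · rw [sympForm_add_left, sympForm_smul_left, hy1a, zero_add]
          exact mul_ne_zero ht0 hza
      · exact ⟨y1, hy1u, hy1w, hy1a⟩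
    obtain ⟨α, hα⟩ : ∃ α : F, α = (Q u + Q y0) / Cfsg.sympForm m F y0 (u + w) := ⟨_, rfl⟩
    have hαa : α * Cfsg.sympForm m F y0 (u + w) = Q u + Q y0 := by
      rw [hα, div_mul_cancel₀ _ hy0a]
    have hua : Cfsg.sympForm m F u (u + w) = 0 := by
      rw [sympForm_add_right, sympForm_self, hB, add_zero]
    have haw : Cfsg.sympForm m F (u + w) w = 0 := by
      rw [sympForm_add_left, sympForm_self, hB, add_zero]
    have hQy : Q (y0 + α • (u + w)) = Q u := by
      rw [hQ.add, hQ.smul, hQa, mul_zero, add_zero, sympForm_smul_right, hαa]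
      linear_combination (Q y0) * h2
    have h1 : Cfsg.sympForm m F u (y0 + α • (u + w)) ≠ 0 := by
      rw [sympForm_add_right, sympForm_smul_right, hua, mul_zero, add_zero]
      exact sympForm_ne_swap hy0u
    have h3 : Cfsg.sympForm m F (y0 + α • (u + w)) w ≠ 0 := by
      rw [sympForm_add_left, sympForm_smul_left, haw, mul_zero, add_zero]
      exact hy0w
    obtain ⟨g1, hg1, e1⟩ := move_step hQ u (y0 + α • (u + w)) hQy.symm h1
    obtain ⟨g2, hg2, e2⟩ := move_step hQ (y0 + α • (u + w)) w (hQy.trans hQuw) h3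
    refine ⟨g2 * g1, Subgroup.mul_mem _ hg2 hg1, ?_⟩
    rw [gl_mul_mulVec, e1, e2]
  · exact move_step hQ u w hQuw hB

/-- a vector with prescribed `Q`-value and prescribed product with a nonzero vector,
`4 ≤ 2m` -/
theorem exists_Q_B_small (hm : 4 ≤ m + m) (u : VV) (hu0 : u ≠ 0) (d t : F) :
    ∃ v : VV, Q v = d ∧ Cfsg.sympForm m F v u = t := by
  have h2 := hQ.two
  by_cases ht : t = 0
  · obtain ⟨z, hz, hzvs⟩ := exists_Q_perp hQ ![u] (by simpa using (by omega : 3 ≤ m + m)) d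
    have hzu : Cfsg.sympForm m F z u = 0 := by simpa using hzvs 0
    exact ⟨z, hz, by rw [hzu, ht]⟩
  obtain ⟨y, hy⟩ := exists_sympForm_ne u hu0
  have hyu : Cfsg.sympForm m F y u ≠ 0 := sympForm_ne_swap hy
  obtain ⟨v0, hv0⟩ : ∃ v0 : VV, v0 = (t / Cfsg.sympForm m F y u) • y := ⟨_, rfl⟩
  have hv0u : Cfsg.sympForm m F v0 u = t := by
    rw [hv0, sympForm_smul_left, div_mul_cancel₀ _ hyu]
  have huv0 : Cfsg.sympForm m F u v0 = -t := by rw [sympForm_swap, hv0u]
  -- a non-zero vector perpendicular to `u, v0`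
  have hsymp := Cfsg.Agent.Lib.H11.SimMax.sympForm_isSymplectic F m
  obtain ⟨x', hx'vs, hx'0⟩ := Cfsg.Agent.Lib.H11.SimMax.exists_perp_notMem hsymp ![u, v0]
    (⊥ : Submodule F VV) (by rw [finrank_bot, card_idx hQ]; omega)
  have hx'u : Cfsg.sympForm m F x' u = 0 := by simpa using hx'vs 0
  have hx'v : Cfsg.sympForm m F x' v0 = 0 := by simpa using hx'vs 1
  have hx'ne : x' ≠ 0 := fun h0 => hx'0 (by rw [h0]; exact Submodule.zero_mem _)
  obtain ⟨y1, hy1⟩ := exists_sympForm_ne x' hx'ne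
  obtain ⟨y', hy'⟩ : ∃ y' : VV, y' = y1 + (Cfsg.sympForm m F y1 v0 / t) • u
      + (- Cfsg.sympForm m F y1 u / t) • v0 := ⟨_, rfl⟩
  have hy'u : Cfsg.sympForm m F y' u = 0 := by
    rw [hy', sympForm_add_left, sympForm_add_left, sympForm_smul_left, sympForm_smul_left,
      sympForm_self, hv0u]
    field_simp
    ring
  have hy'v : Cfsg.sympForm m F y' v0 = 0 := by
    rw [hy', sympForm_add_left, sympForm_add_left, sympForm_smul_left, sympForm_smul_left,
      sympForm_self, huv0]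
    field_simp
    ring
  have hx'y' : Cfsg.sympForm m F x' y' ≠ 0 := by
    rw [hy', sympForm_add_right, sympForm_add_right, sympForm_smul_right, sympForm_smul_right,
      hx'u, hx'v, mul_zero, mul_zero, add_zero, add_zero]
    exact hy1
  obtain ⟨z0, hz0, hz0u, hz0v⟩ : ∃ z0 : VV, Q z0 ≠ 0 ∧ Cfsg.sympForm m F z0 u = 0 ∧
      Cfsg.sympForm m F z0 v0 = 0 := by
    by_cases h1 : Q x' = 0
    · by_cases h3 : Q y' = 0
      · refine ⟨x' + y', ?_, ?_, ?_⟩
        · rw [hQ.add, h1, h3, zero_add, zero_add]; exact hx'y'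
        · rw [sympForm_add_left, hx'u, hy'u, add_zero]
        · rw [sympForm_add_left, hx'v, hy'v, add_zero]
      · exact ⟨y', h3, hy'u, hy'v⟩
    · exact ⟨x', h1, hx'u, hx'v⟩
  obtain ⟨b, hb⟩ := hQ.sq ((d + Q v0) / Q z0)
  refine ⟨v0 + b • z0, ?_, ?_⟩
  · rw [hQ.add, hQ.smul, pow_two, hb, div_mul_cancel₀ _ hz0, sympForm_smul_right,
      sympForm_eq_swap hz0v, mul_zero, add_zero]
    linear_combination (Q v0) * h2
  · rw [sympForm_add_left, sympForm_smul_left, hv0u, hz0u, mul_zero, add_zero]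

theorem exists_sing_small (hm : 4 ≤ m + m) : ∃ u : VV, u ≠ 0 ∧ Q u = 0 := by
  have hne : Nonempty (Fin m ⊕ Fin m) := by
    rw [← Fintype.card_pos_iff, card_idx hQ]; omega
  obtain ⟨i⟩ := hne
  obtain ⟨u1, hu1⟩ : ∃ u : VV, u ≠ 0 := by
    refine ⟨Pi.single i 1, ?_⟩
    intro h0
    have := congrFun h0 i
    simp at this
  obtain ⟨v, hv, hvu⟩ := exists_Q_B_small hQ hm u1 hu1 0 1
  refine ⟨v, ?_, hv⟩
  rintro rfl
  rw [sympForm_zero_left] at hvu
  exact zero_ne_one hvu

theorem osp_lt_small (hm : 4 ≤ m + m) :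
    Cfsg.Geo.quadSimilarityGroup Q ⊓ Cfsg.spGL m F < Cfsg.spGL m F := by
  refine lt_of_le_of_ne inf_le_right ?_
  intro heq
  obtain ⟨u0, hu0, hQu0⟩ := exists_sing_small hQ hm
  have hmem : stv u0 (1 : F) ∈ Cfsg.Geo.quadSimilarityGroup Q ⊓ Cfsg.spGL m F := by
    rw [heq]; exact stv_mem_spGL u0 1
  obtain ⟨⟨c, hc⟩, -⟩ := hmem
  obtain ⟨x, hx, hxvs⟩ := exists_Q_perp hQ ![u0] (by simpa using (by omega : 3 ≤ m + m)) 1
  have hxu : Cfsg.sympForm m F x u0 = 0 := by simpa using hxvs 0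
  have hc1 : (c : F) = 1 := by
    have := hc x
    rw [stv_mulVec, hxu, mul_zero, zero_smul, add_zero, hx, mul_one] at this
    exact this.symm
  obtain ⟨y, hy⟩ := exists_sympForm_ne u0 hu0
  have hyu : Cfsg.sympForm m F y u0 ≠ 0 := sympForm_ne_swap hy
  have := hc y
  rw [hc1, one_mul, stv_mulVec, one_mul, hQ.add, hQ.smul, hQu0, mul_zero, add_zero,
    sympForm_smul_right] at this
  have h3 : Cfsg.sympForm m F y u0 * Cfsg.sympForm m F y u0 = 0 := by linear_combination this
  exact hyu (mul_self_eq_zero.1 h3)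

end qd

/-- **S5789-OSP**: helper11's `osp_maximal` with `4 ≤ m + m` and `4 ≤ |F|`. -/
theorem osp_maximal_small [Fintype F] {Q : (Fin m ⊕ Fin m → F) → F}
    (hQ : Cfsg.Agent.Lib.H11.OSpMax.QData Q) (hm : 4 ≤ m + m) (h4 : 4 ≤ Fintype.card F) :
    Cfsg.Geo.IsMaximalIn (Cfsg.spGL m F) (Cfsg.Geo.quadSimilarityGroup Q ⊓ Cfsg.spGL m F) := by
  have h2 := hQ.two
  refine ⟨osp_lt_small hQ hm, ?_⟩
  intro M hNM hMS
  by_cases hMN : M = Cfsg.Geo.quadSimilarityGroup Q ⊓ Cfsg.spGL m F
  · left; exact hMN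
  right
  obtain ⟨h, hhM, hhN⟩ : ∃ h ∈ M, h ∉ Cfsg.Geo.quadSimilarityGroup Q := by
    by_contra hcon
    push Not at hcon
    apply hMN
    apply le_antisymm _ hNM
    intro g hg
    exact ⟨hcon g hg, hMS hg⟩
  obtain ⟨a, hQa, hbad⟩ := exists_bad hQ (by omega) h (hMS hhM) hhN
  have ha0 : a ≠ 0 := by
    rintro rfl
    exact hQa (Q_zero hQ)
  obtain ⟨u, hu⟩ : ∃ u, u = (h : MM) *ᵥ a := ⟨_, rfl⟩
  obtain ⟨c, hc⟩ : ∃ c : F, c = 1 / Q a := ⟨_, rfl⟩
  have hc0 : c ≠ 0 := by rw [hc]; exact one_div_ne_zero hQa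
  have hu0 : u ≠ 0 := by
    intro h0
    apply ha0
    have := gl_inv_mulVec h a
    rw [← hu, h0, Matrix.mulVec_zero] at this
    exact this.symm
  have hguM : stv u c ∈ M := by
    rw [hu, conj_stv h (hMS hhM) a c]
    refine M.mul_mem (M.mul_mem hhM (hNM ?_)) (M.inv_mem hhM)
    rw [hc]; exact rho_mem hQ a hQa
  obtain ⟨κ, hκ⟩ : ∃ κ : F, κ = c + c ^ 2 * Q u := ⟨_, rfl⟩
  have hκ0 : κ ≠ 0 := by
    intro h0
    apply hbad
    rw [← hu]
    have h1 : c * (1 + c * Q u) = 0 := by rw [← h0, hκ]; ring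
    have h3 : 1 + c * Q u = 0 := (mul_eq_zero.1 h1).resolve_left hc0
    have h4' : Q a * c = 1 := by rw [hc]; field_simp
    linear_combination (Q a) * h3 - (Q u) * h4' - (Q a) * h2
  -- transvections at singular vectors
  have hsing : ∀ e : F, e ≠ 0 → ∃ w : VV, w ≠ 0 ∧ Q w = 0 ∧ stv w e ∈ M := by
    intro e he
    obtain ⟨t, ht⟩ := hQ.sq (1 / (κ * e))
    have ht0 : t ≠ 0 := by
      rintro rfl
      rw [mul_zero] at ht
      exact (one_div_ne_zero (mul_ne_zero hκ0 he)) ht.symm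
    obtain ⟨v, hQv, hvu⟩ := exists_Q_B_small hQ hm u hu0 (κ * t ^ 2) t
    have hQv0 : Q v ≠ 0 := by rw [hQv]; exact mul_ne_zero hκ0 (pow_ne_zero 2 ht0)
    have he' : e = 1 / Q v := by
      rw [hQv, pow_two, ht]
      field_simp
    have hw : (stv u c : MM) *ᵥ v = v + (c * t) • u := by rw [stv_mulVec, hvu]
    refine ⟨v + (c * t) • u, ?_, ?_, ?_⟩
    · intro h0
      have : Cfsg.sympForm m F (v + (c * t) • u) u = t := by
        rw [sympForm_add_left, sympForm_smul_left, sympForm_self, mul_zero, add_zero, hvu]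
      rw [h0, sympForm_zero_left] at this
      exact ht0 this.symm
    · rw [hQ.add, hQ.smul, sympForm_smul_right, hvu, hQv, hκ]
      linear_combination (c * t ^ 2 + c ^ 2 * t ^ 2 * Q u) * h2
    · rw [← hw, he', conj_stv (stv u c) (hMS hguM) v (1 / Q v)]
      exact M.mul_mem (M.mul_mem hguM (hNM (rho_mem hQ v hQv0))) (M.inv_mem hguM)
  obtain ⟨u0, hu00, hQu0⟩ := exists_sing_small hQ hm
  have hu0S : u0 ∈ Scl M := by
    intro e
    by_cases he : e = 0
    · subst he
      have : stv u0 (0 : F) = 1 := by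
        apply gl_ext
        intro x
        rw [stv_mulVec, zero_mul, zero_smul, add_zero, Units.val_one, Matrix.one_mulVec]
      rw [this]; exact M.one_mem
    · obtain ⟨w, hw0, hQw, hwM⟩ := hsing e he
      obtain ⟨g, hg, hgw⟩ := move_small hQ h4 w u0 hw0 hu00 (hQw.trans hQu0.symm)
      rw [← hgw, conj_stv g hg.2 w e]
      exact M.mul_mem (M.mul_mem (hNM hg) hwM) (M.inv_mem (hNM hg))
  have hsingS : ∀ w : VV, Q w = 0 → w ∈ Scl M := by
    intro w hQw
    by_cases hw0 : w = 0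
    · subst hw0; exact Scl_zero
    · obtain ⟨g, hg, hgw⟩ := move_small hQ h4 u0 w hu00 hw0 (hQu0.trans hQw.symm)
      rw [← hgw]
      exact Scl_inv hMS (hNM hg) hu0S
  apply eq_spGL_of_Scl hMS
  intro w
  by_cases hQw : Q w = 0
  · exact hsingS w hQw
  have hw0 : w ≠ 0 := by
    rintro rfl
    exact hQw (Q_zero hQ)
  obtain ⟨us, hQus, husw⟩ := exists_Q_B_small hQ hm w hw0 0 (Q w)
  have hwus : Cfsg.sympForm m F w us = - Q w := by rw [sympForm_swap, husw]
  obtain ⟨v', hv'⟩ : ∃ v' : VV, v' = (Q w)⁻¹ • (w + us) := ⟨_, rfl⟩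
  have hQv' : Q v' = 0 := by
    rw [hv', hQ.smul, hQ.add, hQus, hwus]
    ring
  have hv'S : v' ∈ Scl M := hsingS v' hQv'
  have husS : us ∈ Scl M := hsingS us hQus
  have hne : Cfsg.sympForm m F v' us ≠ 0 := by
    rw [hv', sympForm_smul_left, sympForm_add_left, sympForm_self, add_zero, hwus]
    field_simp
    exact neg_ne_zero.2 one_ne_zero
  have h5 := Scl_smul (Q w) (Scl_add hMS husS hv'S hne (Q w)⁻¹)
  have h6 : Q w • (v' + (Q w)⁻¹ • us) = w := by
    rw [hv', smul_add, smul_smul, smul_smul, mul_inv_cancel₀ hQw, one_smul, one_smul, add_assoc]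
    have : us + us = 0 := by rw [← two_smul F us, h2, zero_smul]
    rw [this, add_zero]
  rw [h6] at h5
  exact h5

end Cfsg.Agent.Lib.H27.OSpSmall
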