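/-
helper27 library (generated data): candidates for the elements of order 7 of `M24` with prescribed images of
five base points, with conjugating words to powers of a representative.
-/
import Mathlib
import Cfsg.Prelude.Def_Sporadic_a
import Cfsg.Agent.Lib.H27.M24NF

set_option autoImplicit false

namespace Cfsg.Agent.Lib.H27

open Cfsg Cfsg.Agent.Lib.H28 Cfsg.Agent.Lib.H27.M24NF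

namespace Ord7

/-- A word of an element of order 7. -/
def r7w : List ℕ := [2,1,1,3,3,0,0,4,4,0,3,1,1,1,1,3,1,3,1,4,0,3,3,0,3,3]

/-- The `n`-fold iterate of a table at an index. -/
def itTab (t : List ℕ) : ℕ → ℕ → ℕ
  | 0, k => k
  | n + 1, k => t.getD (itTab t n k) 0

/-- A table is a permutation of order 7. -/
def isOrd7Tab (t : List ℕ) : Bool :=
  (List.range 24).all (fun k => itTab t 7 k == k) && (List.range 24).any (fun k => t.getD k 0 != k)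

/-- The check of one candidate, with an optional certificate (conjugating word, exponent). -/
def candOK (tw : List ℕ) (z5 z6 : ℕ) (cert : Option (List ℕ × ℕ)) : Bool :=
  match cert with
  | none => !(isOrd7Tab (wordTab (candWord tw z5 z6)))
  | some (c, i) => (i == 1 || i == 3) && eqW (c ++ (candWord tw z5 z6 ++ invWord c)) (pw r7w i)

/-- The lookup of a certificate. -/
def lookup (certs : List (ℕ × ℕ × List ℕ × ℕ)) (z5 z6 : ℕ) : Option (List ℕ × ℕ) :=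
  (certs.find? (fun e => e.1 == z5 && e.2.1 == z6)).map (fun e => e.2.2)

/-- The check of a pattern: images `Y` of the first five base points, transversal word `tw`. -/
def patOK (p : List ℕ × List ℕ × List (ℕ × ℕ × List ℕ × ℕ)) : Bool :=
  (List.range 5).all (fun i => evalPt p.2.1 (basePts.getD i 0) == p.1.getD i 0) &&
  (List.range 24).all (fun z5 => (List.range 24).all (fun z6 =>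
    !(levelSet 5 z5 && levelSet 6 z6) || candOK p.2.1 z5 z6 (lookup p.2.2 z5 z6)))

/-- The patterns: images of the five base points, a transversal word, certificates. -/
def patTab : List (List ℕ × List ℕ × List (ℕ × ℕ × List ℕ × ℕ)) := [
  ([0,1,2,3,4], [2,1,1,3,3,0,0,4,4,0,3,1,1,1,1,3], []),
  ([0,1,2,3,5], [2,1,1,3,3,0,0,4,4,0,3,1,1,1,1,3,1,3,1,4,0,3,3,0,3,3], [(4, 5, [], 1), (4, 17, [0,0,1,3,3,0,0,4,3,3,1,3,3,0,0,1,4,4,1,4,1,1,1,4,1,1,3,1,1], 3), (6, 5, [4,2,1,4,1,1,3,0,0,0,0,3,3,1,2], 1), (7, 5, [1,3,1,1,1,4,0,4,1,1,1,1,4,3,0,3,0,3,1,4,0,4,4,0,0,3,0,3], 1), (8, 17, [4,1,1,1,3,1,3,1,4,1,3,3], 1), (11, 14, [1,2,0,0,2,4,0,3,4,0,0,0,0,4,1,3,1,4,1,3,3,0,0,3,0,3,1], 3), (12, 17, [3,0,2,0,0,4,1,4,1,4,1,4,4,1,3,1,3,1,4,0,3,0], 3), (15, 14, [0,0,1,3,3,0,0,4,3,3,1,3,3,0,0,1,4,0,0,0,0,3,1,3,0,0,4,1,1,1],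 3), (15, 17, [4,0,2,3,0,4,4,0,0,0,0,4,1,3,3,0,4,4,0,3,3,0,0,3,0,4,1,3], 1), (18, 14, [3,3,1,4,1,1,1,3,0,3,3,0], 1), (19, 14, [0,0,1,3,3,0,0,4,3,3,1,3,3,0,0,1,1,1,1,4,1,3,0,4,4,0], 3), (20, 5, [0,0,0,2,0,3,3,1,4,1,1,1,3,1,3,0,1,3,2,0,3,0,2,3,1,1,4,1,4,1,2], 3), (20, 14, [4,4,0,4,0,4,0,0,0,4,0,4,4], 1), (21, 17, [0,4,0,2,1,4,4,1,0,0,3,3,0,4,0,4,4,0,0,0,0,4,1,0,3,0,3,0,3], 3), (22, 5, [1,3,3,1,4,0,3,0,0,0,0,3,0,3,0,3,1,4,0,4,4,0,0,3,0,3], 1), (22, 17, [0,0,1,3,3,0,0,4,3,3,1,3,3,0,0,3,0,3,0,3,1,4,0,4,4,0,0,3,0,3], 3)]),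
  ([0,1,2,3,6], [2,1,1,3,3,0,0,4,4,0,3,1,1,1,1,3,0,0,0,0,0,4,0,0,0,0,3], []),
  ([0,1,2,3,7], [2,1,1,3,3,0,0,4,4,0,3,1,1,1,1,3,1,4,4,1,1,1,4,1,3,0,0], []),
  ([0,1,2,3,8], [2,1,1,3,3,0,0,4,4,0,3,1,1,1,1,3,3,1,1,4,1,1,3,0,4,4,1], []),
  ([0,1,2,3,9], [2,1,1,3,3,0,0,4,4,0,3,1,1,1,1,3,1,4,1,3,3,0,0,3,0,3,1], []),
  ([0,1,2,3,10], [2,1,1,3,3,0,0,4,4,0,3,1,1,1,1,3,1,3,0,4,4,1,1,1,4], []),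
  ([0,1,2,3,11], [2,1,1,3,3,0,0,4,4,0,3,1,1,1,1,3,1,4,1,3,0,4,0,4,0,3], []),
  ([0,1,2,3,12], [2,1,1,3,3,0,0,4,4,0,3,1,1,1,1,3,3,0,0,0,3,3,1,4,0], []),
  ([0,1,2,3,13], [2,1,1,3,3,0,0,4,4,0,3,1,1,1,1,3,4,4,0,0,3,0,4,0,0], []),
  ([0,1,2,3,14], [2,1,1,3,3,0,0,4,4,0,3,1,1,1,1,3,0,3,3,1,4,1,1,1,3,1,3,0], [(4, 5, [0,0,0,2,0,3,3,1,4,1,1,1,3,1,3,0], 3), (4, 14, [1,4,0,0,0,0,3,1,3,0,0,4,1,1,1], 1), (6, 5, [0,0,0,2,0,3,3,1,4,1,1,1,3,1,3,0,1,4,4,1,4,0,0,3,1,1,1,3,1,4], 3), (6, 14, [3,0,3,0,3,1,4,0,4,4,0,0,3,0,3], 1), (8, 17, [0,0,1,3,3,0,0,4,3,3,1,3,3,0,0,0,3,0,3,0,4,1,4,4,1,3,0,4,0], 3), (9, 5, [1,4,4,1,4,1,1,1,4,1,1,3,1,1], 1), (10, 14, [4,0,2,0,3,1,0,0,3,1,4,0,4,1,1,4,1,4,4,1,1], 3), (11, 17, [0,0,0,2,0,3,3,1,4,1,1,1,3,1,3,0,3,3,1,4,1,1,1,3,0,3,3,0], 3),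 (12, 14, [4,0,2,3,0,4,4,0,0,0,0,4,1,3], 1), (13, 14, [0,0,0,2,0,3,3,1,4,1,1,1,3,1,3,0,4,4,0,4,0,4,0,0,0,4,0,4,4], 3), (13, 17, [0,3,0,0,4,0,4,1,3,0,4,4,1,3], 1), (15, 5, [0,2,1,1,3,3,0,0,4,1,1,4,4,0,4,4,0,3,3,1,4,1,1,1,3,1,3,0], 1), (18, 17, [3,3,1,4,1,1,1,3,0,3,3,0,3,0,3,0,3,1,4,0,4,4,0,0,3,0,3], 1), (19, 5, [1,1,1,1,4,1,3,0,4,4,0], 1), (19, 17, [0,4,1,2,4,4,1,1,3,3,0,0,4,4,4,0,0,3,0,4,0,0], 3), (20, 14, [0,0,0,2,0,3,3,1,4,1,1,1,3,1,3,0,4,1,1,1,3,1,3,1,4,1,3,3], 3)]),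
  ([0,1,2,3,15], [2,1,1,3,3,0,0,4,4,0,3,1,1,1,1,3,3,3,0,4,4,0,0,4,4,0,3,1], []),
  ([0,1,2,3,16], [2,1,1,3,3,0,0,4,4,0,3,1,1,1,1,3,4,4,1,1,1,1,1,1,4,0,4], []),
  ([0,1,2,3,17], [2,1,1,3,3,0,0,4,4,0,3,1,1,1,1,3,0,3,3,1,4,0,0,3,0,0,4], [(4, 5, [0,0,1,3,3,0,0,4,3,3,1,3,3,0,0], 3), (4, 14, [1,3,3,1,4,0,3,0,0,0,0], 1), (6, 14, [1,3,1,1,1,4,0,4,1,1,1,1,4], 1), (7, 14, [1,4,0,3,3,1,4,1,1,3,0,0,0,0], 1), (8, 5, [1,3,2,0,3,0,2,3,1,1,4,1,4,1,2], 1), (11, 17, [0,0,1,3,3,0,0,4,3,3,1,3,3,0,0,3,3,1,4,1,1,1,3,0,3,3,0], 3), (12, 5, [2,1,1,2,3,0,4,1,1,4,4,0,4,4,1,4,1,3,0,4,0,4,0,3], 3), (15, 5, [4,0,2,3,0,4,4,0,0,0,0,4,1,3,0,3,0,0,4,0,4,1,3,0,4,4,1,3], 1), (15, 17, [0,0,1,3,3,0,0,4,3,3,1,3,3,0,0,4,1,1,1,3,1,3,1,4,1,3,3], 3), (18, 17, [4,0,2,3,0,4,4,0,0,0,0,4,1,3,1,1,1,1,4,1,3,0,4,4,0],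 1), (19, 17, [0,0,1,3,3,0,0,4,3,3,1,3,3,0,0,1,4,4,1,4,0,0,3,1,1,1,3,1,4], 3), (20, 14, [1,2,1,3,1,0,3,1,1,1,1,3,1,3,3,0,0,3,1,3,1,4,0,3,3,0,3,3], 3), (20, 17, [3,0,4,4,0,3,3,0,0,3,0,4,1,3], 1), (21, 5, [0,0,2,1,1,0,3,0,3,0,4,4,3,1,3,3,0,0,3,0,3,3,1,4,0,0,3,0,0,4], 3), (22, 5, [2,0,0,2,0,4,1,0,0,3,3,0,4,0,1,4,1,4,1,4,0,3,3,1,4,1,1,1,3,1,3,0], 3), (22, 14, [0,3,0,3,0,4,1,4,4,1,3,0,4,0], 1)]),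
  ([0,1,2,3,18], [2,1,1,3,3,0,0,4,4,0,3,1,1,1,1,3,1,1,3,1,4,1,1,3,3], []),
  ([0,1,2,3,19], [2,1,1,3,3,0,0,4,4,0,3,1,1,1,1,3,0,3,0,3,0,3], []),
  ([0,1,2,3,20], [2,1,1,3,3,0,0,4,4,0,3,1,1,1,1,3,4,1,3,1,3,1,4,0,3,0], []),
  ([0,1,2,3,21], [2,1,1,3,3,0,0,4,4,0,3,1,1,1,1,3,0,0,0,0,0,4,0,0,0,4,1,4,1], []),
  ([0,1,2,3,22], [2,1,1,3,3,0,0,4,4,0,3,1,1,1,1,3,3,3,2,0,0,0,3,1,1,2,3], [])]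

set_option maxRecDepth 100000 in
theorem patTab_ok : patTab.all patOK = true := by decide +kernel

end Ord7

end Cfsg.Agent.Lib.H27
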