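/-
helper27 library: every element of order 7 of `M24` is conjugate to a fixed representative or to its cube.
-/
import Mathlib
import Cfsg.Prelude.Def_Sporadic_a
import Cfsg.Agent.Lib.H27.M24NF
import Cfsg.Agent.Lib.H27.Ord7Data

set_option autoImplicit false

namespace Cfsg.Agent.Lib.H27

open Cfsg Cfsg.Agent.Lib.H28 Cfsg.Agent.Lib.H27.M24NF
open scoped Pointwise

namespace Ord7

theorem gIdx_pow_wordPerm (w : List ℕ) (n : ℕ) (q : GolayPt) :
    gIdx ((wordPerm w ^ n) q) = itTab (wordTab w) n (gIdx q) := by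
  induction n with
  | zero => rfl
  | succ n ih =>
    rw [pow_succ', Equiv.Perm.mul_apply, wordTab_spec, ih]
    rfl

theorem isOrd7Tab_of_order {w : List ℕ} (h7 : orderOf (wordPerm w) = 7) :
    isOrd7Tab (wordTab w) = true := by
  have hp : wordPerm w ^ 7 = 1 := by rw [← h7]; exact pow_orderOf_eq_one _
  have hne : wordPerm w ≠ 1 := by
    intro h
    rw [h, orderOf_one] at h7
    norm_num at h7
  unfold isOrd7Tab
  rw [Bool.and_eq_true, List.all_eq_true, List.any_eq_true]
  constructor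
  · intro k hk
    rw [List.mem_range] at hk
    rw [beq_iff_eq]
    have := gIdx_pow_wordPerm w 7 (gPt k)
    rw [hp, Equiv.Perm.one_apply, gIdx_gPt hk] at this
    exact this.symm
  · by_contra hcon
    apply hne
    apply Equiv.ext
    intro p
    rw [Equiv.Perm.one_apply]
    apply gIdx_injective
    rw [wordTab_spec]
    by_contra hp'
    apply hcon
    refine ⟨gIdx p, List.mem_range.2 (gIdx_lt p), ?_⟩
    rw [bne_iff_ne]
    exact hp'

/-- An element of order 7 of `M24` matching a pattern is conjugate to the representative or its cube. -/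
theorem conj_of_pat (p : List ℕ × List ℕ × List (ℕ × ℕ × List ℕ × ℕ)) (hp : p ∈ patTab)
    {g : Equiv.Perm GolayPt} (hg : g ∈ M24) (h7 : orderOf g = 7)
    (himg : ∀ i < 5, g (gPt (basePts.getD i 0)) = gPt (p.1.getD i 0)) :
    ∃ k ∈ M24, k * g * k⁻¹ = wordPerm r7w ∨ k * g * k⁻¹ = wordPerm r7w ^ 3 := by
  have hok := List.all_eq_true.1 patTab_ok p hp
  unfold patOK at hok
  rw [Bool.and_eq_true, List.all_eq_true, List.all_eq_true] at hok
  obtain ⟨htw, hall⟩ := hok
  have htw' : ∀ i < 5, evalPt p.2.1 (basePts.getD i 0) = p.1.getD i 0 := by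
    intro i hi
    have := htw i (List.mem_range.2 hi)
    rwa [beq_iff_eq] at this
  obtain ⟨z5, z6, h1, h2', h3', h4, h5⟩ := exists_cand hg p.1 p.2.1 htw' himg
  have hc := List.all_eq_true.1 (hall z5 (List.mem_range.2 h1)) z6 (List.mem_range.2 h2')
  rw [h3', h4, Bool.and_self, Bool.not_true, Bool.false_or] at hc
  unfold candOK at hc
  rcases hlk : lookup p.2.2 z5 z6 with _ | ⟨c, i⟩
  · rw [hlk] at hc
    simp only at hc
    rw [h5] at h7
    rw [isOrd7Tab_of_order h7] at hc
    simp at hc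
  · rw [hlk] at hc
    simp only at hc
    rw [Bool.and_eq_true, Bool.or_eq_true, beq_iff_eq, beq_iff_eq] at hc
    have heq := wordPerm_eq_of_eqW hc.2
    rw [wordPerm_append, wordPerm_append, wordPerm_invWord, ← h5, ← mul_assoc, wordPerm_pw] at heq
    refine ⟨wordPerm c, wordPerm_mem_M24 c, ?_⟩
    rcases hc.1 with hi | hi
    · left; rw [heq, hi, pow_one]
    · right; rw [heq, hi]

theorem pat_cyc_bool : (List.range 24).all (fun z => [23, 0, 1, 2, 3].contains z ||
    patTab.any (fun p => p.1 == [0, 1, 2, 3, z])) = true := by decide +kernel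

theorem pat_cyc : ∀ z < 24, z ≠ 23 → z ≠ 0 → z ≠ 1 → z ≠ 2 → z ≠ 3 →
    ∃ p ∈ patTab, p.1 = [0, 1, 2, 3, z] := by
  intro z hz h0 h1 h2 h3 h4
  have h := List.all_eq_true.1 pat_cyc_bool z (List.mem_range.2 hz)
  rw [Bool.or_eq_true] at h
  rcases h with h | h
  · exfalso
    simp only [List.contains_eq_mem, List.mem_cons, List.not_mem_nil, or_false, decide_eq_true_eq] at h
    rcases h with h | h | h | h | h
    · exact h0 h
    · exact h1 h
    · exact h2 h
    · exact h3 h
    · exact h4 h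
  · rw [List.any_eq_true] at h
    obtain ⟨p, hp, hpe⟩ := h
    exact ⟨p, hp, by rwa [beq_iff_eq] at hpe⟩

/-- A point fixed by a power of `g` prime to the order is fixed by `g`. -/
theorem fixed_of_pow_fixed {α : Type*} {g : Equiv.Perm α} {n d : ℕ} (hg : g ^ n = 1) (hcop : Nat.Coprime d n)
    (hn : 1 < n) {p : α} (h : (g ^ d) p = p) : g p = p := by
  obtain ⟨m, -, hm⟩ := Nat.exists_mul_mod_eq_one_of_coprime hcop hn
  have h1 : (g ^ (d * m)) p = p := by
    rw [pow_mul]
    exact Equiv.Perm.pow_apply_eq_self_of_apply_eq_self h m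
  have h2 : g ^ (d * m) = g := by
    conv_lhs => rw [← Nat.div_add_mod (d * m) n, hm, pow_add, pow_mul, hg, one_pow, one_mul, pow_one]
  rw [h2] at h1
  exact h1

/-- Every element of order 7 of `M24` is conjugate to the representative or to its cube. -/
theorem exists_conj_rep {g : Equiv.Perm GolayPt} (hg : g ∈ M24) (h7 : orderOf g = 7) :
    ∃ k ∈ M24, k * g * k⁻¹ = wordPerm r7w ∨ k * g * k⁻¹ = wordPerm r7w ^ 3 := by
  classical
  have hp7 : g ^ 7 = 1 := by rw [← h7]; exact pow_orderOf_eq_one _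
  have hne : g ≠ 1 := by
    intro h
    rw [h, orderOf_one] at h7
    norm_num at h7
  obtain ⟨a, ha⟩ : ∃ a, g a ≠ a := by
    by_contra hcon
    apply hne
    apply Equiv.ext
    intro p
    by_contra hp
    exact hcon ⟨p, hp⟩
  -- the points of the cycle of `a`
  have hdist : ∀ i j : ℕ, i < j → j ≤ 5 → (g ^ i) a ≠ (g ^ j) a := by
    intro i j hij hj h
    have hd : (g ^ (j - i)) a = a := by
      apply (g ^ i).injective
      rw [← Equiv.Perm.mul_apply, ← pow_add, show i + (j - i) = j by omega]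
      exact h.symm
    have hcop : Nat.Coprime (j - i) 7 :=
      (Nat.Coprime.symm ((Nat.Prime.coprime_iff_not_dvd (by norm_num)).2
        (Nat.not_dvd_of_pos_of_lt (by omega) (by omega))))
    exact ha (fixed_of_pow_fixed hp7 hcop (by norm_num) hd)
  have hstep : ∀ i : ℕ, g ((g ^ i) a) = (g ^ (i + 1)) a := by
    intro i
    rw [pow_succ', Equiv.Perm.mul_apply]
  have hx : Function.Injective ![(g ^ 0) a, (g ^ 1) a, (g ^ 2) a, (g ^ 3) a, (g ^ 4) a] :=
    inj5 (hdist 0 1 (by norm_num) (by norm_num)) (hdist 0 2 (by norm_num) (by norm_num))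
      (hdist 0 3 (by norm_num) (by norm_num)) (hdist 0 4 (by norm_num) (by norm_num))
      (hdist 1 2 (by norm_num) (by norm_num)) (hdist 1 3 (by norm_num) (by norm_num))
      (hdist 1 4 (by norm_num) (by norm_num)) (hdist 2 3 (by norm_num) (by norm_num))
      (hdist 2 4 (by norm_num) (by norm_num)) (hdist 3 4 (by norm_num) (by norm_num))
  obtain ⟨k, hk, hmap, himg⟩ := exists_conj_base g
    ![(g ^ 0) a, (g ^ 1) a, (g ^ 2) a, (g ^ 3) a, (g ^ 4) a]
    ![(g ^ 1) a, (g ^ 2) a, (g ^ 3) a, (g ^ 4) a, (g ^ 5) a] hx (by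
      intro i
      fin_cases i
      · exact hstep 0
      · exact hstep 1
      · exact hstep 2
      · exact hstep 3
      · exact hstep 4)
  have h0 := hmap 0
  have h1 := hmap 1
  have h2 := hmap 2
  have h3 := hmap 3
  have h4 := hmap 4
  simp only [Matrix.cons_val_zero, Matrix.cons_val_one, Matrix.cons_val] at h0 h1 h2 h3 h4
  obtain ⟨z, hz⟩ : ∃ z, z = gIdx (k ((g ^ 5) a)) := ⟨_, rfl⟩
  have hy : ∀ (i : ℕ) (j : ℕ), i < 5 → k ((g ^ i) a) = gPt j → z ≠ j := by
    intro i j hi hq h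
    apply hdist i 5 hi (le_refl 5)
    apply k.injective
    rw [hq, ← h, hz, gPt_gIdx]
  obtain ⟨p, hp, hp1⟩ := pat_cyc z (by rw [hz]; exact gIdx_lt _)
    (hy 0 23 (by norm_num) h0) (hy 1 0 (by norm_num) h1) (hy 2 1 (by norm_num) h2)
    (hy 3 2 (by norm_num) h3) (hy 4 3 (by norm_num) h4)
  have ho : orderOf (k * g * k⁻¹) = 7 := by rw [orderOf_conj', h7]
  obtain ⟨k', hk', h⟩ := conj_of_pat p hp (M24.mul_mem (M24.mul_mem hk hg) (M24.inv_mem hk)) ho (by
    rw [hp1]
    intro i hi
    have hi' := himg ⟨i, hi⟩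
    simp only at hi'
    rw [hi']
    interval_cases i
    · exact h1
    · exact h2
    · exact h3
    · exact h4
    · show k ((g ^ 5) a) = gPt z
      rw [hz, gPt_gIdx])
  refine ⟨k' * k, M24.mul_mem hk' hk, ?_⟩
  have e : k' * k * g * (k' * k)⁻¹ = k' * (k * g * k⁻¹) * k'⁻¹ := by group
  rw [e]
  exact h

end Ord7

end Cfsg.Agent.Lib.H27
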