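/-
helper27 library: the normalizer and the centralizer in `M24` of a subgroup of order 7.
-/
import Mathlib
import Cfsg.Prelude.Def_Sporadic_a
import Cfsg.Prelude.Def_SporadicCombinatorics
import Cfsg.Agent.Lib.H27.M24Cnt
import Cfsg.Agent.Lib.H27.Ord7NF
import Cfsg.Agent.Lib.H28.KeyOrbit

set_option autoImplicit false

namespace Cfsg.Agent.Lib.H27

open Cfsg Cfsg.Agent.Lib.H28
open scoped Pointwise

namespace Ord7

open M24Cnt M24NF

/-! ### The representative -/

theorem r7_pow7 : wordPerm r7w ^ 7 = 1 := by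
  have h : eqW (pw r7w 7) [] = true := by decide +kernel
  rw [← wordPerm_pw, wordPerm_eq_of_eqW h, wordPerm_nil]

theorem r7_ne_one : wordPerm r7w ≠ 1 := by
  intro h
  have h2 : evalPt r7w 23 ≠ 23 := by decide +kernel
  apply h2
  have := gIdx_wordPerm r7w (gPt 23)
  rw [h, Equiv.Perm.one_apply, gIdx_gPt (by norm_num)] at this
  exact this.symm

theorem r7_order : orderOf (wordPerm r7w) = 7 := by
  haveI : Fact (Nat.Prime 7) := ⟨by norm_num⟩
  exact orderOf_eq_prime r7_pow7 r7_ne_one

/-! ### The counts -/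

/-- The packed tables of the powers of the representative. -/
def R7 (i : ℕ) : ℕ := [9759154893309751776970966210612289, 52357267097802610523725948361577570, 91402174472315653970670668659538083, 144583917626036491013892233534397893, 234107949454435777995665851704967918, 605287460260797292456432259911713815].getD (i - 1) 0

/-- The pruning points. -/
def pp7 : List (List ℕ) := [[], [], [23], [0], [1], [2], [4], [3]]

theorem R7_ok : ∀ i ∈ [1, 2, 3, 4, 5, 6], pkOK (R7 i) (pw r7w i) = true := by decide +kernel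

theorem R7_ok1 : pkOK (R7 1) r7w = true := by decide +kernel

theorem pp7_ok : ppOK (R7 1) pp7 = true := by decide +kernel

set_option maxRecDepth 100000 in
theorem cnt7 : ∀ i ∈ [1, 2, 3, 4, 5, 6], cnt (R7 1) (R7 i) pp7 7 0 idP = [42, 42, 0, 42, 0, 0].getD (i - 1) 0 := by
  decide +kernel

/-- The elements of `M24` conjugating the representative to its `i`-th power. -/
def A (i : ℕ) : Set (Equiv.Perm GolayPt) := {c | c ∈ M24 ∧ c * wordPerm r7w = wordPerm r7w ^ i * c}

theorem ncard_A {i : ℕ} (hi : i ∈ [1, 2, 3, 4, 5, 6]) : (A i).ncard = [42, 42, 0, 42, 0, 0].getD (i - 1) 0 := by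
  rw [← cnt7 i hi, ← card_intertwiners R7_ok1 (R7_ok i hi) pp7_ok, wordPerm_pw, ← Nat.card_coe_set_eq]
  rfl

theorem A_empty {i : ℕ} (hi : i = 3 ∨ i = 5 ∨ i = 6) : A i = ∅ := by
  rw [← Set.ncard_eq_zero (Set.toFinite _)]
  rcases hi with rfl | rfl | rfl
  · exact ncard_A (by decide)
  · exact ncard_A (by decide)
  · exact ncard_A (by decide)

theorem A_disjoint {i j : ℕ} (hi : i < 7) (hj : j < 7) (hij : i ≠ j) : Disjoint (A i) (A j) := by
  rw [Set.disjoint_left]
  rintro c ⟨_, h1⟩ ⟨_, h2⟩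
  rw [h1] at h2
  have h3 := mul_right_cancel h2
  rw [pow_eq_pow_iff_modEq, r7_order] at h3
  apply hij
  unfold Nat.ModEq at h3
  rw [Nat.mod_eq_of_lt hi, Nat.mod_eq_of_lt hj] at h3
  exact h3

/-- The normalizer of the representative. -/
theorem ncard_normalizer :
    {c : Equiv.Perm GolayPt | c ∈ M24 ∧ ∃ i, 1 ≤ i ∧ i ≤ 6 ∧ c * wordPerm r7w = wordPerm r7w ^ i * c}.ncard
      = 126 := by
  have hset : {c : Equiv.Perm GolayPt | c ∈ M24 ∧ ∃ i, 1 ≤ i ∧ i ≤ 6 ∧
      c * wordPerm r7w = wordPerm r7w ^ i * c} = A 1 ∪ A 2 ∪ A 4 := by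
    ext c
    simp only [Set.mem_ofPred_eq, Set.mem_union]
    constructor
    · rintro ⟨hc, i, h1, h6, hi⟩
      have hmem : c ∈ A i := ⟨hc, hi⟩
      interval_cases i
      · exact Or.inl (Or.inl hmem)
      · exact Or.inl (Or.inr hmem)
      · rw [A_empty (Or.inl rfl)] at hmem; exact absurd hmem (Set.notMem_empty _)
      · exact Or.inr hmem
      · rw [A_empty (Or.inr (Or.inl rfl))] at hmem; exact absurd hmem (Set.notMem_empty _)
      · rw [A_empty (Or.inr (Or.inr rfl))] at hmem; exact absurd hmem (Set.notMem_empty _)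
    · rintro ((h | h) | h)
      · exact ⟨h.1, 1, by norm_num, by norm_num, h.2⟩
      · exact ⟨h.1, 2, by norm_num, by norm_num, h.2⟩
      · exact ⟨h.1, 4, by norm_num, by norm_num, h.2⟩
  rw [hset, Set.ncard_union_eq _ (Set.toFinite _) (Set.toFinite _),
    Set.ncard_union_eq (A_disjoint (by norm_num) (by norm_num) (by norm_num)) (Set.toFinite _) (Set.toFinite _),
    ncard_A (i := 1) (by decide), ncard_A (i := 2) (by decide), ncard_A (i := 4) (by decide)]
  · rfl
  · rw [Set.disjoint_union_left]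
    exact ⟨A_disjoint (by norm_num) (by norm_num) (by norm_num),
      A_disjoint (by norm_num) (by norm_num) (by norm_num)⟩

/-! ### A non-commuting pair in the centralizer -/

def x0w : List ℕ := [0, 0, 2, 1, 1, 1, 4, 4, 0, 1, 4, 1, 4, 1, 4, 1, 1, 1, 1, 4, 1, 3, 0, 4, 4, 0]

def y0w : List ℕ := [1, 1, 2, 3, 1, 4, 4, 4, 0, 0, 3, 0, 4, 0, 0, 1, 3, 3, 1, 4, 0, 3, 0, 0, 0, 0]

theorem x0_comm : wordPerm x0w * wordPerm r7w = wordPerm r7w * wordPerm x0w := by
  have h : eqW (x0w ++ r7w) (r7w ++ x0w) = true := by decide +kernel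
  rw [← wordPerm_append, ← wordPerm_append]
  exact wordPerm_eq_of_eqW h

theorem y0_comm : wordPerm y0w * wordPerm r7w = wordPerm r7w * wordPerm y0w := by
  have h : eqW (y0w ++ r7w) (r7w ++ y0w) = true := by decide +kernel
  rw [← wordPerm_append, ← wordPerm_append]
  exact wordPerm_eq_of_eqW h

theorem x0_y0 : wordPerm x0w * wordPerm y0w ≠ wordPerm y0w * wordPerm x0w := by
  intro h
  rw [← wordPerm_append, ← wordPerm_append] at h
  have h1 := eqW_of_wordPerm_eq h
  have h2 : eqW (x0w ++ y0w) (y0w ++ x0w) = false := by decide +kernel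
  rw [h1] at h2
  exact absurd h2 (by decide)

/-! ### The trio -/

/-- The key of the trio of the octads fixed by the representative. -/
def t0key : List ℕ := [2702848, 5538256, 8536111]

/-- The table of the inverse of the representative. -/
def ti7 : List ℕ := [23, 0, 1, 2, 4, 3, 8, 22, 7, 11, 16, 12, 13, 10, 5, 6, 21, 17, 20, 19, 15, 9, 18, 14]

theorem ti7_eq : wordTab (invWord r7w) = ti7 := by decide +kernel

theorem r7_smul_ptsMask (m : ℕ) : wordPerm r7w • ptsMask m = ptsMask (pullMask ti7 m) := by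
  apply smul_ptsMask
  intro p
  rw [← ti7_eq, ← wordTab_spec, wordPerm_invWord, Equiv.Perm.inv_def]

theorem t0_mem : decL t0key ∈ trios := by
  have hok : keyOK t0key = true := by decide +kernel
  have hoct : t0key.all (fun m => inC m && popc m == 8) = true := by decide +kernel
  have hpw : ∀ m ∈ t0key, ∀ m' ∈ t0key, m ≠ m' → m &&& m' = 0 := by decide +kernel
  refine ⟨by rw [card_decL hok]; rfl, ?_, ?_⟩
  · intro o ho
    obtain ⟨m, hm, rfl⟩ := mem_decL.1 ho
    have := List.all_eq_true.1 hoct m hm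
    simp only [Bool.and_eq_true, beq_iff_eq] at this
    refine ⟨⟨W m, W_mem_of_inC this.1, (ptsMask_eq_support₂ m).symm⟩, ?_⟩
    rw [card_ptsMask]
    exact this.2
  · intro o ho o' ho' hne
    obtain ⟨m, hm, rfl⟩ := mem_decL.1 ho
    obtain ⟨m', hm', rfl⟩ := mem_decL.1 ho'
    have hmm : m ≠ m' := fun h => hne (by rw [h])
    have h0 := hpw m hm m' hm' hmm
    rw [Finset.disjoint_iff_inter_eq_empty, ← Finset.card_eq_zero, card_ptsMask_inter, h0]
    rfl

theorem t0_fix_bool : t0key.all (fun m => pullMask ti7 m == m) = true := by decide +kernel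

set_option maxRecDepth 100000 in
theorem inv_oct_bool : octMasks.all (fun m => !(pullMask ti7 m == m) || t0key.contains m) = true := by
  decide +kernel

theorem t0_fix : ∀ O ∈ decL t0key, wordPerm r7w • O = O := by
  intro O hO
  obtain ⟨m, hm, rfl⟩ := mem_decL.1 hO
  have := List.all_eq_true.1 t0_fix_bool m hm
  rw [beq_iff_eq] at this
  rw [r7_smul_ptsMask, this]

/-- The octads fixed by the representative are those of the trio. -/
theorem mem_t0_of_fix {O : Finset GolayPt} (hO : O ∈ octads) (hfix : wordPerm r7w • O = O) :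
    O ∈ decL t0key := by
  obtain ⟨m, hm, rfl⟩ := exists_octMask hO
  have h := List.all_eq_true.1 inv_oct_bool m hm
  rw [Bool.or_eq_true] at h
  rw [r7_smul_ptsMask] at hfix
  have hpm : pullMask ti7 m = m := ptsMask_inj (Nat.ofBits_lt_two_pow _) (by have := List.all_eq_true.1 octMasks_lt_nodup.1 m hm; rwa [decide_eq_true_eq] at this) hfix
  rcases h with h | h
  · rw [hpm] at h
    simp at h
  · rw [List.contains_iff_mem] at h
    exact mem_decL.2 ⟨m, h, rfl⟩

theorem smul_pow_fixed {α β : Type*} [Group α] [MulAction α β] {g : α} {X : β} (h : g • X = X) (j : ℕ) :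
    g ^ j • X = X := by
  induction j with
  | zero => rw [pow_zero, one_smul]
  | succ j ih => rw [pow_succ, mul_smul, h, ih]

theorem exists_pow_gen {G : Type*} [Group G] {g : G} (h7 : g ^ 7 = 1) {i : ℕ} (h1 : 1 ≤ i) (h6 : i ≤ 6) :
    ∃ j, (g ^ i) ^ j = g := by
  have hcop : Nat.Coprime i 7 :=
    (Nat.Coprime.symm ((Nat.Prime.coprime_iff_not_dvd (by norm_num)).2
      (Nat.not_dvd_of_pos_of_lt (by omega) (by omega))))
  obtain ⟨m, -, hm⟩ := Nat.exists_mul_mod_eq_one_of_coprime hcop (by norm_num : 1 < 7)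
  refine ⟨m, ?_⟩
  rw [← pow_mul]
  conv_lhs => rw [← Nat.div_add_mod (i * m) 7, hm, pow_add, pow_mul, h7, one_pow, one_mul, pow_one]

/-- The normalizer of the representative fixes the trio. -/
theorem normalizer_fix_t0 {c : Equiv.Perm GolayPt} (hc : c ∈ M24) {i : ℕ} (h1 : 1 ≤ i) (h6 : i ≤ 6)
    (hci : c * wordPerm r7w = wordPerm r7w ^ i * c) : c • decL t0key = decL t0key := by
  apply Finset.eq_of_subset_of_card_le
  · intro O hO
    obtain ⟨O', hO', rfl⟩ := Finset.mem_smul_finset.1 hO
    have hoct : O' ∈ octads := t0_mem.2.1 O' hO'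
    apply mem_t0_of_fix (smul_mem_octads hc hoct)
    have hfi : wordPerm r7w ^ i • (c • O') = c • O' := by
      rw [← mul_smul, ← hci, mul_smul, t0_fix O' hO']
    obtain ⟨j, hj⟩ := exists_pow_gen r7_pow7 h1 h6
    have := smul_pow_fixed hfi j
    rwa [hj] at this
  · rw [Finset.card_smul_finset]

theorem smul_trios {g : Equiv.Perm GolayPt} (hg : g ∈ M24) {T : Finset (Finset GolayPt)}
    (hT : T ∈ trios) : g • T ∈ trios := by
  obtain ⟨h3, ho, hd⟩ := hT
  refine ⟨?_, ?_, ?_⟩
  · rw [Finset.card_smul_finset]; exact h3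
  · intro t ht
    obtain ⟨t', ht', rfl⟩ := Finset.mem_smul_finset.1 ht
    exact smul_mem_octads hg (ho t' ht')
  · intro t ht u hu' hne
    obtain ⟨t', ht', rfl⟩ := Finset.mem_smul_finset.1 ht
    obtain ⟨u', hu'', rfl⟩ := Finset.mem_smul_finset.1 hu'
    have := hd t' ht' u' hu'' (fun h => hne (by rw [h]))
    rw [Finset.disjoint_iff_inter_eq_empty] at this ⊢
    rw [← Finset.smul_finset_inter, this, Finset.smul_finset_empty]

end Ord7

end Cfsg.Agent.Lib.H27
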