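/-
helper27 library: the normalizer and the centralizer in `M24` of an arbitrary subgroup of order 7
(final statement).
-/
import Mathlib
import Cfsg.Prelude.Def_Sporadic_a
import Cfsg.Prelude.Def_SporadicCombinatorics
import Cfsg.Agent.Lib.H27.Ord7Main

set_option autoImplicit false

namespace Cfsg.Agent.Lib.H27

open Cfsg Cfsg.Agent.Lib.H28
open scoped Pointwise

namespace Ord7

open M24NF

theorem conj_rel {G : Type*} [Group G] (k n s t : G) :
    n * s = t * n ↔ (k * n * k⁻¹) * (k * s * k⁻¹) = (k * t * k⁻¹) * (k * n * k⁻¹) := by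
  constructor
  · intro h
    calc k * n * k⁻¹ * (k * s * k⁻¹) = k * (n * s) * k⁻¹ := by group
      _ = k * (t * n) * k⁻¹ := by rw [h]
      _ = (k * t * k⁻¹) * (k * n * k⁻¹) := by group
  · intro h
    calc n * s = k⁻¹ * (k * n * k⁻¹ * (k * s * k⁻¹)) * k := by group
      _ = k⁻¹ * ((k * t * k⁻¹) * (k * n * k⁻¹)) * k := by rw [h]
      _ = t * n := by group

/-- Transport of the order of a subgroup of `M24` described through a conjugate. -/
theorem card_transport {κ : Equiv.Perm GolayPt} (hκ : κ ∈ M24) (H : Subgroup ↥M24)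
    (P : Equiv.Perm GolayPt → Prop)
    (h : ∀ n : ↥M24, n ∈ H ↔ P (κ * (n : Equiv.Perm GolayPt) * κ⁻¹)) :
    Nat.card H = Nat.card {c : Equiv.Perm GolayPt // c ∈ M24 ∧ P c} := by
  apply Nat.card_congr
  exact
    { toFun := fun n => ⟨κ * n.1.1 * κ⁻¹, M24.mul_mem (M24.mul_mem hκ n.1.2) (M24.inv_mem hκ),
        (h n.1).1 n.2⟩
      invFun := fun c => ⟨⟨κ⁻¹ * c.1 * κ, M24.mul_mem (M24.mul_mem (M24.inv_mem hκ) c.2.1) hκ⟩,
        (h _).2 (by
          have e : κ * (κ⁻¹ * c.1 * κ) * κ⁻¹ = c.1 := by group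
          show P (κ * (κ⁻¹ * c.1 * κ) * κ⁻¹)
          rw [e]
          exact c.2.2)⟩
      left_inv := fun n => by
        apply Subtype.ext
        apply Subtype.ext
        show κ⁻¹ * (κ * n.1.1 * κ⁻¹) * κ = n.1.1
        group
      right_inv := fun c => by
        apply Subtype.ext
        show κ * (κ⁻¹ * c.1 * κ) * κ⁻¹ = c.1
        group }

/-- The main statement. -/
theorem main (S : Subgroup ↥M24) (hS : Nat.card S = 7) :
    Nat.card ↥(Subgroup.normalizer (S : Set ↥M24)) = 126 ∧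
    Nat.card ↥(Subgroup.centralizer (S : Set ↥M24)) = 42 ∧
    (∃ x ∈ Subgroup.centralizer (S : Set ↥M24), ∃ y ∈ Subgroup.centralizer (S : Set ↥M24),
      x * y ≠ y * x) ∧
    ∃ T ∈ trios, ∀ n ∈ Subgroup.normalizer (S : Set ↥M24),
      ((n : ↥M24) : Equiv.Perm GolayPt) • T = T := by
  classical
  -- a generator conjugate to the representative
  obtain ⟨s, hsS, κ, hκ, hconj⟩ : ∃ s ∈ S, ∃ κ ∈ M24,
      κ * (s : Equiv.Perm GolayPt) * κ⁻¹ = wordPerm r7w := by
    have hne : S ≠ ⊥ := by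
      rw [← Subgroup.one_lt_card_iff_ne_bot, hS]
      norm_num
    obtain ⟨a, ha⟩ := Subgroup.ne_bot_iff_exists_ne_one.1 hne
    have ho : orderOf (a : ↥M24) = 7 := by
      have hd := Subgroup.orderOf_dvd_natCard S a.2
      rw [hS] at hd
      rcases (Nat.dvd_prime (by norm_num)).1 hd with h | h
      · exfalso
        apply ha
        rw [orderOf_eq_one_iff] at h
        exact Subtype.ext h
      · exact h
    have ho' : orderOf ((a : ↥M24) : Equiv.Perm GolayPt) = 7 := by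
      rw [Subgroup.orderOf_coe]
      exact ho
    obtain ⟨κ, hκ, h | h⟩ := exists_conj_rep (a : ↥M24).2 ho'
    · exact ⟨a, a.2, κ, hκ, h⟩
    · refine ⟨(a : ↥M24) ^ 5, S.pow_mem a.2 5, κ, hκ, ?_⟩
      rw [Subgroup.coe_pow, ← conj_pow, h, ← pow_mul, show 3 * 5 = 7 * 2 + 1 from rfl, pow_add, pow_mul,
        r7_pow7, one_pow, one_mul, pow_one]
  have hos : orderOf s = 7 := by
    rw [← Subgroup.orderOf_coe, ← orderOf_conj' κ (s : Equiv.Perm GolayPt), hconj]
    exact r7_order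
  have hSz : Subgroup.zpowers s = S :=
    Subgroup.eq_of_le_of_card_ge ((Subgroup.zpowers_le).2 hsS) (by rw [Nat.card_zpowers, hos, hS])
  -- the centralizer
  have hC : ∀ n : ↥M24, n ∈ Subgroup.centralizer (S : Set ↥M24) ↔ n * s = s * n := by
    intro n
    rw [Subgroup.mem_centralizer_iff]
    constructor
    · intro h
      exact (h s hsS).symm
    · intro h x hx
      rw [SetLike.mem_coe, ← hSz] at hx
      obtain ⟨m, rfl⟩ := Subgroup.mem_zpowers_iff.1 hx
      have hc : Commute n s := h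
      exact ((hc.zpow_right m).eq).symm
  -- the normalizer
  have hN : ∀ n : ↥M24, n ∈ Subgroup.normalizer (S : Set ↥M24) ↔
      ∃ i, 1 ≤ i ∧ i ≤ 6 ∧ n * s = s ^ i * n := by
    intro n
    constructor
    · intro h
      have h1 := (Subgroup.mem_set_normalizer_iff.1 h s).1 hsS
      rw [SetLike.mem_coe, ← hSz, mem_zpowers_iff_mem_range_orderOf, hos, Finset.mem_image] at h1
      obtain ⟨i, hi, hi'⟩ := h1
      rw [Finset.mem_range] at hi
      have hi'' : s ^ i = n * s * n⁻¹ := hi'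
      have hi0 : i ≠ 0 := by
        rintro rfl
        rw [pow_zero] at hi''
        have hs1 : s = 1 := by
          calc s = n⁻¹ * (n * s * n⁻¹) * n := by group
            _ = 1 := by rw [← hi'']; group
        rw [hs1, orderOf_one] at hos
        norm_num at hos
      refine ⟨i, by omega, by omega, ?_⟩
      rw [hi'']
      group
    · rintro ⟨i, h1, h6, hi⟩
      apply Subgroup.mem_normalizer_fintype
      intro x hx
      rw [SetLike.mem_coe, ← hSz] at hx ⊢
      obtain ⟨m, rfl⟩ := Subgroup.mem_zpowers_iff.1 hx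
      have e : n * s * n⁻¹ = s ^ i := by rw [hi]; group
      rw [← conj_zpow, e]
      exact Subgroup.zpow_mem _ (Subgroup.pow_mem _ (Subgroup.mem_zpowers s) i) m
  -- transport
  have hT : ∀ (n : ↥M24) (i : ℕ), n * s = s ^ i * n ↔
      (κ * (n : Equiv.Perm GolayPt) * κ⁻¹) * wordPerm r7w =
        wordPerm r7w ^ i * (κ * (n : Equiv.Perm GolayPt) * κ⁻¹) := by
    intro n i
    rw [← hconj, conj_pow, ← conj_rel κ n.1 s.1 (s.1 ^ i), Subtype.ext_iff]
    simp only [Subgroup.coe_mul, Subgroup.coe_pow]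
  have hmem : ∀ n : ↥M24, κ * (n : Equiv.Perm GolayPt) * κ⁻¹ ∈ M24 :=
    fun n => M24.mul_mem (M24.mul_mem hκ n.2) (M24.inv_mem hκ)
  have hC' : ∀ n : ↥M24, n ∈ Subgroup.centralizer (S : Set ↥M24) ↔
      (κ * (n : Equiv.Perm GolayPt) * κ⁻¹) * wordPerm r7w =
        wordPerm r7w * (κ * (n : Equiv.Perm GolayPt) * κ⁻¹) := by
    intro n
    have := hT n 1
    rw [pow_one, pow_one] at this
    rw [hC]
    exact this
  refine ⟨?_, ?_, ?_, ?_⟩
  · rw [card_transport hκ (Subgroup.normalizer (S : Set ↥M24))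
      (fun c => ∃ i, 1 ≤ i ∧ i ≤ 6 ∧ c * wordPerm r7w = wordPerm r7w ^ i * c) (fun n => by
        rw [hN]
        constructor
        · rintro ⟨i, h1, h6, hi⟩
          exact ⟨i, h1, h6, (hT n i).1 hi⟩
        · rintro ⟨i, h1, h6, hi⟩
          exact ⟨i, h1, h6, (hT n i).2 hi⟩)]
    rw [← ncard_normalizer, ← Nat.card_coe_set_eq]
    rfl
  · rw [card_transport hκ (Subgroup.centralizer (S : Set ↥M24))
      (fun c => c * wordPerm r7w = wordPerm r7w * c) hC']
    have hA : {c : Equiv.Perm GolayPt | c ∈ M24 ∧ c * wordPerm r7w = wordPerm r7w * c} = A 1 := by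
      ext c
      unfold A
      rw [Set.mem_ofPred_eq, Set.mem_ofPred_eq, pow_one]
    have h42 : (A 1).ncard = 42 := ncard_A (i := 1) (by decide)
    rw [← h42, ← hA, ← Nat.card_coe_set_eq]
    rfl
  · have hx : κ⁻¹ * wordPerm x0w * κ ∈ M24 :=
      M24.mul_mem (M24.mul_mem (M24.inv_mem hκ) (wordPerm_mem_M24 _)) hκ
    have hy : κ⁻¹ * wordPerm y0w * κ ∈ M24 :=
      M24.mul_mem (M24.mul_mem (M24.inv_mem hκ) (wordPerm_mem_M24 _)) hκ
    refine ⟨⟨_, hx⟩, ?_, ⟨_, hy⟩, ?_, ?_⟩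
    · rw [hC']
      have e : κ * (κ⁻¹ * wordPerm x0w * κ) * κ⁻¹ = wordPerm x0w := by group
      show κ * (κ⁻¹ * wordPerm x0w * κ) * κ⁻¹ * wordPerm r7w =
        wordPerm r7w * (κ * (κ⁻¹ * wordPerm x0w * κ) * κ⁻¹)
      rw [e]
      exact x0_comm
    · rw [hC']
      have e : κ * (κ⁻¹ * wordPerm y0w * κ) * κ⁻¹ = wordPerm y0w := by group
      show κ * (κ⁻¹ * wordPerm y0w * κ) * κ⁻¹ * wordPerm r7w =
        wordPerm r7w * (κ * (κ⁻¹ * wordPerm y0w * κ) * κ⁻¹)
      rw [e]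
      exact y0_comm
    · intro h
      apply x0_y0
      have h' : (κ⁻¹ * wordPerm x0w * κ) * (κ⁻¹ * wordPerm y0w * κ) =
          (κ⁻¹ * wordPerm y0w * κ) * (κ⁻¹ * wordPerm x0w * κ) := congrArg Subtype.val h
      calc wordPerm x0w * wordPerm y0w
          = κ * ((κ⁻¹ * wordPerm x0w * κ) * (κ⁻¹ * wordPerm y0w * κ)) * κ⁻¹ := by group
        _ = κ * ((κ⁻¹ * wordPerm y0w * κ) * (κ⁻¹ * wordPerm x0w * κ)) * κ⁻¹ := by rw [h']
        _ = wordPerm y0w * wordPerm x0w := by group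
  · refine ⟨κ⁻¹ • decL t0key, smul_trios (M24.inv_mem hκ) t0_mem, ?_⟩
    intro n hn
    obtain ⟨i, h1, h6, hi⟩ := (hN n).1 hn
    have hc := normalizer_fix_t0 (hmem n) h1 h6 ((hT n i).1 hi)
    have e : (n : Equiv.Perm GolayPt) * κ⁻¹ = κ⁻¹ * (κ * (n : Equiv.Perm GolayPt) * κ⁻¹) := by group
    rw [← mul_smul, e, mul_smul, hc]

end Ord7

end Cfsg.Agent.Lib.H27
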