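/-
helper27 library: conjugacy classification of the elements of a prime order `p > 5` of `M24`, from a table of
patterns with certificates (packed tables): every such element is conjugate to a listed power of a
representative word.
-/
import Mathlib
import Cfsg.Prelude.Def_Sporadic_a
import Cfsg.Agent.Lib.H27.M24Cnt

set_option autoImplicit false

namespace Cfsg.Agent.Lib.H27

open Cfsg Cfsg.Agent.Lib.H28
open scoped Pointwise

namespace OrdP

open M24Cnt M24NF

/-- The `n`-fold iterate of a packed table at an index. -/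
def itP (T : ℕ) : ℕ → ℕ → ℕ
  | 0, k => k
  | n + 1, k => look T (itP T n k)

theorem rep_pow {T : ℕ} {x : Equiv.Perm GolayPt} (h : Rep T x) (n : ℕ) (q : GolayPt) :
    gIdx ((x ^ n) q) = itP T n (gIdx q) := by
  induction n with
  | zero => rfl
  | succ n ih =>
    rw [pow_succ', Equiv.Perm.mul_apply, h, ih]
    rfl

/-- A packed table is a permutation of order `p` (for prime `p`). -/
def isOrdP (p T : ℕ) : Bool :=
  (List.range 24).all (fun k => itP T p k == k) && (List.range 24).any (fun k => look T k != k)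

theorem isOrdP_of_order {p T : ℕ} {x : Equiv.Perm GolayPt} (h : Rep T x) (hx : orderOf x = p) (hp1 : p ≠ 1) :
    isOrdP p T = true := by
  have hp : x ^ p = 1 := by rw [← hx]; exact pow_orderOf_eq_one _
  have hne : x ≠ 1 := by
    intro h1
    rw [h1, orderOf_one] at hx
    exact hp1 hx.symm
  unfold isOrdP
  rw [Bool.and_eq_true, List.all_eq_true, List.any_eq_true]
  constructor
  · intro k hk
    rw [List.mem_range] at hk
    rw [beq_iff_eq]
    have := rep_pow h p (gPt k)
    rw [hp, Equiv.Perm.one_apply, gIdx_gPt hk] at this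
    exact this.symm
  · by_contra hcon
    apply hne
    apply Equiv.ext
    intro q
    rw [Equiv.Perm.one_apply]
    apply gIdx_injective
    rw [h]
    by_contra hq
    apply hcon
    refine ⟨gIdx q, List.mem_range.2 (gIdx_lt q), ?_⟩
    rw [bne_iff_ne]
    exact hq

/-- The check of one candidate table, with an optional certificate
(packed table of the conjugating word, the conjugating word, exponent). -/
def candOK (p : ℕ) (Rp : ℕ → ℕ) (exps : List ℕ) (Tc : ℕ) (cert : Option (ℕ × List ℕ × ℕ)) : Bool :=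
  match cert with
  | none => !(isOrdP p Tc)
  | some (Tcw, cw, i) => exps.contains i && pkOK Tcw cw &&
      (List.range 24).all (fun k => look Tcw (look Tc k) == look (Rp i) (look Tcw k))

/-- The lookup of a certificate. -/
def lookup (certs : List (ℕ × ℕ × ℕ × List ℕ × ℕ)) (z5 z6 : ℕ) : Option (ℕ × List ℕ × ℕ) :=
  (certs.find? (fun e => e.1 == z5 && e.2.1 == z6)).map (fun e => e.2.2)

/-- The check of a pattern: images `Y` of the first five base points, transversal word `tw` and its packed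
table, certificates. -/
def patOK (p : ℕ) (Rp : ℕ → ℕ) (exps : List ℕ)
    (pat : List ℕ × List ℕ × ℕ × List (ℕ × ℕ × ℕ × List ℕ × ℕ)) : Bool :=
  pkOK pat.2.2.1 pat.2.1 &&
  (List.range 5).all (fun i => look pat.2.2.1 (basePts.getD i 0) == pat.1.getD i 0) &&
  (lvT.getD 5 []).all (fun e5 => (lvT.getD 6 []).all (fun e6 =>
    candOK p Rp exps (compP pat.2.2.1 (compP e5.2 e6.2)) (lookup pat.2.2.2 e5.1 e6.1)))

theorem exists_lvT {k z : ℕ} (hk : k < 7) (hz : z < 24) (hl : levelSet k z = true) :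
    ∃ e ∈ lvT.getD k [], e.1 = z := by
  have h1 : z ∈ (lvT.getD k []).map Prod.fst := by
    rw [lvT_fst hk, List.mem_filter, List.mem_range]
    exact ⟨hz, hl⟩
  rw [List.mem_map] at h1
  obtain ⟨e, he, hez⟩ := h1
  exact ⟨e, he, hez⟩

theorem mul_eq_of_tables {Tc Tg Tr : ℕ} {c g r : Equiv.Perm GolayPt} (hc : Rep Tc c) (hg : Rep Tg g) (hr : Rep Tr r)
    (h : (List.range 24).all (fun k => look Tc (look Tg k) == look Tr (look Tc k)) = true) :
    c * g = r * c := by
  apply Equiv.ext
  intro q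
  apply gIdx_injective
  rw [Equiv.Perm.mul_apply, Equiv.Perm.mul_apply, hc, hg, hr, hc]
  have := List.all_eq_true.1 h (gIdx q) (List.mem_range.2 (gIdx_lt q))
  rwa [beq_iff_eq] at this

/-- An element of order `p` of `M24` matching a pattern is conjugate to a listed power of the representative. -/
theorem conj_of_pat {p : ℕ} (hp1 : p ≠ 1) {rw : List ℕ} {Rp : ℕ → ℕ} {exps : List ℕ}
    (hRp : ∀ i ∈ exps, pkOK (Rp i) (pw rw i) = true)
    (pat : List ℕ × List ℕ × ℕ × List (ℕ × ℕ × ℕ × List ℕ × ℕ)) (hok : patOK p Rp exps pat = true)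
    {g : Equiv.Perm GolayPt} (hg : g ∈ M24) (hord : orderOf g = p)
    (himg : ∀ i < 5, g (gPt (basePts.getD i 0)) = gPt (pat.1.getD i 0)) :
    ∃ k ∈ M24, ∃ i ∈ exps, k * g * k⁻¹ = wordPerm rw ^ i := by
  unfold patOK at hok
  rw [Bool.and_eq_true, Bool.and_eq_true, List.all_eq_true, List.all_eq_true] at hok
  obtain ⟨⟨hpk, htw⟩, hall⟩ := hok
  have hrep := rep_of_pkOK hpk
  have htw' : ∀ i < 5, evalPt pat.2.1 (basePts.getD i 0) = pat.1.getD i 0 := by
    intro i hi
    have h1 := htw i (List.mem_range.2 hi)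
    rw [beq_iff_eq] at h1
    have hb : basePts.getD i 0 < 24 := basePts_lt i (by omega)
    have h2 := List.all_eq_true.1 hpk (basePts.getD i 0) (List.mem_range.2 hb)
    rw [beq_iff_eq] at h2
    rw [← h2, h1]
  obtain ⟨z5, z6, h1, h2', h3', h4, h5⟩ := exists_cand hg pat.1 pat.2.1 htw' himg
  obtain ⟨e5, he5, hz5⟩ := exists_lvT (by norm_num : 5 < 7) h1 h3'
  obtain ⟨e6, he6, hz6⟩ := exists_lvT (by norm_num : 6 < 7) h2' h4
  have hc := List.all_eq_true.1 (hall e5 he5) e6 he6
  have hr5 := lvT_rep (by norm_num : 5 < 7) he5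
  have hr6 := lvT_rep (by norm_num : 6 < 7) he6
  rw [hz5] at hr5
  rw [hz6] at hr6
  have hrg : Rep (compP pat.2.2.1 (compP e5.2 e6.2)) g := by
    rw [h5]
    unfold candWord
    rw [wordPerm_append, wordPerm_append]
    exact hrep.mul (hr5.mul hr6)
  unfold candOK at hc
  rw [hz5, hz6] at hc
  rcases hlk : lookup pat.2.2.2 z5 z6 with _ | ⟨Tcw, cw, i⟩
  · rw [hlk] at hc
    simp only at hc
    rw [isOrdP_of_order hrg hord hp1] at hc
    simp at hc
  · rw [hlk] at hc
    simp only at hc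
    rw [Bool.and_eq_true, Bool.and_eq_true, List.contains_iff_mem] at hc
    obtain ⟨⟨hi, hcw⟩, heq⟩ := hc
    have hri : Rep (Rp i) (wordPerm rw ^ i) := by
      have := rep_of_pkOK (hRp i hi)
      rwa [wordPerm_pw] at this
    have hmul := mul_eq_of_tables (rep_of_pkOK hcw) hrg hri heq
    refine ⟨wordPerm cw, wordPerm_mem_M24 cw, i, hi, ?_⟩
    rw [hmul, mul_inv_cancel_right]

/-- A point fixed by a power of `g` prime to the order is fixed by `g`. -/
theorem fixed_of_pow_fixed {α : Type*} {g : Equiv.Perm α} {n d : ℕ} (hg : g ^ n = 1) (hcop : Nat.Coprime d n)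
    (hn : 1 < n) {q : α} (h : (g ^ d) q = q) : g q = q := by
  obtain ⟨m, -, hm⟩ := Nat.exists_mul_mod_eq_one_of_coprime hcop hn
  have h1 : (g ^ (d * m)) q = q := by
    rw [pow_mul]
    exact Equiv.Perm.pow_apply_eq_self_of_apply_eq_self h m
  have h2 : g ^ (d * m) = g := by
    conv_lhs => rw [← Nat.div_add_mod (d * m) n, hm, pow_add, pow_mul, hg, one_pow, one_mul, pow_one]
  rw [h2] at h1
  exact h1

/-- Every element of prime order `p > 5` of `M24` is conjugate to a listed power of the representative. -/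
theorem exists_conj_rep {p : ℕ} (hp : p.Prime) (hp5 : 5 < p) {rw : List ℕ} {Rp : ℕ → ℕ} {exps : List ℕ}
    (hRp : ∀ i ∈ exps, pkOK (Rp i) (pw rw i) = true)
    {patTab : List (List ℕ × List ℕ × ℕ × List (ℕ × ℕ × ℕ × List ℕ × ℕ))}
    (hok : patTab.all (patOK p Rp exps) = true)
    (hcyc : ∀ z < 24, z ≠ 23 → z ≠ 0 → z ≠ 1 → z ≠ 2 → z ≠ 3 → ∃ pat ∈ patTab, pat.1 = [0, 1, 2, 3, z])
    {g : Equiv.Perm GolayPt} (hg : g ∈ M24) (hord : orderOf g = p) :
    ∃ k ∈ M24, ∃ i ∈ exps, k * g * k⁻¹ = wordPerm rw ^ i := by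
  classical
  have hpp : g ^ p = 1 := by rw [← hord]; exact pow_orderOf_eq_one _
  have hne : g ≠ 1 := by
    intro h
    rw [h, orderOf_one] at hord
    rw [← hord] at hp5
    norm_num at hp5
  obtain ⟨a, ha⟩ : ∃ a, g a ≠ a := by
    by_contra hcon
    apply hne
    apply Equiv.ext
    intro q
    by_contra hq
    exact hcon ⟨q, hq⟩
  have hdist : ∀ i j : ℕ, i < j → j ≤ 5 → (g ^ i) a ≠ (g ^ j) a := by
    intro i j hij hj h
    have hd : (g ^ (j - i)) a = a := by
      apply (g ^ i).injective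
      rw [← Equiv.Perm.mul_apply, ← pow_add, show i + (j - i) = j by omega]
      exact h.symm
    have hcop : Nat.Coprime (j - i) p :=
      (Nat.Coprime.symm ((Nat.Prime.coprime_iff_not_dvd hp).2
        (Nat.not_dvd_of_pos_of_lt (by omega) (by omega))))
    exact ha (fixed_of_pow_fixed hpp hcop (by omega) hd)
  have hstep : ∀ i : ℕ, g ((g ^ i) a) = (g ^ (i + 1)) a := by
    intro i
    rw [pow_succ', Equiv.Perm.mul_apply]
  have hx : Function.Injective ![(g ^ 0) a, (g ^ 1) a, (g ^ 2) a, (g ^ 3) a, (g ^ 4) a] :=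
    inj5 (hdist 0 1 (by norm_num) (by norm_num)) (hdist 0 2 (by norm_num) (by norm_num))
      (hdist 0 3 (by norm_num) (by norm_num)) (hdist 0 4 (by norm_num) (by norm_num))
      (hdist 1 2 (by norm_num) (by norm_num)) (hdist 1 3 (by norm_num) (by norm_num))
      (hdist 1 4 (by norm_num) (by norm_num)) (hdist 2 3 (by norm_num) (by norm_num))
      (hdist 2 4 (by norm_num) (by norm_num)) (hdist 3 4 (by norm_num) (by norm_num))
  obtain ⟨k, hk, hmap, himg⟩ := exists_conj_base g
    ![(g ^ 0) a, (g ^ 1) a, (g ^ 2) a, (g ^ 3) a, (g ^ 4) a]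
    ![(g ^ 1) a, (g ^ 2) a, (g ^ 3) a, (g ^ 4) a, (g ^ 5) a] hx (by
      intro i
      fin_cases i
      · exact hstep 0
      · exact hstep 1
      · exact hstep 2
      · exact hstep 3
      · exact hstep 4)
  have h0 := hmap 0
  have h1 := hmap 1
  have h2 := hmap 2
  have h3 := hmap 3
  have h4 := hmap 4
  simp only [Matrix.cons_val_zero, Matrix.cons_val_one, Matrix.cons_val] at h0 h1 h2 h3 h4
  obtain ⟨z, hz⟩ : ∃ z, z = gIdx (k ((g ^ 5) a)) := ⟨_, rfl⟩
  have hy : ∀ (i : ℕ) (j : ℕ), i < 5 → k ((g ^ i) a) = gPt j → z ≠ j := by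
    intro i j hi hq h
    apply hdist i 5 hi (le_refl 5)
    apply k.injective
    rw [hq, ← h, hz, gPt_gIdx]
  obtain ⟨pat, hpat, hp1⟩ := hcyc z (by rw [hz]; exact gIdx_lt _)
    (hy 0 23 (by norm_num) h0) (hy 1 0 (by norm_num) h1) (hy 2 1 (by norm_num) h2)
    (hy 3 2 (by norm_num) h3) (hy 4 3 (by norm_num) h4)
  have ho : orderOf (k * g * k⁻¹) = p := by rw [orderOf_conj', hord]
  obtain ⟨k', hk', i, hi, h⟩ := conj_of_pat (by omega) hRp pat (List.all_eq_true.1 hok pat hpat)
    (M24.mul_mem (M24.mul_mem hk hg) (M24.inv_mem hk)) ho (by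
    rw [hp1]
    intro i hi
    have hi' := himg ⟨i, hi⟩
    simp only at hi'
    rw [hi']
    interval_cases i
    · exact h1
    · exact h2
    · exact h3
    · exact h4
    · show k ((g ^ 5) a) = gPt z
      rw [hz, gPt_gIdx])
  refine ⟨k' * k, M24.mul_mem hk' hk, i, hi, ?_⟩
  have e : k' * k * g * (k' * k)⁻¹ = k' * (k * g * k⁻¹) * k'⁻¹ := by group
  rw [e]
  exact h

end OrdP

end Cfsg.Agent.Lib.H27
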