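/-
helper27 library (generated data): the outer automorphism group of `M11`, from the rigidity theorem of
`OutF55` with kernel-checked certificates (generation chain, centralizer count, relators).
-/
import Mathlib
import Cfsg.Prelude.Def_Sporadic_a
import Cfsg.Prelude.Def_Spor_Mathieu
import Cfsg.Agent.Lib.H27.OutF55
import Cfsg.Agent.Lib.H28.M11Simple
import Cfsg.Agent.Lib.H27.M11Fix

set_option autoImplicit false

namespace Cfsg.Agent.Lib.H27

open Cfsg Cfsg.Agent.Lib.H28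
open scoped Pointwise

namespace OutM

open M24Cnt M24CntP M24NF AutRigid

/-- The third generator. -/
def vw11 : List ℕ := [0, 3, 1, 2, 0, 0, 4, 0, 1, 3, 0, 4, 1, 1, 0, 3, 0, 0, 4, 0, 4, 1, 3, 0, 4, 4, 1, 3, 3, 0, 3, 0, 3, 1, 4, 0, 4, 4, 0, 0, 3, 0, 3]

def PV11 : ℕ := 651249440069770165527960730430720032

theorem PV11_ok : pkOK PV11 vw11 = true := by decide +kernel

/-- The chain certificate (meta-words in the generators `d`, `u`, `v` and their inverses). -/
def chain11 : List (ℕ × List (List ℕ)) := [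
  (0, [[]]),
  (1, [[], [0], [3, 4], [0, 0], [4], [1, 3], [3, 1], [3], [0, 1], [4, 0, 1], [1]]),
  (2, [[], [3, 4, 4, 2], [2, 2], [1, 1, 0], [3, 4, 4, 3, 4, 4], [3, 4, 4], [1, 1, 0, 2], [2, 3, 4, 4], [1, 1, 0, 1, 1, 0], [2]]),
  (3, [[], [4, 2, 0], [4, 2, 0, 0, 5, 3, 4, 2, 0], [4, 2, 0, 4, 2, 0], [0, 2, 3, 0, 2, 3], [0, 5, 3, 4, 2, 0], [3, 5, 1], [0, 2, 3], [0, 5, 3]]),
  (4, [[], [4, 0, 4, 5, 3, 5, 0, 0, 0, 5, 3, 4], [4, 0, 4, 5, 3, 5], [2, 0, 2, 1, 3, 1, 0, 0, 0, 5, 3, 4], [0, 0, 0, 5, 3, 4, 0, 0, 0, 5, 3, 4], [0, 0, 0, 5, 3, 4], [2, 0, 2, 1, 3, 1], [1, 0, 2, 3, 3, 3]])]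

set_option maxRecDepth 100000 in
theorem chain11_ok : chainCheck [] (metaChain [dw, uw, vw11] chain11) = true := by decide +kernel

theorem chain11_prod : ((metaChain [dw, uw, vw11] chain11).map (fun c => c.2.length)).prod = 7920 := by
  decide +kernel

theorem M11_eq_G11 : Spor.M11 = G11 := by
  ext g
  rw [mem_G11]
  unfold Spor.M11 Spor.M12
  rw [Subgroup.mem_inf, Subgroup.mem_inf, MulAction.mem_stabilizer_iff,
    MulAction.mem_stabilizer_iff, M11Fix.squareDodecad_eq, M11Fix.gPt_zero]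
  constructor
  · rintro ⟨⟨h1, h2⟩, h3⟩
    exact ⟨h1, h2, h3⟩
  · rintro ⟨h1, h2, h3⟩
    exact ⟨⟨h1, h2⟩, h3⟩

theorem mem_M11' {g : Equiv.Perm GolayPt} :
    g ∈ Spor.M11 ↔ (g ∈ M24 ∧ ∀ p, dod0.testBit (gIdx (g p)) = dod0.testBit (gIdx p)) ∧ g (gPt 0) = gPt 0 := by
  rw [M11_eq_G11, mem_G11]
  constructor
  · rintro ⟨h1, h2, h3⟩
    exact ⟨mem_stabMask.1 (mem_stabMask_iff_smul.2 ⟨h1, h2⟩), h3⟩
  · rintro ⟨h1, h3⟩
    have := mem_stabMask_iff_smul.1 (mem_stabMask.2 h1)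
    exact ⟨this.1, this.2, h3⟩

theorem gens11_mem : ∀ w ∈ [dw, uw, vw11], wordPerm w ∈ Spor.M11 := by
  intro w hw
  rw [M11_eq_G11]
  simp only [List.mem_cons, List.not_mem_nil, or_false] at hw
  rcases hw with rfl | rfl | rfl
  · exact wordPerm_mem_G11 (by decide +kernel)
  · exact wordPerm_mem_G11 (by decide +kernel)
  · exact wordPerm_mem_G11 (by decide +kernel)

/-- `M11` is generated by `d`, `u`, `v`, and has order `7920`. -/
theorem closure11 : wordsClosure [dw, uw, vw11] = Spor.M11 ∧ Nat.card Spor.M11 = 7920 :=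
  closure_card_of_chain _ _ chain11 7920 gens11_mem chain11_ok chain11_prod
    (by rw [M11_eq_G11]; exact card_G11_le)

/-- The membership test on packed tables. -/
def lf11 (a : ℕ) : Bool :=
  (List.range 24).all (fun k => dod0.testBit (look a k) == dod0.testBit k) && look a 0 == 0

theorem lf11_iff (a : ℕ) (u : Equiv.Perm GolayPt) (hu : u ∈ M24) (hr : Rep a u) :
    lf11 a = true ↔ u ∈ Spor.M11 := by
  rw [mem_M11']
  unfold lf11
  rw [Bool.and_eq_true, List.all_eq_true, beq_iff_eq]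
  have h0 := hr (gPt 0)
  rw [gIdx_gPt (by norm_num)] at h0
  constructor
  · rintro ⟨h, h1⟩
    refine ⟨⟨hu, fun p => ?_⟩, ?_⟩
    · have := h (gIdx p) (List.mem_range.2 (gIdx_lt p))
      rw [beq_iff_eq] at this
      rw [hr p]
      exact this
    · apply gIdx_injective
      rw [h0, h1, gIdx_gPt (by norm_num)]
  · rintro ⟨⟨_, h⟩, h1⟩
    refine ⟨?_, ?_⟩
    · intro k hk
      rw [List.mem_range] at hk
      rw [beq_iff_eq]
      have := h (gPt k)
      rw [hr (gPt k), gIdx_gPt hk] at this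
      exact this
    · rw [h1, gIdx_gPt (by norm_num)] at h0
      exact h0.symm

/-- The pointwise necessary condition for membership. -/
def q11 (b y : ℕ) : Bool := (dod0.testBit y == dod0.testBit b) && (b != 0 || y == 0)

theorem q11_ok (u : Equiv.Perm GolayPt) (hu : u ∈ Spor.M11) (p : GolayPt) : q11 (gIdx p) (gIdx (u p)) = true := by
  rw [mem_M11'] at hu
  unfold q11
  rw [Bool.and_eq_true, beq_iff_eq, Bool.or_eq_true, bne_iff_ne, beq_iff_eq]
  refine ⟨hu.1.2 p, ?_⟩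
  by_cases hp : gIdx p = 0
  · right
    have : p = gPt 0 := by rw [← gPt_gIdx p, hp]
    rw [this, hu.2, gIdx_gPt (by norm_num)]
  · exact Or.inl hp

def ppu11 : List (List ℕ) := [[], [23], [0], [], [], [3], [4], []]

theorem ppu11_ok : ppOK PU ppu11 = true := by decide +kernel

set_option maxRecDepth 100000 in
theorem cnt11 : cntP lf11 q11 PU PU ppu11 7 0 idP = 5 := by decide +kernel

theorem v11_u : wordPerm vw11 * wordPerm uw * (wordPerm vw11)⁻¹ = wordPerm uw ^ 2 := by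
  have h : eqW (vw11 ++ uw) (pw uw 2 ++ vw11) = true := by decide +kernel
  have h2 := wordPerm_eq_of_eqW h
  rw [wordPerm_append, wordPerm_append, wordPerm_pw] at h2
  rw [h2, mul_inv_cancel_right]

/-- The data of `M11`. -/
def data11 : F55Data Spor.M11 where
  vw := vw11
  yw := uw
  PV := PV11
  PY := PU
  n := 5
  b := 2
  rels := [([0, 2, 2, 2], 3)]
  both := false
  hK := by
    intro g hg
    exact (mem_M11'.1 hg).1.1
  hPV := PV11_ok
  hPY := PU_ok
  hcl := closure11.1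
  hsq := by rw [closure11.2]; norm_num
  hyK := gens11_mem uw (by simp)
  hycomm := rfl
  hyord := u_order
  hcnt := by rw [card_intertwinersP lf11_iff q11_ok PU_ok PU_ok ppu11_ok, cnt11]
  hvu := v11_u
  hchk0 := by decide +kernel
  hchk := by decide +kernel

/-- Every automorphism of `M11` is inner. -/
theorem all_inner11 (φ : MulAut ↥Spor.M11) : ∃ g : ↥Spor.M11, φ = MulAut.conj g :=
  data11.all_inner rfl φ

end OutM

end Cfsg.Agent.Lib.H27
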