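/-
helper27 library (generated data): the outer automorphism group of `M12`, from the rigidity theorem of
`OutF55` with kernel-checked certificates (generation chain, centralizer count, relators).
-/
import Mathlib
import Cfsg.Prelude.Def_Sporadic_a
import Cfsg.Prelude.Def_Spor_Mathieu
import Cfsg.Agent.Lib.H27.OutF55
import Cfsg.Agent.Lib.H28.M12
import Cfsg.Agent.Lib.H27.M11Fix

set_option autoImplicit false

namespace Cfsg.Agent.Lib.H27

open Cfsg Cfsg.Agent.Lib.H28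
open scoped Pointwise

namespace OutM

open M24Cnt M24CntP M24NF AutRigid

/-- The third generator. -/
def vw12 : List ℕ := [0, 3, 1, 2, 3, 1, 3, 1, 4, 1, 1, 4, 1, 4, 4, 1, 1, 0, 0, 0, 0, 0, 4, 0, 0, 0, 4, 1, 4, 1, 0, 3, 0, 3, 0, 4, 1, 4, 4, 1, 3, 0, 4, 0, 4, 1, 4, 1, 1, 3, 3, 1, 3, 0, 4, 1, 4, 1, 4]

def PV12 : ℕ := 651245563028962197159478659450418563

theorem PV12_ok : pkOK PV12 vw12 = true := by decide +kernel

/-- The chain certificate (meta-words in the generators `d`, `u`, `v` and their inverses). -/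
def chain12 : List (ℕ × List (List ℕ)) := [
  (0, [[], [1, 0, 2], [4, 0, 2], [2], [0, 4, 0, 2], [0, 2], [1, 0, 0, 2], [2, 0, 2], [0, 0, 2], [3, 2], [4, 3, 2], [3, 3, 2]]),
  (1, [[], [0], [5, 0, 4, 2, 0, 2, 0], [0, 0], [4], [5, 0, 4, 2, 0, 2], [5, 3, 5, 1, 3, 2], [3], [0, 1], [3, 5, 3, 5, 1, 3, 2], [1]]),
  (2, [[], [3, 5, 0, 4, 2, 0, 2, 1, 3, 4, 4], [3, 5, 0, 4, 2, 0, 2, 1, 1, 1, 0], [1, 1, 0], [3, 4, 4, 3, 4, 4], [3, 4, 4], [4, 5, 3, 5, 1, 3, 2, 0, 3, 4, 4], [1, 1, 0, 3, 5, 0, 4, 2, 0, 2, 1, 1, 1, 0], [4, 5, 3, 5, 1, 3, 2, 0], [1, 1, 0, 3, 5, 0, 4, 2, 0, 2, 1, 3, 4, 4]]),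
  (3, [[], [5, 3, 4, 5, 0, 0, 4, 2, 3, 1, 4, 4, 0, 5, 0, 4, 2, 0, 2, 1], [4, 4, 0, 5, 0, 4, 2, 0, 2, 1], [4, 5, 3, 5, 1, 3, 2, 3, 1, 1], [4, 5, 3, 5, 1, 3, 2, 3, 1, 1, 4, 0, 5, 1, 3, 3, 2, 1, 0, 2], [4, 4, 0, 5, 0, 4, 2, 0, 2, 1, 4, 4, 0, 5, 0, 4, 2, 0, 2, 1], [4, 0, 5, 1, 3, 3, 2, 1, 0, 2], [5, 3, 4, 5, 0, 0, 4, 2, 3, 1, 4, 5, 3, 5, 1, 3, 2, 3, 1, 1], [4, 4, 0, 5, 0, 4, 2, 0, 2, 1, 4, 0, 5, 1, 3, 3, 2, 1, 0, 2]]),
  (4, [[], [5, 1, 0, 5, 0, 2, 0, 0, 2, 1, 0], [4, 5, 0, 5, 1, 3, 2, 3, 3, 4, 2, 0], [3, 4, 5, 3, 3, 5, 3, 2, 3, 4, 2], [5, 1, 0, 5, 0, 2, 0, 0, 2, 1, 0, 5, 1, 0, 5, 0, 2, 0, 0, 2, 1, 0], [3, 5, 1, 0, 0, 5, 0, 4, 2, 3, 2, 1, 5, 1, 0, 5, 0, 2, 0, 0, 2, 1, 0], [3, 5, 1, 0, 0, 5, 0, 4, 2, 3, 2, 1], [4, 5, 0, 5, 1, 3, 2, 3, 3, 4, 2, 0, 5, 1, 0, 5, 0, 2, 0, 0, 2, 1, 0]])]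

set_option maxRecDepth 100000 in
theorem chain12_ok : chainCheck [] (metaChain [dw, uw, vw12] chain12) = true := by decide +kernel

theorem chain12_prod : ((metaChain [dw, uw, vw12] chain12).map (fun c => c.2.length)).prod = 95040 := by
  decide +kernel

theorem M12_eq : Spor.M12 = stabMask dod0 := by
  unfold Spor.M12 stabMask
  rw [M11Fix.squareDodecad_eq]

theorem gens12_mem : ∀ w ∈ [dw, uw, vw12], wordPerm w ∈ Spor.M12 := by
  intro w hw
  rw [M12_eq]
  simp only [List.mem_cons, List.not_mem_nil, or_false] at hw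
  rcases hw with rfl | rfl | rfl
  · exact wordPerm_mem_stabMask (by decide +kernel)
  · exact wordPerm_mem_stabMask (by decide +kernel)
  · exact wordPerm_mem_stabMask (by decide +kernel)

/-- `M12` is generated by `d`, `u`, `v`, and has order `95040`. -/
theorem closure12 : wordsClosure [dw, uw, vw12] = Spor.M12 ∧ Nat.card Spor.M12 = 95040 :=
  closure_card_of_chain _ _ chain12 95040 gens12_mem chain12_ok chain12_prod
    (by rw [M12_eq, card_stabMask_dod0])

/-- The membership test on packed tables. -/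
def lf12 (a : ℕ) : Bool := (List.range 24).all (fun k => dod0.testBit (look a k) == dod0.testBit k)

theorem lf12_iff (a : ℕ) (u : Equiv.Perm GolayPt) (hu : u ∈ M24) (hr : Rep a u) :
    lf12 a = true ↔ u ∈ Spor.M12 := by
  rw [M12_eq, mem_stabMask]
  unfold lf12
  rw [List.all_eq_true]
  constructor
  · intro h
    refine ⟨hu, fun p => ?_⟩
    have := h (gIdx p) (List.mem_range.2 (gIdx_lt p))
    rw [beq_iff_eq] at this
    rw [hr p]
    exact this
  · rintro ⟨_, h⟩ k hk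
    rw [List.mem_range] at hk
    rw [beq_iff_eq]
    have := h (gPt k)
    rw [hr (gPt k), gIdx_gPt hk] at this
    exact this

/-- The pointwise necessary condition for membership. -/
def q12 (b y : ℕ) : Bool := dod0.testBit y == dod0.testBit b

theorem q12_ok (u : Equiv.Perm GolayPt) (hu : u ∈ Spor.M12) (p : GolayPt) : q12 (gIdx p) (gIdx (u p)) = true := by
  rw [M12_eq, mem_stabMask] at hu
  unfold q12
  rw [beq_iff_eq]
  exact hu.2 p

def ppu12 : List (List ℕ) := [[], [23], [0], [], [], [3], [4], []]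

theorem ppu12_ok : ppOK PU ppu12 = true := by decide +kernel

set_option maxRecDepth 100000 in
theorem cnt12 : cntP lf12 q12 PU PU ppu12 7 0 idP = 10 := by decide +kernel

/-- The generator of the centralizer of `u` in `M12`. -/
def yw12 : List ℕ := uw ++ vw12

def PY12 : ℕ := 649627416822804807467683621454750979

theorem PY12_ok : pkOK PY12 yw12 = true := by decide +kernel

theorem y12_order : orderOf (wordPerm yw12) = 10 := by
  have h10 : wordPerm yw12 ^ 10 = 1 := by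
    have h : eqW (pw yw12 10) [] = true := by decide +kernel
    rw [← wordPerm_pw, wordPerm_eq_of_eqW h, wordPerm_nil]
  have hne : ∀ n : ℕ, evalPt (pw yw12 n) 1 ≠ 1 → wordPerm yw12 ^ n ≠ 1 := by
    intro n h2 h
    apply h2
    have := gIdx_wordPerm (pw yw12 n) (gPt 1)
    rw [wordPerm_pw, h, Equiv.Perm.one_apply, gIdx_gPt (by norm_num)] at this
    exact this.symm
  have h5 : wordPerm yw12 ^ 5 ≠ 1 := hne 5 (by decide +kernel)
  have h2 : wordPerm yw12 ^ 2 ≠ 1 := hne 2 (by decide +kernel)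
  apply orderOf_eq_of_pow_and_pow_div_prime (by norm_num) h10
  intro p hp hdvd
  have hcases : p = 2 ∨ p = 5 := by
    have hle : p ≤ 10 := Nat.le_of_dvd (by norm_num) hdvd
    interval_cases p
    all_goals first
      | (left; rfl)
      | (right; rfl)
      | (exfalso; revert hp; norm_num; done)
      | (exfalso; revert hdvd; norm_num; done)
  rcases hcases with rfl | rfl
  · show wordPerm yw12 ^ 5 ≠ 1
    exact h5
  · show wordPerm yw12 ^ 2 ≠ 1
    exact h2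

theorem y12_u : wordPerm yw12 * wordPerm uw = wordPerm uw * wordPerm yw12 := by
  have h : eqW (yw12 ++ uw) (uw ++ yw12) = true := by decide +kernel
  have h2 := wordPerm_eq_of_eqW h
  rwa [wordPerm_append, wordPerm_append] at h2

theorem v12_u : wordPerm vw12 * wordPerm uw * (wordPerm vw12)⁻¹ = wordPerm uw ^ 1 := by
  have h : eqW (vw12 ++ uw) (pw uw 1 ++ vw12) = true := by decide +kernel
  have h2 := wordPerm_eq_of_eqW h
  rw [wordPerm_append, wordPerm_append, wordPerm_pw] at h2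
  rw [h2, mul_inv_cancel_right]

/-- The data of `M12`. -/
def data12 : F55Data Spor.M12 where
  vw := vw12
  yw := yw12
  PV := PV12
  PY := PY12
  n := 10
  b := 1
  rels := [([2], 2), ([0, 1, 2], 6)]
  both := true
  hK := by
    intro g hg
    rw [M12_eq] at hg
    exact (mem_stabMask.1 hg).1
  hPV := PV12_ok
  hPY := PY12_ok
  hcl := closure12.1
  hsq := by rw [closure12.2]; norm_num
  hyK := by
    rw [M12_eq]
    exact wordPerm_mem_stabMask (by decide +kernel)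
  hycomm := y12_u
  hyord := y12_order
  hcnt := by rw [card_intertwinersP lf12_iff q12_ok PU_ok PU_ok ppu12_ok, cnt12]
  hvu := v12_u
  hchk0 := by decide +kernel
  hchk := by decide +kernel

theorem t_swap : ∀ p : GolayPt, dod0.testBit (gIdx (wordPerm tw p)) = !dod0.testBit (gIdx p) := by
  intro p
  have h : ∀ k < 24, dod0.testBit (evalPt tw k) = !dod0.testBit k := by decide +kernel
  rw [gIdx_wordPerm]
  exact h _ (gIdx_lt p)

theorem t_not_mem12 : wordPerm tw ∉ Spor.M12 := by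
  intro h
  rw [M12_eq, mem_stabMask] at h
  have h1 := h.2 (gPt 0)
  rw [t_swap] at h1
  cases hb : dod0.testBit (gIdx (gPt 0)) <;> rw [hb] at h1 <;> exact absurd h1 (by decide)

theorem t_norm12 : ∀ g ∈ Spor.M12, wordPerm tw * g * (wordPerm tw)⁻¹ ∈ Spor.M12 := by
  intro g hg
  rw [M12_eq, mem_stabMask] at hg ⊢
  rw [t_inv]
  refine ⟨M24.mul_mem (M24.mul_mem (wordPerm_mem_M24 tw) hg.1) (wordPerm_mem_M24 tw), ?_⟩
  intro p
  rw [Equiv.Perm.mul_apply, Equiv.Perm.mul_apply, t_swap, hg.2, t_swap, Bool.not_not]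

theorem t_v12 : wordPerm tw * wordPerm vw12 * (wordPerm tw)⁻¹ = wordPerm vw12 := by
  have h : eqW (tw ++ vw12) (vw12 ++ tw) = true := by decide +kernel
  have h2 := wordPerm_eq_of_eqW h
  rw [wordPerm_append, wordPerm_append] at h2
  rw [h2, mul_inv_cancel_right]

/-- The inner automorphisms of `M12` have index two in the automorphism group. -/
theorem card_out_M12 :
    Nat.card (MulAut ↥Spor.M12 ⧸ (MulAut.conj : ↥Spor.M12 →* MulAut ↥Spor.M12).range) = 2 :=
  data12.card_out_two t_not_mem12 t_norm12 t_v12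

end OutM

end Cfsg.Agent.Lib.H27
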