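/-
helper27 library: every automorphism of `M24` is inner.
-/
import Mathlib
import Cfsg.Prelude.Def_Sporadic_a
import Cfsg.Agent.Lib.H27.OutMBase
import Cfsg.Agent.Lib.H27.Ord23

set_option autoImplicit false

namespace Cfsg.Agent.Lib.H27

open Cfsg Cfsg.Agent.Lib.H28
open scoped Pointwise

namespace OutM

open M24Cnt M24NF AutRigid

/-- The element of `M24` of a word. -/
noncomputable def mk (w : List ℕ) : ↥M24 := ⟨wordPerm w, wordPerm_mem_M24 w⟩

theorem mk_val (w : List ℕ) : ((mk w : ↥M24) : Equiv.Perm GolayPt) = wordPerm w := rfl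

/-- The relators. -/
def rels24 : List (List ℕ × ℕ) := [([0, 2], 3), ([0, 3], 6), ([0, 0, 3], 7), ([0, 3, 3], 5)]

/-- The tables of the candidate images. -/
def valsP24 (e : Bool) (j j' : ℕ) (i : ℕ) : ℕ :=
  [if e then PS else PSi, PD, compP PT (powP PD j), compP PU (powP PD j')].getD i idP

set_option maxRecDepth 100000 in
theorem chk24 : [true, false].all (fun e => (List.range 11).all (fun j => (List.range 11).all (fun j' =>
    (e && j == 0 && j' == 0) ||
      rels24.any (fun r => !(isIdP (powP (patP (valsP24 e j j') r.1) r.2)))))) = true := by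
  decide +kernel

set_option maxRecDepth 100000 in
theorem chk24_0 : rels24.all (fun r => isIdP (powP (patP (valsP24 true 0 0) r.1) r.2)) = true := by
  decide +kernel

theorem rep_valsP24 (e : Bool) (j j' : ℕ) (i : ℕ) :
    Rep (valsP24 e j j' i)
      ([if e then wordPerm sw else (wordPerm sw)⁻¹, wordPerm dw, wordPerm tw * wordPerm dw ^ j,
        wordPerm uw * wordPerm dw ^ j'].getD i 1) := by
  unfold valsP24
  match i with
  | 0 =>
    cases e
    · simp only [List.getD_cons_zero, Bool.false_eq_true, if_false]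
      rw [s_inv]
      exact rep_of_pkOK PSi_ok
    · simp only [List.getD_cons_zero, if_true]
      exact rep_of_pkOK PS_ok
  | 1 => exact rep_of_pkOK PD_ok
  | 2 => exact (rep_of_pkOK PT_ok).mul (rep_powP (rep_of_pkOK PD_ok) j)
  | 3 => exact (rep_of_pkOK PU_ok).mul (rep_powP (rep_of_pkOK PD_ok) j')
  | (i + 4) => exact rep_idP

/-- The relators hold, and pin down the candidate images. -/
theorem rel24_perm (e : Bool) (j j' : ℕ) (hj : j < 11) (hj' : j' < 11)
    (h : ∀ r ∈ rels24, (evalPat (fun i => [if e then wordPerm sw else (wordPerm sw)⁻¹, wordPerm dw,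
      wordPerm tw * wordPerm dw ^ j, wordPerm uw * wordPerm dw ^ j'].getD i 1) r.1) ^ r.2 = 1) :
    e = true ∧ j = 0 ∧ j' = 0 := by
  have h1 := List.all_eq_true.1 (List.all_eq_true.1 (List.all_eq_true.1 chk24 e (by cases e <;> simp))
    j (List.mem_range.2 hj)) j' (List.mem_range.2 hj')
  rw [Bool.or_eq_true] at h1
  rcases h1 with h1 | h1
  · rw [Bool.and_eq_true, Bool.and_eq_true, beq_iff_eq, beq_iff_eq] at h1
    exact ⟨h1.1.1, h1.1.2, h1.2⟩
  · exfalso
    rw [List.any_eq_true] at h1
    obtain ⟨r, hr, hr2⟩ := h1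
    have hrep := rep_powP (rep_patP (rep_valsP24 e j j') r.1) r.2
    rw [isIdP_of_eq_one hrep (h r hr)] at hr2
    exact absurd hr2 (by decide)

theorem rel24_0 : ∀ r ∈ rels24, (evalPat (fun i => [wordPerm sw, wordPerm dw, wordPerm tw,
    wordPerm uw].getD i 1) r.1) ^ r.2 = 1 := by
  intro r hr
  have h1 := List.all_eq_true.1 chk24_0 r hr
  have hrep := rep_powP (rep_patP (rep_valsP24 true 0 0) r.1) r.2
  have h2 := eq_one_of_isIdP hrep h1
  simp only [if_true, pow_zero, mul_one] at h2
  exact h2

/-- Coercion of patterns. -/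
theorem coe_evalPat (vals : ℕ → ↥M24) (w : List ℕ) :
    ((evalPat vals w : ↥M24) : Equiv.Perm GolayPt) = evalPat (fun i => ((vals i : ↥M24) : Equiv.Perm GolayPt)) w :=
  map_evalPat (Subgroup.subtype M24) vals w

theorem gen24 (ψ : MulAut ↥M24) (hs : ψ (mk sw) = mk sw) (ht : ψ (mk tw) = mk tw) (hu : ψ (mk uw) = mk uw) :
    ψ = 1 := by
  have key : ∀ y : Equiv.Perm GolayPt, y ∈ Subgroup.closure {permS, Cfsg.projInv, Cfsg.cubeTwist} →
      ∀ hy : y ∈ M24, ψ ⟨y, hy⟩ = ⟨y, hy⟩ := by
    intro y hy
    induction hy using Subgroup.closure_induction with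
    | mem x hx =>
      intro hxM
      rcases hx with rfl | rfl | rfl
      · have : (⟨permS, hxM⟩ : ↥M24) = mk sw := Subtype.ext (wordPerm_singleton 0).symm
        rw [this, hs]
      · have : (⟨Cfsg.projInv, hxM⟩ : ↥M24) = mk tw := Subtype.ext (wordPerm_singleton 2).symm
        rw [this, ht]
      · have : (⟨Cfsg.cubeTwist, hxM⟩ : ↥M24) = mk uw := Subtype.ext (wordPerm_singleton 3).symm
        rw [this, hu]
    | one =>
      intro h1
      exact map_one ψ
    | mul a b ha hb iha ihb =>
      intro hab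
      have haM : a ∈ M24 := genSubgroup_le_M24 ha
      have hbM : b ∈ M24 := genSubgroup_le_M24 hb
      have : (⟨a * b, hab⟩ : ↥M24) = ⟨a, haM⟩ * ⟨b, hbM⟩ := rfl
      rw [this, map_mul, iha haM, ihb hbM]
    | inv a ha iha =>
      intro hai
      have haM : a ∈ M24 := genSubgroup_le_M24 ha
      have : (⟨a⁻¹, hai⟩ : ↥M24) = (⟨a, haM⟩ : ↥M24)⁻¹ := rfl
      rw [this, map_inv, iha haM]
  ext x : 1
  have hx : (x : Equiv.Perm GolayPt) ∈ Subgroup.closure {permS, Cfsg.projInv, Cfsg.cubeTwist} := by
    have := genSubgroup_eq_M24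
    unfold genSubgroup at this
    rw [this]
    exact x.2
  have := key x.1 hx x.2
  rw [MulAut.one_apply]
  exact this

/-- Every automorphism of `M24` is inner. -/
theorem all_inner24 (φ : MulAut ↥M24) : ∃ g : ↥M24, φ = MulAut.conj g := by
  apply inner_of_data4 (mk sw) (mk dw) (mk tw) (mk uw) 11 10 3 gen24 _ _ _ _ _ _ rels24 _ _ φ
  · -- conjugacy of the elements of order 23
    intro x hx
    have ho : orderOf (x : Equiv.Perm GolayPt) = 23 := by
      rw [Subgroup.orderOf_coe, hx, ← Subgroup.orderOf_coe, mk_val, s_order]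
    obtain ⟨k, hk, h | h⟩ := Ord23.exists_conj_rep x.2 ho
    · exact ⟨⟨k, hk⟩, Or.inl (Subtype.ext h)⟩
    · exact ⟨⟨k, hk⟩, Or.inr (Subtype.ext h)⟩
  · -- the centralizer of `s`
    intro c hc
    have hc' : (c : Equiv.Perm GolayPt) * wordPerm sw = wordPerm sw * (c : Equiv.Perm GolayPt) :=
      congrArg Subtype.val hc
    obtain ⟨m, hm⟩ := Subgroup.mem_zpowers_iff.1 (centralizer_s c.2 hc')
    refine ⟨m, Subtype.ext ?_⟩
    rw [Subgroup.coe_zpow, mk_val, hm]
  · -- the centralizer of `d`
    intro c hc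
    have hc' : (c : Equiv.Perm GolayPt) * wordPerm dw = wordPerm dw * (c : Equiv.Perm GolayPt) :=
      congrArg Subtype.val hc
    have hmem := centralizer_d c.2 hc'
    classical
    rw [mem_zpowers_iff_mem_range_orderOf, d_order, Finset.mem_image] at hmem
    obtain ⟨j, hj, hjc⟩ := hmem
    rw [Finset.mem_range] at hj
    refine ⟨j, hj, Subtype.ext ?_⟩
    rw [Subgroup.coe_pow, mk_val]
    exact hjc.symm
  · exact Subtype.ext d_s
  · exact Subtype.ext t_d
  · exact Subtype.ext u_d
  · -- the relators hold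
    intro r hr
    apply Subtype.ext
    rw [Subgroup.coe_pow, coe_evalPat, Subgroup.coe_one]
    have h0 := rel24_0 r hr
    have hf : (fun i => (([mk sw, mk dw, mk tw, mk uw].getD i 1 : ↥M24) : Equiv.Perm GolayPt)) =
        (fun i => [wordPerm sw, wordPerm dw, wordPerm tw, wordPerm uw].getD i 1) := by
      funext i
      match i with
      | 0 => rfl
      | 1 => rfl
      | 2 => rfl
      | 3 => rfl
      | (i + 4) => rfl
    rw [hf]
    exact h0
  · -- the relators pin down the images
    intro s' hs' j j' hj hj' hall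
    obtain ⟨e, he⟩ : ∃ e : Bool, (s' : Equiv.Perm GolayPt) = if e then wordPerm sw else (wordPerm sw)⁻¹ := by
      rcases hs' with h | h
      · exact ⟨true, by rw [h]; rfl⟩
      · exact ⟨false, by rw [h]; rfl⟩
    have hperm := rel24_perm e j j' hj hj' (by
      intro r hr
      have h1 := congrArg Subtype.val (hall r hr)
      rw [Subgroup.coe_pow, coe_evalPat, Subgroup.coe_one] at h1
      have hf : (fun i => (([s', mk dw, mk tw * mk dw ^ j, mk uw * mk dw ^ j'].getD i 1 : ↥M24) :
          Equiv.Perm GolayPt)) =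
          (fun i => [if e then wordPerm sw else (wordPerm sw)⁻¹, wordPerm dw,
            wordPerm tw * wordPerm dw ^ j, wordPerm uw * wordPerm dw ^ j'].getD i 1) := by
        funext i
        match i with
        | 0 => exact he
        | 1 => rfl
        | 2 => rfl
        | 3 => rfl
        | (i + 4) => rfl
      rw [hf] at h1
      exact h1)
    obtain ⟨h1, h2, h3⟩ := hperm
    refine ⟨?_, h2, h3⟩
    apply Subtype.ext
    rw [he, h1]
    rfl

end OutM

end Cfsg.Agent.Lib.H27
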