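import Cfsg.Agent.Lib.H14.Kieler
import Cfsg.Agent.Lib.H14.Amalgam8
import Cfsg.Agent.Lib.H3.Wielandt
import Cfsg.Agent.Lib.H15.SubnormalSylow
import Cfsg.Agent.Lib.H10.PSSYL
import Cfsg.Agent.Lib.H11.PSOP
import Cfsg.Agent.Lib.H25.PSAK

/-!
# S2806: point stabilizers of joins of subnormal subgroups (assembly, helper27)

Blueprint `tools/blueprints/S2806.md`.  Pieces by other seats: (SYL) `Lib/H10/PSSYL` (helper10), (INF), (OP) `Lib/H11/PSOP`
(helper11), (AK) `Lib/H25/PSAK` (helper25; twins `Lib/H13/PSAK`, `Lib/H9/PSAK`).  Kieler's lemma `Lib/H14/Kieler` is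
used inside the `p`-local subgroup `N_H(Ω₁Z(T ⊓ Y))`; Wielandt's join theorem `Lib/H3/Wielandt`; `Lib/H15/SubnormalSylow`.
-/

set_option autoImplicit false
set_option linter.unusedSectionVars false
open Cfsg Cfsg.Agent.Lib.H14
open Cfsg.Agent.Lib.H10.PS Cfsg.Agent.Lib.H11.PS Cfsg.Agent.Lib.H25.PS

namespace Cfsg.Agent.Lib.H27.PS

variable {H : Type*} [Group H] [Finite H] {p : ℕ} [Fact p.Prime]

/-- a Sylow `p`-subgroup of `M` containing a given `p`-subgroup, ambient form. -/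
theorem exists_sylow_ge (M P : Subgroup H) (hPM : P ≤ M) (hP : IsPGroup p P) :
    ∃ S : Subgroup H, P ≤ S ∧ S ≤ M ∧ IsPGroup p S ∧ ¬ p ∣ S.relIndex M := by
  have hP' : IsPGroup p (P.subgroupOf M) := hP.comap_of_injective M.subtype M.subtype_injective
  obtain ⟨Q, hQ⟩ := hP'.exists_le_sylow
  refine ⟨(Q : Subgroup ↥M).map M.subtype, ?_, Subgroup.map_subtype_le _, Q.2.map _, ?_⟩
  · intro x hx
    exact ⟨⟨x, hPM hx⟩, hQ (Subgroup.mem_subgroupOf.mpr hx), rfl⟩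
  · have h1 : ((Q : Subgroup ↥M).map M.subtype).subgroupOf M = (Q : Subgroup ↥M) :=
      Subgroup.comap_map_eq_self_of_injective M.subtype_injective _
    show ¬ p ∣ (((Q : Subgroup ↥M).map M.subtype).subgroupOf M).index
    rw [h1]
    exact Q.not_dvd_index

/-- `T ⊓ X` is the only `p`-subgroup of a subnormal `X` containing it. -/
theorem inf_eq_of_le (T : Sylow p H) {X : Subgroup H} (hX : X.IsSubnormal) (S : Subgroup H)
    (hSp : IsPGroup p S) (hTS : (T : Subgroup H) ⊓ X ≤ S) : S ⊓ X = (T : Subgroup H) ⊓ X := by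
  apply le_antisymm
  · exact le_of_isPGroup_of_not_dvd_relIndex ((T : Subgroup H) ⊓ X) X (S ⊓ X) (sylow_inf T hX)
      (le_inf hTS inf_le_right) inf_le_right (hSp.to_le inf_le_left)
  · exact le_inf hTS inf_le_right

/-- (RKb) relative Kieler, downwards. -/
theorem cent_le_down (hH : Cfsg.IsOfLocalCharacteristic p H) (T : Sylow p H) {X Y : Subgroup H}
    (hX : X.IsSubnormal) (hY : Y.IsSubnormal) (hXY : X ≤ Y) (hTY : (T : Subgroup H) ⊓ Y ≠ ⊥) :
    X ⊓ Subgroup.centralizer (oz p ((T : Subgroup H) ⊓ Y) : Set H) ≤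
      Subgroup.centralizer (oz p ((T : Subgroup H) ⊓ X) : Set H) := by
  have hTYp : IsPGroup p ↥((T : Subgroup H) ⊓ Y) := T.2.to_le inf_le_left
  have hZp : IsPGroup p ↥(oz p ((T : Subgroup H) ⊓ Y)) := hTYp.to_le (oz_le p _)
  have hZ1 : oz p ((T : Subgroup H) ⊓ Y) ≠ ⊥ := oz_ne_bot _ hTYp hTY
  have hTYM : (T : Subgroup H) ⊓ Y ≤ Subgroup.normalizer (oz p ((T : Subgroup H) ⊓ Y) : Set H) :=
    Subgroup.le_normalizer.trans (nzr_le_nzr_oz p _)
  obtain ⟨S, hTYS, hSM, hSp, hS⟩ := exists_sylow_ge _ _ hTYM hTYp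
  have hSY : S ⊓ Y = (T : Subgroup H) ⊓ Y := inf_eq_of_le T hY S hSp hTYS
  have hSX : S ⊓ X = (T : Subgroup H) ⊓ X :=
    inf_eq_of_le T hX S hSp ((inf_le_inf_left _ hXY).trans hTYS)
  have kY := kieler_local hH _ hZp hZ1 S hSM hSp hS hY
  have kX := kieler_local hH _ hZp hZ1 S hSM hSp hS hX
  rw [hSY] at kY
  rw [hSX] at kX
  rintro x ⟨hxX, hxC⟩
  have hxM : x ∈ Subgroup.normalizer (oz p ((T : Subgroup H) ⊓ Y) : Set H) :=
    Subgroup.centralizer_le_normalizer _ hxC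
  have h1 : x ∈ Y ⊓ Subgroup.normalizer (oz p ((T : Subgroup H) ⊓ Y) : Set H) ⊓
      Subgroup.centralizer (oz p ((T : Subgroup H) ⊓ Y) : Set H) := ⟨⟨hXY hxX, hxM⟩, hxC⟩
  rw [← kY] at h1
  have h2 : x ∈ X ⊓ Subgroup.normalizer (oz p ((T : Subgroup H) ⊓ Y) : Set H) ⊓
      Subgroup.centralizer (oz p S : Set H) := ⟨⟨hxX, hxM⟩, h1.2⟩
  rw [kX] at h2
  exact h2.2

/-- (RKa) relative Kieler, upwards, normal step. -/
theorem cent_le_of_normal (hH : Cfsg.IsOfLocalCharacteristic p H) (T : Sylow p H) {X Y : Subgroup H}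
    (hX : X.IsSubnormal) (hY : Y.IsSubnormal) (hXY : X ≤ Y)
    (hYX : Y ≤ Subgroup.normalizer (X : Set H)) (hTX : (T : Subgroup H) ⊓ X ≠ ⊥) :
    X ⊓ Subgroup.centralizer (oz p ((T : Subgroup H) ⊓ X) : Set H) ≤
      Subgroup.centralizer (oz p ((T : Subgroup H) ⊓ Y) : Set H) := by
  have hTXp : IsPGroup p ↥((T : Subgroup H) ⊓ X) := T.2.to_le inf_le_left
  have hTYp : IsPGroup p ↥((T : Subgroup H) ⊓ Y) := T.2.to_le inf_le_left
  have hZp : IsPGroup p ↥(oz p ((T : Subgroup H) ⊓ X)) := hTXp.to_le (oz_le p _)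
  have hZ1 : oz p ((T : Subgroup H) ⊓ X) ≠ ⊥ := oz_ne_bot _ hTXp hTX
  have hTYM : (T : Subgroup H) ⊓ Y ≤ Subgroup.normalizer (oz p ((T : Subgroup H) ⊓ X) : Set H) := by
    intro t ht
    exact nzr_le_nzr_oz p _ (mem_normalizer_inf (Subgroup.le_normalizer ht.1) (hYX ht.2))
  obtain ⟨S, hTYS, hSM, hSp, hS⟩ := exists_sylow_ge _ _ hTYM hTYp
  have hSY : S ⊓ Y = (T : Subgroup H) ⊓ Y := inf_eq_of_le T hY S hSp hTYS
  have hSX : S ⊓ X = (T : Subgroup H) ⊓ X :=
    inf_eq_of_le T hX S hSp ((inf_le_inf_left _ hXY).trans hTYS)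
  have kY := kieler_local hH _ hZp hZ1 S hSM hSp hS hY
  have kX := kieler_local hH _ hZp hZ1 S hSM hSp hS hX
  rw [hSY] at kY
  rw [hSX] at kX
  rintro x ⟨hxX, hxC⟩
  have hxM : x ∈ Subgroup.normalizer (oz p ((T : Subgroup H) ⊓ X) : Set H) :=
    Subgroup.centralizer_le_normalizer _ hxC
  have h1 : x ∈ X ⊓ Subgroup.normalizer (oz p ((T : Subgroup H) ⊓ X) : Set H) ⊓
      Subgroup.centralizer (oz p ((T : Subgroup H) ⊓ X) : Set H) := ⟨⟨hxX, hxM⟩, hxC⟩
  rw [← kX] at h1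
  have h2 : x ∈ Y ⊓ Subgroup.normalizer (oz p ((T : Subgroup H) ⊓ X) : Set H) ⊓
      Subgroup.centralizer (oz p S : Set H) := ⟨⟨hXY hxX, hxM⟩, h1.2⟩
  rw [kY] at h2
  exact h2.2

/-- (RKa') relative Kieler, upwards, along a subnormal chain. -/
theorem cent_le_up_aux (hH : Cfsg.IsOfLocalCharacteristic p H) (T : Sylow p H) {X : Subgroup H}
    (hX : X.IsSubnormal) : ∀ Y : Subgroup H, Y.IsSubnormal → (T : Subgroup H) ⊓ (X ⊓ Y) ≠ ⊥ →
    (X ⊓ Y) ⊓ Subgroup.centralizer (oz p ((T : Subgroup H) ⊓ (X ⊓ Y)) : Set H) ≤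
      Subgroup.centralizer (oz p ((T : Subgroup H) ⊓ Y) : Set H) := by
  induction hX with
  | top =>
    intro Y _ _
    rw [top_inf_eq]
    exact inf_le_right
  | step A K hle hK hN ih =>
    intro Y hY hne
    have hA : A.IsSubnormal := Subgroup.IsSubnormal.step A K hle hK hN
    have hKA : K ≤ Subgroup.normalizer (A : Set H) :=
      (Subgroup.normal_subgroupOf_iff_le_normalizer hle).mp hN
    have hAY : (A ⊓ Y).IsSubnormal := isSubnormal_inf hA hY
    have hKY : (K ⊓ Y).IsSubnormal := isSubnormal_inf hK hY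
    have hle' : A ⊓ Y ≤ K ⊓ Y := inf_le_inf_right _ hle
    have hnorm : K ⊓ Y ≤ Subgroup.normalizer ((A ⊓ Y : Subgroup H) : Set H) := by
      intro k hk
      exact mem_normalizer_inf (hKA hk.1) (Subgroup.le_normalizer hk.2)
    have h1 := cent_le_of_normal hH T hAY hKY hle' hnorm hne
    have hne' : (T : Subgroup H) ⊓ (K ⊓ Y) ≠ ⊥ := by
      intro h
      apply hne
      exact le_bot_iff.mp (h ▸ inf_le_inf_left _ hle')
    have h2 := ih Y hY hne'
    intro x hx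
    exact h2 ⟨hle' hx.1, h1 hx⟩

theorem cent_le_up (hH : Cfsg.IsOfLocalCharacteristic p H) (T : Sylow p H) {X Y : Subgroup H}
    (hX : X.IsSubnormal) (hY : Y.IsSubnormal) (hXY : X ≤ Y) (hTX : (T : Subgroup H) ⊓ X ≠ ⊥) :
    X ⊓ Subgroup.centralizer (oz p ((T : Subgroup H) ⊓ X) : Set H) ≤
      Subgroup.centralizer (oz p ((T : Subgroup H) ⊓ Y) : Set H) := by
  have h := cent_le_up_aux hH T hX Y hY
  rw [inf_eq_left.mpr hXY] at h
  exact h hTX


/-- the only `p`-element of a subnormal `p'`-subgroup is `1`. -/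
theorem eq_one_of_inf_eq_bot (T : Sylow p H) {X : Subgroup H} (hX : X.IsSubnormal)
    (hTX : (T : Subgroup H) ⊓ X = ⊥) (x : H) (hxX : x ∈ X) (hx : ∃ k : ℕ, orderOf x = p ^ k) : x = 1 := by
  have h1 := sylow_inf T hX
  rw [hTX, Subgroup.relIndex_bot_left] at h1
  obtain ⟨k, hk⟩ := hx
  have h2 : orderOf x ∣ Nat.card X := by
    have := orderOf_dvd_natCard (⟨x, hxX⟩ : ↥X)
    rwa [Subgroup.orderOf_mk] at this
  rcases Nat.eq_zero_or_pos k with rfl | hk0
  · rw [pow_zero] at hk; exact orderOf_eq_one_iff.mp hk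
  · exfalso; apply h1
    rw [hk] at h2
    exact (dvd_pow_self p hk0.ne').trans h2

/-- conjugation-invariance of the subgroup generated by the `p`-elements of `B`. -/
theorem le_normalizer_pelts (B : Subgroup H) :
    B ≤ Subgroup.normalizer ((Subgroup.closure {y : H | y ∈ B ∧ ∃ k : ℕ, orderOf y = p ^ k} : Subgroup H) : Set H) := by
  apply le_nzr_of_conj_mem
  intro g hg x hx
  induction hx using Subgroup.closure_induction with
  | mem y hy =>
    apply Subgroup.subset_closure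
    refine ⟨B.mul_mem (B.mul_mem hg hy.1) (B.inv_mem hg), ?_⟩
    obtain ⟨k, hk⟩ := hy.2
    refine ⟨k, ?_⟩
    rw [← hk]
    exact (MulAut.conj g).orderOf_eq y
  | one => simp
  | mul a b _ _ ha hb =>
    have : g * (a * b) * g⁻¹ = (g * a * g⁻¹) * (g * b * g⁻¹) := by group
    rw [this]; exact Subgroup.mul_mem _ ha hb
  | inv a _ ha =>
    have : g * a⁻¹ * g⁻¹ = (g * a * g⁻¹)⁻¹ := by group
    rw [this]; exact Subgroup.inv_mem _ ha

/-- a subgroup normalized by a subnormal (in `K`) overgroup is subnormal in `K`. -/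
theorem isSubnormal_subgroupOf_of_normal {K B R : Subgroup H} (hB : (B.subgroupOf K).IsSubnormal)
    (hRB : R ≤ B) (hBR : B ≤ Subgroup.normalizer (R : Set H)) : (R.subgroupOf K).IsSubnormal := by
  have hle : R.subgroupOf K ≤ B.subgroupOf K := fun x hx => hRB hx
  refine Subgroup.IsSubnormal.step _ _ hle hB ?_
  rw [Subgroup.normal_subgroupOf_iff_le_normalizer hle]
  intro b hb
  have hb' : (b : H) ∈ Subgroup.normalizer (R : Set H) := hBR hb
  rw [Subgroup.mem_normalizer_iff] at hb' ⊢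
  intro h
  exact hb' (h : H)


/-- elements of `oz p S` commute with `S`. -/
theorem le_centralizer_oz (S : Subgroup H) : S ≤ Subgroup.centralizer (oz p S : Set H) := by
  intro s hs
  rw [Subgroup.mem_centralizer_iff]
  intro z hz
  exact ((mem_oz_props p S z hz).2.1 s hs).symm

theorem exists_orderOf_of_mem (T : Sylow p H) (y : H) (hy : y ∈ (T : Subgroup H)) :
    ∃ k : ℕ, orderOf y = p ^ k := by
  obtain ⟨k, hk⟩ := T.2 ⟨y, hy⟩
  have h1 : y ^ p ^ k = 1 := by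
    have := congrArg Subtype.val hk
    simpa using this
  obtain ⟨j, -, hj⟩ := (Nat.dvd_prime_pow (Fact.out : p.Prime)).mp (orderOf_dvd_of_pow_eq_one h1)
  exact ⟨j, hj⟩

/-- monotonicity of point stabilizers. -/
theorem pointStabilizer_mono (hH : Cfsg.IsOfLocalCharacteristic p H) (T : Sylow p H) {X Y : Subgroup H}
    (hX : X.IsSubnormal) (hY : Y.IsSubnormal) (hXY : X ≤ Y) :
    Cfsg.pointStabilizer p X ((T : Subgroup H) ⊓ X) ≤ Cfsg.pointStabilizer p Y ((T : Subgroup H) ⊓ Y) := by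
  unfold Cfsg.pointStabilizer
  rw [Subgroup.closure_le]
  rintro x ⟨hx, hxo⟩
  by_cases hTX : (T : Subgroup H) ⊓ X = ⊥
  · rw [eq_one_of_inf_eq_bot T hX hTX x hx.1 hxo]
    exact Subgroup.one_mem _
  · exact Subgroup.subset_closure ⟨⟨hXY hx.1, cent_le_up hH T hX hY hXY hTX hx⟩, hxo⟩

theorem main (hH : Cfsg.IsOfLocalCharacteristic p H) (T : Sylow p H) (L₁ L₂ : Subgroup H)
    (h₁ : L₁.IsSubnormal) (h₂ : L₂.IsSubnormal) :
    Cfsg.pointStabilizer p (L₁ ⊔ L₂) ((T : Subgroup H) ⊓ (L₁ ⊔ L₂)) =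
      Cfsg.pointStabilizer p L₁ ((T : Subgroup H) ⊓ L₁) ⊔
        Cfsg.pointStabilizer p L₂ ((T : Subgroup H) ⊓ L₂) := by
  have hL : (L₁ ⊔ L₂).IsSubnormal := Cfsg.Agent.Lib.H3.isSubnormal_sup _ H rfl L₁ L₂ h₁ h₂
  apply le_antisymm
  · -- `≤`
    unfold Cfsg.pointStabilizer
    rw [Subgroup.closure_le]
    rintro x ⟨hxK, hxo⟩
    by_cases hTL : (T : Subgroup H) ⊓ (L₁ ⊔ L₂) = ⊥
    · rw [eq_one_of_inf_eq_bot T hL hTL x hxK.1 hxo]
      exact Subgroup.one_mem _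
    set ZL := oz p ((T : Subgroup H) ⊓ (L₁ ⊔ L₂)) with hZL
    set K : Subgroup H := (L₁ ⊔ L₂) ⊓ Subgroup.centralizer (ZL : Set H) with hK
    -- the two generating pieces
    set R₁ : Subgroup H := Subgroup.closure {y : H | y ∈ L₁ ⊓ Subgroup.centralizer (ZL : Set H) ∧
      ∃ k : ℕ, orderOf y = p ^ k} with hR₁
    set R₂ : Subgroup H := Subgroup.closure {y : H | y ∈ L₂ ⊓ Subgroup.centralizer (ZL : Set H) ∧
      ∃ k : ℕ, orderOf y = p ^ k} with hR₂
    have hN₁K : L₁ ⊓ Subgroup.centralizer (ZL : Set H) ≤ K := inf_le_inf_right _ le_sup_left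
    have hN₂K : L₂ ⊓ Subgroup.centralizer (ZL : Set H) ≤ K := inf_le_inf_right _ le_sup_right
    have hR₁N : R₁ ≤ L₁ ⊓ Subgroup.centralizer (ZL : Set H) := by
      rw [hR₁, Subgroup.closure_le]; exact fun y hy => hy.1
    have hR₂N : R₂ ≤ L₂ ⊓ Subgroup.centralizer (ZL : Set H) := by
      rw [hR₂, Subgroup.closure_le]; exact fun y hy => hy.1
    have hR₁P : R₁ ≤ Cfsg.pointStabilizer p L₁ ((T : Subgroup H) ⊓ L₁) := by
      unfold Cfsg.pointStabilizer
      apply Subgroup.closure_mono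
      rintro y ⟨hy, hyo⟩
      exact ⟨⟨hy.1, cent_le_down hH T h₁ hL le_sup_left hTL hy⟩, hyo⟩
    have hR₂P : R₂ ≤ Cfsg.pointStabilizer p L₂ ((T : Subgroup H) ⊓ L₂) := by
      unfold Cfsg.pointStabilizer
      apply Subgroup.closure_mono
      rintro y ⟨hy, hyo⟩
      exact ⟨⟨hy.1, cent_le_down hH T h₂ hL le_sup_right hTL hy⟩, hyo⟩
    -- subnormality in `K`
    have hsub : ∀ (Li : Subgroup H), Li.IsSubnormal →
        (((Li ⊓ Subgroup.centralizer (ZL : Set H) : Subgroup H)).subgroupOf K).IsSubnormal := by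
      intro Li hLi
      have h := hLi.subgroupOf (K := K)
      have e : (Li ⊓ Subgroup.centralizer (ZL : Set H) : Subgroup H).subgroupOf K = Li.subgroupOf K := by
        ext k
        simp only [Subgroup.mem_subgroupOf, Subgroup.mem_inf]
        exact ⟨fun h => h.1, fun h => ⟨h, k.2.2⟩⟩
      rw [e]; exact h
    have hS₁ : (R₁.subgroupOf K).IsSubnormal :=
      isSubnormal_subgroupOf_of_normal (hsub L₁ h₁) hR₁N (le_normalizer_pelts _)
    have hS₂ : (R₂.subgroupOf K).IsSubnormal :=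
      isSubnormal_subgroupOf_of_normal (hsub L₂ h₂) hR₂N (le_normalizer_pelts _)
    have hS : ((R₁ ⊔ R₂).subgroupOf K).IsSubnormal := by
      rw [Subgroup.subgroupOf_sup (hR₁N.trans hN₁K) (hR₂N.trans hN₂K)]
      exact Cfsg.Agent.Lib.H3.isSubnormal_sup _ ↥K rfl _ _ hS₁ hS₂
    -- the Sylow subgroup `T ⊓ L` of `K`
    have hTLK : (T : Subgroup H) ⊓ (L₁ ⊔ L₂) ≤ K := le_inf inf_le_right (le_centralizer_oz _)
    have hTLp : IsPGroup p ↥(((T : Subgroup H) ⊓ (L₁ ⊔ L₂)).subgroupOf K) :=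
      (T.2.to_le inf_le_left).comap_of_injective K.subtype K.subtype_injective
    have hidx : ¬ p ∣ (((T : Subgroup H) ⊓ (L₁ ⊔ L₂)).subgroupOf K).index := by
      intro h
      apply sylow_inf T hL
      rw [← Subgroup.relIndex_mul_relIndex _ K (L₁ ⊔ L₂) hTLK inf_le_left]
      exact Dvd.dvd.mul_right h _
    have hTLR : ((T : Subgroup H) ⊓ (L₁ ⊔ L₂)).subgroupOf K ≤ (R₁ ⊔ R₂).subgroupOf K := by
      intro k hk
      have hk' : (k : H) ∈ (T : Subgroup H) ⊓ (L₁ ⊔ L₂) := hk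
      rw [inf_comm, Cfsg.Agent.Lib.H15.sup_inf_eq_of_isSubnormal (T : Subgroup H) T.2 T.not_dvd_index h₁ h₂] at hk'
      have key : ∀ (Li : Subgroup H), Li ≤ L₁ ⊔ L₂ → ∀ y ∈ Li ⊓ (T : Subgroup H),
          y ∈ Subgroup.closure {y : H | y ∈ Li ⊓ Subgroup.centralizer (ZL : Set H) ∧
            ∃ k : ℕ, orderOf y = p ^ k} := by
        intro Li hLi y hy
        apply Subgroup.subset_closure
        refine ⟨⟨hy.1, ?_⟩, exists_orderOf_of_mem T y hy.2⟩
        exact le_centralizer_oz _ ⟨hy.2, hLi hy.1⟩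
      have : (L₁ ⊓ (T : Subgroup H)) ⊔ (L₂ ⊓ (T : Subgroup H)) ≤ R₁ ⊔ R₂ :=
        sup_le_sup (fun y hy => key L₁ le_sup_left y hy) (fun y hy => key L₂ le_sup_right y hy)
      exact this hk'
    have hx' := mem_of_isSubnormal_of_sylow_le (p := p) _ _ hS hTLp hidx hTLR (⟨x, hxK⟩ : ↥K)
      (by rw [Subgroup.orderOf_mk]; exact hxo)
    exact (sup_le_sup hR₁P hR₂P) hx'
  · exact sup_le (pointStabilizer_mono hH T h₁ hL le_sup_left)
      (pointStabilizer_mono hH T h₂ hL le_sup_right)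

end Cfsg.Agent.Lib.H27.PS
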