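import Mathlib
import Cfsg.Agent.Lib.H28.PSp4Defs

/-!
# S5320, piece E0 (helper27): the elements of `Et Q = Δ(Q) ∘ ⟨Φ(-1,1), sw⟩`
-/

set_option autoImplicit false
set_option linter.unusedSectionVars false

namespace Cfsg.Agent.Lib.H27.PSp4

open Matrix Cfsg.Agent.Lib.H9.SqC Cfsg.Agent.Lib.H28.PSp4

variable {F : Type*} [Field F]

/-- the relation `a ∈ Q`, `b = ± a` -/
def Rel (Q : Subgroup (SL2 F)) (a b : SL2 F) : Prop := a ∈ Q ∧ (b = a ∨ b = -a)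

theorem neg_mem_of {Q : Subgroup (SL2 F)} (hneg : (-1 : SL2 F) ∈ Q) {a : SL2 F} (ha : a ∈ Q) : -a ∈ Q := by
  have : -a = (-1) * a := by rw [neg_one_mul]
  rw [this]
  exact Q.mul_mem hneg ha

theorem inv_neg_sl2 (a : SL2 F) : (-a)⁻¹ = -a⁻¹ := by
  apply inv_eq_of_mul_eq_one_right
  rw [neg_mul_neg, mul_inv_cancel]

theorem Rel.mem_right {Q : Subgroup (SL2 F)} (hneg : (-1 : SL2 F) ∈ Q) {a b : SL2 F} (h : Rel Q a b) : b ∈ Q := by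
  rcases h with ⟨ha, rfl | rfl⟩
  · exact ha
  · exact neg_mem_of hneg ha

theorem Rel.mul {Q : Subgroup (SL2 F)} {a b c d : SL2 F} (h : Rel Q a b) (h' : Rel Q c d) :
    Rel Q (a * c) (b * d) := by
  rcases h with ⟨ha, rfl | rfl⟩ <;> rcases h' with ⟨hc, rfl | rfl⟩
  · exact ⟨Q.mul_mem ha hc, Or.inl rfl⟩
  · exact ⟨Q.mul_mem ha hc, Or.inr (mul_neg _ _)⟩
  · exact ⟨Q.mul_mem ha hc, Or.inr (neg_mul _ _)⟩
  · exact ⟨Q.mul_mem ha hc, Or.inl (neg_mul_neg _ _)⟩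

theorem Rel.mul' {Q : Subgroup (SL2 F)} (hneg : (-1 : SL2 F) ∈ Q) {a b c d : SL2 F} (h : Rel Q a b)
    (h' : Rel Q c d) : Rel Q (a * d) (b * c) := by
  rcases h with ⟨ha, rfl | rfl⟩ <;> rcases h' with ⟨hc, rfl | rfl⟩
  · exact ⟨Q.mul_mem ha hc, Or.inl rfl⟩
  · exact ⟨Q.mul_mem ha (neg_mem_of hneg hc), Or.inr (by rw [mul_neg, neg_neg])⟩
  · exact ⟨Q.mul_mem ha hc, Or.inr (neg_mul _ _)⟩
  · exact ⟨Q.mul_mem ha (neg_mem_of hneg hc), Or.inl (by rw [neg_mul, mul_neg])⟩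

theorem Rel.inv {Q : Subgroup (SL2 F)} {a b : SL2 F} (h : Rel Q a b) : Rel Q a⁻¹ b⁻¹ := by
  rcases h with ⟨ha, rfl | rfl⟩
  · exact ⟨Q.inv_mem ha, Or.inl rfl⟩
  · exact ⟨Q.inv_mem ha, Or.inr (inv_neg_sl2 a)⟩

theorem Rel.symm {Q : Subgroup (SL2 F)} (hneg : (-1 : SL2 F) ∈ Q) {a b : SL2 F} (h : Rel Q a b) :
    Rel Q b a := by
  rcases h with ⟨ha, rfl | rfl⟩
  · exact ⟨ha, Or.inl rfl⟩
  · exact ⟨neg_mem_of hneg ha, Or.inr (neg_neg a).symm⟩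

/-- the set of the elements `Φ(a, ±a)`, `Φ(a, ±a) sw`, `a ∈ Q`, as a subgroup -/
def EtSub (Q : Subgroup (SL2 F)) (hneg : (-1 : SL2 F) ∈ Q) : Subgroup (Sp4 F) where
  carrier := {g | ∃ a b, Rel Q a b ∧ (g = Ph a b ∨ g = Ph a b * sw)}
  one_mem' := ⟨1, 1, ⟨Q.one_mem, Or.inl rfl⟩, Or.inl Ph_one.symm⟩
  mul_mem' := by
    rintro _ _ ⟨a, b, h, rfl | rfl⟩ ⟨c, d, h', rfl | rfl⟩
    · exact ⟨a * c, b * d, h.mul h', Or.inl (Ph_mul _ _ _ _)⟩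
    · exact ⟨a * c, b * d, h.mul h', Or.inr (by rw [← mul_assoc, Ph_mul])⟩
    · exact ⟨a * d, b * c, h.mul' hneg h', Or.inr (by rw [mul_assoc, sw_mul_Ph, ← mul_assoc, Ph_mul])⟩
    · exact ⟨a * d, b * c, h.mul' hneg h',
        Or.inl (by rw [mul_assoc, ← mul_assoc sw, sw_mul_Ph, mul_assoc _ sw, sw_mul_sw, mul_one, Ph_mul])⟩
  inv_mem' := by
    rintro _ ⟨a, b, h, rfl | rfl⟩
    · exact ⟨a⁻¹, b⁻¹, h.inv, Or.inl (Ph_inv a b)⟩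
    · exact ⟨b⁻¹, a⁻¹, (h.symm hneg).inv,
        Or.inr (by rw [_root_.mul_inv_rev, sw_inv, Ph_inv, sw_mul_Ph])⟩

theorem mem_EtSub {Q : Subgroup (SL2 F)} (hneg : (-1 : SL2 F) ∈ Q) {g : Sp4 F} :
    g ∈ EtSub Q hneg ↔ ∃ a b, Rel Q a b ∧ (g = Ph a b ∨ g = Ph a b * sw) := Iff.rfl

theorem Et_le_EtSub {Q : Subgroup (SL2 F)} (hneg : (-1 : SL2 F) ∈ Q) : Et Q ≤ EtSub Q hneg := by
  unfold Et
  refine sup_le (sup_le ?_ ?_) ?_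
  · rintro _ ⟨a, ha, rfl⟩
    exact ⟨a, a, ⟨ha, Or.inl rfl⟩, Or.inl rfl⟩
  · rw [Subgroup.zpowers_le]
    exact ⟨-1, 1, ⟨hneg, Or.inr (neg_neg 1).symm⟩, Or.inl rfl⟩
  · rw [Subgroup.zpowers_le]
    exact ⟨1, 1, ⟨Q.one_mem, Or.inl rfl⟩, Or.inr (by rw [Ph_one, one_mul])⟩

theorem Ph_self_mem_Et {Q : Subgroup (SL2 F)} {a : SL2 F} (ha : a ∈ Q) : Ph a a ∈ Et Q := by
  unfold Et
  exact le_sup_left (a := Q.map Dg ⊔ Subgroup.zpowers (Ph (-1) 1)) (le_sup_left (a := Q.map Dg) ⟨a, ha, rfl⟩)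

theorem Ph_neg_one_one_mem_Et (Q : Subgroup (SL2 F)) : Ph (-1 : SL2 F) 1 ∈ Et Q := by
  unfold Et
  exact le_sup_left (a := Q.map Dg ⊔ Subgroup.zpowers (Ph (-1) 1))
    (le_sup_right (a := Q.map Dg) (Subgroup.mem_zpowers _))

theorem sw_mem_Et (Q : Subgroup (SL2 F)) : (sw : Sp4 F) ∈ Et Q := by
  unfold Et
  exact le_sup_right (a := Q.map Dg ⊔ Subgroup.zpowers (Ph (-1) 1)) (Subgroup.mem_zpowers _)

theorem Ph_neg_mem_Et {Q : Subgroup (SL2 F)} (hneg : (-1 : SL2 F) ∈ Q) {a : SL2 F} (ha : a ∈ Q) :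
    Ph a (-a) ∈ Et Q := by
  have e : Ph a (-a) = Ph a a * (Ph (-1) (-1) * Ph (-1) 1) := by
    rw [Ph_mul, Ph_mul, neg_mul_neg, one_mul, mul_one, mul_one, mul_neg, mul_one]
  rw [e]
  exact (Et Q).mul_mem (Ph_self_mem_Et ha) ((Et Q).mul_mem (Ph_self_mem_Et hneg) (Ph_neg_one_one_mem_Et Q))

/-- **E0**. -/
theorem mem_Et_iff {Q : Subgroup (SL2 F)} (hneg : (-1 : SL2 F) ∈ Q) {g : Sp4 F} :
    g ∈ Et Q ↔ ∃ a ∈ Q, g = Ph a a ∨ g = Ph a (-a) ∨ g = Ph a a * sw ∨ g = Ph a (-a) * sw := by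
  constructor
  · intro hg
    obtain ⟨a, b, ⟨ha, hb⟩, hg'⟩ := Et_le_EtSub hneg hg
    refine ⟨a, ha, ?_⟩
    rcases hb with hb | hb <;> rcases hg' with hg' | hg' <;> rw [hg', hb]
    · exact Or.inl rfl
    · exact Or.inr (Or.inr (Or.inl rfl))
    · exact Or.inr (Or.inl rfl)
    · exact Or.inr (Or.inr (Or.inr rfl))
  · rintro ⟨a, ha, rfl | rfl | rfl | rfl⟩
    · exact Ph_self_mem_Et ha
    · exact Ph_neg_mem_Et hneg ha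
    · exact (Et Q).mul_mem (Ph_self_mem_Et ha) (sw_mem_Et Q)
    · exact (Et Q).mul_mem (Ph_neg_mem_Et hneg ha) (sw_mem_Et Q)

end Cfsg.Agent.Lib.H27.PSp4
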