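import Mathlib
import Cfsg.Agent.Lib.H28.PSp4Defs
import Cfsg.Agent.Lib.H27.PSp4E0

/-!
# S5320, piece E1 (helper27): `Et Q ≤ St Q`, and `St Q` normalizes `Et Q` when `Q / {±1}` is elementary abelian
-/

set_option autoImplicit false
set_option linter.unusedSectionVars false

namespace Cfsg.Agent.Lib.H27.PSp4

open Matrix Cfsg.Agent.Lib.H9.SqC Cfsg.Agent.Lib.H28.PSp4

variable {F : Type*} [Field F]

/-- a criterion for the membership in the normalizer -/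
theorem mem_normalizer_of_conj {G : Type*} [Group G] (H : Subgroup G) (g : G)
    (h1 : ∀ h ∈ H, g * h * g⁻¹ ∈ H) (h2 : ∀ h ∈ H, g⁻¹ * h * g ∈ H) :
    g ∈ Subgroup.normalizer (H : Set G) := by
  rw [Subgroup.mem_normalizer_iff]
  intro h
  constructor
  · exact h1 h
  · intro hh
    have := h2 _ hh
    have e : g⁻¹ * (g * h * g⁻¹) * g = h := by group
    rwa [e] at this

/-- **E1** (a). -/
theorem Et_le_St {Q : Subgroup (SL2 F)} (hneg : (-1 : SL2 F) ∈ Q) : Et Q ≤ St Q := by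
  intro g hg
  obtain ⟨a, ha, rfl | rfl | rfl | rfl⟩ := (mem_Et_iff hneg).1 hg
  · exact Ph_mem_St.2 ⟨ha, ha⟩
  · exact Ph_mem_St.2 ⟨ha, neg_mem_of hneg ha⟩
  · exact Ph_mul_sw_mem_St.2 ⟨ha, ha⟩
  · exact Ph_mul_sw_mem_St.2 ⟨ha, neg_mem_of hneg ha⟩

/-- equality up to sign -/
def PM (x y : SL2 F) : Prop := x = y ∨ x = -y

theorem PM.refl (x : SL2 F) : PM x x := Or.inl rfl

theorem PM.symm {x y : SL2 F} (h : PM x y) : PM y x := by
  rcases h with rfl | rfl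
  · exact Or.inl rfl
  · exact Or.inr (neg_neg y).symm

theorem PM.trans {x y z : SL2 F} (h : PM x y) (h' : PM y z) : PM x z := by
  rcases h with rfl | rfl <;> rcases h' with rfl | rfl
  · exact Or.inl rfl
  · exact Or.inr rfl
  · exact Or.inr rfl
  · exact Or.inl (neg_neg z)

theorem PM.mul {x y x' y' : SL2 F} (h : PM x y) (h' : PM x' y') : PM (x * x') (y * y') := by
  rcases h with rfl | rfl <;> rcases h' with rfl | rfl
  · exact Or.inl rfl
  · exact Or.inr (mul_neg _ _)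
  · exact Or.inr (neg_mul _ _)
  · exact Or.inl (neg_mul_neg _ _)

theorem PM.inv {x y : SL2 F} (h : PM x y) : PM x⁻¹ y⁻¹ := by
  rcases h with rfl | rfl
  · exact Or.inl rfl
  · exact Or.inr (inv_neg_sl2 y)

section

variable {Q : Subgroup (SL2 F)} (hneg : (-1 : SL2 F) ∈ Q)
  (hcomm : ∀ a ∈ Q, ∀ b ∈ Q, a * b = b * a ∨ a * b = -(b * a))
  (hsq : ∀ q ∈ Q, q * q = 1 ∨ q * q = -1)

include hcomm in
theorem pm_conj {a c : SL2 F} (ha : a ∈ Q) (hc : c ∈ Q) : PM (a * c * a⁻¹) c := by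
  rcases hcomm a ha c hc with h | h
  · left
    rw [h, mul_assoc, mul_inv_cancel, mul_one]
  · right
    rw [h, neg_mul, mul_assoc, mul_inv_cancel, mul_one]

include hsq in
theorem pm_inv {q : SL2 F} (hq : q ∈ Q) : PM q⁻¹ q := by
  rcases hsq q hq with h | h
  · left
    exact inv_eq_of_mul_eq_one_right h
  · right
    apply inv_eq_of_mul_eq_one_right
    rw [mul_neg, h, neg_neg]

include hcomm hsq in
theorem pm_cross {a b c : SL2 F} (ha : a ∈ Q) (hb : b ∈ Q) (hc : c ∈ Q) :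
    PM (b * c * a⁻¹) (a * c * b⁻¹) := by
  have e1 : b * c * a⁻¹ = (b * c * b⁻¹) * (b * a⁻¹) := by group
  have e2 : a * c * b⁻¹ = (a * b⁻¹) * (b * c * b⁻¹) := by group
  have h1 : PM (b * c * b⁻¹) c := pm_conj hcomm hb hc
  have h2 : PM (b * a⁻¹) (a * b⁻¹) := by
    have h := pm_inv hsq (Q.mul_mem ha (Q.inv_mem hb))
    have e : (a * b⁻¹)⁻¹ = b * a⁻¹ := by group
    rwa [e] at h
  have h3 : PM (c * (a * b⁻¹)) ((a * b⁻¹) * c) := by
    rcases hcomm c hc _ (Q.mul_mem ha (Q.inv_mem hb)) with h | h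
    · exact Or.inl h
    · exact Or.inr h
  rw [e1, e2]
  exact ((h1.mul h2).trans h3).trans ((PM.refl _).mul h1.symm)

include hneg hcomm hsq in
theorem conj_Ph_mem_Et {a b : SL2 F} (ha : a ∈ Q) (hb : b ∈ Q) {e : Sp4 F} (he : e ∈ Et Q) :
    Ph a b * e * (Ph a b)⁻¹ ∈ Et Q := by
  obtain ⟨c, d, ⟨hc, hd⟩, he'⟩ := Et_le_EtSub hneg he
  have hdQ : d ∈ Q := Rel.mem_right hneg ⟨hc, hd⟩
  have hdc : PM d c := hd
  rcases he' with rfl | rfl
  · have e1 : Ph a b * Ph c d * (Ph a b)⁻¹ = Ph (a * c * a⁻¹) (b * d * b⁻¹) := by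
      rw [Ph_inv, Ph_mul, Ph_mul]
    rw [e1]
    have hQ1 : a * c * a⁻¹ ∈ Q := Q.mul_mem (Q.mul_mem ha hc) (Q.inv_mem ha)
    have hpm : PM (b * d * b⁻¹) (a * c * a⁻¹) :=
      ((pm_conj hcomm hb hdQ).trans hdc).trans (pm_conj hcomm ha hc).symm
    rcases hpm with h | h
    · rw [h]; exact Ph_self_mem_Et hQ1
    · rw [h]; exact Ph_neg_mem_Et hneg hQ1
  · have e1 : Ph a b * (Ph c d * sw) * (Ph a b)⁻¹ = Ph (a * c * b⁻¹) (b * d * a⁻¹) * sw := by
      rw [Ph_inv, mul_assoc, mul_assoc, sw_mul_Ph, ← mul_assoc, ← mul_assoc, Ph_mul, Ph_mul]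
    rw [e1]
    have hQ1 : a * c * b⁻¹ ∈ Q := Q.mul_mem (Q.mul_mem ha hc) (Q.inv_mem hb)
    have hpm : PM (b * d * a⁻¹) (a * c * b⁻¹) :=
      (((PM.refl b).mul hdc).mul (PM.refl a⁻¹)).trans (pm_cross hcomm hsq ha hb hc)
    rcases hpm with h | h
    · rw [h]; exact (Et Q).mul_mem (Ph_self_mem_Et hQ1) (sw_mem_Et Q)
    · rw [h]; exact (Et Q).mul_mem (Ph_neg_mem_Et hneg hQ1) (sw_mem_Et Q)

include hneg hcomm hsq in
theorem conj_St_mem_Et {s : Sp4 F} (hs : s ∈ St Q) {e : Sp4 F} (he : e ∈ Et Q) :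
    s * e * s⁻¹ ∈ Et Q := by
  obtain ⟨a, ha, b, hb, rfl | rfl⟩ := hs
  · exact conj_Ph_mem_Et hneg hcomm hsq ha hb he
  · have e1 : Ph a b * sw * e * (Ph a b * sw)⁻¹ = Ph a b * (sw * e * sw⁻¹) * (Ph a b)⁻¹ := by group
    rw [e1]
    apply conj_Ph_mem_Et hneg hcomm hsq ha hb
    exact (Et Q).mul_mem ((Et Q).mul_mem (sw_mem_Et Q) he) ((Et Q).inv_mem (sw_mem_Et Q))

end

/-- **E1** (b).  `St Q` normalizes `Et Q` when `Q' ≤ {±1}` and `Q` has exponent four. -/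
theorem St_le_normalizer_Et {Q : Subgroup (SL2 F)} (hneg : (-1 : SL2 F) ∈ Q)
    (hcomm : ∀ a ∈ Q, ∀ b ∈ Q, a * b = b * a ∨ a * b = -(b * a))
    (hsq : ∀ q ∈ Q, q * q = 1 ∨ q * q = -1) :
    St Q ≤ Subgroup.normalizer (Et Q : Set (Sp4 F)) := by
  intro s hs
  apply mem_normalizer_of_conj
  · intro e he
    exact conj_St_mem_Et hneg hcomm hsq hs he
  · intro e he
    have := conj_St_mem_Et hneg hcomm hsq ((St Q).inv_mem hs) he
    rwa [inv_inv] at this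

end Cfsg.Agent.Lib.H27.PSp4
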