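import Mathlib
import Cfsg.Agent.Lib.H28.PSp4Defs
import Cfsg.Agent.Lib.H27.PSp4E1

/-!
# S5320, piece E4 (helper27): `Δ(k)`, `k ∈ N(Q)`, normalizes `St Q` and `Et Q`
-/

set_option autoImplicit false
set_option linter.unusedSectionVars false

namespace Cfsg.Agent.Lib.H27.PSp4

open Matrix Cfsg.Agent.Lib.H9.SqC Cfsg.Agent.Lib.H28.PSp4

variable {F : Type*} [Field F]

theorem conj_mem_of_normalizer {Q : Subgroup (SL2 F)} {k : SL2 F}
    (hk : k ∈ Subgroup.normalizer (Q : Set (SL2 F))) {a : SL2 F} (ha : a ∈ Q) : k * a * k⁻¹ ∈ Q :=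
  (Subgroup.mem_normalizer_iff.1 hk a).1 ha

theorem neg_one_central (k : SL2 F) : k * (-1) * k⁻¹ = -1 := by
  rw [mul_neg, mul_one, neg_mul, mul_inv_cancel]

theorem Dg_conj_St {Q : Subgroup (SL2 F)} {k : SL2 F}
    (hk : k ∈ Subgroup.normalizer (Q : Set (SL2 F))) {g : Sp4 F} (hg : g ∈ St Q) :
    Ph k k * g * (Ph k k)⁻¹ ∈ St Q := by
  obtain ⟨a, ha, b, hb, rfl | rfl⟩ := hg
  · rw [Ph_inv, Ph_mul, Ph_mul]
    exact Ph_mem_St.2 ⟨conj_mem_of_normalizer hk ha, conj_mem_of_normalizer hk hb⟩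
  · have e : Ph k k * (Ph a b * sw) * (Ph k k)⁻¹ = Ph (k * a * k⁻¹) (k * b * k⁻¹) * sw := by
      rw [Ph_inv, mul_assoc, mul_assoc, sw_mul_Ph, ← mul_assoc, ← mul_assoc, Ph_mul, Ph_mul]
    rw [e]
    exact Ph_mul_sw_mem_St.2 ⟨conj_mem_of_normalizer hk ha, conj_mem_of_normalizer hk hb⟩

theorem Dg_conj_Et {Q : Subgroup (SL2 F)} {k : SL2 F}
    (hk : k ∈ Subgroup.normalizer (Q : Set (SL2 F))) {g : Sp4 F} (hg : g ∈ Et Q) :
    Ph k k * g * (Ph k k)⁻¹ ∈ Et Q := by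
  have hle : Et Q ≤ (Et Q).comap (MulAut.conj (Ph k k)).toMonoidHom := by
    unfold Et
    refine sup_le (sup_le ?_ ?_) ?_
    · rintro _ ⟨a, ha, rfl⟩
      rw [Subgroup.mem_comap]
      show Ph k k * Ph a a * (Ph k k)⁻¹ ∈ _
      rw [Ph_inv, Ph_mul, Ph_mul]
      exact Ph_self_mem_Et (conj_mem_of_normalizer hk ha)
    · rw [Subgroup.zpowers_le, Subgroup.mem_comap]
      show Ph k k * Ph (-1) 1 * (Ph k k)⁻¹ ∈ _
      rw [Ph_inv, Ph_mul, Ph_mul, neg_one_central, mul_one, mul_inv_cancel]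
      exact Ph_neg_one_one_mem_Et Q
    · rw [Subgroup.zpowers_le, Subgroup.mem_comap]
      show Ph k k * sw * (Ph k k)⁻¹ ∈ _
      rw [Ph_inv, mul_assoc, sw_mul_Ph, ← mul_assoc, Ph_mul, mul_inv_cancel, Ph_one, one_mul]
      exact sw_mem_Et Q
  exact hle hg

/-- **E4**. -/
theorem Dg_mem_normalizer {Q : Subgroup (SL2 F)} {k : SL2 F}
    (hk : k ∈ Subgroup.normalizer (Q : Set (SL2 F))) :
    Ph k k ∈ Subgroup.normalizer (St Q : Set (Sp4 F)) ∧
    Ph k k ∈ Subgroup.normalizer (Et Q : Set (Sp4 F)) := by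
  have hk' : k⁻¹ ∈ Subgroup.normalizer (Q : Set (SL2 F)) := Subgroup.inv_mem _ hk
  constructor
  · apply mem_normalizer_of_conj
    · intro g hg
      exact Dg_conj_St hk hg
    · intro g hg
      have := Dg_conj_St hk' hg
      rwa [← Ph_inv, inv_inv] at this
  · apply mem_normalizer_of_conj
    · intro g hg
      exact Dg_conj_Et hk hg
    · intro g hg
      have := Dg_conj_Et hk' hg
      rwa [← Ph_inv, inv_inv] at this

end Cfsg.Agent.Lib.H27.PSp4
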