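import Cfsg.Agent.Lib.H27.LatW

/-!
# Permutation groups of degree at most 512 given by packed generator tables

The table `GT` contains at most 31 permutations of `{0, …, n - 1}` (9 bits per point, 512 slots
per letter).  Words are natural numbers with base-32 digits (the digit `0` ends the word, the digit
`d + 1` stands for the letter `d`, the most significant digit is the leftmost factor).
The first `g` letters generate the group; every other letter is a word in earlier letters.
A stabiliser chain certificate gives a lower bound for the order of the group.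
-/

set_option autoImplicit false

namespace Cfsg.Agent.Lib.H27.PermN

open Equiv Cfsg.Agent.Lib.H27.LatW

/-- lookup in the packed table: letter `d`, point `p` -/
def lk (GT d p : Nat) : Nat :=
  Nat.land (Nat.shiftRight GT (Nat.mul 9 (Nat.add (Nat.mul 512 d) p))) 511

/-- trace of a point through a word -/
def trW (GT : Nat) (fuel : Nat) : Nat → Nat → Nat :=
  Nat.rec (motive := fun _ => Nat → Nat → Nat) (fun _ p => p)
    (fun _ ih w p => Nat.rec (motive := fun _ => Nat) p
      (fun d _ => ih (Nat.div w 32) (lk GT d p)) (Nat.mod w 32)) fuel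

theorem trW_succ (GT f w p : Nat) :
    trW GT (f + 1) w p = Nat.rec (motive := fun _ => Nat) p
      (fun d _ => trW GT f (Nat.div w 32) (lk GT d p)) (Nat.mod w 32) := rfl

/-- validity of the table -/
def vGT (n L GT : Nat) (linv : List Nat) : Bool :=
  allLt L fun d => Nat.blt (linv.getD d 0) L && allLt n fun p =>
    Nat.blt (lk GT d p) n && (Nat.blt (lk GT (linv.getD d 0) p) n &&
      (Nat.beq (lk GT (linv.getD d 0) (lk GT d p)) p &&
        Nat.beq (lk GT d (lk GT (linv.getD d 0) p)) p))

/-- all digits of the word are letters `< d` -/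
def digitsLt (d : Nat) (fuel : Nat) : Nat → Bool :=
  Nat.rec (motive := fun _ => Nat → Bool) (fun w => Nat.beq w 0)
    (fun _ ih w => Nat.rec (motive := fun _ => Bool) (Nat.beq w 0)
      (fun k _ => Nat.blt k d && ih (Nat.div w 32)) (Nat.mod w 32)) fuel

theorem digitsLt_succ (d f w : Nat) :
    digitsLt d (f + 1) w = Nat.rec (motive := fun _ => Bool) (Nat.beq w 0)
      (fun k _ => Nat.blt k d && digitsLt d f (Nat.div w 32)) (Nat.mod w 32) := rfl

/-- the fuel used for words -/
def FUEL : Nat := 64

/-- every letter `≥ g` is a word in earlier letters -/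
def vDefs (n L g GT : Nat) (defs : List Nat) : Bool :=
  allLt L fun d => Nat.blt d g || (digitsLt d FUEL (defs.getD d 0) &&
    allLt n fun p => Nat.beq (lk GT d p) (trW GT FUEL (defs.getD d 0) p))

/-- permutation data: degree `n`, `L ≤ 31` letters, the first `g` letters are generators -/
structure PD (n L g : Nat) where
  GT : Nat
  linv : List Nat
  defs : List Nat
  hL : L ≤ 31
  valid : vGT n L GT linv = true
  vdefs : vDefs n L g GT defs = true

variable {n L g : Nat}

theorem PD.linv_lt (D : PD n L g) {d : Nat} (hd : d < L) : D.linv.getD d 0 < L := by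
  have := allLt_spec D.valid d hd
  simp only [Bool.and_eq_true] at this
  exact Nat.le_of_ble_eq_true this.1

theorem PD.lk_lt (D : PD n L g) {d p : Nat} (hd : d < L) (hp : p < n) : lk D.GT d p < n := by
  have := allLt_spec D.valid d hd
  simp only [Bool.and_eq_true] at this
  have := allLt_spec this.2 p hp
  simp only [Bool.and_eq_true] at this
  exact Nat.le_of_ble_eq_true this.1

theorem PD.lki_lt (D : PD n L g) {d p : Nat} (hd : d < L) (hp : p < n) :
    lk D.GT (D.linv.getD d 0) p < n := by
  have := allLt_spec D.valid d hd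
  simp only [Bool.and_eq_true] at this
  have := allLt_spec this.2 p hp
  simp only [Bool.and_eq_true] at this
  exact Nat.le_of_ble_eq_true this.2.1

theorem PD.lki_lk (D : PD n L g) {d p : Nat} (hd : d < L) (hp : p < n) :
    lk D.GT (D.linv.getD d 0) (lk D.GT d p) = p := by
  have := allLt_spec D.valid d hd
  simp only [Bool.and_eq_true] at this
  have := allLt_spec this.2 p hp
  simp only [Bool.and_eq_true] at this
  exact Nat.eq_of_beq_eq_true this.2.2.1

theorem PD.lk_lki (D : PD n L g) {d p : Nat} (hd : d < L) (hp : p < n) :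
    lk D.GT d (lk D.GT (D.linv.getD d 0) p) = p := by
  have := allLt_spec D.valid d hd
  simp only [Bool.and_eq_true] at this
  have := allLt_spec this.2 p hp
  simp only [Bool.and_eq_true] at this
  exact Nat.eq_of_beq_eq_true this.2.2.2

/-- the permutation of the letter `d` -/
def PD.bp (D : PD n L g) (d : Nat) : Perm (Fin n) :=
  if hd : d < L then
    { toFun := fun p => ⟨lk D.GT d p, D.lk_lt hd p.2⟩
      invFun := fun p => ⟨lk D.GT (D.linv.getD d 0) p, D.lki_lt hd p.2⟩
      left_inv := fun p => Fin.ext (D.lki_lk hd p.2)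
      right_inv := fun p => Fin.ext (D.lk_lki hd p.2) }
  else 1

theorem PD.bp_apply (D : PD n L g) {d : Nat} (hd : d < L) (p : Fin n) :
    ((D.bp d p : Fin n) : Nat) = lk D.GT d p := by
  unfold PD.bp
  rw [dif_pos hd]
  rfl

theorem PD.bp_linv (D : PD n L g) {d : Nat} (hd : d < L) :
    D.bp (D.linv.getD d 0) = (D.bp d)⁻¹ := by
  ext p
  rw [D.bp_apply (D.linv_lt hd)]
  unfold PD.bp
  rw [dif_pos hd]
  rfl

/-- evaluation of a word -/
def PD.evW (D : PD n L g) (fuel : Nat) : Nat → Perm (Fin n) :=
  Nat.rec (motive := fun _ => Nat → Perm (Fin n)) (fun _ => 1)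
    (fun _ ih w => Nat.rec (motive := fun _ => Perm (Fin n)) 1
      (fun d _ => ih (Nat.div w 32) * D.bp d) (Nat.mod w 32)) fuel

theorem PD.evW_succ (D : PD n L g) (f w : Nat) :
    D.evW (f + 1) w = Nat.rec (motive := fun _ => Perm (Fin n)) 1
      (fun d _ => D.evW f (Nat.div w 32) * D.bp d) (Nat.mod w 32) := rfl

/-- a word all of whose digits are letters `< L` -/
theorem PD.evW_apply (D : PD n L g) (fuel : Nat) : ∀ (w : Nat), digitsLt L fuel w = true →
    ∀ p : Fin n, ((D.evW fuel w p : Fin n) : Nat) = trW D.GT fuel w p := by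
  induction fuel with
  | zero => intro w _ p; rfl
  | succ f ih =>
    intro w hw p
    rw [D.evW_succ, trW_succ]
    rw [digitsLt_succ] at hw
    rcases hm : Nat.mod w 32 with _ | d
    · rfl
    · rw [hm] at hw
      simp only [Bool.and_eq_true] at hw
      have hd : d < L := Nat.le_of_ble_eq_true hw.1
      show ((D.evW f (Nat.div w 32) * D.bp d) p : Nat) = trW D.GT f (Nat.div w 32) (lk D.GT d p)
      rw [Perm.mul_apply, ih _ hw.2, D.bp_apply hd]

theorem digitsLt_mono {d d' : Nat} (h : d ≤ d') (fuel : Nat) : ∀ w, digitsLt d fuel w = true →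
    digitsLt d' fuel w = true := by
  induction fuel with
  | zero => intro w hw; exact hw
  | succ f ih =>
    intro w hw
    rw [digitsLt_succ] at hw ⊢
    rcases hm : Nat.mod w 32 with _ | k
    · rw [hm] at hw; exact hw
    · rw [hm] at hw
      simp only [Bool.and_eq_true] at hw ⊢
      refine ⟨?_, ih _ hw.2⟩
      have : k < d := Nat.le_of_ble_eq_true hw.1
      exact Nat.ble_eq_true_of_le (by omega)

/-- the group generated by the first `g` letters -/
def PD.G (D : PD n L g) : Subgroup (Perm (Fin n)) := Subgroup.closure {σ | ∃ d < g, σ = D.bp d}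

theorem PD.evW_mem_of_digitsLt (D : PD n L g) {d : Nat} (hd : ∀ k < d, D.bp k ∈ D.G)
    (fuel : Nat) : ∀ w, digitsLt d fuel w = true → D.evW fuel w ∈ D.G := by
  induction fuel with
  | zero => intro w _; exact D.G.one_mem
  | succ f ih =>
    intro w hw
    rw [D.evW_succ]
    rw [digitsLt_succ] at hw
    rcases hm : Nat.mod w 32 with _ | k
    · exact D.G.one_mem
    · rw [hm] at hw
      simp only [Bool.and_eq_true] at hw
      exact D.G.mul_mem (ih _ hw.2) (hd k (Nat.le_of_ble_eq_true hw.1))

theorem PD.bp_mem (D : PD n L g) : ∀ d, D.bp d ∈ D.G := by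
  intro d
  induction d using Nat.strong_induction_on with
  | _ d ih =>
    by_cases hd : d < L
    · have h := allLt_spec D.vdefs d hd
      rw [Bool.or_eq_true] at h
      rcases h with h | h
      · exact Subgroup.subset_closure ⟨d, Nat.le_of_ble_eq_true h, rfl⟩
      · simp only [Bool.and_eq_true] at h
        have hdl : digitsLt L FUEL (D.defs.getD d 0) = true :=
          digitsLt_mono (Nat.le_of_lt hd) FUEL _ h.1
        have heq : D.bp d = D.evW FUEL (D.defs.getD d 0) := by
          ext p
          rw [D.bp_apply hd, D.evW_apply FUEL _ hdl]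
          exact Nat.eq_of_beq_eq_true (allLt_spec h.2 p p.2)
        rw [heq]
        exact D.evW_mem_of_digitsLt ih FUEL _ h.1
    · unfold PD.bp
      rw [dif_neg hd]
      exact D.G.one_mem

/-- the element coded by a word -/
def PD.ev (D : PD n L g) (w : Nat) : Perm (Fin n) := D.evW FUEL w

theorem PD.ev_mem (D : PD n L g) (w : Nat) : D.ev w ∈ D.G := by
  unfold PD.ev
  generalize FUEL = fuel
  induction fuel generalizing w with
  | zero => exact D.G.one_mem
  | succ f ih =>
    rw [D.evW_succ]
    rcases Nat.mod w 32 with _ | d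
    · exact D.G.one_mem
    · exact D.G.mul_mem (ih _) (D.bp_mem d)

theorem PD.ev_apply (D : PD n L g) {w : Nat} (hw : digitsLt L FUEL w = true) (p : Fin n) :
    ((D.ev w p : Fin n) : Nat) = trW D.GT FUEL w p := D.evW_apply FUEL w hw p

/-! ## the stabiliser chain -/

/-- the pointwise stabiliser of a list of points in a subgroup -/
def stabL {n : Nat} (H : Subgroup (Perm (Fin n))) (bs : List (Fin n)) : Subgroup (Perm (Fin n)) where
  carrier := {y | y ∈ H ∧ ∀ c ∈ bs, y c = c}
  one_mem' := ⟨H.one_mem, fun _ _ => rfl⟩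
  mul_mem' := by
    rintro a b ⟨ha, a0⟩ ⟨hb, b0⟩
    refine ⟨H.mul_mem ha hb, fun c hc => ?_⟩
    rw [Perm.mul_apply, b0 c hc, a0 c hc]
  inv_mem' := by
    rintro a ⟨ha, a0⟩
    refine ⟨H.inv_mem ha, fun c hc => ?_⟩
    rw [Perm.inv_eq_iff_eq]; exact (a0 c hc).symm

theorem stabL_nil {n : Nat} (H : Subgroup (Perm (Fin n))) : stabL H [] = H := by
  ext y
  show (y ∈ H ∧ ∀ c ∈ ([] : List (Fin n)), y c = c) ↔ y ∈ H
  simp

/-- one step of the chain -/
theorem card_stabL_step {n : Nat} (H : Subgroup (Perm (Fin n))) (bs : List (Fin n)) (b : Fin n)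
    {m : Nat} (t : Fin m → Perm (Fin n)) (ht : ∀ j, t j ∈ stabL H bs)
    (hinj : Function.Injective fun j => t j b) :
    m * Nat.card (stabL H (bs ++ [b])) ≤ Nat.card (stabL H bs) := by
  let f : (Fin m × stabL H (bs ++ [b])) → stabL H bs := fun q =>
    ⟨t q.1 * (q.2 : Perm (Fin n)), (stabL H bs).mul_mem (ht q.1)
      ⟨q.2.2.1, fun c hc => q.2.2.2 c (List.mem_append_left _ hc)⟩⟩
  have hinj' : Function.Injective f := by
    rintro ⟨j, s⟩ ⟨j', s'⟩ hq
    have hq' : t j * (s : Perm (Fin n)) = t j' * (s' : Perm (Fin n)) := congrArg Subtype.val hq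
    have sb : (s : Perm (Fin n)) b = b := s.2.2 b (by simp)
    have sb' : (s' : Perm (Fin n)) b = b := s'.2.2 b (by simp)
    have hj : j = j' := by
      apply hinj
      have := congrArg (fun σ : Perm (Fin n) => σ b) hq'
      simp only [Perm.mul_apply] at this
      rw [sb, sb'] at this
      exact this
    subst hj
    have : s = s' := Subtype.ext (mul_left_cancel hq')
    subst this
    rfl
  have hc := Nat.card_le_card_of_injective f hinj'
  rw [Nat.card_prod, Nat.card_fin] at hc
  exact hc

/-- check of one level: the words `W j`, `j < m`, fix the points of `bs` and map `b` to the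
`j`-th entry of `I` -/
def chkLevel (L GT : Nat) (bs : List Nat) (b : Nat) (W : Nat → Nat) (I : List Nat) : Bool :=
  allLt I.length fun j => digitsLt L FUEL (W j) &&
    (bs.all (fun c => Nat.beq (trW GT FUEL (W j) c) c) &&
      Nat.beq (trW GT FUEL (W j) b) (I.getD j 0))

theorem PD.level (D : PD n L g) (bs : List (Fin n)) (b : Fin n) (W : Nat → Nat) (I : List Nat)
    (hI : I.Nodup)
    (h : chkLevel L D.GT (List.map (fun c : Fin n => c.val) bs) b.val W I = true) :
    I.length * Nat.card (stabL D.G (bs ++ [b])) ≤ Nat.card (stabL D.G bs) := by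
  apply card_stabL_step D.G bs b (fun j : Fin I.length => D.ev (W j))
  · intro j
    have hj := allLt_spec h j j.2
    simp only [Bool.and_eq_true] at hj
    refine ⟨D.ev_mem _, fun c hc => ?_⟩
    apply Fin.ext
    rw [D.ev_apply hj.1]
    have := List.all_eq_true.mp hj.2.1 c.val (List.mem_map.2 ⟨c, hc, rfl⟩)
    exact Nat.eq_of_beq_eq_true this
  · intro j j' hjj
    have hj := allLt_spec h j j.2
    have hj' := allLt_spec h j' j'.2
    simp only [Bool.and_eq_true] at hj hj'
    have e : ((D.ev (W j) b : Fin n) : Nat) = ((D.ev (W j') b : Fin n) : Nat) :=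
      congrArg (fun x : Fin n => (x : Nat)) hjj
    rw [D.ev_apply hj.1, D.ev_apply hj'.1, Nat.eq_of_beq_eq_true hj.2.2,
      Nat.eq_of_beq_eq_true hj'.2.2] at e
    rw [List.getD_eq_getElem?_getD, List.getD_eq_getElem?_getD,
      List.getElem?_eq_getElem j.2, List.getElem?_eq_getElem j'.2] at e
    simp only [Option.getD_some] at e
    exact Fin.ext ((List.Nodup.getElem_inj_iff hI).mp e)

end Cfsg.Agent.Lib.H27.PermN
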