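import Cfsg.Agent.Lib.H27.LatWOrd

/-!
# Permutation groups of degree 126 given by packed generator tables

The table `GT` contains 31 permutations of `{0, …, 125}` (7 bits per point, 128 slots per
letter).  Words are natural numbers with base-32 digits (the digit `0` ends the word, the digit
`d + 1` stands for the letter `d`, the most significant digit is the leftmost factor).
Group elements in the group generated by the letters are compared through the images of three
base points `0, 1, b₃`.
-/

set_option autoImplicit false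

namespace Cfsg.Agent.Lib.H27.PermW

open Equiv Cfsg.Agent.Lib.H27.LatW

/-- lookup in the packed table: letter `d`, point `p` -/
def lk (GT d p : Nat) : Nat :=
  Nat.land (Nat.shiftRight GT (Nat.mul 7 (Nat.add (Nat.mul 128 d) p))) 127

/-- trace of a point through a word -/
def trW (GT : Nat) (fuel : Nat) : Nat → Nat → Nat :=
  Nat.rec (motive := fun _ => Nat → Nat → Nat) (fun _ p => p)
    (fun _ ih w p => Nat.rec (motive := fun _ => Nat) p
      (fun d _ => ih (Nat.div w 32) (lk GT d p)) (Nat.mod w 32)) fuel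

/-- action of a word on a signature -/
def actS (GT : Nat) (w s : Nat) : Nat :=
  Nat.add (trW GT 64 w (Nat.mod s 128))
    (Nat.add (Nat.mul 128 (trW GT 64 w (Nat.mod (Nat.div s 128) 128)))
      (Nat.mul 16384 (trW GT 64 w (Nat.div s 16384))))

/-- validity of the table -/
def vGT (GT : Nat) (linv : List Nat) : Bool :=
  allLt 31 fun d => allLt 126 fun p =>
    Nat.blt (lk GT d p) 126 && (Nat.blt (lk GT (linv.getD d 0) p) 126 &&
      (Nat.beq (lk GT (linv.getD d 0) (lk GT d p)) p &&
        Nat.beq (lk GT d (lk GT (linv.getD d 0) p)) p))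

/-- all digits of the word are `1` or `7` -/
def onlyXA (fuel : Nat) : Nat → Bool :=
  Nat.rec (motive := fun _ => Nat → Bool) (fun _ => true)
    (fun _ ih w => Nat.rec (motive := fun _ => Bool) true
      (fun d _ => (Nat.beq d 0 || Nat.beq d 6) && ih (Nat.div w 32)) (Nat.mod w 32)) fuel

/-- every letter is a word in the letters `0` and `6` -/
def vDefs (GT : Nat) (defs : List Nat) : Bool :=
  allLt 31 fun d => onlyXA 64 (defs.getD d 0) &&
    allLt 126 fun p => Nat.beq (lk GT d p) (trW GT 64 (defs.getD d 0) p)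

/-- permutation data -/
structure PD where
  GT : Nat
  linv : List Nat
  defs : List Nat
  valid : vGT GT linv = true
  vdefs : vDefs GT defs = true

theorem PD.lk_lt (D : PD) {d p : Nat} (hd : d < 31) (hp : p < 126) : lk D.GT d p < 126 := by
  have := allLt_spec (allLt_spec D.valid d hd) p hp
  simp only [Bool.and_eq_true] at this
  exact Nat.le_of_ble_eq_true this.1

theorem PD.lki_lt (D : PD) {d p : Nat} (hd : d < 31) (hp : p < 126) :
    lk D.GT (D.linv.getD d 0) p < 126 := by
  have := allLt_spec (allLt_spec D.valid d hd) p hp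
  simp only [Bool.and_eq_true] at this
  exact Nat.le_of_ble_eq_true this.2.1

theorem PD.lki_lk (D : PD) {d p : Nat} (hd : d < 31) (hp : p < 126) :
    lk D.GT (D.linv.getD d 0) (lk D.GT d p) = p := by
  have := allLt_spec (allLt_spec D.valid d hd) p hp
  simp only [Bool.and_eq_true] at this
  exact Nat.eq_of_beq_eq_true this.2.2.1

theorem PD.lk_lki (D : PD) {d p : Nat} (hd : d < 31) (hp : p < 126) :
    lk D.GT d (lk D.GT (D.linv.getD d 0) p) = p := by
  have := allLt_spec (allLt_spec D.valid d hd) p hp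
  simp only [Bool.and_eq_true] at this
  exact Nat.eq_of_beq_eq_true this.2.2.2

/-- the permutation of the letter `d` -/
def PD.bp (D : PD) (d : Nat) : Perm (Fin 126) :=
  if hd : d < 31 then
    { toFun := fun p => ⟨lk D.GT d p, D.lk_lt hd p.2⟩
      invFun := fun p => ⟨lk D.GT (D.linv.getD d 0) p, D.lki_lt hd p.2⟩
      left_inv := fun p => Fin.ext (D.lki_lk hd p.2)
      right_inv := fun p => Fin.ext (D.lk_lki hd p.2) }
  else 1

theorem PD.bp_apply (D : PD) {d : Nat} (hd : d < 31) (p : Fin 126) :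
    ((D.bp d p : Fin 126) : Nat) = lk D.GT d p := by
  unfold PD.bp
  rw [dif_pos hd]
  rfl

/-- evaluation of a word -/
def PD.evW (D : PD) (fuel : Nat) : Nat → Perm (Fin 126) :=
  Nat.rec (motive := fun _ => Nat → Perm (Fin 126)) (fun _ => 1)
    (fun _ ih w => Nat.rec (motive := fun _ => Perm (Fin 126)) 1
      (fun d _ => ih (Nat.div w 32) * D.bp d) (Nat.mod w 32)) fuel

theorem PD.evW_succ (D : PD) (f w : Nat) :
    D.evW (f + 1) w = Nat.rec (motive := fun _ => Perm (Fin 126)) 1
      (fun d _ => D.evW f (Nat.div w 32) * D.bp d) (Nat.mod w 32) := rfl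

theorem trW_succ (GT f w p : Nat) :
    trW GT (f + 1) w p = Nat.rec (motive := fun _ => Nat) p
      (fun d _ => trW GT f (Nat.div w 32) (lk GT d p)) (Nat.mod w 32) := rfl

theorem PD.evW_apply (D : PD) (fuel : Nat) : ∀ (w : Nat) (p : Fin 126),
    ((D.evW fuel w p : Fin 126) : Nat) = trW D.GT fuel w p := by
  induction fuel with
  | zero => intro w p; rfl
  | succ f ih =>
    intro w p
    rw [D.evW_succ, trW_succ]
    have hlt : Nat.mod w 32 < 32 := Nat.mod_lt _ (by norm_num)
    rcases hm : Nat.mod w 32 with _ | d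
    · rfl
    · have hd : d < 31 := by rw [hm] at hlt; omega
      show ((D.evW f (Nat.div w 32) * D.bp d) p : Nat) = trW D.GT f (Nat.div w 32) (lk D.GT d p)
      rw [Perm.mul_apply, ih, D.bp_apply hd]

/-- the group generated by the letters `0` and `6` -/
def PD.G (D : PD) : Subgroup (Perm (Fin 126)) := Subgroup.closure {D.bp 0, D.bp 6}

/-- the element coded by a word -/
def PD.ev (D : PD) (w : Nat) : Perm (Fin 126) := D.evW 64 w

theorem PD.ev_zero (D : PD) : D.ev 0 = 1 := rfl

theorem PD.ev_apply (D : PD) (w : Nat) (p : Fin 126) :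
    ((D.ev w p : Fin 126) : Nat) = trW D.GT 64 w p := D.evW_apply 64 w p

theorem onlyXA_succ (f w : Nat) :
    onlyXA (f + 1) w = Nat.rec (motive := fun _ => Bool) true
      (fun d _ => (Nat.beq d 0 || Nat.beq d 6) && onlyXA f (Nat.div w 32)) (Nat.mod w 32) := rfl

theorem PD.evW_mem_of_onlyXA (D : PD) (fuel : Nat) : ∀ w, onlyXA fuel w = true →
    D.evW fuel w ∈ D.G := by
  induction fuel with
  | zero => intro w _; exact D.G.one_mem
  | succ f ih =>
    intro w hw
    rw [D.evW_succ]
    rw [onlyXA_succ] at hw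
    rcases hm : Nat.mod w 32 with _ | d
    · exact D.G.one_mem
    · rw [hm] at hw
      simp only [Bool.and_eq_true, Bool.or_eq_true] at hw
      refine D.G.mul_mem (ih _ hw.2) ?_
      rcases hw.1 with h | h
      · rw [Nat.eq_of_beq_eq_true h]
        exact Subgroup.subset_closure (by simp)
      · rw [Nat.eq_of_beq_eq_true h]
        exact Subgroup.subset_closure (by simp)

theorem PD.bp_mem (D : PD) (d : Nat) : D.bp d ∈ D.G := by
  by_cases hd : d < 31
  · have h := allLt_spec D.vdefs d hd
    simp only [Bool.and_eq_true] at h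
    have heq : D.bp d = D.evW 64 (D.defs.getD d 0) := by
      ext p
      rw [D.bp_apply hd, D.evW_apply]
      exact Nat.eq_of_beq_eq_true (allLt_spec h.2 p p.2)
    rw [heq]
    exact D.evW_mem_of_onlyXA 64 _ h.1
  · unfold PD.bp
    rw [dif_neg hd]
    exact D.G.one_mem

theorem PD.evW_mem (D : PD) (fuel : Nat) : ∀ w, D.evW fuel w ∈ D.G := by
  induction fuel with
  | zero => intro w; exact D.G.one_mem
  | succ f ih =>
    intro w
    rw [D.evW_succ]
    rcases Nat.mod w 32 with _ | d
    · exact D.G.one_mem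
    · exact D.G.mul_mem (ih _) (D.bp_mem d)

theorem PD.ev_mem (D : PD) (w : Nat) : D.ev w ∈ D.G := D.evW_mem 64 w

theorem PD.ev_one_eq (D : PD) : D.ev 1 = D.bp 0 := by
  show D.evW 64 1 = D.bp 0
  rw [D.evW_succ]
  show D.evW 63 0 * D.bp 0 = D.bp 0
  have : D.evW 63 0 = 1 := rfl
  rw [this, one_mul]

theorem PD.ev_seven_eq (D : PD) : D.ev 7 = D.bp 6 := by
  show D.evW 64 7 = D.bp 6
  rw [D.evW_succ]
  show D.evW 63 0 * D.bp 6 = D.bp 6
  have : D.evW 63 0 = 1 := rfl
  rw [this, one_mul]

/-- the signature of a permutation: the images of the base points `0, 1, b₃` -/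
def sigOf (b3 : Fin 126) (y : Perm (Fin 126)) : Nat :=
  ((y 0 : Fin 126) : Nat) + (128 * ((y 1 : Fin 126) : Nat) + 16384 * ((y b3 : Fin 126) : Nat))

theorem PD.sig_act (D : PD) (b3 : Fin 126) (w : Nat) (y : Perm (Fin 126)) :
    sigOf b3 (D.ev w * y) = actS D.GT w (sigOf b3 y) := by
  have h0 := (y 0).2
  have h1 := (y 1).2
  have h3 := (y b3).2
  have e0 : Nat.mod (sigOf b3 y) 128 = (y 0 : Nat) := by
    show (sigOf b3 y) % 128 = _
    unfold sigOf; omega
  have e1 : Nat.mod (Nat.div (sigOf b3 y) 128) 128 = (y 1 : Nat) := by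
    show ((sigOf b3 y) / 128) % 128 = _
    unfold sigOf; omega
  have e3 : Nat.div (sigOf b3 y) 16384 = (y b3 : Nat) := by
    show (sigOf b3 y) / 16384 = _
    unfold sigOf; omega
  unfold actS
  rw [e0, e1, e3, ← D.ev_apply, ← D.ev_apply, ← D.ev_apply]
  rfl

/-- the semantic context, given that the base is faithful -/
def PD.ctx (D : PD) (b3 : Fin 126)
    (hf : ∀ y ∈ D.G, y 0 = 0 → y 1 = 1 → y b3 = b3 → y = 1) : Ctx (Perm (Fin 126)) where
  G := D.G
  ev := D.ev
  sigOf := sigOf b3
  actS := actS D.GT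
  ev_zero := D.ev_zero
  ev_mem := D.ev_mem
  sig_inj := by
    intro y hy y' hy' h
    have h0 := (y 0).2
    have h1 := (y 1).2
    have h3 := (y b3).2
    have h0' := (y' 0).2
    have h1' := (y' 1).2
    have h3' := (y' b3).2
    have e0 : y 0 = y' 0 := by apply Fin.ext; unfold sigOf at h; omega
    have e1 : y 1 = y' 1 := by apply Fin.ext; unfold sigOf at h; omega
    have e3 : y b3 = y' b3 := by apply Fin.ext; unfold sigOf at h; omega
    have := hf (y'⁻¹ * y) (D.G.mul_mem (D.G.inv_mem hy') hy)
      (by rw [Perm.mul_apply, e0]; simp)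
      (by rw [Perm.mul_apply, e1]; simp)
      (by rw [Perm.mul_apply, e3]; simp)
    exact (inv_mul_eq_one.mp this).symm
  sig_act := D.sig_act b3

theorem PD.ctx_G (D : PD) (b3 : Fin 126) hf : (D.ctx b3 hf).G = D.G := rfl

theorem PD.gen (D : PD) (b3 : Fin 126) hf :
    (D.ctx b3 hf).G ≤ Subgroup.closure {σ | ∃ g ∈ [1, 7], σ = (D.ctx b3 hf).ev g} := by
  show D.G ≤ _
  unfold PD.G
  rw [Subgroup.closure_le]
  intro σ hσ
  rcases hσ with rfl | rfl
  · exact Subgroup.subset_closure ⟨1, by simp, D.ev_one_eq.symm⟩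
  · exact Subgroup.subset_closure ⟨7, by simp, D.ev_seven_eq.symm⟩

end Cfsg.Agent.Lib.H27.PermW
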