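import Cfsg.Agent.Lib.H27.PermW

/-!
# A stabiliser chain certificate: the order of the group is at least `126 · 125 · 8` times the
order of the stabiliser of the base `0, 1, b₃`
-/

set_option autoImplicit false

namespace Cfsg.Agent.Lib.H27.PermW

open Equiv Cfsg.Agent.Lib.H27.LatW

/-- check of the chain: `W1 j` maps `0` to `j`; `W2 k` fixes `0` and maps `1` to `k + 1`;
`W3 l` fixes `0`, `1` and maps `b₃` to `I3[l]` -/
def chkChain (GT : Nat) (W1 W2 W3 : Nat → Nat) (b3 : Nat) (I3 : List Nat) : Bool :=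
  allLt 126 (fun j => Nat.beq (trW GT 64 (W1 j) 0) j) &&
  (allLt 125 (fun k => Nat.beq (trW GT 64 (W2 k) 0) 0 &&
    Nat.beq (trW GT 64 (W2 k) 1) (Nat.succ k)) &&
  allLt 8 (fun l => Nat.beq (trW GT 64 (W3 l) 0) 0 && (Nat.beq (trW GT 64 (W3 l) 1) 1 &&
    Nat.beq (trW GT 64 (W3 l) b3) (I3.getD l 0))))

/-- the stabiliser of the base in `G` -/
def PD.St (D : PD) (b3 : Fin 126) : Subgroup (Perm (Fin 126)) where
  carrier := {y | y ∈ D.G ∧ y 0 = 0 ∧ y 1 = 1 ∧ y b3 = b3}
  one_mem' := ⟨D.G.one_mem, rfl, rfl, rfl⟩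
  mul_mem' := by
    rintro a b ⟨ha, a0, a1, a3⟩ ⟨hb, b0, b1, b3'⟩
    refine ⟨D.G.mul_mem ha hb, ?_, ?_, ?_⟩
    · rw [Perm.mul_apply, b0, a0]
    · rw [Perm.mul_apply, b1, a1]
    · rw [Perm.mul_apply, b3', a3]
  inv_mem' := by
    rintro a ⟨ha, a0, a1, a3⟩
    refine ⟨D.G.inv_mem ha, ?_, ?_, ?_⟩
    · rw [Perm.inv_eq_iff_eq]; exact a0.symm
    · rw [Perm.inv_eq_iff_eq]; exact a1.symm
    · rw [Perm.inv_eq_iff_eq]; exact a3.symm

theorem PD.card_ge (D : PD) {W1 W2 W3 : Nat → Nat} {b3 : Fin 126} {I3 : List Nat}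
    (hI : I3.Nodup) (hI8 : I3.length = 8)
    (h : chkChain D.GT W1 W2 W3 b3 I3 = true) :
    126000 * Nat.card (D.St b3) ≤ Nat.card D.G := by
  unfold chkChain at h
  simp only [Bool.and_eq_true] at h
  obtain ⟨h1, h2, h3⟩ := h
  have e1 : ∀ j : Fin 126, D.ev (W1 j) 0 = j := by
    intro j
    apply Fin.ext
    rw [D.ev_apply]
    exact Nat.eq_of_beq_eq_true (allLt_spec h1 j j.2)
  have e2 : ∀ k : Fin 125, D.ev (W2 k) 0 = 0 ∧ ((D.ev (W2 k) 1 : Fin 126) : Nat) = k + 1 := by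
    intro k
    have := allLt_spec h2 k k.2
    simp only [Bool.and_eq_true] at this
    refine ⟨Fin.ext ?_, ?_⟩
    · rw [D.ev_apply]; exact Nat.eq_of_beq_eq_true this.1
    · rw [D.ev_apply]; exact Nat.eq_of_beq_eq_true this.2
  have e3 : ∀ l : Fin 8, D.ev (W3 l) 0 = 0 ∧ D.ev (W3 l) 1 = 1 ∧
      ((D.ev (W3 l) b3 : Fin 126) : Nat) = I3.getD l 0 := by
    intro l
    have := allLt_spec h3 l l.2
    simp only [Bool.and_eq_true] at this
    refine ⟨Fin.ext ?_, Fin.ext ?_, ?_⟩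
    · rw [D.ev_apply]; exact Nat.eq_of_beq_eq_true this.1
    · rw [D.ev_apply]; exact Nat.eq_of_beq_eq_true this.2.1
    · rw [D.ev_apply]; exact Nat.eq_of_beq_eq_true this.2.2
  let f : (Fin 126 × Fin 125 × Fin 8 × D.St b3) → D.G := fun q =>
    ⟨D.ev (W1 q.1) * D.ev (W2 q.2.1) * D.ev (W3 q.2.2.1) * (q.2.2.2 : Perm (Fin 126)),
      D.G.mul_mem (D.G.mul_mem (D.G.mul_mem (D.ev_mem _) (D.ev_mem _)) (D.ev_mem _)) q.2.2.2.2.1⟩
  have hinj : Function.Injective f := by
    rintro ⟨j, k, l, s⟩ ⟨j', k', l', s'⟩ hq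
    have hq' : D.ev (W1 j) * D.ev (W2 k) * D.ev (W3 l) * (s : Perm (Fin 126)) =
        D.ev (W1 j') * D.ev (W2 k') * D.ev (W3 l') * (s' : Perm (Fin 126)) :=
      congrArg Subtype.val hq
    have hs := s.2
    have hs' := s'.2
    obtain ⟨-, s0, s1, s3⟩ := hs
    obtain ⟨-, s0', s1', s3'⟩ := hs'
    have hj : j = j' := by
      have := congrArg (fun σ : Perm (Fin 126) => σ 0) hq'
      simp only [Perm.mul_apply] at this
      rw [s0, s0', (e3 l).1, (e3 l').1, (e2 k).1, (e2 k').1, e1, e1] at this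
      exact this
    subst hj
    have hq2 : D.ev (W2 k) * D.ev (W3 l) * (s : Perm (Fin 126)) =
        D.ev (W2 k') * D.ev (W3 l') * (s' : Perm (Fin 126)) := by
      have : D.ev (W1 j) * (D.ev (W2 k) * D.ev (W3 l) * (s : Perm (Fin 126))) =
          D.ev (W1 j) * (D.ev (W2 k') * D.ev (W3 l') * (s' : Perm (Fin 126))) := by
        simpa [mul_assoc] using hq'
      exact mul_left_cancel this
    have hk : k = k' := by
      have := congrArg (fun σ : Perm (Fin 126) => ((σ 1 : Fin 126) : Nat)) hq2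
      simp only [Perm.mul_apply] at this
      rw [s1, s1', (e3 l).2.1, (e3 l').2.1, (e2 k).2, (e2 k').2] at this
      apply Fin.ext
      omega
    subst hk
    have hq3 : D.ev (W3 l) * (s : Perm (Fin 126)) = D.ev (W3 l') * (s' : Perm (Fin 126)) := by
      have : D.ev (W2 k) * (D.ev (W3 l) * (s : Perm (Fin 126))) =
          D.ev (W2 k) * (D.ev (W3 l') * (s' : Perm (Fin 126))) := by
        simpa [mul_assoc] using hq2
      exact mul_left_cancel this
    have hl : l = l' := by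
      have := congrArg (fun σ : Perm (Fin 126) => ((σ b3 : Fin 126) : Nat)) hq3
      simp only [Perm.mul_apply] at this
      rw [s3, s3', (e3 l).2.2, (e3 l').2.2] at this
      have hl8 : (l : Nat) < I3.length := by rw [hI8]; exact l.2
      have hl8' : (l' : Nat) < I3.length := by rw [hI8]; exact l'.2
      rw [List.getD_eq_getElem?_getD, List.getD_eq_getElem?_getD,
        List.getElem?_eq_getElem hl8, List.getElem?_eq_getElem hl8'] at this
      simp only [Option.getD_some] at this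
      apply Fin.ext
      exact (List.Nodup.getElem_inj_iff hI).mp this
    subst hl
    have hs4 : (s : Perm (Fin 126)) = s' := mul_left_cancel hq3
    have : s = s' := Subtype.ext hs4
    subst this
    rfl
  have hc := Nat.card_le_card_of_injective f hinj
  rw [Nat.card_prod, Nat.card_prod, Nat.card_prod, Nat.card_fin, Nat.card_fin, Nat.card_fin] at hc
  calc 126000 * Nat.card (D.St b3) = 126 * (125 * (8 * Nat.card (D.St b3))) := by ring
    _ ≤ _ := hc

theorem PD.card_G_ge (D : PD) {W1 W2 W3 : Nat → Nat} {b3 : Fin 126} {I3 : List Nat}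
    (hI : I3.Nodup) (hI8 : I3.length = 8)
    (h : chkChain D.GT W1 W2 W3 b3 I3 = true) : 126000 ≤ Nat.card D.G := by
  have h1 := D.card_ge hI hI8 h
  have h2 : 0 < Nat.card (D.St b3) := Nat.card_pos
  nlinarith

theorem PD.faithful (D : PD) {W1 W2 W3 : Nat → Nat} {b3 : Fin 126} {I3 : List Nat}
    (hI : I3.Nodup) (hI8 : I3.length = 8)
    (h : chkChain D.GT W1 W2 W3 b3 I3 = true) (hcard : Nat.card D.G ≤ 126000) :
    ∀ y ∈ D.G, y 0 = 0 → y 1 = 1 → y b3 = b3 → y = 1 := by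
  have h1 := D.card_ge hI hI8 h
  have h2 : 0 < Nat.card (D.St b3) := Nat.card_pos
  have h3 : Nat.card (D.St b3) = 1 := by nlinarith
  intro y hy y0 y1 y3
  have hy' : y ∈ D.St b3 := ⟨hy, y0, y1, y3⟩
  have := (Nat.card_eq_one_iff_unique.mp h3).1
  have heq := Subsingleton.elim (⟨y, hy'⟩ : D.St b3) 1
  exact congrArg Subtype.val heq

end Cfsg.Agent.Lib.H27.PermW
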