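import Cfsg.Agent.Lib.H9.S28Defs
import Cfsg.Agent.Lib.H9.S28GEN

/-!
# S2928, piece C8c (architect helper9): no non-trivial normal subgroup of exponent 2
-/

set_option autoImplicit false

namespace Cfsg.Agent.Lib.H27.S28

open Equiv Cfsg.Agent.Lib.H9.S28 Cfsg.Agent.Lib.H15.SymF

variable {β : Type*} [Fintype β] [DecidableEq β] {G L : Subgroup (Perm β)}

/-- C8c: no non-trivial normal subgroup of exponent 2. -/
theorem false_of_normal_two (h : Core G L) (hprim : MulAction.IsPreprimitive ↥G β)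
    (htr : ∀ a b : β, ∃ x ∈ L, x a = b) (hc8 : Fintype.card β = 8)
    (K : Subgroup (Perm β)) (hKG : K ≤ G) (hKn : ∀ g ∈ G, ∀ k ∈ K, g * k * g⁻¹ ∈ K)
    (hK2 : ∀ k ∈ K, k * k = 1) (hK : K ≠ ⊥) : False := by
  classical
  have hperf := commutator_self_of_quasisimple L h.qs
  obtain ⟨a₀⟩ : Nonempty β := by
    rw [← Fintype.card_pos_iff, hc8]; norm_num
  -- `K` is abelian
  have hKab : ∀ k₁ ∈ K, ∀ k₂ ∈ K, k₁ * k₂ = k₂ * k₁ := by
    intro k₁ h₁ k₂ h₂
    have i1 : k₁⁻¹ = k₁ := inv_eq_of_mul_eq_one_right (hK2 k₁ h₁)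
    have i2 : k₂⁻¹ = k₂ := inv_eq_of_mul_eq_one_right (hK2 k₂ h₂)
    have i12 : (k₁ * k₂)⁻¹ = k₁ * k₂ := inv_eq_of_mul_eq_one_right (hK2 _ (K.mul_mem h₁ h₂))
    calc k₁ * k₂ = (k₁ * k₂)⁻¹ := i12.symm
      _ = k₂⁻¹ * k₁⁻¹ := mul_inv_rev _ _
      _ = k₂ * k₁ := by rw [i1, i2]
  -- `L ≠ ⊥`
  have hLne : L ≠ ⊥ := by
    intro h0
    obtain ⟨x, hx, hxa⟩ := h.moved a₀
    rw [h0, Subgroup.mem_bot] at hx
    exact hxa (by rw [hx]; rfl)
  -- `K ⊓ L` is central in `L`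
  have hN : ∀ y ∈ K ⊓ L, ∀ x ∈ L, x * y = y * x := by
    rcases eq_or_central_of_quasisimple L h.qs (K ⊓ L) inf_le_right
      (fun x hx y hy => ⟨hKn x (h.le hx) y hy.1,
        L.mul_mem (L.mul_mem hx hy.2) (L.inv_mem hx)⟩) with hEq | hc
    · exfalso
      have hLK : L ≤ K := by rw [← hEq]; exact inf_le_left
      have h0 : ⁅L, L⁆ = ⊥ := by
        rw [Subgroup.commutator_eq_bot_iff_le_centralizer]
        intro x hx
        rw [Subgroup.mem_centralizer_iff]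
        intro y hy
        exact hKab y (hLK hy) x (hLK hx)
      exact hLne (by rw [← hperf, h0])
    · exact hc
  -- `K` centralizes `L`
  have hKL : ∀ k ∈ K, ∀ x ∈ L, k * x = x * k := by
    intro k hk
    apply Cfsg.Agent.Lib.H9.S28.centralizes_of_comm_central h (hKG hk)
    intro x hx y hy
    have hmem : k * x * k⁻¹ * x⁻¹ ∈ K ⊓ L := by
      refine ⟨?_, L.mul_mem (h.normal k (hKG hk) x hx) (L.inv_mem hx)⟩
      have e : k * x * k⁻¹ * x⁻¹ = k * (x * k⁻¹ * x⁻¹) := by group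
      rw [e]
      exact K.mul_mem hk (hKn x (h.le hx) k⁻¹ (K.inv_mem hk))
    exact (hN _ hmem y hy).symm
  -- `K` is transitive
  have : (K.subgroupOf G).Normal := ⟨fun n hn g => by
    rw [Subgroup.mem_subgroupOf] at hn ⊢
    simpa using hKn g g.2 n hn⟩
  have htrK : MulAction.IsPretransitive ↥(K.subgroupOf G) β := by
    apply MulAction.IsQuasiPreprimitive.isPretransitive_of_normal
    intro huniv
    obtain ⟨⟨k, hk⟩, hk1⟩ := (Subgroup.ne_bot_iff_exists_ne_one).mp hK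
    apply hk1
    apply Subtype.ext
    ext b
    have hb : b ∈ MulAction.fixedPoints ↥(K.subgroupOf G) β := by rw [huniv]; trivial
    rw [MulAction.mem_fixedPoints] at hb
    exact hb ⟨⟨k, hKG hk⟩, Subgroup.mem_subgroupOf.mpr hk⟩
  have hKtr : ∀ a b : β, ∃ k ∈ K, k a = b := by
    intro a b
    obtain ⟨⟨⟨k, hkG⟩, hk⟩, hkab⟩ := htrK.exists_smul_eq a b
    exact ⟨k, Subgroup.mem_subgroupOf.mp hk, hkab⟩
  -- `L` is semiregular
  have hsemi : ∀ x ∈ L, ∀ a, x a = a → x = 1 := by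
    intro x hx a hxa
    ext b
    obtain ⟨k, hk, rfl⟩ := hKtr a b
    have e := hKL k hk x hx
    calc x (k a) = (x * k) a := rfl
      _ = (k * x) a := by rw [e]
      _ = k (x a) := rfl
      _ = k a := by rw [hxa]
  -- `|L| = 8`
  have hbij : Function.Bijective (fun x : ↥L => (x : Perm β) a₀) := by
    constructor
    · intro x y hxy
      have hxy' : (x : Perm β) a₀ = (y : Perm β) a₀ := hxy
      have e1 : ((y : Perm β)⁻¹ * (x : Perm β)) a₀ = a₀ := by
        rw [Perm.mul_apply, hxy']; exact (y : Perm β).symm_apply_apply a₀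
      have e2 := hsemi _ (L.mul_mem (L.inv_mem y.2) x.2) a₀ e1
      apply Subtype.ext
      exact (inv_mul_eq_one.mp e2).symm
    · intro b
      obtain ⟨x, hx, hxb⟩ := htr a₀ b
      exact ⟨⟨x, hx⟩, hxb⟩
  have hcard : Nat.card ↥L = 2 ^ 3 := by
    rw [Nat.card_congr (Equiv.ofBijective _ hbij), Nat.card_eq_fintype_card, hc8]; norm_num
  have : Fact (Nat.Prime 2) := ⟨Nat.prime_two⟩
  have hnil : Group.IsNilpotent ↥L := (IsPGroup.of_card hcard).isNilpotent
  have : Nontrivial ↥L := (Subgroup.nontrivial_iff_ne_bot _).mpr hLne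
  have : Group.IsPerfect ↥L := h.qs.1
  exact Group.IsPerfect.not_isNilpotent (G := ↥L) hnil

end Cfsg.Agent.Lib.H27.S28
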