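import Mathlib
import Cfsg.Agent.Lib.H9.S3571Defs

/-!
# S3571, GR block (helper27): (C1a3) the index of the stabiliser of a `k`-set is `C(m,k)`
-/

set_option autoImplicit false

namespace Cfsg.Agent.Lib.H27.S3571

open Cfsg.Agent.Lib.H9.S3571 Equiv MulAction

open scoped Pointwise

theorem c1a3 : C1a3Stmt := by
  intro m Γ H n r hP Δ hiff
  classical
  set k := Δ.card with hk
  let s : Set.powersetCard (Fin m) k := ⟨Δ, rfl⟩
  -- transitivity of `Γ` on `k`-subsets
  have hm3 : 3 ≤ Nat.card (Fin m) := by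
    rw [Nat.card_eq_fintype_card, Fintype.card_fin]
    have := hP.hm
    omega
  have hAtr : IsPretransitive ↥(alternatingGroup (Fin m)) (Set.powersetCard (Fin m) k) :=
    Set.powersetCard.isPretransitive_alternatingGroup hm3
  have hΓtr : IsPretransitive ↥Γ (Set.powersetCard (Fin m) k) := by
    refine ⟨fun x y => ?_⟩
    obtain ⟨a, ha⟩ := hAtr.exists_smul_eq x y
    refine ⟨⟨a.1, hP.hA a.2⟩, ?_⟩
    rw [← ha]
    rfl
  -- orbit-stabiliser
  have hidx : (stabilizer ↥Γ s).index = m.choose k := by
    rw [MulAction.index_stabilizer_of_transitive ↥Γ s, Set.powersetCard.card,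
      Nat.card_eq_fintype_card, Fintype.card_fin]
  -- the stabiliser is `H`
  have hstab : stabilizer ↥Γ s = H.subgroupOf Γ := by
    ext g
    rw [mem_stabilizer_iff, Subgroup.mem_subgroupOf, hiff g.1 g.2]
    constructor
    · intro h
      have h1 : ((g • s : Set.powersetCard (Fin m) k) : Finset (Fin m)) = Δ :=
        congrArg Subtype.val h
      exact h1
    · intro h
      apply Subtype.ext
      exact h
  have hcardH : Nat.card ↥(H.subgroupOf Γ) = Nat.card ↥H :=
    Nat.card_congr (Subgroup.subgroupOfEquivOfLe hP.hHΓ).toEquiv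
  have hos := Subgroup.index_mul_card (stabilizer ↥Γ s)
  rw [hidx, hstab, hcardH, hP.hn] at hos
  have hpos : 0 < Nat.card ↥H := Nat.card_pos
  exact (Nat.eq_of_mul_eq_mul_right hpos hos).symm

end Cfsg.Agent.Lib.H27.S3571
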