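import Mathlib
import Cfsg.Agent.Lib.H9.S3571Defs

/-!
# S3571, GR block (helper27): (C4b) a primitive group of degree `5` without `A_5` has no
element of order `3`
-/

set_option autoImplicit false

namespace Cfsg.Agent.Lib.H27.S3571

open Cfsg.Agent.Lib.H9.S3571 Equiv MulAction

theorem c4b : C4bStmt := by
  intro H hprim hA h3
  have : Fact (Nat.Prime 3) := ⟨Nat.prime_three⟩
  obtain ⟨x, hx⟩ := exists_prime_orderOf_dvd_card' 3 h3
  have hσ : orderOf (x : Perm (Fin 5)) = 3 := by
    rw [Subgroup.orderOf_coe]; exact hx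
  have hp : (orderOf (x : Perm (Fin 5))).Prime := by rw [hσ]; exact Nat.prime_three
  obtain ⟨n, hn⟩ := Equiv.Perm.cycleType_prime_order hp
  rw [hσ] at hn
  have hsum := Equiv.Perm.sum_cycleType (x : Perm (Fin 5))
  have hle : (x : Perm (Fin 5)).support.card ≤ 5 := by
    have := Finset.card_le_univ (x : Perm (Fin 5)).support
    simpa using this
  rw [hn, Multiset.sum_replicate, smul_eq_mul] at hsum
  have hn0 : n = 0 := by omega
  subst hn0
  have h3c : (x : Perm (Fin 5)).IsThreeCycle := by
    unfold Equiv.Perm.IsThreeCycle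
    rw [hn]; rfl
  exact hA (Equiv.Perm.alternatingGroup_le_of_isPreprimitive_of_isThreeCycle_mem hprim h3c x.2)

end Cfsg.Agent.Lib.H27.S3571
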