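import Mathlib
import Cfsg.Agent.Lib.H27.LinPoly
import Cfsg.Agent.Lib.H27.FrobAut
import Cfsg.Agent.Lib.H15.SemiScal
import Cfsg.Agent.Lib.H22.S3776NC

/-!
# S3776, LEMMA E at the level of the field (helper27)

`F = GF(2^n)`, `Eb` a group of semilinear permutations `x ↦ u x^(2^s)` transitive on `F ∖ 0`,
`T` an `Eb`-irreducible (under conjugation) additive group of additive endomorphisms of `F`:
every nonzero member of `T` is injective (it is a monomial `c x^(2^i)`).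
-/

set_option autoImplicit false

namespace Cfsg.Agent.Lib.H27.S3776EF

open Cfsg.Agent.Lib.H27.LinPoly
open Polynomial

variable {F : Type*} [Field F]




/-- the coefficient vector of an additive endomorphism of `GF(2^n)`. -/
noncomputable def co [CharP F 2] [Finite F] {n : ℕ} (hn : Nat.card F = 2 ^ n) (φ : F →+ F) :
    Fin n → F :=
  (Equiv.ofBijective _ (toAddHom_bijective (F := F) hn)).symm φ

theorem toAddHom_co [CharP F 2] [Finite F] {n : ℕ} (hn : Nat.card F = 2 ^ n) (φ : F →+ F) :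
    toAddHom (co hn φ) = φ :=
  (Equiv.ofBijective _ (toAddHom_bijective (F := F) hn)).apply_symm_apply φ

theorem co_toAddHom [CharP F 2] [Finite F] {n : ℕ} (hn : Nat.card F = 2 ^ n) (a : Fin n → F) :
    co hn (toAddHom a) = a :=
  (Equiv.ofBijective _ (toAddHom_bijective (F := F) hn)).symm_apply_apply a

theorem apply_eq_sum_co [CharP F 2] [Finite F] {n : ℕ} (hn : Nat.card F = 2 ^ n) (φ : F →+ F)
    (x : F) : φ x = ∑ i : Fin n, co hn φ i * x ^ (2 ^ (i : ℕ)) := by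
  conv_lhs => rw [← toAddHom_co hn φ]
  rfl

theorem co_add [CharP F 2] [Finite F] {n : ℕ} (hn : Nat.card F = 2 ^ n) (φ ψ : F →+ F) :
    co hn (φ + ψ) = co hn φ + co hn ψ := by
  apply toAddHom_injective hn
  rw [toAddHom_co, toAddHom_add, toAddHom_co, toAddHom_co]

theorem co_zero [CharP F 2] [Finite F] {n : ℕ} (hn : Nat.card F = 2 ^ n) :
    co hn (0 : F →+ F) = 0 := by
  apply toAddHom_injective hn
  rw [toAddHom_co]
  ext x
  simp

theorem co_neg [CharP F 2] [Finite F] {n : ℕ} (hn : Nat.card F = 2 ^ n) (φ : F →+ F) :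
    co hn (-φ) = - co hn φ := by
  have h := co_add hn φ (-φ)
  rw [add_neg_cancel, co_zero] at h
  exact (neg_eq_of_add_eq_zero_right h.symm).symm

theorem eq_zero_of_co_eq_zero [CharP F 2] [Finite F] {n : ℕ} (hn : Nat.card F = 2 ^ n)
    (φ : F →+ F) (h : co hn φ = 0) : φ = 0 := by
  rw [← toAddHom_co hn φ, h]
  ext x
  simp

theorem pow_two_pow_surjective [CharP F 2] [Finite F] (s : ℕ) :
    Function.Surjective (fun x : F => x ^ (2 ^ s)) := by
  haveI : Fact (Nat.Prime 2) := ⟨Nat.prime_two⟩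
  have hinj : Function.Injective (fun x : F => x ^ (2 ^ s)) := by
    have := (iterateFrobenius F 2 s).injective
    intro x y hxy
    apply this
    simpa [iterateFrobenius_def] using hxy
  exact Finite.injective_iff_surjective.mp hinj

/-- (E1) conjugating `φ = ∑ aᵢ σⁱ` by `γ = (x ↦ u x^(2^s))` multiplies the `i`-th coefficient by
`u^(1-2^i)` and twists it by `σ^s`. -/
theorem co_conj [CharP F 2] [Finite F] {n : ℕ} (hn : Nat.card F = 2 ^ n) (γ : F → F) (u : F)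
    (s : ℕ) (hγ : ∀ x : F, γ x = u * x ^ (2 ^ s)) (φ ψ : F →+ F)
    (h : ∀ x : F, ψ (γ x) = γ (φ x)) (i : Fin n) :
    co hn ψ i * u ^ (2 ^ (i : ℕ)) = u * (co hn φ i) ^ (2 ^ s) := by
  haveI : Fact (Nat.Prime 2) := ⟨Nat.prime_two⟩
  have key : ∀ y : F, ∑ j : Fin n,
      (co hn ψ j * u ^ (2 ^ (j : ℕ)) - u * (co hn φ j) ^ (2 ^ s)) * y ^ (2 ^ (j : ℕ)) = 0 := by
    intro y
    obtain ⟨x, rfl⟩ := pow_two_pow_surjective (F := F) s y
    have h1 := h x
    rw [hγ x, hγ (φ x), apply_eq_sum_co hn ψ, apply_eq_sum_co hn φ x, sum_pow_char_pow,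
      Finset.mul_sum] at h1
    rw [← sub_eq_zero, ← Finset.sum_sub_distrib] at h1
    rw [← h1]
    apply Finset.sum_congr rfl
    intro j _
    simp only [mul_pow]
    rw [← pow_mul, ← pow_mul, mul_comm (2 ^ (j : ℕ)) (2 ^ s)]
    ring
  have := coeff_eq_zero_of_forall_eval hn _ key
  have hi := congrFun this i
  simpa [sub_eq_zero] using hi






/-- (E4) two additive "coordinate" maps on a `θ`-stable additive subgroup, the first injective on
it, which are `θ`-semi-invariant with multipliers `lam`, `mu`: then `mu` is a Frobenius conjugate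
of `lam`. -/
theorem e4 [CharP F 2] [Finite F] {n : ℕ} (hn : Nat.card F = 2 ^ n)
    {M : Type*} [AddCommGroup M] (S : AddSubgroup M) (θ : M →+ M) (hθ : ∀ t ∈ S, θ t ∈ S)
    (f g : M →+ F) (hf : ∀ t ∈ S, f t = 0 → t = 0) (lam mu : F)
    (hfl : ∀ t ∈ S, f (θ t) = lam * f t) (hgm : ∀ t ∈ S, g (θ t) = mu * g t)
    (t0 : M) (ht0 : t0 ∈ S) (hg0 : g t0 ≠ 0) : ∃ s : Fin n, mu = lam ^ (2 ^ (s : ℕ)) := by
  classical
  letI : Algebra (ZMod 2) F := ZMod.algebra F 2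
  haveI : Fact (Nat.Prime 2) := ⟨Nat.prime_two⟩
  have hiter : ∀ k : ℕ, ∀ t ∈ S, (θ^[k]) t ∈ S ∧ f ((θ^[k]) t) = lam ^ k * f t ∧
      g ((θ^[k]) t) = mu ^ k * g t := by
    intro k
    induction k with
    | zero => intro t ht; simp [ht]
    | succ k ih =>
      intro t ht
      obtain ⟨h1, h2, h3⟩ := ih t ht
      rw [Function.iterate_succ_apply']
      refine ⟨hθ _ h1, ?_, ?_⟩
      · rw [hfl _ h1, h2, pow_succ]; ring
      · rw [hgm _ h1, h3, pow_succ]; ring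
  have key : ∀ P : (ZMod 2)[X], ∀ t ∈ S, ∃ t' ∈ S, f t' = aeval lam P * f t ∧
      g t' = aeval mu P * g t := by
    intro P
    induction P using Polynomial.induction_on' with
    | add P Q hP hQ =>
      intro t ht
      obtain ⟨t1, h1, h1f, h1g⟩ := hP t ht
      obtain ⟨t2, h2, h2f, h2g⟩ := hQ t ht
      refine ⟨t1 + t2, S.add_mem h1 h2, ?_, ?_⟩
      · rw [map_add, h1f, h2f, map_add, add_mul]
      · rw [map_add, h1g, h2g, map_add, add_mul]
    | monomial k c =>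
      intro t ht
      have hc : c = 0 ∨ c = 1 := by
        fin_cases c
        · left; rfl
        · right; rfl
      rcases hc with rfl | rfl
      · exact ⟨0, S.zero_mem, by simp, by simp⟩
      · obtain ⟨h1, h2, h3⟩ := hiter k t ht
        refine ⟨_, h1, ?_, ?_⟩
        · rw [h2]; simp [aeval_monomial]
        · rw [h3]; simp [aeval_monomial]
  have hint : IsIntegral (ZMod 2) lam := Algebra.IsIntegral.isIntegral lam
  obtain ⟨t', ht', hf', hg'⟩ := key (minpoly (ZMod 2) lam) t0 ht0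
  rw [minpoly.aeval, zero_mul] at hf'
  have ht'0 : t' = 0 := hf t' ht' hf'
  rw [ht'0, map_zero] at hg'
  have hroot : aeval mu (minpoly (ZMod 2) lam) = 0 := by
    rcases mul_eq_zero.mp hg'.symm with h | h
    · exact h
    · exact absurd h hg0
  have hconj : IsConjRoot (ZMod 2) lam mu := isConjRoot_of_aeval_eq_zero hint hroot
  obtain ⟨σ, hσ⟩ := isConjRoot_iff_exists_algEquiv.mp hconj.symm
  obtain ⟨s, hs⟩ := Cfsg.Agent.Lib.H27.FrobAut.exists_frobenius_pow_eq hn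
    (σ : F ≃+* F).toRingHom
  refine ⟨s, ?_⟩
  rw [← hσ]
  exact hs lam






/-- the number-theoretic lemma N / NC (shape of helper22's `nc`). -/
def NCStmt : Prop :=
  ∀ {n k m i j t : ℕ}, k ∣ n → m * k = 2 ^ n - 1 → i < n → j < n → t < n →
    2 ^ (i + t) + 1 ≡ 2 ^ j + 2 ^ t [MOD m] → i = j

/-- conjugation by the scalar `ζ` on additive endomorphisms. -/
noncomputable def conjS (ζ : F) : (F →+ F) →+ (F →+ F) where
  toFun φ := (AddMonoidHom.mulLeft ζ).comp (φ.comp (AddMonoidHom.mulLeft ζ⁻¹))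
  map_zero' := by ext x; simp
  map_add' φ ψ := by ext x; simp [mul_add]

theorem conjS_apply (ζ : F) (φ : F →+ F) (y : F) : conjS ζ φ y = ζ * φ (ζ⁻¹ * y) := rfl

/-- the `i`-th coefficient as an additive map. -/
noncomputable def coHom [CharP F 2] [Finite F] {n : ℕ} (hn : Nat.card F = 2 ^ n) (i : Fin n) :
    (F →+ F) →+ F where
  toFun φ := co hn φ i
  map_zero' := by rw [co_zero]; rfl
  map_add' φ ψ := by rw [co_add]; rfl

theorem ef_of [CharP F 2] [Finite F] {n : ℕ} (hn : Nat.card F = 2 ^ n) (nc : NCStmt)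
    (Eb : Subgroup (Equiv.Perm F))
    (hsemi : ∀ γ ∈ Eb, ∃ u : F, ∃ s : ℕ, ∀ x : F, γ x = u * x ^ (2 ^ s))
    (e3 : ∃ ζ : F, ζ ≠ 0 ∧ (∃ γ ∈ Eb, ∀ x : F, γ x = ζ * x) ∧
      ∃ k : ℕ, orderOf ζ * k = 2 ^ n - 1 ∧ k ∣ n)
    (T : AddSubgroup (F →+ F))
    (hconj : ∀ γ ∈ Eb, ∀ φ ∈ T, ∃ ψ ∈ T, ∀ x : F, ψ (γ x) = γ (φ x))
    (hirr : ∀ U : AddSubgroup (F →+ F), U ≤ T →
      (∀ γ ∈ Eb, ∀ φ ∈ U, ∃ ψ ∈ U, ∀ x : F, ψ (γ x) = γ (φ x)) → U = ⊥ ∨ U = T) :
    ∀ φ ∈ T, φ ≠ 0 → Function.Injective φ := by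
  classical
  haveI : Fact (Nat.Prime 2) := ⟨Nat.prime_two⟩
  -- units of semilinear maps
  have hu_ne : ∀ γ : Equiv.Perm F, ∀ u : F, ∀ s : ℕ, (∀ x : F, γ x = u * x ^ (2 ^ s)) → u ≠ 0 := by
    intro γ u s h hu
    have h1 : γ 1 = 0 := by rw [h 1, hu, zero_mul]
    have h0 : γ 1 = γ 0 := by rw [h1, h 0, zero_pow (by positivity), mul_zero]
    exact one_ne_zero (γ.injective h0)
  -- (E2) dichotomy
  have dich : ∀ i : Fin n, (∀ φ ∈ T, co hn φ i = 0) ∨ (∀ φ ∈ T, co hn φ i = 0 → φ = 0) := by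
    intro i
    let U : AddSubgroup (F →+ F) :=
      { carrier := {φ | φ ∈ T ∧ co hn φ i = 0}
        zero_mem' := ⟨T.zero_mem, by rw [co_zero]; rfl⟩
        add_mem' := by
          rintro φ ψ ⟨h1, h2⟩ ⟨h3, h4⟩
          refine ⟨T.add_mem h1 h3, ?_⟩
          rw [co_add, Pi.add_apply, h2, h4, add_zero]
        neg_mem' := by
          rintro φ ⟨h1, h2⟩
          refine ⟨T.neg_mem h1, ?_⟩
          rw [co_neg, Pi.neg_apply, h2, neg_zero] }
    have hUT : U ≤ T := fun φ hφ => hφ.1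
    have hUst : ∀ γ ∈ Eb, ∀ φ ∈ U, ∃ ψ ∈ U, ∀ x : F, ψ (γ x) = γ (φ x) := by
      intro γ hγ φ hφ
      obtain ⟨ψ, hψT, hψ⟩ := hconj γ hγ φ hφ.1
      obtain ⟨u, s, hus⟩ := hsemi γ hγ
      refine ⟨ψ, ⟨hψT, ?_⟩, hψ⟩
      have h1 := co_conj hn (fun x => γ x) u s hus φ ψ hψ i
      rw [hφ.2, zero_pow (by positivity), mul_zero] at h1
      rcases mul_eq_zero.mp h1 with h | h
      · exact h
      · exact absurd (pow_eq_zero_iff (by positivity) |>.mp h) (hu_ne γ u s hus)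
    rcases hirr U hUT hUst with h | h
    · right
      intro φ hφ h0
      have : φ ∈ U := ⟨hφ, h0⟩
      rw [h] at this
      exact (AddSubgroup.mem_bot).mp this
    · left
      intro φ hφ
      have : φ ∈ U := by rw [h]; exact hφ
      exact this.2
  intro φ0 hφ0 hne
  -- some coefficient of φ0 is nonzero
  obtain ⟨i0, hi0⟩ : ∃ i : Fin n, co hn φ0 i ≠ 0 := by
    by_contra hcon
    push Not at hcon
    exact hne (eq_zero_of_co_eq_zero hn φ0 (funext hcon))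
  have inj_i0 : ∀ φ ∈ T, co hn φ i0 = 0 → φ = 0 := by
    rcases dich i0 with h | h
    · exact absurd (h φ0 hφ0) hi0
    · exact h
  -- all other coefficients vanish on T
  have hother : ∀ j : Fin n, j ≠ i0 → ∀ φ ∈ T, co hn φ j = 0 := by
    intro j hj
    rcases dich j with h | inj_j
    · exact h
    · exfalso
      obtain ⟨ζ, hζ0, ⟨γζ, hγζ, hγζx⟩, k, hk, hkn⟩ := e3
      -- conjS ζ preserves T
      have hθT : ∀ t ∈ T, conjS ζ t ∈ T := by
        intro t ht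
        obtain ⟨ψ, hψT, hψ⟩ := hconj γζ hγζ t ht
        have : conjS ζ t = ψ := by
          ext y
          rw [conjS_apply]
          have := hψ (ζ⁻¹ * y)
          rw [hγζx, hγζx, ← mul_assoc, mul_inv_cancel₀ hζ0, one_mul] at this
          exact this.symm
        rw [this]; exact hψT
      have hco : ∀ (l : Fin n) (t : F →+ F),
          co hn (conjS ζ t) l = ζ * (ζ ^ (2 ^ (l : ℕ)))⁻¹ * co hn t l := by
        intro l t
        have h1 := co_conj hn (fun x => ζ * x) ζ 0 (by intro x; simp) t (conjS ζ t)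
          (by intro x; rw [conjS_apply, ← mul_assoc, inv_mul_cancel₀ hζ0, one_mul]) l
        rw [pow_zero, pow_one] at h1
        have hz : ζ ^ (2 ^ (l : ℕ)) ≠ 0 := pow_ne_zero _ hζ0
        field_simp
        linear_combination h1
      obtain ⟨s, hs⟩ := e4 hn T (conjS ζ) hθT (coHom hn i0) (coHom hn j)
        (fun t ht h => inj_i0 t ht h)
        (ζ * (ζ ^ (2 ^ (i0 : ℕ)))⁻¹) (ζ * (ζ ^ (2 ^ (j : ℕ)))⁻¹)
        (fun t _ => hco i0 t) (fun t _ => hco j t) φ0 hφ0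
        (by
          intro h
          exact hne (inj_j φ0 hφ0 h))
      -- translate into a congruence of exponents
      have hz1 : ζ ^ (2 ^ (i0 : ℕ)) ≠ 0 := pow_ne_zero _ hζ0
      have hz2 : ζ ^ (2 ^ (j : ℕ)) ≠ 0 := pow_ne_zero _ hζ0
      have hpow : ζ ^ (2 ^ ((i0 : ℕ) + (s : ℕ)) + 1) = ζ ^ (2 ^ (j : ℕ) + 2 ^ (s : ℕ)) := by
        rw [mul_pow, inv_pow, ← pow_mul, ← pow_add 2] at hs
        have hz3 : ζ ^ (2 ^ ((i0 : ℕ) + (s : ℕ))) ≠ 0 := pow_ne_zero _ hζ0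
        have hs' : ζ * ζ ^ (2 ^ ((i0 : ℕ) + (s : ℕ))) = ζ ^ (2 ^ (j : ℕ)) * ζ ^ (2 ^ (s : ℕ)) := by
          field_simp at hs
          linear_combination hs
        rw [pow_succ, pow_add ζ (2 ^ (j : ℕ)) (2 ^ (s : ℕ)), mul_comm]
        exact hs'
      have hmod : 2 ^ ((i0 : ℕ) + (s : ℕ)) + 1 ≡ 2 ^ (j : ℕ) + 2 ^ (s : ℕ) [MOD orderOf ζ] := by
        have hu : (Units.mk0 ζ hζ0) ^ (2 ^ ((i0 : ℕ) + (s : ℕ)) + 1) =
            (Units.mk0 ζ hζ0) ^ (2 ^ (j : ℕ) + 2 ^ (s : ℕ)) := by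
          apply Units.ext
          rw [Units.val_pow_eq_pow_val, Units.val_pow_eq_pow_val, Units.val_mk0]
          exact hpow
        have h1 := pow_eq_pow_iff_modEq.mp hu
        rw [← orderOf_units, Units.val_mk0] at h1
        exact h1
      have := nc hkn hk i0.2 j.2 s.2 hmod
      exact hj (Fin.ext this.symm)
  -- so φ0 is a monomial
  have hmono : ∀ x : F, φ0 x = co hn φ0 i0 * x ^ (2 ^ (i0 : ℕ)) := by
    intro x
    rw [apply_eq_sum_co hn φ0 x]
    rw [Finset.sum_eq_single i0]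
    · intro j _ hj
      rw [hother j hj φ0 hφ0, zero_mul]
    · intro h; exact absurd (Finset.mem_univ i0) h
  intro x y hxy
  rw [hmono x, hmono y] at hxy
  have h1 := mul_left_cancel₀ hi0 hxy
  have hinj := (iterateFrobenius F 2 (i0 : ℕ)).injective
  apply hinj
  simpa [iterateFrobenius_def] using h1



/-- **LEMMA E, field level.** -/
theorem ef [CharP F 2] [Finite F] {n : ℕ} (hn : Nat.card F = 2 ^ n)
    (Eb : Subgroup (Equiv.Perm F))
    (hsemi : ∀ γ ∈ Eb, ∃ u : F, ∃ s : ℕ, ∀ x : F, γ x = u * x ^ (2 ^ s))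
    (htr : ∀ x y : F, x ≠ 0 → y ≠ 0 → ∃ γ ∈ Eb, γ x = y)
    (T : AddSubgroup (F →+ F))
    (hconj : ∀ γ ∈ Eb, ∀ φ ∈ T, ∃ ψ ∈ T, ∀ x : F, ψ (γ x) = γ (φ x))
    (hirr : ∀ U : AddSubgroup (F →+ F), U ≤ T →
      (∀ γ ∈ Eb, ∀ φ ∈ U, ∃ ψ ∈ U, ∀ x : F, ψ (γ x) = γ (φ x)) → U = ⊥ ∨ U = T) :
    ∀ φ ∈ T, φ ≠ 0 → Function.Injective φ := by
  classical
  letI : Fintype F := Fintype.ofFinite F
  have hn' : Fintype.card F = 2 ^ n := by rw [← Nat.card_eq_fintype_card]; exact hn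
  obtain ⟨ζ, m, k, hζ0, hm, hmk, hkn, γ, hγ, hγx⟩ :=
    Cfsg.Agent.H15.SemiScal.scalar_structure hn' Eb hsemi htr
  refine ef_of hn (fun hk hm hi hj ht h => Cfsg.Agent.Lib.H22.S3776NC.nc hk hm hi hj ht h)
    Eb hsemi ⟨ζ, hζ0, ⟨γ, hγ, hγx⟩, k, by rw [hm]; exact hmk, hkn⟩ T hconj hirr

end Cfsg.Agent.Lib.H27.S3776EF
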