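import Mathlib
import Cfsg.Agent.Lib.H9.S3776Defs
import Cfsg.Agent.Lib.H18.S3776LemEF
import Cfsg.Agent.Lib.H27.S3776EF

/-!
# S3776, piece (3) LEME, twin (helper27): `LemEStmt` from the field-level `ef` through helper18's
glue `leme_of_ef` (hedge for helper12's `leme`).
-/

set_option autoImplicit false

namespace Cfsg.Agent.Lib.H27.S3776LemE

universe u

theorem efStmt : Cfsg.Agent.Lib.H18.S3776LemEF.EFStmt := by
  intro F _ _ _ n hn Eb hsemi htr T hconj hirr
  exact Cfsg.Agent.Lib.H27.S3776EF.ef hn Eb hsemi htr T hconj hirr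

/-- piece (3) LEME (twin). -/
theorem leme : Cfsg.Agent.Lib.H9.S3776.LemEStmt.{u} :=
  Cfsg.Agent.Lib.H18.S3776LemEF.leme_of_ef efStmt

example : Cfsg.Agent.Lib.H9.S3776.LemEStmt.{0} := leme

end Cfsg.Agent.Lib.H27.S3776LemE
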