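import Mathlib

/-!
# S3777 (helper27): the STEP lemma for commutator subgroups

`A` normal in `G`, `A ≤ K`, `y` normalises `K`.  Then
`|⁅A, K ⊔ ⟨y⟩⁆| ≤ |⁅A, K⁆| * |A : C_A(y)|`.
-/

set_option autoImplicit false

namespace Cfsg.Agent.Lib.H27.S3777

open Subgroup
open scoped commutatorElement

variable {G : Type*} [Group G]

/-- conjugation by an element normalising `A` and `K` preserves `⁅A, K⁆` -/
theorem conj_mem_commutator (A K : Subgroup G) (g : G)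
    (hA : ∀ a ∈ A, g * a * g⁻¹ ∈ A) (hK : ∀ k ∈ K, g * k * g⁻¹ ∈ K) :
    ∀ n ∈ ⁅A, K⁆, g * n * g⁻¹ ∈ ⁅A, K⁆ := by
  have h : ⁅A, K⁆ ≤ (⁅A, K⁆).comap (MulAut.conj g).toMonoidHom := by
    rw [Subgroup.commutator_le]
    intro a ha k hk
    rw [Subgroup.mem_comap]
    show (MulAut.conj g) ⁅a, k⁆ ∈ ⁅A, K⁆
    rw [MulAut.conj_apply, conjugate_commutatorElement]
    exact Subgroup.commutator_mem_commutator (hA a ha) (hK k hk)
  intro n hn
  have := h hn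
  rw [Subgroup.mem_comap] at this
  simpa [MulAut.conj_apply] using this

/-- the auxiliary subgroup `⋃_a ⁅a,y⁆ ⁅A,K⁆` -/
def stepSubgroup (A K : Subgroup G) [A.Normal] (hAK : A ≤ K) (y : G) : Subgroup G where
  carrier := {x | ∃ a ∈ A, ∃ n ∈ ⁅A, K⁆, x = ⁅a, y⁆ * n}
  one_mem' := ⟨1, A.one_mem, 1, Subgroup.one_mem _, by simp⟩
  mul_mem' := by
    rintro x x' ⟨a, ha, n, hn, rfl⟩ ⟨b, hb, m, hm, rfl⟩
    have hNK : ∀ k ∈ K, ∀ n ∈ ⁅A, K⁆, k * n * k⁻¹ ∈ ⁅A, K⁆ := fun k hk =>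
      conj_mem_commutator A K k (fun a ha => ‹A.Normal›.conj_mem a ha k)
        (fun k' hk' => K.mul_mem (K.mul_mem hk hk') (K.inv_mem hk))
    have hca : ⁅a, y⁆ ∈ A := by
      rw [commutatorElement_def]
      have := ‹A.Normal›.conj_mem a⁻¹ (A.inv_mem ha) y
      have h2 := A.mul_mem ha this
      simpa [mul_assoc] using h2
    have hcb : ⁅b, y⁆ ∈ A := by
      rw [commutatorElement_def]
      have := ‹A.Normal›.conj_mem b⁻¹ (A.inv_mem hb) y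
      have h2 := A.mul_mem hb this
      simpa [mul_assoc] using h2
    set t : G := ⁅(⁅a, y⁆)⁻¹, b⁆ with ht
    have htN : t ∈ ⁅A, K⁆ :=
      Subgroup.commutator_mem_commutator (A.inv_mem hca) (hAK hb)
    have hcba : ⁅b * a, y⁆ = ⁅a, y⁆ * t * ⁅b, y⁆ := by
      simp only [ht, commutatorElement_def]; group
    refine ⟨b * a, A.mul_mem hb ha, (⁅b, y⁆)⁻¹ * (t⁻¹ * n) * ⁅b, y⁆ * m, ?_, ?_⟩
    · refine Subgroup.mul_mem _ ?_ hm
      have := hNK (⁅b, y⁆)⁻¹ (K.inv_mem (hAK hcb)) (t⁻¹ * n)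
        (Subgroup.mul_mem _ (Subgroup.inv_mem _ htN) hn)
      simpa using this
    · rw [hcba]; group
  inv_mem' := by
    rintro x ⟨a, ha, n, hn, rfl⟩
    have hNK : ∀ k ∈ K, ∀ n ∈ ⁅A, K⁆, k * n * k⁻¹ ∈ ⁅A, K⁆ := fun k hk =>
      conj_mem_commutator A K k (fun a ha => ‹A.Normal›.conj_mem a ha k)
        (fun k' hk' => K.mul_mem (K.mul_mem hk hk') (K.inv_mem hk))
    have hca : ⁅a, y⁆ ∈ A := by
      rw [commutatorElement_def]
      have := ‹A.Normal›.conj_mem a⁻¹ (A.inv_mem ha) y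
      have h2 := A.mul_mem ha this
      simpa [mul_assoc] using h2
    have hcb : ⁅a⁻¹, y⁆ ∈ A := by
      rw [commutatorElement_def]
      have := ‹A.Normal›.conj_mem a⁻¹⁻¹ (A.inv_mem (A.inv_mem ha)) y
      have h2 := A.mul_mem (A.inv_mem ha) this
      simpa [mul_assoc] using h2
    set t : G := ⁅(⁅a, y⁆)⁻¹, a⁻¹⁆ with ht
    have htN : t ∈ ⁅A, K⁆ :=
      Subgroup.commutator_mem_commutator (A.inv_mem hca) (hAK (A.inv_mem ha))
    have h1 : (⁅a, y⁆)⁻¹ = t * ⁅a⁻¹, y⁆ := by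
      simp only [ht, commutatorElement_def]; group
    refine ⟨a⁻¹, A.inv_mem ha, (⁅a⁻¹, y⁆)⁻¹ * (n⁻¹ * t) * ⁅a⁻¹, y⁆, ?_, ?_⟩
    · have := hNK (⁅a⁻¹, y⁆)⁻¹ (K.inv_mem (hAK hcb)) (n⁻¹ * t)
        (Subgroup.mul_mem _ (Subgroup.inv_mem _ hn) htN)
      simpa using this
    · rw [mul_inv_rev, h1]; group

theorem mem_stepSubgroup (A K : Subgroup G) [A.Normal] (hAK : A ≤ K) (y x : G) :
    x ∈ stepSubgroup A K hAK y ↔ ∃ a ∈ A, ∃ n ∈ ⁅A, K⁆, x = ⁅a, y⁆ * n := Iff.rfl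


theorem commutatorElement_mem_of_normal (A : Subgroup G) [A.Normal] {a : G} (ha : a ∈ A) (y : G) :
    ⁅a, y⁆ ∈ A := by
  rw [commutatorElement_def]
  have := ‹A.Normal›.conj_mem a⁻¹ (A.inv_mem ha) y
  have h2 := A.mul_mem ha this
  simpa [mul_assoc] using h2

/-- `K` normalises the auxiliary subgroup -/
theorem conj_mem_stepSubgroup_of_mem (A K : Subgroup G) [A.Normal] (hAK : A ≤ K) (y : G)
    {k : G} (hk : k ∈ K) {x : G} (hx : x ∈ stepSubgroup A K hAK y) :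
    k * x * k⁻¹ ∈ stepSubgroup A K hAK y := by
  obtain ⟨a, ha, n, hn, rfl⟩ := hx
  have hNK : ∀ n ∈ ⁅A, K⁆, k * n * k⁻¹ ∈ ⁅A, K⁆ :=
    conj_mem_commutator A K k (fun a ha => ‹A.Normal›.conj_mem a ha k)
      (fun k' hk' => K.mul_mem (K.mul_mem hk hk') (K.inv_mem hk))
  have hca : ⁅a, y⁆ ∈ A := commutatorElement_mem_of_normal A ha y
  refine ⟨a, ha, ⁅(⁅a, y⁆)⁻¹, k⁆ * (k * n * k⁻¹), ?_, ?_⟩
  · exact Subgroup.mul_mem _
      (Subgroup.commutator_mem_commutator (A.inv_mem hca) hk) (hNK n hn)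
  · simp only [commutatorElement_def]; group

/-- an element normalising `A` (automatic) and `K`, conjugating `y` to itself, normalises the
auxiliary subgroup: here for `y` itself -/
theorem conj_mem_stepSubgroup_self (A K : Subgroup G) [A.Normal] (hAK : A ≤ K) (y : G)
    (hy : ∀ k ∈ K, y * k * y⁻¹ ∈ K) {x : G} (hx : x ∈ stepSubgroup A K hAK y) :
    y * x * y⁻¹ ∈ stepSubgroup A K hAK y := by
  obtain ⟨a, ha, n, hn, rfl⟩ := hx
  have hN : ∀ n ∈ ⁅A, K⁆, y * n * y⁻¹ ∈ ⁅A, K⁆ :=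
    conj_mem_commutator A K y (fun a ha => ‹A.Normal›.conj_mem a ha y) hy
  refine ⟨y * a * y⁻¹, ‹A.Normal›.conj_mem a ha y, y * n * y⁻¹, hN n hn, ?_⟩
  simp only [commutatorElement_def]; group

theorem conj_inv_mem_stepSubgroup_self (A K : Subgroup G) [A.Normal] (hAK : A ≤ K) (y : G)
    (hy' : ∀ k ∈ K, y⁻¹ * k * y ∈ K) {x : G} (hx : x ∈ stepSubgroup A K hAK y) :
    y⁻¹ * x * y ∈ stepSubgroup A K hAK y := by
  obtain ⟨a, ha, n, hn, rfl⟩ := hx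
  have hN : ∀ n ∈ ⁅A, K⁆, y⁻¹ * n * y⁻¹⁻¹ ∈ ⁅A, K⁆ :=
    conj_mem_commutator A K y⁻¹ (fun a ha => ‹A.Normal›.conj_mem a ha y⁻¹)
      (fun k hk => by simpa using hy' k hk)
  have hN' : y⁻¹ * n * y ∈ ⁅A, K⁆ := by simpa using hN n hn
  have hA' : y⁻¹ * a * y ∈ A := by simpa using ‹A.Normal›.conj_mem a ha y⁻¹
  refine ⟨y⁻¹ * a * y, hA', y⁻¹ * n * y, hN', ?_⟩
  simp only [commutatorElement_def]; group

/-- the subgroup of elements normalising the auxiliary subgroup and commutating `A` into it -/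
def stepNormalizer (A K : Subgroup G) [A.Normal] (hAK : A ≤ K) (y : G) : Subgroup G where
  carrier := {l | (∀ x ∈ stepSubgroup A K hAK y, l * x * l⁻¹ ∈ stepSubgroup A K hAK y) ∧
    (∀ x ∈ stepSubgroup A K hAK y, l⁻¹ * x * l ∈ stepSubgroup A K hAK y) ∧
    ∀ a ∈ A, ⁅a, l⁆ ∈ stepSubgroup A K hAK y}
  one_mem' := by
    refine ⟨fun x hx => by simpa using hx, fun x hx => by simpa using hx, fun a _ => ?_⟩
    simp only [commutatorElement_one_right]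
    exact Subgroup.one_mem _
  mul_mem' := by
    rintro l₁ l₂ ⟨h1, h1', h1c⟩ ⟨h2, h2', h2c⟩
    refine ⟨fun x hx => ?_, fun x hx => ?_, fun a ha => ?_⟩
    · have := h1 _ (h2 x hx)
      have e : l₁ * l₂ * x * (l₁ * l₂)⁻¹ = l₁ * (l₂ * x * l₂⁻¹) * l₁⁻¹ := by group
      rw [e]; exact this
    · have := h2' _ (h1' x hx)
      have e : (l₁ * l₂)⁻¹ * x * (l₁ * l₂) = l₂⁻¹ * (l₁⁻¹ * x * l₁) * l₂ := by group
      rw [e]; exact this
    · have e : ⁅a, l₁ * l₂⁆ = ⁅a, l₁⁆ * (l₁ * ⁅a, l₂⁆ * l₁⁻¹) := by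
        simp only [commutatorElement_def]; group
      rw [e]
      exact Subgroup.mul_mem _ (h1c a ha) (h1 _ (h2c a ha))
  inv_mem' := by
    rintro l ⟨h1, h1', h1c⟩
    refine ⟨fun x hx => by simpa using h1' x hx, fun x hx => by simpa using h1 x hx,
      fun a ha => ?_⟩
    have e : ⁅a, l⁻¹⁆ = l⁻¹ * (⁅a, l⁆)⁻¹ * l := by
      simp only [commutatorElement_def]; group
    rw [e]
    exact h1' _ (Subgroup.inv_mem _ (h1c a ha))

/-- `⁅A, K ⊔ ⟨y⟩⁆` lies in the auxiliary subgroup -/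
theorem commutator_sup_zpowers_le_stepSubgroup (A K : Subgroup G) [A.Normal] (hAK : A ≤ K)
    (y : G) (hy : ∀ k ∈ K, y * k * y⁻¹ ∈ K) (hy' : ∀ k ∈ K, y⁻¹ * k * y ∈ K) :
    ⁅A, K ⊔ Subgroup.zpowers y⁆ ≤ stepSubgroup A K hAK y := by
  have hK : K ≤ stepNormalizer A K hAK y := by
    intro k hk
    refine ⟨fun x hx => conj_mem_stepSubgroup_of_mem A K hAK y hk hx, fun x hx => ?_,
      fun a ha => ?_⟩
    · have := conj_mem_stepSubgroup_of_mem A K hAK y (K.inv_mem hk) hx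
      simpa using this
    · exact ⟨1, A.one_mem, ⁅a, k⁆, Subgroup.commutator_mem_commutator ha hk, by simp⟩
  have hyN : y ∈ stepNormalizer A K hAK y := by
    refine ⟨fun x hx => conj_mem_stepSubgroup_self A K hAK y hy hx,
      fun x hx => conj_inv_mem_stepSubgroup_self A K hAK y hy' hx, fun a ha => ?_⟩
    exact ⟨a, ha, 1, Subgroup.one_mem _, by simp⟩
  have hL : K ⊔ Subgroup.zpowers y ≤ stepNormalizer A K hAK y :=
    sup_le hK ((Subgroup.zpowers_le).2 hyN)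
  rw [Subgroup.commutator_le]
  intro a ha l hl
  exact (hL hl).2.2 a ha

/-- the cardinality of the auxiliary subgroup -/
theorem card_stepSubgroup_le [Finite G] (A K : Subgroup G) [A.Normal] (hAK : A ≤ K) (y : G) :
    Nat.card ↥(stepSubgroup A K hAK y) ≤
      Nat.card ↥⁅A, K⁆ * (Subgroup.centralizer ({y} : Set G)).relIndex A := by
  classical
  set C : Subgroup ↥A := (Subgroup.centralizer ({y} : Set G)).subgroupOf A with hC
  let φ : (↥A ⧸ C) × ↥⁅A, K⁆ → G := fun q => ⁅((q.1.out : ↥A) : G), y⁆ * (q.2 : G)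
  have hsub : ((stepSubgroup A K hAK y : Subgroup G) : Set G) ⊆ Set.range φ := by
    rintro x ⟨a, ha, n, hn, rfl⟩
    obtain ⟨z, hz⟩ := QuotientGroup.mk_out_eq_mul C (⟨a, ha⟩ : ↥A)
    refine ⟨(QuotientGroup.mk (⟨a, ha⟩ : ↥A), ⟨n, hn⟩), ?_⟩
    show ⁅(((QuotientGroup.mk (⟨a, ha⟩ : ↥A) : ↥A ⧸ C).out : ↥A) : G), y⁆ * n = ⁅a, y⁆ * n
    rw [hz]
    have hzc : ((z : ↥A) : G) ∈ Subgroup.centralizer ({y} : Set G) :=
      Subgroup.mem_subgroupOf.1 z.2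
    rw [Subgroup.mem_centralizer_iff] at hzc
    have hcomm : y * ((z : ↥A) : G) = ((z : ↥A) : G) * y := hzc y (Set.mem_singleton y)
    congr 1
    simp only [Subgroup.coe_mul, commutatorElement_def]
    have : ((z : ↥A) : G) * y * ((z : ↥A) : G)⁻¹ = y := by
      rw [← hcomm]; group
    calc a * ((z : ↥A) : G) * y * (a * ((z : ↥A) : G))⁻¹ * y⁻¹
        = a * (((z : ↥A) : G) * y * ((z : ↥A) : G)⁻¹) * a⁻¹ * y⁻¹ := by group
      _ = a * y * a⁻¹ * y⁻¹ := by rw [this]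
  have h1 : Nat.card ↥(stepSubgroup A K hAK y) ≤ Nat.card ↥(Set.range φ) :=
    Nat.card_mono (Set.toFinite _) hsub
  have h2 : Nat.card ↥(Set.range φ) ≤ Nat.card ((↥A ⧸ C) × ↥⁅A, K⁆) :=
    Finite.card_range_le φ
  have h3 : Nat.card ((↥A ⧸ C) × ↥⁅A, K⁆) =
      Nat.card ↥⁅A, K⁆ * (Subgroup.centralizer ({y} : Set G)).relIndex A := by
    rw [Nat.card_prod, mul_comm]
    rfl
  omega

/-- **STEP**: `|⁅A, K ⊔ ⟨y⟩⁆| ≤ |⁅A, K⁆| * |A : C_A(y)|` -/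
theorem card_commutator_sup_zpowers_le [Finite G] (A K : Subgroup G) [A.Normal] (hAK : A ≤ K)
    (y : G) (hy : ∀ k ∈ K, y * k * y⁻¹ ∈ K) (hy' : ∀ k ∈ K, y⁻¹ * k * y ∈ K) :
    Nat.card ↥⁅A, K ⊔ Subgroup.zpowers y⁆ ≤
      Nat.card ↥⁅A, K⁆ * (Subgroup.centralizer ({y} : Set G)).relIndex A :=
  (Subgroup.card_le_of_le (commutator_sup_zpowers_le_stepSubgroup A K hAK y hy hy')).trans
    (card_stepSubgroup_le A K hAK y)

end Cfsg.Agent.Lib.H27.S3777
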