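import Mathlib
import Cfsg.Agent.Lib.H27.S3777Step

/-!
# S3777 (helper27): the CHAIN lemma

`G` a finite `p`-group, `A` normal, `M` a proper subgroup such that every `y ∉ M` has
`|A : C_A(y)| ≤ p ^ Δ`.  If `A ≤ K`, `K ⊄ M` and `|G : K| = p ^ n` then
`|⁅A, G⁆| ≤ |⁅A, K⁆| * p ^ (n * Δ)`.
-/

set_option autoImplicit false

namespace Cfsg.Agent.Lib.H27.S3777

open Subgroup
open scoped commutatorElement

variable {G : Type*} [Group G]

/-- a subgroup `N` is not the union of a proper subgroup `K < N` and a subgroup `M` not containing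
`K` -/
theorem exists_not_mem_not_mem (N K M : Subgroup G) (hKN : K < N) (hKM : ¬ K ≤ M) :
    ∃ y ∈ N, y ∉ K ∧ y ∉ M := by
  obtain ⟨a, haN, haK⟩ := SetLike.exists_of_lt hKN
  obtain ⟨b, hbK, hbM⟩ := SetLike.not_le_iff_exists.1 hKM
  by_cases haM : a ∈ M
  · refine ⟨a * b, N.mul_mem haN (hKN.le hbK), fun h => haK ?_, fun h => hbM ?_⟩
    · have := K.mul_mem h (K.inv_mem hbK)
      simpa using this
    · have := M.mul_mem (M.inv_mem haM) h
      simpa using this
  · exact ⟨a, haN, haK, haM⟩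

/-- **CHAIN** -/
theorem card_commutator_top_le {p : ℕ} [Fact p.Prime] [Finite G] (hG : IsPGroup p G)
    (A M : Subgroup G) [A.Normal] (Δ : ℕ)
    (hΔ : ∀ y : G, y ∉ M → (Subgroup.centralizer ({y} : Set G)).relIndex A ≤ p ^ Δ) :
    ∀ (n : ℕ) (K : Subgroup G), A ≤ K → ¬ K ≤ M → K.index = p ^ n →
      Nat.card ↥⁅A, (⊤ : Subgroup G)⁆ ≤ Nat.card ↥⁅A, K⁆ * p ^ (n * Δ) := by
  have hp1 : 1 < p := (Fact.out : p.Prime).one_lt
  intro n
  induction n using Nat.strong_induction_on with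
  | _ n ih =>
    intro K hAK hKM hidx
    by_cases hK : K = ⊤
    · subst hK
      exact Nat.le_mul_of_pos_right _ (pow_pos (by omega) _)
    · -- normaliser grows
      have : Group.IsNilpotent G := hG.isNilpotent
      have hNC : NormalizerCondition G := normalizerCondition_of_isNilpotent
      have hlt : K < normalizer (K : Set G) := hNC K (lt_top_iff_ne_top.2 hK)
      obtain ⟨y, hyN, hyK, hyM⟩ := exists_not_mem_not_mem _ K M hlt hKM
      have hy1 : ∀ k ∈ K, y * k * y⁻¹ ∈ K := fun k hk =>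
        (Subgroup.mem_normalizer_iff.1 hyN k).1 hk
      have hy2 : ∀ k ∈ K, y⁻¹ * k * y ∈ K := fun k hk =>
        (Subgroup.mem_normalizer_iff''.1 hyN k).1 hk
      set K' : Subgroup G := K ⊔ Subgroup.zpowers y with hK'
      have hKK' : K < K' := by
        refine lt_of_le_of_ne le_sup_left fun h => hyK ?_
        have : y ∈ K' := (le_sup_right : Subgroup.zpowers y ≤ K') (Subgroup.mem_zpowers y)
        rw [← h] at this
        exact this
      have hstep := card_commutator_sup_zpowers_le A K hAK y hy1 hy2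
      have hstep' : Nat.card ↥⁅A, K'⁆ ≤ Nat.card ↥⁅A, K⁆ * p ^ Δ :=
        hstep.trans (Nat.mul_le_mul_left _ (hΔ y hyM))
      obtain ⟨m, hm⟩ := hG.index K'
      have hlt' : K'.index < K.index := Subgroup.index_strictAnti hKK'
      rw [hm, hidx] at hlt'
      have hmn : m < n := (Nat.pow_lt_pow_iff_right hp1).1 hlt'
      have hrec := ih m hmn K' (hAK.trans hKK'.le) (fun h => hKM (hKK'.le.trans h)) hm
      calc Nat.card ↥⁅A, (⊤ : Subgroup G)⁆ ≤ Nat.card ↥⁅A, K'⁆ * p ^ (m * Δ) := hrec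
        _ ≤ Nat.card ↥⁅A, K⁆ * p ^ Δ * p ^ (m * Δ) := Nat.mul_le_mul_right _ hstep'
        _ = Nat.card ↥⁅A, K⁆ * p ^ ((m + 1) * Δ) := by
            rw [mul_assoc, ← pow_add]; congr 2; ring
        _ ≤ Nat.card ↥⁅A, K⁆ * p ^ (n * Δ) :=
            Nat.mul_le_mul_left _ (Nat.pow_le_pow_right (by omega)
              (Nat.mul_le_mul_right _ hmn))

end Cfsg.Agent.Lib.H27.S3777
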