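import Cfsg.Agent.Lib.H19.S3797Defs

/-!
# S3797, piece FIN (helper27)

A `G`-invariant series of the critical subgroup `K` all of whose factors are centralised by `S`
forces `S ≤ Q`: the stabiliser `A` of the series is a normal subgroup containing `S`; an element of
odd order of `A` centralises `K`, hence `Q`, hence lies in `Q` and is trivial; so `A` is a normal
2-subgroup and `A ≤ Q`.
-/

set_option autoImplicit false

namespace Cfsg.Agent.Lib.H27.S3797Fin

open Cfsg.Agent.Lib.H19.S3797

universe u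

/-- the stabiliser of a normal series `L 0 ≤ … ≤ L r` -/
def stab {G : Type u} [Group G] (r : ℕ) (L : ℕ → Subgroup G) (hLn : ∀ i, (L i).Normal) : Subgroup G where
  carrier := {g | ∀ i, i < r → ∀ k ∈ L (i + 1), g * k * g⁻¹ * k⁻¹ ∈ L i}
  one_mem' := by
    intro i _ k _
    simp
  mul_mem' := by
    intro g h hg hh i hi k hk
    have h1 := hh i hi k hk
    have h2 := hg i hi k hk
    have h3 : g * (h * k * h⁻¹ * k⁻¹) * g⁻¹ ∈ L i := (hLn i).conj_mem _ h1 g
    have e : g * h * k * (g * h)⁻¹ * k⁻¹ =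
        (g * (h * k * h⁻¹ * k⁻¹) * g⁻¹) * (g * k * g⁻¹ * k⁻¹) := by group
    rw [e]
    exact (L i).mul_mem h3 h2
  inv_mem' := by
    intro g hg i hi k hk
    have hk' : g⁻¹ * k * g ∈ L (i + 1) := by
      have := (hLn (i + 1)).conj_mem k hk g⁻¹
      simpa using this
    have h1 := hg i hi _ hk'
    have e : g⁻¹ * k * g⁻¹⁻¹ * k⁻¹ = (g * (g⁻¹ * k * g) * g⁻¹ * (g⁻¹ * k * g)⁻¹)⁻¹ := by group
    rw [e]
    exact (L i).inv_mem h1

theorem mem_stab {G : Type u} [Group G] (r : ℕ) (L : ℕ → Subgroup G) (hLn : ∀ i, (L i).Normal) (g : G) :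
    g ∈ stab r L hLn ↔ ∀ i, i < r → ∀ k ∈ L (i + 1), g * k * g⁻¹ * k⁻¹ ∈ L i := Iff.rfl

theorem stab_normal {G : Type u} [Group G] (r : ℕ) (L : ℕ → Subgroup G) (hLn : ∀ i, (L i).Normal) :
    (stab r L hLn).Normal := by
  constructor
  intro g hg x
  rw [mem_stab] at hg ⊢
  intro i hi k hk
  have hk' : x⁻¹ * k * x ∈ L (i + 1) := by
    have := (hLn (i + 1)).conj_mem k hk x⁻¹
    simpa using this
  have h1 := hg i hi _ hk'
  have h2 : x * (g * (x⁻¹ * k * x) * g⁻¹ * (x⁻¹ * k * x)⁻¹) * x⁻¹ ∈ L i := (hLn i).conj_mem _ h1 x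
  have e : x * g * x⁻¹ * k * (x * g * x⁻¹)⁻¹ * k⁻¹ =
      x * (g * (x⁻¹ * k * x) * g⁻¹ * (x⁻¹ * k * x)⁻¹) * x⁻¹ := by group
  rw [e]
  exact h2

theorem odd_two_pow_coprime {n m : ℕ} (hn : Odd n) : Nat.Coprime n (2 ^ m) := by
  apply Nat.Coprime.pow_right
  exact Nat.coprime_two_right.mpr hn

theorem fin : FinStmt.{u} := by
  intro G _ _ Q V K hF hC S _hSV hser
  obtain ⟨r, L, hL0, hLr, hLn, hLmono, hstab⟩ := hser
  have hmono : ∀ i j, i ≤ j → L i ≤ L j := by
    intro i j hij
    induction hij with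
    | refl => exact le_rfl
    | step _ ih => exact ih.trans (hLmono _)
  have hLK : ∀ i, i ≤ r → L i ≤ K := fun i hi => hLr ▸ hmono i r hi
  -- an element of odd order of the stabiliser is trivial
  have key : ∀ y ∈ stab r L hLn, Odd (orderOf y) → y = 1 := by
    intro y hy hodd
    rw [mem_stab] at hy
    have hcen : ∀ i, i ≤ r → ∀ k ∈ L i, y * k * y⁻¹ = k := by
      intro i
      induction i with
      | zero =>
        intro _ k hk
        rw [hL0, Subgroup.mem_bot] at hk
        subst hk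
        simp
      | succ i ih =>
        intro hi k hk
        have hi' : i < r := hi
        have hcL : y * k * y⁻¹ * k⁻¹ ∈ L i := hy i hi' k hk
        have hyc : y * (y * k * y⁻¹ * k⁻¹) * y⁻¹ = y * k * y⁻¹ * k⁻¹ := ih (le_of_lt hi') _ hcL
        generalize hc : y * k * y⁻¹ * k⁻¹ = c at hcL hyc
        have hyk : y * k * y⁻¹ = c * k := by rw [← hc]; group
        have hpow : ∀ n : ℕ, y ^ n * k * (y ^ n)⁻¹ = c ^ n * k := by
          intro n
          induction n with
          | zero => simp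
          | succ n ihn =>
            have e1 : y ^ (n + 1) * k * (y ^ (n + 1))⁻¹ = y * (y ^ n * k * (y ^ n)⁻¹) * y⁻¹ := by
              rw [pow_succ']; group
            have e2 : y * (c ^ n * k) * y⁻¹ = (y * c * y⁻¹) ^ n * (y * k * y⁻¹) := by
              rw [conj_pow]; group
            rw [e1, ihn, e2, hyc, hyk, pow_succ]; group
        have h1 := hpow (orderOf y)
        rw [pow_orderOf_eq_one] at h1
        have hc1 : c ^ orderOf y = 1 := by
          have h2 : k = c ^ orderOf y * k := by simpa using h1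
          have h3 : c ^ orderOf y * k = 1 * k := by rw [one_mul]; exact h2.symm
          exact mul_right_cancel h3
        have hcQ : c ∈ Q := hC.KQ (hLK i (le_of_lt hi') hcL)
        obtain ⟨m, hm⟩ := hF.Q2 ⟨c, hcQ⟩
        have hm' : c ^ (2 ^ m) = 1 := by
          have := congrArg Subtype.val hm
          simpa using this
        have hc_one : c = 1 := by
          have h := pow_gcd_eq_one.mpr ⟨hc1, hm'⟩
          rw [(odd_two_pow_coprime hodd : Nat.gcd (orderOf y) (2 ^ m) = 1), pow_one] at h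
          exact h
        rw [hyk, hc_one, one_mul]
    have hyK : ∀ k ∈ K, y * k * y⁻¹ = k := fun k hk => hcen r le_rfl k (hLr ▸ hk)
    have hyQ := hC.faith y hodd hyK
    have hyC : y ∈ Subgroup.centralizer (Q : Set G) := by
      rw [Subgroup.mem_centralizer_iff]
      intro q hq
      have h := hyQ q hq
      calc q * y = (y * q * y⁻¹) * y := by rw [h]
        _ = y * q := by group
    have hyQmem : y ∈ Q := hF.cent hyC
    obtain ⟨m, hm⟩ := hF.Q2 ⟨y, hyQmem⟩
    have hm' : y ^ (2 ^ m) = 1 := by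
      have := congrArg Subtype.val hm
      simpa using this
    have hdvd : orderOf y ∣ 2 ^ m := orderOf_dvd_of_pow_eq_one hm'
    have h1 : orderOf y = 1 := Nat.Coprime.eq_one_of_dvd (odd_two_pow_coprime hodd) hdvd
    exact orderOf_eq_one_iff.mp h1
  -- hence the stabiliser is a 2-group
  have hA2 : IsPGroup 2 (stab r L hLn) := by
    rintro ⟨g, hg⟩
    obtain ⟨a, m, hmodd, hgm⟩ := Nat.exists_eq_two_pow_mul_odd (orderOf_pos g).ne'
    refine ⟨a, ?_⟩
    have hy : g ^ (2 ^ a) ∈ stab r L hLn := (stab r L hLn).pow_mem hg _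
    have hord : orderOf (g ^ (2 ^ a)) = m := by
      rw [orderOf_pow_of_dvd (by positivity) (hgm ▸ Dvd.intro _ rfl), hgm]
      exact Nat.mul_div_cancel_left m (by positivity)
    have h1 := key _ hy (hord ▸ hmodd)
    exact Subtype.ext (by simpa using h1)
  have hAQ : stab r L hLn ≤ Q := hF.Qmax _ (stab_normal r L hLn) hA2
  intro s hs
  exact hAQ ((mem_stab r L hLn s).mpr (hstab s hs))

example : FinStmt.{0} := fin

end Cfsg.Agent.Lib.H27.S3797Fin
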