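import Cfsg.Agent.Lib.H5.S3797MLDefs
import Cfsg.Agent.Lib.H20.S3797Arith

/-!
# S3797, MAIN LEMMA piece (M1): the count (helper27)

Exact shape `m1 : Cfsg.Agent.Lib.H5.S3797ML.M1Stmt`.  Character sums with the sign `sg : ZMod 2 → ℤ`;
arithmetic from `Cfsg.Agent.Lib.H20.S3797Arith.m1_arith`.
-/

set_option autoImplicit false

namespace Cfsg.Agent.Lib.H27.S3797M1

open Cfsg.Agent.Lib.H5.S3797ML

universe u

/-- the sign of an element of `ZMod 2` -/
def sg (a : ZMod 2) : ℤ := if a = 0 then 1 else -1

theorem sg_add (a b : ZMod 2) : sg (a + b) = sg a * sg b := by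
  revert a b; decide

theorem sg_zero : sg 0 = 1 := by decide

theorem sg_sq (a : ZMod 2) : sg a * sg a = 1 := by
  revert a; decide

theorem sg_ne (a : ZMod 2) (h : a ≠ 0) : sg a = -1 := by
  simp [sg, h]

/-- orthogonality: the sign sum of an additive map to `ZMod 2` -/
theorem orth {A : Type u} [AddCommGroup A] [Fintype A] (φ : A → ZMod 2)
    (hφ : ∀ x y, φ (x + y) = φ x + φ y) :
    (∑ x : A, sg (φ x)) = if (∀ x, φ x = 0) then (Fintype.card A : ℤ) else 0 := by
  classical
  split_ifs with h
  · simp [h, sg_zero]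
  · obtain ⟨x0, hx0⟩ := not_forall.mp h
    have e : ∑ x : A, sg (φ (x + x0)) = ∑ x : A, sg (φ x) :=
      Fintype.sum_equiv (Equiv.addRight x0) (fun x => sg (φ (x + x0))) (fun y => sg (φ y))
        (fun x => rfl)
    have e2 : ∑ x : A, sg (φ (x + x0)) = - ∑ x : A, sg (φ x) := by
      rw [← Finset.sum_neg_distrib]
      apply Finset.sum_congr rfl
      intro x _
      rw [hφ, sg_add, sg_ne _ hx0]; ring
    linarith

/-- a finite additive group of exponent 2 has 2-power order -/
theorem card_two_pow (A : Type u) [AddCommGroup A] [Finite A] (h : ∀ x : A, x + x = 0) :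
    ∃ k : ℕ, Nat.card A = 2 ^ k := by
  have hp : IsPGroup 2 (Multiplicative A) := by
    intro g
    refine ⟨1, ?_⟩
    rw [pow_one, pow_two]
    exact congrArg Multiplicative.ofAdd (h (Multiplicative.toAdd g))
  obtain ⟨k, hk⟩ := (IsPGroup.iff_card).mp hp
  refine ⟨k, ?_⟩
  rw [← hk]
  exact Nat.card_congr Multiplicative.ofAdd

section quad

variable {U V : Type u} [AddCommGroup U] [AddCommGroup V] {κ : U → V} {β : U → U → V}

theorem beta_zero_zero (hQ : Quad κ β) : β 0 0 = 0 := by
  have h := hQ.add_left 0 0 0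
  rw [add_zero] at h
  exact (add_eq_left.mp h.symm)

theorem kappa_zero (hQ : Quad κ β) : κ 0 = 0 := by
  have h := hQ.polar 0 0
  rw [add_zero, beta_zero_zero hQ, add_zero] at h
  exact (add_eq_left.mp h.symm)

theorem beta_symm (hQ : Quad κ β) (x y : U) : β x y = β y x := by
  have h1 := hQ.polar x y
  have h2 := hQ.polar y x
  rw [add_comm y x, add_comm (κ y) (κ x)] at h2
  rw [h1] at h2
  exact add_left_cancel h2

theorem add_right (hQ : Quad κ β) (x y z : U) : β x (y + z) = β x y + β x z := by
  rw [beta_symm hQ x (y + z), hQ.add_left, beta_symm hQ y x, beta_symm hQ z x]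

theorem beta_right_zero (hQ : Quad κ β) (x : U) : β x 0 = 0 := by
  have h := add_right hQ x 0 0
  rw [add_zero] at h
  exact (add_eq_left.mp h.symm)

theorem neg_eq_self (hQ : Quad κ β) (t : U) : -t = t :=
  neg_eq_of_add_eq_zero_left (hQ.two_U t)

/-- the radical of `lam ∘ β` -/
def rad (hQ : Quad κ β) (lam : V → ZMod 2) (hlam : ∀ v w, lam (v + w) = lam v + lam w) :
    AddSubgroup U where
  carrier := {t | ∀ x, lam (β x t) = 0}
  zero_mem' := by
    intro x
    have h0 : lam 0 = 0 := by
      have := hlam 0 0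
      rw [add_zero] at this
      exact (add_eq_left.mp this.symm)
    rw [beta_right_zero hQ, h0]
  add_mem' := by
    intro s t hs ht x
    rw [add_right hQ, hlam, hs x, ht x, add_zero]
  neg_mem' := by
    intro t ht x
    rw [neg_eq_self hQ]
    exact ht x

theorem mem_rad (hQ : Quad κ β) (lam : V → ZMod 2) (hlam : ∀ v w, lam (v + w) = lam v + lam w) (t : U) :
    t ∈ rad hQ lam hlam ↔ ∀ x, lam (β x t) = 0 := Iff.rfl

end quad

section main

variable {U V : Type u} [AddCommGroup U] [AddCommGroup V] [Fintype U] [Fintype V] [DecidableEq V]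
  {κ : U → V} {β : U → U → V}

/-- fibre count -/
theorem fib_sum (hQ : Quad κ β) (N1 : ℕ)
    (hN : ∀ v : V, v ≠ 0 → (Finset.univ.filter (fun x : U => κ x = v)).card = N1) (F : V → ℤ) :
    ∑ x : U, F (κ x) = (N1 : ℤ) * ∑ v : V, F v + (1 - (N1 : ℤ)) * F 0 := by
  rw [← Finset.sum_fiberwise' Finset.univ κ F]
  have h0 : (Finset.univ.filter (fun x : U => κ x = 0)).card = 1 := by
    rw [Finset.card_eq_one]
    refine ⟨0, ?_⟩
    ext x
    simp only [Finset.mem_filter, Finset.mem_univ, true_and, Finset.mem_singleton]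
    constructor
    · exact hQ.anis x
    · rintro rfl; exact kappa_zero hQ
  have step : ∀ v : V, (∑ _x ∈ Finset.univ.filter (fun x : U => κ x = v), F v) =
      (N1 : ℤ) * F v + (if v = 0 then (1 - (N1 : ℤ)) * F 0 else 0) := by
    intro v
    rw [Finset.sum_const, nsmul_eq_mul]
    by_cases hv : v = 0
    · subst hv
      rw [h0, if_pos rfl]; push_cast; ring
    · rw [hN v hv, if_neg hv, add_zero]
  rw [Finset.sum_congr rfl (fun v _ => step v), Finset.sum_add_distrib, ← Finset.mul_sum,
    Finset.sum_ite_eq']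
  simp

/-- the square of the sign sum of `lam ∘ κ` -/
theorem sq_sum (hQ : Quad κ β) (lam : V → ZMod 2) (hlam : ∀ v w, lam (v + w) = lam v + lam w) :
    (∑ x : U, sg (lam (κ x))) ^ 2 =
      (Fintype.card U : ℤ) * ∑ t : U, (if (∀ x, lam (β x t) = 0) then sg (lam (κ t)) else 0) := by
  classical
  have e1 : (∑ x : U, sg (lam (κ x))) ^ 2 = ∑ x : U, ∑ t : U, sg (lam (κ x)) * sg (lam (κ (x + t))) := by
    rw [sq, Finset.sum_mul_sum]
    apply Finset.sum_congr rfl
    intro x _
    exact (Fintype.sum_equiv (Equiv.addLeft x) (fun t => sg (lam (κ x)) * sg (lam (κ (x + t))))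
      (fun w => sg (lam (κ x)) * sg (lam (κ w))) (fun t => rfl)).symm
  have e2 : ∀ x t : U, sg (lam (κ x)) * sg (lam (κ (x + t))) = sg (lam (κ t)) * sg (lam (β x t)) := by
    intro x t
    rw [hQ.polar, hlam, hlam, sg_add, sg_add]
    have := sg_sq (lam (κ x))
    calc sg (lam (κ x)) * (sg (lam (κ x)) * sg (lam (κ t)) * sg (lam (β x t)))
        = (sg (lam (κ x)) * sg (lam (κ x))) * (sg (lam (κ t)) * sg (lam (β x t))) := by ring
      _ = sg (lam (κ t)) * sg (lam (β x t)) := by rw [this, one_mul]
  rw [e1, Finset.sum_congr rfl (fun x _ => Finset.sum_congr rfl (fun t _ => e2 x t)), Finset.sum_comm,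
    Finset.mul_sum]
  apply Finset.sum_congr rfl
  intro t _
  rw [← Finset.mul_sum, orth (fun x => lam (β x t)) (fun x y => by rw [hQ.add_left, hlam])]
  split_ifs with h
  · ring
  · ring

/-- the sign sum over the radical is `0` or `|Rad|` -/
theorem rad_sum (hQ : Quad κ β) (lam : V → ZMod 2) (hlam : ∀ v w, lam (v + w) = lam v + lam w) :
    (∑ t : U, (if (∀ x, lam (β x t) = 0) then sg (lam (κ t)) else 0)) = 0 ∨
    (∑ t : U, (if (∀ x, lam (β x t) = 0) then sg (lam (κ t)) else 0)) =
      (Nat.card (rad hQ lam hlam) : ℤ) := by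
  classical
  haveI : Fintype (rad hQ lam hlam) := Fintype.ofFinite _
  have e1 : (∑ t : U, (if (∀ x, lam (β x t) = 0) then sg (lam (κ t)) else 0)) =
      ∑ t : rad hQ lam hlam, sg (lam (κ (t : U))) := by
    rw [← Finset.sum_filter]
    exact Finset.sum_subtype (Finset.univ.filter (fun t : U => ∀ x, lam (β x t) = 0))
      (p := fun t => t ∈ rad hQ lam hlam)
      (fun t => by simp [mem_rad]) (fun t => sg (lam (κ t)))
  have e2 := orth (A := rad hQ lam hlam) (fun t => lam (κ (t : U))) (by
    intro s t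
    have ht : lam (β (s : U) (t : U)) = 0 := t.2 s
    show lam (κ ((s : U) + (t : U))) = _
    rw [hQ.polar, hlam, hlam, ht, add_zero])
  rw [e1, e2]
  split_ifs with h
  · right
    rw [Nat.card_eq_fintype_card]
  · left; rfl

end main

theorem m1 : M1Stmt.{u} := by
  intro U V _ _ _ _ κ β hQ hfib
  classical
  haveI := Fintype.ofFinite U
  haveI := Fintype.ofFinite V
  by_cases hV : ∀ v : V, v = 0
  · left
    have hx : ∀ x : U, x = 0 := fun x => hQ.anis x (hV _)
    haveI : Subsingleton U := ⟨fun a b => by rw [hx a, hx b]⟩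
    exact Nat.card_eq_one_iff_unique.mpr ⟨inferInstance, ⟨0⟩⟩
  · obtain ⟨v0, hv0⟩ := not_forall.mp hV
    obtain ⟨N1, hN1⟩ : ∃ N1, (Finset.univ.filter (fun x : U => κ x = v0)).card = N1 := ⟨_, rfl⟩
    have hN : ∀ v : V, v ≠ 0 → (Finset.univ.filter (fun x : U => κ x = v)).card = N1 := by
      intro v hv
      have := hfib v v0 hv hv0
      rw [Nat.card_eq_fintype_card, Nat.card_eq_fintype_card, Fintype.card_subtype,
        Fintype.card_subtype] at this
      rw [← hN1]
      convert this
    obtain ⟨u, hu⟩ := card_two_pow U hQ.two_U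
    obtain ⟨n, hn⟩ := card_two_pow V hQ.two_V
    rw [Nat.card_eq_fintype_card] at hu hn
    have hn1 : 1 ≤ n := by
      by_contra h
      have h0 : n = 0 := by omega
      rw [h0, pow_zero] at hn
      exact hv0 (Fintype.card_le_one_iff.mp (le_of_eq hn) v0 0)
    have hcount : 2 ^ u = 1 + (2 ^ n - 1) * N1 := by
      have h := fib_sum hQ N1 hN (fun _ => (1 : ℤ))
      simp only [Finset.sum_const, Finset.card_univ, nsmul_eq_mul, mul_one] at h
      rw [hu, hn] at h
      have hpos : 1 ≤ 2 ^ n := Nat.one_le_two_pow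
      zify [hpos]
      push_cast at h
      rw [h]; ring
    have keylam : ∀ (lam : V → ZMod 2) (hlam : ∀ v w, lam (v + w) = lam v + lam w),
        (∃ v, lam v ≠ 0) →
        u = 0 ∨ u = n ∨ (u = 2 * n ∧ Nat.card (rad hQ lam hlam) = 1) := by
      intro lam hlam hne
      have hlam0 : lam 0 = 0 := by
        have := hlam 0 0
        rw [add_zero] at this
        exact (add_eq_left.mp this.symm)
      have hs : ∑ x : U, sg (lam (κ x)) = 1 - (N1 : ℤ) := by
        have h := fib_sum hQ N1 hN (fun v => sg (lam v))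
        rw [h, orth lam hlam, if_neg (by
          intro hall
          obtain ⟨v, hv⟩ := hne
          exact hv (hall v))]
        rw [hlam0, sg_zero]; ring
      obtain ⟨ρ, hρ⟩ := card_two_pow (rad hQ lam hlam) (fun t => Subtype.ext (by
        simpa using hQ.two_U (t : U)))
      have hsq := sq_sum hQ lam hlam
      rw [hs] at hsq
      have harith : ((1 : ℤ) - N1) ^ 2 = 0 ∨ ((1 : ℤ) - N1) ^ 2 = 2 ^ (u + ρ) := by
        rcases rad_sum hQ lam hlam with h0 | h1
        · left; rw [hsq, h0, mul_zero]
        · right; rw [hsq, h1, hρ, hu]; push_cast; rw [pow_add]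
      rcases Cfsg.Agent.Lib.H20.S3797Arith.m1_arith hn1 hcount harith with h | h | ⟨h, hρ0⟩
      · exact Or.inl h
      · exact Or.inr (Or.inl h)
      · exact Or.inr (Or.inr ⟨h, by rw [hρ, hρ0, pow_zero]⟩)
    letI : Module (ZMod 2) V :=
      AddCommGroup.zmodModule (n := 2) (fun x => by rw [two_nsmul]; exact hQ.two_V x)
    have hfun : ∀ H : AddSubgroup V, H ≠ ⊤ → ∃ lam : V → ZMod 2,
        (∀ v w, lam (v + w) = lam v + lam w) ∧ (∃ v, lam v ≠ 0) ∧ ∀ h ∈ H, lam h = 0 := by
      intro H hH
      have hlt : AddSubgroup.toZModSubmodule 2 H < ⊤ := by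
        rw [lt_top_iff_ne_top]
        intro htop
        apply hH
        rw [eq_top_iff]
        intro x _
        have : x ∈ AddSubgroup.toZModSubmodule 2 H := by rw [htop]; trivial
        exact this
      obtain ⟨f, hf0, hle⟩ := Submodule.exists_le_ker_of_lt_top _ hlt
      refine ⟨fun v => f v, fun v w => map_add f v w, ?_, ?_⟩
      · by_contra hall
        apply hf0
        ext v
        by_contra hv
        exact hall ⟨v, by simpa using hv⟩
      · intro h hh
        have := hle (show h ∈ AddSubgroup.toZModSubmodule 2 H from hh)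
        simpa using this
    obtain ⟨lam0, hlam0, hne0, -⟩ := hfun ⊥ (by
      intro h
      have : v0 ∈ (⊥ : AddSubgroup V) := by rw [h]; trivial
      exact hv0 (AddSubgroup.mem_bot.mp this))
    rcases keylam lam0 hlam0 hne0 with h | h | ⟨h, -⟩
    · left; rw [Nat.card_eq_fintype_card, hu, h, pow_zero]
    · right; left; rw [Nat.card_eq_fintype_card, Nat.card_eq_fintype_card, hu, hn, h]
    · right; right
      refine ⟨by rw [Nat.card_eq_fintype_card, Nat.card_eq_fintype_card, hu, hn, h, pow_mul'], ?_⟩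
      intro a ha
      by_contra hsur
      let H : AddSubgroup V :=
        { carrier := Set.range (β a)
          zero_mem' := ⟨0, beta_right_zero hQ a⟩
          add_mem' := by
            rintro _ _ ⟨x, rfl⟩ ⟨y, rfl⟩
            exact ⟨x + y, add_right hQ a x y⟩
          neg_mem' := by
            rintro _ ⟨x, rfl⟩
            exact ⟨x, by rw [neg_eq_of_add_eq_zero_left (hQ.two_V _)]⟩ }
      have hH : H ≠ ⊤ := by
        intro htop
        apply hsur
        intro v
        have : v ∈ H := by rw [htop]; trivial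
        exact this
      obtain ⟨lam, hlam, hne, hvan⟩ := hfun H hH
      rcases keylam lam hlam hne with h' | h' | ⟨-, hcard⟩
      · omega
      · omega
      · have ha_mem : a ∈ rad hQ lam hlam := by
          intro x
          rw [beta_symm hQ x a]
          exact hvan _ ⟨x, rfl⟩
        have hss := (Nat.card_eq_one_iff_unique.mp hcard).1
        have h2 : (⟨a, ha_mem⟩ : rad hQ lam hlam) = 0 := Subsingleton.elim _ _
        exact ha (congrArg Subtype.val h2)

example : M1Stmt.{0} := m1

end Cfsg.Agent.Lib.H27.S3797M1
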