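import Cfsg.Agent.Lib.H27.S3814C1Defs
import Cfsg.Agent.Lib.H7.DihedralLemma2

/-!
# S3814, Case 1 : piece (19) A12 (helper27)

`F(X1) = O_t(X1)` is self-centralising in `X1 = C_X(u0)`.
-/

namespace Cfsg.Agent.H27.S3814C1A12

open Cfsg Cfsg.Agent.H7.S3814Defs Cfsg.Agent.H27.S3814C1 Cfsg.Agent.Lib.H7

universe u

theorem a12 : A12Stmt.{u} := by
  intro G _ σ p V K c M X t t' u0 h a11
  have hfin : Finite G := h.c1.c0.cex.fin
  have hsol : Group.IsSolvable G := h.c1.c0.cex.sol
  have ht : t.Prime := h.c1.c0.cex.prime t h.c1.oth.ht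
  have ht' : t'.Prime := h.c1.c0.cex.prime t' h.c1.oth.ht'
  have : Fact t'.Prime := ⟨ht'⟩
  set L : Subgroup G := X1 X u0 with hL
  have hLsol : Group.IsSolvable L := inferInstance
  set F : Subgroup L := fittingSubgroup L with hF
  set A : Subgroup G := F.map L.subtype with hA
  have hAL : A ≤ L := Subgroup.map_subtype_le F
  have hLn : L ≤ Subgroup.normalizer (A : Set G) :=
    Subgroup.le_normalizer.trans (normalizer_le_normalizer_fittingG L)
  have hcen : ∀ x ∈ L, (∀ a ∈ A, x * a = a * x) → x ∈ A := by
    intro x hx hc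
    apply inf_centralizer_fittingG_le L hLsol
    exact Subgroup.mem_inf.2 ⟨hx, Subgroup.mem_centralizer_iff.2 (fun a ha => (hc a ha).symm)⟩
  -- the Sylow `t'`-subgroup of `F` is trivial
  have hFnil : Group.IsNilpotent F := fittingSubgroup_isNilpotent
  have P : Sylow t' F := default
  have hPn : (P : Subgroup F).Normal := inferInstance
  have hPc : (P : Subgroup F).Characteristic := Sylow.characteristic_of_normal P hPn
  have hFn : F.Normal := fittingSubgroup_normal
  have hYn : ((P : Subgroup F).map F.subtype).Normal :=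
    ConjAct.normal_of_characteristic_of_normal
  set Y : Subgroup G := ((P : Subgroup F).map F.subtype).map L.subtype with hY
  have hYL : Y ≤ L := Subgroup.map_subtype_le _
  have hYnorm : L ≤ Subgroup.normalizer (Y : Set G) := by
    apply (Subgroup.normal_subgroupOf_iff_le_normalizer hYL).1
    have : Y.subgroupOf L = (P : Subgroup F).map F.subtype := by
      rw [hY, Subgroup.subgroupOf]
      exact Subgroup.comap_map_eq_self_of_injective L.subtype_injective _
    rw [this]
    exact hYn
  have hYp : IsPGroup t' Y := (P.isPGroup'.map F.subtype).map L.subtype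
  have hYbot : Y = ⊥ := a11 Y hYL hYnorm hYp
  have hPbot : (P : Subgroup F) = ⊥ := by
    have h1 := (Subgroup.map_eq_bot_iff_of_injective _ L.subtype_injective).1 hYbot
    exact (Subgroup.map_eq_bot_iff_of_injective _ F.subtype_injective).1 h1
  have hnd : ¬ t' ∣ Nat.card F := fun hd => P.ne_bot_of_dvd_card hd hPbot
  -- so `F` is a `t`-group
  have hFp : IsPGroup t F := by
    have hpos : Nat.card F ≠ 0 := Nat.card_pos.ne'
    have hpow := Nat.eq_prime_pow_of_unique_prime_dvd hpos (p := t) (fun {d} hd hdF => by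
      have h1 : d ∣ Nat.card L := hdF.trans (Subgroup.card_subgroup_dvd_card F)
      have h2 : d ∣ Nat.card X := h1.trans (Subgroup.card_dvd_of_le inf_le_left)
      have h3 : d ∣ Nat.card K := h2.trans (Subgroup.card_dvd_of_le h.c1.compl.le)
      obtain ⟨hdσ, hdp⟩ := h.c1.c0.kf.primes d hd h3
      have hdc : d ≠ c := by
        rintro rfl
        have := h.c1.compl.cop.symm.eq_one_of_dvd h2
        exact hd.one_lt.ne' this
      rcases h.c1.oth.all d hdσ with h4 | h4 | h4 | h4
      · exact absurd h4 hdp
      · exact absurd h4 hdc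
      · exact h4
      · exact absurd (h4 ▸ hdF) hnd)
    exact IsPGroup.of_card hpow
  exact ⟨A, hAL, hLn, hFp.map L.subtype, hcen⟩

end Cfsg.Agent.H27.S3814C1A12
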