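import Cfsg.Agent.Lib.H27.S3814C1Defs

/-!
# S3814, Case 1 : the small pieces OTH and MR2 (helper27)
-/

namespace Cfsg.Agent.H27.S3814C1Small

open Cfsg.Agent.H7.S3814Defs Cfsg.Agent.H27.S3814C1

universe u

theorem others : OthersStmt.{u} := by
  intro G _ σ p V K c M h0
  have := h0.cex.fin
  have hcK : c ∣ Nat.card K :=
    (dvd_trans (dvd_pow_self c two_ne_zero) h0.hM2).trans (Subgroup.card_dvd_of_le h0.hMK)
  obtain ⟨hcσ, hcp⟩ := h0.kf.primes c h0.hc hcK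
  have hpσ := h0.shape.hp
  have h2 : ((σ.erase p).erase c).card = 2 := by
    rw [Finset.card_erase_of_mem (Finset.mem_erase.2 ⟨hcp, hcσ⟩),
      Finset.card_erase_of_mem hpσ, h0.cex.card4]
  obtain ⟨t, t', htt', hS⟩ := Finset.card_eq_two.1 h2
  have mem : ∀ s, s ∈ (σ.erase p).erase c ↔ s = t ∨ s = t' := by
    intro s; rw [hS]; simp
  have ht := (mem t).2 (Or.inl rfl)
  have ht' := (mem t').2 (Or.inr rfl)
  simp only [Finset.mem_erase] at ht ht'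
  refine ⟨t, t', hcσ, ht.2.2, ht'.2.2, hcp, ht.2.1, ht'.2.1, ht.1, ht'.1, htt', ?_⟩
  intro s hs
  by_cases h1 : s = p
  · exact Or.inl h1
  by_cases h2 : s = c
  · exact Or.inr (Or.inl h2)
  have := (mem s).1 (Finset.mem_erase.2 ⟨h2, Finset.mem_erase.2 ⟨h1, hs⟩⟩)
  exact Or.inr (Or.inr this)

theorem mrank2 : MRank2Stmt.{u} := by
  intro G _ σ p V K c M h0
  have := h0.cex.fin
  have hc := h0.hc
  have : Fact c.Prime := ⟨hc⟩
  obtain ⟨hab, hexp⟩ := h0.hMe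
  have hcard : c ^ 2 ≤ Nat.card M := Nat.le_of_dvd Nat.card_pos h0.hM2
  have hcc : c < c ^ 2 := by nlinarith [hc.two_le]
  -- a nontrivial element
  have hMne : M ≠ ⊥ := by
    intro h
    rw [h, Subgroup.card_bot] at hcard
    nlinarith [hc.two_le]
  obtain ⟨e₁, he₁, hne₁⟩ := (Subgroup.ne_bot_iff_exists_ne_one.1 hMne) |> fun ⟨x, hx⟩ =>
    (⟨x.1, x.2, fun h => hx (Subtype.ext h)⟩ : ∃ e ∈ M, e ≠ 1)
  have o₁ : orderOf e₁ = c := orderOf_eq_prime (hexp e₁ he₁) hne₁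
  -- an element outside `zpowers e₁`
  have hex : ∃ e₂ ∈ M, e₂ ∉ Subgroup.zpowers e₁ := by
    by_contra hcon
    push Not at hcon
    have hle : M ≤ Subgroup.zpowers e₁ := fun x hx => hcon x hx
    have := Subgroup.card_le_of_le hle
    rw [Nat.card_zpowers, o₁] at this
    omega
  obtain ⟨e₂, he₂, hne₂⟩ := hex
  have hne₂' : e₂ ≠ 1 := fun h => hne₂ (h ▸ Subgroup.one_mem _)
  exact ⟨e₁, he₁, e₂, he₂, o₁, orderOf_eq_prime (hexp e₂ he₂) hne₂', hab e₁ he₁ e₂ he₂, hne₂⟩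

end Cfsg.Agent.H27.S3814C1Small
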