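import Cfsg.Agent.Lib.H27.S3814C1Defs
import Cfsg.Agent.Lib.H27.S3814C1Small
import Cfsg.Agent.Lib.H27.S3814C1A12
import Cfsg.Agent.Lib.H25.S3814C1Compl
import Cfsg.Agent.Lib.H24.S3814C1X
import Cfsg.Agent.Lib.H11.S3814C1Gen
import Cfsg.Agent.Lib.H20.S3814C1G1
import Cfsg.Agent.Lib.H3.S3814C1A0
import Cfsg.Agent.Lib.H6.S3814C1A4
import Cfsg.Agent.Lib.H11.S3814C1A0Uniq
import Cfsg.Agent.Lib.H21.S3814C1A5
import Cfsg.Agent.Lib.H3.S3814C1A6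
import Cfsg.Agent.Lib.H3.S3814C1A7
import Cfsg.Agent.Lib.H16.S3814C1A8
import Cfsg.Agent.Lib.H16.S3814C1E1
import Cfsg.Agent.Lib.H4.S3814C1A11
import Cfsg.Agent.Lib.H1.S3814C1A13
import Cfsg.Agent.Lib.H9.S3814C1LCyc

/-!
# S3814, shape (I), BLOCK CASE 1 : final assembly (helper27)
-/

namespace Cfsg.Agent.H27.S3814C1Asm

open Cfsg.Agent.H7.S3814Defs Cfsg.Agent.H27.S3814C1

universe u

/-- Case 1 with every piece but (21) LCYC plugged. -/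
theorem case1_of_lcyc (hL : LCycStmt.{u}) : Case1Stmt.{u} :=
  case1 Cfsg.Agent.H27.S3814C1Small.others Cfsg.Agent.H27.S3814C1Small.mrank2
    Cfsg.Agent.Lib.H11.S3814C1Gen.goodInM
    Cfsg.Agent.Lib.H25.S3814C1Compl.compl Cfsg.Agent.Lib.H24.S3814C1X.xRank2
    Cfsg.Agent.Lib.H24.S3814C1X.xJ2 Cfsg.Agent.Lib.H11.S3814C1Gen.f4
    Cfsg.Agent.Lib.H20.S3814C1G1.g1
    Cfsg.Agent.Lib.H3.S3814C1A0.a0bad Cfsg.Agent.Lib.H3.S3814C1A0.a0prime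
    Cfsg.Agent.Lib.H11.S3814C1A0Uniq.a0uniq
    Cfsg.Agent.Lib.H6.S3814C1A4.a4 Cfsg.Agent.Lib.H21.S3814C1A5.a5
    Cfsg.Agent.Lib.H3.S3814C1A6.a6 Cfsg.Agent.Lib.H3.S3814C1A7.a7
    Cfsg.Agent.Lib.H16.S3814C1A8.a8 Cfsg.Agent.Lib.H16.S3814C1E1.e1
    Cfsg.Agent.Lib.H4.S3814C1A11.a11 Cfsg.Agent.H27.S3814C1A12.a12
    Cfsg.Agent.Lib.H1.S3814C1A13.a13 hL

/-- BLOCK CASE 1, all 21 pieces plugged. -/
theorem case1_all : Case1Stmt.{u} := case1_of_lcyc Cfsg.Agent.Lib.H9.S3814C1LCyc.lcyc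

end Cfsg.Agent.H27.S3814C1Asm
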