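import Cfsg.Agent.Lib.H27.SU3R25
import Cfsg.Agent.Lib.H27.SU3Defs

set_option autoImplicit false
set_option linter.unusedSectionVars false
set_option linter.unusedVariables false

namespace Cfsg.Agent.Lib.H27.SU3

open Cfsg Cfsg.Geo
open scoped MatrixGroups Matrix

variable {F : Type*} [Field F] [Fintype F]

theorem charP5 (hF : Fintype.card F = 5 ^ 2) : CharP F 5 := by
  have : Fact (Nat.Prime 5) := ⟨by norm_num⟩
  exact charP_of_card_eq_prime_pow hF

theorem pow25 (hF : Fintype.card F = 5 ^ 2) (x : F) : x ^ 25 = x := by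
  have := FiniteField.pow_card x
  rwa [hF] at this

theorem conj_conj (hF : Fintype.card F = 5 ^ 2) (x : F) : (x ^ 5) ^ 5 = x := by
  rw [← pow_mul]; exact pow25 hF x

/-- a square root of `2` -/
theorem exists_theta (hF : Fintype.card F = 5 ^ 2) : ∃ θ : F, θ * θ = 2 := by
  have := charP5 hF
  have h5 : (5 : F) = 0 := by exact_mod_cast CharP.cast_eq_zero F 5
  have h2 : (2 : F) ≠ 0 := by
    intro h
    have : (1 : F) = 0 := by linear_combination h5 - 2 * h
    exact one_ne_zero this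
  have hne : ringChar F ≠ 2 := by
    rw [ringChar.eq F 5]; norm_num
  have := (FiniteField.isSquare_iff hne h2).2 (by
    rw [hF]
    norm_num
    have : (4096 : F) = 1 + 5 * 819 := by norm_num
    rw [this, h5]; ring)
  obtain ⟨θ, hθ⟩ := this
  exact ⟨θ, hθ.symm⟩


theorem cast_fin_add (F : Type*) [Field F] [CharP F 5] (a b : Fin 5) :
    ((a + b).val : F) = (a.val : F) + (b.val : F) := by
  rw [Fin.val_add, ← Nat.cast_add, ← CharP.natCast_eq_natCast_mod F 5]

theorem cast_fin_mul (F : Type*) [Field F] [CharP F 5] (a b : Fin 5) :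
    ((a * b).val : F) = (a.val : F) * (b.val : F) := by
  rw [Fin.val_mul, ← Nat.cast_mul, ← CharP.natCast_eq_natCast_mod F 5]

/-- the isomorphism of the model `R25` onto `F`, `t ↦ θ` -/
noncomputable def phi [CharP F 5] (θ : F) (hθ : θ * θ = 2) : R25 →+* F where
  toFun x := (x.a.val : F) + (x.b.val : F) * θ
  map_one' := by simp
  map_zero' := by simp
  map_add' x y := by
    simp only [R25.add_a, R25.add_b, cast_fin_add]
    ring
  map_mul' x y := by
    simp only [R25.mul_a, R25.mul_b, cast_fin_add, cast_fin_mul]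
    have h2 : ((2 : Fin 5).val : F) = 2 := by norm_num
    rw [h2]
    linear_combination (-(x.b.val : F) * (y.b.val : F)) * hθ

theorem phi_apply [CharP F 5] (θ : F) (hθ : θ * θ = 2) (x : R25) :
    phi θ hθ x = (x.a.val : F) + (x.b.val : F) * θ := rfl

theorem phi_injective [CharP F 5] (θ : F) (hθ : θ * θ = 2) : Function.Injective (phi θ hθ) :=
  RingHom.injective _

theorem phi_bijective (hF : Fintype.card F = 5 ^ 2) [CharP F 5] (θ : F) (hθ : θ * θ = 2) :
    Function.Bijective (phi θ hθ) := by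
  rw [Fintype.bijective_iff_injective_and_card]
  exact ⟨phi_injective θ hθ, by rw [R25.card_eq, hF]; norm_num⟩

theorem phi_surjective (hF : Fintype.card F = 5 ^ 2) [CharP F 5] (θ : F) (hθ : θ * θ = 2) (x : F) :
    ∃ r : R25, phi θ hθ r = x := (phi_bijective hF θ hθ).2 x

theorem phi_re [CharP F 5] (θ : F) (hθ : θ * θ = 2) (a : Fin 5) : phi θ hθ (re a) = (a.val : F) := by
  simp [phi_apply, re]


section generic

variable {R S : Type*} [CommRing R] [CommRing S]

theorem nrm_map (φ : R →+* S) (x : R) : nrm (φ x) = φ (nrm x) := by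
  simp only [nrm, map_mul]

theorem fq_map (φ : R →+* S) (x y z : R) : fq (φ x) (φ y) (φ z) = φ (fq x y z) := by
  simp only [fq, nrm_map, map_add]

theorem e2q_map (φ : R →+* S) (x y z : R) : e2q (φ x) (φ y) (φ z) = φ (e2q x y z) := by
  simp only [e2q, nrm_map, map_add, map_mul]

theorem e3q_map (φ : R →+* S) (x y z : R) : e3q (φ x) (φ y) (φ z) = φ (e3q x y z) := by
  simp only [e3q, nrm_map, map_mul]

theorem ccq_map (φ : R →+* S) (x y z : R) : ccq (φ x) (φ y) (φ z) = φ (ccq x y z) := by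
  simp only [ccq, map_mul]

theorem sig3_map (φ : R →+* S) (hφ : Function.Injective φ) (x y z : R) :
    sig3 (φ x) (φ y) (φ z) ↔ sig3 x y z := by
  have h0 : ∀ a : R, φ a = 0 ↔ a = 0 := fun a => by rw [← map_zero φ, hφ.eq_iff]
  have h2 : (2 : S) = φ 2 := by rw [map_ofNat]
  have h4 : (4 : S) = φ 4 := by rw [map_ofNat]
  unfold sig3
  rw [fq_map, e2q_map, e3q_map, ccq_map, h2, h4, ← map_mul, ← map_mul, ← map_mul, ← map_add,
    hφ.eq_iff, hφ.eq_iff, h0, h0, h0]
  rw [Ne, h0]

theorem nrm_mul (x y : R) : nrm (x * y) = nrm x * nrm y := by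
  unfold nrm; ring

theorem fq_smul (c x y z : R) : fq (c * x) (c * y) (c * z) = nrm c * fq x y z := by
  simp only [fq, nrm_mul]; ring

theorem e2q_smul (c x y z : R) : e2q (c * x) (c * y) (c * z) = nrm c * nrm c * e2q x y z := by
  simp only [e2q, nrm_mul]; ring

theorem e3q_smul (c x y z : R) : e3q (c * x) (c * y) (c * z) = nrm c * nrm c * nrm c * e3q x y z := by
  simp only [e3q, nrm_mul]; ring

theorem ccq_smul (c x y z : R) : ccq (c * x) (c * y) (c * z) = nrm c * ccq x y z := by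
  simp only [ccq, nrm]; ring

theorem not_sig3_zero : ¬ sig3 (0 : R) 0 0 := by
  rintro ⟨h, -⟩
  apply h
  simp [fq, nrm]

end generic

theorem sig3_smul {K : Type*} [Field K] {c : K} (hc : c ≠ 0) (x y z : K) :
    sig3 (c * x) (c * y) (c * z) ↔ sig3 x y z := by
  have hn : nrm c ≠ 0 := by
    unfold nrm
    exact mul_ne_zero hc (mul_ne_zero (mul_ne_zero (mul_ne_zero hc hc) (mul_ne_zero hc hc)) hc)
  unfold sig3
  rw [fq_smul, e2q_smul, e3q_smul, ccq_smul]
  have e1 : nrm c * fq x y z ≠ 0 ↔ fq x y z ≠ 0 := by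
    rw [Ne, Ne, mul_eq_zero]; tauto
  have e2 : nrm c * nrm c * nrm c * e3q x y z = 0 ↔ e3q x y z = 0 := by
    rw [mul_eq_zero, mul_eq_zero, mul_eq_zero]; tauto
  have e3 : nrm c * nrm c * e2q x y z = 0 ↔ e2q x y z = 0 := by
    rw [mul_eq_zero, mul_eq_zero]; tauto
  have e4 : nrm c * nrm c * e2q x y z + nrm c * fq x y z * (nrm c * fq x y z) = 0 ↔
      e2q x y z + fq x y z * fq x y z = 0 := by
    have : nrm c * nrm c * e2q x y z + nrm c * fq x y z * (nrm c * fq x y z) =
        nrm c * nrm c * (e2q x y z + fq x y z * fq x y z) := by ring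
    rw [this, mul_eq_zero, mul_eq_zero]; tauto
  have e5 : ∀ k : K, nrm c * ccq x y z = k * (nrm c * fq x y z) ↔ ccq x y z = k * fq x y z := by
    intro k
    have : k * (nrm c * fq x y z) = nrm c * (k * fq x y z) := by ring
    rw [this]
    exact mul_right_inj' hn
  rw [e1, e2, e3, e4, e5, e5]



/-- the point set, as a condition on vectors -/
def sigV (v : Fin 3 → F) : Prop := sig3 (v 0) (v 1) (v 2)

theorem sigV_smul {c : F} (hc : c ≠ 0) (v : Fin 3 → F) : sigV (c • v) ↔ sigV v := by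
  unfold sigV
  simp only [Pi.smul_apply, smul_eq_mul]
  exact sig3_smul hc _ _ _

theorem not_sigV_zero : ¬ sigV (0 : Fin 3 → F) := not_sig3_zero

/-- the stabiliser of the point set in `GL_3(F)` -/
def MA7 (F : Type*) [Field F] : Subgroup (GL (Fin 3) F) where
  carrier := {g | ∀ v, sigV ((g : Matrix (Fin 3) (Fin 3) F) *ᵥ v) ↔ sigV v}
  mul_mem' {a b} ha hb := by
    intro v
    rw [Units.val_mul, ← Matrix.mulVec_mulVec, ha, hb]
  one_mem' := by intro v; simp
  inv_mem' {a} ha := by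
    intro v
    have h := ha ((a⁻¹ : GL (Fin 3) F).1 *ᵥ v)
    rw [Matrix.mulVec_mulVec, ← Units.val_mul, mul_inv_cancel, Units.val_one, Matrix.one_mulVec] at h
    exact h.symm

theorem mem_MA7 (g : GL (Fin 3) F) :
    g ∈ MA7 F ↔ ∀ v, sigV ((g : Matrix (Fin 3) (Fin 3) F) *ᵥ v) ↔ sigV v := Iff.rfl

theorem mulVec3 (M : Matrix (Fin 3) (Fin 3) F) (v : Fin 3 → F) (i : Fin 3) :
    (M *ᵥ v) i = M i 0 * v 0 + M i 1 * v 1 + M i 2 * v 2 := by
  simp [Matrix.mulVec, dotProduct, Fin.sum_univ_three]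

theorem cast_fin_inj (F : Type*) [Field F] [CharP F 5] (a b : Fin 5) : ((a.val : F) = (b.val : F)) ↔ a = b := by
  rw [CharP.natCast_eq_natCast F 5, Nat.ModEq, Nat.mod_eq_of_lt a.2, Nat.mod_eq_of_lt b.2, Fin.val_inj]

/-- normalisation of a non-zero vector -/
theorem exists_normal (v : Fin 3 → F) (hv : v ≠ 0) :
    ∃ (c : F) (w : Fin 3 → F), c ≠ 0 ∧ v = c • w ∧
      ((w 0 = 1) ∨ (w 0 = 0 ∧ w 1 = 1) ∨ (w 0 = 0 ∧ w 1 = 0 ∧ w 2 = 1)) := by
  by_cases h0 : v 0 = 0
  · by_cases h1 : v 1 = 0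
    · have h2 : v 2 ≠ 0 := by
        intro h2
        apply hv
        funext i
        fin_cases i <;> simp [h0, h1, h2]
      refine ⟨v 2, (v 2)⁻¹ • v, h2, ?_, Or.inr (Or.inr ⟨?_, ?_, ?_⟩)⟩
      · rw [smul_smul, mul_inv_cancel₀ h2, one_smul]
      · simp [h0]
      · simp [h1]
      · simp [h2]
    · refine ⟨v 1, (v 1)⁻¹ • v, h1, ?_, Or.inr (Or.inl ⟨?_, ?_⟩)⟩
      · rw [smul_smul, mul_inv_cancel₀ h1, one_smul]
      · simp [h0]
      · simp [h1]
  · refine ⟨v 0, (v 0)⁻¹ • v, h0, ?_, Or.inl ?_⟩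
    · rw [smul_smul, mul_inv_cancel₀ h0, one_smul]
    · simp [h0]

/-- the model matrix `(m_ij)` maps the points of the set (normalised representatives) into the set -/
def inv3g (m00 m01 m02 m10 m11 m12 m20 m21 m22 : R25) : Prop :=
  (∀ y z : R25, sig3 1 y z → sig3 (m00 + m01 * y + m02 * z) (m10 + m11 * y + m12 * z)
      (m20 + m21 * y + m22 * z)) ∧
  (∀ z : R25, sig3 0 1 z → sig3 (m01 + m02 * z) (m11 + m12 * z) (m21 + m22 * z)) ∧
  (sig3 (0 : R25) 0 1 → sig3 m02 m12 m22)

instance (m00 m01 m02 m10 m11 m12 m20 m21 m22 : R25) :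
    Decidable (inv3g m00 m01 m02 m10 m11 m12 m20 m21 m22) := by
  unfold inv3g; infer_instance

theorem inv3_iff (a11 a12 a13 a21 a22 a23 a31 a32 a33 : Fin 5) :
    inv3 a11 a12 a13 a21 a22 a23 a31 a32 a33 ↔
      inv3g (re a11) (re a12) (re a13) (re a21) (re a22) (re a23) (re a31) (re a32) (re a33) := Iff.rfl

/-- a matrix over `F` whose model satisfies `inv3g` maps the point set into itself -/
theorem maps_of_inv3g (hF : Fintype.card F = 5 ^ 2) [CharP F 5] (θ : F) (hθ : θ * θ = 2)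
    (b : Matrix (Fin 3) (Fin 3) F) (m : Fin 3 → Fin 3 → R25) (hre : ∀ i j, b i j = phi θ hθ (m i j))
    (hchk : inv3g (m 0 0) (m 0 1) (m 0 2) (m 1 0) (m 1 1) (m 1 2) (m 2 0) (m 2 1) (m 2 2))
    (v : Fin 3 → F) (hv : sigV v) : sigV (b *ᵥ v) := by
  have hinj := phi_injective θ hθ
  obtain ⟨h1, h2, h3⟩ := hchk
  have hv0 : v ≠ 0 := by
    rintro rfl
    exact not_sigV_zero hv
  obtain ⟨c, w, hc, rfl, hw⟩ := exists_normal v hv0
  rw [sigV_smul hc] at hv
  rw [Matrix.mulVec_smul, sigV_smul hc]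
  obtain ⟨y, hy⟩ := phi_surjective hF θ hθ (w 1)
  obtain ⟨z, hz⟩ := phi_surjective hF θ hθ (w 2)
  unfold sigV at hv ⊢
  rw [mulVec3, mulVec3, mulVec3]
  rcases hw with hw | ⟨hw0, hw1⟩ | ⟨hw0, hw1, hw2⟩
  · rw [hw, ← hy, ← hz] at hv ⊢
    rw [← map_one (phi θ hθ), sig3_map _ hinj] at hv
    have := h1 y z hv
    rw [← sig3_map _ hinj] at this
    simp only [map_add, map_mul, ← hre] at this
    simpa using this
  · rw [hw0, hw1, ← hz] at hv ⊢
    rw [← map_one (phi θ hθ), ← map_zero (phi θ hθ), sig3_map _ hinj] at hv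
    have := h2 z hv
    rw [← sig3_map _ hinj] at this
    simp only [map_add, map_mul, ← hre] at this
    simpa using this
  · rw [hw0, hw1, hw2] at hv ⊢
    rw [← map_one (phi θ hθ), ← map_zero (phi θ hθ), sig3_map _ hinj] at hv
    have := h3 hv
    rw [← sig3_map _ hinj] at this
    simp only [← hre] at this
    simpa using this

/-- **real orthogonal matrices map the point set into itself** (from `realCheck`) -/
theorem real_orth_maps (hF : Fintype.card F = 5 ^ 2) [CharP F 5] (θ : F) (hθ : θ * θ = 2)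
    (b : Matrix (Fin 3) (Fin 3) F) (β : Fin 3 → Fin 3 → Fin 5) (hb : ∀ i j, b i j = ((β i j).val : F))
    (horth : ∀ j k, b 0 j * b 0 k + b 1 j * b 1 k + b 2 j * b 2 k = if j = k then 1 else 0)
    (v : Fin 3 → F) (hv : sigV v) : sigV (b *ᵥ v) := by
  -- orthonormality in `Fin 5`
  have horth5 : ∀ j k, β 0 j * β 0 k + β 1 j * β 1 k + β 2 j * β 2 k = if j = k then 1 else 0 := by
    intro j k
    rw [← cast_fin_inj F]
    have := horth j k
    rw [hb, hb, hb, hb, hb, hb] at this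
    rw [cast_fin_add, cast_fin_add, cast_fin_mul, cast_fin_mul, cast_fin_mul, this]
    split_ifs <;> simp
  have hchk := realCheck (β 0 0) (β 1 0) (β 2 0) (by simpa using horth5 0 0)
    (β 0 1) (β 1 1) (β 2 1) ⟨by simpa using horth5 1 1, by simpa using horth5 0 1⟩
    (β 0 2) (β 1 2) (β 2 2) ⟨by simpa using horth5 2 2, by simpa using horth5 0 2, by simpa using horth5 1 2⟩
  exact maps_of_inv3g hF θ hθ b (fun i j => re (β i j)) (fun i j => by rw [phi_re, hb])
    ((inv3_iff _ _ _ _ _ _ _ _ _).1 hchk) v hv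

/-- a real orthogonal matrix lies in the stabiliser -/
theorem real_orth_mem_MA7 (hF : Fintype.card F = 5 ^ 2) [CharP F 5] (θ : F) (hθ : θ * θ = 2)
    (g : GL (Fin 3) F) (hb : ∀ i j, ∃ β : Fin 5, (g : Matrix (Fin 3) (Fin 3) F) i j = (β.val : F))
    (horth : (g : Matrix (Fin 3) (Fin 3) F)ᵀ * (g : Matrix (Fin 3) (Fin 3) F) = 1) : g ∈ MA7 F := by
  choose β hβ using hb
  have horth' : (g : Matrix (Fin 3) (Fin 3) F) * (g : Matrix (Fin 3) (Fin 3) F)ᵀ = 1 :=
    (Matrix.mul_eq_one_comm_of_card_eq (Fin 3) (Fin 3) F rfl).mp horth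
  have h1 : ∀ j k, (g : Matrix (Fin 3) (Fin 3) F) 0 j * (g : Matrix (Fin 3) (Fin 3) F) 0 k +
      (g : Matrix (Fin 3) (Fin 3) F) 1 j * (g : Matrix (Fin 3) (Fin 3) F) 1 k +
      (g : Matrix (Fin 3) (Fin 3) F) 2 j * (g : Matrix (Fin 3) (Fin 3) F) 2 k = if j = k then 1 else 0 := by
    intro j k
    have := congrFun (congrFun horth j) k
    rw [Matrix.mul_apply, Fin.sum_univ_three, Matrix.one_apply] at this
    simpa [Matrix.transpose_apply] using this
  have h2 : ∀ j k, (g : Matrix (Fin 3) (Fin 3) F)ᵀ 0 j * (g : Matrix (Fin 3) (Fin 3) F)ᵀ 0 k +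
      (g : Matrix (Fin 3) (Fin 3) F)ᵀ 1 j * (g : Matrix (Fin 3) (Fin 3) F)ᵀ 1 k +
      (g : Matrix (Fin 3) (Fin 3) F)ᵀ 2 j * (g : Matrix (Fin 3) (Fin 3) F)ᵀ 2 k = if j = k then 1 else 0 := by
    intro j k
    have := congrFun (congrFun horth' j) k
    rw [Matrix.mul_apply, Fin.sum_univ_three, Matrix.one_apply] at this
    simpa [Matrix.transpose_apply] using this
  intro v
  constructor
  · intro h
    have := real_orth_maps hF θ hθ ((g : Matrix (Fin 3) (Fin 3) F)ᵀ) (fun i j => β j i)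
      (fun i j => by rw [Matrix.transpose_apply, hβ]) h2 _ h
    rwa [Matrix.mulVec_mulVec, horth, Matrix.one_mulVec] at this
  · intro h
    exact real_orth_maps hF θ hθ (g : Matrix (Fin 3) (Fin 3) F) β hβ h1 v h

/-- scalar multiples -/
theorem smul_mem_MA7 {g g' : GL (Fin 3) F} {c : F} (hc : c ≠ 0) (hg : g ∈ MA7 F)
    (h : (g' : Matrix (Fin 3) (Fin 3) F) = c • (g : Matrix (Fin 3) (Fin 3) F)) : g' ∈ MA7 F := by
  intro v
  rw [h, Matrix.smul_mulVec, sigV_smul hc]
  exact hg v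

section perm

variable {R : Type*} [CommRing R]

theorem sig3_swap12 (x y z : R) : sig3 y x z ↔ sig3 x y z := by
  have h1 : fq y x z = fq x y z := by unfold fq; ring
  have h2 : e2q y x z = e2q x y z := by unfold e2q; ring
  have h3 : e3q y x z = e3q x y z := by unfold e3q; ring
  have h4 : ccq y x z = ccq x y z := by unfold ccq; ring
  unfold sig3
  rw [h1, h2, h3, h4]

theorem sig3_swap23 (x y z : R) : sig3 x z y ↔ sig3 x y z := by
  have h1 : fq x z y = fq x y z := by unfold fq; ring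
  have h2 : e2q x z y = e2q x y z := by unfold e2q; ring
  have h3 : e3q x z y = e3q x y z := by unfold e3q; ring
  have h4 : ccq x z y = ccq x y z := by unfold ccq; ring
  unfold sig3
  rw [h1, h2, h3, h4]

theorem sig3_perm (u : Fin 3 → R) (a b c : Fin 3) (hab : a ≠ b) (hac : a ≠ c) (hbc : b ≠ c) :
    sig3 (u a) (u b) (u c) ↔ sig3 (u 0) (u 1) (u 2) := by
  fin_cases a <;> fin_cases b <;> fin_cases c <;> simp only [ne_eq, not_true_eq_false] at hab hac hbc
  all_goals first
    | exact Iff.rfl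
    | exact sig3_swap23 _ _ _
    | exact sig3_swap12 _ _ _
    | exact (sig3_swap12 _ _ _).trans (sig3_swap23 _ _ _)
    | exact (sig3_swap23 _ _ _).trans (sig3_swap12 _ _ _)
    | exact (sig3_swap12 _ _ _).trans ((sig3_swap23 _ _ _).trans (sig3_swap12 _ _ _))

theorem sig3_diag (d0 d1 d2 x y z : R) (h0 : nrm d0 = 1) (h1 : nrm d1 = 1) (h2 : nrm d2 = 1)
    (hd : d0 * d1 * d2 * (d0 * d1 * d2) = 1) : sig3 (d0 * x) (d1 * y) (d2 * z) ↔ sig3 x y z := by
  have e1 : fq (d0 * x) (d1 * y) (d2 * z) = fq x y z := by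
    simp only [fq, nrm_mul, h0, h1, h2, one_mul]
  have e2 : e2q (d0 * x) (d1 * y) (d2 * z) = e2q x y z := by
    simp only [e2q, nrm_mul, h0, h1, h2, one_mul]
  have e3 : e3q (d0 * x) (d1 * y) (d2 * z) = e3q x y z := by
    simp only [e3q, nrm_mul, h0, h1, h2, one_mul]
  have e4 : ccq (d0 * x) (d1 * y) (d2 * z) = ccq x y z := by
    have : ccq (d0 * x) (d1 * y) (d2 * z) = (d0 * d1 * d2 * (d0 * d1 * d2)) * ccq x y z := by
      unfold ccq; ring
    rw [this, hd, one_mul]
  unfold sig3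
  rw [e1, e2, e3, e4]

end perm

theorem herm3 (u v : Fin 3 → F) :
    hermForm 3 F 5 u v = u 0 * v 0 ^ 5 + u 1 * v 1 ^ 5 + u 2 * v 2 ^ 5 := by
  unfold hermForm
  rw [Fin.sum_univ_three]

theorem nrm_eq (x : F) : nrm x = x * x ^ 5 := by unfold nrm; ring

/-- **monomial matrices of `SU_3(5)` lie in the stabiliser** -/
theorem mono_mem_MA7 (h : GL (Fin 3) F) (hGU : h ∈ GU 3 F 5)
    (hdet : (h : Matrix (Fin 3) (Fin 3) F).det = 1) (σ : Equiv.Perm (Fin 3)) (d : Fin 3 → F)
    (hmono : ∀ i, (h : Matrix (Fin 3) (Fin 3) F) *ᵥ Pi.single i 1 = d i • Pi.single (σ i) 1) :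
    h ∈ MA7 F := by
  classical
  -- entries
  have hent : ∀ k i, (h : Matrix (Fin 3) (Fin 3) F) k i = if k = σ i then d i else 0 := by
    intro k i
    have := congrFun (hmono i) k
    rw [Matrix.mulVec_single_one] at this
    simp only [Pi.smul_apply, smul_eq_mul, Pi.single_apply, mul_ite, mul_one, mul_zero] at this
    exact this
  -- norms
  have hnrm : ∀ i, nrm (d i) = 1 := by
    intro i
    have := hGU (Pi.single i 1) (Pi.single i 1)
    change hermForm 3 F 5 ((h : Matrix (Fin 3) (Fin 3) F) *ᵥ Pi.single i 1)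
      ((h : Matrix (Fin 3) (Fin 3) F) *ᵥ Pi.single i 1) = _ at this
    rw [hmono] at this
    rw [herm3, herm3] at this
    simp only [Pi.smul_apply, smul_eq_mul, Pi.single_apply, mul_ite, mul_one, mul_zero] at this
    rw [nrm_eq]
    have hσ : ∀ k, (if k = σ i then d i else 0) * (if k = σ i then d i else 0) ^ 5 =
        if k = σ i then d i * d i ^ 5 else 0 := by
      intro k; split_ifs <;> simp
    rw [hσ, hσ, hσ] at this
    have hi : ∀ k : Fin 3, ((if k = i then (1 : F) else 0) * (if k = i then (1 : F) else 0) ^ 5) =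
        if k = i then 1 else 0 := by
      intro k; split_ifs <;> simp
    rw [hi, hi, hi] at this
    have e1 : ∀ (c : F) (j : Fin 3), (if (0 : Fin 3) = j then c else 0) + (if (1 : Fin 3) = j then c else 0) +
        (if (2 : Fin 3) = j then c else 0) = c := by
      intro c j; fin_cases j <;> simp
    rw [e1, e1] at this
    exact this
  -- determinant
  have hdd : d 0 * d 1 * d 2 * (d 0 * d 1 * d 2) = 1 := by
    have h1 : (h : Matrix (Fin 3) (Fin 3) F).det = Equiv.Perm.sign σ • ∏ i, d i := by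
      rw [Matrix.det_apply, Finset.sum_eq_single σ]
      · congr 1
        apply Finset.prod_congr rfl
        intro i _
        rw [hent, if_pos rfl]
      · intro π _ hπ
        have : ∃ i, π i ≠ σ i := by
          by_contra hcon
          push Not at hcon
          exact hπ (Equiv.ext hcon)
        obtain ⟨i, hi⟩ := this
        rw [Finset.prod_eq_zero (Finset.mem_univ i) (by rw [hent, if_neg hi]), smul_zero]
      · intro hn; exact absurd (Finset.mem_univ σ) hn
    rw [hdet, Fin.prod_univ_three] at h1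
    rcases Int.units_eq_one_or (Equiv.Perm.sign σ) with hs | hs
    · rw [hs, one_smul] at h1
      rw [← h1, one_mul]
    · rw [hs] at h1
      have : d 0 * d 1 * d 2 = -1 := by
        rw [Units.smul_def] at h1
        simp at h1
        linear_combination h1
      rw [this]; ring
  intro v
  -- coordinates of `h v`
  have hcoord : ∀ k, ((h : Matrix (Fin 3) (Fin 3) F) *ᵥ v) k = d (σ.symm k) * v (σ.symm k) := by
    intro k
    rw [Matrix.mulVec, dotProduct, Finset.sum_eq_single (σ.symm k)]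
    · rw [hent, if_pos (by simp)]
    · intro i _ hi
      rw [hent, if_neg, zero_mul]
      intro hk
      apply hi
      rw [hk, Equiv.symm_apply_apply]
    · intro hn; exact absurd (Finset.mem_univ _) hn
  unfold sigV
  rw [hcoord, hcoord, hcoord]
  have hne : ∀ a b : Fin 3, a ≠ b → σ.symm a ≠ σ.symm b := fun a b hab hh => hab (σ.symm.injective hh)
  rw [sig3_perm (fun i => d i * v i) (σ.symm 0) (σ.symm 1) (σ.symm 2) (hne _ _ (by decide))
    (hne _ _ (by decide)) (hne _ _ (by decide))]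
  exact sig3_diag _ _ _ _ _ _ (hnrm 0) (hnrm 1) (hnrm 2) hdd

end Cfsg.Agent.Lib.H27.SU3
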