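/-
S5778 (row `SU_3(q)`), `q = 5`, piece `core5` (helper27): the model computation.  `s₀` of order 7 in `SU_3(5)`;
every element of `SU_3(5)` normalising `⟨s₀⟩` is `[x | s₀^j x | s₀^{2j} x] C⁻¹` (`x` its first column,
`C = [e₁ | s₀ e₁ | s₀² e₁]`), and all such matrices map the 105 points into themselves (`decide +kernel`).
-/
import Cfsg.Agent.Lib.H27.SU3A7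

set_option autoImplicit false

namespace Cfsg.Agent.Lib.H27.SU3

/-- `x ↦ x^5` on the model -/
def conj25 (x : R25) : R25 := ⟨x.a, -x.b⟩

theorem conj25_eq : ∀ x : R25, conj25 x = x ^ 5 := by decide +kernel

/-- the hermitian form on the model -/
def hf (x0 x1 x2 y0 y1 y2 : R25) : R25 := x0 * conj25 y0 + x1 * conj25 y1 + x2 * conj25 y2

def det9 (a b c d e f g h i : R25) : R25 :=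
  a * e * i - a * f * h - b * d * i + b * f * g + c * d * h - c * e * g

/-- the powers of `s₀ = pw 1` -/
def pw : Fin 7 → Fin 3 → Fin 3 → R25
  | 0 => ![![⟨1, 0⟩, ⟨0, 0⟩, ⟨0, 0⟩], ![⟨0, 0⟩, ⟨1, 0⟩, ⟨0, 0⟩], ![⟨0, 0⟩, ⟨0, 0⟩, ⟨1, 0⟩]]
  | 1 => ![![⟨0, 0⟩, ⟨0, 1⟩, ⟨1, 2⟩], ![⟨1, 3⟩, ⟨3, 0⟩, ⟨4, 1⟩], ![⟨4, 2⟩, ⟨3, 0⟩, ⟨4, 1⟩]]
  | 2 => ![![⟨3, 1⟩, ⟨3, 4⟩, ⟨0, 3⟩], ![⟨3, 1⟩, ⟨2, 4⟩, ⟨3, 1⟩], ![⟨3, 1⟩, ⟨0, 2⟩, ⟨2, 1⟩]]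
  | 3 => ![![⟨4, 0⟩, ⟨1, 4⟩, ⟨3, 3⟩], ![⟨2, 0⟩, ⟨2, 3⟩, ⟨2, 2⟩], ![⟨4, 0⟩, ⟨3, 2⟩, ⟨1, 1⟩]]
  | 4 => ![![⟨4, 0⟩, ⟨2, 0⟩, ⟨4, 0⟩], ![⟨1, 1⟩, ⟨2, 2⟩, ⟨3, 3⟩], ![⟨3, 2⟩, ⟨2, 3⟩, ⟨1, 4⟩]]
  | 5 => ![![⟨3, 4⟩, ⟨3, 4⟩, ⟨3, 4⟩], ![⟨3, 1⟩, ⟨2, 1⟩, ⟨0, 3⟩], ![⟨0, 2⟩, ⟨3, 4⟩, ⟨2, 4⟩]]
  | 6 => ![![⟨0, 0⟩, ⟨1, 2⟩, ⟨4, 3⟩], ![⟨0, 4⟩, ⟨3, 0⟩, ⟨3, 0⟩], ![⟨1, 3⟩, ⟨4, 4⟩, ⟨4, 4⟩]]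

/-- `C⁻¹`, `C = [e₁ | s₀ e₁ | s₀² e₁]` -/
def cinv : Fin 3 → Fin 3 → R25 :=
  ![![⟨1, 0⟩, ⟨2, 0⟩, ⟨2, 0⟩], ![⟨0, 0⟩, ⟨1, 2⟩, ⟨4, 3⟩], ![⟨0, 0⟩, ⟨2, 1⟩, ⟨2, 1⟩]]

/-- second stage of the check: `y = s₀^j x`, `z = s₀^{2j} x` -/
def chk2 (x0 x1 x2 y0 y1 y2 z0 z1 z2 : R25) : Prop :=
  hf y0 y1 y2 x0 x1 x2 = ⟨0, 0⟩ → hf z0 z1 z2 x0 x1 x2 = ⟨3, 1⟩ → hf z0 z1 z2 y0 y1 y2 = ⟨0, 0⟩ →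
  det9 x0 y0 z0 x1 y1 z1 x2 y2 z2 = ⟨3, 0⟩ →
  inv3g (x0 * cinv 0 0 + y0 * cinv 1 0 + z0 * cinv 2 0) (x0 * cinv 0 1 + y0 * cinv 1 1 + z0 * cinv 2 1)
    (x0 * cinv 0 2 + y0 * cinv 1 2 + z0 * cinv 2 2)
    (x1 * cinv 0 0 + y1 * cinv 1 0 + z1 * cinv 2 0) (x1 * cinv 0 1 + y1 * cinv 1 1 + z1 * cinv 2 1)
    (x1 * cinv 0 2 + y1 * cinv 1 2 + z1 * cinv 2 2)
    (x2 * cinv 0 0 + y2 * cinv 1 0 + z2 * cinv 2 0) (x2 * cinv 0 1 + y2 * cinv 1 1 + z2 * cinv 2 1)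
    (x2 * cinv 0 2 + y2 * cinv 1 2 + z2 * cinv 2 2)

instance (x0 x1 x2 y0 y1 y2 z0 z1 z2 : R25) : Decidable (chk2 x0 x1 x2 y0 y1 y2 z0 z1 z2) := by
  unfold chk2; infer_instance

/-- first stage: `x` a unit vector -/
def chk1 (A B : Fin 3 → Fin 3 → R25) (x0 x1 x2 : R25) : Prop :=
  hf x0 x1 x2 x0 x1 x2 = 1 →
  chk2 x0 x1 x2 (A 0 0 * x0 + A 0 1 * x1 + A 0 2 * x2) (A 1 0 * x0 + A 1 1 * x1 + A 1 2 * x2)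
    (A 2 0 * x0 + A 2 1 * x1 + A 2 2 * x2) (B 0 0 * x0 + B 0 1 * x1 + B 0 2 * x2)
    (B 1 0 * x0 + B 1 1 * x1 + B 1 2 * x2) (B 2 0 * x0 + B 2 1 * x1 + B 2 2 * x2)

instance (A B : Fin 3 → Fin 3 → R25) (x0 x1 x2 : R25) : Decidable (chk1 A B x0 x1 x2) := by
  unfold chk1; infer_instance

set_option maxRecDepth 100000 in
theorem normCheck : ∀ j : Fin 7, ∀ x0 x1 x2 : R25, chk1 (pw j) (pw (j + j)) x0 x1 x2 := by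
  decide +kernel

end Cfsg.Agent.Lib.H27.SU3
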