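/-
S5778 (row `SU_3(q)`), `q = 5`, piece `core5` (helper27): model matrices over `F`, the element `s₀` of order 7 and its
normaliser inside the stabiliser of the 105 points.
-/
import Cfsg.Agent.Lib.H27.SU3C5a
import Cfsg.Agent.Lib.H28.GLBasic

set_option autoImplicit false
set_option linter.unusedSectionVars false
set_option linter.unusedVariables false

namespace Cfsg.Agent.Lib.H27.SU3

open Cfsg Cfsg.Geo
open scoped MatrixGroups Matrix

variable {F : Type*} [Field F] [Fintype F]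

/-- model matrix ↦ matrix over `F` -/
noncomputable def matF [CharP F 5] (θ : F) (hθ : θ * θ = 2) (m : Fin 3 → Fin 3 → R25) :
    Matrix (Fin 3) (Fin 3) F := Matrix.of fun i j => phi θ hθ (m i j)

theorem matF_apply [CharP F 5] (θ : F) (hθ : θ * θ = 2) (m : Fin 3 → Fin 3 → R25) (i j : Fin 3) :
    matF θ hθ m i j = phi θ hθ (m i j) := rfl

/-- product of model matrices -/
def mul3 (A B : Fin 3 → Fin 3 → R25) : Fin 3 → Fin 3 → R25 :=
  fun i k => A i 0 * B 0 k + A i 1 * B 1 k + A i 2 * B 2 k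

theorem matF_mul [CharP F 5] (θ : F) (hθ : θ * θ = 2) (A B : Fin 3 → Fin 3 → R25) :
    matF θ hθ A * matF θ hθ B = matF θ hθ (mul3 A B) := by
  ext i k
  rw [Matrix.mul_apply, Fin.sum_univ_three]
  simp only [matF_apply, mul3, map_add, map_mul]

/-- the `3 × 3` determinant of a model matrix -/
def det3 (m : Fin 3 → Fin 3 → R25) : R25 :=
  det9 (m 0 0) (m 0 1) (m 0 2) (m 1 0) (m 1 1) (m 1 2) (m 2 0) (m 2 1) (m 2 2)

theorem matF_det [CharP F 5] (θ : F) (hθ : θ * θ = 2) (m : Fin 3 → Fin 3 → R25) :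
    (matF θ hθ m).det = phi θ hθ (det3 m) := by
  rw [Matrix.det_fin_three]
  simp only [matF_apply, det3, det9, map_add, map_sub, map_mul]

/-- the columns of a model matrix are orthonormal for the hermitian form -/
def orth3 (m : Fin 3 → Fin 3 → R25) : Prop :=
  ∀ i j : Fin 3, hf (m 0 i) (m 1 i) (m 2 i) (m 0 j) (m 1 j) (m 2 j) = if i = j then 1 else 0

instance (m : Fin 3 → Fin 3 → R25) : Decidable (orth3 m) := by unfold orth3; infer_instance

theorem phi_hf [CharP F 5] (θ : F) (hθ : θ * θ = 2) (x0 x1 x2 y0 y1 y2 : R25) :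
    phi θ hθ (hf x0 x1 x2 y0 y1 y2) = phi θ hθ x0 * phi θ hθ y0 ^ 5 + phi θ hθ x1 * phi θ hθ y1 ^ 5 +
      phi θ hθ x2 * phi θ hθ y2 ^ 5 := by
  simp only [hf, conj25_eq, map_add, map_mul, map_pow]

theorem add_pow5 [CharP F 5] (a b : F) : (a + b) ^ 5 = a ^ 5 + b ^ 5 := by
  have : Fact (Nat.Prime 5) := ⟨by norm_num⟩
  exact add_pow_char a b 5

/-- a matrix with orthonormal columns lies in `GU_3(5)` -/
theorem mem_GU_of_cols [CharP F 5] (g : GL (Fin 3) F)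
    (h : ∀ i j : Fin 3, (g : Matrix (Fin 3) (Fin 3) F) 0 i * (g : Matrix (Fin 3) (Fin 3) F) 0 j ^ 5 +
      (g : Matrix (Fin 3) (Fin 3) F) 1 i * (g : Matrix (Fin 3) (Fin 3) F) 1 j ^ 5 +
      (g : Matrix (Fin 3) (Fin 3) F) 2 i * (g : Matrix (Fin 3) (Fin 3) F) 2 j ^ 5 = if i = j then 1 else 0) :
    g ∈ GU 3 F 5 := by
  intro u v
  change hermForm 3 F 5 ((g : Matrix (Fin 3) (Fin 3) F) *ᵥ u) ((g : Matrix (Fin 3) (Fin 3) F) *ᵥ v) = _
  rw [herm3, herm3, mulVec3, mulVec3, mulVec3, mulVec3, mulVec3, mulVec3]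
  simp only [add_pow5, mul_pow]
  have h00 := h 0 0; have h01 := h 0 1; have h02 := h 0 2
  have h10 := h 1 0; have h11 := h 1 1; have h12 := h 1 2
  have h20 := h 2 0; have h21 := h 2 1; have h22 := h 2 2
  simp only [Fin.isValue, if_true, if_false, Fin.reduceEq] at h00 h01 h02 h10 h11 h12 h20 h21 h22
  linear_combination (u 0 * v 0 ^ 5) * h00 + (u 0 * v 1 ^ 5) * h01 + (u 0 * v 2 ^ 5) * h02 +
    (u 1 * v 0 ^ 5) * h10 + (u 1 * v 1 ^ 5) * h11 + (u 1 * v 2 ^ 5) * h12 +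
    (u 2 * v 0 ^ 5) * h20 + (u 2 * v 1 ^ 5) * h21 + (u 2 * v 2 ^ 5) * h22

/-- the element of `GL_3(F)` of a model matrix of determinant one -/
noncomputable def glOf [CharP F 5] (θ : F) (hθ : θ * θ = 2) (m : Fin 3 → Fin 3 → R25) (hdet : det3 m = 1) :
    GL (Fin 3) F :=
  Matrix.GeneralLinearGroup.mkOfDetNeZero (matF θ hθ m) (by rw [matF_det, hdet, map_one]; exact one_ne_zero)

theorem glOf_val [CharP F 5] (θ : F) (hθ : θ * θ = 2) (m : Fin 3 → Fin 3 → R25) (hdet : det3 m = 1) :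
    ((glOf θ hθ m hdet : GL (Fin 3) F) : Matrix (Fin 3) (Fin 3) F) = matF θ hθ m := rfl

theorem glOf_mem_SU3 [CharP F 5] (θ : F) (hθ : θ * θ = 2) (m : Fin 3 → Fin 3 → R25) (hdet : det3 m = 1)
    (horth : orth3 m) : glOf θ hθ m hdet ∈ SU3 F 5 := by
  refine ⟨?_, ?_⟩
  · apply mem_GU_of_cols
    intro i j
    rw [glOf_val]
    simp only [matF_apply]
    rw [← phi_hf, horth i j]
    split_ifs <;> simp
  · refine (Cfsg.Agent.Lib.H28.mem_specialLinear_iff _).2 ?_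
    rw [glOf_val, matF_det, hdet, map_one]


theorem det3_pw : ∀ j : Fin 7, det3 (pw j) = 1 := by decide +kernel

theorem orth3_pw : ∀ j : Fin 7, orth3 (pw j) := by decide +kernel

theorem mul3_pw' : ∀ (j k : Fin 7) (i l : Fin 3), mul3 (pw j) (pw k) i l = pw (j + k) i l := by decide +kernel

theorem mul3_pw (j k : Fin 7) : mul3 (pw j) (pw k) = pw (j + k) := by
  funext i l; exact mul3_pw' j k i l

/-- `C = [e₁ | s₀ e₁ | s₀² e₁]` -/
def cmat : Fin 3 → Fin 3 → R25 :=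
  ![![1, pw 1 0 0, pw 2 0 0], ![0, pw 1 1 0, pw 2 1 0], ![0, pw 1 2 0, pw 2 2 0]]

theorem mul3_cmat_cinv : ∀ i k : Fin 3, mul3 cmat cinv i k = if i = k then 1 else 0 := by decide +kernel

theorem pw_zero : ∀ i k : Fin 3, pw 0 i k = if i = k then 1 else 0 := by decide +kernel

theorem cmat_facts : hf (cmat 0 1) (cmat 1 1) (cmat 2 1) (cmat 0 0) (cmat 1 0) (cmat 2 0) = ⟨0, 0⟩ ∧
    hf (cmat 0 2) (cmat 1 2) (cmat 2 2) (cmat 0 0) (cmat 1 0) (cmat 2 0) = ⟨3, 1⟩ ∧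
    hf (cmat 0 2) (cmat 1 2) (cmat 2 2) (cmat 0 1) (cmat 1 1) (cmat 2 1) = ⟨0, 0⟩ ∧
    hf (cmat 0 0) (cmat 1 0) (cmat 2 0) (cmat 0 0) (cmat 1 0) (cmat 2 0) = 1 ∧
    det3 cmat = ⟨3, 0⟩ := by decide +kernel

/-- reduction mod 7 -/
def fin7 (n : ℕ) : Fin 7 := ⟨n % 7, Nat.mod_lt _ (by norm_num)⟩

theorem fin7_succ (n : ℕ) : fin7 (n + 1) = fin7 n + 1 := by
  apply Fin.ext
  rw [Fin.val_add]
  simp [fin7, Nat.add_mod]

section core

variable [CharP F 5] (θ : F) (hθ : θ * θ = 2)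

theorem matF_one : matF θ hθ (pw 0) = 1 := by
  ext i k
  rw [matF_apply, pw_zero, Matrix.one_apply]
  split_ifs <;> simp

theorem glOf_pw_mul (j k : Fin 7) :
    glOf θ hθ (pw j) (det3_pw j) * glOf θ hθ (pw k) (det3_pw k) = glOf θ hθ (pw (j + k)) (det3_pw _) := by
  apply Units.ext
  rw [Units.val_mul, glOf_val, glOf_val, glOf_val, matF_mul, mul3_pw]

theorem glOf_pw_zero : glOf θ hθ (pw 0) (det3_pw 0) = 1 := by
  apply Units.ext
  rw [glOf_val, matF_one]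
  rfl

theorem s0_pow (n : ℕ) :
    glOf θ hθ (pw 1) (det3_pw 1) ^ n = glOf θ hθ (pw (fin7 n)) (det3_pw _) := by
  induction n with
  | zero =>
    have : fin7 0 = 0 := rfl
    rw [pow_zero, this, glOf_pw_zero]
  | succ n ih =>
    rw [pow_succ, ih, glOf_pw_mul]
    congr 2
    exact (fin7_succ n).symm

theorem s0_pow_seven : glOf θ hθ (pw 1) (det3_pw 1) ^ 7 = 1 := by
  rw [s0_pow]
  have : fin7 7 = 0 := rfl
  rw [this, glOf_pw_zero]

theorem s0_ne_one : glOf θ hθ (pw 1) (det3_pw 1) ≠ 1 := by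
  intro h
  have := congrArg (fun g : GL (Fin 3) F => (g : Matrix (Fin 3) (Fin 3) F) 0 0) h
  simp only [glOf_val, matF_apply, Units.val_one, Matrix.one_apply_eq] at this
  have h0 : pw 1 0 0 = 0 := by decide
  rw [h0, map_zero] at this
  exact zero_ne_one this

theorem orderOf_s0 : orderOf (glOf θ hθ (pw 1) (det3_pw 1)) = 7 := by
  have : Fact (Nat.Prime 7) := ⟨by norm_num⟩
  exact orderOf_eq_prime (s0_pow_seven θ hθ) (s0_ne_one θ hθ)

/-- **every element of `SU_3(5)` normalising `⟨s₀⟩` maps the point set into itself** -/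
theorem normalizer_maps (hF : Fintype.card F = 5 ^ 2) (g : GL (Fin 3) F) (hg : g ∈ SU3 F 5) (j : Fin 7)
    (hcomm : g * glOf θ hθ (pw 1) (det3_pw 1) = glOf θ hθ (pw j) (det3_pw j) * g)
    (v : Fin 3 → F) (hv : sigV v) : sigV ((g : Matrix (Fin 3) (Fin 3) F) *ᵥ v) := by
  have hinj := phi_injective θ hθ
  obtain ⟨G, hG⟩ : ∃ G : Matrix (Fin 3) (Fin 3) F, G = (g : Matrix (Fin 3) (Fin 3) F) := ⟨_, rfl⟩
  rw [← hG]
  have hGS : G * matF θ hθ (pw 1) = matF θ hθ (pw j) * G := by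
    have := congrArg (fun u : GL (Fin 3) F => (u : Matrix (Fin 3) (Fin 3) F)) hcomm
    simp only [Units.val_mul, glOf_val] at this
    rw [hG]; exact this
  have hGS2 : G * matF θ hθ (pw 2) = matF θ hθ (pw (j + j)) * G := by
    have h2 : matF θ hθ (pw 2) = matF θ hθ (pw 1) * matF θ hθ (pw 1) := by
      rw [matF_mul, mul3_pw]; rfl
    rw [h2, ← Matrix.mul_assoc, hGS, Matrix.mul_assoc, hGS, ← Matrix.mul_assoc, matF_mul, mul3_pw]
  -- the first column and its model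
  choose x' hx' using fun r => phi_surjective hF θ hθ (G r 0)
  obtain ⟨y', hy'⟩ : ∃ y' : Fin 3 → R25, y' = fun r => pw j r 0 * x' 0 + pw j r 1 * x' 1 + pw j r 2 * x' 2 :=
    ⟨_, rfl⟩
  obtain ⟨z', hz'⟩ : ∃ z' : Fin 3 → R25,
      z' = fun r => pw (j + j) r 0 * x' 0 + pw (j + j) r 1 * x' 1 + pw (j + j) r 2 * x' 2 := ⟨_, rfl⟩
  have hy : ∀ r, phi θ hθ (y' r) = (G * matF θ hθ (pw 1)) r 0 := by
    intro r
    rw [hGS, Matrix.mul_apply, Fin.sum_univ_three, hy']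
    simp only [matF_apply, map_add, map_mul, hx']
  have hz : ∀ r, phi θ hθ (z' r) = (G * matF θ hθ (pw 2)) r 0 := by
    intro r
    rw [hGS2, Matrix.mul_apply, Fin.sum_univ_three, hz']
    simp only [matF_apply, map_add, map_mul, hx']
  obtain ⟨Y', hY'⟩ : ∃ Y' : Fin 3 → Fin 3 → R25, Y' = fun r a => ![x' r, y' r, z' r] a := ⟨_, rfl⟩
  -- `G C = Y`
  have hYC : G * matF θ hθ cmat = matF θ hθ Y' := by
    ext r a
    rw [matF_apply, hY']
    fin_cases a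
    · show (G * matF θ hθ cmat) r 0 = phi θ hθ (x' r)
      rw [Matrix.mul_apply, Fin.sum_univ_three, hx']
      simp only [matF_apply]
      have e0 : cmat 0 0 = 1 := rfl
      have e1 : cmat 1 0 = 0 := rfl
      have e2 : cmat 2 0 = 0 := rfl
      rw [e0, e1, e2, map_one, map_zero]; ring
    · show (G * matF θ hθ cmat) r 1 = phi θ hθ (y' r)
      rw [hy, Matrix.mul_apply, Matrix.mul_apply]
      rfl
    · show (G * matF θ hθ cmat) r 2 = phi θ hθ (z' r)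
      rw [hz, Matrix.mul_apply, Matrix.mul_apply]
      rfl
  -- `G = Y C⁻¹`
  have hCC : matF θ hθ cmat * matF θ hθ cinv = 1 := by
    rw [matF_mul]
    ext i k
    rw [matF_apply, mul3_cmat_cinv, Matrix.one_apply]
    split_ifs <;> simp
  have hGY : G = matF θ hθ (mul3 Y' cinv) := by
    rw [← matF_mul, ← hYC, Matrix.mul_assoc, hCC, Matrix.mul_one]
  -- unitarity: Gram matrix of `Y` = Gram matrix of `C`
  have hGU : ∀ u w : Fin 3 → F, hermForm 3 F 5 (G *ᵥ u) (G *ᵥ w) = hermForm 3 F 5 u w := by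
    intro u w
    rw [hG]
    exact hg.1 u w
  have hgram : ∀ a b : Fin 3, hf (Y' 0 a) (Y' 1 a) (Y' 2 a) (Y' 0 b) (Y' 1 b) (Y' 2 b) =
      hf (cmat 0 a) (cmat 1 a) (cmat 2 a) (cmat 0 b) (cmat 1 b) (cmat 2 b) := by
    intro a b
    apply hinj
    rw [phi_hf, phi_hf]
    have h1 := hGU (fun l => matF θ hθ cmat l a) (fun l => matF θ hθ cmat l b)
    have h2 : ∀ c : Fin 3, G *ᵥ (fun l => matF θ hθ cmat l c) = fun r => matF θ hθ Y' r c := by
      intro c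
      funext r
      rw [← hYC, Matrix.mul_apply]
      rfl
    rw [h2, h2, herm3, herm3] at h1
    simpa only [matF_apply] using h1
  have hdet : det3 Y' = det3 cmat := by
    apply hinj
    rw [← matF_det, ← matF_det, ← hYC, Matrix.det_mul]
    have : G.det = 1 := by
      rw [hG]; exact (Cfsg.Agent.Lib.H28.mem_specialLinear_iff _).1 hg.2
    rw [this, one_mul]
  obtain ⟨c1, c2, c3, c4, c5⟩ := cmat_facts
  have hchk := normCheck j (x' 0) (x' 1) (x' 2)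
  have hY0 : ∀ r, Y' r 0 = x' r := fun r => by rw [hY']; rfl
  have hY1 : ∀ r, Y' r 1 = y' r := fun r => by rw [hY']; rfl
  have hY2 : ∀ r, Y' r 2 = z' r := fun r => by rw [hY']; rfl
  have g00 := hgram 0 0
  have g10 := hgram 1 0
  have g20 := hgram 2 0
  have g21 := hgram 2 1
  rw [c4] at g00
  rw [c1] at g10
  rw [c2] at g20
  rw [c3] at g21
  simp only [hY0, hY1, hY2] at g00 g10 g20 g21
  rw [c5] at hdet
  unfold det3 at hdet
  simp only [hY0, hY1, hY2] at hdet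
  rw [hy'] at g10 g21 hdet
  rw [hz'] at g20 g21 hdet
  have hfin := hchk g00 g10 g20 g21 hdet
  refine maps_of_inv3g hF θ hθ G (mul3 Y' cinv) (fun i k => by rw [hGY]; rfl) ?_ v hv
  simp only [mul3, hY0, hY1, hY2]
  rw [hy', hz']
  exact hfin

/-- an explicit model matrix and its inverse, both satisfying the check, give an element of the stabiliser -/
theorem glOf_mem_MA7 (hF : Fintype.card F = 5 ^ 2) (m mi : Fin 3 → Fin 3 → R25) (hdet : det3 m = 1)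
    (hmul : ∀ i k : Fin 3, mul3 mi m i k = if i = k then 1 else 0)
    (h1 : inv3g (m 0 0) (m 0 1) (m 0 2) (m 1 0) (m 1 1) (m 1 2) (m 2 0) (m 2 1) (m 2 2))
    (h2 : inv3g (mi 0 0) (mi 0 1) (mi 0 2) (mi 1 0) (mi 1 1) (mi 1 2) (mi 2 0) (mi 2 1) (mi 2 2)) :
    glOf θ hθ m hdet ∈ MA7 F := by
  intro v
  rw [glOf_val]
  constructor
  · intro h
    have := maps_of_inv3g hF θ hθ (matF θ hθ mi) mi (fun _ _ => rfl) h2 _ h
    rw [Matrix.mulVec_mulVec, matF_mul] at this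
    have hone : matF θ hθ (mul3 mi m) = 1 := by
      ext i k
      rw [matF_apply, hmul, Matrix.one_apply]
      split_ifs <;> simp
    rwa [hone, Matrix.one_mulVec] at this
  · intro h
    exact maps_of_inv3g hF θ hθ (matF θ hθ m) m (fun _ _ => rfl) h1 v h

end core

/-- an element of `SU_3(5)` which does not stabilise the point set -/
def mOut : Fin 3 → Fin 3 → R25 :=
  ![![⟨0, 0⟩, ⟨2, 0⟩, ⟨3, 1⟩], ![⟨0, 0⟩, ⟨2, 1⟩, ⟨2, 0⟩], ![⟨1, 0⟩, ⟨0, 0⟩, ⟨0, 0⟩]]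

theorem mOut_facts : det3 mOut = 1 ∧ orth3 mOut ∧ sig3 (0 : R25) 0 1 ∧ ¬ sig3 (mOut 0 2) (mOut 1 2) (mOut 2 2) := by
  decide +kernel

/-- the cyclic permutation matrix: in the stabiliser, does not normalise `⟨s₀⟩` -/
def mCyc : Fin 3 → Fin 3 → R25 :=
  ![![⟨0, 0⟩, ⟨0, 0⟩, ⟨1, 0⟩], ![⟨1, 0⟩, ⟨0, 0⟩, ⟨0, 0⟩], ![⟨0, 0⟩, ⟨1, 0⟩, ⟨0, 0⟩]]

def mCycInv : Fin 3 → Fin 3 → R25 :=
  ![![⟨0, 0⟩, ⟨1, 0⟩, ⟨0, 0⟩], ![⟨0, 0⟩, ⟨0, 0⟩, ⟨1, 0⟩], ![⟨1, 0⟩, ⟨0, 0⟩, ⟨0, 0⟩]]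

theorem mCyc_facts : det3 mCyc = 1 ∧ orth3 mCyc ∧
    (∀ i k : Fin 3, mul3 mCycInv mCyc i k = if i = k then 1 else 0) ∧
    inv3g (mCyc 0 0) (mCyc 0 1) (mCyc 0 2) (mCyc 1 0) (mCyc 1 1) (mCyc 1 2) (mCyc 2 0) (mCyc 2 1) (mCyc 2 2) ∧
    inv3g (mCycInv 0 0) (mCycInv 0 1) (mCycInv 0 2) (mCycInv 1 0) (mCycInv 1 1) (mCycInv 1 2)
      (mCycInv 2 0) (mCycInv 2 1) (mCycInv 2 2) ∧
    (∀ j : Fin 7, ∃ i k : Fin 3, mul3 mCyc (pw 1) i k ≠ mul3 (pw j) mCyc i k) := by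
  decide +kernel

/-- an element of `SU_3(5)` outside the stabiliser -/
theorem exists_not_mem_MA7 (hF : Fintype.card F = 5 ^ 2) : ∃ g ∈ SU3 F 5, g ∉ MA7 F := by
  have := charP5 hF
  obtain ⟨θ, hθ⟩ := exists_theta hF
  obtain ⟨h1, h2, h3, h4⟩ := mOut_facts
  refine ⟨glOf θ hθ mOut h1, glOf_mem_SU3 θ hθ mOut h1 h2, ?_⟩
  intro hmem
  have hinj := phi_injective θ hθ
  have h5 := (hmem (Pi.single 2 1)).2 (by
    unfold sigV
    have : sig3 (phi θ hθ 0) (phi θ hθ 0) (phi θ hθ 1) := (sig3_map _ hinj _ _ _).2 h3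
    simpa using this)
  apply h4
  rw [← sig3_map _ hinj]
  unfold sigV at h5
  rw [glOf_val, Matrix.mulVec_single_one] at h5
  exact h5

/-- **core5**. -/
theorem core5 (hF : Fintype.card F = 5 ^ 2) : Core7 F 5 := by
  have := charP5 hF
  obtain ⟨θ, hθ⟩ := exists_theta hF
  obtain ⟨s₀, hs₀⟩ : ∃ s₀ : GL (Fin 3) F, s₀ = glOf θ hθ (pw 1) (det3_pw 1) := ⟨_, rfl⟩
  have hord : orderOf s₀ = 7 := by rw [hs₀]; exact orderOf_s0 θ hθ
  have hnorm : ∀ g : GL (Fin 3) F, g ∈ Subgroup.normalizer (Subgroup.zpowers s₀ : Set (GL (Fin 3) F)) →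
      ∃ j : Fin 7, g * s₀ = glOf θ hθ (pw j) (det3_pw j) * g := by
    intro g hgN
    have h1 : g * s₀ * g⁻¹ ∈ Subgroup.zpowers s₀ :=
      (Subgroup.mem_normalizer_iff.1 hgN s₀).1 (Subgroup.mem_zpowers s₀)
    obtain ⟨k, hk⟩ := Subgroup.mem_zpowers_iff.1 h1
    have h2 : s₀ ^ k = s₀ ^ (k % 7).toNat := by
      have h3 := zpow_mod_orderOf s₀ k
      rw [hord] at h3
      have h4 : ((k % 7).toNat : ℤ) = k % 7 := Int.toNat_of_nonneg (Int.emod_nonneg _ (by norm_num))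
      have h5 : s₀ ^ (k % 7) = s₀ ^ k := by exact_mod_cast h3
      rw [← h5, ← h4, zpow_natCast, h4]
    refine ⟨fin7 (k % 7).toNat, ?_⟩
    rw [← s0_pow, ← hs₀, ← h2, hk]
    group
  refine ⟨s₀, by rw [hs₀]; exact glOf_mem_SU3 θ hθ _ _ (orth3_pw 1), hord, MA7 F ⊓ SU3 F 5, ?_, inf_le_right, ?_, ?_⟩
  · intro g hg
    obtain ⟨hgN, hgS⟩ := Subgroup.mem_inf.1 hg
    refine Subgroup.mem_inf.2 ⟨?_, hgS⟩
    intro v
    constructor
    · intro h
      have hgN' : g⁻¹ ∈ Subgroup.normalizer (Subgroup.zpowers s₀ : Set (GL (Fin 3) F)) :=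
        Subgroup.inv_mem _ hgN
      obtain ⟨j, hj⟩ := hnorm g⁻¹ hgN'
      rw [hs₀] at hj
      have := normalizer_maps θ hθ hF g⁻¹ (Subgroup.inv_mem _ hgS) j hj _ h
      rwa [Matrix.mulVec_mulVec, ← Units.val_mul, inv_mul_cancel, Units.val_one, Matrix.one_mulVec] at this
    · intro h
      obtain ⟨j, hj⟩ := hnorm g hgN
      rw [hs₀] at hj
      exact normalizer_maps θ hθ hF g hgS j hj v h
  · intro heq
    obtain ⟨g, hgS, hgM⟩ := exists_not_mem_MA7 hF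
    apply hgM
    have : g ∈ MA7 F ⊓ SU3 F 5 := by rw [heq]; exact hgS
    exact (Subgroup.mem_inf.1 this).1
  · intro hle
    obtain ⟨c1, c2, c3, c4, c5, c6⟩ := mCyc_facts
    have hmem : glOf θ hθ mCyc c1 ∈ MA7 F ⊓ SU3 F 5 :=
      Subgroup.mem_inf.2 ⟨glOf_mem_MA7 θ hθ hF mCyc mCycInv c1 c3 c4 c5, glOf_mem_SU3 θ hθ mCyc c1 c2⟩
    obtain ⟨j, hj⟩ := hnorm _ (hle hmem)
    rw [hs₀] at hj
    obtain ⟨i, k, hik⟩ := c6 j
    apply hik
    apply phi_injective θ hθ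
    have := congrArg (fun u : GL (Fin 3) F => (u : Matrix (Fin 3) (Fin 3) F) i k) hj
    simp only [Units.val_mul, glOf_val, matF_mul, matF_apply] at this
    exact this

end Cfsg.Agent.Lib.H27.SU3
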