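/-
S5778 (row `SU_3(q)`), `q = 5`, piece **E1** (helper27): the stabiliser of an orthogonal frame lies in a conjugate of the
stabiliser `MA7` of the 105 points, hence is not maximal.
-/
import Cfsg.Agent.Lib.H27.SU3C5
import Cfsg.Agent.Lib.H29.SU3FNF

set_option autoImplicit false
set_option linter.unusedSectionVars false
set_option linter.unusedVariables false

namespace Cfsg.Agent.Lib.H27.SU3

open Cfsg Cfsg.Geo
open scoped MatrixGroups Matrix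

variable {F : Type*} [Field F] [Fintype F]

/-- the conjugate `P (MA7) P⁻¹`, intersected with `SU_3(5)` -/
def MA7conj (P : GL (Fin 3) F) : Subgroup (GL (Fin 3) F) :=
  (MA7 F).comap (MulAut.conj P⁻¹).toMonoidHom ⊓ SU3 F 5

theorem mem_MA7conj (P g : GL (Fin 3) F) : g ∈ MA7conj P ↔ P⁻¹ * g * P ∈ MA7 F ∧ g ∈ SU3 F 5 := by
  unfold MA7conj
  rw [Subgroup.mem_inf, Subgroup.mem_comap]
  simp

theorem conj_mem_SU3 {q : ℕ} {P g : GL (Fin 3) F} (hP : P ∈ GU 3 F q) (hg : g ∈ SU3 F q) :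
    P * g * P⁻¹ ∈ SU3 F q := by
  refine Subgroup.mem_inf.2 ⟨(GU 3 F q).mul_mem ((GU 3 F q).mul_mem hP hg.1) ((GU 3 F q).inv_mem hP), ?_⟩
  have h1 := (Cfsg.Agent.Lib.H28.mem_specialLinear_iff _).1 hg.2
  refine (Cfsg.Agent.Lib.H28.mem_specialLinear_iff _).2 ?_
  rw [Units.val_mul, Units.val_mul, Matrix.det_mul, Matrix.det_mul, h1, mul_one, ← Matrix.det_mul,
    ← Units.val_mul, mul_inv_cancel, Units.val_one, Matrix.det_one]

theorem conj_mem_SU3' {q : ℕ} {P g : GL (Fin 3) F} (hP : P ∈ GU 3 F q) (hg : g ∈ SU3 F q) :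
    P⁻¹ * g * P ∈ SU3 F q := by
  have := conj_mem_SU3 ((GU 3 F q).inv_mem hP) hg
  rwa [inv_inv] at this

/-- `MA7conj P` is a proper subgroup of `SU_3(5)` -/
theorem MA7conj_ne (hF : Fintype.card F = 5 ^ 2) (P : GL (Fin 3) F) (hP : P ∈ GU 3 F 5) :
    MA7conj P ≠ SU3 F 5 := by
  intro heq
  obtain ⟨e, heS, heM⟩ := exists_not_mem_MA7 hF
  have h1 : P * e * P⁻¹ ∈ MA7conj P := by rw [heq]; exact conj_mem_SU3 hP heS
  have h2 := ((mem_MA7conj P _).1 h1).1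
  apply heM
  have : P⁻¹ * (P * e * P⁻¹) * P = e := by group
  rwa [this] at h2

/-- the model of `-(1 + J)`, a real orthogonal matrix with no zero entry, its own inverse -/
def mRJ : Fin 3 → Fin 3 → R25 :=
  ![![⟨3, 0⟩, ⟨4, 0⟩, ⟨4, 0⟩], ![⟨4, 0⟩, ⟨3, 0⟩, ⟨4, 0⟩], ![⟨4, 0⟩, ⟨4, 0⟩, ⟨3, 0⟩]]

theorem mRJ_facts : det3 mRJ = 1 ∧ orth3 mRJ ∧
    (∀ i k : Fin 3, mul3 mRJ mRJ i k = if i = k then 1 else 0) ∧
    inv3g (mRJ 0 0) (mRJ 0 1) (mRJ 0 2) (mRJ 1 0) (mRJ 1 1) (mRJ 1 2) (mRJ 2 0) (mRJ 2 1) (mRJ 2 2) ∧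
    (∀ i k : Fin 3, mRJ i k ≠ 0) := by
  decide +kernel

/-- monomial form of the elements of a frame stabiliser, in the coordinates of `P` -/
theorem mono_of_stab (P g : GL (Fin 3) F) (D : Fin 3 → Submodule F (Fin 3 → F))
    (hPD : ∀ i, D i = Submodule.span F {(P : Matrix (Fin 3) (Fin 3) F) *ᵥ Pi.single i 1})
    (hg : g ∈ decompositionStabilizer D) :
    ∃ (σ : Equiv.Perm (Fin 3)) (d : Fin 3 → F), ∀ i,
      ((P⁻¹ * g * P : GL (Fin 3) F) : Matrix (Fin 3) (Fin 3) F) *ᵥ Pi.single i 1 = d i • Pi.single (σ i) 1 := by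
  obtain ⟨σ, hσ⟩ := hg
  have h1 : ∀ i, ∃ c : F, (g : Matrix (Fin 3) (Fin 3) F) *ᵥ ((P : Matrix (Fin 3) (Fin 3) F) *ᵥ Pi.single i 1) =
      c • ((P : Matrix (Fin 3) (Fin 3) F) *ᵥ Pi.single (σ i) 1) := by
    intro i
    have hmem : (g : Matrix (Fin 3) (Fin 3) F) *ᵥ ((P : Matrix (Fin 3) (Fin 3) F) *ᵥ Pi.single i 1) ∈ D (σ i) := by
      rw [← hσ i]
      refine ⟨(P : Matrix (Fin 3) (Fin 3) F) *ᵥ Pi.single i 1, ?_, by simp [Matrix.toLin'_apply]⟩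
      rw [hPD i]
      exact Submodule.mem_span_singleton_self _
    rw [hPD (σ i), Submodule.mem_span_singleton] at hmem
    obtain ⟨c, hc⟩ := hmem
    exact ⟨c, hc.symm⟩
  choose d hd using h1
  refine ⟨σ, d, fun i => ?_⟩
  rw [Units.val_mul, Units.val_mul, ← Matrix.mulVec_mulVec, ← Matrix.mulVec_mulVec, hd i,
    Matrix.mulVec_smul, Matrix.mulVec_mulVec, ← Units.val_mul, inv_mul_cancel, Units.val_one, Matrix.one_mulVec]

/-- **E1**. -/
theorem e1 (hF : Fintype.card F = 5 ^ 2) : E1Stmt F := by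
  intro D hD hmax
  have hcp := charP5 hF
  obtain ⟨θ, hθ⟩ := exists_theta hF
  obtain ⟨P, hP, hPD⟩ := Cfsg.Agent.Lib.H29.SU3.frame_normal_form hF D hD
  -- the stabiliser lies in `MA7conj P`
  have hle : decompositionStabilizer D ⊓ SU3 F 5 ≤ MA7conj P := by
    intro g hg
    obtain ⟨hgD, hgS⟩ := Subgroup.mem_inf.1 hg
    refine (mem_MA7conj P g).2 ⟨?_, hgS⟩
    obtain ⟨σ, d, hmono⟩ := mono_of_stab P g D hPD hgD
    have hS := conj_mem_SU3' hP hgS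
    exact mono_mem_MA7 _ hS.1 ((Cfsg.Agent.Lib.H28.mem_specialLinear_iff _).1 hS.2) σ d hmono
  rcases hmax.2 (MA7conj P) hle inf_le_right with h | h
  swap
  · exact MA7conj_ne hF P hP h
  -- a non-monomial element of `MA7conj P`
  obtain ⟨c1, c2, c3, c4, c5⟩ := mRJ_facts
  obtain ⟨r, hr⟩ : ∃ r : GL (Fin 3) F, r = glOf θ hθ mRJ c1 := ⟨_, rfl⟩
  have hrS : r ∈ SU3 F 5 := by rw [hr]; exact glOf_mem_SU3 θ hθ mRJ c1 c2
  have hrM : r ∈ MA7 F := by rw [hr]; exact glOf_mem_MA7 θ hθ hF mRJ mRJ c1 c3 c4 c4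
  have hmem : P * r * P⁻¹ ∈ MA7conj P := by
    refine (mem_MA7conj P _).2 ⟨?_, conj_mem_SU3 hP hrS⟩
    have : P⁻¹ * (P * r * P⁻¹) * P = r := by group
    rwa [this]
  rw [h] at hmem
  obtain ⟨σ, d, hmono⟩ := mono_of_stab P _ D hPD (Subgroup.mem_inf.1 hmem).1
  have h0 := hmono 0
  have e : P⁻¹ * (P * r * P⁻¹) * P = r := by group
  rw [e, hr, glOf_val, Matrix.mulVec_single_one] at h0
  -- the first column of `r` has no zero entry, but `d 0 • e_{σ 0}` has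
  obtain ⟨k, hk⟩ : ∃ k : Fin 3, k ≠ σ 0 := by
    by_cases h1 : σ 0 = 0
    · exact ⟨1, by rw [h1]; decide⟩
    · exact ⟨0, fun h2 => h1 h2.symm⟩
  have h1 := congrFun h0 k
  simp only [Matrix.col_apply, matF_apply, Pi.smul_apply, smul_eq_mul, Pi.single_apply, if_neg hk,
    mul_zero] at h1
  exact c5 k 0 (phi_injective θ hθ (by rw [map_zero]; exact h1))

end Cfsg.Agent.Lib.H27.SU3
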