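/-
S5778 (row `SU_3(q)`), `q = 5`, piece **E5** (helper27): the subfield group `3 × SO_3(5)` lies in a conjugate of the
stabiliser `MA7` of the 105 points, hence is not maximal (normal form: helper7 `rational_normal_form`).
-/
import Cfsg.Agent.Lib.H27.SU3E1
import Cfsg.Agent.Lib.H7.SU3RNF

set_option autoImplicit false
set_option linter.unusedSectionVars false
set_option linter.unusedVariables false

namespace Cfsg.Agent.Lib.H27.SU3

open Cfsg Cfsg.Geo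
open scoped MatrixGroups Matrix

variable {F : Type*} [Field F] [Fintype F]

theorem neg_eq_self_fin5 : ∀ b : Fin 5, -b = b → b = 0 := by decide

/-- a real element (fixed by `x ↦ x^5`) is the cast of an element of `Fin 5` -/
theorem exists_fin_of_pow5 (hF : Fintype.card F = 5 ^ 2) [CharP F 5] (θ : F) (hθ : θ * θ = 2) (x : F)
    (hx : x ^ 5 = x) : ∃ β : Fin 5, x = (β.val : F) := by
  obtain ⟨r, rfl⟩ := phi_surjective hF θ hθ x
  rw [← map_pow, ← conj25_eq] at hx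
  have h1 := phi_injective θ hθ hx
  have h2 : -r.b = r.b := congrArg R25.b h1
  have h3 := neg_eq_self_fin5 _ h2
  refine ⟨r.a, ?_⟩
  rw [phi_apply, h3]
  simp

theorem pow5_det [CharP F 5] (a : Matrix (Fin 3) (Fin 3) F) (ha : ∀ i j, a i j ^ 5 = a i j) : a.det ^ 5 = a.det := by
  have : Fact (Nat.Prime 5) := ⟨by norm_num⟩
  have h1 := RingHom.map_det (frobenius F 5) a
  rw [frobenius_def] at h1
  rw [h1]
  congr 1
  ext i j
  simp [RingHom.mapMatrix_apply, frobenius_def, ha]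

/-- **a unitary matrix which is a scalar multiple of a real matrix lies in the stabiliser** -/
theorem real_scalar_mem_MA7 (hF : Fintype.card F = 5 ^ 2) [CharP F 5] (θ : F) (hθ : θ * θ = 2)
    (h : GL (Fin 3) F) (hGU : h ∈ GU 3 F 5) (l : F) (a : Matrix (Fin 3) (Fin 3) F)
    (ha : ∀ i j, a i j ^ 5 = a i j) (hla : (h : Matrix (Fin 3) (Fin 3) F) = l • a) : h ∈ MA7 F := by
  have hl : l ≠ 0 := by
    rintro rfl
    rw [zero_smul] at hla
    have h1 : (h : Matrix (Fin 3) (Fin 3) F) * ((h⁻¹ : GL (Fin 3) F) : Matrix (Fin 3) (Fin 3) F) = 1 := by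
      rw [← Units.val_mul, mul_inv_cancel, Units.val_one]
    rw [hla, Matrix.zero_mul] at h1
    have := congrFun (congrFun h1 0) 0
    simp at this
  obtain ⟨μ, hμ⟩ : ∃ μ : F, μ = l * l ^ 5 := ⟨_, rfl⟩
  have hμ0 : μ ≠ 0 := by rw [hμ]; exact mul_ne_zero hl (pow_ne_zero _ hl)
  -- columns of `a`
  have hcol : ∀ i j : Fin 3, μ * (a 0 i * a 0 j + a 1 i * a 1 j + a 2 i * a 2 j) = if i = j then 1 else 0 := by
    intro i j
    have h1 := hGU (Pi.single i 1) (Pi.single j 1)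
    change hermForm 3 F 5 ((h : Matrix (Fin 3) (Fin 3) F) *ᵥ Pi.single i 1)
      ((h : Matrix (Fin 3) (Fin 3) F) *ᵥ Pi.single j 1) = _ at h1
    rw [Matrix.mulVec_single_one, Matrix.mulVec_single_one, herm3, herm3, hla] at h1
    simp only [Matrix.col_apply, Matrix.smul_apply, smul_eq_mul, mul_pow, ha] at h1
    have h2 : (Pi.single i (1 : F) : Fin 3 → F) 0 * (Pi.single j (1 : F) : Fin 3 → F) 0 ^ 5 +
        (Pi.single i (1 : F) : Fin 3 → F) 1 * (Pi.single j (1 : F) : Fin 3 → F) 1 ^ 5 +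
        (Pi.single i (1 : F) : Fin 3 → F) 2 * (Pi.single j (1 : F) : Fin 3 → F) 2 ^ 5 = if i = j then 1 else 0 := by
      fin_cases i <;> fin_cases j <;> simp
    rw [h2] at h1
    rw [← h1, hμ]; ring
  obtain ⟨ν, hν⟩ : ∃ ν : F, ν = μ⁻¹ := ⟨_, rfl⟩
  have hν0 : ν ≠ 0 := by rw [hν]; exact inv_ne_zero hμ0
  have hata : aᵀ * a = ν • (1 : Matrix (Fin 3) (Fin 3) F) := by
    ext i j
    rw [Matrix.mul_apply, Fin.sum_univ_three, Matrix.smul_apply, Matrix.one_apply, smul_eq_mul]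
    simp only [Matrix.transpose_apply]
    have := hcol i j
    rw [hν]
    field_simp
    rw [mul_comm]
    exact this
  have hνreal : ν ^ 5 = ν := by
    have h1 := hcol 0 0
    rw [if_pos rfl] at h1
    have h2 : ν = a 0 0 * a 0 0 + a 1 0 * a 1 0 + a 2 0 * a 2 0 := by
      rw [hν, eq_comm, ← mul_eq_one_iff_eq_inv₀ hμ0, mul_comm]; exact h1
    rw [h2]
    simp only [add_pow5, mul_pow, ha]
  -- determinant
  have hdet : a.det * a.det = ν * ν * ν := by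
    have := congrArg Matrix.det hata
    rw [Matrix.det_mul, Matrix.det_transpose, Matrix.det_smul, Matrix.det_one, mul_one, Fintype.card_fin] at this
    rw [this]; ring
  obtain ⟨ρ, hρ⟩ : ∃ ρ : F, ρ = a.det / ν := ⟨_, rfl⟩
  have hρ2 : ρ * ρ = ν := by
    rw [hρ]; field_simp; rw [pow_two, hdet]; ring
  have hρ0 : ρ ≠ 0 := by
    intro h0; rw [h0, zero_mul] at hρ2; exact hν0 hρ2.symm
  have hρreal : ρ ^ 5 = ρ := by
    rw [hρ, div_pow, pow5_det a ha, hνreal]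
  -- the real orthogonal matrix `b = ρ⁻¹ a`
  obtain ⟨b, hb⟩ : ∃ b : Matrix (Fin 3) (Fin 3) F, b = ρ⁻¹ • a := ⟨_, rfl⟩
  have hbtb : bᵀ * b = 1 := by
    rw [hb, Matrix.transpose_smul, Matrix.smul_mul, Matrix.mul_smul, hata, smul_smul, smul_smul, ← hρ2]
    have : ρ⁻¹ * ρ⁻¹ * (ρ * ρ) = 1 := by field_simp
    rw [this, one_smul]
  have hbdet : b.det ≠ 0 := by
    intro h0
    have := congrArg Matrix.det hbtb
    rw [Matrix.det_mul, Matrix.det_transpose, h0, mul_zero, Matrix.det_one] at this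
    exact zero_ne_one this
  have hbreal : ∀ i j, ∃ β : Fin 5, b i j = (β.val : F) := by
    intro i j
    apply exists_fin_of_pow5 hF θ hθ
    rw [hb, Matrix.smul_apply, smul_eq_mul, mul_pow, inv_pow, hρreal, ha]
  have hbM : Matrix.GeneralLinearGroup.mkOfDetNeZero b hbdet ∈ MA7 F :=
    real_orth_mem_MA7 hF θ hθ _ hbreal hbtb
  refine smul_mem_MA7 (c := l * ρ) (mul_ne_zero hl hρ0) hbM ?_
  show (h : Matrix (Fin 3) (Fin 3) F) = (l * ρ) • b
  rw [hla, hb, smul_smul, mul_assoc, mul_inv_cancel₀ hρ0, mul_one]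


/-- the model of `diag(λ, λ⁻¹, 1)`, `λ = 2 + 2t` of norm one, not real -/
def mDg : Fin 3 → Fin 3 → R25 :=
  ![![⟨2, 2⟩, ⟨0, 0⟩, ⟨0, 0⟩], ![⟨0, 0⟩, ⟨2, 3⟩, ⟨0, 0⟩], ![⟨0, 0⟩, ⟨0, 0⟩, ⟨1, 0⟩]]

def mDgInv : Fin 3 → Fin 3 → R25 :=
  ![![⟨2, 3⟩, ⟨0, 0⟩, ⟨0, 0⟩], ![⟨0, 0⟩, ⟨2, 2⟩, ⟨0, 0⟩], ![⟨0, 0⟩, ⟨0, 0⟩, ⟨1, 0⟩]]

theorem mDg_facts : det3 mDg = 1 ∧ orth3 mDg ∧
    (∀ i k : Fin 3, mul3 mDgInv mDg i k = if i = k then 1 else 0) ∧
    inv3g (mDg 0 0) (mDg 0 1) (mDg 0 2) (mDg 1 0) (mDg 1 1) (mDg 1 2) (mDg 2 0) (mDg 2 1) (mDg 2 2) ∧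
    inv3g (mDgInv 0 0) (mDgInv 0 1) (mDgInv 0 2) (mDgInv 1 0) (mDgInv 1 1) (mDgInv 1 2)
      (mDgInv 2 0) (mDgInv 2 1) (mDgInv 2 2) ∧
    mDg 2 2 = 1 ∧ mDg 0 0 ^ 5 ≠ mDg 0 0 := by
  decide +kernel

/-- **E5**. -/
theorem e5 (hF : Fintype.card F = 5 ^ 2) : E5Stmt F := by
  intro F₀ P hcard hrat hmax
  have hcp := charP5 hF
  obtain ⟨θ, hθ⟩ := exists_theta hF
  obtain ⟨U, hU, hnf⟩ := Cfsg.Agent.Lib.H7.SU3.rational_normal_form hF F₀ P hcard hrat
  have hle : subfieldSubgroup F₀ P ⊓ SU3 F 5 ≤ MA7conj U := by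
    intro g hg
    obtain ⟨hgD, hgS⟩ := Subgroup.mem_inf.1 hg
    refine (mem_MA7conj U g).2 ⟨?_, hgS⟩
    obtain ⟨l, a, ha, hla⟩ := hnf g hgD
    exact real_scalar_mem_MA7 hF θ hθ _ (conj_mem_SU3' hU hgS).1 l a ha hla
  rcases hmax.2 (MA7conj U) hle inf_le_right with h | h
  swap
  · exact MA7conj_ne hF U hU h
  obtain ⟨c1, c2, c3, c4, c5, c6, c7⟩ := mDg_facts
  obtain ⟨r, hr⟩ : ∃ r : GL (Fin 3) F, r = glOf θ hθ mDg c1 := ⟨_, rfl⟩
  have hrS : r ∈ SU3 F 5 := by rw [hr]; exact glOf_mem_SU3 θ hθ mDg c1 c2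
  have hrM : r ∈ MA7 F := by rw [hr]; exact glOf_mem_MA7 θ hθ hF mDg mDgInv c1 c3 c4 c5
  have hmem : U * r * U⁻¹ ∈ MA7conj U := by
    refine (mem_MA7conj U _).2 ⟨?_, conj_mem_SU3 hU hrS⟩
    have : U⁻¹ * (U * r * U⁻¹) * U = r := by group
    rwa [this]
  rw [h] at hmem
  obtain ⟨l, a, ha, hla⟩ := hnf _ (Subgroup.mem_inf.1 hmem).1
  have e : U⁻¹ * (U * r * U⁻¹) * U = r := by group
  rw [e, hr, glOf_val] at hla
  have h22 := congrFun (congrFun hla 2) 2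
  have h00 := congrFun (congrFun hla 0) 0
  simp only [matF_apply, Matrix.smul_apply, smul_eq_mul] at h22 h00
  rw [c6, map_one] at h22
  have hl : l ≠ 0 := by
    rintro rfl
    rw [zero_mul] at h22
    exact one_ne_zero h22
  have hl5 : l ^ 5 = l := by
    have h1 : (l * a 2 2) ^ 5 = 1 := by rw [← h22, one_pow]
    rw [mul_pow, ha] at h1
    have h2 : l ^ 5 * a 2 2 = l * a 2 2 := by rw [h1, ← h22]
    have h3 : a 2 2 ≠ 0 := by
      intro h0; rw [h0, mul_zero] at h22; exact one_ne_zero h22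
    exact mul_right_cancel₀ h3 h2
  apply c7
  apply phi_injective θ hθ
  rw [map_pow, h00, mul_pow, hl5, ha]

end Cfsg.Agent.Lib.H27.SU3
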