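/-
S5778 (the row `SU_3(q)`, `q ≥ 3`; architect helper27): generic assembly.  The row follows from the unitary Aschbacher theorem
`umain_strong` (helper20), three "SU is not contained in a class member" lemmas at `n = 3` (B1, B2, B3) and the six
small-field exclusions (E1 ... E6), which enter here as hypotheses.
-/
import Cfsg.Agent.Lib.H27.SU3Defs
import Cfsg.Agent.Lib.H15.UP2Gen
import Cfsg.Agent.Lib.H20.AschUM4e

set_option autoImplicit false
set_option maxHeartbeats 1000000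

namespace Cfsg.Agent.Lib.H27.SU3

open Cfsg Cfsg.Geo Cfsg.Agent.Lib.Lead.Asch Cfsg.Agent.Lib.H15.UP2
open scoped MatrixGroups Matrix Kronecker

variable {F : Type*} [Field F] [Fintype F]

/-- the conclusion of S5778 -/
def Row3 (F : Type*) [Field F] [Fintype F] (q : ℕ) (H : Subgroup (GL (Fin 3) F)) : Prop :=
    (∃ W : Submodule F (Fin 3 → F), W ≠ ⊥ ∧ Cfsg.Geo.IsTotallySingularFor (Cfsg.hermForm 3 F q) W ∧ H = Cfsg.Geo.subspaceStabilizer W ⊓ (Cfsg.GU 3 F q ⊓ Cfsg.Geo.specialLinear (Fin 3) F)) ∨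
    (∃ W : Submodule F (Fin 3 → F), W ≠ ⊥ ∧ Cfsg.Geo.IsNondegenerateOn (Cfsg.hermForm 3 F q) W ∧ 2 * Module.finrank F W < 3 ∧ H = Cfsg.Geo.subspaceStabilizer W ⊓ (Cfsg.GU 3 F q ⊓ Cfsg.Geo.specialLinear (Fin 3) F)) ∨
    (q ≠ 5 ∧ ∃ D : Fin 3 → Submodule F (Fin 3 → F), Cfsg.Geo.IsNondegenerateMDecomposition (Cfsg.hermForm 3 F q) 1 D ∧ H = Cfsg.Geo.decompositionStabilizer D ⊓ (Cfsg.GU 3 F q ⊓ Cfsg.Geo.specialLinear (Fin 3) F)) ∨
    (q ≠ 3 ∧ q ≠ 5 ∧ ∃ K : Subalgebra F (Matrix (Fin 3) (Fin 3) F), Cfsg.Geo.IsFieldSubalgebra 3 K ∧ Cfsg.Geo.IsAdjointClosedFor (Cfsg.hermForm 3 F q) K ∧ H = Cfsg.Geo.subalgebraNormalizer K ⊓ (Cfsg.GU 3 F q ⊓ Cfsg.Geo.specialLinear (Fin 3) F)) ∨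
    (∃ (F₀ : Subfield F) (r : ℕ) (P : Matrix.GeneralLinearGroup (Fin 3) F), r.Prime ∧ Odd r ∧ Fintype.card F = Nat.card F₀ ^ r ∧ Cfsg.Geo.IsFormRationalStructure (Cfsg.hermForm 3 F q) F₀ 1 P ∧ H = Cfsg.Geo.subfieldSubgroup F₀ P ⊓ (Cfsg.GU 3 F q ⊓ Cfsg.Geo.specialLinear (Fin 3) F)) ∨
    (Odd q ∧ 7 ≤ q ∧ ∃ (F₀ : Subfield F) (P : Matrix.GeneralLinearGroup (Fin 3) F), Fintype.card F = Nat.card F₀ ^ 2 ∧ Cfsg.Geo.IsFormRationalStructure (Cfsg.hermForm 3 F q) F₀ 1 P ∧ H = Cfsg.Geo.subfieldSubgroup F₀ P ⊓ (Cfsg.GU 3 F q ⊓ Cfsg.Geo.specialLinear (Fin 3) F)) ∨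
    (∃ (p : ℕ) (R : Subgroup (Matrix.GeneralLinearGroup (Fin 3) F)), p.Prime ∧ q = p ∧ p % 3 = 2 ∧ 11 ≤ p ∧ Cfsg.Geo.IsSymplecticTypeGroup 3 R ∧ Cfsg.Geo.ActsAbsolutelyIrreducibly (Cfsg.Geo.matrixSet R) ∧ R ≤ Cfsg.Geo.similarityGroup (Cfsg.hermForm 3 F q) ∧ Nat.card R = 27 ∧ Nat.card (Subgroup.center R) = 3 ∧ H = Cfsg.Geo.subgroupNormalizer R ⊓ (Cfsg.GU 3 F q ⊓ Cfsg.Geo.specialLinear (Fin 3) F)) ∨
    Cfsg.Geo.InUnitaryResidualClass H

/-- **Generic assembly of the row `SU_3(q)`**. -/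
theorem row3 (q : ℕ) (hF : Fintype.card F = q ^ 2) (hq : 3 ≤ q)
    (hB1 : B1Stmt F q) (hB2 : B2Stmt F q) (hB3 : q.Prime → 5 ≤ q → B3Stmt F q)
    (hE1 : q = 5 → E1Stmt F) (hE2 : q = 3 → E23Stmt F 3) (hE3 : q = 5 → E23Stmt F 5)
    (hE4 : q = 3 → E4Stmt F) (hE5 : q = 5 → E5Stmt F) (hE6 : q = 5 → E6Stmt F)
    (H : Subgroup (GL (Fin 3) F)) (hH : IsMaximalIn (GU 3 F q ⊓ specialLinear (Fin 3) F) H) :
    Row3 F q H := by
  have hHGU : H ≤ GU 3 F q := hH.1.le.trans inf_le_left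
  rcases Cfsg.Agent.Lib.H20.Asch.umain_strong hF le_rfl H hHGU with hS | hres
  swap
  · exact Or.inr (Or.inr (Or.inr (Or.inr (Or.inr (Or.inr (Or.inr hres))))))
  have c1 : ∀ W : Submodule F (Fin 3 → F), W ≠ ⊥ → W ≠ ⊤ → H ≤ subspaceStabilizer W →
      H = subspaceStabilizer W ⊓ (GU 3 F q ⊓ specialLinear (Fin 3) F) := by
    intro W h0 h1 hle
    exact eq_inf_of_maximal hH hle (Cfsg.Agent.Lib.H2.UP2.not_su_le_subspaceStabilizer hF le_rfl W h0 h1)
  -- the frame case, used twice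
  have c2 : ∀ D : Fin 3 → Submodule F (Fin 3 → F), IsNondegenerateMDecomposition (hermForm 3 F q) 1 D →
      H ≤ decompositionStabilizer D → Row3 F q H := by
    intro D hD hle
    have hHeq := eq_inf_of_maximal hH hle (hB1 D hD)
    by_cases hq5 : q = 5
    · exfalso
      subst hq5
      exact hE1 rfl D hD (hHeq ▸ hH)
    · exact Or.inr (Or.inr (Or.inl ⟨hq5, D, hD, hHeq⟩))
  rcases hS with (h | h) | (h | h) | h | h | (h | h | h) | h | h
  · -- C1a
    obtain ⟨W, h0, hts, hle⟩ := h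
    have h1 : W ≠ ⊤ := by
      rintro rfl
      have := hts (Pi.single 0 1) Submodule.mem_top (Pi.single 0 1) Submodule.mem_top
      rw [herm_single_self (by omega)] at this
      exact one_ne_zero this
    exact Or.inl ⟨W, h0, hts, c1 W h0 h1 hle⟩
  · -- C1b
    obtain ⟨W, h0, hnd, hdim, hle⟩ := h
    have h1 : W ≠ ⊤ := by
      rintro rfl
      rw [finrank_top, Module.finrank_fin_fun] at hdim
      omega
    exact Or.inr (Or.inl ⟨W, h0, hnd, hdim, c1 W h0 h1 hle⟩)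
  · -- C2a
    obtain ⟨t, k, D, hD, hle⟩ := h
    have htk := Cfsg.Agent.Lib.H2.AschP2.mul_eq_of_isMDecomposition D hD.decomp
    have ht2 := hD.decomp.two_le
    have ht3 : t = 3 := by
      have : t ∣ 3 := Dvd.intro _ htk
      rcases (Nat.dvd_prime Nat.prime_three).1 this with h | h <;> omega
    subst ht3
    have hk1 : k = 1 := by omega
    subst hk1
    exact c2 D hD hle
  · -- C2b
    obtain ⟨k, D, h2k, _⟩ := h
    omega
  · -- C3
    obtain ⟨r, K, hr, hodd, hK, hadj, hle⟩ := h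
    have hdvd := Cfsg.Agent.Lib.H5.AschP2.dvd_of_isFieldSubalgebra (by omega : 0 < 3) r K hK
    have h3 : r = 3 := (Nat.prime_dvd_prime_iff_eq hr Nat.prime_three).1 hdvd
    subst h3
    have hHeq := eq_inf_of_maximal hH hle
      (Cfsg.Agent.Lib.H5.UP2.not_su_le_subalgebraNormalizer hF le_rfl 3 K (by norm_num) hK)
    by_cases hq3 : q = 3
    · exfalso
      subst hq3
      exact hE2 rfl K hK hadj (hHeq ▸ hH)
    by_cases hq5 : q = 5
    · exfalso
      subst hq5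
      exact hE3 rfl K hK hadj (hHeq ▸ hH)
    exact Or.inr (Or.inr (Or.inr (Or.inl ⟨hq3, hq5, K, hK, hadj, hHeq⟩)))
  · -- C4
    obtain ⟨n₁, n₂, e, P, f₁, f₂, h1, h2, _⟩ := h
    exfalso
    have hcard : n₁ * n₂ = 3 := by
      have := Fintype.card_congr e
      simpa [Fintype.card_prod] using this.symm
    have : n₁ ∣ 3 := Dvd.intro _ hcard
    rcases (Nat.dvd_prime Nat.prime_three).1 this with h | h
    · omega
    · subst h
      omega
  · -- C5a
    obtain ⟨F₀, r, P, hr, hodd, hcard, hrat, hle⟩ := h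
    exact Or.inr (Or.inr (Or.inr (Or.inr (Or.inl ⟨F₀, r, P, hr, hodd, hcard, hrat,
      eq_inf_of_maximal hH hle (hB2 F₀ r P hr.two_le hcard)⟩))))
  · -- C5b
    obtain ⟨F₀, P, hodd, hcard, hrat, hle⟩ := h
    have hHeq := eq_inf_of_maximal hH hle (hB2 F₀ 2 P le_rfl hcard)
    by_cases hq3 : q = 3
    · subst hq3
      obtain ⟨D, hD, hle'⟩ := hE4 rfl F₀ P hcard hrat
      exact c2 D hD ((le_inf hle hHGU).trans hle')
    by_cases hq5 : q = 5
    · exfalso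
      subst hq5
      exact hE5 rfl F₀ P hcard hrat (hHeq ▸ hH)
    have hq7 : 7 ≤ q := by
      obtain ⟨m, hm⟩ := hodd
      omega
    exact Or.inr (Or.inr (Or.inr (Or.inr (Or.inr (Or.inl ⟨hodd, hq7, F₀, P, hcard, hrat, hHeq⟩)))))
  · -- C5c
    obtain ⟨F₀, P, ζ, hev, _⟩ := h
    exact absurd hev (by decide)
  · -- C6
    obtain ⟨r, R, p, e, k, h1, h2, h3, h4, h5, h6, h7, hle⟩ := h
    obtain ⟨hnk, hk1, j, hqj, hej⟩ := uc6_arith hF le_rfl r R p e k h1 h2 h5 h6 h7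
    have hr3 : r = 3 := by
      have hd : r ∣ 3 := by
        have : r ∣ r ^ k := dvd_pow_self r (by omega)
        rwa [← hnk] at this
      exact (Nat.prime_dvd_prime_iff_eq h1.prime Nat.prime_three).1 hd
    subst hr3
    have hk1' : k = 1 := by
      have : (3 : ℕ) ^ 1 = 3 ^ k := by rw [← hnk]; norm_num
      exact (Nat.pow_right_injective (by norm_num : 2 ≤ 3) this).symm
    subst hk1'
    rcases h6 with h6 | h6
    swap
    · omega
    obtain ⟨_, hz, _, hcardR⟩ := h6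
    have hcardR' : Nat.card R = 27 := by rw [hcardR]; norm_num
    rw [hz] at h5
    obtain ⟨he0, hpow, hmin⟩ := minimalField_mod (by norm_num) h5
    have hp := h5.1
    have hlt : p % 3 < 3 := Nat.mod_lt _ (by norm_num)
    obtain ⟨he, ha⟩ := order_mod_3 hlt ⟨j, by omega⟩ he0 hpow hmin
    have hj : j = 1 := by omega
    subst hj
    rw [pow_one] at hqj
    subst hqj
    -- `q` prime, `q ≡ 2 mod 3`, `q ≥ 3`: `q = 5` or `q ≥ 11`
    have hq5 : 5 ≤ q := by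
      by_contra hlt5
      have : q = 3 ∨ q = 4 := by omega
      rcases this with rfl | rfl
      · omega
      · exact absurd hp (by norm_num)
    have hHeq := eq_inf_of_maximal hH hle (hB3 hp hq5 R h2 hcardR' hz)
    by_cases hq5' : q = 5
    · exfalso
      subst hq5'
      exact hE6 rfl R h1 h2 h3 hcardR' hz h7 (hHeq ▸ hH)
    have hq11 : 11 ≤ q := by
      by_contra hlt11
      have : q = 6 ∨ q = 7 ∨ q = 8 ∨ q = 9 ∨ q = 10 := by omega
      rcases this with rfl | rfl | rfl | rfl | rfl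
      · exact absurd hp (by norm_num)
      · omega
      · exact absurd hp (by norm_num)
      · exact absurd hp (by norm_num)
      · exact absurd hp (by norm_num)
    exact Or.inr (Or.inr (Or.inr (Or.inr (Or.inr (Or.inr (Or.inl ⟨q, R, hp, rfl, ha, hq11, h1, h2, h3, hcardR', hz,
      hHeq⟩))))))
  · -- C7
    obtain ⟨k, t, e, P, f₁, h1, h2, _⟩ := h
    exfalso
    have hcard : k ^ t = 3 := by
      have := Fintype.card_congr e
      simpa using this.symm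
    have h9 : k ^ 2 ≤ k ^ t := Nat.pow_le_pow_right (by omega) h2
    nlinarith

end Cfsg.Agent.Lib.H27.SU3
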