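/-
S5778 (row `SU_3(q)`), the `q = 5` cluster (helper27): an explicit model `R25` of the field with 25 elements, the
polynomial description of the `3.A_7`-invariant set of 105 non-isotropic points, and the first bulk check
(`realCheck`: every orthogonal matrix over `F_5` maps the set into itself), by `decide +kernel`.
-/
import Mathlib

set_option autoImplicit false

namespace Cfsg.Agent.Lib.H27.SU3

/-- explicit model of the field with 25 elements: `a + b t`, `t² = 2` -/
structure R25 where
  a : Fin 5
  b : Fin 5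
deriving DecidableEq

namespace R25

instance : Zero R25 := ⟨⟨0, 0⟩⟩
instance : One R25 := ⟨⟨1, 0⟩⟩
instance : Add R25 := ⟨fun x y => ⟨x.a + y.a, x.b + y.b⟩⟩
instance : Neg R25 := ⟨fun x => ⟨-x.a, -x.b⟩⟩
instance : Mul R25 := ⟨fun x y => ⟨x.a * y.a + 2 * (x.b * y.b), x.a * y.b + x.b * y.a⟩⟩

theorem forall_iff (P : R25 → Prop) : (∀ x, P x) ↔ ∀ a b : Fin 5, P ⟨a, b⟩ :=
  ⟨fun h _ _ => h _, fun h x => h x.a x.b⟩

instance (P : R25 → Prop) [DecidablePred P] : Decidable (∀ x, P x) :=
  decidable_of_iff _ (forall_iff P).symm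

theorem ext' {x y : R25} (h1 : x.a = y.a) (h2 : x.b = y.b) : x = y := by
  cases x; cases y; simp_all

@[simp] theorem zero_a : (0 : R25).a = 0 := rfl
@[simp] theorem zero_b : (0 : R25).b = 0 := rfl
@[simp] theorem one_a : (1 : R25).a = 1 := rfl
@[simp] theorem one_b : (1 : R25).b = 0 := rfl
@[simp] theorem add_a (x y : R25) : (x + y).a = x.a + y.a := rfl
@[simp] theorem add_b (x y : R25) : (x + y).b = x.b + y.b := rfl
@[simp] theorem neg_a (x : R25) : (-x).a = -x.a := rfl
@[simp] theorem neg_b (x : R25) : (-x).b = -x.b := rfl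
@[simp] theorem mul_a (x y : R25) : (x * y).a = x.a * y.a + 2 * (x.b * y.b) := rfl
@[simp] theorem mul_b (x y : R25) : (x * y).b = x.a * y.b + x.b * y.a := rfl

open Fin.CommRing in
instance : CommRing R25 where
  add_assoc x y z := by apply ext' <;> simp <;> ring
  zero_add x := by apply ext' <;> simp
  add_zero x := by apply ext' <;> simp
  add_comm x y := by apply ext' <;> simp <;> ring
  neg_add_cancel x := by apply ext' <;> simp
  mul_assoc x y z := by apply ext' <;> simp <;> ring
  one_mul x := by apply ext' <;> simp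
  mul_one x := by apply ext' <;> simp
  left_distrib x y z := by apply ext' <;> simp <;> ring
  right_distrib x y z := by apply ext' <;> simp <;> ring
  zero_mul x := by apply ext' <;> simp
  mul_zero x := by apply ext' <;> simp
  mul_comm x y := by apply ext' <;> simp <;> ring
  nsmul := nsmulRec
  zsmul := zsmulRec

/-- the inverse, as the 23rd power -/
def inv (x : R25) : R25 :=
  let x2 := x * x
  let x4 := x2 * x2
  let x8 := x4 * x4
  let x16 := x8 * x8
  x16 * x4 * x2 * x

instance : Inv R25 := ⟨inv⟩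

theorem mul_inv_cancel' : ∀ x : R25, x ≠ 0 → x * x⁻¹ = 1 := by decide +kernel

instance : Field R25 where
  exists_pair_ne := ⟨0, 1, by decide⟩
  mul_inv_cancel := mul_inv_cancel'
  inv_zero := by decide +kernel
  nnqsmul := _
  qsmul := _

/-- `R25 ≃ Fin 5 × Fin 5` -/
def equivProd : R25 ≃ Fin 5 × Fin 5 where
  toFun x := (x.a, x.b)
  invFun p := ⟨p.1, p.2⟩
  left_inv _ := rfl
  right_inv _ := rfl

instance : Fintype R25 := Fintype.ofEquiv _ equivProd.symm

theorem card_eq : Fintype.card R25 = 25 := by
  rw [Fintype.card_congr equivProd, Fintype.card_prod, Fintype.card_fin]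

end R25

section generic

variable {R : Type*} [CommRing R]

/-- the norm `x ↦ x^6 = x x^5` -/
def nrm (x : R) : R := x * (x * x * (x * x) * x)
def fq (x y z : R) : R := nrm x + nrm y + nrm z
def e2q (x y z : R) : R := nrm x * nrm y + nrm x * nrm z + nrm y * nrm z
def e3q (x y z : R) : R := nrm x * nrm y * nrm z
def ccq (x y z : R) : R := x * y * z * (x * y * z)

/-- the `3.A_7`-invariant set of 105 non-isotropic points of the unitary plane over `F_25`, as a condition on a
representing vector `(x, y, z)`. -/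
def sig3 (x y z : R) : Prop :=
  fq x y z ≠ 0 ∧ ((e3q x y z = 0 ∧ (e2q x y z = 0 ∨ e2q x y z + fq x y z * fq x y z = 0)) ∨
    ccq x y z = 2 * fq x y z ∨ ccq x y z = 4 * fq x y z)

instance [DecidableEq R] (x y z : R) : Decidable (sig3 x y z) := by
  unfold sig3; infer_instance

end generic

/-- real element of the model -/
def re (a : Fin 5) : R25 := ⟨a, 0⟩

/-- the real matrix `(a_ij)` maps the points of the set (normalised representatives) into the set -/
def inv3 (a11 a12 a13 a21 a22 a23 a31 a32 a33 : Fin 5) : Prop :=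
  (∀ y z : R25, sig3 1 y z → sig3 (re a11 + re a12 * y + re a13 * z) (re a21 + re a22 * y + re a23 * z)
      (re a31 + re a32 * y + re a33 * z)) ∧
  (∀ z : R25, sig3 0 1 z → sig3 (re a12 + re a13 * z) (re a22 + re a23 * z) (re a32 + re a33 * z)) ∧
  (sig3 (0 : R25) 0 1 → sig3 (re a13) (re a23) (re a33))

instance (a11 a12 a13 a21 a22 a23 a31 a32 a33 : Fin 5) :
    Decidable (inv3 a11 a12 a13 a21 a22 a23 a31 a32 a33) := by
  unfold inv3; infer_instance

set_option maxRecDepth 100000 in
/-- every orthogonal `3 × 3` matrix over `F_5` maps the 105 points into themselves (240 matrices, 651 points). -/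
theorem realCheck : ∀ a11 a21 a31 : Fin 5, a11 * a11 + a21 * a21 + a31 * a31 = 1 →
    ∀ a12 a22 a32 : Fin 5, (a12 * a12 + a22 * a22 + a32 * a32 = 1 ∧ a11 * a12 + a21 * a22 + a31 * a32 = 0) →
    ∀ a13 a23 a33 : Fin 5, (a13 * a13 + a23 * a23 + a33 * a33 = 1 ∧ a11 * a13 + a21 * a23 + a31 * a33 = 0 ∧
      a12 * a13 + a22 * a23 + a32 * a33 = 0) → inv3 a11 a12 a13 a21 a22 a23 a31 a32 a33 := by
  decide +kernel

end Cfsg.Agent.Lib.H27.SU3
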