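import Mathlib
import Cfsg.Agent.Lib.H10.SoD
import Cfsg.Agent.Lib.H11.SuPar1

/-!
# S5659 farm-out, piece (C): points ⟹ subfield subgroup (helper27)

An element of `GL_n(F)` mapping every rational singular point to a rational point lies in the
subfield subgroup.
-/

set_option autoImplicit false
set_option linter.unusedSectionVars false
set_option linter.unusedVariables false
set_option linter.unusedSimpArgs false

namespace Cfsg.Agent.Lib.H27.SoSub

open Matrix
open Cfsg.Agent.S0837 (Bs Bs_apply Bs_symm Bs_nondeg)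
open Cfsg.Agent.S0781 (Em Em_mulVec)
open Cfsg.Agent.Lib.H11.UGen (Um Um_mulVec)
open Cfsg.Agent.Lib.H10.Sf (IsRat)
open Cfsg.Agent.Lib.H10.Su
open Cfsg.Agent.Lib.H10.So

variable {F : Type*} [Field F] [Fintype F] {n q : ℕ}
variable {φ : F →+* F} {F₀ : Subfield F} {P : GL (Fin n) F} {H : Subgroup (GL (Fin n) F)}

/-- injectivity of `g *ᵥ ·` for `g : GL` -/
theorem soC_mulVec_eq_zero (g : GL (Fin n) F) {x : Fin n → F}
    (h : (g : Matrix (Fin n) (Fin n) F) *ᵥ x = 0) : x = 0 := by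
  have := congrArg (fun z => ((g⁻¹ : GL (Fin n) F) : Matrix (Fin n) (Fin n) F) *ᵥ z) h
  simpa only [gl_inv_mulVec, Matrix.mulVec_zero] using this

/-- two scalars with `l • r = l' • r'`, `r, r'` rational, `l' • r' ≠ 0`, differ by a rational factor -/
theorem soC_ratio_mem (R : RS φ n q F₀ P) {l l' : F} {r r' : Fin n → F} (hr : RatV F₀ P r)
    (hr' : RatV F₀ P r') (h : l • r = l' • r') (h0 : l • r ≠ 0) : l'⁻¹ * l ∈ F₀ := by
  have hl0 : l ≠ 0 := by
    rintro rfl; exact h0 (zero_smul _ _)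
  have hr0 : r ≠ 0 := by
    rintro rfl; exact h0 (smul_zero _)
  have hl'0 : l' ≠ 0 := by
    rintro rfl; rw [zero_smul] at h; exact h0 h
  have h1 : (l'⁻¹ * l) • r = r' := by
    rw [mul_smul, h, smul_smul, inv_mul_cancel₀ hl'0, one_smul]
  exact R.mem_of_smul_ratV hr hr0 (h1 ▸ hr')

/-- the key step: `a • r + b • r' = r''` with `r, r', r''` rational and `r, r'` independent
forces `a, b ∈ F₀` -/
theorem soC_coeff_mem (R : RS φ n q F₀ P) {a b : F} {r r' r'' : Fin n → F} (hr : RatV F₀ P r)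
    (hr' : RatV F₀ P r') (hr'' : RatV F₀ P r'') (hli : LinearIndependent F ![r, r'])
    (h : a • r + b • r' = r'') : a ∈ F₀ ∧ b ∈ F₀ := by
  obtain ⟨θ, hθ0, hθ, -⟩ := R.exists_theta
  obtain ⟨a₁, a₂, ha₁, ha₂, rfl⟩ := R.scalar_decomp hθ0 hθ a
  obtain ⟨b₁, b₂, hb₁, hb₂, rfl⟩ := R.scalar_decomp hθ0 hθ b
  have h1 : (a₁ • r + b₁ • r' - r'') + θ • (a₂ • r + b₂ • r') = 0 := by
    rw [← h]
    module
  have h2 := (R.decomp_unique hθ0 hθ (((hr.smul ha₁).add (hr'.smul hb₁)).sub hr'')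
    ((hr.smul ha₂).add (hr'.smul hb₂)) h1).2
  have h3 := LinearIndependent.pair_iff.1 hli a₂ b₂ h2
  rw [h3.1, h3.2, mul_zero, add_zero, add_zero]
  exact ⟨ha₁, hb₁⟩

/-- sum of two orthogonal rational singular vectors is singular -/
theorem soC_sing_add (R : RS φ n q F₀ P) {y y' : Fin n → F} (hy : RatV F₀ P y)
    (hy' : RatV F₀ P y') (hyy : Bs φ n y y = 0) (hy'y' : Bs φ n y' y' = 0)
    (hyy' : Bs φ n y y' = 0) : Bs φ n (y + y') (y + y') = 0 := by
  have h1 : Bs φ n y' y = 0 := by rw [R.B_symm hy' hy]; exact hyy'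
  simp only [map_add, LinearMap.add_apply, hyy, hy'y', hyy', h1, add_zero]

/-- the scalars of two orthogonal independent rational singular vectors agree modulo `F₀` -/
theorem soC_adjacent (R : RS φ n q F₀ P) (g : GL (Fin n) F)
    (hg : ∀ y, RatV F₀ P y → Bs φ n y y = 0 → ∃ (l : F) (r : Fin n → F), RatV F₀ P r ∧
      (g : Matrix (Fin n) (Fin n) F) *ᵥ y = l • r)
    {y y' : Fin n → F} (hy : RatV F₀ P y) (hy' : RatV F₀ P y') (hyy : Bs φ n y y = 0)
    (hy'y' : Bs φ n y' y' = 0) (hyy' : Bs φ n y y' = 0) (hli : LinearIndependent F ![y, y'])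
    {l l' : F} {r r' : Fin n → F} (hr : RatV F₀ P r) (hr' : RatV F₀ P r')
    (hl : (g : Matrix (Fin n) (Fin n) F) *ᵥ y = l • r)
    (hl' : (g : Matrix (Fin n) (Fin n) F) *ᵥ y' = l' • r') : l'⁻¹ * l ∈ F₀ := by
  have hy0 : y ≠ 0 := by
    have := hli.ne_zero 0
    simpa using this
  have hy'0 : y' ≠ 0 := by
    have := hli.ne_zero 1
    simpa using this
  have hgy0 : l • r ≠ 0 := by
    rw [← hl]; intro h; exact hy0 (soC_mulVec_eq_zero g h)
  have hgy'0 : l' • r' ≠ 0 := by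
    rw [← hl']; intro h; exact hy'0 (soC_mulVec_eq_zero g h)
  have hl0 : l ≠ 0 := by
    rintro rfl; exact hgy0 (zero_smul _ _)
  have hl'0 : l' ≠ 0 := by
    rintro rfl; exact hgy'0 (zero_smul _ _)
  obtain ⟨l'', r'', hr'', hl''⟩ := hg (y + y') (hy.add hy') (soC_sing_add R hy hy' hyy hy'y' hyy')
  have hsum0 : y + y' ≠ 0 := by
    intro h
    have := LinearIndependent.pair_iff.1 hli 1 1 (by simpa using h)
    exact one_ne_zero this.1
  have hl''0 : l'' ≠ 0 := by
    rintro rfl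
    rw [zero_smul] at hl''
    exact hsum0 (soC_mulVec_eq_zero g hl'')
  -- independence of `r, r'`
  have hlir : LinearIndependent F ![r, r'] := by
    rw [LinearIndependent.pair_iff]
    intro s t hst
    have h1 : (g : Matrix (Fin n) (Fin n) F) *ᵥ ((s * l⁻¹) • y + (t * l'⁻¹) • y') = 0 := by
      rw [Matrix.mulVec_add, Matrix.mulVec_smul, Matrix.mulVec_smul, hl, hl', smul_smul, smul_smul,
        mul_assoc, mul_assoc, inv_mul_cancel₀ hl0, inv_mul_cancel₀ hl'0, mul_one, mul_one]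
      exact hst
    have h2 := LinearIndependent.pair_iff.1 hli _ _ (soC_mulVec_eq_zero g h1)
    have hs : s = 0 := by
      rcases mul_eq_zero.1 h2.1 with h | h
      · exact h
      · exact absurd (inv_eq_zero.1 h) hl0
    have ht : t = 0 := by
      rcases mul_eq_zero.1 h2.2 with h | h
      · exact h
      · exact absurd (inv_eq_zero.1 h) hl'0
    exact ⟨hs, ht⟩
  have hkey : (l''⁻¹ * l) • r + (l''⁻¹ * l') • r' = r'' := by
    have h1 : l • r + l' • r' = l'' • r'' := by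
      rw [← hl, ← hl', ← Matrix.mulVec_add, hl'']
    rw [mul_smul, mul_smul, ← smul_add, h1, smul_smul, inv_mul_cancel₀ hl''0, one_smul]
  obtain ⟨ha, hb⟩ := soC_coeff_mem R hr hr' hr'' hlir hkey
  have hb0 : l''⁻¹ * l' ≠ 0 := mul_ne_zero (inv_ne_zero hl''0) hl'0
  have : l'⁻¹ * l = (l''⁻¹ * l')⁻¹ * (l''⁻¹ * l) := by
    field_simp
  rw [this]
  exact F₀.mul_mem (F₀.inv_mem hb) ha

/-- **C (points ⟹ subfield subgroup)** -/
theorem mem_sub_of_sing_pts (R : RS φ n q F₀ P) (g : GL (Fin n) F)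
    (hg : ∀ y, RatV F₀ P y → Bs φ n y y = 0 → ∃ (l : F) (r : Fin n → F), RatV F₀ P r ∧
      (g : Matrix (Fin n) (Fin n) F) *ᵥ y = l • r) :
    g ∈ Cfsg.Geo.subfieldSubgroup F₀ P := by
  have hn := R.hn
  -- a base rational singular vector
  obtain ⟨y₀, f₀, hy₀, hf₀, hy₀y₀, -, hy₀f₀, -, -⟩ :=
    R.exists_hyp_perp (k := 0) (fun i => Fin.elim0 i) (fun i => Fin.elim0 i) (by omega)
  have hy₀0 : y₀ ≠ 0 := by
    rintro rfl
    rw [map_zero, LinearMap.zero_apply] at hy₀f₀
    exact zero_ne_one hy₀f₀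
  obtain ⟨l₀, r₀, hr₀, hl₀⟩ := hg y₀ hy₀ hy₀y₀
  have hgy₀ : l₀ • r₀ ≠ 0 := by
    rw [← hl₀]; intro h; exact hy₀0 (soC_mulVec_eq_zero g h)
  have hl₀0 : l₀ ≠ 0 := by
    rintro rfl; exact hgy₀ (zero_smul _ _)
  -- step 2: all scalars agree with `l₀` modulo `F₀`
  have hall : ∀ y, RatV F₀ P y → Bs φ n y y = 0 →
      RatV F₀ P (l₀⁻¹ • ((g : Matrix (Fin n) (Fin n) F) *ᵥ y)) := by
    intro y hy hyy
    by_cases hy0 : y = 0
    · subst hy0
      rw [Matrix.mulVec_zero, smul_zero]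
      exact RatV.zero
    obtain ⟨l, r, hr, hl⟩ := hg y hy hyy
    -- common neighbour
    have hrat : ∀ i, RatV F₀ P (![y₀, y] i) := by
      intro i; fin_cases i
      · exact hy₀
      · exact hy
    obtain ⟨e, f, he, hf, hee, hff, hef, hve, hvf⟩ := R.exists_hyp_perp ![y₀, y] hrat (by omega)
    have hy₀e : Bs φ n y₀ e = 0 := by simpa using hve 0
    have hye : Bs φ n y e = 0 := by simpa using hve 1
    have hy₀f : Bs φ n y₀ f = 0 := by simpa using hvf 0
    have hyf : Bs φ n y f = 0 := by simpa using hvf 1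
    obtain ⟨le, re, hre, hle⟩ := hg e he hee
    have hli_gen : ∀ w, RatV F₀ P w → w ≠ 0 → Bs φ n w f = 0 → LinearIndependent F ![w, e] := by
      intro w hw hw0 hwf
      rw [LinearIndependent.pair_iff]
      intro s t hst
      have h1 : Bs φ n (s • w + t • e) f = 0 := by rw [hst, map_zero, LinearMap.zero_apply]
      rw [map_add, map_smulₛₗ, map_smulₛₗ, LinearMap.add_apply, LinearMap.smul_apply,
        LinearMap.smul_apply, hwf, hef, smul_zero, zero_add, smul_eq_mul, mul_one] at h1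
      have ht : t = 0 := by
        have := congrArg φ h1
        rw [R.hφ2, map_zero] at this
        exact this
      rw [ht, zero_smul, add_zero] at hst
      have hs : s = 0 := by
        rcases smul_eq_zero.1 hst with h | h
        · exact h
        · exact absurd h hw0
      exact ⟨hs, ht⟩
    have h1 := soC_adjacent R g hg hy₀ he hy₀y₀ hee hy₀e (hli_gen y₀ hy₀ hy₀0 hy₀f) hr₀ hre hl₀ hle
    have h2 := soC_adjacent R g hg hy he hyy hee hye (hli_gen y hy hy0 hyf) hr hre hl hle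
    -- h1 : le⁻¹ * l₀ ∈ F₀, h2 : le⁻¹ * l ∈ F₀
    have hgy : l • r ≠ 0 := by
      rw [← hl]; intro h; exact hy0 (soC_mulVec_eq_zero g h)
    have hl0 : l ≠ 0 := by
      rintro rfl; exact hgy (zero_smul _ _)
    have he0 : e ≠ 0 := by
      rintro rfl
      rw [map_zero, LinearMap.zero_apply] at hef
      exact zero_ne_one hef
    have hge : le • re ≠ 0 := by
      rw [← hle]; intro h; exact he0 (soC_mulVec_eq_zero g h)
    have hle0 : le ≠ 0 := by
      rintro rfl; exact hge (zero_smul _ _)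
    have h3 : l₀⁻¹ * l ∈ F₀ := by
      have : l₀⁻¹ * l = (le⁻¹ * l₀)⁻¹ * (le⁻¹ * l) := by field_simp
      rw [this]
      exact F₀.mul_mem (F₀.inv_mem h1) h2
    rw [hl, smul_smul]
    exact hr.smul h3
  -- step 3: every rational vector is a sum of three rational singular ones
  apply mem_sub_of_ratV (c := l₀⁻¹) (inv_ne_zero hl₀0)
  intro x hx
  have hrat : ∀ i, RatV F₀ P (![x] i) := by
    intro i; fin_cases i; exact hx
  obtain ⟨e, f, he, hf, hee, hff, hef, hve, hvf⟩ := R.exists_hyp_perp ![x] hrat (by omega)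
  have hxe : Bs φ n x e = 0 := by simpa using hve 0
  have hxf : Bs φ n x f = 0 := by simpa using hvf 0
  have hex : Bs φ n e x = 0 := by rw [R.B_symm he hx]; exact hxe
  have hfx : Bs φ n f x = 0 := by rw [R.B_symm hf hx]; exact hxf
  have hfe : Bs φ n f e = 1 := by rw [R.B_symm hf he]; exact hef
  set t : F := Bs φ n x x / 2 with ht
  have htm : t ∈ F₀ := F₀.div_mem (R.hB x x hx hx) R.two_mem
  have hφt : φ t = t := R.fix htm
  have hs₁ : RatV F₀ P (x + e - t • f) := (hx.add he).sub (hf.smul htm)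
  have hs₁s : Bs φ n (x + e - t • f) (x + e - t • f) = 0 := by
    simp only [map_add, map_sub, map_smulₛₗ, map_smul, LinearMap.add_apply, LinearMap.sub_apply,
      LinearMap.smul_apply, smul_eq_mul, hφt, hee, hff, hef, hfe, hxe, hxf, hex, hfx,
      RingHom.id_apply]
    have h2 := R.h2
    have h3 : t * 2 = Bs φ n x x := by rw [ht]; field_simp
    linear_combination (-1 : F) * h3
  have hdec : x = (x + e - t • f) - e + t • f := by abel
  have h1 := hall _ hs₁ hs₁s
  have h2 := hall _ he hee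
  have h3 := hall _ hf hff
  have : l₀⁻¹ • ((g : Matrix (Fin n) (Fin n) F) *ᵥ x) =
      l₀⁻¹ • ((g : Matrix (Fin n) (Fin n) F) *ᵥ (x + e - t • f)) -
        l₀⁻¹ • ((g : Matrix (Fin n) (Fin n) F) *ᵥ e) +
        t • (l₀⁻¹ • ((g : Matrix (Fin n) (Fin n) F) *ᵥ f)) := by
    conv_lhs => rw [hdec]
    rw [Matrix.mulVec_add, Matrix.mulVec_sub, Matrix.mulVec_smul, smul_add, smul_sub,
      smul_comm l₀⁻¹ t]
  rw [this]
  exact (h1.sub h2).add (h3.smul htm)

end Cfsg.Agent.Lib.H27.SoSub
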