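import Mathlib
import Cfsg.Agent.Lib.H26.TMXDefs
import Cfsg.Agent.Lib.H27.TMXMODa

/-!
# S4383 piece UNIQ (helper26's farm-out): `unique_conj`

A `p`-subgroup `A` with `|A| > |M₁|_p` lies in at most one conjugate of `M₂`.
-/

set_option autoImplicit false
open Pointwise

namespace Cfsg.Agent.Lib.H27.TMX

open Cfsg.Agent.Lib.H26.TMX

universe u
variable {G : Type u} [Group G] [Finite G]

omit [Finite G] in
theorem conj_smul_conj_smul (a b : G) (M : Subgroup G) :
    MulAut.conj a • (MulAut.conj b • M) = MulAut.conj (a * b) • M := by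
  rw [smul_smul, ← map_mul]

theorem card_conj_smul (M : Subgroup G) (x : G) : Nat.card (MulAut.conj x • M : Subgroup G) = Nat.card M :=
  (Nat.card_congr (Subgroup.equivSMul (MulAut.conj x) M).toEquiv).symm

theorem unique_conj_aux (p : ℕ) [Fact p.Prime] (M₁ M₂ : Subgroup G) (hcov : Cover M₁ M₂)
    (hloc : ∀ A : Subgroup G, IsPGroup p A → A ≠ ⊥ → Subgroup.normalizer (A : Set G) ≠ ⊤)
    (hp2 : ¬ p ∣ M₂.index) :
    ∀ k : ℕ, ∀ A : Subgroup G, IsPGroup p A →
      p ^ ((Nat.card M₁).factorization p) < Nat.card A → Nat.card G - Nat.card A = k →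
      ∀ x y : G, A ≤ MulAut.conj x • M₂ → A ≤ MulAut.conj y • M₂ →
        MulAut.conj x • M₂ = MulAut.conj y • M₂ := by
  have hp : p.Prime := Fact.out
  set m := (Nat.card M₁).factorization p with hm
  set n := (Nat.card G).factorization p with hn
  intro k
  induction k using Nat.strong_induction_on with
  | _ k ih =>
    intro A hA hcard hk x y hx hy
    obtain ⟨j, hj⟩ := (IsPGroup.iff_card).mp hA
    have hjm : m < j := by
      rw [hj] at hcard
      exact (Nat.pow_lt_pow_iff_right hp.one_lt).mp hcard
    have hAbot : A ≠ ⊥ := by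
      intro h
      rw [h, Subgroup.card_bot] at hcard
      have : 1 ≤ p ^ m := Nat.one_le_pow _ _ hp.pos
      omega
    -- `N_G(A)` lies in a conjugate of `M₂`
    obtain ⟨z, hz⟩ : ∃ z : G, Subgroup.normalizer (A : Set G) ≤ MulAut.conj z • M₂ := by
      obtain ⟨g, hg | hg⟩ := hcov _ (hloc A hA hAbot)
      · exfalso
        have h1 : Nat.card A ∣ Nat.card (MulAut.conj g • M₁ : Subgroup G) :=
          Subgroup.card_dvd_of_le (Subgroup.le_normalizer.trans hg)
        rw [card_conj_smul, hj] at h1
        have := (hp.pow_dvd_iff_le_factorization Nat.card_pos.ne').mp h1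
        omega
      · exact ⟨g, hg⟩
    have key : ∀ x : G, A ≤ MulAut.conj x • M₂ → MulAut.conj x • M₂ = MulAut.conj z • M₂ := by
      intro x hx
      have hjn : j ≤ n := by
        have h1 : Nat.card A ∣ Nat.card G := Subgroup.card_subgroup_dvd_card A
        rw [hj] at h1
        exact (hp.pow_dvd_iff_le_factorization Nat.card_pos.ne').mp h1
      rcases Nat.eq_or_lt_of_le hjn with hjeq | hjlt
      · -- `A` is a Sylow subgroup of `G`
        let P : Sylow p G := Sylow.ofCard A (by rw [hj, hjeq])
        have hPA : (P : Subgroup G) = A := Sylow.coe_ofCard A _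
        set w := x * z⁻¹ with hw
        have hMw : MulAut.conj x • M₂ = MulAut.conj w • (MulAut.conj z • M₂) := by
          rw [conj_smul_conj_smul, hw, inv_mul_cancel_right]
        have hP'' : (P : Subgroup G) ≤ MulAut.conj z • M₂ := by
          rw [hPA]; exact Subgroup.le_normalizer.trans hz
        have hQ'' : ((w⁻¹ • P : Sylow p G) : Subgroup G) ≤ MulAut.conj z • M₂ := by
          rw [Sylow.coe_subgroup_smul, hPA]
          intro g hg
          rw [mem_conj_smul] at hg
          have h1 := hx hg
          rw [hMw, mem_conj_smul] at h1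
          convert h1 using 1
          group
        obtain ⟨u, hu⟩ := MulAction.exists_smul_eq (MulAut.conj z • M₂ : Subgroup G)
          ((w⁻¹ • P : Sylow p G).subtype hQ'') (P.subtype hP'')
        rw [Sylow.smul_subtype] at hu
        have hu' := Sylow.subtype_injective hu
        rw [Subgroup.smul_def, ← mul_smul, Sylow.smul_eq_iff_mem_normalizer] at hu'
        have hu'' : (u : G) * w⁻¹ ∈ Subgroup.normalizer (A : Set G) := by
          rw [← hPA]; exact hu'
        have h2 : (u : G) * w⁻¹ ∈ MulAut.conj z • M₂ := hz hu''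
        have h3 : w⁻¹ ∈ MulAut.conj z • M₂ := by
          have := (MulAut.conj z • M₂).mul_mem ((MulAut.conj z • M₂).inv_mem u.2) h2
          simpa using this
        have h4 : w ∈ MulAut.conj z • M₂ := by
          have := (MulAut.conj z • M₂).inv_mem h3
          simpa using this
        rw [hMw, Subgroup.conj_smul_eq_self_of_mem h4]
      · -- `A` is not a Sylow subgroup of `G`
        set M := MulAut.conj x • M₂ with hM
        have hvM : (Nat.card M).factorization p = n := by
          rw [hM, card_conj_smul]
          have h1 : Nat.card M₂ * M₂.index = Nat.card G := M₂.card_mul_index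
          have h2 : (Nat.card M₂ * M₂.index).factorization p =
              (Nat.card M₂).factorization p + M₂.index.factorization p := by
            rw [Nat.factorization_mul Nat.card_pos.ne' M₂.index_ne_zero_of_finite]
            rfl
          rw [h1, Nat.factorization_eq_zero_of_not_dvd hp2] at h2
          omega
        have hdvd : p ^ (j + 1) ∣ Nat.card M := by
          have h1 : p ^ n ∣ Nat.card M := by
            rw [← hvM]; exact Nat.ordProj_dvd _ _
          exact dvd_trans (pow_dvd_pow p (by omega)) h1
        set H : Subgroup M := A.subgroupOf M with hH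
        have hHc : Nat.card H = p ^ j := by
          rw [hH, Nat.card_congr (Subgroup.subgroupOfEquivOfLe hx).toEquiv, hj]
        have hN := Sylow.prime_pow_dvd_card_normalizer hdvd hHc
        set L : Subgroup G := (Subgroup.normalizer (H : Set M)).map M.subtype with hL
        have hLc : Nat.card L = Nat.card (Subgroup.normalizer (H : Set M)) :=
          Subgroup.card_map_of_injective M.subtype_injective
        have hLM : L ≤ M := Subgroup.map_subtype_le _
        have hLN : L ≤ Subgroup.normalizer (A : Set G) := by
          rintro _ ⟨g, hg, rfl⟩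
          have hg' := Subgroup.mem_normalizer_iff.mp hg
          rw [Subgroup.mem_normalizer_iff]
          intro h
          constructor
          · intro hh
            have h1 : (⟨h, hx hh⟩ : M) ∈ H := by
              rw [hH, Subgroup.mem_subgroupOf]; exact hh
            have h2 := (hg' _).mp h1
            rw [hH, Subgroup.mem_subgroupOf] at h2
            simpa using h2
          · intro hh
            have hhM : h ∈ M := by
              have h1 : (M.subtype g) * h * (M.subtype g)⁻¹ ∈ M := hx hh
              have h2 := M.mul_mem (M.mul_mem (M.inv_mem g.2) h1) g.2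
              simpa [mul_assoc] using h2
            have h1 : g * (⟨h, hhM⟩ : M) * g⁻¹ ∈ H := by
              rw [hH, Subgroup.mem_subgroupOf]
              simpa using hh
            have h2 := (hg' _).mpr h1
            rw [hH, Subgroup.mem_subgroupOf] at h2
            exact h2
        rw [← hLc] at hN
        obtain ⟨K, hK⟩ := Sylow.exists_subgroup_card_pow_prime p hN
        set A₁ : Subgroup G := K.map L.subtype with hA₁
        have hA₁c : Nat.card A₁ = p ^ (j + 1) := by
          rw [hA₁, Subgroup.card_map_of_injective L.subtype_injective, hK]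
        have hA₁L : A₁ ≤ L := Subgroup.map_subtype_le _
        have hA₁p : IsPGroup p A₁ := IsPGroup.of_card hA₁c
        have hlt : p ^ j < p ^ (j + 1) := Nat.pow_lt_pow_right hp.one_lt (by omega)
        have hle : Nat.card A₁ ≤ Nat.card G := Subgroup.card_le_card_group A₁
        have hcard₁ : p ^ m < Nat.card A₁ := by rw [hA₁c]; rw [hj] at hcard; omega
        exact ih (Nat.card G - Nat.card A₁) (by rw [← hk, hj]; rw [hA₁c] at hle ⊢; omega) A₁ hA₁p
          hcard₁ rfl x z (hA₁L.trans hLM) (hA₁L.trans (hLN.trans hz))
    exact (key x hx).trans (key y hy).symm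

/-- UNIQ: a `p`-subgroup `A` with `|A| > |M₁|_p` lies in at most one conjugate of `M₂`. -/
theorem unique_conj (p : ℕ) [Fact p.Prime] (M₁ M₂ : Subgroup G) (hcov : Cover M₁ M₂)
    (hloc : ∀ A : Subgroup G, IsPGroup p A → A ≠ ⊥ → Subgroup.normalizer (A : Set G) ≠ ⊤)
    (hp2 : ¬ p ∣ M₂.index)
    (A : Subgroup G) (hA : IsPGroup p A)
    (hcard : p ^ ((Nat.card M₁).factorization p) < Nat.card A)
    (x y : G) (hx : A ≤ MulAut.conj x • M₂) (hy : A ≤ MulAut.conj y • M₂) :
    MulAut.conj x • M₂ = MulAut.conj y • M₂ :=
  unique_conj_aux p M₁ M₂ hcov hloc hp2 _ A hA hcard rfl x y hx hy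

/-- MOD: `|G : M₂| ≡ 1` modulo the full power of `p` dividing `|G : M₁|`. -/
theorem index_modEq_one (p : ℕ) [Fact p.Prime] (M₁ M₂ : Subgroup G) (hcov : Cover M₁ M₂)
    (hloc : ∀ A : Subgroup G, IsPGroup p A → A ≠ ⊥ → Subgroup.normalizer (A : Set G) ≠ ⊤)
    (hself : Subgroup.normalizer (M₂ : Set G) = M₂)
    (hnp : ¬ IsPGroup p G) (hp1 : p ∣ M₁.index) :
    p ^ (M₁.index.factorization p) ∣ M₂.index - 1 :=
  index_modEq_one_aux p M₁ M₂ hcov hself hnp hp1
    (fun hp2 A hA hc x y hx hy => unique_conj p M₁ M₂ hcov hloc hp2 A hA hc x y hx hy)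

end Cfsg.Agent.Lib.H27.TMX
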