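import Mathlib
import Cfsg.Agent.Lib.H14.ThetaDefs

/-!
# S1632, piece AR (architect helper14)

A level one modular form of weight 12 with `a₀ = 1`, `a₁ = 0` is `(7 E₄³ + 5 E₆²)/12`; its next coefficients.
-/

set_option autoImplicit false

namespace Cfsg.Agent.Lib.H27.Theta

open UpperHalfPlane ModularForm ModularFormClass MatrixGroups EisensteinSeries

lemma bernoulli_four_val : bernoulli 4 = -1 / 30 := by decide +kernel
lemma bernoulli_six_val : bernoulli 6 = 1 / 42 := by decide +kernel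

lemma E4_coeff (m : ℕ) : (qExpansion 1 E₄).coeff m =
    if m = 0 then 1 else 240 * (ArithmeticFunction.sigma 3 m : ℂ) := by
  rw [E_qExpansion_coeff _ ⟨2, rfl⟩]
  split_ifs with h
  · rfl
  · norm_num [bernoulli_four_val]

lemma E6_coeff (m : ℕ) : (qExpansion 1 E₆).coeff m =
    if m = 0 then 1 else -504 * (ArithmeticFunction.sigma 5 m : ℂ) := by
  rw [E_qExpansion_coeff _ ⟨3, rfl⟩]
  split_ifs with h
  · rfl
  · norm_num [bernoulli_six_val]

lemma s32 : ArithmeticFunction.sigma 3 2 = 9 := by decide +kernel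
lemma s33 : ArithmeticFunction.sigma 3 3 = 28 := by decide +kernel
lemma s34 : ArithmeticFunction.sigma 3 4 = 73 := by decide +kernel
lemma s52 : ArithmeticFunction.sigma 5 2 = 33 := by decide +kernel
lemma s53 : ArithmeticFunction.sigma 5 3 = 244 := by decide +kernel
lemma s54 : ArithmeticFunction.sigma 5 4 = 1057 := by decide +kernel

lemma E4_c0 : (qExpansion 1 E₄).coeff 0 = 1 := by simp [E4_coeff]
lemma E4_c1 : (qExpansion 1 E₄).coeff 1 = 240 := by simp [E4_coeff]
lemma E4_c2 : (qExpansion 1 E₄).coeff 2 = 2160 := by rw [E4_coeff]; norm_num [s32]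
lemma E4_c3 : (qExpansion 1 E₄).coeff 3 = 6720 := by rw [E4_coeff]; norm_num [s33]
lemma E4_c4 : (qExpansion 1 E₄).coeff 4 = 17520 := by rw [E4_coeff]; norm_num [s34]
lemma E6_c0 : (qExpansion 1 E₆).coeff 0 = 1 := by simp [E6_coeff]
lemma E6_c1 : (qExpansion 1 E₆).coeff 1 = -504 := by simp [E6_coeff]
lemma E6_c2 : (qExpansion 1 E₆).coeff 2 = -16632 := by rw [E6_coeff]; norm_num [s52]
lemma E6_c3 : (qExpansion 1 E₆).coeff 3 = -122976 := by rw [E6_coeff]; norm_num [s53]
lemma E6_c4 : (qExpansion 1 E₆).coeff 4 = -532728 := by rw [E6_coeff]; norm_num [s54]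

/-- The combination `(7 E₄³ + 5 E₆²)/12` as a weight 12 form. -/
noncomputable def leechForm : ModularForm 𝒮ℒ 12 :=
  (7 / 12 : ℂ) • ModularForm.mcast (by decide) (E₄.pow 3) +
    (5 / 12 : ℂ) • ModularForm.mcast (by decide) (E₆.pow 2)

lemma leechForm_qExpansion :
    qExpansion 1 leechForm = (7 / 12 : ℂ) • (qExpansion 1 E₄ * qExpansion 1 E₄ * qExpansion 1 E₄) +
      (5 / 12 : ℂ) • (qExpansion 1 E₆ * qExpansion 1 E₆) := by
  unfold leechForm
  rw [FunLike.coe_add, ModularForm.qExpansion_add one_pos one_mem_strictPeriods_SL,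
    FunLike.coe_smul, FunLike.coe_smul,
    ModularForm.qExpansion_smul one_pos one_mem_strictPeriods_SL,
    ModularForm.qExpansion_smul one_pos one_mem_strictPeriods_SL,
    coe_mcast, coe_mcast,
    ModularForm.qExpansion_pow one_pos one_mem_strictPeriods_SL,
    ModularForm.qExpansion_pow one_pos one_mem_strictPeriods_SL]
  ring_nf

lemma leechForm_c0 : (qExpansion 1 leechForm).coeff 0 = 1 := by
  rw [leechForm_qExpansion]
  norm_num [PowerSeries.coeff_mul, Finset.Nat.antidiagonal_succ, E4_c0, E6_c0,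
    -PowerSeries.coeff_zero_eq_constantCoeff]

lemma leechForm_c1 : (qExpansion 1 leechForm).coeff 1 = 0 := by
  rw [leechForm_qExpansion]
  norm_num [PowerSeries.coeff_mul, Finset.Nat.antidiagonal_succ, E4_c0, E6_c0, E4_c1, E6_c1,
    -PowerSeries.coeff_zero_eq_constantCoeff]

lemma leechForm_c2 : (qExpansion 1 leechForm).coeff 2 = 196560 := by
  rw [leechForm_qExpansion]
  norm_num [PowerSeries.coeff_mul, Finset.Nat.antidiagonal_succ, E4_c0, E6_c0, E4_c1, E6_c1,
    E4_c2, E6_c2, -PowerSeries.coeff_zero_eq_constantCoeff]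

lemma leechForm_c3 : (qExpansion 1 leechForm).coeff 3 = 16773120 := by
  rw [leechForm_qExpansion]
  norm_num [PowerSeries.coeff_mul, Finset.Nat.antidiagonal_succ, E4_c0, E6_c0, E4_c1, E6_c1,
    E4_c2, E6_c2, E4_c3, E6_c3, -PowerSeries.coeff_zero_eq_constantCoeff]

lemma leechForm_c4 : (qExpansion 1 leechForm).coeff 4 = 398034000 := by
  rw [leechForm_qExpansion]
  norm_num [PowerSeries.coeff_mul, Finset.Nat.antidiagonal_succ, E4_c0, E6_c0, E4_c1, E6_c1,
    E4_c2, E6_c2, E4_c3, E6_c3, E4_c4, E6_c4, -PowerSeries.coeff_zero_eq_constantCoeff]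

theorem eq_leechForm (f : ModularForm 𝒮ℒ 12)
    (h0 : (qExpansion 1 f).coeff 0 = 1) (h1 : (qExpansion 1 f).coeff 1 = 0) :
    f = leechForm := by
  have hz : f - leechForm = 0 := by
    apply ModularForm.sturm_bound_levelOne
    have h2 : ((2 : ℕ) : ℕ∞) ≤ (qExpansion 1 (f - leechForm)).order := by
      apply PowerSeries.nat_le_order
      intro i hi
      rw [ModularForm.qExpansion_sub one_pos one_mem_strictPeriods_SL, map_sub]
      interval_cases i
      · rw [h0, leechForm_c0, sub_self]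
      · rw [h1, leechForm_c1, sub_self]
    refine lt_of_lt_of_le ?_ h2
    have : Int.toNat 12 / 12 = 1 := by decide
    rw [this]
    norm_num
  exact sub_eq_zero.mp hz

theorem coeff_of_weight_twelve (F : ModularForm 𝒮ℒ 12)
    (h0 : (qExpansion 1 F).coeff 0 = 1) (h1 : (qExpansion 1 F).coeff 1 = 0) :
    (qExpansion 1 F).coeff 2 = 196560 ∧ (qExpansion 1 F).coeff 3 = 16773120 ∧
      (qExpansion 1 F).coeff 4 = 398034000 := by
  rw [eq_leechForm F h0 h1]
  exact ⟨leechForm_c2, leechForm_c3, leechForm_c4⟩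

end Cfsg.Agent.Lib.H27.Theta
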