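/-
# Overgroups of the unipotent radical in a split (B,N)-pair (Tits' lemma)   (helper27; for S2936)

`Split P T U`: `B = T U`, `T ≤ B ⊓ N` normalised by `N`, `U ≤ B` normalised by `B`
(same field names as `Lib/H8/BNRootData.RootData`, so `⟨D.hTB, D.hTN, D.hNT, D.hUB, D.hBTU, D.hUn⟩ : Split P D.T D.U`).

* `overgroup_dichotomy`: a subgroup `M ≥ U` lies in a maximal parabolic `P_{S \ {s₀}}`, or contains a normal
  subgroup `L ≥ U` of `G`.
* `OverSyl p K`: every subgroup `M` of `K` with `O_p(M) = 1` and `p ∤ [K : M]` is `K`.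
* `overSyl_of_split` (`G` itself simple) and `overSyl_center_quot_of_split` (`G ⧸ Z(G)` simple, `Z(G)` without
  `p`-torsion): `OverSyl p _` from a split (B,N)-pair with `U` a `p`-group and, for every `s₀ ∈ S`, a nontrivial
  subgroup `Q ≤ U` normalised by the maximal parabolic `P_{S \ {s₀}}`.
-/
import Cfsg.Agent.Lib.H2.BN3
import Cfsg.Prelude.Def_Solvable

set_option autoImplicit false

namespace Cfsg.Agent.Lib.H27.TitsOver

open Cfsg Cfsg.Agent.Lib.H2.BN

/-- every subgroup of `p'`-index with trivial `O_p` is the whole group -/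
def OverSyl (p : ℕ) (K : Type*) [Group K] : Prop :=
  ∀ M : Subgroup K, pCore p ↥M = ⊥ → ¬ p ∣ M.index → M = ⊤

variable {G : Type*} [Group G]

/-- a split (B,N)-pair: `B = T U`, `T ≤ B ⊓ N` normalised by `N`, `U` normalised by `B` -/
structure Split (P : BNPair G) (T U : Subgroup G) : Prop where
  hTB : T ≤ P.B
  hTN : T ≤ P.N
  hNT : ∀ n ∈ P.N, ∀ t ∈ T, n⁻¹ * t * n ∈ T
  hUB : U ≤ P.B
  hBTU : ∀ b ∈ P.B, ∃ t ∈ T, ∃ u ∈ U, b = t * u
  hUn : ∀ b ∈ P.B, ∀ u ∈ U, b⁻¹ * u * b ∈ U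

variable {P : BNPair G} {T U : Subgroup G}

namespace Split

variable (D : Split P T U)
include D

theorem conj_T {n t : G} (hn : n ∈ P.N) (ht : t ∈ T) : n * t * n⁻¹ ∈ T := by
  have := D.hNT n⁻¹ (P.N.inv_mem hn) t ht
  rwa [inv_inv] at this

theorem conj_U {b u : G} (hb : b ∈ P.B) (hu : u ∈ U) : b * u * b⁻¹ ∈ U := by
  have := D.hUn b⁻¹ (P.B.inv_mem hb) u hu
  rwa [inv_inv] at this

/-- an element of `M ≥ U` lies in `B n B` for some `n ∈ N ∩ M` -/
theorem exists_N_of_mem {M : Subgroup G} (hUM : U ≤ M) {m : G} (hm : m ∈ M) :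
    ∃ n ∈ P.N, n ∈ M ∧ m ∈ C P n := by
  obtain ⟨n, hn, hmn⟩ := bruhat (P := P) m
  obtain ⟨b, hb, b', hb', rfl⟩ := mem_C_iff.1 hmn
  obtain ⟨t, ht, u, hu, rfl⟩ := D.hBTU b hb
  obtain ⟨t', ht', u', hu', rfl⟩ := D.hBTU b' hb'
  have hu1 : t * u * t⁻¹ ∈ U := D.conj_U (D.hTB ht) hu
  have hn1 : t * n * t' ∈ P.N := P.N.mul_mem (P.N.mul_mem (D.hTN ht) hn) (D.hTN ht')
  have e : t * n * t' = (t * u * t⁻¹)⁻¹ * (t * u * n * (t' * u')) * u'⁻¹ := by group
  refine ⟨t * n * t', hn1, ?_, ?_⟩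
  · rw [e]
    exact M.mul_mem (M.mul_mem (M.inv_mem (hUM hu1)) hm) (M.inv_mem (hUM hu'))
  · rw [mem_C_iff]
    refine ⟨t * u * t⁻¹, D.hUB hu1, u', D.hUB hu', ?_⟩
    group

/-- if `ℓ(sn) < ℓ(n)` for `n ∈ N ∩ M`, `M ≥ U`, then `M` contains a representative of `s` modulo `T` -/
theorem exists_rep {M : Subgroup G} (hUM : U ≤ M) {s n : G} (hs : s ∈ P.S) (hn : n ∈ P.N) (hnM : n ∈ M)
    (hlt : len P (s * n) < len P n) : ∃ t₁ ∈ T, ∃ t₂ ∈ T, t₁ * s * t₂ ∈ M := by
  obtain ⟨b, hb, h⟩ := exists_smul_mem_C_of_len_lt hs hn hlt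
  obtain ⟨b₁, hb₁, b₂, hb₂, e⟩ := mem_C_iff.1 h
  obtain ⟨t, ht, u, hu, rfl⟩ := D.hBTU b hb
  obtain ⟨t₁, ht₁, u₁, hu₁, rfl⟩ := D.hBTU b₁ hb₁
  obtain ⟨t₂, ht₂, u₂, hu₂, rfl⟩ := D.hBTU b₂ hb₂
  have ht2' : n * t₂ * n⁻¹ ∈ T := D.conj_T hn ht₂
  set t2' := n * t₂ * n⁻¹ with ht2'def
  have hu1' : t2'⁻¹ * u₁ * t2' ∈ U := D.hUn t2' (D.hTB ht2') u₁ hu₁
  refine ⟨(t₁ * t2')⁻¹, T.inv_mem (T.mul_mem ht₁ ht2'), t, ht, ?_⟩
  have key : (t₁ * t2')⁻¹ * s * t = (t2'⁻¹ * u₁ * t2') * (n * u₂ * n⁻¹) * u⁻¹ := by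
    have e' : s * t = t₁ * u₁ * n * (t₂ * u₂) * n⁻¹ * u⁻¹ := by
      rw [← e]; group
    calc (t₁ * t2')⁻¹ * s * t = (t₁ * t2')⁻¹ * (s * t) := by group
      _ = (t₁ * t2')⁻¹ * (t₁ * u₁ * n * (t₂ * u₂) * n⁻¹ * u⁻¹) := by rw [e']
      _ = (t2'⁻¹ * u₁ * t2') * (n * u₂ * n⁻¹) * u⁻¹ := by rw [ht2'def]; group
  rw [key]
  exact M.mul_mem (M.mul_mem (hUM hu1') (M.mul_mem (M.mul_mem hnM (hUM hu₂)) (M.inv_mem hnM)))
    (M.inv_mem (hUM hu))

end Split

/-- an element of `N \ B` has a left descent -/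
theorem exists_descent {n : G} (hn : n ∈ P.N) (hnB : n ∉ P.B) : ∃ s ∈ P.S, len P (s * n) < len P n := by
  obtain ⟨l, hl, hlen, he⟩ := exists_reduced hn
  rcases l with _ | ⟨s, l'⟩
  · exfalso
    apply hnB
    apply mem_B_of_len_eq_zero hn
    rw [← hlen]; rfl
  · obtain ⟨hs, hl'⟩ := hl.of_cons
    refine ⟨s, hs, ?_⟩
    have h1 : len P l'.prod = l'.length := len_tail hl hlen he
    have hl'N : l'.prod ∈ P.N := hl'.prod_mem_N (le_refl _)
    rw [List.prod_cons] at he
    have h2 : Eqv P (s * (s * l'.prod)) (s * n) := he.mul_left s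
    have h3 : Eqv P (s * (s * l'.prod)) l'.prod := S_sq_mul_eqv hs hl'N
    rw [← len_congr h2, len_congr h3, h1, ← hlen, List.length_cons]
    exact Nat.lt_succ_self _


namespace Split

variable (D : Split P T U)
include D

/-- the simple reflections having a representative in `M` modulo `T` -/
def typeSet (_D : Split P T U) (M : Subgroup G) : Set G :=
  {s | s ∈ P.S ∧ ∃ t₁ ∈ T, ∃ t₂ ∈ T, t₁ * s * t₂ ∈ M}

theorem typeSet_subset (M : Subgroup G) : D.typeSet M ⊆ P.S := fun _ h => h.1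

theorem len_T_mul {t n : G} (ht : t ∈ T) (hn : n ∈ P.N) : len P (t * n) = len P n := by
  symm
  apply len_congr
  show n⁻¹ * (t * n) ∈ P.B
  have := D.hNT n hn t ht
  rw [← mul_assoc]
  exact D.hTB this

theorem len_smul_T_mul {s t n : G} (ht : t ∈ T) (hn : n ∈ P.N) : len P (s * t * n) = len P (s * n) := by
  symm
  apply len_congr
  show (s * n)⁻¹ * (s * t * n) ∈ P.B
  have := D.hNT n hn t ht
  have e : (s * n)⁻¹ * (s * t * n) = n⁻¹ * t * n := by group
  rw [e]
  exact D.hTB this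

theorem mem_parabolic_of_mem_N {M : Subgroup G} (hUM : U ≤ M) :
    ∀ k : ℕ, ∀ n ∈ P.N, n ∈ M → len P n = k → n ∈ P.parabolic (D.typeSet M) := by
  intro k
  induction k using Nat.strong_induction_on with
  | _ k ih =>
    intro n hn hnM hk
    by_cases hnB : n ∈ P.B
    · exact (le_sup_left : P.B ≤ P.parabolic (D.typeSet M)) hnB
    · obtain ⟨s, hs, hlt⟩ := exists_descent hn hnB
      obtain ⟨t₁, ht₁, t₂, ht₂, hr⟩ := D.exists_rep hUM hs hn hnM hlt
      have hsJ : s ∈ D.typeSet M := ⟨hs, t₁, ht₁, t₂, ht₂, hr⟩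
      have hrN : t₁ * s * t₂ ∈ P.N :=
        P.N.mul_mem (P.N.mul_mem (D.hTN ht₁) (S_mem_N hs)) (D.hTN ht₂)
      have hrn : t₁ * s * t₂ * n ∈ P.N := P.N.mul_mem hrN hn
      have hlen : len P (t₁ * s * t₂ * n) = len P (s * n) := by
        have h1 : t₁ * s * t₂ * n = t₁ * (s * t₂ * n) := by group
        rw [h1, D.len_T_mul ht₁ (P.N.mul_mem (P.N.mul_mem (S_mem_N hs) (D.hTN ht₂)) hn),
          D.len_smul_T_mul ht₂ hn]
      have hlt' : len P (t₁ * s * t₂ * n) < k := by rw [hlen, ← hk]; exact hlt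
      have h2 := ih _ hlt' _ hrn (M.mul_mem hr hnM) rfl
      have hB : P.B ≤ P.parabolic (D.typeSet M) := le_sup_left
      have hJ : Subgroup.closure (D.typeSet M) ≤ P.parabolic (D.typeSet M) := le_sup_right
      have hr' : t₁ * s * t₂ ∈ P.parabolic (D.typeSet M) :=
        mul_mem (mul_mem (hB (D.hTB ht₁)) (hJ (Subgroup.subset_closure hsJ))) (hB (D.hTB ht₂))
      have e : n = (t₁ * s * t₂)⁻¹ * (t₁ * s * t₂ * n) := by group
      rw [e]
      exact mul_mem (inv_mem hr') h2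

/-- `M ≥ U` lies in the parabolic subgroup of its type set -/
theorem le_parabolic_typeSet {M : Subgroup G} (hUM : U ≤ M) : M ≤ P.parabolic (D.typeSet M) := by
  intro m hm
  obtain ⟨n, hn, hnM, hmn⟩ := D.exists_N_of_mem hUM hm
  have h1 := D.mem_parabolic_of_mem_N hUM _ n hn hnM rfl
  obtain ⟨b, hb, b', hb', rfl⟩ := mem_C_iff.1 hmn
  have hB : P.B ≤ P.parabolic (D.typeSet M) := le_sup_left
  exact mul_mem (mul_mem (hB hb) h1) (hB hb')

/-- the subgroup generated by the `N`-conjugates of `U` -/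
def conjClosure (_D : Split P T U) : Subgroup G :=
  Subgroup.closure {x | ∃ n ∈ P.N, ∃ u ∈ U, x = n * u * n⁻¹}

theorem le_conjClosure : U ≤ D.conjClosure := by
  intro u hu
  apply Subgroup.subset_closure
  exact ⟨1, P.N.one_mem, u, hu, by group⟩

theorem conjClosure_normal : (D.conjClosure).Normal := by
  have hN : P.N ≤ Subgroup.normalizer (D.conjClosure : Set G) := by
    intro n hn
    have key : ∀ m ∈ P.N, ∀ x ∈ D.conjClosure, m * x * m⁻¹ ∈ D.conjClosure := by
      intro m hm x hx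
      induction hx using Subgroup.closure_induction with
      | mem y hy =>
        obtain ⟨n', hn', u, hu, rfl⟩ := hy
        apply Subgroup.subset_closure
        refine ⟨m * n', P.N.mul_mem hm hn', u, hu, by group⟩
      | one => simp
      | mul y z _ _ hy hz =>
        have e : m * (y * z) * m⁻¹ = (m * y * m⁻¹) * (m * z * m⁻¹) := by group
        rw [e]; exact mul_mem hy hz
      | inv y _ hy =>
        have e : m * y⁻¹ * m⁻¹ = (m * y * m⁻¹)⁻¹ := by group
        rw [e]; exact inv_mem hy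
    rw [Subgroup.mem_normalizer_iff]
    intro x
    constructor
    · intro hx; exact key n hn x hx
    · intro hx
      have := key n⁻¹ (P.N.inv_mem hn) _ hx
      have e : n⁻¹ * (n * x * n⁻¹) * n⁻¹⁻¹ = x := by group
      rwa [e] at this
  have hB : P.B ≤ Subgroup.normalizer (D.conjClosure : Set G) := by
    intro b hb
    obtain ⟨t, ht, u, hu, rfl⟩ := D.hBTU b hb
    exact mul_mem (hN (D.hTN ht)) (Subgroup.le_normalizer (D.le_conjClosure hu))
  have htop : Subgroup.normalizer (D.conjClosure : Set G) = ⊤ := by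
    rw [eq_top_iff, ← P.sup_eq_top]
    exact sup_le hB hN
  exact Subgroup.normalizer_eq_top_iff.1 htop

/-- if every simple reflection has a representative in `M` modulo `T`, then `M` contains the `N`-conjugates of `U` -/
theorem conjClosure_le {M : Subgroup G} (hUM : U ≤ M) (hall : ∀ s ∈ P.S, s ∈ D.typeSet M) :
    D.conjClosure ≤ M := by
  -- every word in `S` is `m * t` with `m ∈ M ∩ N`, `t ∈ T`
  have hword : ∀ l : List G, IsWord P.S l → ∃ m ∈ M, m ∈ P.N ∧ ∃ t ∈ T, l.prod = m * t := by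
    intro l
    induction l with
    | nil => intro _; exact ⟨1, M.one_mem, P.N.one_mem, 1, T.one_mem, by simp⟩
    | cons s l ih =>
      intro hl
      obtain ⟨hs, hl'⟩ := hl.of_cons
      obtain ⟨m, hmM, hmN, t, ht, e⟩ := ih hl'
      obtain ⟨-, t₁, ht₁, t₂, ht₂, hr⟩ := hall s hs
      have hrN : t₁ * s * t₂ ∈ P.N :=
        P.N.mul_mem (P.N.mul_mem (D.hTN ht₁) (S_mem_N hs)) (D.hTN ht₂)
      -- `s = t₁⁻¹ r t₂⁻¹`, `s * m = r' * (stuff in T)`
      set r := t₁ * s * t₂ with hrdef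
      have hrm : r * m ∈ P.N := P.N.mul_mem hrN hmN
      have h1 : (r * m)⁻¹ * t₁⁻¹ * (r * m) ∈ T := D.hNT _ hrm _ (T.inv_mem ht₁)
      have h2 : m⁻¹ * t₂⁻¹ * m ∈ T := D.hNT _ hmN _ (T.inv_mem ht₂)
      refine ⟨r * m, M.mul_mem hr hmM, hrm,
        ((r * m)⁻¹ * t₁⁻¹ * (r * m)) * (m⁻¹ * t₂⁻¹ * m) * t, T.mul_mem (T.mul_mem h1 h2) ht, ?_⟩
      rw [List.prod_cons, e, hrdef]
      group
  intro x hx
  induction hx using Subgroup.closure_induction with
  | mem y hy =>
    obtain ⟨n, hn, u, hu, rfl⟩ := hy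
    obtain ⟨l, hl, hle⟩ := exists_word hn
    obtain ⟨m, hmM, hmN, t, ht, e⟩ := hword l hl
    -- `n = l.prod * b`, `b ∈ B`
    have hb : l.prod⁻¹ * n ∈ P.B := hle
    set b := t * (l.prod⁻¹ * n) with hbdef
    have hbB : b ∈ P.B := P.B.mul_mem (D.hTB ht) hb
    have hn' : n = m * b := by rw [hbdef, ← mul_assoc, ← e]; group
    have hu' : b * u * b⁻¹ ∈ U := D.conj_U hbB hu
    have e2 : n * u * n⁻¹ = m * (b * u * b⁻¹) * m⁻¹ := by rw [hn']; group
    rw [e2]
    exact M.mul_mem (M.mul_mem hmM (hUM hu')) (M.inv_mem hmM)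
  | one => exact M.one_mem
  | mul y z _ _ hy hz => exact M.mul_mem hy hz
  | inv y _ hy => exact M.inv_mem hy

/-- **Tits' lemma** (dichotomy form): a subgroup `M ≥ U` lies in a maximal parabolic subgroup, or contains a normal
subgroup of `G` containing `U`. -/
theorem overgroup_dichotomy {M : Subgroup G} (hUM : U ≤ M) :
    (∃ s₀ ∈ P.S, M ≤ P.parabolic (P.S \ {s₀})) ∨ ∃ L : Subgroup G, L.Normal ∧ U ≤ L ∧ L ≤ M := by
  by_cases hall : ∀ s ∈ P.S, s ∈ D.typeSet M
  · exact Or.inr ⟨D.conjClosure, D.conjClosure_normal, D.le_conjClosure, D.conjClosure_le hUM hall⟩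
  · push Not at hall
    obtain ⟨s₀, hs₀, hs₀J⟩ := hall
    refine Or.inl ⟨s₀, hs₀, (D.le_parabolic_typeSet hUM).trans ?_⟩
    have hsub : D.typeSet M ⊆ P.S \ {s₀} := by
      intro s hs
      refine ⟨hs.1, ?_⟩
      rintro rfl
      exact hs₀J hs
    exact sup_le_sup_left (Subgroup.closure_mono hsub) _

end Split


/-- a subgroup normalised by `B` and by every `s ∈ J` is normalised by the parabolic `P_J` -/
theorem parabolic_le_normalizer_of {J : Set G} {Q : Subgroup G}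
    (hB : P.B ≤ Subgroup.normalizer (Q : Set G)) (hJ : ∀ s ∈ J, s ∈ Subgroup.normalizer (Q : Set G)) :
    P.parabolic J ≤ Subgroup.normalizer (Q : Set G) :=
  sup_le hB ((Subgroup.closure_le _).2 hJ)

/-! ### the ambient form of `OverSyl` -/

/-- ambient form: `M` has no nontrivial normal `p`-subgroup and `p ∤ [K : M]` ⟹ `M = K` -/
def OverSylA (p : ℕ) (K : Type*) [Group K] : Prop :=
  ∀ M : Subgroup K, (∀ Q : Subgroup K, IsPGroup p Q → Q ≤ M → M ≤ Subgroup.normalizer (Q : Set K) → Q = ⊥) →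
    ¬ p ∣ M.index → M = ⊤

theorem eq_bot_of_pCore {K : Type*} [Group K] {p : ℕ} (M Q : Subgroup K) (hcore : pCore p ↥M = ⊥)
    (hQ : IsPGroup p Q) (hQM : Q ≤ M) (hn : M ≤ Subgroup.normalizer (Q : Set K)) : Q = ⊥ := by
  have hnorm : (Q.subgroupOf M).Normal := by
    refine ⟨fun x hx m => ?_⟩
    rw [Subgroup.mem_subgroupOf] at hx ⊢
    have := hn m.2
    rw [Subgroup.mem_normalizer_iff] at this
    simpa using (this x.1).1 hx
  have hp : IsPGroup p (Q.subgroupOf M) := hQ.comap_subtype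
  have hle : Q.subgroupOf M ≤ pCore p ↥M := le_sSup ⟨hnorm, hp⟩
  rw [hcore, le_bot_iff, Subgroup.subgroupOf_eq_bot] at hle
  have : Q ≤ Q ⊓ M := le_inf le_rfl hQM
  rw [hle.eq_bot] at this
  exact le_bot_iff.1 this

theorem OverSylA.overSyl {K : Type*} [Group K] {p : ℕ} (h : OverSylA p K) : OverSyl p K := by
  intro M hM hidx
  exact h M (fun Q hQ hQM hn => eq_bot_of_pCore M Q hM hQ hQM hn) hidx

theorem OverSylA.of_equiv {K K' : Type*} [Group K] [Group K'] {p : ℕ} (e : K ≃* K') (h : OverSylA p K) :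
    OverSylA p K' := by
  intro M' hcore hidx
  have hsurj : Function.Surjective e.toMonoidHom := e.surjective
  have h1 : (M'.comap e.toMonoidHom) = ⊤ := by
    apply h
    · intro Q hQ hQM hn
      have hQ' : IsPGroup p (Q.map e.toMonoidHom) := hQ.map _
      have hle : Q.map e.toMonoidHom ≤ M' := by
        rintro _ ⟨q, hq, rfl⟩
        exact hQM hq
      have hn' : M' ≤ Subgroup.normalizer ((Q.map e.toMonoidHom : Subgroup K') : Set K') := by
        intro m' hm'
        obtain ⟨m, rfl⟩ := hsurj m'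
        have hm : m ∈ M'.comap e.toMonoidHom := hm'
        have hmn := hn hm
        rw [Subgroup.mem_normalizer_iff] at hmn ⊢
        intro x'
        obtain ⟨x, rfl⟩ := hsurj x'
        constructor
        · rintro ⟨q, hq, hqx⟩
          have : q = x := e.injective hqx
          subst this
          exact ⟨m * q * m⁻¹, (hmn q).1 hq, by simp⟩
        · rintro ⟨q, hq, hqx⟩
          have : q = m * x * m⁻¹ := e.injective (by simpa using hqx)
          subst this
          exact ⟨x, (hmn x).2 hq, rfl⟩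
      have := hcore _ hQ' hle hn'
      rw [Subgroup.map_eq_bot_iff_of_injective _ e.injective] at this
      exact this
    · rwa [Subgroup.index_comap_of_surjective _ hsurj]
  rw [eq_top_iff]
  intro x' _
  obtain ⟨x, rfl⟩ := hsurj x'
  have : x ∈ M'.comap e.toMonoidHom := by rw [h1]; trivial
  exact this

theorem OverSyl.of_equiv_A {K K' : Type*} [Group K] [Group K'] {p : ℕ} (e : K ≃* K') (h : OverSylA p K) :
    OverSyl p K' := (h.of_equiv e).overSyl

/-! ### the main criterion -/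

section finite

variable [Finite G] (D : Split P T U) (p : ℕ) [Fact p.Prime]
include D

/-- ambient main criterion -/
theorem Split.eq_top_of_core (hU : IsPGroup p U)
    (hrad : ∀ s₀ ∈ P.S, ∃ Q : Subgroup G, Q ≠ ⊥ ∧ Q ≤ U ∧
      P.parabolic (P.S \ {s₀}) ≤ Subgroup.normalizer (Q : Set G))
    (Z : Subgroup G) (hnc : ∀ L : Subgroup G, L.Normal → U ≤ L → L ⊔ Z = ⊤)
    (M : Subgroup G) (hZM : Z ≤ M)
    (hcore : ∀ Q : Subgroup G, IsPGroup p Q → Q ≤ M → M ≤ Subgroup.normalizer (Q : Set G) → Q = ⊥)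
    (hidx : ¬ p ∣ M.index) : M = ⊤ := by
  -- `U` fixes a point of `G ⧸ M`
  have hcard : ¬ p ∣ Nat.card (G ⧸ M) := hidx
  obtain ⟨x, hx⟩ := hU.nonempty_fixed_point_of_prime_not_dvd_card (G ⧸ M) hcard
  obtain ⟨g, rfl⟩ := QuotientGroup.mk_surjective x
  have hfix : ∀ u ∈ U, g⁻¹ * u * g ∈ M := by
    intro u hu
    have := hx ⟨u, hu⟩
    have h2 : ((u * g : G) : G ⧸ M) = (g : G ⧸ M) := this
    rw [QuotientGroup.eq] at h2
    have e : g⁻¹ * u * g = ((u * g)⁻¹ * g)⁻¹ := by group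
    rw [e]
    exact M.inv_mem h2
  -- the conjugate `M' = g M g⁻¹` contains `U`
  let M' : Subgroup G := M.map (MulAut.conj g).toMonoidHom
  have hmem' : ∀ y : G, y ∈ M' ↔ g⁻¹ * y * g ∈ M := by
    intro y
    constructor
    · rintro ⟨m, hm, rfl⟩
      have e : g⁻¹ * ((MulAut.conj g).toMonoidHom m) * g = m := by
        simp [MulAut.conj_apply]; group
      rw [e]; exact hm
    · intro hy
      refine ⟨g⁻¹ * y * g, hy, ?_⟩
      simp [MulAut.conj_apply]; group
  have hUM' : U ≤ M' := fun u hu => (hmem' u).2 (hfix u hu)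
  rcases D.overgroup_dichotomy hUM' with ⟨s₀, hs₀, hle⟩ | ⟨L, hLn, hUL, hLM'⟩
  · exfalso
    obtain ⟨Q, hQne, hQU, hQn⟩ := hrad s₀ hs₀
    let Q' : Subgroup G := Q.map (MulAut.conj g⁻¹).toMonoidHom
    have hmemQ' : ∀ y : G, y ∈ Q' ↔ g * y * g⁻¹ ∈ Q := by
      intro y
      constructor
      · rintro ⟨q, hq, rfl⟩
        have e : g * ((MulAut.conj g⁻¹).toMonoidHom q) * g⁻¹ = q := by
          simp [MulAut.conj_apply]; group
        rw [e]; exact hq
      · intro hy
        refine ⟨g * y * g⁻¹, hy, ?_⟩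
        simp [MulAut.conj_apply]; group
    have hQ'p : IsPGroup p Q' := (hU.to_le hQU).map _
    have hQ'M : Q' ≤ M := by
      intro y hy
      have h1 := hfix _ (hQU ((hmemQ' y).1 hy))
      have e : g⁻¹ * (g * y * g⁻¹) * g = y := by group
      rwa [e] at h1
    have hQ'n : M ≤ Subgroup.normalizer (Q' : Set G) := by
      intro m hm
      have hm' : g * m * g⁻¹ ∈ M' := by
        rw [hmem']
        have e : g⁻¹ * (g * m * g⁻¹) * g = m := by group
        rw [e]; exact hm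
      have hn := hQn (hle hm')
      rw [Subgroup.mem_normalizer_iff] at hn ⊢
      intro y
      rw [hmemQ', hmemQ', hn (g * y * g⁻¹)]
      have e : g * m * g⁻¹ * (g * y * g⁻¹) * (g * m * g⁻¹)⁻¹ = g * (m * y * m⁻¹) * g⁻¹ := by group
      rw [e]
    have h0 := hcore Q' hQ'p hQ'M hQ'n
    apply hQne
    rw [eq_bot_iff]
    intro q hq
    have : g⁻¹ * q * g ∈ Q' := by
      rw [hmemQ']
      have e : g * (g⁻¹ * q * g) * g⁻¹ = q := by group
      rw [e]; exact hq
    rw [h0, Subgroup.mem_bot] at this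
    rw [Subgroup.mem_bot]
    have e : q = g * (g⁻¹ * q * g) * g⁻¹ := by group
    rw [e, this]; group
  · have hLM : L ≤ M := by
      intro y hy
      have h1 : g * y * g⁻¹ ∈ L := hLn.conj_mem y hy g
      have h2 := (hmem' _).1 (hLM' h1)
      have e : g⁻¹ * (g * y * g⁻¹) * g = y := by group
      rwa [e] at h2
    rw [eq_top_iff, ← hnc L hLn hUL]
    exact sup_le hLM hZM

/-- `G` simple with a split (B,N)-pair, `U` a nontrivial `p`-group, every maximal parabolic normalises a nontrivial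
subgroup of `U` ⟹ `OverSylA p G` -/
theorem Split.overSylA_of_simple [IsSimpleGroup G] (hU : IsPGroup p U) (hUne : U ≠ ⊥)
    (hrad : ∀ s₀ ∈ P.S, ∃ Q : Subgroup G, Q ≠ ⊥ ∧ Q ≤ U ∧
      P.parabolic (P.S \ {s₀}) ≤ Subgroup.normalizer (Q : Set G)) : OverSylA p G := by
  intro M hcore hidx
  refine D.eq_top_of_core p hU hrad ⊥ ?_ M bot_le hcore hidx
  intro L hLn hUL
  rw [sup_bot_eq]
  rcases hLn.eq_bot_or_eq_top with h | h
  · exfalso; apply hUne; rw [eq_bot_iff, ← h]; exact hUL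
  · exact h

omit D [Finite G] in
theorem eq_one_of_center_pow {p : ℕ} (hZ : ∀ z ∈ Subgroup.center G, z ^ p = 1 → z = 1) :
    ∀ k : ℕ, ∀ z ∈ Subgroup.center G, z ^ (p ^ k) = 1 → z = 1 := by
  intro k
  induction k with
  | zero => intro z _ h; simpa using h
  | succ k ih =>
    intro z hz h
    have h1 : (z ^ p) ^ (p ^ k) = 1 := by rw [← pow_mul, ← pow_succ']; exact h
    have h2 := ih (z ^ p) ((Subgroup.center G).pow_mem hz p) h1
    exact hZ z hz h2

omit D [Finite G] in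
theorem eq_bot_of_le_center {p : ℕ} (hZ : ∀ z ∈ Subgroup.center G, z ^ p = 1 → z = 1) {Q : Subgroup G}
    (hQ : IsPGroup p Q) (hle : Q ≤ Subgroup.center G) : Q = ⊥ := by
  rw [eq_bot_iff]
  intro q hq
  obtain ⟨k, hk⟩ := hQ ⟨q, hq⟩
  have hk' : q ^ (p ^ k) = 1 := by
    have := congrArg Subtype.val hk
    simpa using this
  rw [Subgroup.mem_bot]
  exact eq_one_of_center_pow hZ k q (hle hq) hk'

/-- `G ⧸ Z(G)` simple, `Z(G)` without `p`-torsion, `G` with a split (B,N)-pair, `U` a nontrivial `p`-group, every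
maximal parabolic normalises a nontrivial subgroup of `U` ⟹ `OverSylA p (G ⧸ Z(G))` -/
theorem Split.overSylA_center_quot (hU : IsPGroup p U) (hUne : U ≠ ⊥)
    (hrad : ∀ s₀ ∈ P.S, ∃ Q : Subgroup G, Q ≠ ⊥ ∧ Q ≤ U ∧
      P.parabolic (P.S \ {s₀}) ≤ Subgroup.normalizer (Q : Set G))
    (hZ : ∀ z ∈ Subgroup.center G, z ^ p = 1 → z = 1)
    (hs : IsSimpleGroup (G ⧸ Subgroup.center G)) : OverSylA p (G ⧸ Subgroup.center G) := by
  intro Mb hcore hidx
  let π : G →* G ⧸ Subgroup.center G := QuotientGroup.mk' (Subgroup.center G)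
  have hπ : Function.Surjective π := QuotientGroup.mk'_surjective _
  have hker : π.ker = Subgroup.center G := QuotientGroup.ker_mk' _
  have hM : Mb.comap π = ⊤ := by
    refine D.eq_top_of_core p hU hrad (Subgroup.center G) ?_ (Mb.comap π) ?_ ?_ ?_
    · intro L hLn hUL
      have hLn' : (L.map π).Normal := hLn.map π hπ
      rcases hLn'.eq_bot_or_eq_top with h | h
      · exfalso
        apply hUne
        apply eq_bot_of_le_center hZ hU
        rw [← hker]
        exact hUL.trans ((Subgroup.map_eq_bot_iff L).1 h)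
      · have := Subgroup.comap_map_eq π L
        rw [h, Subgroup.comap_top, hker] at this
        exact this.symm
    · exact hker.symm.le.trans (MonoidHom.ker_le_comap π Mb)
    · intro Q hQ hQM hn
      have hQ' : IsPGroup p (Q.map π) := hQ.map _
      have hle : Q.map π ≤ Mb := by
        rintro _ ⟨q, hq, rfl⟩
        exact hQM hq
      have hn' : Mb ≤ Subgroup.normalizer ((Q.map π : Subgroup (G ⧸ Subgroup.center G)) :
          Set (G ⧸ Subgroup.center G)) := by
        intro m' hm'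
        obtain ⟨m, rfl⟩ := hπ m'
        have hmn := hn (show m ∈ Mb.comap π from hm')
        rw [Subgroup.mem_normalizer_iff] at hmn
        rw [Subgroup.mem_normalizer_iff'']
        intro x'
        constructor
        · rintro ⟨q, hq, rfl⟩
          refine ⟨m⁻¹ * q * m, ?_, by simp⟩
          have := (hmn (m⁻¹ * q * m)).2
          apply this
          have e : m * (m⁻¹ * q * m) * m⁻¹ = q := by group
          rw [e]; exact hq
        · rintro ⟨q, hq, hqx⟩
          refine ⟨m * q * m⁻¹, (hmn q).1 hq, ?_⟩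
          rw [map_mul, map_mul, hqx, map_inv]
          group
      have h0 := hcore _ hQ' hle hn'
      apply eq_bot_of_le_center hZ hQ
      rw [← hker]
      exact (Subgroup.map_eq_bot_iff Q).1 h0
    · rwa [Subgroup.index_comap_of_surjective _ hπ]
  rw [eq_top_iff]
  intro x' _
  obtain ⟨x, rfl⟩ := hπ x'
  have : x ∈ Mb.comap π := by rw [hM]; trivial
  exact this

end finite

end Cfsg.Agent.Lib.H27.TitsOver
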