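/-
S5637 piece T6b2 (architect helper25; this piece helper27): from all doubly incident (pure, pure) transvections
get the mixed types by the commutator rule (T3).
-/
import Cfsg.Agent.Lib.H27.TpBase

set_option autoImplicit false

namespace Cfsg.Agent.Lib.H27.Tp

open Matrix Kronecker Module
open Cfsg.Geo
open Cfsg.Agent.Lib.H29.Tensor (pt kron_pt)
open Cfsg.Agent.Lib.H28 (tvGL tvGL_mulVec)
open Cfsg.Agent.Lib.H25.Tp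

variable {F : Type*} [Field F] {a b : ℕ}

/-- the commutator step in tensor coordinates -/
theorem pure_comm_step (X : Subgroup (GL (Fin a × Fin b) F))
    (u ψ u' ψ' : Fin a → F) (z φ z' φ' : Fin b → F) (g g' : GL (Fin a × Fin b) F)
    (hgX : g ∈ X) (hg'X : g' ∈ X)
    (c : F) (hc : c = (ψ' ⬝ᵥ u) * (φ' ⬝ᵥ z)) (hc0 : c ≠ 0)
    (hg : g.val = 1 + vecMulVec (pt u z) (pt (c⁻¹ • ψ) φ))
    (hg' : g'.val = 1 + vecMulVec (pt u' z') (pt ψ' φ'))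
    (h0 : (ψ ⬝ᵥ u) * (φ ⬝ᵥ z) = 0) (h0' : (ψ' ⬝ᵥ u') * (φ' ⬝ᵥ z') = 0)
    (h1 : (ψ ⬝ᵥ u') * (φ ⬝ᵥ z') = 0) :
    ∃ k : GL (Fin a × Fin b) F, k ∈ X ∧ k.val = 1 + vecMulVec (pt u' z') (pt ψ φ) := by
  refine ⟨g' * g * g'⁻¹ * g⁻¹,
    X.mul_mem (X.mul_mem (X.mul_mem hg'X hgX) (X.inv_mem hg'X)) (X.inv_mem hgX), ?_⟩
  rw [tv_comm_val g g' _ _ _ _ hg hg', pt_dot_pt, ← hc, pt_smul_smul c hc0]
  · rw [pt_dot_pt, smul_dotProduct, smul_eq_mul, mul_assoc, h0, mul_zero]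
  · rw [pt_dot_pt, h0']
  · rw [pt_dot_pt, smul_dotProduct, smul_eq_mul, mul_assoc, h1, mul_zero]

/-- mixed type 1: `φ(z') = 0`, `ψ(u')` arbitrary -/
theorem pure_type1 (ha : 2 ≤ a) (hb : 3 ≤ b)
    (X : Subgroup (GL (Fin a × Fin b) F))
    (h : ∀ (u ψ : Fin a → F) (z φ : Fin b → F), ψ ⬝ᵥ u = 0 → φ ⬝ᵥ z = 0 →
      ∃ k : GL (Fin a × Fin b) F, k ∈ X ∧ k.val = 1 + vecMulVec (pt u z) (pt ψ φ))
    (u' ψ : Fin a → F) (z' φ : Fin b → F) (hφz : φ ⬝ᵥ z' = 0) :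
    ∃ k : GL (Fin a × Fin b) F, k ∈ X ∧ k.val = 1 + vecMulVec (pt u' z') (pt ψ φ) := by
  by_cases hψu : ψ ⬝ᵥ u' = 0
  · exact h u' ψ z' φ hψu hφz
  by_cases hz' : z' = 0
  · refine ⟨1, X.one_mem, ?_⟩
    rw [hz', pt_zero_right]
    ext i j; simp [vecMulVec_apply]
  obtain ⟨j, hj⟩ := exists_coord_ne_zero hz'
  obtain ⟨z, hz0, hz1, hz2⟩ := exists_ne_zero_dot_dot hb φ (Pi.single j 1)
  have hzj : z j = 0 := by simpa using hz2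
  have hznm : ∀ c : F, z ≠ c • z' := by
    intro c hcz
    have h1 : c * z' j = 0 := by
      have := congrFun hcz j
      rw [hzj] at this
      simpa using this.symm
    rcases mul_eq_zero.mp h1 with h2 | h2
    · apply hz0; rw [hcz, h2, zero_smul]
    · exact hj h2
  obtain ⟨φ', hφ'1, hφ'2⟩ := exists_dot_sep z z' hznm
  obtain ⟨u, hu0, hu1⟩ := exists_ne_zero_dot ha ψ
  have hunm : ∀ c : F, u ≠ c • u' := by
    intro c hcu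
    have h1 : c * (ψ ⬝ᵥ u') = 0 := by
      rw [← smul_eq_mul, ← dotProduct_smul, ← hcu]; exact hu1
    rcases mul_eq_zero.mp h1 with h2 | h2
    · apply hu0; rw [hcu, h2, zero_smul]
    · exact hψu h2
  obtain ⟨ψ', hψ'1, hψ'2⟩ := exists_dot_sep u u' hunm
  set c : F := (ψ' ⬝ᵥ u) * (φ' ⬝ᵥ z) with hc
  have hc0 : c ≠ 0 := mul_ne_zero hψ'2 hφ'2
  obtain ⟨g, hgX, hg⟩ := h u (c⁻¹ • ψ) z φ (by rw [smul_dotProduct, hu1, smul_zero]) hz1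
  obtain ⟨g', hg'X, hg'⟩ := h u' ψ' z' φ' hψ'1 hφ'1
  exact pure_comm_step X u ψ u' ψ' z φ z' φ' g g' hgX hg'X c hc hc0 hg hg'
    (by rw [hz1, mul_zero]) (by rw [hψ'1, zero_mul]) (by rw [hφz, mul_zero])

/-- mixed type 2: `ψ(u') = 0`, `φ(z')` arbitrary -/
theorem pure_type2 (ha : 2 ≤ a) (hb : 3 ≤ b)
    (X : Subgroup (GL (Fin a × Fin b) F))
    (h : ∀ (u ψ : Fin a → F) (z φ : Fin b → F), ψ ⬝ᵥ u = 0 → φ ⬝ᵥ z = 0 →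
      ∃ k : GL (Fin a × Fin b) F, k ∈ X ∧ k.val = 1 + vecMulVec (pt u z) (pt ψ φ))
    (u' ψ : Fin a → F) (z' φ : Fin b → F) (hψu : ψ ⬝ᵥ u' = 0) :
    ∃ k : GL (Fin a × Fin b) F, k ∈ X ∧ k.val = 1 + vecMulVec (pt u' z') (pt ψ φ) := by
  by_cases hφz : φ ⬝ᵥ z' = 0
  · exact pure_type1 ha hb X h u' ψ z' φ hφz
  -- `φ' ≠ 0` with `φ'·z' = 0`
  obtain ⟨φ', hφ'0, hφ'1⟩ := exists_ne_zero_dot (by omega : 2 ≤ b) z'
  rw [dotProduct_comm] at hφ'1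
  obtain ⟨j, hj⟩ := exists_coord_ne_zero hφ'0
  set y : Fin b → F := Pi.single j 1 with hy
  set z : Fin b → F := y - ((φ ⬝ᵥ y) / (φ ⬝ᵥ z')) • z' with hz
  have hz1 : φ ⬝ᵥ z = 0 := by
    rw [hz, dotProduct_sub, dotProduct_smul, smul_eq_mul, div_mul_cancel₀ _ hφz, sub_self]
  have hz2 : φ' ⬝ᵥ z ≠ 0 := by
    rw [hz, dotProduct_sub, dotProduct_smul, hφ'1, smul_zero, sub_zero, hy]
    simpa using hj
  set i₀ : Fin a := ⟨0, by omega⟩ with hi₀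
  set u : Fin a → F := Pi.single i₀ 1 with hu
  have huu : u ⬝ᵥ u ≠ 0 := by
    rw [hu]; simp
  set c : F := (u ⬝ᵥ u) * (φ' ⬝ᵥ z) with hc
  have hc0 : c ≠ 0 := mul_ne_zero huu hz2
  obtain ⟨g, hgX, hg⟩ := pure_type1 ha hb X h u (c⁻¹ • ψ) z φ hz1
  obtain ⟨g', hg'X, hg'⟩ := pure_type1 ha hb X h u' u z' φ' hφ'1
  exact pure_comm_step X u ψ u' u z φ z' φ' g g' hgX hg'X c hc hc0 hg hg'
    (by rw [hz1, mul_zero]) (by rw [hφ'1, mul_zero]) (by rw [hψu, zero_mul])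

/-- **T6b2.** -/
theorem all_pure_of_incident (ha : 2 ≤ a) (hb : 3 ≤ b)
    (X : Subgroup (GL (Fin a × Fin b) F))
    (h : ∀ (u ψ : Fin a → F) (z φ : Fin b → F), ψ ⬝ᵥ u = 0 → φ ⬝ᵥ z = 0 →
      ∃ k : GL (Fin a × Fin b) F, k ∈ X ∧ k.val = 1 + vecMulVec (pt u z) (pt ψ φ))
    (u ψ : Fin a → F) (z φ : Fin b → F) (h0 : (ψ ⬝ᵥ u) * (φ ⬝ᵥ z) = 0) :
    ∃ k : GL (Fin a × Fin b) F, k ∈ X ∧ k.val = 1 + vecMulVec (pt u z) (pt ψ φ) := by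
  rcases mul_eq_zero.mp h0 with h1 | h1
  · exact pure_type2 ha hb X h u ψ z φ h1
  · exact pure_type1 ha hb X h u ψ z φ h1

end Cfsg.Agent.Lib.H27.Tp
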