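import Cfsg.Agent.Lib.H27.U35G
import Cfsg.Agent.Lib.H2.Unitary6

/-!
# `PSU₃(5)` is isomorphic to the permutation group generated by the two generator permutations,
which has order `126000`
-/

set_option autoImplicit false

namespace Cfsg.Agent.Lib.H27.U35

open Matrix hiding SpecialLinearGroup
open Matrix (SpecialLinearGroup)
open Cfsg.Agent.Lib.H27.LatW Cfsg.Agent.Lib.H27.PermW

theorem card_K25' : Fintype.card K25 = 5 ^ 2 := by rw [card_K25]; rfl

theorem card_SUc : Nat.card (Cfsg.SU 3 K25 5) = 378000 := by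
  have h := Cfsg.Agent.Lib.H2.Unitary.card_SU_mul (F := K25) (q := 5) (n := 3) card_K25'
    (by norm_num)
  have h2 : Cfsg.Agent.Lib.H2.Unitary.ordGU 5 3 = 2268000 := by
    unfold Cfsg.Agent.Lib.H2.Unitary.ordGU
    decide
  rw [h2] at h
  omega

theorem card_centerc : Nat.card (Subgroup.center (Cfsg.SU 3 K25 5)) = 3 := by
  rw [Cfsg.Agent.Lib.H2.Unitary.card_center_SU (F := K25) (q := 5) (n := 3) card_K25'
    (by norm_num)]
  rfl

theorem center_le_ker : Subgroup.center (Cfsg.SU 3 K25 5) ≤ rho.ker := by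
  intro z hz
  obtain ⟨l, h1, h2, rfl⟩ := Cfsg.Agent.Lib.H2.Unitary.center_scalar (F := K25) (q := 5) (n := 3)
    card_K25' (by norm_num) z hz
  rw [MonoidHom.mem_ker]
  exact rho_of_scalar l.ne_zero (Cfsg.Agent.Lib.H2.Unitary.scSU_val l h1 h2)

/-- the induced homomorphism on `PSU₃(5)` -/
noncomputable def rhoBar : Cfsg.PSU 3 K25 5 →* Equiv.Perm (Fin 126) :=
  QuotientGroup.lift (Subgroup.center (Cfsg.SU 3 K25 5)) rho center_le_ker

theorem card_PSUc : Nat.card (Cfsg.PSU 3 K25 5) = 126000 := by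
  have h := Subgroup.card_eq_card_quotient_mul_card_subgroup (Subgroup.center (Cfsg.SU 3 K25 5))
  rw [card_SUc, card_centerc] at h
  show Nat.card (Cfsg.SU 3 K25 5 ⧸ Subgroup.center (Cfsg.SU 3 K25 5)) = 126000
  omega

theorem G_le_range : pd.G ≤ rhoBar.range := by
  unfold PD.G
  rw [Subgroup.closure_le]
  intro σ hσ
  rcases hσ with rfl | rfl
  · exact ⟨QuotientGroup.mk gX, by rw [← rho_gX]; rfl⟩
  · exact ⟨QuotientGroup.mk gA, by rw [← rho_gA]; rfl⟩

theorem card_G_ge : 126000 ≤ Nat.card pd.G :=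
  pd.card_G_ge I3L_nodup I3L_length chain_ok

theorem card_range_le : Nat.card rhoBar.range ≤ 126000 := by
  rw [← card_PSUc]
  exact Nat.card_le_card_of_surjective _ rhoBar.rangeRestrict_surjective

theorem G_eq_range : pd.G = rhoBar.range := by
  apply Subgroup.eq_of_le_of_card_ge G_le_range
  exact card_range_le.trans card_G_ge

theorem card_G : Nat.card pd.G = 126000 := by
  apply le_antisymm
  · rw [G_eq_range]; exact card_range_le
  · exact card_G_ge

theorem rhoBar_injective : Function.Injective rhoBar := by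
  have hfin : Finite (Cfsg.PSU 3 K25 5) := Nat.finite_of_card_ne_zero (by rw [card_PSUc]; norm_num)
  have hs : Function.Surjective rhoBar.rangeRestrict := rhoBar.rangeRestrict_surjective
  have hb : Function.Bijective rhoBar.rangeRestrict := by
    rw [Nat.bijective_iff_surjective_and_card]
    refine ⟨hs, ?_⟩
    rw [card_PSUc, ← G_eq_range, card_G]
  intro a b hab
  apply hb.1
  exact Subtype.ext hab

/-- `PSU₃(5) ≅ G` -/
noncomputable def isoG : Cfsg.PSU 3 K25 5 ≃* pd.G :=
  (MonoidHom.ofInjective rhoBar_injective).trans (MulEquiv.subgroupCongr G_eq_range.symm)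

/-- the base `0, 1, 6` is faithful -/
theorem faithful : ∀ y ∈ pd.G, y 0 = 0 → y 1 = 1 → y (6 : Fin 126) = 6 → y = 1 :=
  pd.faithful I3L_nodup I3L_length chain_ok card_G.le

/-- the semantic context -/
noncomputable def ctx : Ctx (Equiv.Perm (Fin 126)) := pd.ctx 6 faithful

theorem ctx_G : ctx.G = pd.G := rfl

theorem ctx_actS : ctx.actS = actS GT := rfl

theorem ctx_sig1 : ctx.sigOf 1 = 98432 := by
  show sigOf 6 1 = 98432
  unfold sigOf
  simp

end Cfsg.Agent.Lib.H27.U35
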