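import Cfsg.Agent.Lib.H27.U35K
import Cfsg.Agent.Lib.H27.U35D0

/-!
# The generators of `SU₃(5)` and their permutations
-/

set_option autoImplicit false

namespace Cfsg.Agent.Lib.H27.U35

open Matrix hiding SpecialLinearGroup
open Matrix (SpecialLinearGroup)
open Cfsg.Agent.Lib.H27.LatW Cfsg.Agent.Lib.H27.PermW

theorem mem_SU_of_dec (g : SpecialLinearGroup (Fin 3) K25)
    (h : (g : Matrix (Fin 3) (Fin 3) K25)ᵀ * (g : Matrix (Fin 3) (Fin 3) K25).map star = 1) :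
    g ∈ Cfsg.SU 3 K25 5 :=
  (Cfsg.Agent.Lib.H2.Spec.mem_SU_iff_mul (starRingEnd K25) K25_star_eq_pow g).2 h

/-- the generator `x` -/
def gX : Cfsg.SU 3 K25 5 := ⟨⟨MXm, by decide +kernel⟩, mem_SU_of_dec _ (by decide +kernel)⟩

/-- the generator `a` -/
def gA : Cfsg.SU 3 K25 5 := ⟨⟨MAm, by decide +kernel⟩, mem_SU_of_dec _ (by decide +kernel)⟩

theorem mat_gX : mat gX = MXm := rfl

theorem mat_gA : mat gA = MAm := rfl

/-- explicit matrix-vector product -/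
def mv (M : Matrix (Fin 3) (Fin 3) K25) (v : Fin 3 → K25) : Fin 3 → K25 :=
  ![M 0 0 * v 0 + M 0 1 * v 1 + M 0 2 * v 2, M 1 0 * v 0 + M 1 1 * v 1 + M 1 2 * v 2,
    M 2 0 * v 0 + M 2 1 * v 1 + M 2 2 * v 2]

theorem mulVec_eq_mv (M : Matrix (Fin 3) (Fin 3) K25) (v : Fin 3 → K25) : M *ᵥ v = mv M v := by
  funext i
  fin_cases i <;> simp [mv, Matrix.mulVec, dotProduct, Fin.sum_univ_three]

theorem genX_ok : ∀ i : Fin 126, cXL.getD i 0 ≠ 0 ∧
    (∀ k : Fin 3, mv MXm (PvN i) k = cXL.getD i 0 * PvN (lk GT 0 i) k) := by decide +kernel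

theorem genA_ok : ∀ i : Fin 126, cAL.getD i 0 ≠ 0 ∧
    (∀ k : Fin 3, mv MAm (PvN i) k = cAL.getD i 0 * PvN (lk GT 6 i) k) := by decide +kernel

theorem rho_eq_bp {g : Cfsg.SU 3 K25 5} {M : Matrix (Fin 3) (Fin 3) K25} (hM : mat g = M)
    {cL : List K25} {d : Nat} (hd : d < 31)
    (h : ∀ i : Fin 126, cL.getD i 0 ≠ 0 ∧
      (∀ k : Fin 3, mv M (PvN i) k = cL.getD i 0 * PvN (lk GT d i) k)) : rho g = pd.bp d := by
  ext i
  rw [rho_apply]
  congr 1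
  apply actF_eq
  refine ⟨cL.getD i 0, (h i).1, ?_⟩
  rw [hM, mulVec_eq_mv]
  funext k
  have : ((pd.bp d i : Fin 126) : Nat) = lk GT d i := pd.bp_apply hd i
  show mv M (PvN i) k = cL.getD i 0 * PvN (pd.bp d i : Fin 126) k
  rw [(h i).2 k, this]

theorem rho_gX : rho gX = pd.bp 0 := rho_eq_bp mat_gX (by norm_num) genX_ok

theorem rho_gA : rho gA = pd.bp 6 := rho_eq_bp mat_gA (by norm_num) genA_ok

end Cfsg.Agent.Lib.H27.U35
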