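import Cfsg.Agent.Lib.H27.U35HSData
import Cfsg.Agent.Lib.H27.U35B
import Cfsg.Agent.Lib.H27.ConwayOrders
import Cfsg.Agent.Lib.H27.HSInv

/-!
# The stabiliser of a Higman-Sims triple is `PSU₃(5)`
-/

set_option autoImplicit false

namespace Cfsg.Agent.Lib.H27.U35HS

open Cfsg MulAction Cfsg.Agent.Lib.H28 Cfsg.Agent.Lib.H27 Cfsg.Agent.Lib.H27.Eng
open Cfsg.Agent.Lib.H27.PermW Cfsg.Agent.Lib.H27.U35 Cfsg.Agent.Lib.H27.U35HSData
open Co3Data HSData Co3HSData

/-- the stabiliser of the standard triple -/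
def Hs : Subgroup Co0 := stabilizer Co0 U0 ⊓ stabilizer Co0 X16 ⊓ stabilizer Co0 E0

theorem mem_Hs {g : Co0} : g ∈ Hs ↔ g • U0 = U0 ∧ g • X16 = X16 ∧ g • E0 = E0 := by
  unfold Hs
  simp only [Subgroup.mem_inf, mem_stabilizer_iff, and_assoc]

theorem card_Hs : Nat.card Hs = 126000 := by
  have h := card_sub_stab (stabilizer Co0 U0 ⊓ stabilizer Co0 X16) E0 (co3Sub U0 X16 (-8)) E0_mem
    (fun g hg y hy => by
      have hg' := Subgroup.mem_inf.1 hg
      have h1 : g • U0 = U0 := hg'.1
      have h2 : g • X16 = X16 := hg'.2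
      have := smul_mem_co3Sub g hy
      rwa [h1, h2] at this)
    (fun y hy => by
      obtain ⟨g, g1, g2, g3⟩ := Co3HSData.trans_std (-8) E0 E0_mem y hy
      exact ⟨g, Subgroup.mem_inf.2 ⟨g1, g2⟩, g3⟩)
  rw [counts_and_union.1, card_stab_co3Set U0 X16 sqNorm_U0 X16_mem] at h
  exact Nat.eq_of_mul_eq_mul_right (by norm_num : 0 < 352) (h.trans (by norm_num))

/-! ## the 126 pairs -/

/-- the `i`-th listed vector -/
def yv (i : Fin 126) : V := yL.getD i []

theorem yv_mem (i : Fin 126) : yv i ∈ yL := by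
  unfold yv
  have hi : (i : ℕ) < yL.length := by rw [yL_length]; exact i.2
  rw [List.getD_eq_getElem _ _ hi]
  exact List.getElem_mem hi

theorem yv_len (i : Fin 126) : (yv i).length = 24 := (yL_ok _ (yv_mem i)).1

theorem yv_L (i : Fin 126) : toFn (yv i) ∈ leechLattice :=
  mem_of_inLeech (yL_ok _ (yv_mem i)).2.1

/-- the `i`-th vector of the lattice -/
def Yv (i : Fin 126) : leechLattice := ⟨toFn (yv i), yv_L i⟩

theorem exists_of_mem_yL {l : V} (hl : l ∈ yL) : ∃ i : Fin 126, yv i = l := by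
  obtain ⟨k, hk, rfl⟩ := List.getElem_of_mem hl
  have hk' : k < 126 := by rw [yL_length] at hk; exact hk
  refine ⟨⟨k, hk'⟩, ?_⟩
  unfold yv
  rw [List.getD_eq_getElem _ _ hk]

theorem subU_len {l : V} (hl : l.length = 24) : (subU l).length = 24 := by
  unfold subU
  rw [List.length_zipWith, hl]
  decide

theorem toFn_subU {l : V} (hl : l.length = 24) : toFn (subU l) = toFn u0 - toFn l := by
  funext p
  show nth (subU l) (gIdx p) = nth u0 (gIdx p) - nth l (gIdx p)
  have hp := gIdx_lt p
  have hu : u0.length = 24 := by decide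
  rw [nth_eq_getD, nth_eq_getD, nth_eq_getD]
  unfold subU
  rw [List.getD_eq_getElem _ _ (by rw [List.length_zipWith, hl, hu]; exact hp),
    List.getD_eq_getElem _ _ (by rw [hu]; exact hp), List.getD_eq_getElem _ _ (by rw [hl]; exact hp),
    List.getElem_zipWith]

theorem U0_val : ((U0 : leechLattice) : GolayPt → ℤ) = toFn u0 := rfl

theorem yv_inj {i j : Fin 126} (h : yv i = yv j) : i = j := by
  have hnd : yL.Nodup := (List.nodup_append.1 yL_nodup).1
  have hi : (i : ℕ) < yL.length := by rw [yL_length]; exact i.2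
  have hj : (j : ℕ) < yL.length := by rw [yL_length]; exact j.2
  unfold yv at h
  rw [List.getD_eq_getElem _ _ hi, List.getD_eq_getElem _ _ hj] at h
  exact Fin.ext ((List.Nodup.getElem_inj_iff hnd).1 h)

theorem Yv_inj {i j : Fin 126} (h : Yv i = Yv j) : i = j := by
  have h1 : toFn (yv i) = toFn (yv j) := congrArg Subtype.val h
  exact yv_inj (eq_of_toFn_eq (yv_len i) (yv_len j) h1)

theorem Yv_ne_sub (i j : Fin 126) : Yv i ≠ U0 - Yv j := by
  intro h
  have h1 : toFn (yv i) = toFn u0 - toFn (yv j) := congrArg Subtype.val h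
  rw [← toFn_subU (yv_len j)] at h1
  have h2 := eq_of_toFn_eq (yv_len i) (subU_len (yv_len j)) h1
  have hdis := (List.nodup_append.1 yL_nodup).2.2
  exact hdis (yv i) (yv_mem i) (subU (yv j)) (List.mem_map.2 ⟨yv j, yv_mem j, rfl⟩) h2

/-- the vector `y` belongs to the `j`-th pair -/
def R (y : leechLattice) (j : Fin 126) : Prop := y = Yv j ∨ y = U0 - Yv j

theorem R_unique {y : leechLattice} {j j' : Fin 126} (h : R y j) (h' : R y j') : j = j' := by
  rcases h with h | h <;> rcases h' with h' | h'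
  · exact Yv_inj (h.symm.trans h')
  · exact absurd (h.symm.trans h') (Yv_ne_sub j j')
  · exact absurd (h'.symm.trans h) (Yv_ne_sub j' j)
  · have : Yv j = Yv j' := by
      have := h.symm.trans h'
      exact sub_right_injective this
    exact Yv_inj this

/-! ## the set of the 252 vectors -/

/-- the 252 vectors -/
def Om : Set leechLattice :=
  {y : leechLattice | sqNorm (y : GolayPt → ℤ) = 32 ∧
    dotInt (U0 : GolayPt → ℤ) (y : GolayPt → ℤ) = 24 ∧
    dotInt (W0 : GolayPt → ℤ) (y : GolayPt → ℤ) = -16 ∧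
    dotInt (E0 : GolayPt → ℤ) (y : GolayPt → ℤ) = -8}

theorem dotE0 (y : V) : dotInt (E0 : GolayPt → ℤ) (toFn y) = dotL eroot y :=
  (dotL_spec eroot y).symm

theorem Yv_mem_Om (i : Fin 126) : Yv i ∈ Om := by
  obtain ⟨-, -, d1, d2, d3, d4⟩ := yL_ok _ (yv_mem i)
  refine ⟨?_, ?_, ?_, ?_⟩
  · show sqNorm (toFn (yv i)) = 32
    rw [← sqNorm_spec]; exact d1
  · show dotInt (U0 : GolayPt → ℤ) (toFn (yv i)) = 24
    rw [dotU0]; exact d2
  · show dotInt (W0 : GolayPt → ℤ) (toFn (yv i)) = -16
    rw [dotW0]; exact d3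
  · show dotInt (E0 : GolayPt → ℤ) (toFn (yv i)) = -8
    rw [dotE0]; exact d4

theorem smul_W0 {g : Co0} (h1 : g • U0 = U0) (h2 : g • X16 = X16) : g • W0 = W0 := by
  rw [W0_eq, Co0_smul_sub, Co0_smul_neg, h1, h2]

theorem Om_inv {g : Co0} (hg : g ∈ Hs) {y : leechLattice} (hy : y ∈ Om) : g • y ∈ Om := by
  obtain ⟨h1, h2, h3⟩ := mem_Hs.1 hg
  have h4 := smul_W0 h1 h2
  obtain ⟨y1, y2, y3, y4⟩ := hy
  refine ⟨by rw [Co0_sqNorm]; exact y1, ?_, ?_, ?_⟩
  · have := Co0_dot g U0 y
    rw [h1] at this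
    rw [this]; exact y2
  · have := Co0_dot g W0 y
    rw [h4] at this
    rw [this]; exact y3
  · have := Co0_dot g E0 y
    rw [h3] at this
    rw [this]; exact y4

theorem Om_cover {y : leechLattice} (hy : y ∈ Om) : ∃ j : Fin 126, R y j := by
  obtain ⟨y1, y2, y3, y4⟩ := hy
  have hX : y ∈ X552 := ⟨y1, y2⟩
  obtain ⟨l, hl, rfl⟩ := orbListA.1.cover X552
    (by rw [mkL_of_mem (mem_of_inLeech x0_mem)]; exact ⟨X0_mem.1, X0_mem.2.1⟩)
    (by
      intro g hg x hx
      rw [Co3Data.fixes_iff] at hg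
      refine ⟨by rw [Co0_sqNorm]; exact hx.1, ?_⟩
      have := Co0_dot g U0 x
      rw [hg] at this
      rw [this]; exact hx.2)
    (by rw [orbListA.2.1]; norm_num)
    (by rw [orbListA.2.1]; exact ncard_X552) y hX
  have hlL := (orbListA.1.inOrb l hl).mem
  have hlen := orbListA.1.len l hl
  have hval : ((mkL l : leechLattice) : GolayPt → ℤ) = toFn l := mkL_val hlL
  have hp : p252 l = true := by
    unfold p252
    rw [Bool.and_eq_true, decide_eq_true_eq, decide_eq_true_eq]
    rw [hval, dotW0] at y3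
    rw [hval, dotE0] at y4
    exact ⟨y3, y4⟩
  rcases cover_ok l hl hp with h | h
  · obtain ⟨j, hj⟩ := exists_of_mem_yL h
    refine ⟨j, Or.inl ?_⟩
    apply Subtype.ext
    rw [hval]
    show toFn l = toFn (yv j)
    rw [hj]
  · obtain ⟨j, hj⟩ := exists_of_mem_yL h
    refine ⟨j, Or.inr ?_⟩
    apply Subtype.ext
    rw [hval]
    show toFn l = toFn u0 - toFn (yv j)
    rw [hj, toFn_subU hlen]
    abel

/-! ## the action on the pairs -/

theorem act_exists (g : Hs) (i : Fin 126) : ∃ j, R ((g : Co0) • Yv i) j :=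
  Om_cover (Om_inv g.2 (Yv_mem_Om i))

/-- the action of the stabiliser on the pairs -/
noncomputable def actP (g : Hs) (i : Fin 126) : Fin 126 := (act_exists g i).choose

theorem actP_spec (g : Hs) (i : Fin 126) : R ((g : Co0) • Yv i) (actP g i) :=
  (act_exists g i).choose_spec

theorem actP_eq {g : Hs} {i j : Fin 126} (h : R ((g : Co0) • Yv i) j) : actP g i = j :=
  R_unique (actP_spec g i) h

theorem actP_one (i : Fin 126) : actP 1 i = i := by
  apply actP_eq
  left
  show (1 : Co0) • Yv i = Yv i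
  rw [one_smul]

theorem smul_U0_sub (g : Hs) (y : leechLattice) : (g : Co0) • (U0 - y) = U0 - (g : Co0) • y := by
  rw [Co0_smul_sub, (mem_Hs.1 g.2).1]

theorem actP_mul (g h : Hs) (i : Fin 126) : actP (g * h) i = actP g (actP h i) := by
  apply actP_eq
  have e : ((g * h : Hs) : Co0) • Yv i = (g : Co0) • ((h : Co0) • Yv i) := by
    rw [Subgroup.coe_mul, mul_smul]
  rw [e]
  rcases actP_spec h i with h1 | h1 <;> rcases actP_spec g (actP h i) with h2 | h2
  · left; rw [h1, h2]
  · right; rw [h1, h2]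
  · right; rw [h1, smul_U0_sub, h2]
  · left; rw [h1, smul_U0_sub, h2]; abel

noncomputable instance actPInst : MulAction Hs (Fin 126) where
  smul := actP
  one_smul := actP_one
  mul_smul := actP_mul

/-- the permutation representation on the pairs -/
noncomputable def psi : Hs →* Equiv.Perm (Fin 126) := MulAction.toPermHom Hs (Fin 126)

theorem psi_apply (g : Hs) (i : Fin 126) : psi g i = actP g i := rfl

/-! ## the generators -/

theorem fixes3_iff (g : Co0) : Fixes g [u0, x16, eroot] ↔ g ∈ Hs := by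
  rw [mem_Hs]
  constructor
  · intro h
    exact ⟨h u0 (by simp) _, h x16 (by simp) _, h eroot (by simp) _⟩
  · rintro ⟨h1, h2, h3⟩ t ht htL
    simp only [List.mem_cons, List.not_mem_nil, or_false] at ht
    rcases ht with rfl | rfl | rfl
    · exact h1
    · exact h2
    · exact h3

theorem word_mem {w : List Gen} (hw : w ∈ [wX, wA]) : wordCo0 w ∈ Hs :=
  (fixes3_iff _).1 (fixes_of_fixOK sgXA_ok fixXA_ok hw)

/-- the two generators -/
noncomputable def hX : Hs := ⟨wordCo0 wX, word_mem (by simp)⟩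
noncomputable def hA : Hs := ⟨wordCo0 wA, word_mem (by simp)⟩

theorem psi_word {w : List Gen} (hw : w ∈ [wX, wA]) {d : ℕ} (hd : d < 31)
    (h : ∀ i : Fin 126, actWord w (yL.getD i []) = yL.getD (lk GT d i) [] ∨
      actWord w (yL.getD i []) = subU (yL.getD (lk GT d i) [])) :
    psi ⟨wordCo0 w, word_mem hw⟩ = pd.bp d := by
  ext i
  rw [psi_apply]
  congr 1
  apply actP_eq
  have hok := ok_of_sgOK sgXA_ok hw
  have hspec := actWord_spec w hok (yv i) (yv_L i)
  have hb : ((pd.bp d i : Fin 126) : ℕ) = lk GT d i := pd.bp_apply hd i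
  have hyv : yv (pd.bp d i) = yL.getD (lk GT d i) [] := by
    unfold yv
    rw [hb]
  show R (wordCo0 w • Yv i) (pd.bp d i)
  rcases h i with h1 | h1
  · left
    apply Subtype.ext
    show ((wordCo0 w • (⟨toFn (yv i), yv_L i⟩ : leechLattice) : leechLattice) : GolayPt → ℤ)
      = toFn (yv (pd.bp d i))
    rw [← hspec, hyv]
    show toFn (actWord w (yL.getD i [])) = _
    rw [h1]
  · right
    apply Subtype.ext
    show ((wordCo0 w • (⟨toFn (yv i), yv_L i⟩ : leechLattice) : leechLattice) : GolayPt → ℤ)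
      = toFn u0 - toFn (yv (pd.bp d i))
    rw [← hspec, ← toFn_subU (yv_len _), hyv]
    show toFn (actWord w (yL.getD i [])) = _
    rw [h1]

theorem psi_hX : psi hX = pd.bp 0 := psi_word (by simp) (by norm_num) actX_ok

theorem psi_hA : psi hA = pd.bp 6 := psi_word (by simp) (by norm_num) actA_ok

/-! ## the isomorphism -/

theorem G_le_range : pd.G ≤ psi.range := by
  unfold PD.G
  rw [Subgroup.closure_le]
  intro σ hσ
  rcases hσ with rfl | rfl
  · exact ⟨hX, psi_hX⟩
  · exact ⟨hA, psi_hA⟩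

instance finite_Hs : Finite Hs := Nat.finite_of_card_ne_zero (by rw [card_Hs]; norm_num)

theorem card_range_le : Nat.card psi.range ≤ 126000 := by
  rw [← card_Hs]
  exact Nat.card_le_card_of_surjective _ psi.rangeRestrict_surjective

theorem range_eq : pd.G = psi.range := by
  apply Subgroup.eq_of_le_of_card_ge G_le_range
  rw [card_G]
  exact card_range_le

theorem psi_injective : Function.Injective psi := by
  have hb : Function.Bijective psi.rangeRestrict := by
    rw [Nat.bijective_iff_surjective_and_card]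
    refine ⟨psi.rangeRestrict_surjective, ?_⟩
    rw [card_Hs, ← range_eq, card_G]
  intro a b hab
  apply hb.1
  exact Subtype.ext hab

/-- the stabiliser of the standard triple is isomorphic to the permutation group `pd.G` -/
noncomputable def isoHs : Hs ≃* pd.G :=
  (MonoidHom.ofInjective psi_injective).trans (MulEquiv.subgroupCongr range_eq.symm)

end Cfsg.Agent.Lib.H27.U35HS
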