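import Cfsg.Agent.Lib.H27.U35HS
import Cfsg.Agent.Lib.H27.StabTools

/-!
# The Higman-Sims group on 352 vectors, with stabiliser `PSU₃(5)` (general form)
-/

set_option autoImplicit false

namespace Cfsg.Agent.Lib.H27.U35HS

open Cfsg MulAction Cfsg.Agent.Lib.H28 Cfsg.Agent.Lib.H27
open Cfsg.Agent.Lib.H27.PermW Cfsg.Agent.Lib.H27.U35
open Co3Data HSData Co3HSData

section conj

variable {G α : Type*} [Group G] [MulAction G α]

/-- Conjugation by `g` carries the common stabilizer of `u, v, w` to that of their images. -/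
def conjStabEquiv₃ (g : G) (u v w : α) :
    ↥(stabilizer G u ⊓ stabilizer G v ⊓ stabilizer G w) ≃*
      ↥(stabilizer G (g • u) ⊓ stabilizer G (g • v) ⊓ stabilizer G (g • w)) where
  toFun k := ⟨g * k.1 * g⁻¹, by
    have h := Subgroup.mem_inf.1 k.2
    have h' := Subgroup.mem_inf.1 h.1
    have h1 : k.1 • u = u := h'.1
    have h2 : k.1 • v = v := h'.2
    have h3 : k.1 • w = w := h.2
    refine Subgroup.mem_inf.2 ⟨Subgroup.mem_inf.2 ⟨?_, ?_⟩, ?_⟩
    · rw [mem_stabilizer_iff, mul_smul, mul_smul, inv_smul_smul, h1]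
    · rw [mem_stabilizer_iff, mul_smul, mul_smul, inv_smul_smul, h2]
    · rw [mem_stabilizer_iff, mul_smul, mul_smul, inv_smul_smul, h3]⟩
  invFun k := ⟨g⁻¹ * k.1 * g, by
    have h := Subgroup.mem_inf.1 k.2
    have h' := Subgroup.mem_inf.1 h.1
    have h1 : k.1 • g • u = g • u := h'.1
    have h2 : k.1 • g • v = g • v := h'.2
    have h3 : k.1 • g • w = g • w := h.2
    refine Subgroup.mem_inf.2 ⟨Subgroup.mem_inf.2 ⟨?_, ?_⟩, ?_⟩
    · rw [mem_stabilizer_iff, mul_smul, mul_smul, h1, inv_smul_smul]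
    · rw [mem_stabilizer_iff, mul_smul, mul_smul, h2, inv_smul_smul]
    · rw [mem_stabilizer_iff, mul_smul, mul_smul, h3, inv_smul_smul]⟩
  left_inv k := by
    apply Subtype.ext
    show g⁻¹ * (g * k.1 * g⁻¹) * g = k.1
    group
  right_inv k := by
    apply Subtype.ext
    show g * (g⁻¹ * k.1 * g) * g⁻¹ = k.1
    group
  map_mul' a b := by
    apply Subtype.ext
    show g * (a.1 * b.1) * g⁻¹ = (g * a.1 * g⁻¹) * (g * b.1 * g⁻¹)
    group

end conj

/-- the stabiliser of any triple of the `352`-type is isomorphic to the permutation group -/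
theorem stab3_iso (u x y : leechLattice) (hu : sqNorm (u : GolayPt → ℤ) = 48)
    (hx : x ∈ co3Set u) (hy : y ∈ co3Sub u x (-8)) :
    Nonempty (↥(stabilizer Co0 u ⊓ stabilizer Co0 x ⊓ stabilizer Co0 y) ≃* pd.G) := by
  obtain ⟨h, h1, h2⟩ := exists_std_co3_pair u x hu hx
  have m := smul_mem_co3Sub h hy
  rw [h1, h2] at m
  obtain ⟨k, k1, k2, k3⟩ := Co3HSData.trans_std (-8) _ m E0 E0_mem
  have e := conjStabEquiv₃ (k * h) u x y
  have e1 : (k * h) • u = U0 := by rw [mul_smul, h1, k1]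
  have e2 : (k * h) • x = X16 := by rw [mul_smul, h2, k2]
  have e3 : (k * h) • y = E0 := by rw [mul_smul, k3]
  rw [e1, e2, e3] at e
  exact ⟨e.trans isoHs⟩

/-! ## bilinearity -/

theorem coe_neg_L' (y : leechLattice) :
    ((-y : leechLattice) : GolayPt → ℤ) = -(y : GolayPt → ℤ) := rfl

theorem sqNorm_neg_L' (y : leechLattice) :
    sqNorm ((-y : leechLattice) : GolayPt → ℤ) = sqNorm (y : GolayPt → ℤ) := by
  rw [coe_neg_L', sqNorm_neg']

theorem dot_add_r (a b c : GolayPt → ℤ) : dotInt a (b + c) = dotInt a b + dotInt a c := by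
  unfold dotInt
  rw [← Finset.sum_add_distrib]
  apply Finset.sum_congr rfl
  intro i _
  rw [Pi.add_apply]
  ring

/-- the set of the `352` vectors attached to a Higman-Sims pair -/
def T352 (v w : leechLattice) : Set leechLattice :=
  {x : leechLattice | sqNorm (x : GolayPt → ℤ) = 32 ∧
    dotInt (v : GolayPt → ℤ) (x : GolayPt → ℤ) = 16 ∧
    dotInt (w : GolayPt → ℤ) (x : GolayPt → ℤ) = -24}

theorem dot_X (v w x : leechLattice) :
    dotInt ((-(v + w) : leechLattice) : GolayPt → ℤ) ((-x : leechLattice) : GolayPt → ℤ) =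
      dotInt (v : GolayPt → ℤ) (x : GolayPt → ℤ) + dotInt (w : GolayPt → ℤ) (x : GolayPt → ℤ) := by
  rw [coe_neg_L', coe_neg_L', dotInt_neg_left, dotInt_neg_right, neg_neg, AddSubgroup.coe_add,
    dotInt_comm, dot_add_r, dotInt_comm, dotInt_comm (x : GolayPt → ℤ)]

theorem mem_T352_iff (v w x : leechLattice) :
    x ∈ T352 v w ↔ -x ∈ co3Sub v (-(v + w)) (-8) := by
  unfold T352 co3Sub co3Set
  simp only [Set.mem_ofPred_eq]
  rw [dot_X, sqNorm_neg_L', coe_neg_L', dotInt_neg_right]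
  constructor
  · rintro ⟨h1, h2, h3⟩
    exact ⟨⟨h1, by omega⟩, by omega⟩
  · rintro ⟨⟨h1, h2⟩, h3⟩
    exact ⟨h1, by omega, by omega⟩

theorem T352_eq_image (v w : leechLattice) :
    T352 v w = (fun y : leechLattice => -y) '' co3Sub v (-(v + w)) (-8) := by
  ext x
  rw [mem_T352_iff]
  constructor
  · intro h
    exact ⟨-x, h, neg_neg x⟩
  · rintro ⟨y, hy, rfl⟩
    rw [neg_neg]; exact hy

theorem hs352 (v w : leechLattice) (hv : sqNorm (v : GolayPt → ℤ) = 48)
    (hw : sqNorm (w : GolayPt → ℤ) = 48)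
    (hvw : dotInt (v : GolayPt → ℤ) (w : GolayPt → ℤ) = -32) :
    (T352 v w).ncard = 352 ∧ (∀ x ∈ T352 v w, -w - x ∈ T352 v w) ∧
    (∀ x ∈ T352 v w, ∀ x' ∈ T352 v w, ∃ g : Co0, g • v = v ∧ g • w = w ∧ g • x = x') ∧
    ∀ x ∈ T352 v w, Nonempty (↥(stabilizer Co0 v ⊓ stabilizer Co0 w ⊓ stabilizer Co0 x) ≃* pd.G) := by
  have hX := (neg_add_mem_co3Set v w hv hw hvw).1
  refine ⟨?_, ?_, ?_, ?_⟩
  · rw [T352_eq_image, Set.ncard_image_of_injective _ neg_injective]
    exact (ncard_co3Sub v _ hv hX).1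
  · rintro x ⟨h1, h2, h3⟩
    have e : (-w - x : leechLattice) = -(w + x) := by abel
    rw [e]
    refine ⟨?_, ?_, ?_⟩
    · rw [sqNorm_neg_L', AddSubgroup.coe_add, sqNorm_add', hw, h1, h3]; norm_num
    · rw [coe_neg_L', dotInt_neg_right, AddSubgroup.coe_add, dot_add_r, hvw, h2]; norm_num
    · rw [coe_neg_L', dotInt_neg_right, AddSubgroup.coe_add, dot_add_r, dotInt_self, hw, h3]; norm_num
  · intro x hx x' hx'
    rw [mem_T352_iff] at hx hx'
    obtain ⟨g, g1, g2, g3⟩ := trans_co3Sub v _ hv hX (-8) _ hx _ hx'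
    refine ⟨g, g1, ?_, ?_⟩
    · have e : w = -(-(v + w)) - v := by abel
      rw [e, Co0_smul_sub, Co0_smul_neg, g2, g1]
    · rw [Co0_smul_neg] at g3
      exact neg_injective g3
  · intro x hx
    rw [mem_T352_iff] at hx
    have hs : stabilizer Co0 v ⊓ stabilizer Co0 w ⊓ stabilizer Co0 x =
        stabilizer Co0 v ⊓ stabilizer Co0 (-(v + w)) ⊓ stabilizer Co0 (-x) := by
      rw [stab_pair48_eq v w]
      congr 1
      ext g
      simp only [mem_stabilizer_iff]
      rw [Co0_smul_neg]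
      exact ⟨fun h => by rw [h], fun h => neg_injective h⟩
    rw [hs]
    exact stab3_iso v _ _ hv hX hx

/-! ## transport to an arbitrary field with 25 elements -/

theorem center_map_mulEquiv' {A B : Type*} [Group A] [Group B] (e : A ≃* B) :
    (Subgroup.center A).map e.toMonoidHom = Subgroup.center B := by
  ext x
  rw [Subgroup.mem_map, Subgroup.mem_center_iff]
  constructor
  · rintro ⟨a, ha, rfl⟩ g
    obtain ⟨b, rfl⟩ := e.surjective g
    have := Subgroup.mem_center_iff.1 ha b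
    show e b * e a = e a * e b
    rw [← map_mul, ← map_mul, this]
  · intro hx
    refine ⟨e.symm x, ?_, e.apply_symm_apply x⟩
    rw [Subgroup.mem_center_iff]
    intro g
    apply e.injective
    rw [map_mul, map_mul, e.apply_symm_apply]
    exact hx (e g)

open Cfsg.Agent.Lib.H2.Spec in
theorem psu35_iso {F : Type*} [Field F] [Fintype F] (hF : Fintype.card F = 25) :
    Nonempty (Cfsg.PSU 3 F 5 ≃* pd.G) := by
  have e : F ≃+* K25 := FiniteField.ringEquivOfCardEq (hF.trans card_K25.symm)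
  have E : Cfsg.SU 3 F 5 ≃* Cfsg.SU 3 K25 5 := suEquiv e 3 5
  have E' : Cfsg.PSU 3 F 5 ≃* Cfsg.PSU 3 K25 5 :=
    QuotientGroup.congr _ _ E (center_map_mulEquiv' E)
  exact ⟨E'.trans isoG⟩

theorem hs352_psu (v w : leechLattice) (hv : sqNorm (v : GolayPt → ℤ) = 48)
    (hw : sqNorm (w : GolayPt → ℤ) = 48)
    (hvw : dotInt (v : GolayPt → ℤ) (w : GolayPt → ℤ) = -32)
    {F : Type*} [Field F] [Fintype F] (hF : Fintype.card F = 25) :
    (T352 v w).ncard = 352 ∧ (∀ x ∈ T352 v w, -w - x ∈ T352 v w) ∧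
    (∀ x ∈ T352 v w, ∀ x' ∈ T352 v w, ∃ g : Co0, g • v = v ∧ g • w = w ∧ g • x = x') ∧
    ∀ x ∈ T352 v w,
      Nonempty (↥(stabilizer Co0 v ⊓ stabilizer Co0 w ⊓ stabilizer Co0 x) ≃* Cfsg.PSU 3 F 5) := by
  obtain ⟨h1, h2, h3, h4⟩ := hs352 v w hv hw hvw
  obtain ⟨φ⟩ := psu35_iso hF
  exact ⟨h1, h2, h3, fun x hx => by
    obtain ⟨ψ⟩ := h4 x hx
    exact ⟨ψ.trans φ.symm⟩⟩

end Cfsg.Agent.Lib.H27.U35HS
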