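import Cfsg.Agent.Lib.H27.Co3HS
import Cfsg.Agent.Lib.H27.U35D0

/-!
# Data for the identification of the stabiliser of a Higman-Sims triple with `PSU₃(5)`

The 126 pairs `{y, u₀ - y}` (one vector `y` of each pair is listed, in the order of the 126
isotropic points of `Lib/H27/U35K`), and two words of the stabiliser acting on the pairs as the
generators of `Lib/H27/U35D0`.  Generated by `scripts/hs35/emit_hs.py`.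
-/

set_option autoImplicit false
set_option maxRecDepth 1000000

namespace Cfsg.Agent.Lib.H27.U35HSData

open Cfsg.Agent.Lib.H27.Eng Cfsg.Agent.Lib.H27.PermW Cfsg.Agent.Lib.H27.U35
open Cfsg.Agent.Lib.H28

def yL : List V := [
  [2, 0, 2, 2, 0, 0, 0, 2, 0, 0, 0, 2, 0, 2, 0, 2, 0, 0, 0, 0, 0, 0, 0, 2],
  [2, 0, 0, 2, 0, 0, 0, 0, 2, 0, 2, 0, 2, 0, 0, 0, 2, 0, 2, 0, 0, 2, 0, 0],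
  [3, 1, 1, -1, 1, 1, 1, 1, -1, -1, 1, -1, 1, -1, 1, 1, 1, 1, -1, -1, 1, 1, 1, 1],
  [3, 1, -1, 1, 1, 1, 1, -1, -1, 1, 1, 1, -1, 1, 1, -1, 1, 1, 1, 1, -1, -1, 1, 1],
  [2, 0, 0, 2, 2, 0, 0, 0, 0, 0, 2, 0, 0, 0, 0, 2, 2, 2, 0, 0, 0, 0, 0, 2],
  [3, 1, 1, 1, -1, 1, 1, 1, -1, -1, 1, 1, 1, 1, 1, -1, 1, -1, 1, -1, -1, 1, 1, 1],
  [2, 0, 2, 2, 0, 2, 0, 0, 0, 2, 2, 0, 0, 2, 0, 0, 2, 0, 0, 0, 0, 0, 0, 0],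
  [3, 1, 1, -1, 1, 1, -1, 1, 1, 1, 1, -1, 1, 1, 1, 1, 1, -1, -1, 1, 1, -1, 1, -1],
  [2, 0, 0, 2, 0, 0, 0, 2, 0, 0, 2, 0, 0, 2, 2, 0, 0, 2, 2, 0, 0, 0, 0, 0],
  [3, 1, -1, 1, 1, -1, -1, 1, 1, -1, 1, 1, 1, 1, 1, 1, 1, -1, 1, 1, -1, -1, 1, 1],
  [2, 0, 0, 2, 0, 2, 0, 0, 2, 0, 0, 2, 0, 0, 0, 0, 2, 0, 0, 0, 0, 0, 2, 2],
  [2, 0, 0, 0, 0, 2, 0, 2, 2, 0, 0, 0, 0, 0, 2, 0, 0, 2, 0, 0, 2, 0, 2, 0],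
  [3, 1, 1, 1, 1, -1, -1, 1, 1, -1, 1, -1, -1, 1, 1, 1, -1, 1, -1, 1, 1, 1, 1, 1],
  [3, 1, 1, -1, -1, 1, -1, -1, 1, 1, 1, 1, 1, 1, -1, 1, 1, 1, 1, 1, 1, 1, -1, -1],
  [3, 1, 1, -1, 1, 1, 1, 1, 1, 1, -1, 1, -1, -1, 1, -1, 1, 1, 1, -1, -1, 1, 1, 1],
  [3, 1, 1, 1, -1, 1, -1, 1, 1, 1, -1, 1, -1, -1, -1, 1, -1, 1, 1, 1, 1, 1, 1, 1],
  [2, 0, 0, 2, 0, 0, 0, 2, 0, 0, 0, 2, 2, 0, 0, 0, 0, 0, 2, 0, 2, 0, 2, 0],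
  [2, 0, 0, 2, 0, 2, 2, 0, 0, 2, 0, 0, 0, 0, 0, 2, 0, 0, 0, 2, 0, 0, 0, 2],
  [2, 0, 0, 0, 2, 0, 2, 0, 0, 2, 0, 2, 0, 0, 2, 0, 0, 0, 0, 2, 0, 2, 0, 0],
  [3, 1, 1, 1, 1, -1, 1, 1, 1, -1, -1, -1, 1, 1, 1, 1, 1, 1, 1, -1, -1, 1, -1, 1],
  [2, 0, 2, 0, 0, 0, 2, 2, 0, 0, 0, 2, 2, 0, 2, 0, 0, 2, 0, 0, 0, 0, 0, 0],
  [2, 0, 0, 0, 0, 0, 0, 2, 0, 2, 2, 0, 2, 0, 0, 0, 2, 2, 0, 0, 2, 0, 0, 0],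
  [3, 1, -1, 1, 1, -1, 1, 1, 1, 1, 1, -1, 1, -1, 1, 1, 1, -1, -1, 1, 1, 1, -1, 1],
  [3, 1, 1, 1, -1, 1, 1, 1, 1, -1, 1, 1, 1, -1, 1, 1, -1, -1, -1, 1, 1, -1, 1, 1],
  [2, 0, 0, 2, 0, 2, 0, 2, 0, 0, 0, 0, 2, 0, 2, 2, 2, 0, 0, 0, 0, 0, 0, 0],
  [3, 1, 1, 1, 1, 1, -1, -1, 1, 1, -1, 1, -1, 1, 1, -1, 1, 1, -1, 1, 1, 1, 1, -1],
  [2, 0, 0, 2, 2, 0, 0, 0, 0, 2, 0, 0, 2, 0, 0, 0, 2, 0, 0, 2, 0, 0, 2, 0],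
  [2, 0, 0, 0, 0, 0, 2, 0, 0, 0, 0, 2, 2, 2, 0, 0, 0, 0, 0, 2, 0, 0, 2, 2],
  [2, 0, 0, 2, 0, 2, 2, 0, 0, 0, 0, 2, 0, 2, 2, 0, 0, 0, 0, 0, 2, 0, 0, 0],
  [2, 0, 0, 2, 2, 0, 2, 0, 0, 2, 2, 0, 0, 0, 0, 0, 0, 0, 2, 0, 2, 0, 0, 0],
  [2, 0, 0, 0, 0, 0, 0, 2, 0, 0, 2, 0, 2, 0, 2, 0, 0, 0, 0, 2, 0, 2, 2, 0],
  [2, 0, 0, 0, 0, 0, 0, 2, 2, 0, 0, 0, 0, 2, 0, 0, 0, 0, 2, 0, 0, 2, 2, 2],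
  [3, 1, 1, 1, 1, 1, -1, -1, -1, -1, 1, -1, 1, 1, 1, 1, 1, 1, 1, 1, -1, 1, 1, -1],
  [3, 1, -1, 1, -1, 1, 1, 1, -1, 1, -1, 1, 1, -1, 1, -1, 1, 1, -1, 1, 1, 1, 1, 1],
  [3, 1, -1, 1, 1, 1, -1, 1, -1, -1, -1, 1, -1, 1, 1, 1, 1, 1, 1, -1, 1, 1, 1, 1],
  [2, 0, 0, 0, 2, 0, 0, 2, 0, 0, 2, 2, 0, 0, 2, 2, 0, 0, 0, 0, 2, 0, 0, 0],
  [3, 1, -1, -1, -1, -1, 1, 1, 1, 1, 1, 1, 1, 1, 1, -1, 1, 1, 1, 1, -1, 1, -1, 1],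
  [2, 0, 2, 0, 2, 0, 2, 0, 0, 0, 0, 0, 2, 0, 0, 0, 0, 0, 2, 0, 0, 2, 2, 0],
  [2, 0, 2, 2, 0, 0, 0, 0, 2, 0, 2, 2, 0, 0, 0, 0, 0, 2, 0, 0, 2, 0, 0, 0],
  [2, 0, 2, 0, 0, 0, 0, 2, 0, 2, 2, 2, 0, 0, 0, 0, 0, 0, 2, 0, 0, 2, 0, 0],
  [2, 0, 0, 0, 0, 0, 2, 0, 2, 0, 0, 0, 2, 2, 0, 0, 0, 2, 2, 0, 2, 0, 0, 0],
  [3, 1, 1, 1, 1, -1, 1, -1, 1, -1, 1, 1, 1, -1, 1, -1, 1, 1, -1, 1, -1, 1, 1, 1],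
  [2, 0, 0, 0, 2, 2, 2, 2, 0, 0, 0, 0, 2, 0, 0, 0, 0, 0, 0, 2, 2, 0, 0, 0],
  [3, 1, 1, 1, -1, 1, 1, -1, -1, -1, 1, 1, -1, 1, -1, 1, 1, 1, -1, 1, 1, 1, 1, 1],
  [2, 0, 0, 0, 0, 0, 0, 2, 2, 0, 0, 2, 0, 0, 0, 2, 2, 2, 2, 0, 0, 0, 0, 0],
  [2, 0, 0, 0, 0, 2, 0, 0, 0, 0, 0, 2, 2, 0, 0, 2, 0, 2, 0, 0, 2, 0, 0, 2],
  [3, 1, 1, 1, 1, -1, -1, 1, -1, 1, 1, 1, -1, 1, -1, 1, 1, 1, 1, 1, 1, -1, 1, -1],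
  [2, 0, 2, 0, 2, 0, 0, 0, 0, 2, 0, 2, 2, 2, 0, 0, 0, 0, 0, 0, 2, 0, 0, 0],
  [3, 1, -1, 1, 1, 1, -1, 1, -1, 1, 1, -1, 1, -1, 1, 1, -1, 1, 1, 1, 1, -1, 1, 1],
  [2, 0, 0, 0, 0, 0, 2, 0, 0, 2, 2, 0, 0, 0, 0, 0, 2, 0, 0, 0, 0, 2, 2, 2],
  [3, 1, 1, -1, 1, 1, 1, 1, 1, 1, 1, -1, 1, 1, -1, -1, 1, -1, 1, -1, 1, 1, -1, 1],
  [2, 0, 0, 0, 2, 2, 0, 0, 0, 0, 0, 0, 0, 0, 0, 0, 0, 2, 0, 2, 0, 2, 2, 2],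
  [2, 0, 0, 0, 2, 2, 0, 0, 2, 0, 0, 2, 0, 0, 0, 0, 0, 0, 2, 0, 2, 2, 0, 0],
  [3, 1, 1, 1, 1, 1, -1, 1, -1, 1, -1, -1, 1, 1, -1, 1, 1, 1, -1, 1, 1, 1, -1, 1],
  [3, 1, 1, -1, 1, 1, 1, 1, 1, -1, 1, -1, 1, 1, 1, -1, -1, 1, 1, 1, -1, -1, 1, 1],
  [2, 0, 0, 2, 0, 0, 2, 2, 0, 0, 2, 2, 0, 0, 0, 0, 2, 0, 0, 2, 0, 0, 0, 0],
  [2, 0, 0, 2, 0, 0, 2, 0, 0, 0, 0, 0, 0, 2, 0, 2, 2, 0, 2, 0, 0, 0, 2, 0],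
  [2, 0, 0, 0, 0, 0, 2, 0, 0, 0, 0, 0, 2, 0, 0, 2, 2, 2, 0, 2, 0, 2, 0, 0],
  [3, 1, 1, 1, 1, -1, -1, 1, -1, 1, -1, 1, 1, 1, 1, -1, -1, 1, 1, 1, -1, 1, 1, 1],
  [2, 0, 0, 0, 0, 0, 2, 2, 0, 2, 0, 0, 0, 0, 0, 0, 0, 2, 2, 2, 0, 0, 2, 0],
  [3, 1, -1, 1, 1, 1, -1, -1, 1, 1, -1, 1, 1, -1, 1, 1, 1, 1, 1, 1, -1, 1, -1, 1],
  [2, 0, 0, 0, 0, 2, 0, 0, 2, 2, 2, 0, 0, 0, 0, 0, 0, 2, 2, 0, 0, 0, 0, 2],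
  [2, 0, 2, 0, 0, 0, 0, 0, 0, 0, 2, 0, 2, 2, 0, 0, 0, 2, 0, 0, 0, 2, 0, 2],
  [3, 1, 1, -1, -1, 1, 1, -1, 1, 1, 1, 1, 1, 1, 1, -1, 1, 1, -1, -1, 1, -1, 1, 1],
  [2, 0, 0, 0, 2, 2, 0, 2, 0, 0, 2, 0, 0, 0, 0, 0, 2, 0, 2, 0, 0, 0, 2, 0],
  [2, 0, 0, 0, 0, 2, 2, 2, 0, 0, 0, 0, 0, 2, 0, 0, 2, 2, 0, 0, 0, 0, 0, 2],
  [2, 0, 2, 2, 2, 0, 2, 0, 0, 0, 0, 0, 0, 2, 0, 0, 0, 2, 0, 2, 0, 0, 0, 0],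
  [2, 0, 0, 0, 0, 0, 0, 2, 0, 2, 0, 0, 0, 0, 2, 2, 0, 2, 0, 0, 0, 2, 0, 2],
  [2, 0, 2, 0, 2, 0, 0, 0, 0, 2, 2, 0, 0, 0, 2, 0, 0, 2, 0, 0, 0, 0, 2, 0],
  [2, 0, 0, 0, 0, 2, 0, 2, 2, 2, 0, 0, 0, 0, 0, 0, 2, 0, 0, 2, 0, 2, 0, 0],
  [3, 1, -1, -1, 1, 1, 1, 1, -1, 1, 1, 1, -1, -1, -1, 1, 1, 1, 1, 1, 1, 1, -1, 1],
  [2, 0, 0, 2, 0, 2, 0, 0, 0, 2, 0, 0, 0, 0, 2, 0, 0, 0, 2, 0, 0, 2, 2, 0],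
  [2, 0, 2, 0, 2, 0, 0, 2, 2, 0, 0, 2, 0, 0, 0, 0, 0, 0, 0, 2, 0, 0, 2, 0],
  [2, 0, 0, 0, 0, 0, 0, 0, 2, 2, 0, 0, 2, 2, 0, 2, 2, 0, 0, 0, 0, 0, 0, 2],
  [3, 1, 1, 1, -1, 1, 1, 1, 1, -1, 1, -1, 1, 1, 1, -1, 1, 1, -1, 1, 1, 1, -1, -1],
  [2, 0, 0, 2, 2, 2, 0, 0, 2, 0, 2, 0, 0, 0, 2, 0, 0, 0, 0, 2, 0, 0, 0, 0],
  [2, 0, 0, 0, 2, 0, 0, 0, 0, 0, 2, 2, 2, 0, 0, 0, 0, 2, 2, 2, 0, 0, 0, 0],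
  [2, 0, 0, 0, 0, 0, 0, 0, 0, 0, 2, 0, 0, 0, 0, 2, 0, 2, 2, 0, 2, 2, 2, 0],
  [2, 0, 0, 0, 2, 0, 0, 2, 0, 0, 0, 2, 2, 0, 0, 0, 2, 0, 0, 0, 0, 2, 0, 2],
  [2, 0, 0, 2, 0, 2, 0, 2, 0, 0, 2, 0, 0, 0, 0, 0, 0, 0, 0, 0, 2, 2, 0, 2],
  [3, 1, 1, 1, -1, 1, 1, 1, -1, 1, 1, 1, 1, 1, -1, -1, -1, 1, 1, 1, 1, -1, -1, 1],
  [2, 0, 0, 2, 2, 2, 0, 0, 0, 0, 0, 0, 2, 2, 0, 0, 0, 0, 2, 0, 0, 0, 0, 2],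
  [2, 0, 0, 0, 0, 0, 0, 0, 2, 0, 2, 0, 0, 2, 0, 0, 2, 2, 0, 2, 0, 0, 2, 0],
  [3, 1, -1, 1, 1, -1, 1, -1, 1, -1, 1, 1, -1, 1, 1, 1, 1, 1, 1, 1, 1, 1, -1, -1],
  [3, 1, 1, -1, -1, 1, 1, 1, 1, 1, 1, 1, -1, 1, -1, 1, 1, -1, 1, 1, -1, -1, 1, 1],
  [3, 1, 1, 1, 1, -1, 1, 1, 1, -1, 1, 1, -1, -1, -1, 1, 1, -1, 1, -1, 1, 1, 1, 1],
  [2, 0, 2, 2, 0, 0, 0, 2, 0, 0, 0, 0, 0, 0, 0, 0, 2, 2, 0, 0, 0, 2, 2, 0],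
  [2, 0, 0, 0, 2, 0, 0, 0, 2, 0, 2, 0, 2, 0, 0, 0, 0, 0, 0, 0, 2, 0, 2, 2],
  [3, 1, 1, 1, 1, 1, 1, 1, 1, 1, 1, -1, -1, -1, -1, -1, 1, 1, -1, 1, 1, -1, 1, 1],
  [3, 1, 1, 1, 1, -1, 1, 1, 1, 1, -1, 1, 1, -1, -1, -1, 1, 1, 1, 1, 1, 1, -1, -1],
  [3, 1, 1, -1, 1, 1, 1, 1, 1, -1, 1, 1, 1, -1, 1, 1, 1, -1, 1, 1, -1, 1, -1, -1],
  [2, 0, 2, 2, 0, 0, 0, 0, 0, 2, 0, 0, 2, 0, 0, 2, 0, 2, 2, 0, 0, 0, 0, 0],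
  [2, 0, 0, 0, 0, 0, 0, 2, 0, 0, 0, 2, 0, 2, 0, 0, 0, 2, 0, 2, 2, 2, 0, 0],
  [3, 1, -1, 1, 1, -1, 1, -1, 1, 1, -1, 1, 1, 1, 1, -1, 1, -1, 1, -1, 1, 1, 1, 1],
  [3, 1, -1, 1, 1, -1, 1, 1, -1, -1, 1, -1, 1, 1, -1, -1, 1, 1, 1, 1, 1, 1, 1, 1],
  [2, 0, 0, 2, 2, 0, 0, 2, 2, 0, 0, 0, 0, 2, 0, 0, 2, 0, 0, 0, 2, 0, 0, 0],
  [3, 1, -1, -1, 1, -1, -1, -1, -1, 1, 1, 1, 1, 1, 1, 1, 1, 1, -1, 1, 1, 1, 1, 1],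
  [3, 1, 1, 1, 1, -1, -1, 1, 1, 1, -1, 1, 1, -1, 1, 1, 1, 1, -1, -1, 1, -1, 1, 1],
  [3, 1, 1, 1, -1, -1, 1, 1, 1, 1, 1, -1, 1, -1, 1, -1, -1, 1, 1, -1, 1, 1, 1, 1],
  [2, 0, 0, 0, 0, 0, 0, 0, 2, 2, 2, 0, 0, 2, 2, 0, 0, 0, 0, 0, 2, 2, 0, 0],
  [3, 1, 1, 1, 1, 1, 1, -1, 1, -1, 1, -1, 1, -1, -1, 1, -1, 1, 1, 1, 1, 1, -1, 1],
  [3, 1, -1, 1, -1, -1, 1, 1, -1, 1, 1, 1, -1, 1, 1, 1, -1, -1, 1, 1, 1, 1, 1, 1],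
  [3, 1, -1, 1, 1, 1, 1, 1, 1, 1, -1, -1, -1, 1, 1, -1, -1, 1, 1, 1, 1, 1, -1, 1],
  [3, 1, -1, 1, -1, -1, 1, -1, 1, 1, 1, 1, 1, -1, -1, 1, 1, 1, 1, 1, 1, -1, 1, 1],
  [2, 0, 0, 2, 0, 0, 2, 0, 2, 2, 0, 0, 0, 0, 2, 0, 2, 2, 0, 0, 0, 0, 0, 0],
  [3, 1, -1, -1, 1, 1, -1, 1, 1, 1, -1, 1, 1, 1, -1, -1, 1, 1, 1, 1, 1, -1, 1, 1],
  [3, 1, 1, 1, 1, -1, 1, 1, 1, 1, 1, 1, -1, -1, 1, 1, -1, 1, 1, 1, -1, -1, -1, 1],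
  [3, 1, 1, 1, -1, 1, -1, 1, 1, 1, 1, 1, 1, -1, 1, -1, 1, 1, 1, 1, -1, -1, 1, -1],
  [3, 1, 1, 1, 1, -1, 1, 1, 1, 1, -1, -1, 1, 1, -1, 1, -1, -1, 1, 1, 1, -1, 1, 1],
  [3, 1, 1, 1, 1, -1, 1, 1, -1, 1, 1, 1, -1, 1, 1, -1, 1, 1, -1, -1, 1, 1, -1, 1],
  [3, 1, 1, 1, -1, -1, -1, 1, 1, 1, 1, 1, 1, 1, -1, -1, 1, -1, -1, 1, 1, 1, 1, 1],
  [2, 0, 0, 0, 0, 0, 0, 0, 2, 0, 2, 2, 0, 0, 0, 2, 0, 0, 0, 2, 0, 2, 0, 2],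
  [2, 0, 0, 0, 0, 0, 2, 0, 0, 2, 0, 0, 2, 0, 2, 2, 0, 0, 0, 0, 2, 0, 2, 0],
  [2, 0, 2, 2, 2, 0, 0, 0, 2, 2, 0, 0, 0, 0, 0, 0, 0, 0, 0, 0, 0, 2, 0, 2],
  [2, 0, 2, 0, 2, 0, 2, 2, 0, 2, 0, 0, 0, 0, 0, 2, 2, 0, 0, 0, 0, 0, 0, 0],
  [2, 0, 0, 2, 0, 0, 2, 0, 2, 0, 0, 0, 0, 0, 0, 0, 0, 0, 0, 2, 2, 2, 2, 0],
  [3, 1, 1, 1, -1, 1, -1, 1, 1, 1, 1, -1, 1, 1, 1, 1, -1, -1, 1, 1, -1, 1, -1, 1],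
  [2, 0, 0, 0, 2, 0, 0, 0, 2, 0, 0, 2, 0, 2, 2, 0, 0, 2, 0, 0, 0, 0, 0, 2],
  [2, 0, 0, 0, 0, 0, 2, 2, 2, 0, 0, 0, 0, 2, 2, 2, 0, 0, 0, 2, 0, 0, 0, 0],
  [3, 1, -1, -1, 1, -1, 1, 1, 1, 1, 1, -1, -1, 1, 1, 1, 1, 1, 1, -1, 1, -1, 1, 1],
  [3, 1, -1, 1, 1, 1, 1, 1, 1, -1, 1, 1, 1, -1, 1, -1, 1, 1, 1, -1, 1, -1, -1, 1],
  [2, 0, 0, 0, 2, 0, 0, 2, 0, 2, 2, 0, 0, 2, 0, 0, 0, 0, 0, 2, 0, 0, 0, 2],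
  [3, 1, -1, 1, 1, 1, -1, 1, -1, 1, 1, 1, 1, 1, 1, -1, 1, -1, 1, 1, 1, 1, -1, -1],
  [2, 0, 0, 2, 0, 0, 0, 2, 2, 0, 0, 0, 2, 0, 0, 0, 0, 2, 0, 2, 0, 0, 0, 2],
  [2, 0, 2, 0, 2, 2, 2, 0, 0, 0, 2, 2, 0, 0, 0, 0, 0, 0, 0, 0, 0, 0, 0, 2],
  [2, 0, 0, 2, 0, 0, 0, 0, 0, 2, 2, 2, 2, 0, 2, 0, 0, 0, 0, 0, 0, 0, 0, 2]]

def wX : List Gen := [Gen.mono [0, 1, 20, 12, 5, 22, 11, 3, 7, 6, 9, 10, 8, 15, 2, 13, 14, 17, 18, 23, 16, 4, 21, 19] [0, 1, 14, 7, 21, 4, 9, 8, 12, 10, 11, 6, 3, 15, 16, 13, 20, 17, 18, 23, 2, 22, 5, 19] 0, Gen.mono [0, 1, 19, 17, 21, 7, 5, 10, 15, 6, 9, 8, 3, 22, 14, 13, 18, 4, 2, 23, 20, 12, 11, 16] [0, 1, 18, 12, 17, 6, 9, 5, 11, 10, 7, 22, 21, 15, 14, 8, 23, 3, 16, 2, 20,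 4, 13, 19] 0, Gen.mono [19, 16, 8, 11, 3, 15, 23, 21, 10, 1, 4, 13, 17, 14, 9, 5, 18, 6, 0, 2, 20, 12, 7, 22] [18, 9, 19, 4, 10, 15, 17, 22, 2, 14, 8, 3, 21, 11, 13, 5, 1, 12, 16, 0, 20, 7, 23, 6] 5201838, Gen.xi, Gen.mono [0, 5, 11, 13, 8, 1, 18, 7, 4, 17, 12, 2, 10, 3, 21, 15, 16, 9, 6, 19, 20, 14, 22, 23] [0, 5, 11, 13, 8, 1, 18, 7, 4, 17, 12, 2, 10, 3, 21, 15, 16, 9, 6, 19, 20, 14, 22, 23] 402026, Gen.xi, Gen.mono [18, 9, 19, 4, 10, 15, 17, 22, 2, 14, 8, 3, 21, 11, 13, 5, 1, 12, 16, 0, 20, 7, 23, 6] [19, 16, 8, 11, 3, 15, 23, 21, 10, 1, 4, 13, 17, 14, 9, 5, 18, 6, 0, 2, 20, 12, 7, 22] 15332127, Gen.mono [0, 1, 18, 12, 17, 6, 9, 5, 11, 10, 7, 22, 21, 15, 14, 8, 23, 3, 16, 2, 20,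 4, 13, 19] [0, 1, 19, 17, 21, 7, 5, 10, 15, 6, 9, 8, 3, 22, 14, 13, 18, 4, 2, 23, 20, 12, 11, 16] 0]

def wA : List Gen := [Gen.mono [0, 1, 20, 12, 5, 22, 11, 3, 7, 6, 9, 10, 8, 15, 2, 13, 14, 17, 18, 23, 16, 4, 21, 19] [0, 1, 14, 7, 21, 4, 9, 8, 12, 10, 11, 6, 3, 15, 16, 13, 20, 17, 18, 23, 2, 22, 5, 19] 0, Gen.mono [0, 1, 18, 12, 17, 6, 9, 5, 11, 10, 7, 22, 21, 15, 14, 8, 23, 3, 16, 2, 20, 4, 13, 19] [0, 1, 19, 17, 21, 7, 5, 10, 15, 6, 9, 8, 3, 22, 14, 13, 18, 4, 2, 23, 20, 12, 11, 16] 0]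

/-- the partner `u₀ - y` -/
def subU (l : V) : V := List.zipWith (fun a b => a - b) Co3Data.u0 l

/-- the test for the 252 vectors -/
def p252 (y : V) : Bool :=
  decide (dotL HSData.w0 y = -16) && decide (dotL Co3HSData.eroot y = -8)

theorem sgXA_ok : sgOK [wX, wA] = true := by decide +kernel

theorem fixXA_ok : fixOK [wX, wA] [Co3Data.u0, Co3Data.x16, Co3HSData.eroot] = true := by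
  decide +kernel

theorem yL_ok : ∀ y ∈ yL, y.length = 24 ∧ inLeech (toFn y) = true ∧ dotL y y = 32 ∧
    dotL Co3Data.u0 y = 24 ∧ dotL HSData.w0 y = -16 ∧ dotL Co3HSData.eroot y = -8 := by
  decide +kernel

theorem yL_length : yL.length = 126 := by decide +kernel

theorem yL_nodup : (yL ++ yL.map subU).Nodup := by decide +kernel

theorem cover_ok : ∀ l ∈ forestList Co3Data.sg HSData.achunks, p252 l = true →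
    (l ∈ yL ∨ subU l ∈ yL) := by decide +kernel

theorem actX_ok : ∀ i : Fin 126, actWord wX (yL.getD i []) = yL.getD (lk GT 0 i) [] ∨
    actWord wX (yL.getD i []) = subU (yL.getD (lk GT 0 i) []) := by decide +kernel

theorem actA_ok : ∀ i : Fin 126, actWord wA (yL.getD i []) = yL.getD (lk GT 6 i) [] ∨
    actWord wA (yL.getD i []) = subU (yL.getD (lk GT 6 i) []) := by decide +kernel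

end Cfsg.Agent.Lib.H27.U35HSData
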