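import Mathlib
import Cfsg.Prelude.Def_Classical
import Cfsg.Agent.Lib.H2.Spec5

/-!
# `SU₃(5)` over `K25 = F₅(i)` acting on the 126 isotropic points
-/

set_option autoImplicit false

namespace Cfsg.Agent.Lib.H27.U35

open Matrix hiding SpecialLinearGroup
open Matrix (SpecialLinearGroup)

/-- The field with 25 elements, `F₅(i)`, `i² = 2`. -/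
abbrev K25 : Type := QuadraticAlgebra (ZMod 5) 2 0

instance instFactPrime5 : Fact (Nat.Prime 5) := ⟨by norm_num⟩

instance instFactK25 : Fact (∀ r : ZMod 5, r ^ 2 ≠ (2 : ZMod 5) + (0 : ZMod 5) * r) := ⟨by decide⟩

noncomputable instance instFintypeK25 : Fintype K25 :=
  Fintype.ofEquiv _ (QuadraticAlgebra.equivProd (2 : ZMod 5) 0).symm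

theorem card_K25 : Fintype.card K25 = 25 := by
  rw [Fintype.card_congr (QuadraticAlgebra.equivProd (2 : ZMod 5) 0), Fintype.card_prod, ZMod.card]

theorem K25_star_eq_pow : ∀ x : K25, (starRingEnd K25) x = x ^ 5 := by
  have h : ∀ a b : ZMod 5, star (⟨a, b⟩ : K25) = (⟨a, b⟩ : K25) ^ 5 := by decide
  intro x
  exact h x.re x.im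

/-- the 126 isotropic points (normalised vectors) -/
def PL : List (K25 × K25 × K25) :=
  [(⟨0, 0⟩, ⟨1, 0⟩, ⟨1, 1⟩),
  (⟨0, 0⟩, ⟨1, 0⟩, ⟨1, 4⟩),
  (⟨0, 0⟩, ⟨1, 0⟩, ⟨2, 0⟩),
  (⟨0, 0⟩, ⟨1, 0⟩, ⟨3, 0⟩),
  (⟨0, 0⟩, ⟨1, 0⟩, ⟨4, 1⟩),
  (⟨0, 0⟩, ⟨1, 0⟩, ⟨4, 4⟩),
  (⟨1, 0⟩, ⟨0, 0⟩, ⟨1, 1⟩),
  (⟨1, 0⟩, ⟨0, 0⟩, ⟨1, 4⟩),
  (⟨1, 0⟩, ⟨0, 0⟩, ⟨2, 0⟩),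
  (⟨1, 0⟩, ⟨0, 0⟩, ⟨3, 0⟩),
  (⟨1, 0⟩, ⟨0, 0⟩, ⟨4, 1⟩),
  (⟨1, 0⟩, ⟨0, 0⟩, ⟨4, 4⟩),
  (⟨1, 0⟩, ⟨0, 1⟩, ⟨1, 0⟩),
  (⟨1, 0⟩, ⟨0, 1⟩, ⟨2, 2⟩),
  (⟨1, 0⟩, ⟨0, 1⟩, ⟨2, 3⟩),
  (⟨1, 0⟩, ⟨0, 1⟩, ⟨3, 2⟩),
  (⟨1, 0⟩, ⟨0, 1⟩, ⟨3, 3⟩),
  (⟨1, 0⟩, ⟨0, 1⟩, ⟨4, 0⟩),
  (⟨1, 0⟩, ⟨0, 2⟩, ⟨0, 2⟩),
  (⟨1, 0⟩, ⟨0, 2⟩, ⟨0, 3⟩),
  (⟨1, 0⟩, ⟨0, 2⟩, ⟨2, 1⟩),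
  (⟨1, 0⟩, ⟨0, 2⟩, ⟨2, 4⟩),
  (⟨1, 0⟩, ⟨0, 2⟩, ⟨3, 1⟩),
  (⟨1, 0⟩, ⟨0, 2⟩, ⟨3, 4⟩),
  (⟨1, 0⟩, ⟨0, 3⟩, ⟨0, 2⟩),
  (⟨1, 0⟩, ⟨0, 3⟩, ⟨0, 3⟩),
  (⟨1, 0⟩, ⟨0, 3⟩, ⟨2, 1⟩),
  (⟨1, 0⟩, ⟨0, 3⟩, ⟨2, 4⟩),
  (⟨1, 0⟩, ⟨0, 3⟩, ⟨3, 1⟩),
  (⟨1, 0⟩, ⟨0, 3⟩, ⟨3, 4⟩),
  (⟨1, 0⟩, ⟨0, 4⟩, ⟨1, 0⟩),
  (⟨1, 0⟩, ⟨0, 4⟩, ⟨2, 2⟩),
  (⟨1, 0⟩, ⟨0, 4⟩, ⟨2, 3⟩),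
  (⟨1, 0⟩, ⟨0, 4⟩, ⟨3, 2⟩),
  (⟨1, 0⟩, ⟨0, 4⟩, ⟨3, 3⟩),
  (⟨1, 0⟩, ⟨0, 4⟩, ⟨4, 0⟩),
  (⟨1, 0⟩, ⟨1, 0⟩, ⟨0, 1⟩),
  (⟨1, 0⟩, ⟨1, 0⟩, ⟨0, 4⟩),
  (⟨1, 0⟩, ⟨1, 0⟩, ⟨1, 2⟩),
  (⟨1, 0⟩, ⟨1, 0⟩, ⟨1, 3⟩),
  (⟨1, 0⟩, ⟨1, 0⟩, ⟨4, 2⟩),
  (⟨1, 0⟩, ⟨1, 0⟩, ⟨4, 3⟩),
  (⟨1, 0⟩, ⟨1, 1⟩, ⟨0, 0⟩),
  (⟨1, 0⟩, ⟨1, 2⟩, ⟨1, 0⟩),
  (⟨1, 0⟩, ⟨1, 2⟩, ⟨2, 2⟩),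
  (⟨1, 0⟩, ⟨1, 2⟩, ⟨2, 3⟩),
  (⟨1, 0⟩, ⟨1, 2⟩, ⟨3, 2⟩),
  (⟨1, 0⟩, ⟨1, 2⟩, ⟨3, 3⟩),
  (⟨1, 0⟩, ⟨1, 2⟩, ⟨4, 0⟩),
  (⟨1, 0⟩, ⟨1, 3⟩, ⟨1, 0⟩),
  (⟨1, 0⟩, ⟨1, 3⟩, ⟨2, 2⟩),
  (⟨1, 0⟩, ⟨1, 3⟩, ⟨2, 3⟩),
  (⟨1, 0⟩, ⟨1, 3⟩, ⟨3, 2⟩),
  (⟨1, 0⟩, ⟨1, 3⟩, ⟨3, 3⟩),
  (⟨1, 0⟩, ⟨1, 3⟩, ⟨4, 0⟩),
  (⟨1, 0⟩, ⟨1, 4⟩, ⟨0, 0⟩),
  (⟨1, 0⟩, ⟨2, 0⟩, ⟨0, 0⟩),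
  (⟨1, 0⟩, ⟨2, 1⟩, ⟨0, 2⟩),
  (⟨1, 0⟩, ⟨2, 1⟩, ⟨0, 3⟩),
  (⟨1, 0⟩, ⟨2, 1⟩, ⟨2, 1⟩),
  (⟨1, 0⟩, ⟨2, 1⟩, ⟨2, 4⟩),
  (⟨1, 0⟩, ⟨2, 1⟩, ⟨3, 1⟩),
  (⟨1, 0⟩, ⟨2, 1⟩, ⟨3, 4⟩),
  (⟨1, 0⟩, ⟨2, 2⟩, ⟨0, 1⟩),
  (⟨1, 0⟩, ⟨2, 2⟩, ⟨0, 4⟩),
  (⟨1, 0⟩, ⟨2, 2⟩, ⟨1, 2⟩),
  (⟨1, 0⟩, ⟨2, 2⟩, ⟨1, 3⟩),
  (⟨1, 0⟩, ⟨2, 2⟩, ⟨4, 2⟩),
  (⟨1, 0⟩, ⟨2, 2⟩, ⟨4, 3⟩),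
  (⟨1, 0⟩, ⟨2, 3⟩, ⟨0, 1⟩),
  (⟨1, 0⟩, ⟨2, 3⟩, ⟨0, 4⟩),
  (⟨1, 0⟩, ⟨2, 3⟩, ⟨1, 2⟩),
  (⟨1, 0⟩, ⟨2, 3⟩, ⟨1, 3⟩),
  (⟨1, 0⟩, ⟨2, 3⟩, ⟨4, 2⟩),
  (⟨1, 0⟩, ⟨2, 3⟩, ⟨4, 3⟩),
  (⟨1, 0⟩, ⟨2, 4⟩, ⟨0, 2⟩),
  (⟨1, 0⟩, ⟨2, 4⟩, ⟨0, 3⟩),
  (⟨1, 0⟩, ⟨2, 4⟩, ⟨2, 1⟩),
  (⟨1, 0⟩, ⟨2, 4⟩, ⟨2, 4⟩),
  (⟨1, 0⟩, ⟨2, 4⟩, ⟨3, 1⟩),
  (⟨1, 0⟩, ⟨2, 4⟩, ⟨3, 4⟩),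
  (⟨1, 0⟩, ⟨3, 0⟩, ⟨0, 0⟩),
  (⟨1, 0⟩, ⟨3, 1⟩, ⟨0, 2⟩),
  (⟨1, 0⟩, ⟨3, 1⟩, ⟨0, 3⟩),
  (⟨1, 0⟩, ⟨3, 1⟩, ⟨2, 1⟩),
  (⟨1, 0⟩, ⟨3, 1⟩, ⟨2, 4⟩),
  (⟨1, 0⟩, ⟨3, 1⟩, ⟨3, 1⟩),
  (⟨1, 0⟩, ⟨3, 1⟩, ⟨3, 4⟩),
  (⟨1, 0⟩, ⟨3, 2⟩, ⟨0, 1⟩),
  (⟨1, 0⟩, ⟨3, 2⟩, ⟨0, 4⟩),
  (⟨1, 0⟩, ⟨3, 2⟩, ⟨1, 2⟩),
  (⟨1, 0⟩, ⟨3, 2⟩, ⟨1, 3⟩),
  (⟨1, 0⟩, ⟨3, 2⟩, ⟨4, 2⟩),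
  (⟨1, 0⟩, ⟨3, 2⟩, ⟨4, 3⟩),
  (⟨1, 0⟩, ⟨3, 3⟩, ⟨0, 1⟩),
  (⟨1, 0⟩, ⟨3, 3⟩, ⟨0, 4⟩),
  (⟨1, 0⟩, ⟨3, 3⟩, ⟨1, 2⟩),
  (⟨1, 0⟩, ⟨3, 3⟩, ⟨1, 3⟩),
  (⟨1, 0⟩, ⟨3, 3⟩, ⟨4, 2⟩),
  (⟨1, 0⟩, ⟨3, 3⟩, ⟨4, 3⟩),
  (⟨1, 0⟩, ⟨3, 4⟩, ⟨0, 2⟩),
  (⟨1, 0⟩, ⟨3, 4⟩, ⟨0, 3⟩),
  (⟨1, 0⟩, ⟨3, 4⟩, ⟨2, 1⟩),
  (⟨1, 0⟩, ⟨3, 4⟩, ⟨2, 4⟩),
  (⟨1, 0⟩, ⟨3, 4⟩, ⟨3, 1⟩),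
  (⟨1, 0⟩, ⟨3, 4⟩, ⟨3, 4⟩),
  (⟨1, 0⟩, ⟨4, 0⟩, ⟨0, 1⟩),
  (⟨1, 0⟩, ⟨4, 0⟩, ⟨0, 4⟩),
  (⟨1, 0⟩, ⟨4, 0⟩, ⟨1, 2⟩),
  (⟨1, 0⟩, ⟨4, 0⟩, ⟨1, 3⟩),
  (⟨1, 0⟩, ⟨4, 0⟩, ⟨4, 2⟩),
  (⟨1, 0⟩, ⟨4, 0⟩, ⟨4, 3⟩),
  (⟨1, 0⟩, ⟨4, 1⟩, ⟨0, 0⟩),
  (⟨1, 0⟩, ⟨4, 2⟩, ⟨1, 0⟩),
  (⟨1, 0⟩, ⟨4, 2⟩, ⟨2, 2⟩),
  (⟨1, 0⟩, ⟨4, 2⟩, ⟨2, 3⟩),
  (⟨1, 0⟩, ⟨4, 2⟩, ⟨3, 2⟩),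
  (⟨1, 0⟩, ⟨4, 2⟩, ⟨3, 3⟩),
  (⟨1, 0⟩, ⟨4, 2⟩, ⟨4, 0⟩),
  (⟨1, 0⟩, ⟨4, 3⟩, ⟨1, 0⟩),
  (⟨1, 0⟩, ⟨4, 3⟩, ⟨2, 2⟩),
  (⟨1, 0⟩, ⟨4, 3⟩, ⟨2, 3⟩),
  (⟨1, 0⟩, ⟨4, 3⟩, ⟨3, 2⟩),
  (⟨1, 0⟩, ⟨4, 3⟩, ⟨3, 3⟩),
  (⟨1, 0⟩, ⟨4, 3⟩, ⟨4, 0⟩),
  (⟨1, 0⟩, ⟨4, 4⟩, ⟨0, 0⟩)]

/-- the matrix of the generator `x` (of order 7) -/
def MXm : Matrix (Fin 3) (Fin 3) K25 :=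
  !![⟨0, 0⟩, ⟨0, 4⟩, ⟨4, 3⟩; ⟨3, 1⟩, ⟨3, 1⟩, ⟨3, 4⟩; ⟨4, 1⟩, ⟨3, 2⟩, ⟨2, 2⟩]

/-- the matrix of the generator `a` (of order 3) -/
def MAm : Matrix (Fin 3) (Fin 3) K25 :=
  !![⟨4, 0⟩, ⟨2, 2⟩, ⟨3, 0⟩; ⟨1, 3⟩, ⟨1, 1⟩, ⟨1, 1⟩; ⟨3, 4⟩, ⟨4, 0⟩, ⟨0, 4⟩]

def cXL : List K25 :=
  [⟨0, 1⟩, ⟨3, 3⟩, ⟨3, 0⟩, ⟨2, 3⟩, ⟨2, 0⟩, ⟨0, 2⟩, ⟨0, 2⟩, ⟨3, 4⟩, ⟨3, 1⟩, ⟨2, 4⟩, ⟨2, 1⟩, ⟨0, 3⟩, ⟨2, 3⟩, ⟨3, 4⟩, ⟨4, 3⟩, ⟨2, 2⟩, ⟨3, 1⟩, ⟨4, 2⟩, ⟨3, 3⟩, ⟨4, 2⟩, ⟨1, 3⟩, ⟨3, 2⟩, ⟨4, 3⟩, ⟨2, 0⟩, ⟨1, 3⟩, ⟨2, 2⟩, ⟨3, 0⟩, ⟨1, 2⟩, ⟨2, 3⟩, ⟨0, 4⟩, ⟨1, 3⟩, ⟨2, 4⟩, ⟨3, 3⟩, ⟨1, 2⟩, ⟨2, 1⟩, ⟨3, 2⟩, ⟨1, 3⟩, ⟨4, 0⟩, ⟨1, 0⟩, ⟨2, 4⟩, ⟨3, 4⟩, ⟨4, 3⟩, ⟨3, 4⟩, ⟨0, 2⟩, ⟨1, 3⟩, ⟨2, 2⟩,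 ⟨0, 1⟩, ⟨1, 0⟩, ⟨2, 1⟩, ⟨3, 2⟩, ⟨4, 3⟩, ⟨0, 2⟩, ⟨3, 1⟩, ⟨4, 0⟩, ⟨0, 1⟩, ⟨2, 4⟩, ⟨0, 3⟩, ⟨0, 1⟩, ⟨1, 0⟩, ⟨2, 3⟩, ⟨4, 1⟩, ⟨1, 1⟩, ⟨4, 3⟩, ⟨2, 2⟩, ⟨0, 4⟩, ⟨2, 4⟩, ⟨3, 3⟩, ⟨4, 3⟩, ⟨0, 2⟩, ⟨0, 2⟩, ⟨3, 4⟩, ⟨0, 4⟩, ⟨1, 3⟩, ⟨2, 3⟩, ⟨3, 2⟩, ⟨4, 1⟩, ⟨1, 4⟩, ⟨1, 3⟩, ⟨4, 0⟩, ⟨0, 1⟩, ⟨3, 3⟩, ⟨0, 2⟩, ⟨0, 3⟩, ⟨1, 4⟩, ⟨2, 2⟩, ⟨0, 4⟩, ⟨1, 0⟩, ⟨4, 2⟩, ⟨2, 1⟩, ⟨0, 3⟩, ⟨2, 3⟩, ⟨3, 2⟩, ⟨4, 2⟩, ⟨0, 1⟩, ⟨0, 1⟩, ⟨3, 3⟩, ⟨0, 3⟩, ⟨1, 2⟩, ⟨2, 2⟩, ⟨3, 1⟩, ⟨4, 0⟩, ⟨0, 4⟩, ⟨1, 2⟩, ⟨4, 4⟩, ⟨2, 1⟩, ⟨3, 2⟩, ⟨1, 0⟩, ⟨4, 2⟩, ⟨1, 2⟩, ⟨2, 1⟩, ⟨3, 1⟩, ⟨4, 0⟩, ⟨3, 1⟩, ⟨0, 4⟩, ⟨1, 0⟩, ⟨2, 4⟩, ⟨0, 3⟩, ⟨1, 2⟩, ⟨2, 3⟩, ⟨3, 4⟩, ⟨4, 0⟩, ⟨0, 4⟩, ⟨3, 3⟩, ⟨4, 2⟩, ⟨0, 3⟩, ⟨2, 1⟩]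

def cAL : List K25 :=
  [⟨4, 3⟩, ⟨0, 4⟩, ⟨3, 2⟩, ⟨1, 2⟩, ⟨4, 0⟩, ⟨4, 4⟩, ⟨2, 3⟩, ⟨2, 2⟩, ⟨3, 0⟩, ⟨3, 0⟩, ⟨1, 3⟩, ⟨1, 2⟩, ⟨1, 2⟩, ⟨4, 3⟩, ⟨4, 1⟩, ⟨2, 3⟩, ⟨2, 1⟩, ⟨0, 2⟩, ⟨2, 0⟩, ⟨2, 3⟩, ⟨3, 2⟩, ⟨3, 1⟩, ⟨1, 2⟩, ⟨1, 1⟩, ⟨1, 2⟩, ⟨1, 0⟩, ⟨2, 4⟩, ⟨2, 3⟩, ⟨0, 4⟩, ⟨0, 3⟩, ⟨3, 3⟩, ⟨1, 4⟩, ⟨1, 2⟩, ⟨4, 4⟩, ⟨4, 2⟩, ⟨2, 3⟩, ⟨1, 0⟩, ⟨1, 4⟩, ⟨4, 3⟩, ⟨4, 1⟩, ⟨3, 3⟩, ⟨3, 1⟩, ⟨0, 4⟩, ⟨2, 1⟩, ⟨0, 2⟩, ⟨4, 1⟩, ⟨3, 2⟩, ⟨3, 0⟩, ⟨1, 1⟩, ⟨1, 3⟩, ⟨4, 4⟩, ⟨4, 2⟩, ⟨2, 4⟩, ⟨2, 2⟩, ⟨0, 3⟩, ⟨2, 0⟩, ⟨3, 4⟩, ⟨2, 2⟩, ⟨2, 0⟩, ⟨3, 4⟩, ⟨3, 3⟩, ⟨1, 4⟩, ⟨1, 3⟩, ⟨1, 1⟩, ⟨1, 0⟩, ⟨4, 4⟩, ⟨4, 2⟩, ⟨3, 4⟩, ⟨3, 2⟩, ⟨0, 3⟩, ⟨0, 2⟩, ⟨3, 1⟩, ⟨3, 4⟩, ⟨2, 1⟩, ⟨2, 4⟩, ⟨4, 3⟩, ⟨4, 1⟩,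 ⟨0, 2⟩, ⟨0, 4⟩, ⟨3, 0⟩, ⟨3, 4⟩, ⟨0, 1⟩, ⟨4, 4⟩, ⟨4, 2⟩, ⟨0, 1⟩, ⟨1, 3⟩, ⟨3, 1⟩, ⟨3, 0⟩, ⟨3, 3⟩, ⟨3, 2⟩, ⟨1, 1⟩, ⟨1, 4⟩, ⟨0, 1⟩, ⟨0, 4⟩, ⟨2, 0⟩, ⟨2, 4⟩, ⟨0, 3⟩, ⟨0, 1⟩, ⟨4, 3⟩, ⟨4, 1⟩, ⟨1, 0⟩, ⟨1, 3⟩, ⟨2, 2⟩, ⟨2, 1⟩, ⟨0, 2⟩, ⟨0, 1⟩, ⟨2, 1⟩, ⟨2, 0⟩, ⟨0, 4⟩, ⟨0, 2⟩, ⟨4, 4⟩, ⟨4, 2⟩, ⟨1, 0⟩, ⟨3, 2⟩, ⟨1, 3⟩, ⟨1, 1⟩, ⟨4, 3⟩, ⟨4, 1⟩, ⟨2, 2⟩, ⟨2, 4⟩, ⟨2, 4⟩, ⟨0, 3⟩, ⟨3, 0⟩, ⟨3, 3⟩, ⟨1, 4⟩, ⟨3, 1⟩]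

/-- the `n`-th point -/
def PvN (n : Nat) : Fin 3 → K25 :=
  ![(PL.getD n (0, 0, 0)).1, (PL.getD n (0, 0, 0)).2.1, (PL.getD n (0, 0, 0)).2.2]

/-- the Hermitian norm of a vector, with `star` -/
def hn (v : Fin 3 → K25) : K25 := v 0 * star (v 0) + v 1 * star (v 1) + v 2 * star (v 2)

theorem hermForm_eq_hn (v : Fin 3 → K25) : Cfsg.hermForm 3 K25 5 v v = hn v := by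
  unfold Cfsg.hermForm hn
  rw [Fin.sum_univ_three, ← K25_star_eq_pow, ← K25_star_eq_pow, ← K25_star_eq_pow]
  rfl

theorem PvN_iso : ∀ i : Fin 126, hn (PvN i) = 0 := by decide +kernel

/-- the shape of the points: the first nonzero coordinate is `1` -/
theorem PvN_shape : ∀ i : Fin 126, PvN i 0 = 1 ∨ (PvN i 0 = 0 ∧ PvN i 1 = 1) := by decide +kernel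

theorem PvN_inj : ∀ i j : Fin 126, PvN i 0 = PvN j 0 → PvN i 1 = PvN j 1 → PvN i 2 = PvN j 2 →
    i = j := by decide +kernel

theorem complete1 : ∀ a1 a2 b1 b2 : ZMod 5, hn ![1, ⟨a1, a2⟩, ⟨b1, b2⟩] = 0 →
    ∃ i : Fin 126, PvN i 0 = 1 ∧ PvN i 1 = ⟨a1, a2⟩ ∧ PvN i 2 = ⟨b1, b2⟩ := by decide +kernel

theorem complete2 : ∀ b1 b2 : ZMod 5, hn ![0, 1, ⟨b1, b2⟩] = 0 →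
    ∃ i : Fin 126, PvN i 0 = 0 ∧ PvN i 1 = 1 ∧ PvN i 2 = ⟨b1, b2⟩ := by decide +kernel

theorem hn_e3 : hn ![0, 0, 1] ≠ 0 := by decide +kernel

/-- the `i`-th point -/
def Pv (i : Fin 126) : Fin 3 → K25 := PvN i

/-- the vector `v` spans the `j`-th point -/
def Rel (v : Fin 3 → K25) (j : Fin 126) : Prop := ∃ c : K25, c ≠ 0 ∧ v = c • Pv j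

theorem hn_smul (c : K25) (v : Fin 3 → K25) : hn (c • v) = c * star c * hn v := by
  unfold hn
  simp only [Pi.smul_apply, smul_eq_mul, star_mul]
  ring

theorem vec3_ext {v w : Fin 3 → K25} (h0 : v 0 = w 0) (h1 : v 1 = w 1) (h2 : v 2 = w 2) :
    v = w := by
  funext i
  fin_cases i
  · exact h0
  · exact h1
  · exact h2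

theorem K25_eta (x : K25) : x = ⟨x.re, x.im⟩ := rfl

theorem rel_exists (v : Fin 3 → K25) (hv : v ≠ 0) (hiso : hn v = 0) : ∃ j, Rel v j := by
  -- scale by the inverse of the first nonzero coordinate
  have key : ∀ c : K25, c ≠ 0 → (∃ j : Fin 126, Pv j = c⁻¹ • v) → ∃ j, Rel v j := by
    rintro c hc ⟨j, hj⟩
    refine ⟨j, c, hc, ?_⟩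
    rw [hj, smul_smul, mul_inv_cancel₀ hc, one_smul]
  have hiso' : ∀ c : K25, hn (c⁻¹ • v) = 0 := by
    intro c
    rw [hn_smul, hiso, mul_zero]
  by_cases h0 : v 0 = 0
  · by_cases h1 : v 1 = 0
    · have h2 : v 2 ≠ 0 := by
        intro h2
        apply hv
        exact vec3_ext h0 h1 h2
      exfalso
      apply hn_e3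
      have := hiso' (v 2)
      have e : (v 2)⁻¹ • v = ![0, 0, 1] := by
        apply vec3_ext
        · simp [h0]
        · simp [h1]
        · simp [h2]
      rw [e] at this
      exact this
    · apply key (v 1) h1
      have e : (v 1)⁻¹ • v = ![0, 1, ⟨((v 1)⁻¹ * v 2).re, ((v 1)⁻¹ * v 2).im⟩] := by
        apply vec3_ext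
        · simp [h0]
        · simp [h1]
        · exact K25_eta _
      have h := hiso' (v 1)
      rw [e] at h
      obtain ⟨i, i0, i1, i2⟩ := complete2 _ _ h
      refine ⟨i, ?_⟩
      rw [e]
      exact vec3_ext i0 i1 i2
  · apply key (v 0) h0
    have e : (v 0)⁻¹ • v = ![1, ⟨((v 0)⁻¹ * v 1).re, ((v 0)⁻¹ * v 1).im⟩,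
        ⟨((v 0)⁻¹ * v 2).re, ((v 0)⁻¹ * v 2).im⟩] := by
      apply vec3_ext
      · simp [h0]
      · exact K25_eta _
      · exact K25_eta _
    have h := hiso' (v 0)
    rw [e] at h
    obtain ⟨i, i0, i1, i2⟩ := complete1 _ _ _ _ h
    refine ⟨i, ?_⟩
    rw [e]
    exact vec3_ext i0 i1 i2

theorem rel_unique {v : Fin 3 → K25} {j j' : Fin 126} (h : Rel v j) (h' : Rel v j') : j = j' := by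
  obtain ⟨c, hc, rfl⟩ := h
  obtain ⟨c', hc', he⟩ := h'
  -- `Pv j' = d • Pv j`
  have hd : Pv j' = (c'⁻¹ * c) • Pv j := by
    rw [← smul_smul, he, smul_smul, inv_mul_cancel₀ hc', one_smul]
  have hdne : c'⁻¹ * c ≠ 0 := mul_ne_zero (inv_ne_zero hc') hc
  set d := c'⁻¹ * c with hd'
  have h0 : Pv j' 0 = d * Pv j 0 := by rw [hd]; rfl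
  have h1 : Pv j' 1 = d * Pv j 1 := by rw [hd]; rfl
  have h2 : Pv j' 2 = d * Pv j 2 := by rw [hd]; rfl
  have hd1 : d = 1 := by
    rcases PvN_shape j with s | ⟨s0, s1⟩
    · have s' : Pv j 0 = 1 := s
      rw [s', mul_one] at h0
      rcases PvN_shape j' with t | ⟨t0, t1⟩
      · have t' : Pv j' 0 = 1 := t
        rw [← h0, t']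
      · have t' : Pv j' 0 = 0 := t0
        rw [t'] at h0
        exact absurd h0.symm hdne
    · have s0' : Pv j 0 = 0 := s0
      have s1' : Pv j 1 = 1 := s1
      rw [s0', mul_zero] at h0
      rw [s1', mul_one] at h1
      rcases PvN_shape j' with t | ⟨t0, t1⟩
      · have t' : Pv j' 0 = 1 := t
        rw [t'] at h0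
        exact absurd h0 one_ne_zero
      · have t' : Pv j' 1 = 1 := t1
        rw [← h1, t']
  rw [hd1, one_mul] at h0 h1 h2
  exact (PvN_inj j' j h0 h1 h2).symm

theorem rel_self (j : Fin 126) : Rel (Pv j) j := ⟨1, one_ne_zero, (one_smul _ _).symm⟩

theorem rel_smul {v : Fin 3 → K25} {j : Fin 126} (h : Rel v j) {c : K25} (hc : c ≠ 0) :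
    Rel (c • v) j := by
  obtain ⟨c', hc', rfl⟩ := h
  exact ⟨c * c', mul_ne_zero hc hc', by rw [smul_smul]⟩

theorem Pv_ne_zero (j : Fin 126) : Pv j ≠ 0 := by
  intro h
  rcases PvN_shape j with s | ⟨_, s1⟩
  · have : Pv j 0 = 1 := s
    rw [h] at this
    exact zero_ne_one this
  · have : Pv j 1 = 1 := s1
    rw [h] at this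
    exact zero_ne_one this

theorem Pv_iso (j : Fin 126) : hn (Pv j) = 0 := PvN_iso j

/-- the matrix of an element of `SU₃(5)` -/
def mat (g : Cfsg.SU 3 K25 5) : Matrix (Fin 3) (Fin 3) K25 :=
  ((g : SpecialLinearGroup (Fin 3) K25) : Matrix (Fin 3) (Fin 3) K25)

theorem mat_one : mat 1 = 1 := rfl

theorem mat_mul (g h : Cfsg.SU 3 K25 5) : mat (g * h) = mat g * mat h := rfl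

theorem mat_hn (g : Cfsg.SU 3 K25 5) (v : Fin 3 → K25) : hn (mat g *ᵥ v) = hn v := by
  rw [← hermForm_eq_hn, ← hermForm_eq_hn]
  exact (Cfsg.Agent.Lib.H2.Spec.mem_SU_iff' g.1).1 g.2 v v

theorem mat_ne_zero (g : Cfsg.SU 3 K25 5) {v : Fin 3 → K25} (hv : v ≠ 0) : mat g *ᵥ v ≠ 0 := by
  intro h
  apply hv
  have : mat g⁻¹ *ᵥ (mat g *ᵥ v) = v := by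
    rw [Matrix.mulVec_mulVec, ← mat_mul, inv_mul_cancel, mat_one, Matrix.one_mulVec]
  rw [← this, h, Matrix.mulVec_zero]

theorem act_exists (g : Cfsg.SU 3 K25 5) (i : Fin 126) : ∃ j, Rel (mat g *ᵥ Pv i) j :=
  rel_exists _ (mat_ne_zero g (Pv_ne_zero i)) (by rw [mat_hn]; exact Pv_iso i)

/-- the action on the points -/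
noncomputable def actF (g : Cfsg.SU 3 K25 5) (i : Fin 126) : Fin 126 :=
  (act_exists g i).choose

theorem actF_spec (g : Cfsg.SU 3 K25 5) (i : Fin 126) : Rel (mat g *ᵥ Pv i) (actF g i) :=
  (act_exists g i).choose_spec

theorem actF_eq {g : Cfsg.SU 3 K25 5} {i j : Fin 126} (h : Rel (mat g *ᵥ Pv i) j) :
    actF g i = j := rel_unique (actF_spec g i) h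

theorem actF_one (i : Fin 126) : actF 1 i = i := by
  apply actF_eq
  rw [mat_one, Matrix.one_mulVec]
  exact rel_self i

theorem actF_mul (g h : Cfsg.SU 3 K25 5) (i : Fin 126) : actF (g * h) i = actF g (actF h i) := by
  apply actF_eq
  obtain ⟨c, hc, he⟩ := actF_spec h i
  rw [mat_mul, ← Matrix.mulVec_mulVec, he, Matrix.mulVec_smul]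
  exact rel_smul (actF_spec g _) hc

noncomputable instance actInst : MulAction (Cfsg.SU 3 K25 5) (Fin 126) where
  smul := actF
  one_smul := actF_one
  mul_smul := actF_mul

/-- the permutation representation -/
noncomputable def rho : Cfsg.SU 3 K25 5 →* Equiv.Perm (Fin 126) :=
  MulAction.toPermHom (Cfsg.SU 3 K25 5) (Fin 126)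

theorem rho_apply (g : Cfsg.SU 3 K25 5) (i : Fin 126) : rho g i = actF g i := rfl

/-- scalar matrices act trivially -/
theorem rho_of_scalar {g : Cfsg.SU 3 K25 5} {l : K25} (hl : l ≠ 0)
    (h : mat g = l • (1 : Matrix (Fin 3) (Fin 3) K25)) : rho g = 1 := by
  ext i
  rw [rho_apply, Equiv.Perm.one_apply]
  congr 1
  apply actF_eq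
  rw [h, Matrix.smul_mulVec, Matrix.one_mulVec]
  exact rel_smul (rel_self i) hl

end Cfsg.Agent.Lib.H27.U35
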