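import Cfsg.Agent.Lib.H27.PermWChain
import Cfsg.Agent.Lib.H27.U35LSe0
import Cfsg.Agent.Lib.H27.LatWU

/-!
# Certificate data for `PSU₃(5)` acting on the 126 isotropic points (lattice S: two-generator groups and joins)

Generated by `scripts/u35/emit.py`.
-/

set_option autoImplicit false

namespace Cfsg.Agent.Lib.H27.U35

open Cfsg.Agent.Lib.H27.LatW Cfsg.Agent.Lib.H27.PermW

theorem enumS : chkE (actS GT) 98432 LS hES 0 16 = true :=
  enumS_0

def hATS : Nat :=
  0x555240000000000000002554503005555555000000000000055555550300315555500000000000002553555030000000050000000000000000000503000000005000000000000000000050100000055500000000000000000555020000000050000000000000000000502251325154000000000001532513320401455145300000000000003551515044515531540000000000001354541304000055555000000000000000005550400000555500000000000000000055040000005550000000000000005555504000000055000000000000000055550400000000500000000000000000005040000000000000000000000000000000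

def hAS (ρ : Nat) : Nat :=
  Nat.land (Nat.shiftRight hATS (Nat.mul 124 (ρ))) 21267647932558653966460912964485513215

theorem alphaS : chkA (actS GT) 98432 LS hAS 0 16 = true := by decide +kernel

def jtS : List (Nat × List Nat × Nat) :=
  [(0, [0], 0), (1, [6], 0), (2, [6], 0), (3, [6], 0), (4, [6], 0), (1, [5], 0), (1, [5], 5), (2, [6], 0), (3, [6], 0), (4, [6], 0), (2, [5], 0), (2, [5], 86356), (2, [5], 5), (3, [6], 0), (4, [6], 0), (3, [5], 0), (3, [5], 3298645), (3, [5], 1361), (3, [5], 5), (4, [6], 0), (4, [5], 0), (4, [5], 893728021), (4, [5], 1398031651), (4, [5], 22906421843), (4, [5], 5)]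

theorem joinsS : chkJT (actS GT) 98432 LS jtS = true := by decide +kernel

def uvS : List Nat :=
  [0, 1, 2, 3, 4, 17, 19, 20, 34, 35, 36, 49, 50, 51, 65, 66, 68, 275, 276, 305, 306, 307, 321, 322, 324, 547, 548, 561, 562, 563, 577, 578, 580, 785, 787, 788, 802, 803, 804, 817, 818, 1041, 1043, 1044, 1058, 1059, 1060, 1089, 1090, 4401, 4402, 4403, 4417, 4418, 4420, 4881, 4883, 4884, 4898, 4899, 4900, 4913, 4914, 5137, 5139, 5140, 5154, 5155, 5156, 5185, 5186, 8753, 8754, 8755, 8769, 8770, 8772, 8977, 8979, 8994, 8995, 8996, 9009, 9010, 9233, 9236, 9250, 9251, 9252, 9281, 9282, 12564, 12593, 12595, 12836, 12850, 12851, 13073, 13075, 13090, 13091, 16659, 16705, 16708, 16931, 16962, 16964, 17425, 17428, 17442, 17444, 70417, 70434, 70673, 70690, 78372, 82467, 140049, 140066, 140305, 140322, 143636, 147731, 1126948, 1131043]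

theorem usubS : chkU (actS GT) 98432 LS uvS = true := by decide +kernel

end Cfsg.Agent.Lib.H27.U35
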