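import Cfsg.Agent.Lib.H27.PermWChain
import Cfsg.Agent.Lib.H27.U35LTa

/-!
# Certificate data for `PSU₃(5)` acting on the 126 isotropic points (lattice T: enumeration check, part 1)

Generated by `scripts/u35/emit.py`.
-/

set_option autoImplicit false

namespace Cfsg.Agent.Lib.H27.U35

open Cfsg.Agent.Lib.H27.LatW Cfsg.Agent.Lib.H27.PermW

theorem enumT_1 : chkE (actS GT) 98432 LT hET 258 259 = true := by decide +kernel

end Cfsg.Agent.Lib.H27.U35
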