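import Cfsg.Agent.Lib.H27.U35B
import Cfsg.Agent.Lib.H27.U35L7b
import Cfsg.Agent.Lib.H27.U35L7c
import Cfsg.Agent.Lib.H27.U35LSb
import Cfsg.Agent.Lib.H27.U35LSc
import Cfsg.Agent.Lib.H27.U35LTb
import Cfsg.Agent.Lib.H27.U35LTc

/-!
# Subgroups of `PSU₃(5)` (as a permutation group of degree 126): every proper subgroup has order at
most `2520`, and there is a subgroup of order `2520`

Generated by `scripts/u35/emitP.py` (the assembly of the certificates).
-/

set_option autoImplicit false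

namespace Cfsg.Agent.Lib.H27.U35

open Cfsg.Agent.Lib.H27.LatW Cfsg.Agent.Lib.H27.PermW Equiv

theorem ok_of {L : LatD} {hE : Nat → Nat → Nat → Nat} {hA : Nat → Nat}
    {tab : List (Nat × List Nat × Nat)} {uv : List Nat}
    (h1 : chkE (actS GT) 98432 L hE 0 L.nreps = true)
    (h2 : chkA (actS GT) 98432 L hA 0 L.nreps = true)
    (h3 : chkJT (actS GT) 98432 L tab = true) (h4 : chkU (actS GT) 98432 L uv = true)
    (hz : L.gens.getD 0 [] = [0]) (hr : L.rep 0 = 0) (hu : L.ulist.getD 0 1 = 0)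
    (hn : 0 < L.nreps) (hg : L.gg = [1, 7]) : L.OK ctx where
  enum := ⟨hE, by rw [ctx_sig1]; exact h1⟩
  alpha := ⟨hA, by rw [ctx_sig1]; exact h2⟩
  joins := ⟨tab, by rw [ctx_sig1]; exact h3⟩
  zero := hz
  rep0 := hr
  u0 := hu
  npos := hn
  usub := usub_of_chkU ctx (by rw [ctx_sig1]; exact h4)
  gen := by rw [hg]; exact pd.gen 6 faithful

theorem cardle_of {L : LatD} {i : Nat} {gs : List Nat} {tsig : Nat → Nat} {tlen root : Nat}
    {nx : Nat → Nat → Nat} (hgs : L.ugens ++ L.gens.getD i [] = gs) (hroot : root < tlen)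
    (hr : tsig root = 98432) (h : chkClosed (actS GT) tsig tlen gs nx = true) :
    Nat.card (L.K ctx i) ≤ tlen := by
  rw [L.K_eq_cl, hgs]
  exact card_le_of_closed ctx hroot (hr.trans ctx_sig1.symm) h

theorem cardge_of {L : LatD} {i : Nat} {gs : List Nat} {tsig : Nat → Nat} {tlen root : Nat}
    {par pg dep : Nat → Nat} (hgs : L.ugens ++ L.gens.getD i [] = gs)
    (hr : tsig root = 98432) (h : chkTree (actS GT) tsig tlen gs root par pg dep = true)
    (hinc : chkInc tsig tlen = true) : tlen ≤ Nat.card (L.K ctx i) := by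
  rw [L.K_eq_cl, hgs]
  exact le_card_of_tree ctx (hr.trans ctx_sig1.symm) h hinc

/-! ## the lattice 7 -/

theorem ok7 : L7.OK ctx :=
  ok_of (L := L7) (hE := hE7) (hA := hA7) (tab := jt7) (uv := uv7)
    enum7 alpha7 joins7 usub7 rfl (by decide +kernel) rfl (by decide) rfl

theorem cardle7_0 : Nat.card (L7.K ctx 0) ≤ 7 :=
  cardle_of (L := L7) (i := 0) rfl (root := 0) (by norm_num) root7_0 closed7_0

theorem cardge7_0 : 7 ≤ Nat.card (L7.K ctx 0) :=
  cardge_of (L := L7) (i := 0) rfl (root := 0) root7_0 tree7_0 inc7_0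

theorem cardle7_1 : Nat.card (L7.K ctx 1) ≤ 21 :=
  cardle_of (L := L7) (i := 1) rfl (root := 2) (by norm_num) root7_1 closed7_1

theorem cardle7_2 : Nat.card (L7.K ctx 2) ≤ 168 :=
  cardle_of (L := L7) (i := 2) rfl (root := 12) (by norm_num) root7_2 closed7_2

theorem cardle7_3 : Nat.card (L7.K ctx 3) ≤ 168 :=
  cardle_of (L := L7) (i := 3) rfl (root := 8) (by norm_num) root7_3 closed7_3

theorem cardle7_4 : Nat.card (L7.K ctx 4) ≤ 168 :=
  cardle_of (L := L7) (i := 4) rfl (root := 8) (by norm_num) root7_4 closed7_4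

theorem cardle7_5 : Nat.card (L7.K ctx 5) ≤ 2520 :=
  cardle_of (L := L7) (i := 5) rfl (root := 120) (by norm_num) root7_5 closed7_5

theorem cardge7_5 : 2520 ≤ Nat.card (L7.K ctx 5) :=
  cardge_of (L := L7) (i := 5) rfl (root := 120) root7_5 tree7_5 inc7_5

theorem cardle7_6 : Nat.card (L7.K ctx 6) ≤ 2520 :=
  cardle_of (L := L7) (i := 6) rfl (root := 120) (by norm_num) root7_6 closed7_6

theorem cardle7_7 : Nat.card (L7.K ctx 7) ≤ 2520 :=
  cardle_of (L := L7) (i := 7) rfl (root := 120) (by norm_num) root7_7 closed7_7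

theorem cardU7 : Nat.card (L7.U ctx) = 7 := by
  rw [← L7.K_zero_eq_U ctx rfl]
  exact le_antisymm cardle7_0 cardge7_0

theorem small7 : ∀ i < 8, Nat.card (L7.K ctx i) ≤ 2520 := by
  intro i hi
  interval_cases i
  · exact cardle7_0.trans (by norm_num)
  · exact cardle7_1.trans (by norm_num)
  · exact cardle7_2.trans (by norm_num)
  · exact cardle7_3.trans (by norm_num)
  · exact cardle7_4.trans (by norm_num)
  · exact cardle7_5.trans (by norm_num)
  · exact cardle7_6.trans (by norm_num)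
  · exact cardle7_7.trans (by norm_num)

/-! ## the lattice S -/

theorem okS : LS.OK ctx :=
  ok_of (L := LS) (hE := hES) (hA := hAS) (tab := jtS) (uv := uvS)
    enumS alphaS joinsS usubS rfl (by decide +kernel) rfl (by decide) rfl

theorem cardleS_0 : Nat.card (LS.K ctx 0) ≤ 125 :=
  cardle_of (L := LS) (i := 0) rfl (root := 5) (by norm_num) rootS_0 closedS_0

theorem cardgeS_0 : 125 ≤ Nat.card (LS.K ctx 0) :=
  cardge_of (L := LS) (i := 0) rfl (root := 5) rootS_0 treeS_0 incS_0

theorem cardleS_1 : Nat.card (LS.K ctx 1) ≤ 250 :=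
  cardle_of (L := LS) (i := 1) rfl (root := 10) (by norm_num) rootS_1 closedS_1

theorem cardleS_2 : Nat.card (LS.K ctx 2) ≤ 500 :=
  cardle_of (L := LS) (i := 2) rfl (root := 20) (by norm_num) rootS_2 closedS_2

theorem cardleS_3 : Nat.card (LS.K ctx 3) ≤ 1000 :=
  cardle_of (L := LS) (i := 3) rfl (root := 40) (by norm_num) rootS_3 closedS_3

theorem cardUS : Nat.card (LS.U ctx) = 125 := by
  rw [← LS.K_zero_eq_U ctx rfl]
  exact le_antisymm cardleS_0 cardgeS_0

theorem smallS : ∀ i < 4, Nat.card (LS.K ctx i) ≤ 2520 := by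
  intro i hi
  interval_cases i
  · exact cardleS_0.trans (by norm_num)
  · exact cardleS_1.trans (by norm_num)
  · exact cardleS_2.trans (by norm_num)
  · exact cardleS_3.trans (by norm_num)

/-! ## the lattice T -/

theorem okT : LT.OK ctx :=
  ok_of (L := LT) (hE := hET) (hA := hAT) (tab := jtT) (uv := uvT)
    enumT alphaT joinsT usubT rfl (by decide +kernel) rfl (by decide) rfl

theorem cardleT_0 : Nat.card (LT.K ctx 0) ≤ 16 :=
  cardle_of (L := LT) (i := 0) rfl (root := 1) (by norm_num) rootT_0 closedT_0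

theorem cardgeT_0 : 16 ≤ Nat.card (LT.K ctx 0) :=
  cardge_of (L := LT) (i := 0) rfl (root := 1) rootT_0 treeT_0 incT_0

theorem cardleT_1 : Nat.card (LT.K ctx 1) ≤ 48 :=
  cardle_of (L := LT) (i := 1) rfl (root := 2) (by norm_num) rootT_1 closedT_1

theorem cardleT_2 : Nat.card (LT.K ctx 2) ≤ 240 :=
  cardle_of (L := LT) (i := 2) rfl (root := 10) (by norm_num) rootT_2 closedT_2

theorem cardleT_3 : Nat.card (LT.K ctx 3) ≤ 720 :=
  cardle_of (L := LT) (i := 3) rfl (root := 32) (by norm_num) rootT_3 closedT_3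

theorem cardleT_4 : Nat.card (LT.K ctx 4) ≤ 720 :=
  cardle_of (L := LT) (i := 4) rfl (root := 40) (by norm_num) rootT_4 closedT_4

theorem cardleT_5 : Nat.card (LT.K ctx 5) ≤ 720 :=
  cardle_of (L := LT) (i := 5) rfl (root := 32) (by norm_num) rootT_5 closedT_5

theorem cardUT : Nat.card (LT.U ctx) = 16 := by
  rw [← LT.K_zero_eq_U ctx rfl]
  exact le_antisymm cardleT_0 cardgeT_0

theorem smallT : ∀ i < 6, Nat.card (LT.K ctx i) ≤ 2520 := by
  intro i hi
  interval_cases i
  · exact cardleT_0.trans (by norm_num)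
  · exact cardleT_1.trans (by norm_num)
  · exact cardleT_2.trans (by norm_num)
  · exact cardleT_3.trans (by norm_num)
  · exact cardleT_4.trans (by norm_num)
  · exact cardleT_5.trans (by norm_num)

/-! ## the main theorems -/

theorem U_le_G (L : LatD) : L.U ctx ≤ pd.G := by
  unfold LatD.U
  rw [Subgroup.closure_le]
  rintro σ ⟨g, _, rfl⟩
  exact ctx.ev_mem g

/-- a divisor of `126000` greater than `2520` is divisible by `7`, `125` or `16` -/
theorem dvd_cases {d : ℕ} (hd : d ∣ 126000) (h : 2520 < d) : 7 ∣ d ∨ 125 ∣ d ∨ 16 ∣ d := by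
  by_contra hcon
  push Not at hcon
  obtain ⟨h7, h125, h16⟩ := hcon
  have e : d = Nat.gcd d 126000 := (Nat.gcd_eq_left hd).symm
  have e1 : Nat.gcd d 126000 = Nat.gcd d 16 * (Nat.gcd d 9 * (Nat.gcd d 125 * Nat.gcd d 7)) := by
    have c1 : Nat.Coprime 16 7875 := by norm_num
    have c2 : Nat.Coprime 9 875 := by norm_num
    have c3 : Nat.Coprime 125 7 := by norm_num
    have : (126000 : ℕ) = 16 * (9 * (125 * 7)) := by norm_num
    rw [this, Nat.Coprime.gcd_mul d (by norm_num : Nat.Coprime 16 (9 * (125 * 7))),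
      Nat.Coprime.gcd_mul d (by norm_num : Nat.Coprime 9 (125 * 7)), Nat.Coprime.gcd_mul d c3]
  have b16 : Nat.gcd d 16 ≤ 8 := by
    have h1 : Nat.gcd d 16 ∣ 16 := Nat.gcd_dvd_right d 16
    have h2 : Nat.gcd d 16 ≤ 16 := Nat.le_of_dvd (by norm_num) h1
    have h3 : Nat.gcd d 16 ≠ 16 := fun h => h16 (h ▸ Nat.gcd_dvd_left d 16)
    interval_cases hh : Nat.gcd d 16 <;> omega
  have b9 : Nat.gcd d 9 ≤ 9 := Nat.le_of_dvd (by norm_num) (Nat.gcd_dvd_right d 9)
  have b125 : Nat.gcd d 125 ≤ 25 := by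
    have h1 : Nat.gcd d 125 ∣ 125 := Nat.gcd_dvd_right d 125
    have h2 : Nat.gcd d 125 ≤ 125 := Nat.le_of_dvd (by norm_num) h1
    have h3 : Nat.gcd d 125 ≠ 125 := fun h => h125 (h ▸ Nat.gcd_dvd_left d 125)
    by_contra hgt
    push Not at hgt
    obtain ⟨c, hc⟩ := h1
    have hc5 : c < 5 := by
      by_contra h5
      push Not at h5
      nlinarith
    interval_cases c <;> omega
  have b7 : Nat.gcd d 7 = 1 := by
    have := Nat.Coprime.symm ((Nat.Prime.coprime_iff_not_dvd (by norm_num : Nat.Prime 7)).mpr h7)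
    exact this
  rw [e1, b7, mul_one] at e
  have : d ≤ 8 * (9 * 25) := by
    rw [e]
    exact Nat.mul_le_mul b16 (Nat.mul_le_mul b9 b125)
  omega

/-- the bound, given a lattice above a Sylow subgroup -/
theorem bound_of_lattice {L : LatD} (ok : L.OK ctx) {nl : Nat} (hlen : L.gens.length = nl + 1)
    (hsmall : ∀ i < nl, Nat.card (L.K ctx i) ≤ 2520) {p k : ℕ} (hp : p.Prime)
    (hcU : Nat.card (L.U ctx) = p ^ k) (hG : ¬ p ^ (k + 1) ∣ 126000)
    {K : Subgroup (Perm (Fin 126))} (hK : K ≤ pd.G) (hne : K ≠ pd.G)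
    (hdvd : p ^ k ∣ Nat.card K) : Nat.card K ≤ 2520 := by
  -- the top group of the lattice is `G`
  have htop : ∀ K' : Subgroup (Perm (Fin 126)), K' ≤ pd.G → L.U ctx ≤ K' →
      2520 < Nat.card K' → K' = L.K ctx nl := by
    intro K' hK' hU' hc
    obtain ⟨i, hi, rfl⟩ := ok.main (C := ctx) hK' hU'
    rcases Nat.lt_or_ge i nl with h | h
    · exact absurd (hsmall i h) (by omega)
    · have : i = nl := by omega
      rw [this]
  have hGtop : pd.G = L.K ctx nl := htop pd.G le_rfl (U_le_G L) (by rw [card_G]; norm_num)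
  by_contra hcon
  push Not at hcon
  obtain ⟨g, hg, hUK⟩ := exists_conj_ge hp (U_le_G L) hK hcU (by rw [card_G]; exact hG) hdvd
  have hKg : K.map (MulAut.conj g).toMonoidHom ≤ pd.G := by
    rintro _ ⟨y, hy, rfl⟩
    show g * y * g⁻¹ ∈ pd.G
    exact pd.G.mul_mem (pd.G.mul_mem hg (hK hy)) (pd.G.inv_mem hg)
  have hcard : Nat.card (K.map (MulAut.conj g).toMonoidHom) = Nat.card K :=
    Subgroup.card_map_of_injective (MulAut.conj g).injective
  have h1 := htop _ hKg hUK (by rw [hcard]; exact hcon)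
  rw [← hGtop] at h1
  apply hne
  apply Subgroup.eq_of_le_of_card_ge hK
  rw [← hcard, h1]

/-- every proper subgroup of `G` has order at most `2520` -/
theorem card_le_of_ne {K : Subgroup (Perm (Fin 126))} (hK : K ≤ pd.G) (hne : K ≠ pd.G) :
    Nat.card K ≤ 2520 := by
  by_contra hcon
  push Not at hcon
  have hd : Nat.card K ∣ 126000 := by
    rw [← card_G]
    exact Subgroup.card_dvd_of_le hK
  rcases dvd_cases hd hcon with h | h | h
  · exact absurd (bound_of_lattice ok7 (nl := 8) rfl small7 (p := 7) (k := 1) (by norm_num)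
      (by rw [cardU7]; norm_num) (by norm_num) hK hne (by simpa using h)) (by omega)
  · exact absurd (bound_of_lattice okS (nl := 4) rfl smallS (p := 5) (k := 3) (by norm_num)
      (by rw [cardUS]; norm_num) (by norm_num) hK hne (by simpa using h)) (by omega)
  · exact absurd (bound_of_lattice okT (nl := 6) rfl smallT (p := 2) (k := 4) (by norm_num)
      (by rw [cardUT]; norm_num) (by norm_num) hK hne (by simpa using h)) (by omega)

/-- there is a subgroup of order `2520` -/
theorem exists_card_eq : ∃ K : Subgroup (Perm (Fin 126)), K ≤ pd.G ∧ Nat.card K = 2520 := by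
  refine ⟨L7.K ctx 5, ?_, le_antisymm cardle7_5 cardge7_5⟩
  rw [L7.K_eq_cl]
  exact ctx.cl_le_G _

end Cfsg.Agent.Lib.H27.U35
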