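import Cfsg.Agent.Lib.H27.U43G

/-!
# `PSU₄(3)` is isomorphic to the permutation group generated by the generator permutations,
which has order `3265920`
-/

set_option autoImplicit false

namespace Cfsg.Agent.Lib.H27.U43

open Matrix hiding SpecialLinearGroup
open Matrix (SpecialLinearGroup)
open Cfsg.Agent.Lib.H27.LatW Cfsg.Agent.Lib.H27.PermN Cfsg.Agent.Lib.H2.Spec

theorem center_le_ker : Subgroup.center (Cfsg.SU 4 K9 3) ≤ rho.ker := by
  intro z hz
  obtain ⟨l, h1, h2, rfl⟩ := Cfsg.Agent.Lib.H2.Unitary.center_scalar (F := K9) (q := 3) (n := 4)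
    card_K9' (by norm_num) z hz
  rw [MonoidHom.mem_ker]
  exact rho_of_scalar l.ne_zero (Cfsg.Agent.Lib.H2.Unitary.scSU_val l h1 h2)

/-- the induced homomorphism on `PSU₄(3)` -/
noncomputable def rhoBar : Cfsg.PSU 4 K9 3 →* Equiv.Perm (Fin 280) :=
  QuotientGroup.lift (Subgroup.center (Cfsg.SU 4 K9 3)) rho center_le_ker

theorem card_PSUc : Nat.card (Cfsg.PSU 4 K9 3) = 3265920 := card_PSU43

theorem G_le_range : pd.G ≤ rhoBar.range := by
  unfold PD.G
  rw [Subgroup.closure_le]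
  rintro σ ⟨d, hd, rfl⟩
  have h6 : d = 0 ∨ d = 1 ∨ d = 2 ∨ d = 3 ∨ d = 4 ∨ d = 5 := by omega
  rcases h6 with rfl | rfl | rfl | rfl | rfl | rfl
  · exact ⟨QuotientGroup.mk gG0, by rw [← rho_gG0]; rfl⟩
  · exact ⟨QuotientGroup.mk gG1, by rw [← rho_gG1]; rfl⟩
  · exact ⟨QuotientGroup.mk gG2, by rw [← rho_gG2]; rfl⟩
  · exact ⟨QuotientGroup.mk gG3, by rw [← rho_gG3]; rfl⟩
  · exact ⟨QuotientGroup.mk gG4, by rw [← rho_gG4]; rfl⟩
  · exact ⟨QuotientGroup.mk gG5, by rw [← rho_gG5]; rfl⟩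

theorem card_G_ge : 3265920 ≤ Nat.card pd.G := by
  have h1 := pd.level [] 0 W1 I1L I1L_nodup level1_ok
  have h2 := pd.level [0] 1 W2 I2L I2L_nodup level2_ok
  have h3 := pd.level [0, 1] 4 W3 I3L I3L_nodup level3_ok
  rw [I1L_length, stabL_nil] at h1
  rw [I2L_length] at h2
  rw [I3L_length] at h3
  have h4 : 0 < Nat.card (stabL pd.G ([0, 1] ++ [4])) := Nat.card_pos
  have e1 : ([] : List (Fin 280)) ++ [0] = [0] := rfl
  have e2 : ([0] : List (Fin 280)) ++ [1] = [0, 1] := rfl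
  rw [e1] at h1
  rw [e2] at h2
  nlinarith

theorem card_range_le : Nat.card rhoBar.range ≤ 3265920 := by
  rw [← card_PSUc]
  exact Nat.card_le_card_of_surjective _ rhoBar.rangeRestrict_surjective

theorem G_eq_range : pd.G = rhoBar.range := by
  apply Subgroup.eq_of_le_of_card_ge G_le_range
  exact card_range_le.trans card_G_ge

theorem card_G : Nat.card pd.G = 3265920 := by
  apply le_antisymm
  · rw [G_eq_range]; exact card_range_le
  · exact card_G_ge

theorem rhoBar_injective : Function.Injective rhoBar := by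
  have hfin : Finite (Cfsg.PSU 4 K9 3) := Nat.finite_of_card_ne_zero (by rw [card_PSUc]; norm_num)
  have hs : Function.Surjective rhoBar.rangeRestrict := rhoBar.rangeRestrict_surjective
  have hb : Function.Bijective rhoBar.rangeRestrict := by
    rw [Nat.bijective_iff_surjective_and_card]
    refine ⟨hs, ?_⟩
    rw [card_PSUc, ← G_eq_range, card_G]
  intro a b hab
  apply hb.1
  exact Subtype.ext hab

/-- `PSU₄(3) ≅ G` -/
noncomputable def isoG : Cfsg.PSU 4 K9 3 ≃* pd.G :=
  (MonoidHom.ofInjective rhoBar_injective).trans (MulEquiv.subgroupCongr G_eq_range.symm)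

end Cfsg.Agent.Lib.H27.U43
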