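import Mathlib
import Cfsg.Agent.Lib.H2.Spec6

/-!
# An element of order 7 in `SU₄(3)`: explicit matrices over `K9 = F₃(i)`

`Y1 = diag(1, u7)` has order 7; `N0` conjugates it to its square; every matrix commuting with
`Y1` is a polynomial in `Y1` (cyclic vector `e₀ + e₃`), and the unitary ones of determinant 1
among the `9⁴` polynomials are the 28 matrices `i^j Y1^k` (brute force in the kernel).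
-/

set_option autoImplicit false

namespace Cfsg.Agent.Lib.H27.U43

open Matrix Cfsg.Agent.Lib.H2.Spec

def Y1 : Matrix (Fin 4) (Fin 4) K9 :=
  !![⟨1,0⟩, ⟨0,0⟩, ⟨0,0⟩, ⟨0,0⟩; ⟨0,0⟩, ⟨0,0⟩, ⟨1,1⟩, ⟨1,1⟩; ⟨0,0⟩, ⟨0,0⟩, ⟨1,1⟩, ⟨2,2⟩; ⟨0,0⟩, ⟨0,1⟩, ⟨0,0⟩, ⟨0,0⟩]
def Y2 : Matrix (Fin 4) (Fin 4) K9 :=
  !![⟨1,0⟩, ⟨0,0⟩, ⟨0,0⟩, ⟨0,0⟩; ⟨0,0⟩, ⟨2,1⟩, ⟨0,2⟩, ⟨0,1⟩; ⟨0,0⟩, ⟨1,2⟩, ⟨0,2⟩, ⟨0,1⟩; ⟨0,0⟩, ⟨0,0⟩, ⟨2,1⟩, ⟨2,1⟩]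
def Y3 : Matrix (Fin 4) (Fin 4) K9 :=
  !![⟨1,0⟩, ⟨0,0⟩, ⟨0,0⟩, ⟨0,0⟩; ⟨0,0⟩, ⟨2,0⟩, ⟨2,2⟩, ⟨0,1⟩; ⟨0,0⟩, ⟨2,0⟩, ⟨0,2⟩, ⟨1,1⟩; ⟨0,0⟩, ⟨2,2⟩, ⟨1,0⟩, ⟨2,0⟩]
def Y4 : Matrix (Fin 4) (Fin 4) K9 :=
  !![⟨1,0⟩, ⟨0,0⟩, ⟨0,0⟩, ⟨0,0⟩; ⟨0,0⟩, ⟨2,0⟩, ⟨2,0⟩, ⟨2,1⟩; ⟨0,0⟩, ⟨2,1⟩, ⟨0,1⟩, ⟨1,0⟩; ⟨0,0⟩, ⟨0,2⟩, ⟨1,2⟩, ⟨2,0⟩]
def Y5 : Matrix (Fin 4) (Fin 4) K9 :=
  !![⟨1,0⟩, ⟨0,0⟩, ⟨0,0⟩, ⟨0,0⟩; ⟨0,0⟩, ⟨2,2⟩, ⟨1,1⟩, ⟨0,0⟩; ⟨0,0⟩, ⟨0,1⟩, ⟨0,1⟩, ⟨2,2⟩; ⟨0,0⟩, ⟨0,2⟩, ⟨0,2⟩, ⟨2,2⟩]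
def Y6 : Matrix (Fin 4) (Fin 4) K9 :=
  !![⟨1,0⟩, ⟨0,0⟩, ⟨0,0⟩, ⟨0,0⟩; ⟨0,0⟩, ⟨0,0⟩, ⟨0,0⟩, ⟨0,2⟩; ⟨0,0⟩, ⟨1,2⟩, ⟨1,2⟩, ⟨0,0⟩; ⟨0,0⟩, ⟨1,2⟩, ⟨2,1⟩, ⟨0,0⟩]
def N0 : Matrix (Fin 4) (Fin 4) K9 :=
  !![⟨1,0⟩, ⟨0,0⟩, ⟨0,0⟩, ⟨0,0⟩; ⟨0,0⟩, ⟨2,0⟩, ⟨1,1⟩, ⟨1,0⟩; ⟨0,0⟩, ⟨0,1⟩, ⟨2,1⟩, ⟨0,2⟩; ⟨0,0⟩, ⟨2,2⟩, ⟨0,0⟩, ⟨2,2⟩]

def Ypow : Fin 7 → Matrix (Fin 4) (Fin 4) K9 := ![1, Y1, Y2, Y3, Y4, Y5, Y6]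

/-- The polynomial of degree `< 4` in `Y1` with the given coefficients. -/
def pol (a0 b0 a1 b1 a2 b2 a3 b3 : ZMod 3) : Matrix (Fin 4) (Fin 4) K9 :=
  (⟨a0,b0⟩ : K9) • (1 : Matrix (Fin 4) (Fin 4) K9) + (⟨a1,b1⟩ : K9) • Y1
        + (⟨a2,b2⟩ : K9) • Y2 + (⟨a3,b3⟩ : K9) • Y3

/-- Unitary of determinant 1 implies of the form `i^j Y1^k`. -/
def Good (M : Matrix (Fin 4) (Fin 4) K9) : Prop :=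
  Mᵀ * M.map star = 1 → M.det = 1 → ∃ j : Fin 4, ∃ k : Fin 7, M = (ι9 ^ (j : ℕ)) • Ypow k

instance instDecidableGood (M : Matrix (Fin 4) (Fin 4) K9) : Decidable (Good M) := by
  unfold Good; infer_instance

set_option maxRecDepth 100000 in
theorem brute_00 : ∀ a0 b0 a1 b1 a2 b2 a3 b3 : ZMod 3, a0 = 0 → b0 = 0 →
    Good (pol a0 b0 a1 b1 a2 b2 a3 b3) := by
  decide +kernel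

set_option maxRecDepth 100000 in
theorem brute_01 : ∀ a0 b0 a1 b1 a2 b2 a3 b3 : ZMod 3, a0 = 0 → b0 = 1 →
    Good (pol a0 b0 a1 b1 a2 b2 a3 b3) := by
  decide +kernel

set_option maxRecDepth 100000 in
theorem brute_02 : ∀ a0 b0 a1 b1 a2 b2 a3 b3 : ZMod 3, a0 = 0 → b0 = 2 →
    Good (pol a0 b0 a1 b1 a2 b2 a3 b3) := by
  decide +kernel

set_option maxRecDepth 100000 in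
theorem brute_10 : ∀ a0 b0 a1 b1 a2 b2 a3 b3 : ZMod 3, a0 = 1 → b0 = 0 →
    Good (pol a0 b0 a1 b1 a2 b2 a3 b3) := by
  decide +kernel

set_option maxRecDepth 100000 in
theorem brute_11 : ∀ a0 b0 a1 b1 a2 b2 a3 b3 : ZMod 3, a0 = 1 → b0 = 1 →
    Good (pol a0 b0 a1 b1 a2 b2 a3 b3) := by
  decide +kernel

set_option maxRecDepth 100000 in
theorem brute_12 : ∀ a0 b0 a1 b1 a2 b2 a3 b3 : ZMod 3, a0 = 1 → b0 = 2 →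
    Good (pol a0 b0 a1 b1 a2 b2 a3 b3) := by
  decide +kernel

set_option maxRecDepth 100000 in
theorem brute_20 : ∀ a0 b0 a1 b1 a2 b2 a3 b3 : ZMod 3, a0 = 2 → b0 = 0 →
    Good (pol a0 b0 a1 b1 a2 b2 a3 b3) := by
  decide +kernel

set_option maxRecDepth 100000 in
theorem brute_21 : ∀ a0 b0 a1 b1 a2 b2 a3 b3 : ZMod 3, a0 = 2 → b0 = 1 →
    Good (pol a0 b0 a1 b1 a2 b2 a3 b3) := by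
  decide +kernel

set_option maxRecDepth 100000 in
theorem brute_22 : ∀ a0 b0 a1 b1 a2 b2 a3 b3 : ZMod 3, a0 = 2 → b0 = 2 →
    Good (pol a0 b0 a1 b1 a2 b2 a3 b3) := by
  decide +kernel

/-- Brute force over the `9⁴` polynomials of degree `< 4` in `Y1`. -/
theorem brute (a0 b0 a1 b1 a2 b2 a3 b3 : ZMod 3) : Good (pol a0 b0 a1 b1 a2 b2 a3 b3) := by
  have h0 : ∀ a : ZMod 3, a = 0 ∨ a = 1 ∨ a = 2 := by decide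
  rcases h0 a0 with h | h | h <;> rcases h0 b0 with h' | h' | h'
  · exact brute_00 _ _ _ _ _ _ _ _ h h'
  · exact brute_01 _ _ _ _ _ _ _ _ h h'
  · exact brute_02 _ _ _ _ _ _ _ _ h h'
  · exact brute_10 _ _ _ _ _ _ _ _ h h'
  · exact brute_11 _ _ _ _ _ _ _ _ h h'
  · exact brute_12 _ _ _ _ _ _ _ _ h h'
  · exact brute_20 _ _ _ _ _ _ _ _ h h'
  · exact brute_21 _ _ _ _ _ _ _ _ h h'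
  · exact brute_22 _ _ _ _ _ _ _ _ h h'

theorem Ypow_eq : ∀ k : Fin 7, Ypow k = Y1 ^ (k : ℕ) := by decide +kernel

theorem Y2_eq : Y2 = Y1 * Y1 := by decide +kernel
theorem Y3_eq : Y3 = Y1 * Y1 * Y1 := by decide +kernel
theorem Y1_pow7 : Y1 ^ 7 = 1 := by decide +kernel
theorem Y1_ne_one : Y1 ≠ 1 := by decide +kernel
theorem Y1_mul_Y6 : Y1 * Y6 = 1 := by decide +kernel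
theorem Y1_det : Y1.det = 1 := by decide +kernel
theorem Y6_det : Y6.det = 1 := by decide +kernel
theorem N0_det : N0.det = 1 := by decide +kernel
theorem Y1_unitary : Y1ᵀ * Y1.map star = 1 := by decide +kernel
theorem N0_unitary : N0ᵀ * N0.map star = 1 := by decide +kernel
theorem N0_conj : N0 * Y1 = Y1 ^ 2 * N0 := by decide +kernel
theorem trace_ne : Matrix.trace Y1 ≠ Matrix.trace Y6 := by decide +kernel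
theorem iota_pow4 : ι9 ^ 4 = 1 := by decide +kernel
theorem iota_ne_zero : ι9 ≠ 0 := by decide +kernel

/-- The cyclic vector. -/
def e0 : Fin 4 → K9 := ![1, 0, 0, 1]

/-- Columns `Y1^k e0`, `k < 4`. -/
def Bm : Matrix (Fin 4) (Fin 4) K9 :=
  !![⟨1,0⟩, ⟨1,0⟩, ⟨1,0⟩, ⟨1,0⟩; ⟨0,0⟩, ⟨1,1⟩, ⟨0,1⟩, ⟨0,1⟩; ⟨0,0⟩, ⟨2,2⟩, ⟨0,1⟩, ⟨1,1⟩; ⟨1,0⟩, ⟨0,0⟩, ⟨2,1⟩, ⟨2,0⟩]

def Binv : Matrix (Fin 4) (Fin 4) K9 :=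
  !![⟨0,1⟩, ⟨2,2⟩, ⟨1,1⟩, ⟨1,2⟩; ⟨2,2⟩, ⟨2,2⟩, ⟨2,1⟩, ⟨1,1⟩; ⟨2,1⟩, ⟨0,0⟩, ⟨0,1⟩, ⟨1,2⟩; ⟨0,2⟩, ⟨2,2⟩, ⟨0,0⟩, ⟨0,1⟩]

def Ypow4 : Fin 4 → Matrix (Fin 4) (Fin 4) K9 := ![1, Y1, Y2, Y3]

theorem Bm_mul_Binv : Bm * Binv = 1 := by decide +kernel
theorem Bm_col : ∀ k j : Fin 4, Bm j k = (Ypow4 k *ᵥ e0) j := by decide +kernel

end Cfsg.Agent.Lib.H27.U43
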