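import Cfsg.Agent.Lib.H27.U43K
import Cfsg.Agent.Lib.H27.U43D

/-!
# The generators of `SU₄(3)` and their permutations of the 280 isotropic points
-/

set_option autoImplicit false

namespace Cfsg.Agent.Lib.H27.U43

open Matrix hiding SpecialLinearGroup
open Matrix (SpecialLinearGroup)
open Cfsg.Agent.Lib.H27.LatW Cfsg.Agent.Lib.H27.PermN Cfsg.Agent.Lib.H2.Spec

/-- the generator letters -/
def gG0 : Cfsg.SU 4 K9 3 := ⟨⟨MG0, by decide +kernel⟩, mem_SU4_of_dec _ (by decide +kernel)⟩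
def gG1 : Cfsg.SU 4 K9 3 := ⟨⟨MG1, by decide +kernel⟩, mem_SU4_of_dec _ (by decide +kernel)⟩
def gG2 : Cfsg.SU 4 K9 3 := ⟨⟨MG2, by decide +kernel⟩, mem_SU4_of_dec _ (by decide +kernel)⟩
def gG3 : Cfsg.SU 4 K9 3 := ⟨⟨MG3, by decide +kernel⟩, mem_SU4_of_dec _ (by decide +kernel)⟩
def gG4 : Cfsg.SU 4 K9 3 := ⟨⟨MG4, by decide +kernel⟩, mem_SU4_of_dec _ (by decide +kernel)⟩
def gG5 : Cfsg.SU 4 K9 3 := ⟨⟨MG5, by decide +kernel⟩, mem_SU4_of_dec _ (by decide +kernel)⟩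

/-- explicit matrix-vector product -/
def mv (M : Matrix (Fin 4) (Fin 4) K9) (v : Fin 4 → K9) : Fin 4 → K9 :=
  ![M 0 0 * v 0 + M 0 1 * v 1 + M 0 2 * v 2 + M 0 3 * v 3,
    M 1 0 * v 0 + M 1 1 * v 1 + M 1 2 * v 2 + M 1 3 * v 3,
    M 2 0 * v 0 + M 2 1 * v 1 + M 2 2 * v 2 + M 2 3 * v 3,
    M 3 0 * v 0 + M 3 1 * v 1 + M 3 2 * v 2 + M 3 3 * v 3]

theorem mulVec_eq_mv (M : Matrix (Fin 4) (Fin 4) K9) (v : Fin 4 → K9) : M *ᵥ v = mv M v := by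
  funext i
  fin_cases i <;> simp [mv, Matrix.mulVec, dotProduct, Fin.sum_univ_four]

theorem gen0_ok : ∀ i : Fin 280, cL0.getD i 0 ≠ 0 ∧
    (∀ k : Fin 4, mv MG0 (PvN i) k = cL0.getD i 0 * PvN (lk GT 0 i) k) := by decide +kernel
theorem gen1_ok : ∀ i : Fin 280, cL1.getD i 0 ≠ 0 ∧
    (∀ k : Fin 4, mv MG1 (PvN i) k = cL1.getD i 0 * PvN (lk GT 1 i) k) := by decide +kernel
theorem gen2_ok : ∀ i : Fin 280, cL2.getD i 0 ≠ 0 ∧
    (∀ k : Fin 4, mv MG2 (PvN i) k = cL2.getD i 0 * PvN (lk GT 2 i) k) := by decide +kernel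
theorem gen3_ok : ∀ i : Fin 280, cL3.getD i 0 ≠ 0 ∧
    (∀ k : Fin 4, mv MG3 (PvN i) k = cL3.getD i 0 * PvN (lk GT 3 i) k) := by decide +kernel
theorem gen4_ok : ∀ i : Fin 280, cL4.getD i 0 ≠ 0 ∧
    (∀ k : Fin 4, mv MG4 (PvN i) k = cL4.getD i 0 * PvN (lk GT 4 i) k) := by decide +kernel
theorem gen5_ok : ∀ i : Fin 280, cL5.getD i 0 ≠ 0 ∧
    (∀ k : Fin 4, mv MG5 (PvN i) k = cL5.getD i 0 * PvN (lk GT 5 i) k) := by decide +kernel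

theorem rho_eq_bp {g : Cfsg.SU 4 K9 3} {M : Matrix (Fin 4) (Fin 4) K9} (hM : mat g = M)
    {cL : List K9} {d : Nat} (hd : d < 16)
    (h : ∀ i : Fin 280, cL.getD i 0 ≠ 0 ∧
      (∀ k : Fin 4, mv M (PvN i) k = cL.getD i 0 * PvN (lk GT d i) k)) : rho g = pd.bp d := by
  ext i
  rw [rho_apply]
  congr 1
  apply actF_eq
  refine ⟨cL.getD i 0, (h i).1, ?_⟩
  rw [hM, mulVec_eq_mv]
  funext k
  have : ((pd.bp d i : Fin 280) : Nat) = lk GT d i := pd.bp_apply hd i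
  show mv M (PvN i) k = cL.getD i 0 * PvN (pd.bp d i : Fin 280) k
  rw [(h i).2 k, this]

theorem rho_gG0 : rho gG0 = pd.bp 0 := rho_eq_bp rfl (by norm_num) gen0_ok
theorem rho_gG1 : rho gG1 = pd.bp 1 := rho_eq_bp rfl (by norm_num) gen1_ok
theorem rho_gG2 : rho gG2 = pd.bp 2 := rho_eq_bp rfl (by norm_num) gen2_ok
theorem rho_gG3 : rho gG3 = pd.bp 3 := rho_eq_bp rfl (by norm_num) gen3_ok
theorem rho_gG4 : rho gG4 = pd.bp 4 := rho_eq_bp rfl (by norm_num) gen4_ok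
theorem rho_gG5 : rho gG5 = pd.bp 5 := rho_eq_bp rfl (by norm_num) gen5_ok

end Cfsg.Agent.Lib.H27.U43
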