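import Mathlib
import Cfsg.Agent.Lib.H18.PermLift

/-!
# Normalizer of a subgroup of order 7: abstract group theory part

`P21 G`: every subgroup `X` of order 7 of `G` has `|N_G(X)| = 21` and `C_G(X) = X`.
* `P21_of_mulEquiv`: transport along group isomorphisms.
* `P21_quot_center`: criterion for `G = S / Z(S)` from data on one element `y` of order 7 of `S`.
-/

set_option autoImplicit false

namespace Cfsg.Agent.Lib.H27.U43

/-- Every subgroup of order 7 has normalizer of order 21 and is self-centralizing. -/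
def P21 (G : Type*) [Group G] : Prop :=
  ∀ X : Subgroup G, Nat.card X = 7 →
    Nat.card (Subgroup.normalizer (X : Set G)) = 21 ∧ Subgroup.centralizer (X : Set G) = X

theorem centralizer_map_equiv {G H : Type*} [Group G] [Group H] (e : G ≃* H) (X : Subgroup G) :
    (Subgroup.centralizer (X : Set G)).map e.toMonoidHom
      = Subgroup.centralizer ((X.map e.toMonoidHom : Subgroup H) : Set H) := by
  ext x
  rw [Subgroup.mem_map, Subgroup.mem_centralizer_iff]
  constructor
  · rintro ⟨a, ha, rfl⟩ g hg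
    obtain ⟨b, hb, rfl⟩ := hg
    have := (Subgroup.mem_centralizer_iff.1 ha) b hb
    show e b * e a = e a * e b
    rw [← map_mul, ← map_mul, this]
  · intro hx
    refine ⟨e.symm x, ?_, e.apply_symm_apply x⟩
    rw [Subgroup.mem_centralizer_iff]
    intro g hg
    apply e.injective
    rw [map_mul, map_mul, e.apply_symm_apply]
    exact hx (e g) ⟨g, hg, rfl⟩

theorem P21_of_mulEquiv {G H : Type*} [Group G] [Group H] (e : G ≃* H) (h : P21 H) : P21 G := by
  intro X hX
  have hinj : Function.Injective e.toMonoidHom := e.injective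
  have hX' : Nat.card (X.map e.toMonoidHom) = 7 := by
    rw [← hX]
    exact Nat.card_congr (X.equivMapOfInjective _ hinj).symm.toEquiv
  obtain ⟨h1, h2⟩ := h (X.map e.toMonoidHom) hX'
  constructor
  · rw [← h1, ← Subgroup.map_equiv_normalizer_eq]
    exact Nat.card_congr ((Subgroup.normalizer (X : Set G)).equivMapOfInjective _ hinj).toEquiv
  · rw [← centralizer_map_equiv] at h2
    exact Subgroup.map_injective hinj h2

section Main

variable {S : Type*} [Group S]

local notation "Z" => Subgroup.center S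

theorem conj_eq_of_mk_eq
    (hZ : ∀ z ∈ Z, z ^ 4 = 1) (y : S) (hy7 : y ^ 7 = 1) (g : S) (k : ℕ)
    (h : ((g * y * g⁻¹ : S) : S ⧸ Z) = ((y ^ k : S) : S ⧸ Z)) : g * y * g⁻¹ = y ^ k := by
  have h1 : (y ^ k)⁻¹ * (g * y * g⁻¹) ∈ Z := (QuotientGroup.eq.1 h.symm)
  set z := (y ^ k)⁻¹ * (g * y * g⁻¹) with hz
  have h2 : g * y * g⁻¹ = y ^ k * z := by rw [hz]; group
  have hcomm : Commute (y ^ k) z := (Subgroup.mem_center_iff.1 h1) (y ^ k)
  have h3 : (g * y * g⁻¹) ^ 7 = 1 := by
    rw [conj_pow, hy7]; group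
  have h4 : z ^ 7 = 1 := by
    rw [h2, hcomm.mul_pow, ← pow_mul, mul_comm k 7, pow_mul, hy7, one_pow, one_mul] at h3
    exact h3
  have h5 : z ^ 4 = 1 := hZ z h1
  have h6 : z = 1 := by
    have : z ^ 8 = 1 := by
      have : z ^ 8 = (z ^ 4) ^ 2 := by rw [← pow_mul]
      rw [this, h5, one_pow]
    calc z = z ^ 8 * (z ^ 7)⁻¹ := by group
      _ = 1 := by rw [this, h4]; group
  rw [h2, h6, mul_one]

variable [Finite S]

theorem P21_quot_center
    (h49 : ¬ 7 ^ 2 ∣ Nat.card (S ⧸ Z))
    (hZ : ∀ z ∈ Z, z ^ 4 = 1)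
    (y n : S) (hy7 : y ^ 7 = 1) (hy1 : y ≠ 1)
    (hn : n * y * n⁻¹ = y ^ 2)
    (hC : ∀ h : S, Commute h y → ∃ z ∈ Z, ∃ k : ℕ, h = z * y ^ k)
    (hI : ∀ h : S, h * y * h⁻¹ ≠ y⁻¹) :
    P21 (S ⧸ Z) := by
  have : Fact (Nat.Prime 7) := ⟨by norm_num⟩
  set x : S ⧸ Z := (y : S ⧸ Z) with hx
  have hx7 : x ^ 7 = 1 := by
    rw [hx, ← QuotientGroup.mk_pow, hy7]; rfl
  have hx1 : x ≠ 1 := by
    intro h
    have h1 : y ∈ Z := (QuotientGroup.eq_one_iff y).1 h
    have h2 : y ^ 4 = 1 := hZ y h1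
    apply hy1
    have : y ^ 8 = 1 := by
      have : y ^ 8 = (y ^ 4) ^ 2 := by rw [← pow_mul]
      rw [this, h2, one_pow]
    calc y = y ^ 8 * (y ^ 7)⁻¹ := by group
      _ = 1 := by rw [this, hy7]; group
  have hox : orderOf x = 7 := orderOf_eq_prime hx7 hx1
  have hyinv : y⁻¹ = y ^ 6 := by
    have : y ^ 6 * y = 1 := by rw [← pow_succ, hy7]
    exact (eq_inv_of_mul_eq_one_left this).symm
  -- the model subgroup
  set X0 : Subgroup (S ⧸ Z) := Subgroup.zpowers x with hX0
  have hX0card : Nat.card X0 = 7 := by rw [hX0, Nat.card_zpowers, hox]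
  -- centralizer
  have hcent : Subgroup.centralizer (X0 : Set (S ⧸ Z)) = X0 := by
    apply le_antisymm
    · intro g' hg'
      obtain ⟨g, rfl⟩ := QuotientGroup.mk_surjective g'
      have h1 := (Subgroup.mem_centralizer_iff.1 hg') x (Subgroup.mem_zpowers x)
      have h2 : ((g * y * g⁻¹ : S) : S ⧸ Z) = ((y ^ 1 : S) : S ⧸ Z) := by
        rw [pow_one]
        show (g : S ⧸ Z) * x * (g : S ⧸ Z)⁻¹ = x
        rw [← h1]; group
      have h3 := conj_eq_of_mk_eq hZ y hy7 g 1 h2
      rw [pow_one] at h3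
      have h4 : Commute g y := by
        show g * y = y * g
        calc g * y = (g * y * g⁻¹) * g := by group
          _ = y * g := by rw [h3]
      obtain ⟨z, hz, k, rfl⟩ := hC g h4
      have : ((z * y ^ k : S) : S ⧸ Z) = x ^ k := by
        rw [QuotientGroup.mk_mul, (QuotientGroup.eq_one_iff z).2 hz, one_mul, QuotientGroup.mk_pow]
      rw [this]
      exact Subgroup.pow_mem _ (Subgroup.mem_zpowers x) k
    · intro a ha
      rw [Subgroup.mem_centralizer_iff]
      intro b hb
      obtain ⟨i, rfl⟩ := Subgroup.mem_zpowers_iff.1 ha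
      obtain ⟨j, rfl⟩ := Subgroup.mem_zpowers_iff.1 hb
      exact (Commute.zpow_zpow_self x j i).eq
  -- normalizer
  have hnorm : Nat.card (Subgroup.normalizer (X0 : Set (S ⧸ Z))) = 21 := by
    set N := Subgroup.normalizer (X0 : Set (S ⧸ Z)) with hN
    set ψ := X0.normalizerMonoidHom with hψ
    have hker : ψ.ker = X0.subgroupOf N := by
      rw [hψ, Subgroup.normalizerMonoidHom_ker, hcent]
    have hXN : X0 ≤ N := Subgroup.le_normalizer
    have hkercard : Nat.card ψ.ker = 7 := by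
      rw [hker, ← hX0card]
      exact Nat.card_congr (Subgroup.subgroupOfEquivOfLe hXN).toEquiv
    have hautcard : Nat.card (MulAut X0) = 6 := by
      have : IsCyclic X0 := by rw [hX0]; infer_instance
      rw [IsCyclic.card_mulAut, hX0card]
      decide
    have hcardN : Nat.card N = 7 * Nat.card ψ.range := by
      rw [← hkercard, ← Subgroup.index_ker, Subgroup.card_mul_index]
    -- the element ν
    set ν : S ⧸ Z := (n : S ⧸ Z) with hν
    have hνx : ν * x * ν⁻¹ = x ^ 2 := by
      rw [hν, hx, ← QuotientGroup.mk_inv, ← QuotientGroup.mk_mul, ← QuotientGroup.mk_mul, hn,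
        QuotientGroup.mk_pow]
    have hνN : ν ∈ N := by
      rw [hN]
      apply Subgroup.mem_normalizer_fintype
      intro a ha
      obtain ⟨i, rfl⟩ := Subgroup.mem_zpowers_iff.1 ha
      have : ν * x ^ i * ν⁻¹ = (x ^ 2) ^ i := by rw [← hνx, conj_zpow]
      rw [this]
      exact Subgroup.zpow_mem _ (Subgroup.pow_mem _ (Subgroup.mem_zpowers x) 2) i
    set x0 : X0 := ⟨x, Subgroup.mem_zpowers x⟩ with hx0
    have hψν : (ψ ⟨ν, hνN⟩) x0 = x0 ^ 2 := by
      apply Subtype.ext
      show ν * x * ν⁻¹ = x ^ 2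
      exact hνx
    have hψν_ne : ψ ⟨ν, hνN⟩ ≠ 1 := by
      intro h
      rw [h] at hψν
      have h1 : x = x ^ 2 := congrArg Subtype.val hψν
      apply hx1
      calc x = x ^ 2 * x⁻¹ := by group
        _ = 1 := by rw [← h1]; group
    have hψν3 : (ψ ⟨ν, hνN⟩) ^ 3 = 1 := by
      have hx0gen : ∀ a : X0, ∃ i : ℤ, a = x0 ^ i := by
        rintro ⟨a, ha⟩
        obtain ⟨i, rfl⟩ := Subgroup.mem_zpowers_iff.1 ha
        exact ⟨i, Subtype.ext rfl⟩
      apply MulEquiv.ext
      intro a
      obtain ⟨i, rfl⟩ := hx0gen a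
      have h1 : ((ψ ⟨ν, hνN⟩) ^ 3) x0 = x0 := by
        show (ψ ⟨ν, hνN⟩) ((ψ ⟨ν, hνN⟩) ((ψ ⟨ν, hνN⟩) x0)) = x0
        rw [hψν, map_pow, hψν, map_pow, map_pow, hψν]
        apply Subtype.ext
        show ((x ^ 2) ^ 2) ^ 2 = x
        calc ((x ^ 2) ^ 2) ^ 2 = x ^ 7 * x := by group
          _ = x := by rw [hx7, one_mul]
      rw [map_zpow, h1]
      rfl
    have hord3 : orderOf (ψ ⟨ν, hνN⟩) = 3 := by
      have : Fact (Nat.Prime 3) := ⟨by norm_num⟩
      exact orderOf_eq_prime hψν3 hψν_ne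
    have hmem : ψ ⟨ν, hνN⟩ ∈ ψ.range := ⟨_, rfl⟩
    have h3dvd : 3 ∣ Nat.card ψ.range := by
      have := orderOf_dvd_natCard (⟨ψ ⟨ν, hνN⟩, hmem⟩ : ψ.range)
      rwa [Subgroup.orderOf_mk, hord3] at this
    have hdvd6 : Nat.card ψ.range ∣ 6 := by
      rw [← hautcard]
      exact Subgroup.card_subgroup_dvd_card _
    have hne6 : Nat.card ψ.range ≠ 6 := by
      intro h6
      have htop : ψ.range = ⊤ := by
        apply Subgroup.eq_top_of_card_eq
        rw [h6, hautcard]
      -- inversion is an automorphism of the commutative group X0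
      have hcommX0 : ∀ a b : X0, a * b = b * a := by
        rintro ⟨a, ha⟩ ⟨b, hb⟩
        obtain ⟨i, rfl⟩ := Subgroup.mem_zpowers_iff.1 ha
        obtain ⟨j, rfl⟩ := Subgroup.mem_zpowers_iff.1 hb
        exact Subtype.ext (Commute.zpow_zpow_self x i j).eq
      let ι : MulAut X0 :=
        { toFun := fun a => a⁻¹
          invFun := fun a => a⁻¹
          left_inv := fun a => inv_inv a
          right_inv := fun a => inv_inv a
          map_mul' := fun a b => by rw [mul_inv_rev, hcommX0] }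
      have hι : ι ∈ ψ.range := by rw [htop]; trivial
      obtain ⟨⟨g', hg'N⟩, hg'⟩ := hι
      obtain ⟨g, rfl⟩ := QuotientGroup.mk_surjective g'
      have h1 : (ψ ⟨(g : S ⧸ Z), hg'N⟩) x0 = x0⁻¹ := by rw [hg']; rfl
      have h2 : (g : S ⧸ Z) * x * (g : S ⧸ Z)⁻¹ = x⁻¹ := congrArg Subtype.val h1
      have h3 : ((g * y * g⁻¹ : S) : S ⧸ Z) = ((y ^ 6 : S) : S ⧸ Z) := by
        rw [← hyinv]
        exact h2
      have h4 := conj_eq_of_mk_eq hZ y hy7 g 6 h3
      rw [← hyinv] at h4
      exact hI g h4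
    have hr3 : Nat.card ψ.range = 3 := by
      have hle : Nat.card ψ.range ≤ 6 := Nat.le_of_dvd (by norm_num) hdvd6
      interval_cases h : Nat.card ψ.range <;> omega
    rw [hcardN, hr3]
  -- now an arbitrary subgroup of order 7
  intro X hX
  -- X is cyclic generated by an element of order 7
  have hXcyc : IsCyclic X := isCyclic_of_prime_card hX
  obtain ⟨⟨b, hbX⟩, hb⟩ := hXcyc.exists_generator
  have hXb : X = Subgroup.zpowers b := by
    ext a
    constructor
    · intro ha
      obtain ⟨i, hi⟩ := Subgroup.mem_zpowers_iff.1 (hb ⟨a, ha⟩)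
      rw [Subgroup.mem_zpowers_iff]
      exact ⟨i, congrArg Subtype.val hi⟩
    · intro ha
      obtain ⟨i, rfl⟩ := Subgroup.mem_zpowers_iff.1 ha
      exact Subgroup.zpow_mem _ hbX i
  have hob : orderOf b = 7 := by
    rw [← Nat.card_zpowers, ← hXb, hX]
  obtain ⟨c, hc⟩ := Cfsg.Agent.Lib.H18.exists_conj_mem_zpowers h49 x b hox hob
  -- conjugation by c maps X onto X0
  have hmap : X.map (MulAut.conj c).toMonoidHom = X0 := by
    apply Subgroup.eq_of_le_of_card_ge
    · rw [Subgroup.map_le_iff_le_comap, hXb, Subgroup.zpowers_le]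
      exact hc
    · rw [hX0card, ← hX]
      exact le_of_eq
        (Nat.card_congr (X.equivMapOfInjective _ (MulAut.conj c).injective).toEquiv)
  have hinj : Function.Injective (MulAut.conj c).toMonoidHom := (MulAut.conj c).injective
  constructor
  · rw [← hnorm, ← hmap, ← Subgroup.map_equiv_normalizer_eq]
    exact Nat.card_congr ((Subgroup.normalizer (X : Set _)).equivMapOfInjective _ hinj).toEquiv
  · have h2 := hcent
    rw [← hmap, ← centralizer_map_equiv] at h2
    exact Subgroup.map_injective hinj h2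

end Main

end Cfsg.Agent.Lib.H27.U43
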