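import Cfsg.Agent.Lib.H27.U43HSData0

/-!
# Checks of the data of `Lib/H27/U43HSData0` (lines and generators)

Generated by `scripts/u43/emitHS.py`.
-/

set_option autoImplicit false
set_option maxRecDepth 1000000

namespace Cfsg.Agent.Lib.H27.U43HSData

open Cfsg.Agent.Lib.H27.Eng Cfsg.Agent.Lib.H27.PermN Cfsg.Agent.Lib.H27.U43 Cfsg.Agent.Lib.H27.LatW
open Cfsg.Agent.Lib.H28

theorem sg_ok : sgOK [w0, w1, w2] = true := by decide +kernel

theorem fix_ok : fixOK [w0, w1, w2] [McLData.u0, McLData.v0, McLData.x0] = true := by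
  decide +kernel

theorem yL_ok : ∀ y ∈ yL, y.length = 24 ∧ inLeech (toFn y) = true ∧ dotL y y = 32 ∧
    dotL McLData.u0 y = 24 ∧ dotL McLData.v0 y = 16 ∧ dotL McLData.x0 y = 8 := by
  decide +kernel

theorem yL_length : yL.length = 112 := by decide +kernel

theorem yL_nodup : yL.Nodup := by decide +kernel

theorem C1 : allLt 112 (fun a => allLt 112 fun b => !adj a b ||
    (Nat.blt (lineOf a b) 280 && (memLn a (lineOf a b) && (memLn b (lineOf a b) &&
      allLt 112 fun c => !(adj a c && adj b c) || memLn c (lineOf a b))))) = true := by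
  decide +kernel

theorem C4 : ∀ j : Fin 280, ∀ k : Fin 4, ln j k < 112 ∧ ∀ l : Fin 4, k ≠ l →
    (ln j k ≠ ln j l ∧ adj (ln j k) (ln j l) = true ∧ lineOf (ln j k) (ln j l) = j) := by
  decide +kernel

theorem p_lt : ∀ a : Fin 112, p112 P0T a < 112 ∧ p112 P1T a < 112 ∧ p112 P2T a < 112 := by
  decide +kernel

theorem act0_ok : ∀ a : Fin 112, actWord w0 (yL.getD a []) = yL.getD (p112 P0T a) [] := by
  decide +kernel

theorem act1_ok : ∀ a : Fin 112, actWord w1 (yL.getD a []) = yL.getD (p112 P1T a) [] := by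
  decide +kernel

theorem act2_ok : ∀ a : Fin 112, actWord w2 (yL.getD a []) = yL.getD (p112 P2T a) [] := by
  decide +kernel

theorem lact0_ok : ∀ j : Fin 280, ∀ k : Fin 4,
    memLn (p112 P0T (ln j k)) (lk GT 0 j) = true := by decide +kernel

theorem lact1_ok : ∀ j : Fin 280, ∀ k : Fin 4,
    memLn (p112 P1T (ln j k)) (lk GT 1 j) = true := by decide +kernel

theorem lact2_ok : ∀ j : Fin 280, ∀ k : Fin 4,
    memLn (p112 P2T (ln j k)) (lk GT 2 j) = true := by decide +kernel

end Cfsg.Agent.Lib.H27.U43HSData
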