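import Cfsg.Agent.Lib.H27.U43HSChkA
import Cfsg.Agent.Lib.H27.U43HSChkB
import Cfsg.Agent.Lib.H27.U43B
import Cfsg.Agent.Lib.H27.McL3
import Cfsg.Agent.Lib.H27.ConwayOrders
import Cfsg.Agent.Lib.H27.HSInv

/-!
# The point stabiliser of the McLaughlin group is `PSU₄(3)`
-/

set_option autoImplicit false

namespace Cfsg.Agent.Lib.H27.U43HS

open Cfsg MulAction Cfsg.Agent.Lib.H28 Cfsg.Agent.Lib.H27 Cfsg.Agent.Lib.H27.Eng
open Cfsg.Agent.Lib.H27.PermN Cfsg.Agent.Lib.H27.LatW
open Cfsg.Agent.Lib.H27.U43 (pd GT card_G)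
open Cfsg.Agent.Lib.H27.U43HSData
open McLData

/-- the stabiliser of the standard triple -/
def Hs : Subgroup Co0 := stabilizer Co0 U0 ⊓ stabilizer Co0 V0 ⊓ stabilizer Co0 X0

theorem mem_Hs {g : Co0} : g ∈ Hs ↔ g • U0 = U0 ∧ g • V0 = V0 ∧ g • X0 = X0 := by
  unfold Hs
  simp only [Subgroup.mem_inf, mem_stabilizer_iff, and_assoc]

theorem stab_pair_eq : stabilizer Co0 U0 ⊓ stabilizer Co0 V0 =
    stabilizer Co0 V0 ⊓ stabilizer Co0 (U0 - V0) := by
  ext g
  simp only [Subgroup.mem_inf, mem_stabilizer_iff]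
  constructor
  · rintro ⟨h1, h2⟩
    exact ⟨h2, by rw [Co0_smul_sub, h1, h2]⟩
  · rintro ⟨h1, h2⟩
    refine ⟨?_, h1⟩
    have e : U0 = (U0 - V0) + V0 := by abel
    rw [e, Co0_smul_add, h2, h1]

theorem card_pair : Nat.card ↥(stabilizer Co0 U0 ⊓ stabilizer Co0 V0) = 898128000 := by
  rw [stab_pair_eq]
  apply card_stabMcL V0 (U0 - V0) sqNorm_V0 V0_summand.2
  have e : ((U0 - V0 : leechLattice) : GolayPt → ℤ) = (U0 : GolayPt → ℤ) - (V0 : GolayPt → ℤ) := rfl
  rw [e, dotInt_sub_right, dotInt_self, sqNorm_V0, dotInt_comm, dot_U0_V0]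
  norm_num

theorem card_Hs : Nat.card Hs = 3265920 := by
  have h := card_sub_stab (stabilizer Co0 U0 ⊓ stabilizer Co0 V0) X0 (mclSet U0 V0) X0_mem
    (fun g hg y hy => by
      have hg' := Subgroup.mem_inf.1 hg
      have h1 : g • U0 = U0 := hg'.1
      have h2 : g • V0 = V0 := hg'.2
      have := smul_mem_mclSet g hy
      rwa [h1, h2] at this)
    (fun y hy => by
      obtain ⟨g, g1, g2, g3⟩ := McLData.trans_std X0 X0_mem y hy
      exact ⟨g, Subgroup.mem_inf.2 ⟨g1, g2⟩, g3⟩)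
  rw [McL3Data.ncard_mclSet_std, card_pair] at h
  exact Nat.eq_of_mul_eq_mul_right (by norm_num : 0 < 275) (h.trans (by norm_num))

/-! ## the 112 vectors -/

/-- the `a`-th listed vector -/
def yv (a : Fin 112) : V := yL.getD a []

theorem yv_mem (a : Fin 112) : yv a ∈ yL := by
  unfold yv
  have hi : (a : ℕ) < yL.length := by rw [yL_length]; exact a.2
  rw [List.getD_eq_getElem _ _ hi]
  exact List.getElem_mem hi

theorem yv_len (a : Fin 112) : (yv a).length = 24 := (yL_ok _ (yv_mem a)).1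

theorem yv_L (a : Fin 112) : toFn (yv a) ∈ leechLattice :=
  mem_of_inLeech (yL_ok _ (yv_mem a)).2.1

/-- the `a`-th vector of the lattice -/
def Yv (a : Fin 112) : leechLattice := ⟨toFn (yv a), yv_L a⟩

theorem yv_inj {i j : Fin 112} (h : yv i = yv j) : i = j := by
  have hi : (i : ℕ) < yL.length := by rw [yL_length]; exact i.2
  have hj : (j : ℕ) < yL.length := by rw [yL_length]; exact j.2
  unfold yv at h
  rw [List.getD_eq_getElem _ _ hi, List.getD_eq_getElem _ _ hj] at h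
  exact Fin.ext ((List.Nodup.getElem_inj_iff yL_nodup).1 h)

theorem Yv_inj {i j : Fin 112} (h : Yv i = Yv j) : i = j := by
  have h1 : toFn (yv i) = toFn (yv j) := congrArg Subtype.val h
  exact yv_inj (eq_of_toFn_eq (yv_len i) (yv_len j) h1)

/-- the set of the 112 neighbours -/
def Om : Set leechLattice := mclSet8 U0 V0 X0

theorem U0_val : ((U0 : leechLattice) : GolayPt → ℤ) = toFn u0 := rfl
theorem V0_val : ((V0 : leechLattice) : GolayPt → ℤ) = toFn McLData.v0 := rfl
theorem X0_val : ((X0 : leechLattice) : GolayPt → ℤ) = toFn x0 := rfl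

theorem Yv_mem_Om (a : Fin 112) : Yv a ∈ Om := by
  obtain ⟨-, -, d1, d2, d3, d4⟩ := yL_ok _ (yv_mem a)
  have n1 : sqNorm ((Yv a : leechLattice) : GolayPt → ℤ) = 32 := by
    show sqNorm (toFn (yv a)) = 32
    rw [← sqNorm_spec]; exact d1
  have n2 : dotInt (U0 : GolayPt → ℤ) ((Yv a : leechLattice) : GolayPt → ℤ) = 24 := by
    show dotInt (toFn u0) (toFn (yv a)) = 24
    rw [← dotL_spec]; exact d2
  refine ⟨⟨n1, sqNorm_sub_of_dot sqNorm_U0 n1 n2, ?_⟩, ?_⟩
  · show dotInt (toFn McLData.v0) (toFn (yv a)) = 16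
    rw [← dotL_spec]; exact d3
  · show dotInt (toFn x0) (toFn (yv a)) = 8
    rw [← dotL_spec]; exact d4

theorem Om_eq : Om = Set.range Yv := by
  have hfin : Om.Finite := Set.finite_of_ncard_pos (by
    show 0 < (mclSet8 U0 V0 X0).ncard
    rw [McL3Data.counts.1]; norm_num)
  symm
  apply Set.eq_of_subset_of_ncard_le
  · rintro _ ⟨a, rfl⟩
    exact Yv_mem_Om a
  · show (mclSet8 U0 V0 X0).ncard ≤ _
    rw [McL3Data.counts.1, Set.ncard_range_of_injective (fun _ _ h => Yv_inj h), Nat.card_fin]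
  · exact hfin

theorem Om_cover {y : leechLattice} (hy : y ∈ Om) : ∃ a : Fin 112, y = Yv a := by
  rw [Om_eq] at hy
  obtain ⟨a, rfl⟩ := hy
  exact ⟨a, rfl⟩

theorem Om_inv {g : Co0} (hg : g ∈ Hs) {y : leechLattice} (hy : y ∈ Om) : g • y ∈ Om := by
  obtain ⟨h1, h2, h3⟩ := mem_Hs.1 hg
  have := smul_mem_mclSet8 g hy
  rwa [h1, h2, h3] at this

/-! ## the action on the 112 vectors -/

theorem sg_exists (g : Hs) (a : Fin 112) : ∃ b, (g : Co0) • Yv a = Yv b :=
  Om_cover (Om_inv g.2 (Yv_mem_Om a))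

/-- the action of the stabiliser on the indices of the 112 vectors -/
noncomputable def sg (g : Hs) (a : Fin 112) : Fin 112 := (sg_exists g a).choose

theorem sg_spec (g : Hs) (a : Fin 112) : (g : Co0) • Yv a = Yv (sg g a) :=
  (sg_exists g a).choose_spec

theorem sg_eq {g : Hs} {a b : Fin 112} (h : (g : Co0) • Yv a = Yv b) : sg g a = b :=
  Yv_inj ((sg_spec g a).symm.trans h)

theorem sg_one (a : Fin 112) : sg 1 a = a := by
  apply sg_eq
  show (1 : Co0) • Yv a = Yv a
  rw [one_smul]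

theorem sg_mul (g h : Hs) (a : Fin 112) : sg (g * h) a = sg g (sg h a) := by
  apply sg_eq
  rw [Subgroup.coe_mul, mul_smul, sg_spec h a, sg_spec g]

theorem sg_inj (g : Hs) {a b : Fin 112} (h : sg g a = sg g b) : a = b := by
  apply Yv_inj
  have h1 := sg_spec g a
  have h2 := sg_spec g b
  rw [h, ← h2] at h1
  exact smul_left_cancel _ h1

/-! ## adjacency -/

theorem rowOK_all : ∀ a < 112, rowOK a = true := by
  intro a ha
  by_cases h0 : a < 60
  · exact allLt_spec AT_ok0 a h0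
  · by_cases h1 : a < 85
    · have := allLt_spec AT_ok1 (a - 60) (by omega)
      have e : Nat.add (a - 60) 60 = a := by show a - 60 + 60 = a; omega
      rwa [e] at this
    · have := allLt_spec AT_ok2 (a - 85) (by omega)
      have e : Nat.add (a - 85) 85 = a := by show a - 85 + 85 = a; omega
      rwa [e] at this

theorem dot_Yv (a b : Fin 112) : dotInt ((Yv a : leechLattice) : GolayPt → ℤ)
    ((Yv b : leechLattice) : GolayPt → ℤ) = dotL (yL.getD a []) (yL.getD b []) :=
  (dotL_spec _ _).symm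

theorem adj_iff_le {a b : Fin 112} (hba : (b : ℕ) ≤ a) : adj a b = true ↔
    dotInt ((Yv a : leechLattice) : GolayPt → ℤ) ((Yv b : leechLattice) : GolayPt → ℤ) = 8 := by
  have h := allLt_spec (rowOK_all a a.2) b (Nat.lt_succ_of_le hba)
  rw [beq_iff_eq] at h
  rw [dot_Yv, h, decide_eq_true_eq]

theorem adj_symm (a b : Fin 112) : adj a b = adj b a := by
  have h := allLt_spec (allLt_spec AT_symm a a.2) b b.2
  rwa [beq_iff_eq] at h

theorem adj_iff (a b : Fin 112) : adj a b = true ↔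
    dotInt ((Yv a : leechLattice) : GolayPt → ℤ) ((Yv b : leechLattice) : GolayPt → ℤ) = 8 := by
  rcases Nat.le_total b a with h | h
  · exact adj_iff_le h
  · rw [adj_symm, adj_iff_le h, dotInt_comm]

theorem adj_sg (g : Hs) (a b : Fin 112) : adj (sg g a) (sg g b) = adj a b := by
  rw [Bool.eq_iff_iff, adj_iff, adj_iff, ← sg_spec, ← sg_spec, Co0_dot]

/-! ## the lines -/

/-- the `k`-th point of the `j`-th line -/
def lnF (j : Fin 280) (k : Fin 4) : Fin 112 := ⟨ln j k, (C4 j k).1⟩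

theorem lnF_ne (j : Fin 280) {k l : Fin 4} (h : k ≠ l) : lnF j k ≠ lnF j l := by
  intro e
  exact ((C4 j k).2 l h).1 (congrArg (fun x : Fin 112 => (x : ℕ)) e)

theorem lnF_adj (j : Fin 280) {k l : Fin 4} (h : k ≠ l) : adj (lnF j k) (lnF j l) = true :=
  ((C4 j k).2 l h).2.1

theorem memLn_iff (a j : ℕ) : memLn a j = true ↔ ∃ k : Fin 4, a = ln j k := by
  unfold memLn
  simp only [Bool.or_eq_true]
  constructor
  · rintro (h | h | h | h)
    · exact ⟨0, Nat.eq_of_beq_eq_true h⟩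
    · exact ⟨1, Nat.eq_of_beq_eq_true h⟩
    · exact ⟨2, Nat.eq_of_beq_eq_true h⟩
    · exact ⟨3, Nat.eq_of_beq_eq_true h⟩
  · rintro ⟨k, h⟩
    fin_cases k
    · exact Or.inl (by rw [h]; exact Nat.beq_refl _)
    · exact Or.inr (Or.inl (by rw [h]; exact Nat.beq_refl _))
    · exact Or.inr (Or.inr (Or.inl (by rw [h]; exact Nat.beq_refl _)))
    · exact Or.inr (Or.inr (Or.inr (by rw [h]; exact Nat.beq_refl _)))

theorem memLn_lnF (j : Fin 280) (k : Fin 4) : memLn (lnF j k) j = true :=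
  (memLn_iff _ _).2 ⟨k, rfl⟩

theorem lineOf_eq {j : Fin 280} {a b : ℕ} (ha : memLn a j = true) (hb : memLn b j = true)
    (hab : a ≠ b) : lineOf a b = j := by
  obtain ⟨k, rfl⟩ := (memLn_iff _ _).1 ha
  obtain ⟨l, rfl⟩ := (memLn_iff _ _).1 hb
  have hkl : k ≠ l := by
    rintro rfl
    exact hab rfl
  exact ((C4 j k).2 l hkl).2.2

theorem C1_spec {a b : Fin 112} (h : adj a b = true) : lineOf a b < 280 ∧
    memLn a (lineOf a b) = true ∧ memLn b (lineOf a b) = true ∧
    ∀ c : Fin 112, adj a c = true → adj b c = true → memLn c (lineOf a b) = true := by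
  have h1 := allLt_spec (allLt_spec C1 a a.2) b b.2
  rw [h] at h1
  simp only [Bool.not_true, Bool.false_or, Bool.and_eq_true] at h1
  obtain ⟨p1, p2, p3, p4⟩ := h1
  refine ⟨Nat.le_of_ble_eq_true p1, p2, p3, ?_⟩
  intro c hc1 hc2
  have := allLt_spec p4 c c.2
  rw [hc1, hc2] at this
  simpa using this

/-- the element `g` maps the line `i` to the line `j` -/
def RL (g : Hs) (i j : Fin 280) : Prop := ∀ k : Fin 4, memLn (sg g (lnF i k)) j = true

theorem RL_exists (g : Hs) (i : Fin 280) : ∃ j, RL g i j := by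
  have h01 : adj (sg g (lnF i 0)) (sg g (lnF i 1)) = true := by
    rw [adj_sg]; exact lnF_adj i (by decide)
  obtain ⟨hlt, m0, m1, hall⟩ := C1_spec h01
  refine ⟨⟨_, hlt⟩, ?_⟩
  intro k
  have key : ∀ k : Fin 4, k ≠ 0 → k ≠ 1 →
      memLn (sg g (lnF i k)) (lineOf (sg g (lnF i 0)) (sg g (lnF i 1))) = true := by
    intro k k0 k1
    apply hall
    · rw [adj_sg]; exact lnF_adj i (Ne.symm k0)
    · rw [adj_sg]; exact lnF_adj i (Ne.symm k1)
  fin_cases k
  · exact m0
  · exact m1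
  · exact key 2 (by decide) (by decide)
  · exact key 3 (by decide) (by decide)

theorem RL_unique {g : Hs} {i j j' : Fin 280} (h : RL g i j) (h' : RL g i j') : j = j' := by
  have hne : ((sg g (lnF i 0) : Fin 112) : ℕ) ≠ (sg g (lnF i 1) : Fin 112) := by
    intro e
    exact lnF_ne i (by decide : (0 : Fin 4) ≠ 1) (sg_inj g (Fin.ext e))
  have e1 := lineOf_eq (h 0) (h 1) hne
  have e2 := lineOf_eq (h' 0) (h' 1) hne
  exact Fin.ext (e1.symm.trans e2)

/-- the action of the stabiliser on the lines -/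
noncomputable def actL (g : Hs) (i : Fin 280) : Fin 280 := (RL_exists g i).choose

theorem actL_spec (g : Hs) (i : Fin 280) : RL g i (actL g i) := (RL_exists g i).choose_spec

theorem actL_eq {g : Hs} {i j : Fin 280} (h : RL g i j) : actL g i = j :=
  RL_unique (actL_spec g i) h

theorem actL_one (i : Fin 280) : actL 1 i = i := by
  apply actL_eq
  intro k
  rw [sg_one]
  exact memLn_lnF i k

theorem actL_mul (g h : Hs) (i : Fin 280) : actL (g * h) i = actL g (actL h i) := by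
  apply actL_eq
  intro k
  rw [sg_mul]
  obtain ⟨k', hk'⟩ := (memLn_iff _ _).1 (actL_spec h i k)
  have e : sg h (lnF i k) = lnF (actL h i) k' := Fin.ext hk'
  rw [e]
  exact actL_spec g _ k'

noncomputable instance actLInst : MulAction Hs (Fin 280) where
  smul := actL
  one_smul := actL_one
  mul_smul := actL_mul

/-- the permutation representation on the lines -/
noncomputable def psi : Hs →* Equiv.Perm (Fin 280) := MulAction.toPermHom Hs (Fin 280)

theorem psi_apply (g : Hs) (i : Fin 280) : psi g i = actL g i := rfl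

/-! ## the generators -/

theorem word_mem {w : List Gen} (hw : w ∈ [w0, w1, w2]) : wordCo0 w ∈ Hs :=
  mem_Hs.2 ((McL3Data.fixes3_iff _).1 (fixes_of_fixOK U43HSData.sg_ok U43HSData.fix_ok hw))

theorem sg_word {w : List Gen} (hw : w ∈ [w0, w1, w2]) {T : ℕ}
    (hlt : ∀ a : Fin 112, p112 T a < 112)
    (h : ∀ a : Fin 112, actWord w (yL.getD a []) = yL.getD (p112 T a) []) (a : Fin 112) :
    sg ⟨wordCo0 w, word_mem hw⟩ a = ⟨p112 T a, hlt a⟩ := by
  apply sg_eq
  have hok := ok_of_sgOK U43HSData.sg_ok hw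
  have hspec := actWord_spec w hok (yv a) (yv_L a)
  apply Subtype.ext
  show ((wordCo0 w • (⟨toFn (yv a), yv_L a⟩ : leechLattice) : leechLattice) : GolayPt → ℤ)
    = toFn (yv ⟨p112 T a, hlt a⟩)
  rw [← hspec]
  show toFn (actWord w (yL.getD a [])) = toFn (yL.getD (p112 T a) [])
  rw [h a]

theorem psi_word {w : List Gen} (hw : w ∈ [w0, w1, w2]) {T : ℕ}
    (hlt : ∀ a : Fin 112, p112 T a < 112)
    (h : ∀ a : Fin 112, actWord w (yL.getD a []) = yL.getD (p112 T a) []) {d : ℕ} (hd : d < 16)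
    (hl : ∀ j : Fin 280, ∀ k : Fin 4, memLn (p112 T (ln j k)) (lk GT d j) = true) :
    psi ⟨wordCo0 w, word_mem hw⟩ = pd.bp d := by
  ext i
  rw [psi_apply]
  congr 1
  apply actL_eq
  intro k
  rw [sg_word hw hlt h]
  have hb : ((pd.bp d i : Fin 280) : ℕ) = lk GT d i := pd.bp_apply hd i
  rw [hb]
  exact hl i k

theorem psi_h0 : psi ⟨wordCo0 w0, word_mem (by simp)⟩ = pd.bp 0 :=
  psi_word (by simp) (fun a => (p_lt a).1) act0_ok (by norm_num) lact0_ok

theorem psi_h1 : psi ⟨wordCo0 w1, word_mem (by simp)⟩ = pd.bp 1 :=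
  psi_word (by simp) (fun a => (p_lt a).2.1) act1_ok (by norm_num) lact1_ok

theorem psi_h2 : psi ⟨wordCo0 w2, word_mem (by simp)⟩ = pd.bp 2 :=
  psi_word (by simp) (fun a => (p_lt a).2.2) act2_ok (by norm_num) lact2_ok

/-! ## the isomorphism -/

theorem G_le_range : pd.G ≤ psi.range := by
  unfold PD.G
  rw [Subgroup.closure_le]
  rintro σ ⟨d, hd, rfl⟩
  have i0 : pd.bp 3 = (pd.bp 0)⁻¹ := pd.bp_linv (d := 0) (by norm_num)
  have i1 : pd.bp 4 = (pd.bp 1)⁻¹ := pd.bp_linv (d := 1) (by norm_num)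
  have i2 : pd.bp 5 = (pd.bp 2)⁻¹ := pd.bp_linv (d := 2) (by norm_num)
  have h6 : d = 0 ∨ d = 1 ∨ d = 2 ∨ d = 3 ∨ d = 4 ∨ d = 5 := by omega
  rcases h6 with rfl | rfl | rfl | rfl | rfl | rfl
  · exact ⟨_, psi_h0⟩
  · exact ⟨_, psi_h1⟩
  · exact ⟨_, psi_h2⟩
  · rw [SetLike.mem_coe, i0]; exact psi.range.inv_mem ⟨_, psi_h0⟩
  · rw [SetLike.mem_coe, i1]; exact psi.range.inv_mem ⟨_, psi_h1⟩
  · rw [SetLike.mem_coe, i2]; exact psi.range.inv_mem ⟨_, psi_h2⟩

instance finite_Hs : Finite Hs := Nat.finite_of_card_ne_zero (by rw [card_Hs]; norm_num)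

theorem card_range_le : Nat.card psi.range ≤ 3265920 := by
  rw [← card_Hs]
  exact Nat.card_le_card_of_surjective _ psi.rangeRestrict_surjective

theorem range_eq : pd.G = psi.range := by
  apply Subgroup.eq_of_le_of_card_ge G_le_range
  rw [card_G]
  exact card_range_le

theorem psi_injective : Function.Injective psi := by
  have hb : Function.Bijective psi.rangeRestrict := by
    rw [Nat.bijective_iff_surjective_and_card]
    refine ⟨psi.rangeRestrict_surjective, ?_⟩
    rw [card_Hs, ← range_eq, card_G]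
  intro a b hab
  apply hb.1
  exact Subtype.ext hab

/-- the stabiliser of the standard triple is isomorphic to the permutation group `pd.G` -/
noncomputable def isoHs : Hs ≃* pd.G :=
  (MonoidHom.ofInjective psi_injective).trans (MulEquiv.subgroupCongr range_eq.symm)

end Cfsg.Agent.Lib.H27.U43HS
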