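import Cfsg.Agent.Lib.H27.U43HS
import Cfsg.Agent.Lib.H2.Spec5

/-!
# The point stabiliser of the McLaughlin group is `PSU₄(3)` (general form)
-/

set_option autoImplicit false

namespace Cfsg.Agent.Lib.H27.U43HS

open Cfsg MulAction Cfsg.Agent.Lib.H28 Cfsg.Agent.Lib.H27
open Cfsg.Agent.Lib.H27.PermN
open Cfsg.Agent.Lib.H27.U43 (pd isoG center_map_equiv')
open McLData

section conj

variable {G α : Type*} [Group G] [MulAction G α]

/-- Conjugation by `g` carries the common stabilizer of `u, v, w` to that of their images. -/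
def conjStabEquiv₃ (g : G) (u v w : α) :
    ↥(stabilizer G u ⊓ stabilizer G v ⊓ stabilizer G w) ≃*
      ↥(stabilizer G (g • u) ⊓ stabilizer G (g • v) ⊓ stabilizer G (g • w)) where
  toFun k := ⟨g * k.1 * g⁻¹, by
    have h := Subgroup.mem_inf.1 k.2
    have h' := Subgroup.mem_inf.1 h.1
    have h1 : k.1 • u = u := h'.1
    have h2 : k.1 • v = v := h'.2
    have h3 : k.1 • w = w := h.2
    refine Subgroup.mem_inf.2 ⟨Subgroup.mem_inf.2 ⟨?_, ?_⟩, ?_⟩
    · rw [mem_stabilizer_iff, mul_smul, mul_smul, inv_smul_smul, h1]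
    · rw [mem_stabilizer_iff, mul_smul, mul_smul, inv_smul_smul, h2]
    · rw [mem_stabilizer_iff, mul_smul, mul_smul, inv_smul_smul, h3]⟩
  invFun k := ⟨g⁻¹ * k.1 * g, by
    have h := Subgroup.mem_inf.1 k.2
    have h' := Subgroup.mem_inf.1 h.1
    have h1 : k.1 • g • u = g • u := h'.1
    have h2 : k.1 • g • v = g • v := h'.2
    have h3 : k.1 • g • w = g • w := h.2
    refine Subgroup.mem_inf.2 ⟨Subgroup.mem_inf.2 ⟨?_, ?_⟩, ?_⟩
    · rw [mem_stabilizer_iff, mul_smul, mul_smul, h1, inv_smul_smul]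
    · rw [mem_stabilizer_iff, mul_smul, mul_smul, h2, inv_smul_smul]
    · rw [mem_stabilizer_iff, mul_smul, mul_smul, h3, inv_smul_smul]⟩
  left_inv k := by
    apply Subtype.ext
    show g⁻¹ * (g * k.1 * g⁻¹) * g = k.1
    group
  right_inv k := by
    apply Subtype.ext
    show g * (g⁻¹ * k.1 * g) * g⁻¹ = k.1
    group
  map_mul' a b := by
    apply Subtype.ext
    show g * (a.1 * b.1) * g⁻¹ = (g * a.1 * g⁻¹) * (g * b.1 * g⁻¹)
    group

end conj

/-- the stabiliser of any point of the McLaughlin graph is isomorphic to the permutation group -/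
theorem stab3_iso (u v x : leechLattice) (hu : sqNorm (u : GolayPt → ℤ) = 48)
    (hv : sqNorm (v : GolayPt → ℤ) = 32 ∧ sqNorm ((u - v : leechLattice) : GolayPt → ℤ) = 32)
    (hx : x ∈ mclSet u v) :
    Nonempty (↥(stabilizer Co0 u ⊓ stabilizer Co0 v ⊓ stabilizer Co0 x) ≃* pd.G) := by
  obtain ⟨h, h1, h2, h3⟩ := exists_std_triple u v x hu hv hx
  have e := conjStabEquiv₃ h u v x
  rw [h1, h2, h3] at e
  exact ⟨e.trans isoHs⟩

open Cfsg.Agent.Lib.H2.Spec in
theorem psu43_iso {F : Type*} [Field F] [Fintype F] (hF : Fintype.card F = 9) :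
    Nonempty (Cfsg.PSU 4 F 3 ≃* pd.G) := by
  have e : F ≃+* K9 := FiniteField.ringEquivOfCardEq (hF.trans card_K9.symm)
  have E : Cfsg.SU 4 F 3 ≃* Cfsg.SU 4 K9 3 := suEquiv e 4 3
  have E' : Cfsg.PSU 4 F 3 ≃* Cfsg.PSU 4 K9 3 :=
    QuotientGroup.congr _ _ E (center_map_equiv' E)
  exact ⟨E'.trans isoG⟩

theorem mcl_point_stab (u v x : leechLattice) (hu : sqNorm (u : GolayPt → ℤ) = 48)
    (hv : sqNorm (v : GolayPt → ℤ) = 32 ∧ sqNorm ((u - v : leechLattice) : GolayPt → ℤ) = 32)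
    (hx : x ∈ mclSet u v) {F : Type*} [Field F] [Fintype F] (hF : Fintype.card F = 9) :
    Nonempty (↥(stabilizer Co0 u ⊓ stabilizer Co0 v ⊓ stabilizer Co0 x) ≃* Cfsg.PSU 4 F 3) := by
  obtain ⟨ψ⟩ := stab3_iso u v x hu hv hx
  obtain ⟨φ⟩ := psu43_iso hF
  exact ⟨ψ.trans φ.symm⟩

end Cfsg.Agent.Lib.H27.U43HS
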