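import Cfsg.Agent.Lib.H27.U43HSData0

/-!
# Checks of the data of `Lib/H27/U43HSData0` (the adjacency table)

Generated by `scripts/u43/emitHS.py`.
-/

set_option autoImplicit false
set_option maxRecDepth 1000000

namespace Cfsg.Agent.Lib.H27.U43HSData

open Cfsg.Agent.Lib.H27.Eng Cfsg.Agent.Lib.H27.PermN Cfsg.Agent.Lib.H27.U43 Cfsg.Agent.Lib.H27.LatW
open Cfsg.Agent.Lib.H28

theorem AT_ok0 : allLt 60 (fun a => rowOK a) = true := by decide +kernel

theorem AT_ok1 : allLt 25 (fun a => rowOK (Nat.add a 60)) = true := by decide +kernel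

theorem AT_ok2 : allLt 27 (fun a => rowOK (Nat.add a 85)) = true := by decide +kernel

theorem AT_symm : allLt 112 (fun a => allLt 112 fun b => adj a b == adj b a) = true := by
  decide +kernel

end Cfsg.Agent.Lib.H27.U43HSData
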