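import Cfsg.Agent.Lib.H27.U43KData

/-!
# `SU₄(3)` over `K9 = F₃(i)` acting on the 280 isotropic points
-/

set_option autoImplicit false

namespace Cfsg.Agent.Lib.H27.U43

open Matrix hiding SpecialLinearGroup
open Matrix (SpecialLinearGroup)
open Cfsg.Agent.Lib.H2.Spec

/-- the `n`-th point -/
def PvN (n : Nat) : Fin 4 → K9 :=
  ![(PL.getD n (0, 0, 0, 0)).1, (PL.getD n (0, 0, 0, 0)).2.1, (PL.getD n (0, 0, 0, 0)).2.2.1,
    (PL.getD n (0, 0, 0, 0)).2.2.2]

/-- the Hermitian norm of a vector, with `star` -/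
def hn (v : Fin 4 → K9) : K9 :=
  v 0 * star (v 0) + v 1 * star (v 1) + v 2 * star (v 2) + v 3 * star (v 3)

theorem hermForm_eq_hn (v : Fin 4 → K9) : Cfsg.hermForm 4 K9 3 v v = hn v := by
  unfold Cfsg.hermForm hn
  rw [Fin.sum_univ_four, ← K9_star_eq_pow, ← K9_star_eq_pow, ← K9_star_eq_pow, ← K9_star_eq_pow]
  rfl

/-- the code of an element of `K9` -/
def cd9 (x : K9) : Nat := 3 * x.re.val + x.im.val

/-- the index of a vector, from the table -/
def idxV (a b c d : K9) : Nat :=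
  Nat.land (Nat.shiftRight IT (9 * (((cd9 a * 9 + cd9 b) * 9 + cd9 c) * 9 + cd9 d))) 511

theorem PvN_iso : ∀ i : Fin 280, hn (PvN i) = 0 := by decide +kernel

/-- the shape of the points: the first nonzero coordinate is `1` -/
def Shape (a b c : K9) : Prop := a = 1 ∨ (a = 0 ∧ b = 1) ∨ (a = 0 ∧ b = 0 ∧ c = 1)

instance (a b c : K9) : Decidable (Shape a b c) := by unfold Shape; infer_instance

theorem PvN_shape : ∀ i : Fin 280, Shape (PvN i 0) (PvN i 1) (PvN i 2) := by decide +kernel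

theorem idx_PvN : ∀ i : Fin 280, idxV (PvN i 0) (PvN i 1) (PvN i 2) (PvN i 3) = i := by
  decide +kernel

theorem complete : ∀ a1 a2 b1 b2 c1 c2 d1 d2 : ZMod 3,
    Shape (⟨a1, a2⟩ : K9) ⟨b1, b2⟩ ⟨c1, c2⟩ →
    hn ![⟨a1, a2⟩, ⟨b1, b2⟩, ⟨c1, c2⟩, ⟨d1, d2⟩] = 0 →
    idxV ⟨a1, a2⟩ ⟨b1, b2⟩ ⟨c1, c2⟩ ⟨d1, d2⟩ < 280 ∧
      PvN (idxV ⟨a1, a2⟩ ⟨b1, b2⟩ ⟨c1, c2⟩ ⟨d1, d2⟩) 0 = ⟨a1, a2⟩ ∧
      PvN (idxV ⟨a1, a2⟩ ⟨b1, b2⟩ ⟨c1, c2⟩ ⟨d1, d2⟩) 1 = ⟨b1, b2⟩ ∧
      PvN (idxV ⟨a1, a2⟩ ⟨b1, b2⟩ ⟨c1, c2⟩ ⟨d1, d2⟩) 2 = ⟨c1, c2⟩ ∧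
      PvN (idxV ⟨a1, a2⟩ ⟨b1, b2⟩ ⟨c1, c2⟩ ⟨d1, d2⟩) 3 = ⟨d1, d2⟩ := by decide +kernel

theorem hn_e4 : hn ![0, 0, 0, 1] ≠ 0 := by decide +kernel

/-- the `i`-th point -/
def Pv (i : Fin 280) : Fin 4 → K9 := PvN i

/-- the vector `v` spans the `j`-th point -/
def Rel (v : Fin 4 → K9) (j : Fin 280) : Prop := ∃ c : K9, c ≠ 0 ∧ v = c • Pv j

theorem hn_smul (c : K9) (v : Fin 4 → K9) : hn (c • v) = c * star c * hn v := by
  unfold hn
  simp only [Pi.smul_apply, smul_eq_mul, star_mul]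
  ring

theorem vec4_ext {v w : Fin 4 → K9} (h0 : v 0 = w 0) (h1 : v 1 = w 1) (h2 : v 2 = w 2)
    (h3 : v 3 = w 3) : v = w := by
  funext i
  fin_cases i
  · exact h0
  · exact h1
  · exact h2
  · exact h3

theorem K9_eta (x : K9) : x = ⟨x.re, x.im⟩ := rfl

/-- a normalised isotropic vector is in the list -/
theorem exists_of_shape (w : Fin 4 → K9) (hs : Shape (w 0) (w 1) (w 2)) (hw : hn w = 0) :
    ∃ j : Fin 280, Pv j = w := by
  have e : w = ![⟨(w 0).re, (w 0).im⟩, ⟨(w 1).re, (w 1).im⟩, ⟨(w 2).re, (w 2).im⟩,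
      ⟨(w 3).re, (w 3).im⟩] := vec4_ext rfl rfl rfl rfl
  rw [e] at hw
  obtain ⟨hlt, p0, p1, p2, p3⟩ := complete _ _ _ _ _ _ _ _ hs hw
  refine ⟨⟨_, hlt⟩, ?_⟩
  exact vec4_ext p0 p1 p2 p3

theorem rel_exists (v : Fin 4 → K9) (hv : v ≠ 0) (hiso : hn v = 0) : ∃ j, Rel v j := by
  have key : ∀ c : K9, c ≠ 0 → (∃ j : Fin 280, Pv j = c⁻¹ • v) → ∃ j, Rel v j := by
    rintro c hc ⟨j, hj⟩
    refine ⟨j, c, hc, ?_⟩
    rw [hj, smul_smul, mul_inv_cancel₀ hc, one_smul]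
  have hiso' : ∀ c : K9, hn (c⁻¹ • v) = 0 := by
    intro c
    rw [hn_smul, hiso, mul_zero]
  by_cases h0 : v 0 = 0
  · by_cases h1 : v 1 = 0
    · by_cases h2 : v 2 = 0
      · have h3 : v 3 ≠ 0 := by
          intro h3
          apply hv
          exact vec4_ext h0 h1 h2 h3
        exfalso
        apply hn_e4
        have := hiso' (v 3)
        have e : (v 3)⁻¹ • v = ![0, 0, 0, 1] := by
          apply vec4_ext
          · simp [h0]
          · simp [h1]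
          · simp [h2]
          · simp [h3]
        rw [e] at this
        exact this
      · apply key (v 2) h2
        apply exists_of_shape _ _ (hiso' _)
        right; right
        refine ⟨?_, ?_, ?_⟩
        · simp [h0]
        · simp [h1]
        · simp [h2]
    · apply key (v 1) h1
      apply exists_of_shape _ _ (hiso' _)
      right; left
      refine ⟨?_, ?_⟩
      · simp [h0]
      · simp [h1]
  · apply key (v 0) h0
    apply exists_of_shape _ _ (hiso' _)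
    left
    simp [h0]

theorem Pv_inj {i j : Fin 280} (h : Pv i = Pv j) : i = j := by
  have hi := idx_PvN i
  have hj := idx_PvN j
  have h' : PvN i = PvN j := h
  rw [h'] at hi
  exact Fin.ext (hi.symm.trans hj)

theorem rel_unique {v : Fin 4 → K9} {j j' : Fin 280} (h : Rel v j) (h' : Rel v j') : j = j' := by
  obtain ⟨c, hc, rfl⟩ := h
  obtain ⟨c', hc', he⟩ := h'
  have hd : Pv j' = (c'⁻¹ * c) • Pv j := by
    rw [← smul_smul, he, smul_smul, inv_mul_cancel₀ hc', one_smul]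
  have hdne : c'⁻¹ * c ≠ 0 := mul_ne_zero (inv_ne_zero hc') hc
  set d := c'⁻¹ * c with hd'
  have h0 : Pv j' 0 = d * Pv j 0 := by rw [hd]; rfl
  have h1 : Pv j' 1 = d * Pv j 1 := by rw [hd]; rfl
  have h2 : Pv j' 2 = d * Pv j 2 := by rw [hd]; rfl
  have hd1 : d = 1 := by
    rcases PvN_shape j with s | ⟨s0, s1⟩ | ⟨s0, s1, s2⟩
    · have s' : Pv j 0 = 1 := s
      rw [s', mul_one] at h0
      rcases PvN_shape j' with t | ⟨t0, _⟩ | ⟨t0, _, _⟩
      · have t' : Pv j' 0 = 1 := t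
        rw [← h0, t']
      · have t' : Pv j' 0 = 0 := t0
        rw [t'] at h0
        exact absurd h0.symm hdne
      · have t' : Pv j' 0 = 0 := t0
        rw [t'] at h0
        exact absurd h0.symm hdne
    · have s0' : Pv j 0 = 0 := s0
      have s1' : Pv j 1 = 1 := s1
      rw [s0', mul_zero] at h0
      rw [s1', mul_one] at h1
      rcases PvN_shape j' with t | ⟨_, t1⟩ | ⟨_, t1, _⟩
      · have t' : Pv j' 0 = 1 := t
        rw [t'] at h0
        exact absurd h0 one_ne_zero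
      · have t' : Pv j' 1 = 1 := t1
        rw [← h1, t']
      · have t' : Pv j' 1 = 0 := t1
        rw [t'] at h1
        exact absurd h1.symm hdne
    · have s0' : Pv j 0 = 0 := s0
      have s1' : Pv j 1 = 0 := s1
      have s2' : Pv j 2 = 1 := s2
      rw [s0', mul_zero] at h0
      rw [s1', mul_zero] at h1
      rw [s2', mul_one] at h2
      rcases PvN_shape j' with t | ⟨_, t1⟩ | ⟨_, _, t2⟩
      · have t' : Pv j' 0 = 1 := t
        rw [t'] at h0
        exact absurd h0 one_ne_zero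
      · have t' : Pv j' 1 = 1 := t1
        rw [t'] at h1
        exact absurd h1 one_ne_zero
      · have t' : Pv j' 2 = 1 := t2
        rw [← h2, t']
  rw [hd1, one_smul] at hd
  exact (Pv_inj hd).symm

theorem rel_self (j : Fin 280) : Rel (Pv j) j := ⟨1, one_ne_zero, (one_smul _ _).symm⟩

theorem rel_smul {v : Fin 4 → K9} {j : Fin 280} (h : Rel v j) {c : K9} (hc : c ≠ 0) :
    Rel (c • v) j := by
  obtain ⟨c', hc', rfl⟩ := h
  exact ⟨c * c', mul_ne_zero hc hc', by rw [smul_smul]⟩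

theorem Pv_ne_zero (j : Fin 280) : Pv j ≠ 0 := by
  intro h
  rcases PvN_shape j with s | ⟨_, s1⟩ | ⟨_, _, s2⟩
  · have : Pv j 0 = 1 := s
    rw [h] at this
    exact zero_ne_one this
  · have : Pv j 1 = 1 := s1
    rw [h] at this
    exact zero_ne_one this
  · have : Pv j 2 = 1 := s2
    rw [h] at this
    exact zero_ne_one this

theorem Pv_iso (j : Fin 280) : hn (Pv j) = 0 := PvN_iso j

theorem mat_hn (g : Cfsg.SU 4 K9 3) (v : Fin 4 → K9) : hn (mat g *ᵥ v) = hn v := by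
  rw [← hermForm_eq_hn, ← hermForm_eq_hn]
  exact (Cfsg.Agent.Lib.H2.Spec.mem_SU_iff' g.1).1 g.2 v v

theorem mat_ne_zero (g : Cfsg.SU 4 K9 3) {v : Fin 4 → K9} (hv : v ≠ 0) : mat g *ᵥ v ≠ 0 := by
  intro h
  apply hv
  have : mat g⁻¹ *ᵥ (mat g *ᵥ v) = v := by
    rw [Matrix.mulVec_mulVec, ← mat_mul, inv_mul_cancel, mat_one, Matrix.one_mulVec]
  rw [← this, h, Matrix.mulVec_zero]

theorem act_exists (g : Cfsg.SU 4 K9 3) (i : Fin 280) : ∃ j, Rel (mat g *ᵥ Pv i) j :=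
  rel_exists _ (mat_ne_zero g (Pv_ne_zero i)) (by rw [mat_hn]; exact Pv_iso i)

/-- the action on the points -/
noncomputable def actF (g : Cfsg.SU 4 K9 3) (i : Fin 280) : Fin 280 :=
  (act_exists g i).choose

theorem actF_spec (g : Cfsg.SU 4 K9 3) (i : Fin 280) : Rel (mat g *ᵥ Pv i) (actF g i) :=
  (act_exists g i).choose_spec

theorem actF_eq {g : Cfsg.SU 4 K9 3} {i j : Fin 280} (h : Rel (mat g *ᵥ Pv i) j) :
    actF g i = j := rel_unique (actF_spec g i) h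

theorem actF_one (i : Fin 280) : actF 1 i = i := by
  apply actF_eq
  rw [mat_one, Matrix.one_mulVec]
  exact rel_self i

theorem actF_mul (g h : Cfsg.SU 4 K9 3) (i : Fin 280) : actF (g * h) i = actF g (actF h i) := by
  apply actF_eq
  obtain ⟨c, hc, he⟩ := actF_spec h i
  rw [mat_mul, ← Matrix.mulVec_mulVec, he, Matrix.mulVec_smul]
  exact rel_smul (actF_spec g _) hc

noncomputable instance actInst : MulAction (Cfsg.SU 4 K9 3) (Fin 280) where
  smul := actF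
  one_smul := actF_one
  mul_smul := actF_mul

/-- the permutation representation -/
noncomputable def rho : Cfsg.SU 4 K9 3 →* Equiv.Perm (Fin 280) :=
  MulAction.toPermHom (Cfsg.SU 4 K9 3) (Fin 280)

theorem rho_apply (g : Cfsg.SU 4 K9 3) (i : Fin 280) : rho g i = actF g i := rfl

/-- scalar matrices act trivially -/
theorem rho_of_scalar {g : Cfsg.SU 4 K9 3} {l : K9} (hl : l ≠ 0)
    (h : mat g = l • (1 : Matrix (Fin 4) (Fin 4) K9)) : rho g = 1 := by
  ext i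
  rw [rho_apply, Equiv.Perm.one_apply]
  congr 1
  apply actF_eq
  rw [h, Matrix.smul_mulVec, Matrix.one_mulVec]
  exact rel_smul (rel_self i) hl

end Cfsg.Agent.Lib.H27.U43
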