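import Mathlib
import Cfsg.Agent.Lib.H27.U43Data

/-!
# Matrices commuting with `Y1` are polynomials in `Y1`
-/

set_option autoImplicit false

namespace Cfsg.Agent.Lib.H27.U43

open Matrix Cfsg.Agent.Lib.H2.Spec

theorem Y3_eq' : Y3 = Y1 * Y2 := by rw [Y3_eq, Y2_eq, mul_assoc]

theorem commute_Ypow4 (H : Matrix (Fin 4) (Fin 4) K9) (hH : H * Y1 = Y1 * H) :
    ∀ k : Fin 4, H * Ypow4 k = Ypow4 k * H := by
  have h2 : H * Y2 = Y2 * H := by
    rw [Y2_eq, ← mul_assoc, hH, mul_assoc, hH, mul_assoc]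
  have h3 : H * Y3 = Y3 * H := by
    rw [Y3_eq', ← mul_assoc, hH, mul_assoc, h2, mul_assoc]
  intro k
  fin_cases k
  · show H * 1 = 1 * H
    rw [mul_one, one_mul]
  · exact hH
  · exact h2
  · exact h3

/-- Every matrix commuting with `Y1` is a polynomial of degree `< 4` in `Y1`. -/
theorem poly_of_commute (H : Matrix (Fin 4) (Fin 4) K9) (hH : H * Y1 = Y1 * H) :
    ∃ c : Fin 4 → K9, H = c 0 • (1 : Matrix (Fin 4) (Fin 4) K9) + c 1 • Y1 + c 2 • Y2 + c 3 • Y3 := by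
  set c : Fin 4 → K9 := Binv *ᵥ (H *ᵥ e0) with hc
  refine ⟨c, ?_⟩
  set M : Matrix (Fin 4) (Fin 4) K9 := c 0 • (1 : Matrix (Fin 4) (Fin 4) K9) + c 1 • Y1 + c 2 • Y2 + c 3 • Y3
    with hM
  have hMsum : M = ∑ k : Fin 4, c k • Ypow4 k := by
    rw [Fin.sum_univ_four, hM]
    rfl
  have hMY : M * Y1 = Y1 * M := by
    rw [hMsum, Finset.sum_mul, Finset.mul_sum]
    apply Finset.sum_congr rfl
    intro k _
    rw [Matrix.smul_mul, Matrix.mul_smul]
    congr 1
    have := commute_Ypow4 Y1 rfl k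
    exact this.symm
  have hBc : Bm *ᵥ c = H *ᵥ e0 := by
    rw [hc, Matrix.mulVec_mulVec, Bm_mul_Binv, Matrix.one_mulVec]
  have hMe : M *ᵥ e0 = Bm *ᵥ c := by
    funext j
    rw [hMsum]
    simp only [Matrix.mulVec, dotProduct, Matrix.sum_apply, Matrix.smul_apply, smul_eq_mul,
      Finset.sum_mul]
    rw [Finset.sum_comm]
    apply Finset.sum_congr rfl
    intro k _
    rw [Bm_col k j]
    simp only [Matrix.mulVec, dotProduct]
    rw [Finset.sum_mul]
    apply Finset.sum_congr rfl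
    intro i _
    ring
  have hDe : (H - M) *ᵥ e0 = 0 := by
    rw [Matrix.sub_mulVec, hMe, hBc, sub_self]
  have hDY : (H - M) * Y1 = Y1 * (H - M) := by
    rw [Matrix.sub_mul, Matrix.mul_sub, hH, hMY]
  have hDB : (H - M) * Bm = 0 := by
    apply Matrix.ext
    intro j k
    have h1 := commute_Ypow4 (H - M) hDY k
    have h2 : ((H - M) * Bm) j k = ((H - M) *ᵥ (Ypow4 k *ᵥ e0)) j := by
      simp only [Matrix.mul_apply, Matrix.mulVec, dotProduct]
      apply Finset.sum_congr rfl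
      intro i _
      rw [Bm_col k i]
      simp only [Matrix.mulVec, dotProduct]
    rw [h2, Matrix.mulVec_mulVec, h1, ← Matrix.mulVec_mulVec, hDe, Matrix.mulVec_zero]
    rfl
  have hD0 : H - M = 0 := by
    calc H - M = (H - M) * (Bm * Binv) := by rw [Bm_mul_Binv, mul_one]
      _ = 0 := by rw [← mul_assoc, hDB, zero_mul]
  exact sub_eq_zero.1 hD0

/-- Unitary matrices of determinant 1 commuting with `Y1` are the `i^j Y1^k`. -/
theorem cent_form (H : Matrix (Fin 4) (Fin 4) K9) (hH : H * Y1 = Y1 * H)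
    (hU : Hᵀ * H.map star = 1) (hdet : H.det = 1) :
    ∃ j : Fin 4, ∃ k : Fin 7, H = (ι9 ^ (j : ℕ)) • Y1 ^ (k : ℕ) := by
  obtain ⟨c, hc⟩ := poly_of_commute H hH
  have key := brute (c 0).re (c 0).im (c 1).re (c 1).im (c 2).re (c 2).im (c 3).re (c 3).im
  have hc' : H = pol (c 0).re (c 0).im (c 1).re (c 1).im (c 2).re (c 2).im (c 3).re (c 3).im := hc
  rw [← hc'] at key
  obtain ⟨j, k, hjk⟩ := key hU hdet
  exact ⟨j, k, by rw [hjk, Ypow_eq]⟩

end Cfsg.Agent.Lib.H27.U43
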