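import Mathlib
import Cfsg.Agent.Lib.H2.Unitary4
import Cfsg.Agent.Lib.H2.Unitary6
import Cfsg.Agent.Lib.H27.U43Grp
import Cfsg.Agent.Lib.H27.U43Lin

/-!
# `PSU₄(3)`: subgroups of order 7 have normalizer of order 21 and are self-centralizing
-/

set_option autoImplicit false

namespace Cfsg.Agent.Lib.H27.U43

open Matrix hiding SpecialLinearGroup
open Matrix (SpecialLinearGroup)
open Cfsg.Agent.Lib.H2.Spec Cfsg.Agent.Lib.H2.Unitary

theorem mem_SU4_of_dec (g : SpecialLinearGroup (Fin 4) K9)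
    (h : (g : Matrix (Fin 4) (Fin 4) K9)ᵀ * (g : Matrix (Fin 4) (Fin 4) K9).map star = 1) :
    g ∈ Cfsg.SU 4 K9 3 :=
  (mem_SU_iff_mul (starRingEnd K9) K9_star_eq_pow g).2 h

theorem unitary_of_mem (g : SpecialLinearGroup (Fin 4) K9) (hg : g ∈ Cfsg.SU 4 K9 3) :
    (g : Matrix (Fin 4) (Fin 4) K9)ᵀ * (g : Matrix (Fin 4) (Fin 4) K9).map star = 1 :=
  (mem_SU_iff_mul (starRingEnd K9) K9_star_eq_pow g).1 hg

/-- The underlying matrix. -/
def mat (g : Cfsg.SU 4 K9 3) : Matrix (Fin 4) (Fin 4) K9 :=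
  ((g : SpecialLinearGroup (Fin 4) K9) : Matrix (Fin 4) (Fin 4) K9)

theorem mat_mul (a b : Cfsg.SU 4 K9 3) : mat (a * b) = mat a * mat b := by
  simp [mat]

theorem mat_one : mat 1 = 1 := by simp [mat]

theorem mat_pow (a : Cfsg.SU 4 K9 3) (k : ℕ) : mat (a ^ k) = mat a ^ k := by
  simp [mat]

theorem mat_injective : Function.Injective mat := by
  intro a b h
  exact Subtype.ext (Subtype.ext h)

theorem mat_det (a : Cfsg.SU 4 K9 3) : (mat a).det = 1 := (a : SpecialLinearGroup (Fin 4) K9).2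

theorem mat_unitary (a : Cfsg.SU 4 K9 3) : (mat a)ᵀ * (mat a).map star = 1 :=
  unitary_of_mem _ a.2

def yS : SpecialLinearGroup (Fin 4) K9 := ⟨Y1, Y1_det⟩
def nS : SpecialLinearGroup (Fin 4) K9 := ⟨N0, N0_det⟩
def y0 : Cfsg.SU 4 K9 3 := ⟨yS, mem_SU4_of_dec yS Y1_unitary⟩
def n0 : Cfsg.SU 4 K9 3 := ⟨nS, mem_SU4_of_dec nS N0_unitary⟩

theorem mat_y0 : mat y0 = Y1 := rfl
theorem mat_n0 : mat n0 = N0 := rfl

theorem y0_pow7 : y0 ^ 7 = 1 := by
  apply mat_injective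
  rw [mat_pow, mat_y0, mat_one, Y1_pow7]

theorem y0_ne_one : y0 ≠ 1 := by
  intro h
  have := congrArg mat h
  rw [mat_y0, mat_one] at this
  exact Y1_ne_one this

theorem n0_conj : n0 * y0 * n0⁻¹ = y0 ^ 2 := by
  rw [mul_inv_eq_iff_eq_mul]
  apply mat_injective
  rw [mat_mul, mat_mul, mat_pow, mat_y0, mat_n0, N0_conj]

theorem card_K9' : Fintype.card K9 = 3 ^ 2 := by rw [card_K9]; norm_num

theorem center_pow4 : ∀ z ∈ Subgroup.center (Cfsg.SU 4 K9 3), z ^ 4 = 1 := by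
  have hcard : Nat.card (Subgroup.center (Cfsg.SU 4 K9 3)) = 4 := by
    rw [card_center_SU card_K9' (by norm_num)]
    rfl
  intro z hz
  have h := pow_card_eq_one' (G := Subgroup.center (Cfsg.SU 4 K9 3)) (x := ⟨z, hz⟩)
  rw [hcard] at h
  exact congrArg Subtype.val h

theorem card_PSU43 : Nat.card (Cfsg.SU 4 K9 3 ⧸ Subgroup.center (Cfsg.SU 4 K9 3)) = 3265920 := by
  have h1 := card_SU_mul (F := K9) (q := 3) (n := 4) card_K9' (by norm_num)
  have h2 : ordGU 3 4 = 52254720 := by decide +kernel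
  rw [h2] at h1
  have h3 := Subgroup.card_eq_card_quotient_mul_card_subgroup
    (Subgroup.center (Cfsg.SU 4 K9 3))
  have hcard : Nat.card (Subgroup.center (Cfsg.SU 4 K9 3)) = 4 := by
    rw [card_center_SU card_K9' (by norm_num)]
    rfl
  rw [hcard] at h3
  omega

theorem cent_y0 (h : Cfsg.SU 4 K9 3) (hc : Commute h y0) :
    ∃ z ∈ Subgroup.center (Cfsg.SU 4 K9 3), ∃ k : ℕ, h = z * y0 ^ k := by
  have h1 : mat h * Y1 = Y1 * mat h := by
    have := congrArg mat hc.eq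
    rwa [mat_mul, mat_mul, mat_y0] at this
  obtain ⟨j, k, hjk⟩ := cent_form (mat h) h1 (mat_unitary h) (mat_det h)
  set l : K9ˣ := (Units.mk0 ι9 iota_ne_zero) ^ (j : ℕ) with hl
  have hlv : (l : K9) = ι9 ^ (j : ℕ) := by
    rw [hl, Units.val_pow_eq_pow_val, Units.val_mk0]
  have hl4 : (l : K9) ^ 4 = 1 := by
    rw [hlv, ← pow_mul, mul_comm, pow_mul, iota_pow4, one_pow]
  have hl4' : (l : K9) * (l : K9) ^ 3 = 1 := by
    rw [← pow_succ', hl4]
  refine ⟨scSU l hl4 hl4', scSU_mem_center l hl4 hl4', (k : ℕ), ?_⟩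
  apply mat_injective
  rw [mat_mul, mat_pow, mat_y0, hjk]
  have : mat (scSU l hl4 hl4') = (l : K9) • (1 : Matrix (Fin 4) (Fin 4) K9) := scSU_val l hl4 hl4'
  rw [this, Matrix.smul_mul, one_mul, hlv]

theorem not_inv_y0 (h : Cfsg.SU 4 K9 3) : h * y0 * h⁻¹ ≠ y0⁻¹ := by
  intro heq
  have h1 : h * y0 * h⁻¹ * y0 = 1 := by rw [heq, inv_mul_cancel]
  have h2 : mat h * Y1 * mat h⁻¹ * Y1 = 1 := by
    have := congrArg mat h1
    rwa [mat_mul, mat_mul, mat_mul, mat_y0, mat_one] at this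
  have h3 : mat h⁻¹ * mat h = 1 := by
    rw [← mat_mul, inv_mul_cancel, mat_one]
  have h4 : mat h * Y1 * mat h⁻¹ = Y6 := by
    calc mat h * Y1 * mat h⁻¹ = mat h * Y1 * mat h⁻¹ * (Y1 * Y6) := by rw [Y1_mul_Y6, mul_one]
      _ = (mat h * Y1 * mat h⁻¹ * Y1) * Y6 := by rw [mul_assoc (mat h * Y1 * mat h⁻¹)]
      _ = Y6 := by rw [h2, one_mul]
  have h5 : Matrix.trace Y6 = Matrix.trace Y1 := by
    rw [← h4, Matrix.trace_mul_comm, ← mul_assoc, h3, one_mul]
  exact trace_ne h5.symm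

theorem P21_K9 : P21 (Cfsg.PSU 4 K9 3) := by
  have : Finite (Cfsg.SU 4 K9 3) := by
    apply Nat.finite_of_card_ne_zero
    have h1 := card_SU_mul (F := K9) (q := 3) (n := 4) card_K9' (by norm_num)
    have h2 : ordGU 3 4 = 52254720 := by decide +kernel
    rw [h2] at h1
    omega
  apply P21_quot_center (S := Cfsg.SU 4 K9 3) ?_ center_pow4 y0 n0 y0_pow7 y0_ne_one n0_conj
    cent_y0 not_inv_y0
  rw [card_PSU43]
  norm_num

theorem center_map_equiv' {A B : Type*} [Group A] [Group B] (e : A ≃* B) :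
    (Subgroup.center A).map e.toMonoidHom = Subgroup.center B := by
  ext x
  rw [Subgroup.mem_map, Subgroup.mem_center_iff]
  constructor
  · rintro ⟨a, ha, rfl⟩ g
    obtain ⟨b, rfl⟩ := e.surjective g
    have := Subgroup.mem_center_iff.1 ha b
    show e b * e a = e a * e b
    rw [← map_mul, ← map_mul, this]
  · intro hx
    refine ⟨e.symm x, ?_, e.apply_symm_apply x⟩
    rw [Subgroup.mem_center_iff]
    intro g
    apply e.injective
    rw [map_mul, map_mul, e.apply_symm_apply]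
    exact hx (e g)

theorem P21_PSU43 (K : Type) [Field K] [Fintype K] (hK : Fintype.card K = 9) :
    P21 (Cfsg.PSU 4 K 3) := by
  have e : K ≃+* K9 := FiniteField.ringEquivOfCardEq (hK.trans card_K9.symm)
  have E : Cfsg.SU 4 K 3 ≃* Cfsg.SU 4 K9 3 := suEquiv e 4 3
  have E' : Cfsg.PSU 4 K 3 ≃* Cfsg.PSU 4 K9 3 :=
    QuotientGroup.congr _ _ E (center_map_equiv' E)
  exact P21_of_mulEquiv E' P21_K9

end Cfsg.Agent.Lib.H27.U43
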