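import Cfsg.Agent.Lib.H27.U62D

/-!
# Certificate data for `PSU₆(2)` on the 693 isotropic points: level 3 of the stabiliser chain

Generated by `scripts/u62/emitK.py`.
-/

set_option autoImplicit false

namespace Cfsg.Agent.Lib.H27.U62

open Cfsg.Agent.Lib.H27.LatW Cfsg.Agent.Lib.H27.PermK

def W3T : Nat :=
  0x113cf4808208a090113cf45002282279e00004513c002491e780000045000000002400123d24800007a478123d241000082289e00114104a28a0822781141045000002482403d24923c002482284114123cf0247a282403d24904a082289e780f4504120228a282000114114000008a0900049241000002089e000044f48082089e7c1141044f00079e8a000003cf480822824900f3d23cf00091e91e04124923c082289e781044f44f00002491e045144f3c001e89e78113d23cf91e7a479e04923d23c001e91e781048f48f01e8a289e001048f3c001e8a0801045144f00000091e03d13d23c089e89e780041141200091e8a0000048f48002282490104123cf0000228200492411400024920948f49248f0249248200000411400000020900041145000000002000000124800208247800451412000024820000f490400000824780044f48f00000079e00123d13c08a28a2780f4504500007a282403d249040082289e948f45144f0247a479e04923d140002491e900f4513d202491e7a400114113c002289e900000f4500000007a4045045048089e8a0845045144f02282479e000f3d248001e8a2800000000f00089e89e00124923c002289e7bd14123cf02482479e048f45040002479e901145044f02479e8a0001241048002082278004113d200002279e00003d13c092492478000104920208228a0000001040000002278003d13d200082279e04504113c002082280000104128a082479e00114504008a2824900045144f00002479e04923d13c08a279e949248f4500249247a400003d24800008a28000000000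

def W3 (j : Nat) : Nat :=
  Nat.land (Nat.shiftRight W3T (Nat.mul 35 j)) 34359738367

def I3L : List Nat := [16, 20, 24, 26, 30, 34, 36, 40, 44, 52, 56, 60, 62, 66, 70, 72, 76, 80, 82, 86, 90, 110, 114, 118, 138, 142, 146, 172, 176, 180, 182, 186, 190, 192, 196, 200, 202, 206, 210, 230, 234, 238, 258, 262, 266, 286, 290, 294, 320, 324, 328, 330, 334, 338, 340, 344, 348, 356, 360, 364, 366, 370, 374, 376, 380, 384, 392, 396, 400, 402, 406, 410, 412, 416, 420, 422, 426, 430, 456, 460, 464, 466, 470, 474, 476, 480, 484, 492, 496, 500, 502, 506, 510, 512, 516, 520, 528, 532, 536, 538, 542, 546, 548, 552, 556, 558, 562, 566, 592, 596, 600, 602, 606, 610, 612, 616, 620, 628, 632, 636, 638, 642, 646, 648, 652, 656, 664, 668, 672, 674, 678, 682, 684, 688, 692]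

theorem level3_ok : chkLevel 24 pd.GT [0, 1] 16 W3 I3L = true := by decide +kernel

theorem I3L_nodup : I3L.Nodup := nodup_of_incr (by decide +kernel)

theorem I3L_length : I3L.length = 135 := by decide +kernel

end Cfsg.Agent.Lib.H27.U62
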