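import Cfsg.Agent.Lib.H27.U62D

/-!
# Certificate data for `PSU₆(2)` on the 693 isotropic points: level 4 of the stabiliser chain

Generated by `scripts/u62/emitK.py`.
-/

set_option autoImplicit false

namespace Cfsg.Agent.Lib.H27.U62

open Cfsg.Agent.Lib.H27.LatW Cfsg.Agent.Lib.H27.PermK

def W4T : Nat :=
  0x2a9a60000540028b0005159aa9a734d54c0000b0165150269ac05154c00269813553000aa604d554002aa8004d6000b2605164c0aa6b5555150009aa0016500000a01551502c9ac04d35400009814555a2a9a604d652aa2a9800000

def W4 (j : Nat) : Nat :=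
  Nat.land (Nat.shiftRight W4T (Nat.mul 23 j)) 8388607

def I4L : List Nat := [3, 9, 99, 104, 121, 131, 148, 153, 219, 224, 241, 251, 268, 273, 295, 302, 309, 313, 350, 387, 431, 438, 445, 449, 486, 523, 567, 574, 581, 585, 622, 659]

theorem level4_ok : chkLevel 24 pd.GT [0, 1, 16] 3 W4 I4L = true := by decide +kernel

theorem I4L_nodup : I4L.Nodup := nodup_of_incr (by decide +kernel)

theorem I4L_length : I4L.length = 32 := by decide +kernel

end Cfsg.Agent.Lib.H27.U62
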