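import Cfsg.Agent.Lib.H27.U62D

/-!
# Certificate data for `PSU₆(2)` on the 693 isotropic points: level 5 of the stabiliser chain

Generated by `scripts/u62/emitK.py`.
-/

set_option autoImplicit false

namespace Cfsg.Agent.Lib.H27.U62

open Cfsg.Agent.Lib.H27.LatW Cfsg.Agent.Lib.H27.PermK

def W5T : Nat :=
  0x2ec2e0018000b8185c0bb00000

def W5 (j : Nat) : Nat :=
  Nat.land (Nat.shiftRight W5T (Nat.mul 17 j)) 131071

def I5L : List Nat := [45, 46, 47, 165, 166, 167]

theorem level5_ok : chkLevel 24 pd.GT [0, 1, 16, 3] 45 W5 I5L = true := by decide +kernel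

theorem I5L_nodup : I5L.Nodup := nodup_of_incr (by decide +kernel)

theorem I5L_length : I5L.length = 6 := by decide +kernel

end Cfsg.Agent.Lib.H27.U62
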