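import Cfsg.Agent.Lib.H27.U62G
import Cfsg.Agent.Lib.H27.U62D1
import Cfsg.Agent.Lib.H27.U62D2
import Cfsg.Agent.Lib.H27.U62D3
import Cfsg.Agent.Lib.H27.U62D4
import Cfsg.Agent.Lib.H27.U62D5
import Cfsg.Agent.Lib.H2.Unitary4
import Cfsg.Agent.Lib.H2.Unitary6

/-!
# `PSU₆(2)` is isomorphic to the permutation group generated by the generator permutations,
which has order `9196830720`
-/

set_option autoImplicit false

namespace Cfsg.Agent.Lib.H27.U62

open Matrix hiding SpecialLinearGroup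
open Matrix (SpecialLinearGroup)
open Cfsg.Agent.Lib.H27.LatW Cfsg.Agent.Lib.H27.PermK Cfsg.Agent.Lib.H2.Spec
open Cfsg.Agent.Lib.H2.Unitary
open Cfsg.Agent.Lib.H3.F4 Cfsg.Agent.Lib.H3.F4.F4

theorem center_le_ker : Subgroup.center (Cfsg.SU 6 F4 2) ≤ rho.ker := by
  intro x hx
  obtain ⟨l, h1, h2, rfl⟩ := Cfsg.Agent.Lib.H2.Unitary.center_scalar (F := F4) (q := 2) (n := 6)
    card_F4' (by norm_num) x hx
  rw [MonoidHom.mem_ker]
  exact rho_of_scalar l.ne_zero (Cfsg.Agent.Lib.H2.Unitary.scSU_val l h1 h2)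

/-- the induced homomorphism on `PSU₆(2)` -/
noncomputable def rhoBar : Cfsg.PSU 6 F4 2 →* Equiv.Perm (Fin 693) :=
  QuotientGroup.lift (Subgroup.center (Cfsg.SU 6 F4 2)) rho center_le_ker

theorem card_PSUc : Nat.card (Cfsg.PSU 6 F4 2) = 9196830720 := by
  have h1 := card_SU_mul (F := F4) (q := 2) (n := 6) card_F4' (by norm_num)
  have h2 : ordGU 2 6 = 82771476480 := by decide +kernel
  rw [h2] at h1
  have h3 := Subgroup.card_eq_card_quotient_mul_card_subgroup
    (Subgroup.center (Cfsg.SU 6 F4 2))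
  have hcard : Nat.card (Subgroup.center (Cfsg.SU 6 F4 2)) = 3 := by
    rw [card_center_SU card_F4' (by norm_num)]
    rfl
  rw [hcard] at h3
  show Nat.card (Cfsg.SU 6 F4 2 ⧸ Subgroup.center (Cfsg.SU 6 F4 2)) = 9196830720
  omega

theorem G_le_range : pd.G ≤ rhoBar.range := by
  unfold PD.G
  rw [Subgroup.closure_le]
  rintro σ ⟨d, hd, rfl⟩
  have i0 : pd.bp 3 = (pd.bp 0)⁻¹ := pd.bp_linv (d := 0) (by norm_num)
  have i1 : pd.bp 4 = (pd.bp 1)⁻¹ := pd.bp_linv (d := 1) (by norm_num)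
  have i2 : pd.bp 5 = (pd.bp 2)⁻¹ := pd.bp_linv (d := 2) (by norm_num)
  have m0 : pd.bp 0 ∈ rhoBar.range := ⟨QuotientGroup.mk gG0, by rw [← rho_gG0]; rfl⟩
  have m1 : pd.bp 1 ∈ rhoBar.range := ⟨QuotientGroup.mk gG1, by rw [← rho_gG1]; rfl⟩
  have m2 : pd.bp 2 ∈ rhoBar.range := ⟨QuotientGroup.mk gG2, by rw [← rho_gG2]; rfl⟩
  have h6 : d = 0 ∨ d = 1 ∨ d = 2 ∨ d = 3 ∨ d = 4 ∨ d = 5 := by omega
  rcases h6 with rfl | rfl | rfl | rfl | rfl | rfl
  · exact m0
  · exact m1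
  · exact m2
  · rw [SetLike.mem_coe, i0]; exact rhoBar.range.inv_mem m0
  · rw [SetLike.mem_coe, i1]; exact rhoBar.range.inv_mem m1
  · rw [SetLike.mem_coe, i2]; exact rhoBar.range.inv_mem m2

theorem card_G_ge : 9196830720 ≤ Nat.card pd.G := by
  have h1 := pd.level [] 0 W1 I1L I1L_nodup level1_ok
  have h2 := pd.level [0] 1 W2 I2L I2L_nodup level2_ok
  have h3 := pd.level [0, 1] 16 W3 I3L I3L_nodup level3_ok
  have h4 := pd.level [0, 1, 16] 3 W4 I4L I4L_nodup level4_ok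
  have h5 := pd.level [0, 1, 16, 3] 45 W5 I5L I5L_nodup level5_ok
  rw [I1L_length, stabL_nil] at h1
  rw [I2L_length] at h2
  rw [I3L_length] at h3
  rw [I4L_length] at h4
  rw [I5L_length] at h5
  have h6 : 0 < Nat.card (stabL pd.G ([0, 1, 16, 3] ++ [45])) := Nat.card_pos
  have e1 : ([] : List (Fin 693)) ++ [0] = [0] := rfl
  have e2 : ([0] : List (Fin 693)) ++ [1] = [0, 1] := rfl
  have e3 : ([0, 1] : List (Fin 693)) ++ [16] = [0, 1, 16] := rfl
  have e4 : ([0, 1, 16] : List (Fin 693)) ++ [3] = [0, 1, 16, 3] := rfl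
  rw [e1] at h1
  rw [e2] at h2
  rw [e3] at h3
  rw [e4] at h4
  nlinarith

theorem card_range_le : Nat.card rhoBar.range ≤ 9196830720 := by
  rw [← card_PSUc]
  exact Nat.card_le_card_of_surjective _ rhoBar.rangeRestrict_surjective

instance finite_PSUc : Finite (Cfsg.PSU 6 F4 2) :=
  Nat.finite_of_card_ne_zero (by rw [card_PSUc]; norm_num)

theorem G_eq_range : pd.G = rhoBar.range := by
  apply Subgroup.eq_of_le_of_card_ge G_le_range
  exact card_range_le.trans card_G_ge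

theorem card_G : Nat.card pd.G = 9196830720 := by
  apply le_antisymm
  · rw [G_eq_range]; exact card_range_le
  · exact card_G_ge

theorem rhoBar_injective : Function.Injective rhoBar := by
  have hs : Function.Surjective rhoBar.rangeRestrict := rhoBar.rangeRestrict_surjective
  have hb : Function.Bijective rhoBar.rangeRestrict := by
    rw [Nat.bijective_iff_surjective_and_card]
    refine ⟨hs, ?_⟩
    rw [card_PSUc, ← G_eq_range, card_G]
  intro a b hab
  apply hb.1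
  exact Subtype.ext hab

/-- `PSU₆(2) ≅ G` -/
noncomputable def isoG : Cfsg.PSU 6 F4 2 ≃* pd.G :=
  (MonoidHom.ofInjective rhoBar_injective).trans (MulEquiv.subgroupCongr G_eq_range.symm)

end Cfsg.Agent.Lib.H27.U62
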