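import Cfsg.Agent.Lib.H27.U62K
import Cfsg.Agent.Lib.H27.U62D

/-!
# Generators of `SU₆(2)` and their permutations of the 693 isotropic points
-/

set_option autoImplicit false

namespace Cfsg.Agent.Lib.H27.U62

open Matrix hiding SpecialLinearGroup
open Matrix (SpecialLinearGroup)
open Cfsg.Agent.Lib.H27.LatW Cfsg.Agent.Lib.H27.PermK Cfsg.Agent.Lib.H2.Spec
open Cfsg.Agent.Lib.H3.F4 Cfsg.Agent.Lib.H3.F4.F4

/-- the generator letters -/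
def gG0 : Cfsg.SU 6 F4 2 := ⟨⟨MG0, by decide +kernel⟩, mem_SU6_of_dec _ (by decide +kernel)⟩
def gG1 : Cfsg.SU 6 F4 2 := ⟨⟨MG1, by decide +kernel⟩, mem_SU6_of_dec _ (by decide +kernel)⟩
def gG2 : Cfsg.SU 6 F4 2 := ⟨⟨MG2, by decide +kernel⟩, mem_SU6_of_dec _ (by decide +kernel)⟩

/-- explicit matrix-vector product -/
def mv (M : Matrix (Fin 6) (Fin 6) F4) (v : Fin 6 → F4) : Fin 6 → F4 := fun i =>
  M i 0 * v 0 + M i 1 * v 1 + M i 2 * v 2 + M i 3 * v 3 + M i 4 * v 4 + M i 5 * v 5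

theorem mulVec_eq_mv (M : Matrix (Fin 6) (Fin 6) F4) (v : Fin 6 → F4) : M *ᵥ v = mv M v := by
  funext i
  simp [mv, Matrix.mulVec, dotProduct, Fin.sum_univ_six]

theorem gen0_ok : ∀ i : Fin 693, cL0.getD i 0 ≠ 0 ∧
    (∀ k : Fin 6, mv MG0 (PvN i) k = cL0.getD i 0 * PvN (lk GT 0 i) k) := by decide +kernel
theorem gen1_ok : ∀ i : Fin 693, cL1.getD i 0 ≠ 0 ∧
    (∀ k : Fin 6, mv MG1 (PvN i) k = cL1.getD i 0 * PvN (lk GT 1 i) k) := by decide +kernel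
theorem gen2_ok : ∀ i : Fin 693, cL2.getD i 0 ≠ 0 ∧
    (∀ k : Fin 6, mv MG2 (PvN i) k = cL2.getD i 0 * PvN (lk GT 2 i) k) := by decide +kernel

theorem rho_eq_bp {g : Cfsg.SU 6 F4 2} {M : Matrix (Fin 6) (Fin 6) F4} (hM : mat g = M)
    {cL : List F4} {d : Nat} (hd : d < 24)
    (h : ∀ i : Fin 693, cL.getD i 0 ≠ 0 ∧
      (∀ k : Fin 6, mv M (PvN i) k = cL.getD i 0 * PvN (lk GT d i) k)) : rho g = pd.bp d := by
  ext i
  rw [rho_apply]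
  congr 1
  apply actF_eq
  refine ⟨cL.getD i 0, (h i).1, ?_⟩
  rw [hM, mulVec_eq_mv]
  funext k
  have : ((pd.bp d i : Fin 693) : Nat) = lk GT d i := pd.bp_apply hd i
  show mv M (PvN i) k = cL.getD i 0 * PvN (pd.bp d i : Fin 693) k
  rw [(h i).2 k, this]

theorem rho_gG0 : rho gG0 = pd.bp 0 := rho_eq_bp rfl (by norm_num) gen0_ok
theorem rho_gG1 : rho gG1 = pd.bp 1 := rho_eq_bp rfl (by norm_num) gen1_ok
theorem rho_gG2 : rho gG2 = pd.bp 2 := rho_eq_bp rfl (by norm_num) gen2_ok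

end Cfsg.Agent.Lib.H27.U62
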