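import Cfsg.Agent.Lib.H27.U62HSData0

/-!
# Checks of the data of `Lib/H27/U62HSData0` (the action of the word 2)

Generated by `scripts/u62/emitL.py`.
-/

set_option autoImplicit false
set_option maxRecDepth 1000000

namespace Cfsg.Agent.Lib.H27.U62HSData

open Cfsg.Agent.Lib.H27.Eng Cfsg.Agent.Lib.H27.PermK Cfsg.Agent.Lib.H27.U62 Cfsg.Agent.Lib.H27.LatW
open Cfsg.Agent.Lib.H28 Cfsg.Agent.Lib.H27.U62LData

theorem act2_ok0 : allLt 99 (fun i =>
    decide (actWord w2 (yv (Nat.add i 0)) = yv (lk GTL 2 (Nat.add i 0)))) = true := by
  decide +kernel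

theorem act2_ok1 : allLt 99 (fun i =>
    decide (actWord w2 (yv (Nat.add i 99)) = yv (lk GTL 2 (Nat.add i 99)))) = true := by
  decide +kernel

theorem act2_ok2 : allLt 99 (fun i =>
    decide (actWord w2 (yv (Nat.add i 198)) = yv (lk GTL 2 (Nat.add i 198)))) = true := by
  decide +kernel

theorem act2_ok3 : allLt 99 (fun i =>
    decide (actWord w2 (yv (Nat.add i 297)) = yv (lk GTL 2 (Nat.add i 297)))) = true := by
  decide +kernel

theorem act2_ok4 : allLt 99 (fun i =>
    decide (actWord w2 (yv (Nat.add i 396)) = yv (lk GTL 2 (Nat.add i 396)))) = true := by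
  decide +kernel

theorem act2_ok5 : allLt 99 (fun i =>
    decide (actWord w2 (yv (Nat.add i 495)) = yv (lk GTL 2 (Nat.add i 495)))) = true := by
  decide +kernel

theorem act2_ok6 : allLt 99 (fun i =>
    decide (actWord w2 (yv (Nat.add i 594)) = yv (lk GTL 2 (Nat.add i 594)))) = true := by
  decide +kernel

theorem act2_ok7 : allLt 99 (fun i =>
    decide (actWord w2 (yv (Nat.add i 693)) = yv (lk GTL 2 (Nat.add i 693)))) = true := by
  decide +kernel

theorem act2_ok8 : allLt 99 (fun i =>
    decide (actWord w2 (yv (Nat.add i 792)) = yv (lk GTL 2 (Nat.add i 792)))) = true := by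
  decide +kernel

theorem act2_ok : ∀ a < 891, actWord w2 (yv a) = yv (lk GTL 2 a) := by
  intro a ha
  by_cases h0 : a < 99
  · have := allLt_spec act2_ok0 (a - 0) (by omega)
    have e : Nat.add (a - 0) 0 = a := by show a - 0 + 0 = a; omega
    rw [e] at this
    exact of_decide_eq_true this
  by_cases h1 : a < 198
  · have := allLt_spec act2_ok1 (a - 99) (by omega)
    have e : Nat.add (a - 99) 99 = a := by show a - 99 + 99 = a; omega
    rw [e] at this
    exact of_decide_eq_true this
  by_cases h2 : a < 297
  · have := allLt_spec act2_ok2 (a - 198) (by omega)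
    have e : Nat.add (a - 198) 198 = a := by show a - 198 + 198 = a; omega
    rw [e] at this
    exact of_decide_eq_true this
  by_cases h3 : a < 396
  · have := allLt_spec act2_ok3 (a - 297) (by omega)
    have e : Nat.add (a - 297) 297 = a := by show a - 297 + 297 = a; omega
    rw [e] at this
    exact of_decide_eq_true this
  by_cases h4 : a < 495
  · have := allLt_spec act2_ok4 (a - 396) (by omega)
    have e : Nat.add (a - 396) 396 = a := by show a - 396 + 396 = a; omega
    rw [e] at this
    exact of_decide_eq_true this
  by_cases h5 : a < 594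
  · have := allLt_spec act2_ok5 (a - 495) (by omega)
    have e : Nat.add (a - 495) 495 = a := by show a - 495 + 495 = a; omega
    rw [e] at this
    exact of_decide_eq_true this
  by_cases h6 : a < 693
  · have := allLt_spec act2_ok6 (a - 594) (by omega)
    have e : Nat.add (a - 594) 594 = a := by show a - 594 + 594 = a; omega
    rw [e] at this
    exact of_decide_eq_true this
  by_cases h7 : a < 792
  · have := allLt_spec act2_ok7 (a - 693) (by omega)
    have e : Nat.add (a - 693) 693 = a := by show a - 693 + 693 = a; omega
    rw [e] at this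
    exact of_decide_eq_true this
  have := allLt_spec act2_ok8 (a - 792) (by omega)
  have e : Nat.add (a - 792) 792 = a := by show a - 792 + 792 = a; omega
  rw [e] at this
  exact of_decide_eq_true this

theorem compat2 : allLt 693 (fun x => forceNat (mkRow (nthL RL (lk GT 2 x))) fun r' =>
    (nthL RL x).all fun a => Nat.testBit r' (lk GTL 2 a)) = true := by
  decide +kernel

theorem compat5 : allLt 693 (fun x => forceNat (mkRow (nthL RL (lk GT 5 x))) fun r' =>
    (nthL RL x).all fun a => Nat.testBit r' (lk GTL 5 a)) = true := by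
  decide +kernel

end Cfsg.Agent.Lib.H27.U62HSData
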