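import Cfsg.Agent.Lib.H27.U62HSData0

/-!
# Checks of the data of `Lib/H27/U62HSData0` (the rows of the incidence relation)

Generated by `scripts/u62/emitL.py`.
-/

set_option autoImplicit false
set_option maxRecDepth 1000000

namespace Cfsg.Agent.Lib.H27.U62HSData

open Cfsg.Agent.Lib.H27.Eng Cfsg.Agent.Lib.H27.PermK Cfsg.Agent.Lib.H27.U62 Cfsg.Agent.Lib.H27.LatW
open Cfsg.Agent.Lib.H28 Cfsg.Agent.Lib.H27.U62LData

theorem rows_ne : allLt 693 (fun x => forceNat (mkRow (nthL RL x)) fun r =>
    allLt x fun x' => !(Nat.beq r (mkRow (nthL RL x')))) = true := by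
  decide +kernel

theorem rows_lt : allLt 693 (fun x => (nthL RL x).all fun a => Nat.blt a 891) = true := by
  decide +kernel

end Cfsg.Agent.Lib.H27.U62HSData
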