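import Cfsg.Agent.Lib.H27.U62HSChkA
import Cfsg.Agent.Lib.H27.U62HSChkB0
import Cfsg.Agent.Lib.H27.U62HSChkB1
import Cfsg.Agent.Lib.H27.U62HSChkB2
import Cfsg.Agent.Lib.H27.U62HSChkC
import Cfsg.Agent.Lib.H27.U62LDataC
import Cfsg.Agent.Lib.H27.U62B
import Cfsg.Agent.Lib.H27.CompatPairs
import Cfsg.Agent.Lib.H27.ConwayOrders
import Cfsg.Agent.Lib.H27.HSInv

/-!
# The stabiliser of two minimal vectors of inner product `-16` is `PSU₆(2)` (standard pair)

`Hs` is the stabiliser in `Co0` of the standard pair `V0, W0`.  Its order is known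
(orbit-stabiliser); it acts on the 891 minimal vectors `y` with `V0 · y = 16`, `W0 · y = 0`; three
words of `Hs` act on these vectors like the letters of `pdL`, and these letters are linked with the
letters of `pd` (acting on the 693 isotropic points of the unitary space) by an incidence relation.
-/

set_option autoImplicit false

namespace Cfsg.Agent.Lib.H27.U62HS

open Cfsg MulAction Cfsg.Agent.Lib.H28 Cfsg.Agent.Lib.H27 Cfsg.Agent.Lib.H27.Eng
open Cfsg.Agent.Lib.H27.PermK Cfsg.Agent.Lib.H27.LatW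
open Cfsg.Agent.Lib.H27.U62 (pd GT card_G)
open Cfsg.Agent.Lib.H27.U62HSData Cfsg.Agent.Lib.H27.U62LData

/-! ## the order of the stabiliser of a pair -/

theorem card_stab_pair (v w : leechLattice) (hv : sqNorm (v : GolayPt → ℤ) = 32)
    (hw : sqNorm (w : GolayPt → ℤ) = 32)
    (hvw : dotInt (v : GolayPt → ℤ) (w : GolayPt → ℤ) = -16) :
    Nat.card ↥(stabilizer Co0 v ⊓ stabilizer Co0 w) = 9196830720 := by
  have h := card_sub_stab (stabilizer Co0 v) w
    {x : leechLattice | sqNorm (x : GolayPt → ℤ) = 32 ∧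
      dotInt (v : GolayPt → ℤ) (x : GolayPt → ℤ) = -16} ⟨hw, hvw⟩
    (fun g hg y hy => by
      refine ⟨by rw [Co0_sqNorm]; exact hy.1, ?_⟩
      have := Co0_dot g v y
      rw [mem_stabilizer_iff.1 hg] at this
      rw [this]; exact hy.2)
    (fun y hy => by
      obtain ⟨g, hg, hgy⟩ := trans_pairs v w y hv hw hy.1 (Or.inl rfl) hvw hy.2
      exact ⟨g, hg, hgy⟩)
  have hc : {x : leechLattice | sqNorm (x : GolayPt → ℤ) = 32 ∧
      dotInt (v : GolayPt → ℤ) (x : GolayPt → ℤ) = -16}.ncard = 4600 := by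
    rw [ncard_dot_sub, nT_neg, nT_16 (mem_MinF.2 ⟨v.2, hv⟩)]
  rw [hc, card_stab32 v hv] at h
  omega

/-! ## the standard pair -/

def V0 : leechLattice := ⟨toFn v0L, mem_of_inLeech v0L_mem⟩
def W0 : leechLattice := ⟨toFn w0L, mem_of_inLeech w0L_mem⟩

theorem sqNorm_V0 : sqNorm (V0 : GolayPt → ℤ) = 32 := by
  show sqNorm (toFn v0L) = 32
  rw [← sqNorm_spec]; exact vw_dots.1

theorem sqNorm_W0 : sqNorm (W0 : GolayPt → ℤ) = 32 := by
  show sqNorm (toFn w0L) = 32
  rw [← sqNorm_spec]; exact vw_dots.2.1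

theorem dot_V0_W0 : dotInt (V0 : GolayPt → ℤ) (W0 : GolayPt → ℤ) = -16 := by
  show dotInt (toFn v0L) (toFn w0L) = -16
  rw [← dotL_spec]; exact vw_dots.2.2

/-- the stabiliser of the standard pair -/
def Hs : Subgroup Co0 := stabilizer Co0 V0 ⊓ stabilizer Co0 W0

theorem mem_Hs {g : Co0} : g ∈ Hs ↔ g • V0 = V0 ∧ g • W0 = W0 := by
  unfold Hs
  simp only [Subgroup.mem_inf, mem_stabilizer_iff]

theorem card_Hs : Nat.card Hs = 9196830720 :=
  card_stab_pair V0 W0 sqNorm_V0 sqNorm_W0 dot_V0_W0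

instance finite_Hs : Finite Hs := Nat.finite_of_card_ne_zero (by rw [card_Hs]; norm_num)

/-! ## the minimal vectors `y` with `V0 · y = 16` -/

/-- the vectors with prescribed inner product with `W0` -/
def sub (t : ℤ) : Set leechLattice := {y | sqNorm (y : GolayPt → ℤ) = 32 ∧
  dotInt (V0 : GolayPt → ℤ) (y : GolayPt → ℤ) = 16 ∧ dotInt (W0 : GolayPt → ℤ) (y : GolayPt → ℤ) = t}

def S16 : Set leechLattice := {y | sqNorm (y : GolayPt → ℤ) = 32 ∧
  dotInt (V0 : GolayPt → ℤ) (y : GolayPt → ℤ) = 16}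

theorem ncard_S16 : S16.ncard = 4600 := by
  unfold S16
  rw [ncard_dot_sub, nT_16 (mem_MinF.2 ⟨V0.2, sqNorm_V0⟩)]

theorem S16_finite : S16.Finite := Set.finite_of_ncard_pos (by rw [ncard_S16]; norm_num)

theorem sub_subset (t : ℤ) : sub t ⊆ S16 := fun _ hy => ⟨hy.1, hy.2.1⟩

theorem sub_finite (t : ℤ) : (sub t).Finite := S16_finite.subset (sub_subset t)

theorem fixes_iff (g : Co0) : Fixes g [v0L, w0L] ↔ g • V0 = V0 ∧ g • W0 = W0 := by
  constructor
  · intro h
    exact ⟨h v0L (by simp) _, h w0L (by simp) _⟩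
  · rintro ⟨h1, h2⟩ t ht htL
    simp only [List.mem_cons, List.not_mem_nil, or_false] at ht
    rcases ht with rfl | rfl
    · exact h1
    · exact h2

theorem smul_mem_sub {g : Co0} (h1 : g • V0 = V0) (h2 : g • W0 = W0) {t : ℤ} {y : leechLattice}
    (hy : y ∈ sub t) : g • y ∈ sub t := by
  refine ⟨by rw [Co0_sqNorm]; exact hy.1, ?_, ?_⟩
  · have := Co0_dot g V0 y
    rw [h1] at this
    rw [this]; exact hy.2.1
  · have := Co0_dot g W0 y
    rw [h2] at this
    rw [this]; exact hy.2.2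

theorem inv_sub (t : ℤ) (g : Co0) (hg : Fixes g [v0L, w0L]) : ∀ y ∈ sub t, g • y ∈ sub t := by
  intro y hy
  rw [fixes_iff] at hg
  exact smul_mem_sub hg.1 hg.2 hy

theorem root_mem {r : V} {t : ℤ} (hr : inLeech (toFn r) = true)
    (hd : dotL r r = 32 ∧ dotL v0L r = 16 ∧ dotL w0L r = t) :
    (⟨toFn r, mem_of_inLeech hr⟩ : leechLattice) ∈ sub t := by
  refine ⟨?_, ?_, ?_⟩
  · show sqNorm (toFn r) = 32
    rw [← sqNorm_spec]; exact hd.1
  · show dotInt (toFn v0L) (toFn r) = 16
    rw [← dotL_spec]; exact hd.2.1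
  · show dotInt (toFn w0L) (toFn r) = t
    rw [← dotL_spec]; exact hd.2.2

theorem orbListA : OrbList [v0L, w0L] aroot (forestList sg achunks) ∧
    (forestList sg achunks).length = 891 := by
  have h := forest_orbList (ts := [v0L, w0L]) U62LData.sg_ok U62LData.fix_ok
    (mem_of_inLeech aroot_mem) aall_ok alink_ok amerge_ok
  exact ⟨h.1, h.2.1⟩

theorem orbListB : OrbList [v0L, w0L] broot (forestList sg bchunks) ∧
    (forestList sg bchunks).length = 891 := by
  have h := forest_orbList (ts := [v0L, w0L]) U62LData.sg_ok U62LData.fix_ok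
    (mem_of_inLeech broot_mem) ball_ok blink_ok bmerge_ok
  exact ⟨h.1, h.2.1⟩

theorem orbListC : OrbList [v0L, w0L] croot (forestList sg cchunks) ∧
    (forestList sg cchunks).length = 2816 := by
  have h := forest_orbList (ts := [v0L, w0L]) U62LData.sg_ok U62LData.fix_ok
    (mem_of_inLeech croot_mem) call_ok clink_ok cmerge_ok
  exact ⟨h.1, h.2.1⟩

theorem ncard_sub_zero : (sub 0).ncard = 891 := by
  have lA : 891 ≤ (sub 0).ncard := by
    have := orbListA.1.lower _ (sub_finite 0)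
      (by rw [mkL_of_mem (mem_of_inLeech aroot_mem)]; exact root_mem aroot_mem aroot_dots)
      (inv_sub 0)
    rwa [orbListA.2] at this
  have lB : 891 ≤ (sub (-16)).ncard := by
    have := orbListB.1.lower _ (sub_finite (-16))
      (by rw [mkL_of_mem (mem_of_inLeech broot_mem)]; exact root_mem broot_mem broot_dots)
      (inv_sub (-16))
    rwa [orbListB.2] at this
  have lC : 2816 ≤ (sub (-8)).ncard := by
    have := orbListC.1.lower _ (sub_finite (-8))
      (by rw [mkL_of_mem (mem_of_inLeech croot_mem)]; exact root_mem croot_mem croot_dots)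
      (inv_sub (-8))
    rwa [orbListC.2] at this
  have lX : 1 ≤ (sub (-32)).ncard :=
    (Set.ncard_pos (sub_finite (-32))).2 ⟨_, root_mem xroot_mem xroot_dots⟩
  have lZ : 1 ≤ (sub 16).ncard :=
    (Set.ncard_pos (sub_finite 16)).2 ⟨_, root_mem zroot_mem zroot_dots⟩
  have hdisj : ∀ s t : ℤ, s ≠ t → Disjoint (sub s) (sub t) := by
    intro s t hst
    rw [Set.disjoint_left]
    intro y h1 h2
    exact hst (h1.2.2.symm.trans h2.2.2)
  have d1 : Disjoint (sub 0) (sub (-16)) := hdisj _ _ (by norm_num)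
  have d2 : Disjoint (sub 0 ∪ sub (-16)) (sub (-8)) := by
    rw [Set.disjoint_union_left]
    exact ⟨hdisj _ _ (by norm_num), hdisj _ _ (by norm_num)⟩
  have d3 : Disjoint (sub 0 ∪ sub (-16) ∪ sub (-8)) (sub (-32)) := by
    rw [Set.disjoint_union_left, Set.disjoint_union_left]
    exact ⟨⟨hdisj _ _ (by norm_num), hdisj _ _ (by norm_num)⟩, hdisj _ _ (by norm_num)⟩
  have d4 : Disjoint (sub 0 ∪ sub (-16) ∪ sub (-8) ∪ sub (-32)) (sub 16) := by
    rw [Set.disjoint_union_left, Set.disjoint_union_left, Set.disjoint_union_left]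
    exact ⟨⟨⟨hdisj _ _ (by norm_num), hdisj _ _ (by norm_num)⟩, hdisj _ _ (by norm_num)⟩,
      hdisj _ _ (by norm_num)⟩
  have c1 := Set.ncard_union_eq d1 (sub_finite _) (sub_finite _)
  have c2 := Set.ncard_union_eq d2 ((sub_finite _).union (sub_finite _)) (sub_finite _)
  have c3 := Set.ncard_union_eq d3
    (((sub_finite _).union (sub_finite _)).union (sub_finite _)) (sub_finite _)
  have c4 := Set.ncard_union_eq d4
    ((((sub_finite _).union (sub_finite _)).union (sub_finite _)).union (sub_finite _))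
    (sub_finite _)
  have hunion : sub 0 ∪ sub (-16) ∪ sub (-8) ∪ sub (-32) ∪ sub 16 ⊆ S16 := by
    intro y hy
    rcases hy with (((hy | hy) | hy) | hy) | hy <;> exact sub_subset _ hy
  have hle := Set.ncard_le_ncard hunion S16_finite
  rw [ncard_S16] at hle
  omega

/-! ## the 891 vectors -/

theorem yL_perm : yL.Perm (forestList sg achunks) := by
  rw [← yL_eq]
  exact msort_perm _ _

theorem yL_nodup : yL.Nodup := yL_perm.nodup_iff.2 orbListA.1.nodup

theorem yL_length : yL.length = 891 := by rw [yL_perm.length_eq, orbListA.2]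

theorem yK_length : yK.length = 891 := by
  have := yL_length
  unfold yL at this
  rwa [List.length_map] at this

theorem nthR_eq (l : List ℕ) : ∀ a : ℕ, nthR l a = l.getD a 0 := by
  induction l with
  | nil => intro a; rfl
  | cons k l ih =>
    intro a
    cases a with
    | zero => rfl
    | succ a => exact ih a

theorem getD_map_of_lt (f : ℕ → V) (l : List ℕ) {a : ℕ} (h : a < l.length) :
    (l.map f).getD a [] = f (l.getD a 0) := by
  rw [List.getD_eq_getElem _ _ (by rwa [List.length_map]), List.getElem_map,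
    List.getD_eq_getElem _ _ h]

theorem yv_eq {a : ℕ} (ha : a < 891) : yv a = yL.getD a [] := by
  have h1 : a < yK.length := by rw [yK_length]; exact ha
  unfold yv yL
  rw [nthR_eq, getD_map_of_lt _ _ h1]

theorem yv_mem {a : ℕ} (ha : a < 891) : yv a ∈ yL := by
  have h2 : a < yL.length := by rw [yL_length]; exact ha
  rw [yv_eq ha, List.getD_eq_getElem _ _ h2]
  exact List.getElem_mem h2

theorem yv_forest {a : ℕ} (ha : a < 891) : yv a ∈ forestList sg achunks :=
  yL_perm.mem_iff.1 (yv_mem ha)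

theorem yv_len {a : ℕ} (ha : a < 891) : (yv a).length = 24 := orbListA.1.len _ (yv_forest ha)

theorem yv_L {a : ℕ} (ha : a < 891) : toFn (yv a) ∈ leechLattice :=
  (orbListA.1.inOrb _ (yv_forest ha)).mem

theorem yv_inj {i j : ℕ} (hi : i < 891) (hj : j < 891) (h : yv i = yv j) : i = j := by
  have hi' : i < yL.length := by rw [yL_length]; exact hi
  have hj' : j < yL.length := by rw [yL_length]; exact hj
  rw [yv_eq hi, yv_eq hj, List.getD_eq_getElem _ _ hi', List.getD_eq_getElem _ _ hj'] at h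
  exact (List.Nodup.getElem_inj_iff yL_nodup).1 h

/-- the `a`-th vector of the lattice -/
def Yv (a : Fin 891) : leechLattice := ⟨toFn (yv a), yv_L a.2⟩

theorem Yv_inj {i j : Fin 891} (h : Yv i = Yv j) : i = j := by
  have h1 : toFn (yv i) = toFn (yv j) := congrArg Subtype.val h
  exact Fin.ext (yv_inj i.2 j.2 (eq_of_toFn_eq (yv_len i.2) (yv_len j.2) h1))

/-- the set of the 891 vectors -/
def Om : Set leechLattice := sub 0

theorem Yv_mem_Om (a : Fin 891) : Yv a ∈ Om := by
  obtain ⟨g, hg, hgy⟩ := (orbListA.1.inOrb _ (yv_forest a.2)).exists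
  have h0 : mkL aroot ∈ sub 0 := by
    rw [mkL_of_mem (mem_of_inLeech aroot_mem)]; exact root_mem aroot_mem aroot_dots
  have := inv_sub 0 g hg _ h0
  rw [hgy, mkL_of_mem (yv_L a.2)] at this
  exact this

theorem Om_eq : Om = Set.range Yv := by
  symm
  apply Set.eq_of_subset_of_ncard_le
  · rintro _ ⟨a, rfl⟩
    exact Yv_mem_Om a
  · show (sub 0).ncard ≤ _
    rw [ncard_sub_zero, Set.ncard_range_of_injective (fun _ _ h => Yv_inj h), Nat.card_fin]
  · exact sub_finite 0

theorem Om_cover {y : leechLattice} (hy : y ∈ Om) : ∃ a : Fin 891, y = Yv a := by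
  rw [Om_eq] at hy
  obtain ⟨a, rfl⟩ := hy
  exact ⟨a, rfl⟩

theorem Om_inv {g : Co0} (hg : g ∈ Hs) {y : leechLattice} (hy : y ∈ Om) : g • y ∈ Om := by
  obtain ⟨h1, h2⟩ := mem_Hs.1 hg
  exact smul_mem_sub h1 h2 hy

/-! ## the action on the 891 vectors -/

theorem sgA_exists (g : Hs) (a : Fin 891) : ∃ b, (g : Co0) • Yv a = Yv b :=
  Om_cover (Om_inv g.2 (Yv_mem_Om a))

/-- the action of the stabiliser on the indices of the 891 vectors -/
noncomputable def sgA (g : Hs) (a : Fin 891) : Fin 891 := (sgA_exists g a).choose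

theorem sgA_spec (g : Hs) (a : Fin 891) : (g : Co0) • Yv a = Yv (sgA g a) :=
  (sgA_exists g a).choose_spec

theorem sgA_eq {g : Hs} {a b : Fin 891} (h : (g : Co0) • Yv a = Yv b) : sgA g a = b :=
  Yv_inj ((sgA_spec g a).symm.trans h)

theorem sgA_one (a : Fin 891) : sgA 1 a = a := by
  apply sgA_eq
  show (1 : Co0) • Yv a = Yv a
  rw [one_smul]

theorem sgA_mul (g h : Hs) (a : Fin 891) : sgA (g * h) a = sgA g (sgA h a) := by
  apply sgA_eq
  rw [Subgroup.coe_mul, mul_smul, sgA_spec h a, sgA_spec g]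

noncomputable instance actInst : MulAction Hs (Fin 891) where
  smul := sgA
  one_smul := sgA_one
  mul_smul := sgA_mul

/-- the permutation representation on the 891 vectors -/
noncomputable def psi : Hs →* Equiv.Perm (Fin 891) := MulAction.toPermHom Hs (Fin 891)

theorem psi_apply (g : Hs) (a : Fin 891) : psi g a = sgA g a := rfl

/-! ## the generators -/

theorem word_mem {w : List Gen} (hw : w ∈ [w0, w1, w2]) : wordCo0 w ∈ Hs :=
  mem_Hs.2 ((fixes_iff _).1 (fixes_of_fixOK U62HSData.sg_ok U62HSData.fix_ok hw))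

theorem pdL_GT : pdL.GT = GTL := rfl

theorem psi_word {w : List Gen} (hw : w ∈ [w0, w1, w2]) {d : ℕ} (hd : d < 6)
    (h : ∀ a < 891, actWord w (yv a) = yv (lk GTL d a)) :
    psi ⟨wordCo0 w, word_mem hw⟩ = pdL.bp d := by
  ext a
  rw [psi_apply]
  congr 1
  apply sgA_eq
  have hok := ok_of_sgOK U62HSData.sg_ok hw
  have hspec := actWord_spec w hok (yv a) (yv_L a.2)
  have hb : ((pdL.bp d a : Fin 891) : ℕ) = lk GTL d a := pdL.bp_apply hd a
  apply Subtype.ext
  show ((wordCo0 w • (⟨toFn (yv a), yv_L a.2⟩ : leechLattice) : leechLattice) : GolayPt → ℤ)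
    = toFn (yv (pdL.bp d a : Fin 891))
  rw [← hspec, h a a.2, hb]

theorem psi_h0 : psi ⟨wordCo0 w0, word_mem (by simp)⟩ = pdL.bp 0 :=
  psi_word (by simp) (by norm_num) act0_ok

theorem psi_h1 : psi ⟨wordCo0 w1, word_mem (by simp)⟩ = pdL.bp 1 :=
  psi_word (by simp) (by norm_num) act1_ok

theorem psi_h2 : psi ⟨wordCo0 w2, word_mem (by simp)⟩ = pdL.bp 2 :=
  psi_word (by simp) (by norm_num) act2_ok

/-! ## the incidence relation -/

/-- the point `x` is incident with the vector `a` -/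
def R (x : Fin 693) (a : Fin 891) : Prop := (a : ℕ) ∈ nthL RL x

theorem testBit_mkRow (l : List ℕ) (j : ℕ) : Nat.testBit (mkRow l) j = decide (j ∈ l) := by
  induction l with
  | nil =>
    show Nat.testBit 0 j = _
    simp
  | cons a l ih =>
    show Nat.testBit (2 ^ a ||| mkRow l) j = _
    rw [Nat.testBit_or, ih, Nat.testBit_two_pow]
    by_cases h : a = j
    · subst h; simp
    · have h' : ¬ j = a := fun e => h e.symm
      simp [h, h']

theorem mkRow_congr {l l' : List ℕ} (h : ∀ j, j ∈ l ↔ j ∈ l') : mkRow l = mkRow l' := by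
  apply Nat.eq_of_testBit_eq
  intro j
  rw [testBit_mkRow, testBit_mkRow]
  exact decide_eq_decide.2 (h j)

theorem compat_spec {d : ℕ} (hd : d < 6)
    (h : allLt 693 (fun x => forceNat (mkRow (nthL RL (lk GT d x))) fun r' =>
      (nthL RL x).all fun a => Nat.testBit r' (lk GTL d a)) = true) (x : Fin 693) (a : Fin 891)
    (hxa : R x a) : R (pd.bp d x) (pdL.bp d a) := by
  have h1 := allLt_spec h x x.2
  rw [forceNat_eq, List.all_eq_true] at h1
  have h2 := h1 _ hxa
  rw [testBit_mkRow, decide_eq_true_eq] at h2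
  have ha : ((pd.bp d x : Fin 693) : ℕ) = lk GT d x := pd.bp_apply (by omega) x
  have hb : ((pdL.bp d a : Fin 891) : ℕ) = lk GTL d a := pdL.bp_apply hd a
  unfold R
  rw [ha, hb]
  exact h2

theorem compat_all (d : Fin 6) (x : Fin 693) (a : Fin 891) (hxa : R x a) :
    R (pd.bp d x) (pdL.bp d a) := by
  obtain ⟨d, hd⟩ := d
  have h6 : d = 0 ∨ d = 1 ∨ d = 2 ∨ d = 3 ∨ d = 4 ∨ d = 5 := by omega
  rcases h6 with rfl | rfl | rfl | rfl | rfl | rfl
  · exact compat_spec hd compat0 x a hxa
  · exact compat_spec hd compat1 x a hxa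
  · exact compat_spec hd compat2 x a hxa
  · exact compat_spec hd compat3 x a hxa
  · exact compat_spec hd compat4 x a hxa
  · exact compat_spec hd compat5 x a hxa

theorem rows_distinct (x x' : Fin 693) (h : ∀ a : Fin 891, R x a ↔ R x' a) : x = x' := by
  have hlt : ∀ x : Fin 693, ∀ j ∈ nthL RL x, j < 891 := by
    intro x j hj
    have h1 := allLt_spec rows_lt x x.2
    rw [List.all_eq_true] at h1
    exact Nat.le_of_ble_eq_true (h1 j hj)
  have hrow : mkRow (nthL RL x) = mkRow (nthL RL x') := by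
    apply mkRow_congr
    intro j
    constructor
    · intro hj
      exact (h ⟨j, hlt x j hj⟩).1 hj
    · intro hj
      exact (h ⟨j, hlt x' j hj⟩).2 hj
  have key : ∀ y y' : Fin 693, (y' : ℕ) < y → mkRow (nthL RL y) ≠ mkRow (nthL RL y') := by
    intro y y' hyy
    have h1 := allLt_spec rows_ne y y.2
    rw [forceNat_eq] at h1
    have h2 := allLt_spec h1 y' hyy
    intro e
    rw [e] at h2
    simp at h2
  rcases Nat.lt_trichotomy (x : ℕ) x' with h1 | h1 | h1
  · exact absurd hrow.symm (key x' x h1)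
  · exact Fin.ext h1
  · exact absurd hrow (key x x' h1)

/-! ## the isomorphism -/

/-- the group generated by the letters on the 891 vectors -/
def B : Subgroup (Equiv.Perm (Fin 891)) := Subgroup.closure (Set.range fun d : Fin 6 => pdL.bp d)

theorem G_eq : pd.G = Subgroup.closure (Set.range fun d : Fin 6 => pd.bp d) := by
  unfold PD.G
  congr 1
  ext σ
  constructor
  · rintro ⟨d, hd, rfl⟩
    exact ⟨⟨d, hd⟩, rfl⟩
  · rintro ⟨d, rfl⟩
    exact ⟨d, d.2, rfl⟩

theorem B_le_range : B ≤ psi.range := by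
  unfold B
  rw [Subgroup.closure_le]
  rintro σ ⟨⟨d, hd⟩, rfl⟩
  have i0 : pdL.bp 3 = (pdL.bp 0)⁻¹ := pdL.bp_linv (d := 0) (by norm_num)
  have i1 : pdL.bp 4 = (pdL.bp 1)⁻¹ := pdL.bp_linv (d := 1) (by norm_num)
  have i2 : pdL.bp 5 = (pdL.bp 2)⁻¹ := pdL.bp_linv (d := 2) (by norm_num)
  have h6 : d = 0 ∨ d = 1 ∨ d = 2 ∨ d = 3 ∨ d = 4 ∨ d = 5 := by omega
  rcases h6 with rfl | rfl | rfl | rfl | rfl | rfl
  · exact ⟨_, psi_h0⟩
  · exact ⟨_, psi_h1⟩
  · exact ⟨_, psi_h2⟩
  · rw [SetLike.mem_coe]; show pdL.bp 3 ∈ _; rw [i0]; exact psi.range.inv_mem ⟨_, psi_h0⟩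
  · rw [SetLike.mem_coe]; show pdL.bp 4 ∈ _; rw [i1]; exact psi.range.inv_mem ⟨_, psi_h1⟩
  · rw [SetLike.mem_coe]; show pdL.bp 5 ∈ _; rw [i2]; exact psi.range.inv_mem ⟨_, psi_h2⟩

theorem card_range_le : Nat.card psi.range ≤ 9196830720 := by
  rw [← card_Hs]
  exact Nat.card_le_card_of_surjective _ psi.rangeRestrict_surjective

theorem card_B_le : Nat.card B ≤ 9196830720 :=
  (Subgroup.card_le_of_le B_le_range).trans card_range_le

theorem nonempty_B_iso : Nonempty (B ≃* pd.G) := by
  have h := CompatPairs.nonempty_mulEquiv R (fun d : Fin 6 => pd.bp d) (fun d : Fin 6 => pdL.bp d)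
    compat_all rows_distinct (by
      rw [← G_eq, card_G]
      exact card_B_le)
  obtain ⟨e⟩ := h
  exact ⟨e.trans (MulEquiv.subgroupCongr G_eq.symm)⟩

theorem card_B : Nat.card B = 9196830720 := by
  obtain ⟨e⟩ := nonempty_B_iso
  rw [Nat.card_congr e.toEquiv, card_G]

theorem range_eq : B = psi.range := by
  apply Subgroup.eq_of_le_of_card_ge B_le_range
  rw [card_B]
  exact card_range_le

theorem psi_injective : Function.Injective psi := by
  have hb : Function.Bijective psi.rangeRestrict := by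
    rw [Nat.bijective_iff_surjective_and_card]
    refine ⟨psi.rangeRestrict_surjective, ?_⟩
    rw [card_Hs, ← range_eq, card_B]
  intro a b hab
  apply hb.1
  exact Subtype.ext hab

/-- the stabiliser of the standard pair is isomorphic to the permutation group `pd.G` -/
theorem nonempty_isoHs : Nonempty (Hs ≃* pd.G) := by
  obtain ⟨e⟩ := nonempty_B_iso
  exact ⟨((MonoidHom.ofInjective psi_injective).trans (MulEquiv.subgroupCongr range_eq.symm)).trans e⟩

end Cfsg.Agent.Lib.H27.U62HS
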