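import Cfsg.Agent.Lib.H27.U62HS
import Cfsg.Agent.Lib.H27.U43Main
import Cfsg.Agent.Lib.H2.Spec5

/-!
# The stabiliser of two minimal vectors of inner product `-16` is `PSU₆(2)` (general form)
-/

set_option autoImplicit false

namespace Cfsg.Agent.Lib.H27.U62HS

open Cfsg MulAction Cfsg.Agent.Lib.H28 Cfsg.Agent.Lib.H27
open Cfsg.Agent.Lib.H27.PermK
open Cfsg.Agent.Lib.H27.U62 (pd isoG card_F4')
open Cfsg.Agent.Lib.H27.U43 (center_map_equiv')
open Cfsg.Agent.Lib.H3.F4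

section conj

variable {G α : Type*} [Group G] [MulAction G α]

/-- Conjugation by `g` carries the common stabilizer of `u, v` to that of their images. -/
def conjStabEquiv₂ (g : G) (u v : α) :
    ↥(stabilizer G u ⊓ stabilizer G v) ≃* ↥(stabilizer G (g • u) ⊓ stabilizer G (g • v)) where
  toFun k := ⟨g * k.1 * g⁻¹, by
    have h := Subgroup.mem_inf.1 k.2
    have h1 : k.1 • u = u := h.1
    have h2 : k.1 • v = v := h.2
    refine Subgroup.mem_inf.2 ⟨?_, ?_⟩
    · rw [mem_stabilizer_iff, mul_smul, mul_smul, inv_smul_smul, h1]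
    · rw [mem_stabilizer_iff, mul_smul, mul_smul, inv_smul_smul, h2]⟩
  invFun k := ⟨g⁻¹ * k.1 * g, by
    have h := Subgroup.mem_inf.1 k.2
    have h1 : k.1 • g • u = g • u := h.1
    have h2 : k.1 • g • v = g • v := h.2
    refine Subgroup.mem_inf.2 ⟨?_, ?_⟩
    · rw [mem_stabilizer_iff, mul_smul, mul_smul, h1, inv_smul_smul]
    · rw [mem_stabilizer_iff, mul_smul, mul_smul, h2, inv_smul_smul]⟩
  left_inv k := by
    apply Subtype.ext
    show g⁻¹ * (g * k.1 * g⁻¹) * g = k.1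
    group
  right_inv k := by
    apply Subtype.ext
    show g * (g⁻¹ * k.1 * g) * g⁻¹ = k.1
    group
  map_mul' a b := by
    apply Subtype.ext
    show g * (a.1 * b.1) * g⁻¹ = (g * a.1 * g⁻¹) * (g * b.1 * g⁻¹)
    group

end conj

/-- the stabiliser of any pair of minimal vectors of inner product `-16` is isomorphic to the
permutation group -/
theorem stab2_iso (v w : leechLattice) (hv : sqNorm (v : GolayPt → ℤ) = 32)
    (hw : sqNorm (w : GolayPt → ℤ) = 32)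
    (hd : dotInt (v : GolayPt → ℤ) (w : GolayPt → ℤ) = -16) :
    Nonempty (↥(stabilizer Co0 v ⊓ stabilizer Co0 w) ≃* pd.G) := by
  obtain ⟨h, h1, h2⟩ := trans_pairs' v w V0 W0 hv hw sqNorm_V0 sqNorm_W0 (Or.inl rfl) hd dot_V0_W0
  have e := conjStabEquiv₂ h v w
  rw [h1, h2] at e
  obtain ⟨φ⟩ := nonempty_isoHs
  exact ⟨e.trans φ⟩

open Cfsg.Agent.Lib.H2.Spec in
theorem psu62_iso {F : Type*} [Field F] [Fintype F] (hF : Fintype.card F = 4) :
    Nonempty (Cfsg.PSU 6 F 2 ≃* pd.G) := by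
  have e : F ≃+* F4 := FiniteField.ringEquivOfCardEq (hF.trans (by rw [card_F4']; norm_num))
  have E : Cfsg.SU 6 F 2 ≃* Cfsg.SU 6 F4 2 := suEquiv e 6 2
  have E' : Cfsg.PSU 6 F 2 ≃* Cfsg.PSU 6 F4 2 :=
    QuotientGroup.congr _ _ E (center_map_equiv' E)
  exact ⟨E'.trans isoG⟩

theorem stab2_psu62 (v w : leechLattice) (hv : sqNorm (v : GolayPt → ℤ) = 32)
    (hw : sqNorm (w : GolayPt → ℤ) = 32)
    (hd : dotInt (v : GolayPt → ℤ) (w : GolayPt → ℤ) = -16)
    {F : Type*} [Field F] [Fintype F] (hF : Fintype.card F = 4) :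
    Nonempty (↥(stabilizer Co0 v ⊓ stabilizer Co0 w) ≃* Cfsg.PSU 6 F 2) := by
  obtain ⟨ψ⟩ := stab2_iso v w hv hw hd
  obtain ⟨φ⟩ := psu62_iso hF
  exact ⟨ψ.trans φ.symm⟩

end Cfsg.Agent.Lib.H27.U62HS
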