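import Cfsg.Agent.Lib.H27.U62HSData0

/-!
# Checks of the data of `Lib/H27/U62HSData0` (the vectors and the words)

Generated by `scripts/u62/emitL.py`.
-/

set_option autoImplicit false
set_option maxRecDepth 1000000

namespace Cfsg.Agent.Lib.H27.U62HSData

open Cfsg.Agent.Lib.H27.Eng Cfsg.Agent.Lib.H27.PermK Cfsg.Agent.Lib.H27.U62 Cfsg.Agent.Lib.H27.LatW
open Cfsg.Agent.Lib.H28 Cfsg.Agent.Lib.H27.U62LData

theorem sg_ok : sgOK [w0, w1, w2] = true := by decide +kernel

theorem fix_ok : fixOK [w0, w1, w2] [v0L, w0L] = true := by decide +kernel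

theorem yL_eq : msort (fun a b => !lexLt b a) (forestList sg achunks) = yL := by decide +kernel

end Cfsg.Agent.Lib.H27.U62HSData
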