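import Cfsg.Agent.Lib.H27.U62KData
import Cfsg.Agent.Lib.H2.Spec5

/-!
# `SU₆(2)` over the field `F4` acting on the 693 isotropic points
-/

set_option autoImplicit false

namespace Cfsg.Agent.Lib.H27.U62

open Matrix hiding SpecialLinearGroup
open Matrix (SpecialLinearGroup)
open Cfsg.Agent.Lib.H2.Spec
open Cfsg.Agent.Lib.H3.F4 Cfsg.Agent.Lib.H3.F4.F4

/-- the Frobenius of `F4` -/
def frob4 : F4 →+* F4 where
  toFun x := x ^ 2
  map_one' := by decide
  map_mul' := by intro a b; cases a <;> cases b <;> decide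
  map_zero' := by decide
  map_add' := by intro a b; cases a <;> cases b <;> decide

theorem frob4_apply (x : F4) : frob4 x = x ^ 2 := rfl

theorem card_F4' : Fintype.card F4 = 2 ^ 2 := by rw [F4.card_eq]; norm_num

theorem mem_SU6_of_dec (g : SpecialLinearGroup (Fin 6) F4)
    (h : (g : Matrix (Fin 6) (Fin 6) F4)ᵀ * (g : Matrix (Fin 6) (Fin 6) F4).map frob4 = 1) :
    g ∈ Cfsg.SU 6 F4 2 :=
  (mem_SU_iff_mul frob4 frob4_apply g).2 h

/-- The underlying matrix. -/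
def mat (g : Cfsg.SU 6 F4 2) : Matrix (Fin 6) (Fin 6) F4 :=
  ((g : SpecialLinearGroup (Fin 6) F4) : Matrix (Fin 6) (Fin 6) F4)

theorem mat_mul (a b : Cfsg.SU 6 F4 2) : mat (a * b) = mat a * mat b := by
  simp [mat]

theorem mat_one : mat 1 = 1 := by simp [mat]

/-- decoding of an element of `F4` -/
def dec4 : Nat → F4
  | 0 => z
  | 1 => o
  | 2 => w
  | _ => w2

/-- the `n`-th point -/
def PvN (n : Nat) : Fin 6 → F4 := fun k =>
  dec4 (Nat.land (Nat.shiftRight PT (Nat.add (Nat.mul 12 n) (Nat.mul 2 k))) 3)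

/-- the Hermitian norm of a vector -/
def hn (v : Fin 6 → F4) : F4 :=
  v 0 * v 0 ^ 2 + v 1 * v 1 ^ 2 + v 2 * v 2 ^ 2 + v 3 * v 3 ^ 2 + v 4 * v 4 ^ 2 + v 5 * v 5 ^ 2

theorem hermForm_eq_hn (v : Fin 6 → F4) : Cfsg.hermForm 6 F4 2 v v = hn v := by
  unfold Cfsg.hermForm hn
  rw [Fin.sum_univ_six]

/-- the code of an element of `F4` -/
def cd4 : F4 → Nat
  | z => 0
  | o => 1
  | w => 2
  | w2 => 3

/-- the index of a vector, from the table -/
def idxV (a b c d e f : F4) : Nat :=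
  Nat.land (Nat.shiftRight IT (10 * (((((cd4 a * 4 + cd4 b) * 4 + cd4 c) * 4 + cd4 d) * 4 + cd4 e) * 4
    + cd4 f))) 1023

theorem PvN_iso : ∀ i : Fin 693, hn (PvN i) = 0 := by decide +kernel

/-- the first nonzero coordinate is at `k` and equals `1` -/
def ShapeAt (v : Fin 6 → F4) (k : Fin 6) : Prop := (∀ i : Fin 6, i < k → v i = 0) ∧ v k = 1

instance (v : Fin 6 → F4) (k : Fin 6) : Decidable (ShapeAt v k) := by unfold ShapeAt; infer_instance

theorem PvN_shape : ∀ i : Fin 693, ∃ k : Fin 6, ShapeAt (PvN i) k := by decide +kernel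

theorem idx_PvN : ∀ i : Fin 693,
    idxV (PvN i 0) (PvN i 1) (PvN i 2) (PvN i 3) (PvN i 4) (PvN i 5) = i := by
  decide +kernel

theorem complete : ∀ a b c d e f : F4,
    (∃ k : Fin 6, ShapeAt ![a, b, c, d, e, f] k) →
    hn ![a, b, c, d, e, f] = 0 →
    idxV a b c d e f < 693 ∧
      PvN (idxV a b c d e f) 0 = a ∧ PvN (idxV a b c d e f) 1 = b ∧
      PvN (idxV a b c d e f) 2 = c ∧ PvN (idxV a b c d e f) 3 = d ∧
      PvN (idxV a b c d e f) 4 = e ∧ PvN (idxV a b c d e f) 5 = f := by decide +kernel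

/-- the `i`-th point -/
def Pv (i : Fin 693) : Fin 6 → F4 := PvN i

/-- the vector `v` spans the `j`-th point -/
def Rel (v : Fin 6 → F4) (j : Fin 693) : Prop := ∃ c : F4, c ≠ 0 ∧ v = c • Pv j

theorem cube_eq (c : F4) (hc : c ≠ 0) : c * c ^ 2 = 1 := by
  cases c
  · exact absurd rfl hc
  · decide
  · decide
  · decide

theorem hn_smul (c : F4) (v : Fin 6 → F4) : hn (c • v) = c * c ^ 2 * hn v := by
  unfold hn
  simp only [Pi.smul_apply, smul_eq_mul]
  ring

theorem vec6_ext {v u : Fin 6 → F4} (h0 : v 0 = u 0) (h1 : v 1 = u 1) (h2 : v 2 = u 2)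
    (h3 : v 3 = u 3) (h4 : v 4 = u 4) (h5 : v 5 = u 5) : v = u := by
  funext i
  fin_cases i
  · exact h0
  · exact h1
  · exact h2
  · exact h3
  · exact h4
  · exact h5

/-- a normalised isotropic vector is in the list -/
theorem exists_of_shape (u : Fin 6 → F4) (hs : ∃ k : Fin 6, ShapeAt u k) (hu : hn u = 0) :
    ∃ j : Fin 693, Pv j = u := by
  have e : u = ![u 0, u 1, u 2, u 3, u 4, u 5] := vec6_ext rfl rfl rfl rfl rfl rfl
  rw [e] at hu hs
  obtain ⟨hlt, p0, p1, p2, p3, p4, p5⟩ := complete _ _ _ _ _ _ hs hu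
  refine ⟨⟨_, hlt⟩, ?_⟩
  exact vec6_ext p0 p1 p2 p3 p4 p5

theorem exists_first (v : Fin 6 → F4) (hv : v ≠ 0) :
    ∃ k : Fin 6, v k ≠ 0 ∧ ∀ i : Fin 6, i < k → v i = 0 := by
  classical
  have hex : ∃ m : ℕ, ∃ h : m < 6, v ⟨m, h⟩ ≠ 0 := by
    by_contra hcon
    apply hv
    funext i
    by_contra hi
    exact hcon ⟨i.1, i.2, hi⟩
  obtain ⟨hm, hne⟩ := Nat.find_spec hex
  refine ⟨⟨Nat.find hex, hm⟩, hne, ?_⟩
  intro i hi
  by_contra h
  exact Nat.find_min hex hi ⟨i.2, h⟩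

theorem rel_exists (v : Fin 6 → F4) (hv : v ≠ 0) (hiso : hn v = 0) : ∃ j, Rel v j := by
  obtain ⟨k, hk, hlt⟩ := exists_first v hv
  have hiso' : hn ((v k)⁻¹ • v) = 0 := by rw [hn_smul, hiso, mul_zero]
  have hshape : ∃ k' : Fin 6, ShapeAt ((v k)⁻¹ • v) k' := by
    refine ⟨k, ?_, ?_⟩
    · intro i hi
      show (v k)⁻¹ * v i = 0
      rw [hlt i hi, mul_zero]
    · show (v k)⁻¹ * v k = 1
      exact inv_mul_cancel₀ hk
  obtain ⟨j, hj⟩ := exists_of_shape _ hshape hiso'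
  refine ⟨j, v k, hk, ?_⟩
  rw [hj, smul_smul, mul_inv_cancel₀ hk, one_smul]

theorem Pv_inj {i j : Fin 693} (h : Pv i = Pv j) : i = j := by
  have hi := idx_PvN i
  have hj := idx_PvN j
  have h' : PvN i = PvN j := h
  rw [h'] at hi
  exact Fin.ext (hi.symm.trans hj)

theorem rel_unique {v : Fin 6 → F4} {j j' : Fin 693} (h : Rel v j) (h' : Rel v j') : j = j' := by
  obtain ⟨c, hc, rfl⟩ := h
  obtain ⟨c', hc', he⟩ := h'
  have hd : Pv j' = (c'⁻¹ * c) • Pv j := by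
    rw [← smul_smul, he, smul_smul, inv_mul_cancel₀ hc', one_smul]
  have hdne : c'⁻¹ * c ≠ 0 := mul_ne_zero (inv_ne_zero hc') hc
  set d := c'⁻¹ * c with hd'
  have hval : ∀ i : Fin 6, Pv j' i = d * Pv j i := fun i => by rw [hd]; rfl
  obtain ⟨k, hk0, hk1⟩ := PvN_shape j
  obtain ⟨k', hk0', hk1'⟩ := PvN_shape j'
  have hd1 : d = 1 := by
    rcases lt_trichotomy k k' with hlt | heq | hgt
    · have h1 : Pv j' k = 0 := hk0' k hlt
      have h2 : Pv j k = 1 := hk1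
      rw [hval k, h2, mul_one] at h1
      exact absurd h1 hdne
    · have h1 : Pv j' k' = 1 := hk1'
      have h2 : Pv j k' = 1 := by rw [← heq]; exact hk1
      rw [hval k', h2, mul_one] at h1
      exact h1
    · have h1 : Pv j' k' = 1 := hk1'
      have h2 : Pv j k' = 0 := hk0 k' hgt
      rw [hval k', h2, mul_zero] at h1
      exact absurd h1.symm one_ne_zero
  rw [hd1, one_smul] at hd
  exact (Pv_inj hd).symm

theorem rel_self (j : Fin 693) : Rel (Pv j) j := ⟨1, one_ne_zero, (one_smul _ _).symm⟩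

theorem rel_smul {v : Fin 6 → F4} {j : Fin 693} (h : Rel v j) {c : F4} (hc : c ≠ 0) :
    Rel (c • v) j := by
  obtain ⟨c', hc', rfl⟩ := h
  exact ⟨c * c', mul_ne_zero hc hc', by rw [smul_smul]⟩

theorem Pv_ne_zero (j : Fin 693) : Pv j ≠ 0 := by
  intro h
  obtain ⟨k, -, hk1⟩ := PvN_shape j
  have : Pv j k = 1 := hk1
  rw [h] at this
  exact zero_ne_one this

theorem Pv_iso (j : Fin 693) : hn (Pv j) = 0 := PvN_iso j

theorem mat_hn (g : Cfsg.SU 6 F4 2) (v : Fin 6 → F4) : hn (mat g *ᵥ v) = hn v := by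
  rw [← hermForm_eq_hn, ← hermForm_eq_hn]
  exact (Cfsg.Agent.Lib.H2.Spec.mem_SU_iff' g.1).1 g.2 v v

theorem mat_ne_zero (g : Cfsg.SU 6 F4 2) {v : Fin 6 → F4} (hv : v ≠ 0) : mat g *ᵥ v ≠ 0 := by
  intro h
  apply hv
  have : mat g⁻¹ *ᵥ (mat g *ᵥ v) = v := by
    rw [Matrix.mulVec_mulVec, ← mat_mul, inv_mul_cancel, mat_one, Matrix.one_mulVec]
  rw [← this, h, Matrix.mulVec_zero]

theorem act_exists (g : Cfsg.SU 6 F4 2) (i : Fin 693) : ∃ j, Rel (mat g *ᵥ Pv i) j :=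
  rel_exists _ (mat_ne_zero g (Pv_ne_zero i)) (by rw [mat_hn]; exact Pv_iso i)

/-- the action on the points -/
noncomputable def actF (g : Cfsg.SU 6 F4 2) (i : Fin 693) : Fin 693 :=
  (act_exists g i).choose

theorem actF_spec (g : Cfsg.SU 6 F4 2) (i : Fin 693) : Rel (mat g *ᵥ Pv i) (actF g i) :=
  (act_exists g i).choose_spec

theorem actF_eq {g : Cfsg.SU 6 F4 2} {i j : Fin 693} (h : Rel (mat g *ᵥ Pv i) j) :
    actF g i = j := rel_unique (actF_spec g i) h

theorem actF_one (i : Fin 693) : actF 1 i = i := by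
  apply actF_eq
  rw [mat_one, Matrix.one_mulVec]
  exact rel_self i

theorem actF_mul (g h : Cfsg.SU 6 F4 2) (i : Fin 693) : actF (g * h) i = actF g (actF h i) := by
  apply actF_eq
  obtain ⟨c, hc, he⟩ := actF_spec h i
  rw [mat_mul, ← Matrix.mulVec_mulVec, he, Matrix.mulVec_smul]
  exact rel_smul (actF_spec g _) hc

noncomputable instance actInst : MulAction (Cfsg.SU 6 F4 2) (Fin 693) where
  smul := actF
  one_smul := actF_one
  mul_smul := actF_mul

/-- the permutation representation -/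
noncomputable def rho : Cfsg.SU 6 F4 2 →* Equiv.Perm (Fin 693) :=
  MulAction.toPermHom (Cfsg.SU 6 F4 2) (Fin 693)

theorem rho_apply (g : Cfsg.SU 6 F4 2) (i : Fin 693) : rho g i = actF g i := rfl

/-- scalar matrices act trivially -/
theorem rho_of_scalar {g : Cfsg.SU 6 F4 2} {l : F4} (hl : l ≠ 0)
    (h : mat g = l • (1 : Matrix (Fin 6) (Fin 6) F4)) : rho g = 1 := by
  ext i
  rw [rho_apply, Equiv.Perm.one_apply]
  congr 1
  apply actF_eq
  rw [h, Matrix.smul_mulVec, Matrix.one_mulVec]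
  exact rel_smul (rel_self i) hl

end Cfsg.Agent.Lib.H27.U62
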