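import Mathlib

/-!
# S2244 piece BAD31 (helper27): three one-parameter subgroups and Lagrange weights
-/

set_option autoImplicit false

namespace Cfsg.Agent.Lib.H27.Wc

/-- a finite type with more elements than a finset has an element outside it -/
theorem exists_notMem_of_card_lt {F : Type*} [Fintype F] (s : Finset F) (h : s.card < Fintype.card F) :
    ∃ x, x ∉ s := by
  by_contra hcon
  push_neg at hcon
  have : s = Finset.univ := Finset.eq_univ_iff_forall.mpr hcon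
  rw [this, Finset.card_univ] at h
  exact lt_irrefl _ h

/-- three distinct non-zero elements of a field with at least `4` elements -/
theorem exists_three {F : Type*} [Field F] [Fintype F] [DecidableEq F] (hq : 4 ≤ Fintype.card F) :
    ∃ τ₁ τ₂ τ₃ : F, τ₁ ≠ 0 ∧ τ₂ ≠ 0 ∧ τ₃ ≠ 0 ∧ τ₁ ≠ τ₂ ∧ τ₁ ≠ τ₃ ∧ τ₂ ≠ τ₃ := by
  obtain ⟨τ₂, h2⟩ := exists_notMem_of_card_lt ({0, 1} : Finset F)
    (lt_of_le_of_lt (Finset.card_le_two) (by omega))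
  obtain ⟨τ₃, h3⟩ := exists_notMem_of_card_lt ({0, 1, τ₂} : Finset F)
    (lt_of_le_of_lt (Finset.card_le_three) (by omega))
  simp only [Finset.mem_insert, Finset.mem_singleton, not_or] at h2 h3
  exact ⟨1, τ₂, τ₃, one_ne_zero, h2.1, h3.1, fun h => h2.2 h.symm, fun h => h3.2.1 h.symm,
    fun h => h3.2.2 h.symm⟩

/-- the Lagrange weights: `∑ τ u = 0`, `∑ τ² u = 0`, `∑ τ³ u = z` -/
theorem lagrange_three {F : Type*} [Field F] (τ₁ τ₂ τ₃ z : F) (h1 : τ₁ ≠ 0) (h2 : τ₂ ≠ 0)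
    (h3 : τ₃ ≠ 0) (h12 : τ₁ ≠ τ₂) (h13 : τ₁ ≠ τ₃) (h23 : τ₂ ≠ τ₃) :
    ∃ u₁ u₂ u₃ : F, τ₁ * u₁ + τ₂ * u₂ + τ₃ * u₃ = 0 ∧
      τ₁ ^ 2 * u₁ + τ₂ ^ 2 * u₂ + τ₃ ^ 2 * u₃ = 0 ∧
      τ₁ ^ 3 * u₁ + τ₂ ^ 3 * u₂ + τ₃ ^ 3 * u₃ = z := by
  have d12 : τ₁ - τ₂ ≠ 0 := sub_ne_zero.mpr h12
  have d13 : τ₁ - τ₃ ≠ 0 := sub_ne_zero.mpr h13
  have d23 : τ₂ - τ₃ ≠ 0 := sub_ne_zero.mpr h23
  have d21 : τ₂ - τ₁ ≠ 0 := sub_ne_zero.mpr h12.symm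
  have d31 : τ₃ - τ₁ ≠ 0 := sub_ne_zero.mpr h13.symm
  have d32 : τ₃ - τ₂ ≠ 0 := sub_ne_zero.mpr h23.symm
  refine ⟨z / (τ₁ * ((τ₁ - τ₂) * (τ₁ - τ₃))), z / (τ₂ * ((τ₂ - τ₁) * (τ₂ - τ₃))),
    z / (τ₃ * ((τ₃ - τ₁) * (τ₃ - τ₂))), ?_, ?_, ?_⟩
  · field_simp
    ring
  · field_simp
    ring
  · field_simp
    ring

/-- **BAD31**. -/
theorem bad31 {F : Type*} [Field F] [Fintype F] (hq : 4 ≤ Fintype.card F) {G : Type*} [Group G]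
    (U Y N' : Subgroup G) (hN'Y : N' ≤ Y)
    (hN' : ∀ g ∈ U, ∀ x ∈ N', g * x * g⁻¹ ∈ N')
    (x1 x2 xb : F → G) (hx1U : ∀ t, x1 t ∈ U) (hx2U : ∀ t, x2 t ∈ U) (hxbU : ∀ t, xb t ∈ U)
    (hx1 : ∀ s t, x1 (s + t) = x1 s * x1 t) (hx2 : ∀ s t, x2 (s + t) = x2 s * x2 t)
    (hxb : ∀ s t, xb (s + t) = xb s * xb t)
    (hcen : ∀ g ∈ U, ∀ w, g * xb w * g⁻¹ * (xb w)⁻¹ ∈ N')
    (hcomm : ∀ v w, x1 v * x2 w * (x1 v)⁻¹ * (x2 w)⁻¹ ∈ N')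
    (a1 a2 b : F) (hb : b ≠ 0)
    (H : ∀ t u : F, ∃ m ∈ N', x1 (a1 * (t * u)) * x2 (a2 * (t ^ 2 * u)) * xb (b * (t ^ 3 * u)) * m ∈ Y)
    (z : F) : xb z ∈ Y := by
  classical
  -- the quotient `U / (N' ∩ U)`
  haveI hnorm : (N'.subgroupOf U).Normal := by
    refine ⟨fun n hn g => ?_⟩
    rw [Subgroup.mem_subgroupOf] at hn ⊢
    exact hN' g g.2 n hn
  set π : ↥U →* ↥U ⧸ N'.subgroupOf U := QuotientGroup.mk' (N'.subgroupOf U) with hπ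
  set A : F → ↥U ⧸ N'.subgroupOf U := fun t => π ⟨x1 t, hx1U t⟩ with hAdef
  set B : F → ↥U ⧸ N'.subgroupOf U := fun t => π ⟨x2 t, hx2U t⟩ with hBdef
  set C : F → ↥U ⧸ N'.subgroupOf U := fun t => π ⟨xb t, hxbU t⟩ with hCdef
  have hA : ∀ s t, A (s + t) = A s * A t := by
    intro s t
    rw [hAdef]
    simp only
    rw [← map_mul]
    congr 1
    exact Subtype.ext (hx1 s t)
  have hB : ∀ s t, B (s + t) = B s * B t := by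
    intro s t
    rw [hBdef]
    simp only
    rw [← map_mul]
    congr 1
    exact Subtype.ext (hx2 s t)
  have hC : ∀ s t, C (s + t) = C s * C t := by
    intro s t
    rw [hCdef]
    simp only
    rw [← map_mul]
    congr 1
    exact Subtype.ext (hxb s t)
  have hA0 : A 0 = 1 := by
    have := hA 0 0
    rw [add_zero] at this
    exact (mul_eq_left (a := A 0)).mp this.symm
  have hB0 : B 0 = 1 := by
    have := hB 0 0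
    rw [add_zero] at this
    exact (mul_eq_left (a := B 0)).mp this.symm
  have hAB : ∀ v w, Commute (A v) (B w) := by
    intro v w
    change π ⟨x1 v, hx1U v⟩ * π ⟨x2 w, hx2U w⟩ = π ⟨x2 w, hx2U w⟩ * π ⟨x1 v, hx1U v⟩
    rw [← map_mul, ← map_mul, hπ, QuotientGroup.mk'_apply, QuotientGroup.mk'_apply,
      QuotientGroup.eq_iff_div_mem, Subgroup.mem_subgroupOf]
    have : ((⟨x1 v, hx1U v⟩ * ⟨x2 w, hx2U w⟩ / (⟨x2 w, hx2U w⟩ * ⟨x1 v, hx1U v⟩) : ↥U) : G)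
        = x1 v * x2 w * (x1 v)⁻¹ * (x2 w)⁻¹ := by
      simp only [div_eq_mul_inv, Subgroup.coe_mul, Subgroup.coe_inv, mul_inv_rev]
      group
    rw [this]
    exact hcomm v w
  have hCcen : ∀ (g : ↥U ⧸ N'.subgroupOf U) w, Commute g (C w) := by
    intro g w
    obtain ⟨g, rfl⟩ := QuotientGroup.mk'_surjective (N'.subgroupOf U) g
    change π g * π ⟨xb w, hxbU w⟩ = π ⟨xb w, hxbU w⟩ * π g
    rw [← map_mul, ← map_mul, hπ, QuotientGroup.mk'_apply, QuotientGroup.mk'_apply,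
      QuotientGroup.eq_iff_div_mem, Subgroup.mem_subgroupOf]
    have : ((g * ⟨xb w, hxbU w⟩ / (⟨xb w, hxbU w⟩ * g) : ↥U) : G)
        = (g : G) * xb w * (g : G)⁻¹ * (xb w)⁻¹ := by
      simp only [div_eq_mul_inv, Subgroup.coe_mul, Subgroup.coe_inv, mul_inv_rev]
      group
    rw [this]
    exact hcen g g.2 w
  -- `φ (α, β, γ) = A α * B β * C γ` is additive
  have hφ : ∀ α β γ α' β' γ' : F,
      A (α + α') * B (β + β') * C (γ + γ') = (A α * B β * C γ) * (A α' * B β' * C γ') := by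
    intro α β γ α' β' γ'
    rw [hA, hB, hC]
    have h1 : Commute (B β) (A α') := (hAB α' β).symm
    have h2 : Commute (C γ) (A α') := (hCcen (A α') γ).symm
    have h3 : Commute (C γ) (B β') := (hCcen (B β') γ).symm
    simp only [mul_assoc]
    rw [h2.left_comm, h1.left_comm, h3.left_comm]
  -- the image of `Y`
  set Yq : Subgroup (↥U ⧸ N'.subgroupOf U) := (Y.subgroupOf U).map π with hYq
  have hE : ∀ t u : F, A (a1 * (t * u)) * B (a2 * (t ^ 2 * u)) * C (b * (t ^ 3 * u)) ∈ Yq := by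
    intro t u
    obtain ⟨m, hm, hmY⟩ := H t u
    have hY : x1 (a1 * (t * u)) * x2 (a2 * (t ^ 2 * u)) * xb (b * (t ^ 3 * u)) ∈ Y := by
      have := Y.mul_mem hmY (Y.inv_mem (hN'Y hm))
      rwa [mul_inv_cancel_right] at this
    rw [hYq, Subgroup.mem_map]
    refine ⟨⟨x1 (a1 * (t * u)), hx1U _⟩ * ⟨x2 (a2 * (t ^ 2 * u)), hx2U _⟩ *
      ⟨xb (b * (t ^ 3 * u)), hxbU _⟩, ?_, ?_⟩
    · rw [Subgroup.mem_subgroupOf]
      exact hY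
    · rw [map_mul, map_mul]
  obtain ⟨τ₁, τ₂, τ₃, h1, h2, h3, h12, h13, h23⟩ := exists_three (F := F) hq
  obtain ⟨u₁, u₂, u₃, e1, e2, e3⟩ := lagrange_three τ₁ τ₂ τ₃ (z / b) h1 h2 h3 h12 h13 h23
  have hprod := Yq.mul_mem (Yq.mul_mem (hE τ₁ u₁) (hE τ₂ u₂)) (hE τ₃ u₃)
  rw [← hφ, ← hφ] at hprod
  have s1 : a1 * (τ₁ * u₁) + a1 * (τ₂ * u₂) + a1 * (τ₃ * u₃) = 0 := by
    have : a1 * (τ₁ * u₁) + a1 * (τ₂ * u₂) + a1 * (τ₃ * u₃) = a1 * (τ₁ * u₁ + τ₂ * u₂ + τ₃ * u₃) := by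
      ring
    rw [this, e1, mul_zero]
  have s2 : a2 * (τ₁ ^ 2 * u₁) + a2 * (τ₂ ^ 2 * u₂) + a2 * (τ₃ ^ 2 * u₃) = 0 := by
    have : a2 * (τ₁ ^ 2 * u₁) + a2 * (τ₂ ^ 2 * u₂) + a2 * (τ₃ ^ 2 * u₃)
        = a2 * (τ₁ ^ 2 * u₁ + τ₂ ^ 2 * u₂ + τ₃ ^ 2 * u₃) := by ring
    rw [this, e2, mul_zero]
  have s3 : b * (τ₁ ^ 3 * u₁) + b * (τ₂ ^ 3 * u₂) + b * (τ₃ ^ 3 * u₃) = z := by
    have : b * (τ₁ ^ 3 * u₁) + b * (τ₂ ^ 3 * u₂) + b * (τ₃ ^ 3 * u₃)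
        = b * (τ₁ ^ 3 * u₁ + τ₂ ^ 3 * u₂ + τ₃ ^ 3 * u₃) := by ring
    rw [this, e3]
    field_simp
  rw [s1, s2, s3, hA0, hB0, one_mul, one_mul, hYq, Subgroup.mem_map] at hprod
  obtain ⟨y, hy, hyz⟩ := hprod
  rw [Subgroup.mem_subgroupOf] at hy
  have hyz' : π y = π ⟨xb z, hxbU z⟩ := hyz
  rw [hπ, QuotientGroup.mk'_apply, QuotientGroup.mk'_apply, QuotientGroup.eq,
    Subgroup.mem_subgroupOf] at hyz'
  have h4 : (y : G)⁻¹ * xb z ∈ N' := by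
    simpa using hyz'
  have := Y.mul_mem hy (hN'Y h4)
  rwa [mul_inv_cancel_left] at this

end Cfsg.Agent.Lib.H27.Wc
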